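import Mathlib.RingTheory.Flat.FaithfullyFlat.Basic
import Mathlib.RingTheory.Flat.FaithfullyFlat.Algebra
import Mathlib.RingTheory.RingHom.Flat

set_option autoImplicit false
open TensorProduct

namespace Groth.Agent.Helper7

universe u
/-- If `C` is faithfully flat over `B` and flat over `A`, then `B` is flat over `A`. -/
theorem flat_of_flat_of_faithfullyFlat (A B C : Type u) [CommRing A] [CommRing B] [CommRing C]
    [Algebra A B] [Algebra B C] [Algebra A C] [IsScalarTower A B C]
    [Module.FaithfullyFlat B C] [Module.Flat A C] : Module.Flat A B := by
  rw [Module.Flat.iff_lTensor_preserves_injective_linearMap]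
  intro N N' _ _ _ _ f hf
  have h1 : Function.Injective (f.lTensor C) := Module.Flat.lTensor_preserves_injective_linearMap f hf
  have key : (f.lTensor C) ∘ₗ (AlgebraTensorModule.cancelBaseChange A B B C N).toLinearMap.restrictScalars A =
      ((AlgebraTensorModule.cancelBaseChange A B B C N').toLinearMap ∘ₗ
        LinearMap.lTensor C (f.baseChange B)).restrictScalars A := by
    apply LinearMap.ext
    intro c
    simp only [LinearMap.coe_comp, LinearMap.coe_restrictScalars, LinearEquiv.coe_coe,
      Function.comp_apply]
    induction c using TensorProduct.induction_on with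
    | zero => simp
    | add x y hx hy => simp only [map_add, hx, hy]
    | tmul c z =>
      induction z using TensorProduct.induction_on with
      | zero => simp
      | add x y hx hy => simp only [tmul_add, map_add, hx, hy]
      | tmul b n => simp
  have h2 : Function.Injective (LinearMap.lTensor C (f.baseChange B)) := by
    have h3 : Function.Injective ((f.lTensor C) ∘ₗ
        (AlgebraTensorModule.cancelBaseChange A B B C N).toLinearMap.restrictScalars A) :=
      h1.comp (AlgebraTensorModule.cancelBaseChange A B B C N).injective
    rw [key] at h3
    intro x y hxy
    apply h3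
    simp only [LinearMap.coe_restrictScalars, LinearMap.coe_comp, Function.comp_apply, hxy]
  rw [Module.FaithfullyFlat.lTensor_injective_iff_injective] at h2
  exact h2

end Groth.Agent.Helper7

namespace Groth.Agent.Helper7

universe v
/-- Ring hom version: for local rings, if `g` is flat and local and `g.comp f` is flat then `f` is
flat. -/
theorem ringHom_flat_of_comp_of_flat_isLocalHom {A B C : Type v} [CommRing A] [CommRing B]
    [CommRing C] [IsLocalRing B] [IsLocalRing C] (f : A →+* B) (g : B →+* C) [IsLocalHom g]
    (hg : g.Flat) (h : (g.comp f).Flat) : f.Flat := by
  algebraize [f, g, g.comp f]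
  have : IsLocalHom (algebraMap B C) := by
    rw [RingHom.algebraMap_toAlgebra]; infer_instance
  have : Module.FaithfullyFlat B C := Module.FaithfullyFlat.of_flat_of_isLocalHom
  exact flat_of_flat_of_faithfullyFlat A B C

end Groth.Agent.Helper7
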