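import Mathlib
import Groth.Agent.Lib.Helper14.Catenary
import Groth.Agent.Lib.Helper14.CatenaryRing
import Groth.Agent.Lib.Helper14.Coheight
import Groth.Agent.Lib.Helper18.CatSpace

/-!
# The dimension formula in catenary equidimensional local rings (helper7)
-/

set_option autoImplicit false
universe u

namespace Groth.Agent.Helper7.CatDim

open Order Groth.Agent.Helper14

section Poset

variable {X : Type u} [PartialOrder X]

theorem covBy_of_length_eq_height (s : LTSeries X)
    (h : (s.length : ℕ∞) = height s.last) (i : Fin s.length) : s (Fin.castSucc i) ⋖ s i.succ := by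
  by_contra hcon
  rw [not_covBy_iff (s.step i)] at hcon
  obtain ⟨r, h1, h2⟩ := hcon
  have := length_le_height_last (p := s.insertNth i r h1 h2)
  rw [Groth.Agent.Helper18.CatSpace.last_insertNth, ← h] at this
  simp only [RelSeries.insertNth_length] at this
  have h3 : ((s.length + 1 : ℕ) : ℕ∞) ≤ (s.length : ℕ∞) := this
  rw [Nat.cast_le] at h3
  omega

theorem isMin_head_of_length_eq_height (s : LTSeries X)
    (h : (s.length : ℕ∞) = height s.last) : IsMin s.head := by
  rw [isMin_iff_forall_not_lt]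
  intro r hr
  have := length_le_height_last (p := s.cons r hr)
  rw [RelSeries.last_cons, ← h] at this
  simp only [RelSeries.cons_length] at this
  have h3 : ((s.length + 1 : ℕ) : ℕ∞) ≤ (s.length : ℕ∞) := this
  rw [Nat.cast_le] at h3
  omega

theorem smash_covBy (p q : LTSeries X) (h : p.last = q.head)
    (hp : ∀ i : Fin p.length, p (Fin.castSucc i) ⋖ p i.succ)
    (hq : ∀ i : Fin q.length, q (Fin.castSucc i) ⋖ q i.succ)
    (i : Fin (p.smash q h).length) :
    (p.smash q h) (Fin.castSucc i) ⋖ (p.smash q h) i.succ := by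
  change Fin (p.length + q.length) at i
  induction i using Fin.addCases with
  | left j =>
    have e1 := RelSeries.smash_castAdd h j
    have e2 := RelSeries.smash_succ_castAdd h j
    have := hp j
    rw [← e1, ← e2] at this
    exact this
  | right j =>
    have e1 := RelSeries.smash_natAdd h j
    have e2 := RelSeries.smash_succ_natAdd h j
    have := hq j
    rw [← e1, ← e2] at this
    exact this

/-- In a catenary poset with a unique maximal element, where all coheights are finite,
`height P + coheight P = coheight P₀` for some minimal `P₀ ≤ P`. -/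
theorem height_add_coheight_eq (hX : IsCatPoset X) (P : X) (hh : height P < ⊤)
    (hfin : ∀ x : X, coheight x < ⊤) (huniq : ∀ a b : X, IsMax a → IsMax b → a = b) :
    ∃ P0 : X, IsMin P0 ∧ P0 ≤ P ∧ height P + coheight P = coheight P0 := by
  obtain ⟨n, hn⟩ := ENat.ne_top_iff_exists.mp hh.ne
  obtain ⟨l, hl_last, hl_len⟩ := exists_series_of_height_eq_coe P hn.symm
  obtain ⟨m, hm⟩ := ENat.ne_top_iff_exists.mp (hfin P).ne
  obtain ⟨l', hl'_head, hl'_len⟩ := exists_series_of_coheight_eq_coe P hm.symm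
  have hl1 : (l.length : ℕ∞) = height l.last := by rw [hl_len, hl_last, hn]
  have hl'1 : (l'.length : ℕ∞) = coheight l'.head := by rw [hl'_len, hl'_head, hm]
  have hmin : IsMin l.head := isMin_head_of_length_eq_height l hl1
  have hle : l.head ≤ P := hl_last ▸ LTSeries.head_le_last l
  obtain ⟨k, hk⟩ := ENat.ne_top_iff_exists.mp (hfin l.head).ne
  obtain ⟨l'', hl''_head, hl''_len⟩ := exists_series_of_coheight_eq_coe l.head hk.symm
  have hl''1 : (l''.length : ℕ∞) = coheight l''.head := by rw [hl''_len, hl''_head, hk]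
  have hconn : l.last = l'.head := by rw [hl_last, hl'_head]
  have hsat := smash_covBy l l' hconn (covBy_of_length_eq_height l hl1)
    (covBy_of_length_eq_coheight l' hl'1)
  have hsat'' := covBy_of_length_eq_coheight l'' hl''1
  have hlast : (l.smash l' hconn).last = l''.last := by
    rw [RelSeries.last_smash]
    exact huniq _ _ (isMax_last_of_length_eq_coheight l' hl'1)
      (isMax_last_of_length_eq_coheight l'' hl''1)
  have hhead : (l.smash l' hconn).head = l''.head := by
    rw [RelSeries.head_smash, hl''_head]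
  have := hX.2 _ _ hhead hlast hsat hsat''
  refine ⟨l.head, hmin, hle, ?_⟩
  rw [← hn, ← hm, ← hk]
  have h2 : (l.smash l' hconn).length = l.length + l'.length := rfl
  rw [h2, hl_len, hl'_len, hl''_len] at this
  exact_mod_cast this

end Poset

section Ring

variable (A : Type u) [CommRing A]

theorem dim_quot_eq_coheight (P : PrimeSpectrum A) :
    ringKrullDim (A ⧸ P.asIdeal) = (Order.coheight P : ℕ∞) := by
  rw [ringKrullDim_quotient, Order.coheight_eq_krullDim_Ici]
  have : PrimeSpectrum.zeroLocus (P.asIdeal : Set A) = Set.Ici P := by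
    ext x
    simp only [PrimeSpectrum.mem_zeroLocus, SetLike.coe_subset_coe, Set.mem_Ici]
    rfl
  rw [this]

theorem coheight_lt_top [IsNoetherianRing A] [IsLocalRing A] (x : PrimeSpectrum A) :
    Order.coheight x < ⊤ := by
  have h1 : (Order.coheight x : WithBot ℕ∞) ≤ ringKrullDim A := Order.coheight_le_krullDim x
  have h2 : ringKrullDim A < ⊤ := ringKrullDim_lt_top
  have h3 := lt_of_le_of_lt h1 h2
  by_contra hcon
  rw [not_lt, top_le_iff] at hcon
  rw [hcon] at h3
  exact lt_irrefl _ h3

/-- dimension formula for catenary equidimensional Noetherian local rings -/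
theorem height_add_dim_quot [IsNoetherianRing A] [IsLocalRing A] (hcat : CAlg.IsCatenary A)
    (heq : ∀ p ∈ minimalPrimes A, ringKrullDim (A ⧸ p) = ringKrullDim A)
    (P : Ideal A) [hP : P.IsPrime] :
    (P.height : WithBot ℕ∞) + ringKrullDim (A ⧸ P) = ringKrullDim A := by
  let x : PrimeSpectrum A := ⟨P, hP⟩
  have hh : Order.height x < ⊤ := by
    rw [← PrimeSpectrum.height_eq_orderHeight]
    exact Ideal.height_lt_top_of_isPrime
  have huniq : ∀ a b : PrimeSpectrum A, IsMax a → IsMax b → a = b := by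
    intro a b ha hb
    have h1 : a = IsLocalRing.closedPoint A :=
      le_antisymm (IsLocalRing.le_maximalIdeal a.2.ne_top) (ha (IsLocalRing.le_maximalIdeal a.2.ne_top))
    have h2 : b = IsLocalRing.closedPoint A :=
      le_antisymm (IsLocalRing.le_maximalIdeal b.2.ne_top) (hb (IsLocalRing.le_maximalIdeal b.2.ne_top))
    rw [h1, h2]
  obtain ⟨P0, hmin, hle, hsum⟩ := height_add_coheight_eq ((isCatenary_iff A).mp hcat) x hh
    (coheight_lt_top A) huniq
  have hP0 : P0.asIdeal ∈ minimalPrimes A := by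
    rw [minimalPrimes_eq_minimals]
    refine ⟨P0.2, fun q hq hle' => ?_⟩
    exact hmin (b := ⟨q, hq⟩) hle'
  have h1 := heq _ hP0
  rw [dim_quot_eq_coheight] at h1
  have h2 := dim_quot_eq_coheight A x
  change ringKrullDim (A ⧸ P) = _ at h2
  rw [h2, ← h1, ← hsum, PrimeSpectrum.height_eq_orderHeight x]
  rfl

/-- height can only drop under a surjection -/
theorem height_map_mk_le (I P : Ideal A) [hP : P.IsPrime] (hIP : I ≤ P) :
    (P.map (Ideal.Quotient.mk I)).height ≤ P.height := by
  have hker : RingHom.ker (Ideal.Quotient.mk I) ≤ P := by rwa [Ideal.mk_ker]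
  have hprime : (P.map (Ideal.Quotient.mk I)).IsPrime :=
    Ideal.map_isPrime_of_surjective Ideal.Quotient.mk_surjective hker
  have hcomap : (P.map (Ideal.Quotient.mk I)).comap (Ideal.Quotient.mk I) = P := by
    rw [Ideal.comap_map_of_surjective' _ Ideal.Quotient.mk_surjective]
    exact sup_eq_left.mpr hker
  let Q : PrimeSpectrum (A ⧸ I) := ⟨P.map (Ideal.Quotient.mk I), hprime⟩
  have h1 := Order.height_le_height_apply_of_strictMono _
    (RingHom.strictMono_comap_of_surjective (f := Ideal.Quotient.mk I) Ideal.Quotient.mk_surjective) Q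
  rw [← PrimeSpectrum.height_eq_orderHeight, ← PrimeSpectrum.height_eq_orderHeight] at h1
  have h2 : (PrimeSpectrum.comap (Ideal.Quotient.mk I) Q).asIdeal = P := hcomap
  rw [h2] at h1
  exact h1

theorem dim_quot_quot (I P : Ideal A) (hIP : I ≤ P) :
    ringKrullDim ((A ⧸ I) ⧸ P.map (Ideal.Quotient.mk I)) = ringKrullDim (A ⧸ P) :=
  ringKrullDim_eq_of_ringEquiv (DoubleQuot.quotQuotEquivQuotOfLE hIP)

theorem dim_quot_succ [IsNoetherianRing A] [IsLocalRing A] (hcat : CAlg.IsCatenary A)
    (p q : Ideal A) [hp : p.IsPrime] [hq' : q.IsPrime] (t : A) (htp : t ∉ p)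
    (hq : q ∈ (Ideal.span {t} ⊔ p).minimalPrimes) :
    ringKrullDim (A ⧸ p) = ringKrullDim (A ⧸ q) + 1 := by
  have hpq : p ≤ q := le_sup_right.trans hq.1.2
  have htq : t ∈ q := hq.1.2 (Ideal.mem_sup_left (Ideal.mem_span_singleton_self t))
  have hcatB : CAlg.IsCatenary (A ⧸ p) :=
    isCatenary_of_surjective (Ideal.Quotient.mk p) Ideal.Quotient.mk_surjective hcat
  have heqB : ∀ P ∈ minimalPrimes (A ⧸ p), ringKrullDim ((A ⧸ p) ⧸ P) = ringKrullDim (A ⧸ p) := by
    intro P hP
    rw [IsDomain.minimalPrimes_eq_singleton_bot, Set.mem_singleton_iff] at hP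
    subst hP
    exact ringKrullDim_eq_of_ringEquiv (RingEquiv.quotientBot (A ⧸ p))
  have hker : RingHom.ker (Ideal.Quotient.mk p) ≤ q := by rwa [Ideal.mk_ker]
  have hprime : (q.map (Ideal.Quotient.mk p)).IsPrime :=
    Ideal.map_isPrime_of_surjective Ideal.Quotient.mk_surjective hker
  have hmin : q.map (Ideal.Quotient.mk p) ∈
      (Ideal.span {Ideal.Quotient.mk p t}).minimalPrimes := by
    have := Ideal.minimalPrimes_map_of_surjective (f := Ideal.Quotient.mk p)
      Ideal.Quotient.mk_surjective (Ideal.span {t})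
    rw [Ideal.map_span, Set.image_singleton, Ideal.mk_ker] at this
    rw [this]
    exact ⟨q, hq, rfl⟩
  have h1 : (q.map (Ideal.Quotient.mk p)).height ≤ 1 :=
    Ideal.height_le_one_of_isPrincipal_of_mem_minimalPrimes _ _ hmin
  have h2 : (q.map (Ideal.Quotient.mk p)).height ≠ 0 := by
    rw [Ne, Ideal.height_eq_zero_iff_eq_bot]
    intro hbot
    have : Ideal.Quotient.mk p t ∈ q.map (Ideal.Quotient.mk p) := Ideal.mem_map_of_mem _ htq
    rw [hbot, Ideal.mem_bot, Ideal.Quotient.eq_zero_iff_mem] at this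
    exact htp this
  have h3 : (q.map (Ideal.Quotient.mk p)).height = 1 :=
    le_antisymm h1 (Order.one_le_iff_pos.mpr (pos_iff_ne_zero.mpr h2))
  have : IsLocalRing (A ⧸ p) :=
    IsLocalRing.of_surjective' (Ideal.Quotient.mk p) Ideal.Quotient.mk_surjective
  have h4 := height_add_dim_quot (A ⧸ p) hcatB heqB (q.map (Ideal.Quotient.mk p))
  rw [h3, dim_quot_quot A p q hpq] at h4
  rw [← h4, add_comm]
  rfl

theorem height_add_dim_quot_le (P : Ideal A) [hP : P.IsPrime] :
    (P.height : WithBot ℕ∞) + ringKrullDim (A ⧸ P) ≤ ringKrullDim A := by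
  let x : PrimeSpectrum A := ⟨P, hP⟩
  have h2 := dim_quot_eq_coheight A x
  change ringKrullDim (A ⧸ P) = _ at h2
  rw [h2]
  have : Nonempty (PrimeSpectrum A) := ⟨x⟩
  rw [ringKrullDim, Order.krullDim_eq_iSup_height_add_coheight_of_nonempty]
  have := le_iSup (fun a : PrimeSpectrum A => Order.height a + Order.coheight a) x
  rw [← WithBot.coe_add]
  exact WithBot.coe_le_coe.mpr (by rwa [PrimeSpectrum.height_eq_orderHeight x])

theorem main [IsNoetherianRing A] [IsLocalRing A]
    (hA : ∀ p ∈ minimalPrimes A, ringKrullDim (A ⧸ p) = ringKrullDim A)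
    (hA' : CAlg.IsCatenary A) (t : A)
    (ht : ringKrullDim (A ⧸ Ideal.span {t}) + 1 = ringKrullDim A) (Z : Set (PrimeSpectrum A))
    (hZ : StableUnderSpecialization Z) :
    (⨅ p ∈ {p ∈ Z | t ∈ p.asIdeal}, (p.asIdeal.map (Ideal.Quotient.mk (Ideal.span {t}))).height) ≤
        ⨅ p ∈ Z, p.asIdeal.height ∧
      (⨅ p ∈ Z, p.asIdeal.height) ≤ ⨅ p ∈ {p ∈ Z | t ∉ p.asIdeal}, p.asIdeal.height := by
  refine ⟨?_, le_iInf₂ fun p hp => iInf₂_le p hp.1⟩
  refine le_iInf₂ fun p hp => ?_
  by_cases htp : t ∈ p.asIdeal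
  · refine iInf₂_le_of_le p ⟨hp, htp⟩ ?_
    exact height_map_mk_le A _ _ ((Ideal.span_singleton_le_iff_mem _).mpr htp)
  · -- t is not a unit
    have htm : t ∈ IsLocalRing.maximalIdeal A := by
      by_contra hcon
      have hu : IsUnit t := by
        by_contra h
        exact hcon ((IsLocalRing.mem_maximalIdeal t).mpr h)
      have : Subsingleton (A ⧸ Ideal.span {t}) := by
        rw [Ideal.span_singleton_eq_top.mpr hu]
        exact Ideal.Quotient.subsingleton_iff.mpr rfl
      rw [ringKrullDim_eq_bot_of_subsingleton, WithBot.bot_add] at ht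
      exact ringKrullDim_ne_bot ht.symm
    have hne : Ideal.span {t} ⊔ p.asIdeal ≠ ⊤ := by
      intro h
      have : Ideal.span {t} ⊔ p.asIdeal ≤ IsLocalRing.maximalIdeal A :=
        sup_le ((Ideal.span_singleton_le_iff_mem _).mpr htm) (IsLocalRing.le_maximalIdeal p.2.ne_top)
      rw [h, top_le_iff] at this
      exact (IsLocalRing.maximalIdeal.isMaximal A).ne_top this
    obtain ⟨⟨q, hq⟩⟩ := Ideal.nonempty_minimalPrimes hne
    have hqp : q.IsPrime := hq.1.1
    have hpq : p.asIdeal ≤ q := le_sup_right.trans hq.1.2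
    have htq : t ∈ q := hq.1.2 (Ideal.mem_sup_left (Ideal.mem_span_singleton_self t))
    have hqZ : (⟨q, hqp⟩ : PrimeSpectrum A) ∈ Z :=
      hZ ((PrimeSpectrum.le_iff_specializes p ⟨q, hqp⟩).mp hpq) hp
    refine iInf₂_le_of_le ⟨q, hqp⟩ ⟨hqZ, htq⟩ ?_
    have hIq : Ideal.span {t} ≤ q := (Ideal.span_singleton_le_iff_mem _).mpr htq
    have hker : RingHom.ker (Ideal.Quotient.mk (Ideal.span {t})) ≤ q := by rwa [Ideal.mk_ker]
    have hprime : (q.map (Ideal.Quotient.mk (Ideal.span {t}))).IsPrime :=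
      Ideal.map_isPrime_of_surjective Ideal.Quotient.mk_surjective hker
    have e1 := height_add_dim_quot_le (A ⧸ Ideal.span {t}) (q.map (Ideal.Quotient.mk (Ideal.span {t})))
    rw [dim_quot_quot A _ q hIq] at e1
    have e2 := height_add_dim_quot A hA' hA p.asIdeal
    have e3 := dim_quot_succ A hA' p.asIdeal q t htp hq
    -- arithmetic
    have e4 := dim_quot_eq_coheight A ⟨q, hqp⟩
    change ringKrullDim (A ⧸ q) = _ at e4
    have hfin := coheight_lt_top A ⟨q, hqp⟩
    obtain ⟨c, hc⟩ := ENat.ne_top_iff_exists.mp hfin.ne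
    rw [e4, ← hc] at e1 e3
    rw [e3] at e2
    rw [← ht] at e2
    -- e1 : ↑h̄ + ↑c ≤ dim Ā ;  e2 : ↑hp + (↑c + 1) = dim Ā + 1
    have e5 : ((q.map (Ideal.Quotient.mk (Ideal.span {t}))).height : WithBot ℕ∞) + ((c : ℕ∞) : WithBot ℕ∞) + 1 ≤
        (p.asIdeal.height : WithBot ℕ∞) + (((c : ℕ∞) : WithBot ℕ∞) + 1) := by
      rw [e2]
      exact add_le_add_left e1 1
    have e6 : (q.map (Ideal.Quotient.mk (Ideal.span {t}))).height + ((c : ℕ∞) + 1) ≤
        p.asIdeal.height + ((c : ℕ∞) + 1) := by
      rw [← add_assoc] at e5 ⊢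
      rw [← add_assoc]
      exact_mod_cast e5
    have hc1 : ((c : ℕ∞) + 1) ≠ ⊤ := by
      exact_mod_cast ENat.natCast_ne_top (c + 1)
    exact (ENat.add_le_add_iff_right hc1).mp e6

end Ring

end Groth.Agent.Helper7.CatDim
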