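import Mathlib
import Groth.Agent.Lib.Helper6.ComplFlat
import Groth.Agent.Lib.Helper1.AdicLib

/-!
# The completion of a flat map `R → S` with `I S ⊆ K` is flat (helper7)
-/

set_option autoImplicit false
universe u

namespace Groth.Agent.Helper7.CplFlat

open FSch Groth.Agent.Lib.Helper6.ComplMapLib Groth.Agent.Lib.Helper6.ComplFlat TensorProduct

section Main

variable {R S : Type u} [CommRing R] [CommRing S] [Algebra R S] (I : Ideal R) (K : Ideal S)

open Groth.Agent.Helper1 Groth.Agent.Helper1.CompFlat in
/-- The completion `R^_I → S^_K` of a flat map of Noetherian rings with `I S ⊆ K` is flat. -/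
theorem flat_complMap_of_le [IsNoetherianRing R] [IsNoetherianRing S] [Module.Flat R S]
    (h : I.map (algebraMap R S) ≤ K) :
    @Module.Flat (AdicCompletion I R) (AdicCompletion K S) _ _
      (complMap I K (algebraMap R S) h).toAlgebra.toModule := by
  let _ : Algebra (AdicCompletion I R) (AdicCompletion K S) :=
    (complMap I K (algebraMap R S) h).toAlgebra
  have hIfg : I.FG := IsNoetherian.noetherian I
  have hKfg : K.FG := IsNoetherian.noetherian K
  have hN : IsNoetherianRing (AdicCompletion I R) :=
    isNoetherianRing_adicCompletion_of_fg R I hIfg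
  have hflatS : Module.Flat S (AdicCompletion K S) := AdicCompletion.flat_of_isNoetherian K
  have hflatR : Module.Flat R (AdicCompletion K S) := Module.Flat.trans R S (AdicCompletion K S)
  -- completeness
  have h2a : IsAdicComplete (K.map (algebraMap S (AdicCompletion K S))) (AdicCompletion K S) :=
    AdicCompletion.isAdicComplete_self K hKfg
  have hcomp : (algebraMap (AdicCompletion I R) (AdicCompletion K S)).comp
      (algebraMap R (AdicCompletion I R)) =
      (algebraMap S (AdicCompletion K S)).comp (algebraMap R S) := by
    apply RingHom.ext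
    intro r
    exact complMap_of I K (algebraMap R S) h r
  have hcomp' : (algebraMap (AdicCompletion I R) (AdicCompletion K S)).comp
      (algebraMap R (AdicCompletion I R)) = algebraMap R (AdicCompletion K S) := by
    rw [hcomp, ← IsScalarTower.algebraMap_eq]
  have h2b : (I.map (algebraMap R (AdicCompletion I R))).map
      (algebraMap (AdicCompletion I R) (AdicCompletion K S)) =
      I.map (algebraMap R (AdicCompletion K S)) := by
    rw [Ideal.map_map, hcomp']
  have hle : I.map (algebraMap R (AdicCompletion K S)) ≤
      K.map (algebraMap S (AdicCompletion K S)) := by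
    rw [IsScalarTower.algebraMap_eq R S (AdicCompletion K S), ← Ideal.map_map]
    exact Ideal.map_mono h
  have h2c : IsAdicComplete (I.map (algebraMap R (AdicCompletion K S))) (AdicCompletion K S) :=
    isAdicComplete_of_le_of_fg _ _ hle (hIfg.map _) (AdicCompletion K S)
  have hC : IsAdicComplete (I.map (algebraMap R (AdicCompletion I R))) (AdicCompletion K S) := by
    rw [← h2b] at h2c
    exact (IsAdicComplete.map_algebraMap_iff (S := AdicCompletion K S)
      (I.map (algebraMap R (AdicCompletion I R))) (AdicCompletion K S)).mp h2c
  apply flat_of_approxEq (I.map (algebraMap R (AdicCompletion I R)))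
  intro n
  set K' : Ideal (AdicCompletion K S) := (I ^ n).map (algebraMap R (AdicCompletion K S)) with hK'
  have hle' : I ^ n ≤ K'.comap (algebraMap R (AdicCompletion K S)) := Ideal.le_comap_map
  let _ : Algebra (R ⧸ I ^ n) (AdicCompletion K S ⧸ K') :=
    (Ideal.quotientMap K' (algebraMap R (AdicCompletion K S)) hle').toAlgebra
  have hflat : Module.Flat (R ⧸ I ^ n) (AdicCompletion K S ⧸ K') :=
    flat_quotientMap (I ^ n) K' rfl hle'
  have hmapK' : ((I.map (algebraMap R (AdicCompletion I R))) ^ n).map
      (algebraMap (AdicCompletion I R) (AdicCompletion K S)) = K' := by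
    rw [Ideal.map_pow, h2b, ← Ideal.map_pow]
  refine approxEq_of_flat (B := R ⧸ I ^ n) (P := AdicCompletion K S ⧸ K')
    (AdicCompletion.evalₐ I n).toRingHom (AdicCompletion.surjective_evalₐ I n) _
    (fun a => evalₐ_eq_zero_iff I hIfg n a)
    ((Ideal.Quotient.mk K' : AdicCompletion K S →+* AdicCompletion K S ⧸ K') :
      AdicCompletion K S →+ AdicCompletion K S ⧸ K')
    Ideal.Quotient.mk_surjective ?_ ?_
  · intro a x
    show Ideal.Quotient.mk K' (algebraMap (AdicCompletion I R) (AdicCompletion K S) a * x) =
      Ideal.quotientMap K' (algebraMap R (AdicCompletion K S)) hle' (AdicCompletion.evalₐ I n a) *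
        Ideal.Quotient.mk K' x
    rw [map_mul]
    congr 1
    obtain ⟨r, hr⟩ := Ideal.Quotient.mk_surjective (AdicCompletion.evalₐ I n a)
    have h1 : a - algebraMap R (AdicCompletion I R) r ∈
        (I.map (algebraMap R (AdicCompletion I R))) ^ n := by
      rw [← evalₐ_eq_zero_iff I hIfg n, map_sub, ← hr]
      have : AdicCompletion.evalₐ I n (algebraMap R (AdicCompletion I R) r) =
          Ideal.Quotient.mk (I ^ n) r := by
        rw [AdicCompletion.algebraMap_apply, Algebra.algebraMap_self, RingHom.id_apply,
          AdicCompletion.evalₐ_of]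
      rw [this, sub_self]
    have h2 : algebraMap (AdicCompletion I R) (AdicCompletion K S)
        (a - algebraMap R (AdicCompletion I R) r) ∈ K' := by
      rw [← hmapK']
      exact Ideal.mem_map_of_mem _ h1
    rw [← hr, Ideal.quotientMap_mk]
    rw [← sub_eq_zero, ← map_sub, Ideal.Quotient.eq_zero_iff_mem]
    have h3 : algebraMap (AdicCompletion I R) (AdicCompletion K S)
        (algebraMap R (AdicCompletion I R) r) = algebraMap R (AdicCompletion K S) r := by
      rw [← RingHom.comp_apply, hcomp']
    rw [map_sub, h3] at h2
    exact h2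
  · intro x
    show Ideal.Quotient.mk K' x = 0 ↔ _
    rw [Ideal.Quotient.eq_zero_iff_mem, Ideal.smul_top_eq_map, Submodule.restrictScalars_mem,
      hmapK']

end Main

end Groth.Agent.Helper7.CplFlat
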