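import Mathlib

/-!
# Flatness and geometrically reduced fibres: descent along faithfully flat maps (helper7)
-/

set_option autoImplicit false
universe u

namespace Groth.Agent.Helper7.GeomRed

open TensorProduct Function

section

variable (A B C : Type u) [CommRing A] [CommRing B] [CommRing C]
  [Algebra A B] [Algebra B C] [Algebra A C] [IsScalarTower A B C]

open AlgebraTensorModule in
/-- If `C` is faithfully flat over `B` and flat over `A`, then `B` is flat over `A`. -/
theorem flat_of_faithfullyFlat_of_flat_comp [Module.FaithfullyFlat B C] [Module.Flat A C] :
    Module.Flat A B := by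
  rw [Module.Flat.iff_lTensor_preserves_injective_linearMap]
  intro N P _ _ _ _ f hf
  rw [← coe_lTensor (A := B), ← Module.FaithfullyFlat.lTensor_injective_iff_injective B C]
  have h1 : Injective (lTensor C C f) := by
    rw [coe_lTensor]
    exact Module.Flat.lTensor_preserves_injective_linearMap f hf
  have h2 := lTensor_comp_cancelBaseChange (R := A) (A := B) (B := C) (M := C) f
  have h3 : Injective ((cancelBaseChange A B C C P).toLinearMap ∘ₗ
      lTensor C C (lTensor B B f)) := by
    rw [← h2]
    exact h1.comp (cancelBaseChange A B C C N).injective
  have h4 : Injective (lTensor C C (lTensor B B f)) := by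
    intro x y hxy
    exact h3 (by simp only [LinearMap.coe_comp, comp_apply, hxy])
  exact h4

/-- `B ⊗ M → C ⊗ M` is injective for `B → C` faithfully flat, `M` any `A`-module. -/
theorem rTensor_injective_of_faithfullyFlat [Module.FaithfullyFlat B C]
    (M : Type u) [AddCommGroup M] [Module A M] :
    Injective ((IsScalarTower.toAlgHom A B C).toLinearMap.rTensor M) := by
  have h1 := Module.FaithfullyFlat.tensorProduct_mk_injective (A := B) (B := C) (B ⊗[A] M)
  have h2 : ∀ x : B ⊗[A] M, (IsScalarTower.toAlgHom A B C).toLinearMap.rTensor M x =
      AlgebraTensorModule.cancelBaseChange A B C C M (TensorProduct.mk B C (B ⊗[A] M) 1 x) := by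
    intro x
    induction x using TensorProduct.induction_on with
    | zero => simp
    | add x y hx hy => simp only [map_add, hx, hy]
    | tmul b m =>
      simp only [LinearMap.rTensor_tmul, AlgHom.toLinearMap_apply, IsScalarTower.coe_toAlgHom',
        TensorProduct.mk_apply, AlgebraTensorModule.cancelBaseChange_tmul, Algebra.smul_def, mul_one]
  intro x y hxy
  rw [h2, h2] at hxy
  exact h1 ((AlgebraTensorModule.cancelBaseChange A B C C M).injective hxy)

end

end Groth.Agent.Helper7.GeomRed
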