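import Mathlib

/-!
# Composition of flat maps with geometrically reduced fibres (helper7)
-/

set_option autoImplicit false
universe u

namespace Groth.Agent.Helper7.GeomRed

open TensorProduct Function

/-- Key lemma: a flat algebra over a reduced Noetherian ring whose fibres at the minimal primes
are reduced is reduced. -/
theorem isReduced_of_flat_of_fibres (B' C' : Type u) [CommRing B'] [CommRing C'] [Algebra B' C']
    [IsNoetherianRing B'] [IsReduced B'] [Module.Flat B' C']
    (h : ∀ (q : Ideal B') [q.IsPrime], q ∈ minimalPrimes B' → IsReduced (q.ResidueField ⊗[B'] C')) :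
    IsReduced C' := by
  classical
  have hfin : (minimalPrimes B').Finite := minimalPrimes.finite_of_isNoetherianRing B'
  let ι := ↥(minimalPrimes B')
  have : Fintype ι := hfin.fintype
  have hprime : ∀ q : ι, q.1.IsPrime := fun q => Ideal.IsMinimalPrime.isPrime q.2
  let P := ∀ q : ι, q.1.ResidueField
  let φ : B' →ₗ[B'] P := LinearMap.pi (fun q => Algebra.linearMap B' q.1.ResidueField)
  have hφ : Injective φ := by
    rw [← LinearMap.ker_eq_bot, LinearMap.ker_eq_bot']
    intro b hb
    have h1 : ∀ q : ι, b ∈ q.1 := by
      intro q
      have := congrFun hb q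
      exact Ideal.algebraMap_residueField_eq_zero.mp this
    have h2 : b ∈ sInf (minimalPrimes B') := by
      rw [Ideal.mem_sInf]
      intro q hq
      exact h1 ⟨q, hq⟩
    have h3 : sInf (minimalPrimes B') = ⊥ := by
      have := Ideal.sInf_minimalPrimes (I := (⊥ : Ideal B'))
      rw [Ideal.radical_bot_of_isReduced] at this
      exact this
    rw [h3] at h2
    simpa using h2
  refine ⟨fun x hx => ?_⟩
  have hinj := Module.Flat.lTensor_preserves_injective_linearMap (M := C') φ hφ
  have key : ∀ q : ι, (x ⊗ₜ[B'] (1 : q.1.ResidueField)) = 0 := by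
    intro q
    have hr := h q.1 q.2
    have h1 : IsNilpotent ((1 : q.1.ResidueField) ⊗ₜ[B'] x) := by
      have := hx.map (Algebra.TensorProduct.includeRight : C' →ₐ[B'] q.1.ResidueField ⊗[B'] C')
      simpa using this
    have h2 : (1 : q.1.ResidueField) ⊗ₜ[B'] x = 0 := h1.eq_zero
    have := congrArg (TensorProduct.comm B' q.1.ResidueField C') h2
    simpa using this
  have h0 : (φ.lTensor C') (x ⊗ₜ[B'] (1 : B')) = 0 := by
    apply (TensorProduct.piRight B' B' C' (fun q : ι => q.1.ResidueField)).injective
    rw [map_zero]
    ext q
    rw [LinearMap.lTensor_tmul, TensorProduct.piRight_apply, TensorProduct.piRightHom_tmul]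
    show x ⊗ₜ[B'] (algebraMap B' q.1.ResidueField 1) = 0
    rw [map_one]
    exact key q
  have h1 : x ⊗ₜ[B'] (1 : B') = 0 := hinj (by rw [h0, map_zero])
  have := congrArg (TensorProduct.rid B' C') h1
  simpa using this

section FieldOver

variable (B : Type u) [CommRing B] (L : Type u) [Field L] [Algebra B L]

/-- the kernel of `B → L` -/
noncomputable abbrev kerPrime : Ideal B := RingHom.ker (algebraMap B L)

instance : (kerPrime B L).IsPrime := RingHom.ker_isPrime _

/-- `κ(ker) → L` -/
noncomputable def kerLift : (kerPrime B L).ResidueField →+* L :=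
  Ideal.ResidueField.lift (kerPrime B L) (algebraMap B L) le_rfl (by
    intro b hb
    simp only [Submonoid.mem_comap, IsUnit.mem_submonoid_iff, isUnit_iff_ne_zero]
    exact hb)

theorem kerLift_algebraMap (b : B) :
    kerLift B L (algebraMap B (kerPrime B L).ResidueField b) = algebraMap B L b :=
  Ideal.ResidueField.lift_algebraMap _ _ _ _ _

/-- fibres over a field which is algebraic over the residue field of its kernel -/
theorem isReduced_tensor_of_isAlgebraic (C : Type u) [CommRing C] [Algebra B C]
    (hBC : ∀ (q : Ideal B) [q.IsPrime], Algebra.IsGeometricallyReduced q.ResidueField (q.Fiber C))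
    (halg : (kerLift B L).IsIntegral) :
    IsReduced (L ⊗[B] C) := by
  let q := kerPrime B L
  let _ : Algebra q.ResidueField L := (kerLift B L).toAlgebra
  have : IsScalarTower B q.ResidueField L := IsScalarTower.of_algebraMap_eq (fun b => by
    rw [RingHom.algebraMap_toAlgebra, kerLift_algebraMap])
  have : Algebra.IsAlgebraic q.ResidueField L := by
    have : Algebra.IsIntegral q.ResidueField L := ⟨halg⟩
    infer_instance
  have := hBC q
  have hred : IsReduced (L ⊗[q.ResidueField] (q.ResidueField ⊗[B] C)) := inferInstance
  exact isReduced_of_injective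
    (Algebra.TensorProduct.cancelBaseChange B q.ResidueField q.ResidueField L C).symm.toRingHom
    (Algebra.TensorProduct.cancelBaseChange B q.ResidueField q.ResidueField L C).symm.injective

end FieldOver

section Alg

theorem kerLift_isIntegral (A B : Type u) [CommRing A] [CommRing B] [Algebra A B]
    (p : Ideal A) [p.IsPrime]
    (K : Type u) [Field K] [Algebra A K] [Algebra p.ResidueField K]
    [IsScalarTower A p.ResidueField K] [Algebra.IsIntegral p.ResidueField K]
    (q' : Ideal (B ⊗[A] K)) [q'.IsPrime] : (kerLift B q'.ResidueField).IsIntegral := by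
  let L := q'.ResidueField
  let q := kerPrime B L
  let k := p.ResidueField
  -- ψ : K → L
  let ψ : K →+* L := (algebraMap (B ⊗[A] K) L).comp
    (Algebra.TensorProduct.includeRight : K →ₐ[A] B ⊗[A] K).toRingHom
  have hψ : ∀ a : A, ψ (algebraMap A K a) = algebraMap A L a := by
    intro a
    simp only [ψ, RingHom.comp_apply, AlgHom.toRingHom_eq_coe, RingHom.coe_coe, AlgHom.commutes]
    rw [← IsScalarTower.algebraMap_apply]
  have hψinj : Injective ψ := ψ.injective
  have hkK : Injective (algebraMap k K) := (algebraMap k K).injective
  -- φ : k → κ(q)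
  have h1 : p ≤ RingHom.ker (algebraMap A q.ResidueField) := by
    intro a ha
    rw [RingHom.mem_ker]
    apply (kerLift B L).injective
    rw [map_zero, IsScalarTower.algebraMap_apply A B q.ResidueField, kerLift_algebraMap,
      ← IsScalarTower.algebraMap_apply, ← hψ, IsScalarTower.algebraMap_apply A k K,
      Ideal.algebraMap_residueField_eq_zero.mpr ha, map_zero, map_zero]
  have h2 : p.primeCompl ≤ (IsUnit.submonoid q.ResidueField).comap (algebraMap A q.ResidueField) := by
    intro a ha
    simp only [Submonoid.mem_comap, IsUnit.mem_submonoid_iff, isUnit_iff_ne_zero]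
    intro h0
    have := congrArg (kerLift B L) h0
    rw [map_zero, IsScalarTower.algebraMap_apply A B q.ResidueField, kerLift_algebraMap,
      ← IsScalarTower.algebraMap_apply, ← hψ, IsScalarTower.algebraMap_apply A k K] at this
    have h3 := hkK (hψinj (this.trans (map_zero ψ).symm) |>.trans (map_zero _).symm)
    exact ha (Ideal.algebraMap_residueField_eq_zero.mp h3)
  let φ : k →+* q.ResidueField := Ideal.ResidueField.lift p (algebraMap A q.ResidueField) h1 h2
  have hcomm : (kerLift B L).comp φ = ψ.comp (algebraMap k K) := by
    apply Ideal.ResidueField.ringHom_ext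
    ext a
    simp only [RingHom.comp_apply, φ, Ideal.ResidueField.lift_algebraMap]
    rw [IsScalarTower.algebraMap_apply A B q.ResidueField, kerLift_algebraMap,
      ← IsScalarTower.algebraMap_apply, ← IsScalarTower.algebraMap_apply A k K, hψ]
  let _ : Algebra q.ResidueField L := (kerLift B L).toAlgebra
  have htower : IsScalarTower B q.ResidueField L := IsScalarTower.of_algebraMap_eq (fun b => by
    rw [RingHom.algebraMap_toAlgebra, kerLift_algebraMap])
  let E : Subalgebra q.ResidueField L := integralClosure q.ResidueField L
  have hK : ∀ a : K, ψ a ∈ E := by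
    intro a
    exact IsIntegral.map_of_comp_eq φ ψ hcomm (Algebra.IsIntegral.isIntegral (R := k) a)
  have hB : ∀ b : B, algebraMap B L b ∈ E := by
    intro b
    rw [IsScalarTower.algebraMap_apply B q.ResidueField L]
    exact Subalgebra.algebraMap_mem E _
  have hB' : ∀ x : B ⊗[A] K, algebraMap (B ⊗[A] K) L x ∈ E := by
    intro x
    induction x using TensorProduct.induction_on with
    | zero => rw [map_zero]; exact zero_mem E
    | tmul b a =>
      have : b ⊗ₜ[A] a = (algebraMap B (B ⊗[A] K) b) * (1 ⊗ₜ[A] a) := by
        rw [Algebra.TensorProduct.algebraMap_apply, Algebra.TensorProduct.tmul_mul_tmul]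
        simp
      rw [this, map_mul, ← IsScalarTower.algebraMap_apply]
      exact mul_mem (hB b) (hK a)
    | add x y hx hy => rw [map_add]; exact add_mem hx hy
  intro y
  have hy : y ∈ E := by
    obtain ⟨x, s, hs, rfl⟩ := IsFractionRing.div_surjective (A := (B ⊗[A] K) ⧸ q') y
    obtain ⟨x, rfl⟩ := Ideal.Quotient.mk_surjective x
    obtain ⟨s, rfl⟩ := Ideal.Quotient.mk_surjective s
    rw [Ideal.algebraMap_quotient_residueField_mk, Ideal.algebraMap_quotient_residueField_mk]
    rw [div_eq_mul_inv]
    exact mul_mem (hB' x) (IsIntegral.inv (hB' s))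
  exact hy

end Alg


section Main

variable (A B C : Type u) [CommRing A] [CommRing B] [CommRing C] [IsNoetherianRing B]
  [Algebra A B] [Algebra B C] [Algebra A C] [IsScalarTower A B C] [Module.Flat B C]

theorem isReduced_finite_ext
    (hAB : ∀ (p : Ideal A) [p.IsPrime], Algebra.IsGeometricallyReduced p.ResidueField (p.Fiber B))
    (hBC : ∀ (q : Ideal B) [q.IsPrime], Algebra.IsGeometricallyReduced q.ResidueField (q.Fiber C))
    (p : Ideal A) [p.IsPrime]
    (K : Type u) [Field K] [Algebra A K] [Algebra p.ResidueField K]
    [IsScalarTower A p.ResidueField K] [Module.Finite p.ResidueField K] :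
    IsReduced (K ⊗[A] C) := by
  let k := p.ResidueField
  have : Algebra.EssFiniteType A K := Algebra.EssFiniteType.comp A k K
  have : Algebra.EssFiniteType B (B ⊗[A] K) := inferInstance
  have hN : IsNoetherianRing (B ⊗[A] K) := Algebra.EssFiniteType.isNoetherianRing B _
  have hRd : IsReduced (B ⊗[A] K) := by
    have := hAB p
    have h1 : IsReduced (K ⊗[k] (k ⊗[A] B)) := inferInstance
    let e1 := Algebra.TensorProduct.cancelBaseChange A k k K B
    let e2 := Algebra.TensorProduct.comm A K B
    exact isReduced_of_injective ((e1.symm.toRingEquiv.toRingHom).comp e2.symm.toRingEquiv.toRingHom)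
      (e1.symm.injective.comp e2.symm.injective)
  have hC' : IsReduced ((B ⊗[A] K) ⊗[B] C) := by
    apply isReduced_of_flat_of_fibres (B ⊗[A] K) ((B ⊗[A] K) ⊗[B] C)
    intro q' _ _
    have h1 : IsReduced (q'.ResidueField ⊗[B] C) :=
      isReduced_tensor_of_isAlgebraic B q'.ResidueField C hBC (kerLift_isIntegral A B p K q')
    let e := Algebra.TensorProduct.cancelBaseChange B (B ⊗[A] K) (B ⊗[A] K) q'.ResidueField C
    exact isReduced_of_injective e.toRingEquiv.toRingHom e.injective
  let e1 := Algebra.TensorProduct.comm B (B ⊗[A] K) C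
  let e2 := Algebra.TensorProduct.cancelBaseChange A B B C K
  let e3 := Algebra.TensorProduct.comm A C K
  exact isReduced_of_injective
    ((e1.symm.toRingEquiv.toRingHom.comp e2.symm.toRingEquiv.toRingHom).comp
      e3.symm.toRingEquiv.toRingHom)
    ((e1.symm.injective.comp e2.symm.injective).comp e3.symm.injective)

end Main

section Final

variable (A B C : Type u) [CommRing A] [CommRing B] [CommRing C] [IsNoetherianRing B]
  [Algebra A B] [Algebra B C] [Algebra A C] [IsScalarTower A B C] [Module.Flat B C]

theorem geomReduced_comp
    (hAB : ∀ (p : Ideal A) [p.IsPrime], Algebra.IsGeometricallyReduced p.ResidueField (p.Fiber B))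
    (hBC : ∀ (q : Ideal B) [q.IsPrime], Algebra.IsGeometricallyReduced q.ResidueField (q.Fiber C))
    (p : Ideal A) [p.IsPrime] :
    Algebra.IsGeometricallyReduced p.ResidueField (p.Fiber C) := by
  let k := p.ResidueField
  rw [Algebra.isGeometricallyReduced_field_iff]
  have h1 : IsReduced ((p.Fiber C) ⊗[k] AlgebraicClosure k) := by
    apply IsReduced.tensorProduct_of_flat_of_forall_fg
    intro K hK
    obtain ⟨S, hS⟩ := hK
    let K' : IntermediateField k (AlgebraicClosure k) := IntermediateField.adjoin k (S : Set (AlgebraicClosure k))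
    have hK' : K'.toSubalgebra = K := by
      rw [← hS]
      exact IntermediateField.adjoin_toSubalgebra _
    have hfin : Module.Finite k K' :=
      IntermediateField.finiteDimensional_adjoin (fun x _ => Algebra.IsIntegral.isIntegral x)
    have h2 : IsReduced (↥K' ⊗[A] C) := isReduced_finite_ext A B C hAB hBC p ↥K'
    let g : ↥K ≃ₐ[k] ↥K' := Subalgebra.equivOfEq K K'.toSubalgebra hK'.symm
    let e1 := Algebra.TensorProduct.congr (AlgEquiv.refl : p.Fiber C ≃ₐ[k] p.Fiber C) g
    let e2 := Algebra.TensorProduct.comm k (p.Fiber C) ↥K'
    let e3 := Algebra.TensorProduct.cancelBaseChange A k k ↥K' C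
    exact isReduced_of_injective
      ((e3.toRingEquiv.toRingHom.comp e2.toRingEquiv.toRingHom).comp e1.toRingEquiv.toRingHom)
      ((e3.injective.comp e2.injective).comp e1.injective)
  exact isReduced_of_injective (Algebra.TensorProduct.comm k _ _).toRingEquiv.toRingHom
    (Algebra.TensorProduct.comm k _ _).injective

end Final

theorem geomReduced_localization (A B : Type u) [CommRing A] [CommRing B]
    [Algebra A B] [Module.Flat A B]
    (h : ∀ (p : Ideal A) [p.IsPrime], Algebra.IsGeometricallyReduced p.ResidueField (p.Fiber B)) (S : Submonoid A)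
    (A' B' : Type u) [CommRing A'] [CommRing B'] [Algebra A A'] [Algebra B B'] [Algebra A' B'] [Algebra A B']
    [IsScalarTower A A' B'] [IsScalarTower A B B'] [IsLocalization S A']
    [IsLocalization (Algebra.algebraMapSubmonoid B S) B'] :
    Module.Flat A' B' ∧ ∀ (p' : Ideal A') [p'.IsPrime],
      Algebra.IsGeometricallyReduced p'.ResidueField (p'.Fiber B') := by
  constructor
  · have h1 : Module.Flat B B' := IsLocalization.flat B' (Algebra.algebraMapSubmonoid B S)
    have h2 : Module.Flat A B' := Module.Flat.trans A B B'
    exact (Module.flat_iff_of_isLocalization A' S B').mpr h2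
  · intro p' _
    rw [Algebra.isGeometricallyReduced_field_iff]
    let p : Ideal A := p'.comap (algebraMap A A')
    let σ : p.ResidueField →+* p'.ResidueField := Ideal.ResidueField.map p p' (algebraMap A A') rfl
    have hσ : Bijective σ := RingHom.SurjectiveOnStalks.residueFieldMap_bijective
      (RingHom.surjectiveOnStalks_of_isLocalization S A') p p' rfl
    let L := AlgebraicClosure p'.ResidueField
    let _ : Algebra p.ResidueField L := ((algebraMap p'.ResidueField L).comp σ).toAlgebra
    have htower : IsScalarTower A p.ResidueField L := IsScalarTower.of_algebraMap_eq (fun a => by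
      rw [RingHom.algebraMap_toAlgebra, RingHom.comp_apply, Ideal.ResidueField.map_algebraMap,
        ← IsScalarTower.algebraMap_apply A A' p'.ResidueField, ← IsScalarTower.algebraMap_apply])
    have halg : Algebra.IsAlgebraic p.ResidueField L := by
      have : Algebra.IsIntegral p.ResidueField L := by
        refine ⟨fun y => ?_⟩
        have hy : IsIntegral p'.ResidueField y := Algebra.IsIntegral.isIntegral y
        have := IsIntegral.map_of_comp_eq (RingEquiv.ofBijective σ hσ).symm.toRingHom (RingHom.id L)
          (by
            refine RingHom.ext fun z => ?_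
            obtain ⟨w, rfl⟩ := hσ.2 z
            have : (RingEquiv.ofBijective σ hσ).symm (σ w) = w :=
              (RingEquiv.ofBijective σ hσ).symm_apply_apply w
            simp only [RingHom.comp_apply, RingEquiv.toRingHom_eq_coe, RingHom.coe_coe, this,
              RingHom.id_apply]
            rfl) hy
        simpa using this
      infer_instance
    have := h p
    have hred : IsReduced (L ⊗[p.ResidueField] (p.ResidueField ⊗[A] B)) := inferInstance
    have hpo : Algebra.IsPushout A A' B B' := (Algebra.isPushout_of_isLocalization S A' B B').symm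
    let e1 := Algebra.TensorProduct.cancelBaseChange A' p'.ResidueField p'.ResidueField L B'
    let e2 : L ⊗[A'] (A' ⊗[A] B) ≃ₐ[L] L ⊗[A'] B' :=
      Algebra.TensorProduct.congr AlgEquiv.refl (Algebra.IsPushout.equiv A A' B B')
    let e3 := Algebra.TensorProduct.cancelBaseChange A A' A' L B
    let e4 := Algebra.TensorProduct.cancelBaseChange A p.ResidueField p.ResidueField L B
    exact isReduced_of_injective
      (((e4.symm.toRingEquiv.toRingHom.comp e3.toRingEquiv.toRingHom).comp
        e2.symm.toRingEquiv.toRingHom).comp e1.toRingEquiv.toRingHom)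
      (((e4.symm.injective.comp e3.injective).comp e2.symm.injective).comp e1.injective)

/-- Transfer of a "geometric" property of fibres along a localization `S⁻¹A → S⁻¹B`. -/
theorem fibre_transfer_localization (A B : Type u) [CommRing A] [CommRing B]
    [Algebra A B] (S : Submonoid A)
    (A' B' : Type u) [CommRing A'] [CommRing B'] [Algebra A A'] [Algebra B B'] [Algebra A' B'] [Algebra A B']
    [IsScalarTower A A' B'] [IsScalarTower A B B'] [IsLocalization S A']
    [IsLocalization (Algebra.algebraMapSubmonoid B S) B']
    (P : ∀ (R : Type u) [CommRing R], Prop)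
    (hP : ∀ (R R' : Type u) [CommRing R] [CommRing R'], (R ≃+* R') → P R → P R')
    (h : ∀ (p : Ideal A) [p.IsPrime] (k' : Type u) [Field k'] [Algebra p.ResidueField k'],
      Module.Finite p.ResidueField k' → P (k' ⊗[p.ResidueField] (p.Fiber B)))
    (p' : Ideal A') [p'.IsPrime] (k' : Type u) [Field k'] [Algebra p'.ResidueField k']
    (hfin : Module.Finite p'.ResidueField k') :
    P (k' ⊗[p'.ResidueField] (p'.Fiber B')) := by
  let p : Ideal A := p'.comap (algebraMap A A')
  let σ : p.ResidueField →+* p'.ResidueField := Ideal.ResidueField.map p p' (algebraMap A A') rfl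
  have hσ : Bijective σ := RingHom.SurjectiveOnStalks.residueFieldMap_bijective
    (RingHom.surjectiveOnStalks_of_isLocalization S A') p p' rfl
  let L := k'
  let _ : Algebra p.ResidueField p'.ResidueField := σ.toAlgebra
  let _ : Algebra p.ResidueField L := ((algebraMap p'.ResidueField L).comp σ).toAlgebra
  have ht0 : IsScalarTower p.ResidueField p'.ResidueField L := IsScalarTower.of_algebraMap_eq (fun a => rfl)
  have hf0 : Module.Finite p.ResidueField p'.ResidueField :=
    Module.Finite.of_surjective (Algebra.linearMap p.ResidueField p'.ResidueField) hσ.2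
  have hfin' : Module.Finite p.ResidueField L := Module.Finite.trans p'.ResidueField L
  let _ : Algebra A' L := ((algebraMap p'.ResidueField L).comp (algebraMap A' p'.ResidueField)).toAlgebra
  have ht1 : IsScalarTower A' p'.ResidueField L := IsScalarTower.of_algebraMap_eq (fun a => rfl)
  let _ : Algebra A L := ((algebraMap A' L).comp (algebraMap A A')).toAlgebra
  have ht2 : IsScalarTower A A' L := IsScalarTower.of_algebraMap_eq (fun a => rfl)
  have htower : IsScalarTower A p.ResidueField L := IsScalarTower.of_algebraMap_eq (fun a => by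
    show algebraMap p'.ResidueField L (algebraMap A' p'.ResidueField (algebraMap A A' a)) =
      algebraMap p'.ResidueField L (σ (algebraMap A p.ResidueField a))
    rw [Ideal.ResidueField.map_algebraMap])
  have hpo : Algebra.IsPushout A A' B B' := (Algebra.isPushout_of_isLocalization S A' B B').symm
  let e1 := Algebra.TensorProduct.cancelBaseChange A' p'.ResidueField p'.ResidueField L B'
  let e2 : L ⊗[A'] (A' ⊗[A] B) ≃ₐ[L] L ⊗[A'] B' :=
    Algebra.TensorProduct.congr AlgEquiv.refl (Algebra.IsPushout.equiv A A' B B')
  let e3 := Algebra.TensorProduct.cancelBaseChange A A' A' L B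
  let e4 := Algebra.TensorProduct.cancelBaseChange A p.ResidueField p.ResidueField L B
  have h0 := h p L hfin'
  exact hP _ _ (((e4.toRingEquiv.trans e3.symm.toRingEquiv).trans e2.toRingEquiv).trans
    e1.symm.toRingEquiv) h0


/-- flatness of `S⁻¹A → S⁻¹B` -/
theorem flat_localization (A B : Type u) [CommRing A] [CommRing B]
    [Algebra A B] [Module.Flat A B] (S : Submonoid A)
    (A' B' : Type u) [CommRing A'] [CommRing B'] [Algebra A A'] [Algebra B B'] [Algebra A' B'] [Algebra A B']
    [IsScalarTower A A' B'] [IsScalarTower A B B'] [IsLocalization S A']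
    [IsLocalization (Algebra.algebraMapSubmonoid B S) B'] : Module.Flat A' B' := by
  have h1 : Module.Flat B B' := IsLocalization.flat B' (Algebra.algebraMapSubmonoid B S)
  have h2 : Module.Flat A B' := Module.Flat.trans A B B'
  exact (Module.flat_iff_of_isLocalization A' S B').mpr h2

end Groth.Agent.Helper7.GeomRed
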