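import Mathlib
import Groth.Agent.Lib.Helper7.CplFlat0
import Groth.Agent.Lib.Helper7.GeomRed1
import Groth.Agent.Lib.Helper7.GeomRed2
import Groth.Agent.Lib.Helper14.RegularLocalization
import Groth.Prelude.Def_Found
import Groth.Prelude.Def_EGA4b

/-!
# Completion of a flat local homomorphism; descent of properties of formal fibres (helper7)
-/

set_option autoImplicit false
set_option linter.unusedSectionVars false
universe u

namespace Groth.Agent.Helper7.CplFlat

open FSch Groth.Agent.Lib.Helper6.ComplMapLib TensorProduct IsLocalRing Function

section Local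

variable (A A' : Type u) [CommRing A] [CommRing A'] [IsNoetherianRing A] [IsNoetherianRing A']
  [IsLocalRing A] [IsLocalRing A'] [Algebra A A'] [IsLocalHom (algebraMap A A')]

theorem map_maximalIdeal_le : (maximalIdeal A).map (algebraMap A A') ≤ maximalIdeal A' :=
  ((IsLocalRing.local_hom_TFAE (algebraMap A A')).out 0 2).mp ‹_›

/-- For a flat local homomorphism `A → A'` of Noetherian local rings, the induced map `Â → Â'` of
completions makes `Â'` a faithfully flat `Â`-algebra, compatibly with `A → A' → Â'`. -/
theorem exists_cplAlgebra [Module.Flat A A'] :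
    ∃ (alg : Algebra (AdicCompletion (maximalIdeal A) A) (AdicCompletion (maximalIdeal A') A')),
      letI := alg
      IsScalarTower A (AdicCompletion (maximalIdeal A) A) (AdicCompletion (maximalIdeal A') A') ∧
      Module.FaithfullyFlat (AdicCompletion (maximalIdeal A) A)
        (AdicCompletion (maximalIdeal A') A') := by
  have h := map_maximalIdeal_le A A'
  let ψ := complMap (maximalIdeal A) (maximalIdeal A') (algebraMap A A') h
  let alg : Algebra (AdicCompletion (maximalIdeal A) A) (AdicCompletion (maximalIdeal A') A') :=
    ψ.toAlgebra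
  refine ⟨alg, ?_, ?_⟩
  · refine IsScalarTower.of_algebraMap_eq (fun a => ?_)
    have h1 : algebraMap A (AdicCompletion (maximalIdeal A) A) a =
        AdicCompletion.of (maximalIdeal A) A a := by
      rw [AdicCompletion.algebraMap_apply, Algebra.algebraMap_self, RingHom.id_apply]
    have h2 : algebraMap A (AdicCompletion (maximalIdeal A') A') a =
        AdicCompletion.of (maximalIdeal A') A' (algebraMap A A' a) := by
      rw [IsScalarTower.algebraMap_apply A A' (AdicCompletion (maximalIdeal A') A'),
        AdicCompletion.algebraMap_apply, Algebra.algebraMap_self, RingHom.id_apply]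
    show _ = ψ _
    rw [h1, h2, complMap_of]
  · have hflat : Module.Flat (AdicCompletion (maximalIdeal A) A)
        (AdicCompletion (maximalIdeal A') A') :=
      flat_complMap_of_le (maximalIdeal A) (maximalIdeal A') h
    have hloc : IsLocalHom (algebraMap (AdicCompletion (maximalIdeal A) A)
        (AdicCompletion (maximalIdeal A') A')) := by
      apply ((IsLocalRing.local_hom_TFAE _).out 0 2).mpr
      rw [AdicCompletion.maximalIdeal_eq_map, AdicCompletion.maximalIdeal_eq_map, Ideal.map_map]
      have : (algebraMap (AdicCompletion (maximalIdeal A) A)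
          (AdicCompletion (maximalIdeal A') A')).comp
          (algebraMap A (AdicCompletion (maximalIdeal A) A)) =
          (algebraMap A' (AdicCompletion (maximalIdeal A') A')).comp (algebraMap A A') := by
        apply RingHom.ext
        intro r
        exact complMap_of _ _ (algebraMap A A') h r
      rw [this, ← Ideal.map_map]
      exact Ideal.map_mono h
    exact Module.FaithfullyFlat.of_flat_of_isLocalHom

end Local


section Desc

/-- descent of geometric reducedness of fibres along a faithfully flat map -/
theorem geomReduced_descent (A B C : Type u) [CommRing A] [CommRing B] [CommRing C]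
    [Algebra A B] [Algebra B C] [Algebra A C]
    [IsScalarTower A B C] [Module.FaithfullyFlat B C]
    (hAC : ∀ (p : Ideal A) [p.IsPrime], Algebra.IsGeometricallyReduced p.ResidueField (p.Fiber C))
    (p : Ideal A) [p.IsPrime] : Algebra.IsGeometricallyReduced p.ResidueField (p.Fiber B) := by
  have := hAC p
  let f : p.Fiber B →ₐ[p.ResidueField] p.Fiber C :=
    Algebra.TensorProduct.map (AlgHom.id _ _) (IsScalarTower.toAlgHom A B C)
  refine Algebra.IsGeometricallyReduced.of_injective f ?_
  have key : ∀ x : p.Fiber B, TensorProduct.comm A _ _ (f x) =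
      (IsScalarTower.toAlgHom A B C).toLinearMap.rTensor p.ResidueField
        (TensorProduct.comm A _ _ x) := by
    intro x
    induction x using TensorProduct.induction_on with
    | zero => simp
    | add x y hx hy => simp only [map_add, hx, hy]
    | tmul a b => simp [f]
  intro x y hxy
  apply (TensorProduct.comm A p.ResidueField B).injective
  apply Groth.Agent.Helper7.GeomRed.rTensor_injective_of_faithfullyFlat A B C p.ResidueField
  rw [← key, ← key, hxy]

/-- geometrically regular ⟹ geometrically reduced -/
theorem geomReduced_of_geomRegular (k S : Type u) [Field k] [CommRing S] [Algebra k S]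
    (h : CAlg.IsGeometricallyRegular k S) : Algebra.IsGeometricallyReduced k S := by
  rw [Algebra.isGeometricallyReduced_field_iff]
  have h1 : IsReduced (S ⊗[k] AlgebraicClosure k) := by
    apply IsReduced.tensorProduct_of_flat_of_forall_fg
    intro K hK
    obtain ⟨T, hT⟩ := hK
    let K' : IntermediateField k (AlgebraicClosure k) :=
      IntermediateField.adjoin k (T : Set (AlgebraicClosure k))
    have hK' : K'.toSubalgebra = K := by
      rw [← hT]
      exact IntermediateField.adjoin_toSubalgebra _
    have hfin : Module.Finite k K' :=
      IntermediateField.finiteDimensional_adjoin (fun x _ => Algebra.IsIntegral.isIntegral x)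
    have h2 : IsRegularRing (↥K' ⊗[k] S) := h ↥K' hfin
    have h3 : IsReduced (↥K' ⊗[k] S) :=
      @Groth.Agent.Helper14.RegularLocalization.isReduced_of_isRegularRing (↥K' ⊗[k] S) _ h2
    let g : ↥K ≃ₐ[k] ↥K' := Subalgebra.equivOfEq K K'.toSubalgebra hK'.symm
    let e1 := Algebra.TensorProduct.congr (AlgEquiv.refl : S ≃ₐ[k] S) g
    let e2 := Algebra.TensorProduct.comm k S ↥K'
    exact isReduced_of_injective
      (e2.toRingEquiv.toRingHom.comp e1.toRingEquiv.toRingHom)
      (e2.injective.comp e1.injective)
  exact isReduced_of_injective (Algebra.TensorProduct.comm k _ _).toRingEquiv.toRingHom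
    (Algebra.TensorProduct.comm k _ _).injective

end Desc

section ToLocal

variable (A A' : Type u) [CommRing A] [CommRing A'] [IsNoetherianRing A] [IsNoetherianRing A']
  [IsLocalRing A] [IsLocalRing A'] [Algebra A A'] [IsLocalHom (algebraMap A A')]

theorem geomReducedFormalFibres_of_to_local [Module.Flat A A']
    (hf : ∀ (p : Ideal A) [p.IsPrime], Algebra.IsGeometricallyReduced p.ResidueField (p.Fiber A'))
    (hA' : CAlg.IsRegularHom A' (EGA4.Cpl A')) : EGA4.HasGeomReducedFormalFibres A := by
  obtain ⟨alg, htower, hff⟩ := exists_cplAlgebra A A'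
  letI := alg
  have hflat' : Module.Flat A' (EGA4.Cpl A') := hA'.1
  have hN' : IsNoetherianRing (EGA4.Cpl A') :=
    Groth.Agent.Helper1.isNoetherianRing_adicCompletion_of_fg A' (maximalIdeal A')
      (IsNoetherian.noetherian _)
  have hBC : ∀ (q : Ideal A') [q.IsPrime],
      Algebra.IsGeometricallyReduced q.ResidueField (q.Fiber (EGA4.Cpl A')) :=
    fun q _ => geomReduced_of_geomRegular _ _ (hA'.2 q).2
  have hAC : ∀ (p : Ideal A) [p.IsPrime],
      Algebra.IsGeometricallyReduced p.ResidueField (p.Fiber (EGA4.Cpl A')) :=
    fun p _ => Groth.Agent.Helper7.GeomRed.geomReduced_comp A A' (EGA4.Cpl A') hf hBC p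
  intro p _
  exact geomReduced_descent A (EGA4.Cpl A) (EGA4.Cpl A') hAC p

end ToLocal

end Groth.Agent.Helper7.CplFlat
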