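import Mathlib
import Groth.Agent.Lib.Helper7.CplLocal
import Groth.Agent.Lib.Lead.Fib1
import Groth.Agent.Lib.Helper9.RegLocExt

/-!
# Formal fibres via a flat local homomorphism: Cohen–Macaulay case (helper7)
-/

set_option autoImplicit false
set_option linter.unusedSectionVars false
set_option linter.style.haveILetI false
universe u

namespace Groth.Agent.Helper7.CplFlat

open FSch TensorProduct IsLocalRing Function

theorem isCohenMacaulayRing_of_isRegularRing (R : Type u) [CommRing R] [IsRegularRing R] :
    LocCoh.IsCohenMacaulayRing R := by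
  refine ⟨fun p _ => ?_⟩
  have : IsRegularLocalRing (Localization.AtPrime p) :=
    IsRegularRing.isRegularLocalRing_localization p
  exact ⟨Groth.Agent.Helper9.RegLocExt.isCM_self⟩

section ToLocal

variable (A A' : Type u) [CommRing A] [CommRing A'] [IsNoetherianRing A] [IsNoetherianRing A']
  [IsLocalRing A] [IsLocalRing A'] [Algebra A A'] [IsLocalHom (algebraMap A A')]

theorem cmFormalFibres_of_to_local [Module.Flat A A']
    (hf : ∀ (p : Ideal A) [p.IsPrime], LocCoh.IsCohenMacaulayRing (p.Fiber A'))
    (hA' : CAlg.IsRegularHom A' (EGA4.Cpl A')) : EGA4.HasCMFormalFibres A := by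
  obtain ⟨alg, htower, hff⟩ := exists_cplAlgebra A A'
  letI := alg
  have hflat' : Module.Flat A' (EGA4.Cpl A') := hA'.1
  have hN' : IsNoetherianRing (EGA4.Cpl A') :=
    Groth.Agent.Helper1.isNoetherianRing_adicCompletion_of_fg A' (maximalIdeal A')
      (IsNoetherian.noetherian _)
  have hN : IsNoetherianRing (EGA4.Cpl A) :=
    Groth.Agent.Helper1.isNoetherianRing_adicCompletion_of_fg A (maximalIdeal A)
      (IsNoetherian.noetherian _)
  have hflatA : Module.Flat A (EGA4.Cpl A) := AdicCompletion.flat_of_isNoetherian (maximalIdeal A)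
  have hflatAC : Module.Flat A (EGA4.Cpl A') := Module.Flat.trans A A' (EGA4.Cpl A')
  have hBC : ∀ (q : Ideal A') [q.IsPrime], LocCoh.IsCohenMacaulayRing (q.Fiber (EGA4.Cpl A')) := by
    intro q _
    have h1 : IsRegularRing (TensorProduct q.ResidueField q.ResidueField (q.Fiber (EGA4.Cpl A'))) :=
      (hA'.2 q).2 q.ResidueField inferInstance
    have h2 : IsRegularRing (q.Fiber (EGA4.Cpl A')) :=
      @IsRegularRing.of_ringEquiv _ _ _ _
        (Algebra.TensorProduct.lid q.ResidueField (q.Fiber (EGA4.Cpl A'))).toRingEquiv h1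
    exact isCohenMacaulayRing_of_isRegularRing _
  have hAC : ∀ (p : Ideal A) [p.IsPrime], LocCoh.IsCohenMacaulayRing (p.Fiber (EGA4.Cpl A')) :=
    fun p _ => Groth.Agent.Lead.Fib.isCohenMacaulayRing_fiber_comp hf hBC p
  intro p _
  exact Groth.Agent.Lead.Fib.isCohenMacaulayRing_fiber_descent (B := EGA4.Cpl A)
    (C := EGA4.Cpl A') hAC p

end ToLocal

end Groth.Agent.Helper7.CplFlat
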