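import Mathlib
import Groth.Agent.Lib.Helper14.RegularLocalization
import Groth.Agent.Lib.Helper7.CplLocal2
import Groth.Agent.Lib.Lead.Fib1
import Groth.Agent.Lib.Lead.Flat3
import Groth.Agent.Lib.Lead.Depth21

/-!
# Tensor products of fields, one of them finitely generated, are Cohen–Macaulay (helper7)
-/

set_option autoImplicit false
set_option linter.unusedSectionVars false
set_option linter.style.haveILetI false
universe u

namespace Groth.Agent.Helper7.FieldCM

open TensorProduct IsLocalRing Function
open scoped IntermediateField.algebraAdjoinAdjoin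

theorem isRegularRing_field (L : Type u) [Field L] : IsRegularRing L := inferInstance

theorem isRegularRing_tensor_purelyTranscendental (k L K : Type u) [Field k] [Field L] [Field K]
    [Algebra k L] [Algebra k K] {ι : Type u} [Finite ι] (x : ι → K)
    (hx : AlgebraicIndependent k x) :
    IsRegularRing (L ⊗[k] (IntermediateField.adjoin k (Set.range x))) := by
  have h0 : IsRegularRing (MvPolynomial ι L) := inferInstance
  let e1 : L ⊗[k] MvPolynomial ι k ≃ₐ[L] MvPolynomial ι L := MvPolynomial.algebraTensorAlgEquiv k L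
  let e2 : L ⊗[k] MvPolynomial ι k ≃ₐ[L] L ⊗[k] (Algebra.adjoin k (Set.range x)) :=
    Algebra.TensorProduct.congr AlgEquiv.refl hx.aevalEquiv
  have h1 : IsRegularRing (L ⊗[k] (Algebra.adjoin k (Set.range x))) :=
    @IsRegularRing.of_ringEquiv _ _ _ _ (e1.symm.trans e2).toRingEquiv h0
  exact Groth.Agent.Helper14.RegularLocalization.isRegularRing_tensor_localization L h1
    (nonZeroDivisors (Algebra.adjoin k (Set.range x))) (IntermediateField.adjoin k (Set.range x))


section Sk

open Groth.Agent.Lead.Depth Groth.Agent.Lead.Fib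

/-- `(S_n)` is invariant under ring isomorphisms -/
theorem hasSk_of_ringEquiv {R R' : Type u} [CommRing R] [CommRing R'] [IsNoetherianRing R]
    [IsNoetherianRing R'] (e : R ≃+* R') (n : ℕ) (h : LocCoh.HasSk n R R) :
    LocCoh.HasSk n R' R' := by
  rw [hasSk_self_iff] at h ⊢
  intro p hp
  let f : Localization.AtPrime (p.comap e) ≃+* Localization.AtPrime p :=
    IsLocalization.ringEquivOfRingEquiv
      (Localization.AtPrime (p.comap e)) (Localization.AtPrime p) e (e.map_primeCompl_comap_eq p)
  have h1 := h (p.comap e)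
  rwa [ringKrullDim_eq_of_ringEquiv f, depth_self_eq_of_ringEquiv f] at h1

/-- Cohen–Macaulay rings satisfy `(S_n)` -/
theorem hasSk_of_isCohenMacaulayRing (R : Type u) [CommRing R] [hR : LocCoh.IsCohenMacaulayRing R]
    (n : ℕ) : LocCoh.HasSk n R R := by
  have : IsNoetherianRing R := hR.1
  rw [hasSk_self_iff]
  intro p hp
  have h1 := (hR.isCohenMacaulayLocalRing_localization p).supportDim_eq_depth
  rw [Module.supportDim_self_eq_ringKrullDim] at h1
  rw [h1]
  exact min_le_right _ _

/-- Artinian rings satisfy `(S_n)` -/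
theorem hasSk_of_isArtinianRing (R : Type u) [CommRing R] [IsArtinianRing R]
    (n : ℕ) : LocCoh.HasSk n R R := by
  rw [hasSk_self_iff]
  intro p hp
  have h1 : ringKrullDim (Localization.AtPrime p) ≤ 0 := by
    have : IsArtinianRing (Localization.AtPrime p) := inferInstance
    have h2 : Ring.KrullDimLE 0 (Localization.AtPrime p) := inferInstance
    exact (ringKrullDimZero_iff_ringKrullDim_eq_zero.mp h2).le
  refine (min_le_right _ _).trans (h1.trans ?_)
  exact_mod_cast bot_le

end Sk


section Main

open Groth.Agent.Lead.Depth Groth.Agent.Lead.Fib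

theorem hasSk_tensor_of_finite_over_regular (k E K L : Type u) [Field k] [Field E] [Field K]
    [Field L] [Algebra k E] [Algebra k K] [Algebra E K] [IsScalarTower k E K] [Algebra k L]
    [Module.Finite E K] (hreg : IsRegularRing (E ⊗[k] L)) (n : ℕ)
    [IsNoetherianRing (K ⊗[k] L)] :
    LocCoh.HasSk n (K ⊗[k] L) (K ⊗[k] L) := by
  have hCM := Groth.Agent.Helper7.CplFlat.isCohenMacaulayRing_of_isRegularRing (E ⊗[k] L)
  have hN0 : IsNoetherianRing (E ⊗[k] L) := @IsRegularRing.toIsNoetherian _ _ hreg
  have hN : IsNoetherianRing ((E ⊗[k] L) ⊗[E] K) := IsNoetherianRing.of_finite (E ⊗[k] L) _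
  have h1 : LocCoh.HasSk n ((E ⊗[k] L) ⊗[E] K) ((E ⊗[k] L) ⊗[E] K) := by
    apply hasSk_of_flat_of_fibres (R := E ⊗[k] L) n (hasSk_of_isCohenMacaulayRing _ n)
    intro q _
    have : IsArtinianRing (q.ResidueField ⊗[E ⊗[k] L] ((E ⊗[k] L) ⊗[E] K)) :=
      IsArtinianRing.of_finite q.ResidueField (q.ResidueField ⊗[E ⊗[k] L] ((E ⊗[k] L) ⊗[E] K))
    exact hasSk_of_isArtinianRing (q.ResidueField ⊗[E ⊗[k] L] ((E ⊗[k] L) ⊗[E] K)) n
  let e : ((E ⊗[k] L) ⊗[E] K) ≃+* K ⊗[k] L :=
    (Algebra.TensorProduct.comm E (E ⊗[k] L) K).toRingEquiv.trans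
      (Algebra.TensorProduct.cancelBaseChange k E E K L).toRingEquiv
  exact hasSk_of_ringEquiv e n h1

/-- `K ⊗_k L` satisfies `(S_n)` when `K` is a finitely generated field extension of `k` -/
theorem hasSk_tensor_fields (k K L : Type u) [Field k] [Field K] [Field L] [Algebra k K]
    [Algebra k L] [Algebra.EssFiniteType k K] (n : ℕ) [IsNoetherianRing (K ⊗[k] L)] :
    LocCoh.HasSk n (K ⊗[k] L) (K ⊗[k] L) := by
  obtain ⟨s, hs⟩ := exists_isTranscendenceBasis k K
  have hfin : Finite s := finite_of_isTranscendenceBasis hs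
  have halg : Algebra.IsAlgebraic (IntermediateField.adjoin k (Set.range ((↑) : s → K))) K :=
    hs.isAlgebraic_field
  have hess : Algebra.EssFiniteType (IntermediateField.adjoin k (Set.range ((↑) : s → K))) K :=
    Algebra.EssFiniteType.of_comp k _ K
  have hfinK : Module.Finite (IntermediateField.adjoin k (Set.range ((↑) : s → K))) K :=
    Algebra.finite_of_essFiniteType_of_isAlgebraic
  have hreg0 : IsRegularRing (L ⊗[k] (IntermediateField.adjoin k (Set.range ((↑) : s → K)))) :=
    isRegularRing_tensor_purelyTranscendental k L K ((↑) : s → K) hs.1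
  have hreg : IsRegularRing ((IntermediateField.adjoin k (Set.range ((↑) : s → K))) ⊗[k] L) :=
    @IsRegularRing.of_ringEquiv _ _ _ _ (Algebra.TensorProduct.comm k L _).toRingEquiv hreg0
  exact hasSk_tensor_of_finite_over_regular k
    (IntermediateField.adjoin k (Set.range ((↑) : s → K))) K L hreg n

end Main

end Groth.Agent.Helper7.FieldCM
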