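import Mathlib
import Groth.Agent.Lib.Helper7.CplFlat0
import Groth.Prelude.Def_EGA4b

/-!
# Flat maps from an `I`-adic completion to completions of local rings (helper7)
-/

set_option autoImplicit false
set_option linter.unusedSectionVars false
set_option linter.style.haveILetI false
universe u

namespace Groth.Agent.Helper7.AdicFib

open FSch Groth.Agent.Lib.Helper6.ComplMapLib TensorProduct IsLocalRing Function
open Groth.Agent.Helper7.CplFlat

variable (A : Type u) [CommRing A] [IsNoetherianRing A] (I : Ideal A)

/-- For a maximal ideal `n` of the `I`-adic completion `B` of `A`, with `m = n ∩ A`, there is a flat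
ring map `B → (A_m)^` compatible with the maps from `A`, pulling the maximal ideal back to `n`. -/
theorem exists_flat_to_cpl (n : Ideal (AdicCompletion I A)) [hn : n.IsMaximal] :
    ∃ (m : Ideal A) (_ : m.IsPrime)
      (ψ : AdicCompletion I A →+* EGA4.Cpl (Localization.AtPrime m)),
      m = n.comap (algebraMap A (AdicCompletion I A)) ∧ ψ.Flat ∧ (∀ a : A, ψ (algebraMap A _ a) = algebraMap A (EGA4.Cpl (Localization.AtPrime m)) a) ∧
      (maximalIdeal (EGA4.Cpl (Localization.AtPrime m))).comap ψ = n := by
  have hIfg : I.FG := IsNoetherian.noetherian I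
  let B := AdicCompletion I A
  have hcomp : IsAdicComplete (I.map (algebraMap A B)) B := AdicCompletion.isAdicComplete_self I hIfg
  have hIn : I.map (algebraMap A B) ≤ n :=
    (IsAdicComplete.le_jacobson_bot (I.map (algebraMap A B))).trans (sInf_le ⟨bot_le, hn⟩)
  let m : Ideal A := n.comap (algebraMap A B)
  have hm : m.IsPrime := Ideal.comap_isPrime _ _
  have hIm : I ≤ m := Ideal.le_comap_map.trans (Ideal.comap_mono hIn)
  let Am := Localization.AtPrime m
  have h : I.map (algebraMap A Am) ≤ maximalIdeal Am := by
    rw [← Localization.AtPrime.map_eq_maximalIdeal]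
    exact Ideal.map_mono hIm
  let ψ : B →+* EGA4.Cpl Am := complMap I (maximalIdeal Am) (algebraMap A Am) h
  have hψof : ∀ a : A, ψ (algebraMap A _ a) = algebraMap A (EGA4.Cpl Am) a := by
    intro a
    have h1 : algebraMap A B a = AdicCompletion.of I A a := by
      rw [AdicCompletion.algebraMap_apply, Algebra.algebraMap_self, RingHom.id_apply]
    have h2 : algebraMap A (EGA4.Cpl Am) a =
        AdicCompletion.of (maximalIdeal Am) Am (algebraMap A Am a) := by
      rw [IsScalarTower.algebraMap_apply A Am (EGA4.Cpl Am),
        AdicCompletion.algebraMap_apply, Algebra.algebraMap_self, RingHom.id_apply]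
    rw [h1, h2, complMap_of]
  refine ⟨m, hm, ψ, rfl, ?_, hψof, ?_⟩
  · have := flat_complMap_of_le I (maximalIdeal Am) h
    exact this
  · have hle : n ≤ (maximalIdeal (EGA4.Cpl Am)).comap ψ := by
      intro x hx
      obtain ⟨a, ha⟩ := Ideal.Quotient.mk_surjective (AdicCompletion.evalOneₐ I x)
      have h1 : x - algebraMap A B a ∈ I.map (algebraMap A B) := by
        rw [← AdicCompletion.ker_evalOneₐ_eq_map I hIfg, RingHom.mem_ker]
        have : (AdicCompletion.evalOneₐ I).toRingHom (algebraMap A B a) = Ideal.Quotient.mk I a := by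
          rw [← RingHom.comp_apply, AdicCompletion.evalOneₐ_comp_algebraMap_eq_mk]
        rw [map_sub, this, ha]
        exact sub_self _
      have h2 : algebraMap A B a ∈ n := by
        have := n.sub_mem hx (hIn h1)
        simpa using this
      have ham : a ∈ m := h2
      rw [Ideal.mem_comap]
      have hx' : x = algebraMap A B a + (x - algebraMap A B a) := by ring
      rw [hx', map_add]
      refine Ideal.add_mem _ ?_ ?_
      · rw [hψof, IsScalarTower.algebraMap_apply A Am (EGA4.Cpl Am)]
        have h3 : algebraMap A Am a ∈ maximalIdeal Am :=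
          (IsLocalization.AtPrime.to_map_mem_maximal_iff Am m a).mpr ham
        have hmax : maximalIdeal (EGA4.Cpl Am) = (maximalIdeal Am).map (algebraMap Am (EGA4.Cpl Am)) :=
          AdicCompletion.maximalIdeal_eq_map
        rw [hmax]
        exact Ideal.mem_map_of_mem _ h3
      · have h4 : (I.map (algebraMap A B)).map ψ ≤ maximalIdeal (EGA4.Cpl Am) := by
          rw [Ideal.map_map, Ideal.map_le_iff_le_comap]
          intro b hb
          rw [Ideal.mem_comap, RingHom.comp_apply, hψof,
            IsScalarTower.algebraMap_apply A Am (EGA4.Cpl Am)]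
          have h3 : algebraMap A Am b ∈ maximalIdeal Am :=
            (IsLocalization.AtPrime.to_map_mem_maximal_iff Am m b).mpr (hIm hb)
          have hmax : maximalIdeal (EGA4.Cpl Am) = (maximalIdeal Am).map (algebraMap Am (EGA4.Cpl Am)) :=
            AdicCompletion.maximalIdeal_eq_map
          rw [hmax]
          exact Ideal.mem_map_of_mem _ h3
        exact h4 (Ideal.mem_map_of_mem _ h1)
    have hne : (maximalIdeal (EGA4.Cpl Am)).comap ψ ≠ ⊤ :=
      Ideal.comap_ne_top _ (maximalIdeal.isMaximal _).ne_top
    exact (hn.eq_of_le hne hle).symm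

end Groth.Agent.Helper7.AdicFib
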