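import Mathlib
import Groth.Agent.Lib.Helper7.GeomRed2

/-!
# Finiteness of residue field extensions for `B → B ⊗_A K` (helper7)
-/

set_option autoImplicit false
universe u

namespace Groth.Agent.Helper7.GeomRed

open TensorProduct Function

theorem kerLift_finite (A B : Type u) [CommRing A] [CommRing B] [Algebra A B]
    (p : Ideal A) [p.IsPrime]
    (K : Type u) [Field K] [Algebra A K] [Algebra p.ResidueField K]
    [IsScalarTower A p.ResidueField K] [Module.Finite p.ResidueField K]
    (q' : Ideal (B ⊗[A] K)) [q'.IsPrime] : (kerLift B q'.ResidueField).Finite := by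
  let L := q'.ResidueField
  let q := kerPrime B L
  let k := p.ResidueField
  -- ψ : K → L
  let ψ : K →+* L := (algebraMap (B ⊗[A] K) L).comp
    (Algebra.TensorProduct.includeRight : K →ₐ[A] B ⊗[A] K).toRingHom
  have hψ : ∀ a : A, ψ (algebraMap A K a) = algebraMap A L a := by
    intro a
    simp only [ψ, RingHom.comp_apply, AlgHom.toRingHom_eq_coe, RingHom.coe_coe, AlgHom.commutes]
    rw [← IsScalarTower.algebraMap_apply]
  have hψinj : Injective ψ := ψ.injective
  have hkK : Injective (algebraMap k K) := (algebraMap k K).injective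
  -- φ : k → κ(q)
  have h1 : p ≤ RingHom.ker (algebraMap A q.ResidueField) := by
    intro a ha
    rw [RingHom.mem_ker]
    apply (kerLift B L).injective
    rw [map_zero, IsScalarTower.algebraMap_apply A B q.ResidueField, kerLift_algebraMap,
      ← IsScalarTower.algebraMap_apply, ← hψ, IsScalarTower.algebraMap_apply A k K,
      Ideal.algebraMap_residueField_eq_zero.mpr ha, map_zero, map_zero]
  have h2 : p.primeCompl ≤ (IsUnit.submonoid q.ResidueField).comap (algebraMap A q.ResidueField) := by
    intro a ha
    simp only [Submonoid.mem_comap, IsUnit.mem_submonoid_iff, isUnit_iff_ne_zero]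
    intro h0
    have := congrArg (kerLift B L) h0
    rw [map_zero, IsScalarTower.algebraMap_apply A B q.ResidueField, kerLift_algebraMap,
      ← IsScalarTower.algebraMap_apply, ← hψ, IsScalarTower.algebraMap_apply A k K] at this
    have h3 := hkK (hψinj (this.trans (map_zero ψ).symm) |>.trans (map_zero _).symm)
    exact ha (Ideal.algebraMap_residueField_eq_zero.mp h3)
  let φ : k →+* q.ResidueField := Ideal.ResidueField.lift p (algebraMap A q.ResidueField) h1 h2
  have hcomm : (kerLift B L).comp φ = ψ.comp (algebraMap k K) := by
    apply Ideal.ResidueField.ringHom_ext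
    ext a
    simp only [RingHom.comp_apply, φ, Ideal.ResidueField.lift_algebraMap]
    rw [IsScalarTower.algebraMap_apply A B q.ResidueField, kerLift_algebraMap,
      ← IsScalarTower.algebraMap_apply, ← IsScalarTower.algebraMap_apply A k K, hψ]
  let _ : Algebra q.ResidueField L := (kerLift B L).toAlgebra
  have htower : IsScalarTower B q.ResidueField L := IsScalarTower.of_algebraMap_eq (fun b => by
    rw [RingHom.algebraMap_toAlgebra, kerLift_algebraMap])
  obtain ⟨S₀, hS₀⟩ := (Module.Finite.fg_top : (⊤ : Submodule k K).FG)
  have hint : ∀ x ∈ (ψ '' (S₀ : Set K)), IsIntegral q.ResidueField x := by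
    rintro x ⟨a, _, rfl⟩
    exact IsIntegral.map_of_comp_eq φ ψ hcomm (Algebra.IsIntegral.isIntegral (R := k) a)
  let F : IntermediateField q.ResidueField L :=
    IntermediateField.adjoin q.ResidueField (ψ '' (S₀ : Set K))
  have hFfin : FiniteDimensional q.ResidueField F :=
    IntermediateField.finiteDimensional_adjoin (S := ψ '' (S₀ : Set K)) hint
  have hK : ∀ a : K, ψ a ∈ F := by
    intro a
    have ha : a ∈ Submodule.span k (S₀ : Set K) := by rw [hS₀]; trivial
    induction ha using Submodule.span_induction with
    | mem x hx => exact IntermediateField.subset_adjoin _ _ ⟨x, hx, rfl⟩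
    | zero => rw [map_zero]; exact zero_mem F
    | add x y _ _ hx hy => rw [map_add]; exact add_mem hx hy
    | smul c x _ hx =>
      rw [Algebra.smul_def, map_mul]
      have : ψ (algebraMap k K c) = algebraMap q.ResidueField L (φ c) := by
        have := congrArg (fun f => f c) hcomm
        simp only [RingHom.comp_apply] at this
        rw [← this]
        rfl
      rw [this]
      exact mul_mem (F.algebraMap_mem _) hx
  have hB : ∀ b : B, algebraMap B L b ∈ F := by
    intro b
    rw [IsScalarTower.algebraMap_apply B q.ResidueField L]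
    exact F.algebraMap_mem _
  have hB' : ∀ x : B ⊗[A] K, algebraMap (B ⊗[A] K) L x ∈ F := by
    intro x
    induction x using TensorProduct.induction_on with
    | zero => rw [map_zero]; exact zero_mem F
    | tmul b a =>
      have : b ⊗ₜ[A] a = (algebraMap B (B ⊗[A] K) b) * (1 ⊗ₜ[A] a) := by
        rw [Algebra.TensorProduct.algebraMap_apply, Algebra.TensorProduct.tmul_mul_tmul]
        simp
      rw [this, map_mul, ← IsScalarTower.algebraMap_apply]
      exact mul_mem (hB b) (hK a)
    | add x y hx hy => rw [map_add]; exact add_mem hx hy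
  have htop : ∀ y : L, y ∈ F := by
    intro y
    obtain ⟨x, s, hs, rfl⟩ := IsFractionRing.div_surjective (A := (B ⊗[A] K) ⧸ q') y
    obtain ⟨x, rfl⟩ := Ideal.Quotient.mk_surjective x
    obtain ⟨s, rfl⟩ := Ideal.Quotient.mk_surjective s
    rw [Ideal.algebraMap_quotient_residueField_mk, Ideal.algebraMap_quotient_residueField_mk]
    rw [div_eq_mul_inv]
    exact mul_mem (hB' x) (inv_mem (hB' s))
  show Module.Finite q.ResidueField L
  exact Module.Finite.of_surjective F.val.toLinearMap (fun y => ⟨⟨y, htop y⟩, rfl⟩)


end Groth.Agent.Helper7.GeomRed
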