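import Mathlib
import Groth.Agent.Lib.Helper7.GeomRed2
import Groth.Agent.Lib.Helper7.GeomRedKF

/-!
# General composition theorem for flat maps with geometrically `P` fibres (helper7)
-/

set_option autoImplicit false
universe u

namespace Groth.Agent.Helper7.GeomRed

open TensorProduct Function

section FieldOver

variable (B : Type u) [CommRing B] (L : Type u) [Field L] [Algebra B L]

/-- `P (L ⊗_B C)` for a field `L` over `B` which is finite over the residue field of its kernel,
given that the fibres of `B → C` are "geometrically `P`" -/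
theorem tensor_of_finite (C : Type u) [CommRing C] [Algebra B C]
    (P : ∀ (R : Type u) [CommRing R], Prop)
    (hP : ∀ (R R' : Type u) [CommRing R] [CommRing R'], (R ≃+* R') → P R → P R')
    (hBC : ∀ (q : Ideal B) [q.IsPrime] (k' : Type u) [Field k'] [Algebra q.ResidueField k'],
      Module.Finite q.ResidueField k' → P (k' ⊗[q.ResidueField] (q.Fiber C)))
    (hfin : (kerLift B L).Finite) :
    P (L ⊗[B] C) := by
  let q := kerPrime B L
  let _ : Algebra q.ResidueField L := (kerLift B L).toAlgebra
  have : IsScalarTower B q.ResidueField L := IsScalarTower.of_algebraMap_eq (fun b => by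
    rw [RingHom.algebraMap_toAlgebra, kerLift_algebraMap])
  have hf : Module.Finite q.ResidueField L := hfin
  have h0 := hBC q L hf
  exact hP _ _
    (Algebra.TensorProduct.cancelBaseChange B q.ResidueField q.ResidueField L C).toRingEquiv h0

end FieldOver

section Comp

variable (A B C : Type u) [CommRing A] [CommRing B] [CommRing C]
  [Algebra A B] [Algebra B C] [Algebra A C] [IsScalarTower A B C] [Module.Flat B C]

/-- General composition theorem for "flat with geometrically `P` fibres". -/
theorem geomP_comp
    (P : ∀ (R : Type u) [CommRing R], Prop)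
    (hP : ∀ (R R' : Type u) [CommRing R] [CommRing R'], (R ≃+* R') → P R → P R')
    (hasc : ∀ (R S : Type u) [CommRing R] [CommRing S] [Algebra R S] [IsNoetherianRing R]
      [IsNoetherianRing S] [Module.Flat R S], P R →
      (∀ (q : Ideal R) [q.IsPrime], P (q.Fiber S)) → P S)
    (hAB : ∀ (p : Ideal A) [p.IsPrime] (k' : Type u) [Field k'] [Algebra p.ResidueField k'],
      Module.Finite p.ResidueField k' → P (k' ⊗[p.ResidueField] (p.Fiber B)))
    (hBC : ∀ (q : Ideal B) [q.IsPrime] (k' : Type u) [Field k'] [Algebra q.ResidueField k'],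
      Module.Finite q.ResidueField k' → P (k' ⊗[q.ResidueField] (q.Fiber C)))
    (hNB : ∀ (p : Ideal A) [p.IsPrime] (k' : Type u) [Field k'] [Algebra p.ResidueField k'],
      Module.Finite p.ResidueField k' → IsNoetherianRing (k' ⊗[p.ResidueField] (p.Fiber B)))
    (hNC : ∀ (p : Ideal A) [p.IsPrime] (k' : Type u) [Field k'] [Algebra p.ResidueField k'],
      Module.Finite p.ResidueField k' → IsNoetherianRing (k' ⊗[p.ResidueField] (p.Fiber C)))
    (p : Ideal A) [p.IsPrime] (K : Type u) [Field K] [Algebra p.ResidueField K]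
    (hK : Module.Finite p.ResidueField K) :
    P (K ⊗[p.ResidueField] (p.Fiber C)) := by
  let k := p.ResidueField
  let _ : Algebra A K := ((algebraMap k K).comp (algebraMap A k)).toAlgebra
  have ht : IsScalarTower A k K := IsScalarTower.of_algebraMap_eq (fun a => rfl)
  -- B' = B ⊗ K
  let eB : (B ⊗[A] K) ≃+* K ⊗[k] (k ⊗[A] B) :=
    (Algebra.TensorProduct.comm A B K).toRingEquiv.trans
      (Algebra.TensorProduct.cancelBaseChange A k k K B).symm.toRingEquiv
  have hPB' : P (B ⊗[A] K) := hP _ _ eB.symm (hAB p K hK)
  have hNB' : IsNoetherianRing (B ⊗[A] K) := by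
    have := hNB p K hK
    exact isNoetherianRing_of_ringEquiv _ eB.symm
  -- C' = B' ⊗_B C
  let eC : ((B ⊗[A] K) ⊗[B] C) ≃+* K ⊗[k] (k ⊗[A] C) :=
    (((Algebra.TensorProduct.comm B (B ⊗[A] K) C).toRingEquiv.trans
      (Algebra.TensorProduct.cancelBaseChange A B B C K).toRingEquiv).trans
      (Algebra.TensorProduct.comm A C K).toRingEquiv).trans
      (Algebra.TensorProduct.cancelBaseChange A k k K C).symm.toRingEquiv
  have hNC' : IsNoetherianRing ((B ⊗[A] K) ⊗[B] C) := by
    have := hNC p K hK
    exact isNoetherianRing_of_ringEquiv _ eC.symm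
  have hC' : P ((B ⊗[A] K) ⊗[B] C) := by
    apply hasc (B ⊗[A] K) ((B ⊗[A] K) ⊗[B] C) hPB'
    intro q' _
    have h1 : P (q'.ResidueField ⊗[B] C) :=
      tensor_of_finite B q'.ResidueField C P hP hBC (kerLift_finite A B p K q')
    let e := Algebra.TensorProduct.cancelBaseChange B (B ⊗[A] K) (B ⊗[A] K) q'.ResidueField C
    exact hP _ _ e.symm.toRingEquiv h1
  exact hP _ _ eC hC'

end Comp

end Groth.Agent.Helper7.GeomRed
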