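import Mathlib
import Groth.Agent.Lib.Helper7.GeomRedComp
import Groth.Agent.Lib.Helper14.RegFiber
import Groth.Prelude.Def_Found

/-!
# Composition of regular homomorphisms (helper7)
-/

set_option autoImplicit false
universe u

namespace Groth.Agent.Helper7.GeomRed

open TensorProduct Function

/-- regular ascent along a flat map with regular fibres -/
theorem isRegularRing_of_flat_of_fibres (R S : Type u) [CommRing R] [CommRing S] [Algebra R S]
    [IsNoetherianRing R] [IsNoetherianRing S] [Module.Flat R S] (hR : IsRegularRing R)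
    (hfib : ∀ (q : Ideal R) [q.IsPrime], IsRegularRing (q.Fiber S)) : IsRegularRing S := by
  rw [isRegularRing_iff]
  intro r _
  exact Groth.Agent.Helper14.RegFiber.isRegularLocalRing_localization r
    (IsRegularRing.isRegularLocalRing_localization _) (hfib _)

theorem isNoetherianRing_tensor_of_finite (k K F : Type u) [Field k] [Field K] [Algebra k K]
    [Module.Finite k K] [CommRing F] [Algebra k F] [IsNoetherianRing F] :
    IsNoetherianRing (K ⊗[k] F) := by
  have h1 : Module.Finite F (F ⊗[k] K) := inferInstance
  have h2 : IsNoetherianRing (F ⊗[k] K) := IsNoetherianRing.of_finite F (F ⊗[k] K)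
  exact isNoetherianRing_of_ringEquiv _ (Algebra.TensorProduct.comm k F K).toRingEquiv

/-- composition of regular homomorphisms (fibres of the composite assumed Noetherian) -/
theorem isRegularHom_comp (A B C : Type u) [CommRing A] [CommRing B] [CommRing C]
    [Algebra A B] [Algebra B C] [Algebra A C] [IsScalarTower A B C]
    (hAB : CAlg.IsRegularHom A B) (hBC : CAlg.IsRegularHom B C)
    (hN : ∀ (p : Ideal A) [p.IsPrime], IsNoetherianRing (p.Fiber C)) :
    CAlg.IsRegularHom A C := by
  have hfAB := hAB.1
  have hfBC := hBC.1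
  refine ⟨Module.Flat.trans A B C, fun p _ => ⟨hN p, ?_⟩⟩
  intro K _ _ hK
  refine geomP_comp A B C (fun R _ => IsRegularRing R)
    (fun R R' _ _ e hR => @IsRegularRing.of_ringEquiv R _ R' _ e hR)
    (fun R S _ _ _ _ _ _ hR hfib => isRegularRing_of_flat_of_fibres R S hR hfib)
    (fun p _ k' _ _ hf => (hAB.2 p).2 k' hf)
    (fun q _ k' _ _ hf => (hBC.2 q).2 k' hf)
    (fun p _ k' _ _ hf => ?_) (fun p _ k' _ _ hf => ?_) p K hK
  · have h0 : IsRegularRing (k' ⊗[p.ResidueField] (p.Fiber B)) := (hAB.2 p).2 k' hf
    exact @IsRegularRing.toIsNoetherian _ _ h0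
  · have := hN p
    exact isNoetherianRing_tensor_of_finite p.ResidueField k' (p.Fiber C)

end Groth.Agent.Helper7.GeomRed
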