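import Mathlib
import Groth.Agent.Lib.Helper7.AdicFib
import Groth.Agent.Lib.Helper7.GeomRedComp
import Groth.Agent.Lib.Helper7.RegComp
import Groth.Agent.Lib.Lead.Fib1
import Groth.Agent.Lib.Helper1.AdicNoeth

/-!
# Fibres of `A → Â` (`I`-adic completion) are geometrically `P` (helper7)
-/

set_option autoImplicit false
set_option linter.unusedSectionVars false
set_option linter.style.haveILetI false
universe u

namespace Groth.Agent.Helper7.AdicFib

open TensorProduct IsLocalRing Function
open Groth.Agent.Helper7.GeomRed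

/-- finiteness of `kerLift` from a tower -/
theorem kerLift_finite_of_tower (A A' K : Type u) [CommRing A] [CommRing A'] [Field K]
    [Algebra A A'] [Algebra A K] [Algebra A' K] [IsScalarTower A A' K]
    (p : Ideal A) [p.IsPrime] [Algebra p.ResidueField K] [IsScalarTower A p.ResidueField K]
    [Module.Finite p.ResidueField K] : (kerLift A' K).Finite := by
  let P' := kerPrime A' K
  let k := p.ResidueField
  have hkK : Injective (algebraMap k K) := (algebraMap k K).injective
  have hcompat : ∀ a : A, kerLift A' K (algebraMap A P'.ResidueField a) =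
      algebraMap k K (algebraMap A k a) := by
    intro a
    rw [IsScalarTower.algebraMap_apply A A' P'.ResidueField, kerLift_algebraMap,
      ← IsScalarTower.algebraMap_apply, IsScalarTower.algebraMap_apply A k K]
  have h1 : p ≤ RingHom.ker (algebraMap A P'.ResidueField) := by
    intro a ha
    rw [RingHom.mem_ker]
    apply (kerLift A' K).injective
    rw [map_zero, hcompat, Ideal.algebraMap_residueField_eq_zero.mpr ha, map_zero]
  have h2 : p.primeCompl ≤
      (IsUnit.submonoid P'.ResidueField).comap (algebraMap A P'.ResidueField) := by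
    intro a ha
    simp only [Submonoid.mem_comap, IsUnit.mem_submonoid_iff, isUnit_iff_ne_zero]
    intro h0
    have := congrArg (kerLift A' K) h0
    rw [map_zero, hcompat] at this
    have h3 := hkK (this.trans (map_zero _).symm)
    exact ha (Ideal.algebraMap_residueField_eq_zero.mp h3)
  let φ : k →+* P'.ResidueField := Ideal.ResidueField.lift p (algebraMap A P'.ResidueField) h1 h2
  have hcomm : (kerLift A' K).comp φ = algebraMap k K := by
    apply Ideal.ResidueField.ringHom_ext
    ext a
    simp only [RingHom.comp_apply, φ, Ideal.ResidueField.lift_algebraMap]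
    rw [hcompat]
  have hfin : (algebraMap k K).Finite := RingHom.finite_algebraMap.mpr inferInstance
  rw [← hcomm] at hfin
  exact RingHom.Finite.of_comp_finite hfin

/-- primes of a base change `T ⊗[B] C` along a flat `B → C` -/
theorem exists_prime_tensor_of_flat (B T C : Type u) [CommRing B] [CommRing T] [CommRing C]
    [Algebra B T] [Algebra B C] [Module.Flat B C]
    (Q : Ideal T) [Q.IsPrime] (r : Ideal C) [hr : r.IsPrime]
    (h : r.comap (algebraMap B C) = Q.comap (algebraMap B T)) :
    ∃ Q' : Ideal (T ⊗[B] C), Q'.IsPrime ∧ Q'.comap (algebraMap T (T ⊗[B] C)) = Q := by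
  let q : Ideal B := Q.comap (algebraMap B T)
  have hq : q.IsPrime := Ideal.comap_isPrime _ _
  have h1 : Nontrivial (q.ResidueField ⊗[B] C) :=
    (PrimeSpectrum.nontrivial_iff_mem_rangeComap (S := C) ⟨q, hq⟩).mpr
      ⟨⟨r, hr⟩, PrimeSpectrum.ext h⟩
  let f : q.ResidueField →ₐ[B] Q.ResidueField :=
    Ideal.ResidueField.mapₐ q Q (Algebra.ofId B T) rfl
  have hf : Injective f.toLinearMap := f.toRingHom.injective
  have h2 : Injective (f.toLinearMap.rTensor C) :=
    Module.Flat.rTensor_preserves_injective_linearMap _ hf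
  have h3 : Nontrivial (Q.ResidueField ⊗[B] C) := h2.nontrivial
  let e := Algebra.TensorProduct.cancelBaseChange B T T Q.ResidueField C
  have h4 : Nontrivial (Q.ResidueField ⊗[T] (T ⊗[B] C)) := e.symm.injective.nontrivial
  obtain ⟨Q', hQ'⟩ := (PrimeSpectrum.nontrivial_iff_mem_rangeComap (S := T ⊗[B] C) ⟨Q, ‹_›⟩).mp h4
  exact ⟨Q'.asIdeal, Q'.isPrime, congrArg PrimeSpectrum.asIdeal hQ'⟩


section Main

variable (A : Type u) [CommRing A] [IsNoetherianRing A] (I : Ideal A)

/-- generic theorem: if the formal fibres of the local rings of `A` are geometrically `P`, then so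
are the fibres of `A → Â` for the `I`-adic completion, provided `P` is invariant under
isomorphisms and descends pointwise along flat maps. -/
theorem geomP_adicCompletion
    (P : ∀ (R : Type u) [CommRing R], Prop)
    (hP : ∀ (R R' : Type u) [CommRing R] [CommRing R'], (R ≃+* R') → P R → P R')
    (hdesc : ∀ (T : Type u) [CommRing T] [IsNoetherianRing T],
      (∀ (Q : Ideal T) [Q.IsPrime], ∃ (T' : Type u) (_ : CommRing T') (_ : Algebra T T'),
        IsNoetherianRing T' ∧ Module.Flat T T' ∧ P T' ∧
        ∃ Q' : Ideal T', Q'.IsPrime ∧ Q'.comap (algebraMap T T') = Q) → P T)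
    (hA : ∀ (m : Ideal A) [m.IsPrime] (q : Ideal (Localization.AtPrime m)) [q.IsPrime]
      (k' : Type u) [Field k'] [Algebra q.ResidueField k'], Module.Finite q.ResidueField k' →
      P (k' ⊗[q.ResidueField] (q.Fiber (EGA4.Cpl (Localization.AtPrime m)))))
    (p : Ideal A) [p.IsPrime] (K : Type u) [Field K] [Algebra p.ResidueField K]
    (hK : Module.Finite p.ResidueField K) :
    P (K ⊗[p.ResidueField] (p.Fiber (AdicCompletion I A))) := by
  have hIfg : I.FG := IsNoetherian.noetherian I
  let B := AdicCompletion I A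
  let k := p.ResidueField
  let _ : Algebra A K := ((algebraMap k K).comp (algebraMap A k)).toAlgebra
  have ht : IsScalarTower A k K := IsScalarTower.of_algebraMap_eq (fun a => rfl)
  have hBN : IsNoetherianRing B :=
    Groth.Agent.Helper1.isNoetherianRing_adicCompletion_of_fg A I hIfg
  let eB : (B ⊗[A] K) ≃+* K ⊗[k] (k ⊗[A] B) :=
    (Algebra.TensorProduct.comm A B K).toRingEquiv.trans
      (Algebra.TensorProduct.cancelBaseChange A k k K B).symm.toRingEquiv
  have hNT : IsNoetherianRing (B ⊗[A] K) := by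
    have h0 : IsNoetherianRing (k ⊗[A] B) := Groth.Agent.Lead.Fib.isNoetherianRing_fiber p
    have h1 : IsNoetherianRing (K ⊗[k] (k ⊗[A] B)) :=
      isNoetherianRing_tensor_of_finite k K (k ⊗[A] B)
    exact @isNoetherianRing_of_ringEquiv (K ⊗[k] (k ⊗[A] B)) _ (B ⊗[A] K) _ eB.symm h1
  refine hP _ _ eB ?_
  apply hdesc (B ⊗[A] K)
  intro Q _
  let q : Ideal B := Q.comap (algebraMap B (B ⊗[A] K))
  have hq : q.IsPrime := Ideal.comap_isPrime _ _
  obtain ⟨n, hn, hqn⟩ := Ideal.exists_le_maximal q hq.ne_top
  obtain ⟨m, hm, ψ, hmn, hψflat, hψof, hψn⟩ := exists_flat_to_cpl A I n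
  let Am := Localization.AtPrime m
  let C := EGA4.Cpl Am
  let _ : Algebra B C := ψ.toAlgebra
  have htower : IsScalarTower A B C := IsScalarTower.of_algebraMap_eq (fun a => (hψof a).symm)
  have hflat : Module.Flat B C := hψflat
  have hCN : IsNoetherianRing C :=
    Groth.Agent.Helper1.isNoetherianRing_adicCompletion_of_fg Am (maximalIdeal Am)
      (IsNoetherian.noetherian _)
  -- `K` is an `A_m`-algebra
  have hunit : ∀ s : m.primeCompl, IsUnit (algebraMap A K s) := by
    intro s
    rw [isUnit_iff_ne_zero]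
    intro h0
    refine s.2 (hmn.ge ?_)
    apply hqn
    show algebraMap B (B ⊗[A] K) (algebraMap A B s) ∈ Q
    rw [← IsScalarTower.algebraMap_apply, Algebra.TensorProduct.algebraMap_apply]
    rw [Algebra.algebraMap_eq_smul_one, TensorProduct.smul_tmul, ← Algebra.algebraMap_eq_smul_one,
      h0, TensorProduct.tmul_zero]
    exact Q.zero_mem
  let _ : Algebra Am K :=
    (IsLocalization.lift (M := m.primeCompl) (g := algebraMap A K) hunit).toAlgebra
  have htK : IsScalarTower A Am K :=
    IsScalarTower.of_algebraMap_eq (fun a => (IsLocalization.lift_eq hunit a).symm)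
  -- `P (K ⊗[Am] C)`
  have hfinK : (kerLift Am K).Finite := kerLift_finite_of_tower A Am K p
  have hP1 : P (K ⊗[Am] C) :=
    tensor_of_finite Am K C P hP (fun q _ k' _ _ hf => hA m q k' hf) hfinK
  have e2 : K ⊗[Am] C ≃ₐ[Am] K ⊗[A] C := IsLocalization.algebraTensorEquiv m.primeCompl Am K C
  have hP2 : P (K ⊗[A] C) := hP _ _ e2.toRingEquiv hP1
  let eC : ((B ⊗[A] K) ⊗[B] C) ≃+* K ⊗[A] C :=
    ((Algebra.TensorProduct.comm B (B ⊗[A] K) C).toRingEquiv.trans
      (Algebra.TensorProduct.cancelBaseChange A B B C K).toRingEquiv).trans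
      (Algebra.TensorProduct.comm A C K).toRingEquiv
  have hP3 : P ((B ⊗[A] K) ⊗[B] C) := hP _ _ eC.symm hP2
  -- Noetherian
  have hN3 : IsNoetherianRing ((B ⊗[A] K) ⊗[B] C) := by
    have h0 : IsNoetherianRing (k ⊗[A] C) := Groth.Agent.Lead.Fib.isNoetherianRing_fiber p
    have h1 : IsNoetherianRing (K ⊗[k] (k ⊗[A] C)) :=
      isNoetherianRing_tensor_of_finite k K (k ⊗[A] C)
    let e3 : K ⊗[k] (k ⊗[A] C) ≃+* K ⊗[A] C :=
      (Algebra.TensorProduct.cancelBaseChange A k k K C).toRingEquiv
    exact @isNoetherianRing_of_ringEquiv _ _ _ _ (e3.trans eC.symm) h1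
  -- going down
  have hover : (maximalIdeal C).LiesOver n := ⟨hψn.symm⟩
  obtain ⟨r, hr_le, hr_prime, hr_over⟩ :=
    Ideal.exists_ideal_le_liesOver_of_le (p := q) (q := n) (maximalIdeal C) hqn
  have hrq : r.comap (algebraMap B C) = Q.comap (algebraMap B (B ⊗[A] K)) := hr_over.over.symm
  obtain ⟨Q', hQ'p, hQ'⟩ := exists_prime_tensor_of_flat B (B ⊗[A] K) C Q r hrq
  exact ⟨(B ⊗[A] K) ⊗[B] C, inferInstance, inferInstance, hN3, inferInstance, hP3, Q', hQ'p, hQ'⟩

end Main

end Groth.Agent.Helper7.AdicFib
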