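import Mathlib
import Groth.Agent.Lib.Helper7.GeomRed2
import Groth.Agent.Lib.Lead.CQ1
import Groth.Prelude.Def_EGA4b

/-!
# Transfer of geometric properties of fibres along quotients/localizations; formal fibres of `A/I`
(helper7)
-/

set_option autoImplicit false
universe u

namespace Groth.Agent.Helper7.GeomRed

open TensorProduct Function IsLocalRing FSch

/-- Transfer of a "geometric" property of fibres along a base change `A → A'` which is surjective
on stalks (a localization or a quotient), `B' = A' ⊗_A B`. -/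
theorem fibre_transfer (A B : Type u) [CommRing A] [CommRing B]
    [Algebra A B] (A' B' : Type u) [CommRing A'] [CommRing B'] [Algebra A A'] [Algebra A' B']
    (hf : (algebraMap A A').SurjectiveOnStalks) (e : A' ⊗[A] B ≃ₐ[A'] B')
    (F : ∀ (k k' : Type u) [Field k] [Field k'] [Algebra k k'], Prop)
    (hF : ∀ (k₁ k₂ k' : Type u) [Field k₁] [Field k₂] [Field k'] [Algebra k₁ k₂] [Algebra k₂ k']
      [Algebra k₁ k'] [IsScalarTower k₁ k₂ k'], Bijective (algebraMap k₁ k₂) → F k₂ k' → F k₁ k')
    (P : ∀ (R : Type u) [CommRing R], Prop)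
    (hP : ∀ (R R' : Type u) [CommRing R] [CommRing R'], (R ≃+* R') → P R → P R')
    (h : ∀ (p : Ideal A) [p.IsPrime] (k' : Type u) [Field k'] [Algebra p.ResidueField k'],
      F p.ResidueField k' → P (k' ⊗[p.ResidueField] (p.Fiber B)))
    (p' : Ideal A') [p'.IsPrime] (k' : Type u) [Field k'] [Algebra p'.ResidueField k']
    (hk' : F p'.ResidueField k') :
    P (k' ⊗[p'.ResidueField] (p'.Fiber B')) := by
  let p : Ideal A := p'.comap (algebraMap A A')
  let σ : p.ResidueField →+* p'.ResidueField := Ideal.ResidueField.map p p' (algebraMap A A') rfl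
  have hσ : Bijective σ := RingHom.SurjectiveOnStalks.residueFieldMap_bijective hf p p' rfl
  let L := k'
  let _ : Algebra p.ResidueField p'.ResidueField := σ.toAlgebra
  let _ : Algebra p.ResidueField L := ((algebraMap p'.ResidueField L).comp σ).toAlgebra
  have ht0 : IsScalarTower p.ResidueField p'.ResidueField L := IsScalarTower.of_algebraMap_eq (fun a => rfl)
  have hfin' : F p.ResidueField L := hF p.ResidueField p'.ResidueField L hσ hk'
  let _ : Algebra A' L := ((algebraMap p'.ResidueField L).comp (algebraMap A' p'.ResidueField)).toAlgebra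
  have ht1 : IsScalarTower A' p'.ResidueField L := IsScalarTower.of_algebraMap_eq (fun a => rfl)
  let _ : Algebra A L := ((algebraMap A' L).comp (algebraMap A A')).toAlgebra
  have ht2 : IsScalarTower A A' L := IsScalarTower.of_algebraMap_eq (fun a => rfl)
  have htower : IsScalarTower A p.ResidueField L := IsScalarTower.of_algebraMap_eq (fun a => by
    show algebraMap p'.ResidueField L (algebraMap A' p'.ResidueField (algebraMap A A' a)) =
      algebraMap p'.ResidueField L (σ (algebraMap A p.ResidueField a))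
    rw [Ideal.ResidueField.map_algebraMap])
  let e1 := Algebra.TensorProduct.cancelBaseChange A' p'.ResidueField p'.ResidueField L B'
  let e2 : L ⊗[A'] (A' ⊗[A] B) ≃ₐ[L] L ⊗[A'] B' :=
    Algebra.TensorProduct.congr AlgEquiv.refl e
  let e3 := Algebra.TensorProduct.cancelBaseChange A A' A' L B
  let e4 := Algebra.TensorProduct.cancelBaseChange A p.ResidueField p.ResidueField L B
  have h0 := h p L hfin'
  exact hP _ _ (((e4.toRingEquiv.trans e3.symm.toRingEquiv).trans e2.toRingEquiv).trans
    e1.symm.toRingEquiv) h0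

theorem finite_of_bijective (k₁ k₂ k' : Type u) [Field k₁] [Field k₂] [Field k'] [Algebra k₁ k₂]
    [Algebra k₂ k'] [Algebra k₁ k'] [IsScalarTower k₁ k₂ k'] (hb : Bijective (algebraMap k₁ k₂))
    (h : Module.Finite k₂ k') : Module.Finite k₁ k' := by
  have hf0 : Module.Finite k₁ k₂ := Module.Finite.of_surjective (Algebra.linearMap k₁ k₂) hb.2
  exact Module.Finite.trans k₂ k'

theorem isAlgebraic_of_bijective (k₁ k₂ k' : Type u) [Field k₁] [Field k₂] [Field k'] [Algebra k₁ k₂]
    [Algebra k₂ k'] [Algebra k₁ k'] [IsScalarTower k₁ k₂ k'] (hb : Bijective (algebraMap k₁ k₂))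
    (h : Algebra.IsAlgebraic k₂ k') : Algebra.IsAlgebraic k₁ k' := by
  have hf0 : Module.Finite k₁ k₂ := Module.Finite.of_surjective (Algebra.linearMap k₁ k₂) hb.2
  have : Algebra.IsAlgebraic k₁ k₂ := inferInstance
  exact Algebra.IsAlgebraic.trans k₁ k₂ k'

section Cpl

variable (A : Type u) [CommRing A] [IsNoetherianRing A] [IsLocalRing A]
  (I : Ideal A) [Nontrivial (A ⧸ I)]

example : IsLocalRing (A ⧸ I) := inferInstance

/-- `Cpl (A/I) ≅ (A/I) ⊗_A Cpl A` as `A/I`-algebras. -/
theorem exists_cpl_quotient_equiv :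
    Nonempty ((A ⧸ I) ⊗[A] (AdicCompletion (maximalIdeal A) A) ≃ₐ[A ⧸ I]
      AdicCompletion (maximalIdeal (A ⧸ I)) (A ⧸ I)) := by
  let g : A →+* A ⧸ I := Ideal.Quotient.mk I
  have hg : Surjective g := Ideal.Quotient.mk_surjective
  have hK : (maximalIdeal A).map g = maximalIdeal (A ⧸ I) :=
    IsLocalRing.map_maximalIdeal_of_surjective g hg
  let ψ := complMap (maximalIdeal A) (maximalIdeal (A ⧸ I)) g hK.le
  have hψs : Surjective ψ :=
    Groth.Agent.Lead.CQ.complMap_surjective (maximalIdeal A) (maximalIdeal (A ⧸ I)) g hg hK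
  have hψk : RingHom.ker ψ = I.map (algebraMap A (AdicCompletion (maximalIdeal A) A)) := by
    have := Groth.Agent.Lead.CQ.ker_complMap (maximalIdeal A) (maximalIdeal (A ⧸ I)) g hg hK
    rw [this, Ideal.mk_ker]
  have hψof : ∀ a : A, ψ (algebraMap A (AdicCompletion (maximalIdeal A) A) a) =
      algebraMap (A ⧸ I) (AdicCompletion (maximalIdeal (A ⧸ I)) (A ⧸ I)) (g a) := by
    intro a
    have h1 : algebraMap A (AdicCompletion (maximalIdeal A) A) a =
        AdicCompletion.of (maximalIdeal A) A a := by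
      rw [AdicCompletion.algebraMap_apply, Algebra.algebraMap_self, RingHom.id_apply]
    have h2 : algebraMap (A ⧸ I) (AdicCompletion (maximalIdeal (A ⧸ I)) (A ⧸ I)) (g a) =
        AdicCompletion.of (maximalIdeal (A ⧸ I)) (A ⧸ I) (g a) := by
      rw [AdicCompletion.algebraMap_apply, Algebra.algebraMap_self, RingHom.id_apply]
    rw [h1, h2, Groth.Agent.Lib.Helper6.ComplMapLib.complMap_of]
  let e0 : (AdicCompletion (maximalIdeal A) A ⧸
      I.map (algebraMap A (AdicCompletion (maximalIdeal A) A))) ≃+*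
      AdicCompletion (maximalIdeal (A ⧸ I)) (A ⧸ I) :=
    (Ideal.quotEquivOfEq hψk.symm).trans (RingHom.quotientKerEquivOfSurjective hψs)
  have he0 : ∀ x, e0 (Ideal.Quotient.mk _ x) = ψ x := fun x => rfl
  let e0' : (AdicCompletion (maximalIdeal A) A ⧸
      I.map (algebraMap A (AdicCompletion (maximalIdeal A) A))) ≃ₐ[A ⧸ I]
      AdicCompletion (maximalIdeal (A ⧸ I)) (A ⧸ I) :=
    AlgEquiv.ofRingEquiv (f := e0) (by
      intro x
      obtain ⟨a, rfl⟩ := Ideal.Quotient.mk_surjective x
      have : algebraMap (A ⧸ I) (AdicCompletion (maximalIdeal A) A ⧸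
          I.map (algebraMap A (AdicCompletion (maximalIdeal A) A))) (Ideal.Quotient.mk I a) =
          Ideal.Quotient.mk _ (algebraMap A (AdicCompletion (maximalIdeal A) A) a) := rfl
      rw [this, he0, hψof])
  exact ⟨(Algebra.TensorProduct.quotIdealMapEquivQuotTensor
    (AdicCompletion (maximalIdeal A) A) I).symm.trans e0'⟩

end Cpl


theorem isNormalRing_of_ringEquiv (R R' : Type u) [CommRing R] [CommRing R'] (e : R ≃+* R')
    (hR : EGA4.IsNormalRing R) : EGA4.IsNormalRing R' := by
  intro p hp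
  let f : Localization.AtPrime (p.comap e) ≃+* Localization.AtPrime p :=
    IsLocalization.ringEquivOfRingEquiv
      (Localization.AtPrime (p.comap e)) (Localization.AtPrime p) e (e.map_primeCompl_comap_eq p)
  obtain ⟨h1, h2⟩ := hR (p.comap e)
  have h3 : IsDomain (Localization.AtPrime p) := f.toMulEquiv.isDomain_iff.mp h1
  exact ⟨h3, IsIntegrallyClosed.of_equiv f⟩

section Cpl2

variable (A : Type u) [CommRing A] [IsNoetherianRing A] [IsLocalRing A]
  (I : Ideal A) [Nontrivial (A ⧸ I)]

/-- transfer of properties of formal fibres from `A` to `A/I` -/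
theorem formalFibre_transfer_quotient
    (F : ∀ (k k' : Type u) [Field k] [Field k'] [Algebra k k'], Prop)
    (hF : ∀ (k₁ k₂ k' : Type u) [Field k₁] [Field k₂] [Field k'] [Algebra k₁ k₂] [Algebra k₂ k']
      [Algebra k₁ k'] [IsScalarTower k₁ k₂ k'], Bijective (algebraMap k₁ k₂) → F k₂ k' → F k₁ k')
    (P : ∀ (R : Type u) [CommRing R], Prop)
    (hP : ∀ (R R' : Type u) [CommRing R] [CommRing R'], (R ≃+* R') → P R → P R')
    (h : ∀ (p : Ideal A) [p.IsPrime] (k' : Type u) [Field k'] [Algebra p.ResidueField k'],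
      F p.ResidueField k' → P (k' ⊗[p.ResidueField] (EGA4.formalFibre A p)))
    (p' : Ideal (A ⧸ I)) [p'.IsPrime] (k' : Type u) [Field k'] [Algebra p'.ResidueField k']
    (hk' : F p'.ResidueField k') :
    P (k' ⊗[p'.ResidueField] (EGA4.formalFibre (A ⧸ I) p')) := by
  obtain ⟨e⟩ := exists_cpl_quotient_equiv A I
  exact fibre_transfer A (EGA4.Cpl A) (A ⧸ I) (EGA4.Cpl (A ⧸ I))
    (RingHom.surjectiveOnStalks_of_surjective Ideal.Quotient.mk_surjective) e F hF P hP h p' k' hk'

end Cpl2

end Groth.Agent.Helper7.GeomRed
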