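import Mathlib
import Groth.Agent.Lib.Helper7.AdicFib2
import Groth.Agent.Lib.Helper7.GeomRed3
import Groth.Agent.Lib.Lead.Hom14
import Groth.Agent.Lib.Helper29.NormDesc

/-!
# Fibres of `A → Â`: regular, normal, reduced cases (helper7)
-/

set_option autoImplicit false
set_option linter.unusedSectionVars false
set_option linter.style.haveILetI false
universe u

namespace Groth.Agent.Helper7.AdicFib

open TensorProduct IsLocalRing Function
open Groth.Agent.Helper7.GeomRed

/-- geometric reducedness from finite extensions -/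
theorem geomReduced_of_finite (k S : Type u) [Field k] [CommRing S] [Algebra k S]
    (h : ∀ (K : Type u) [Field K] [Algebra k K], Module.Finite k K → IsReduced (K ⊗[k] S)) :
    Algebra.IsGeometricallyReduced k S := by
  rw [Algebra.isGeometricallyReduced_field_iff]
  have h1 : IsReduced (S ⊗[k] AlgebraicClosure k) := by
    apply IsReduced.tensorProduct_of_flat_of_forall_fg
    intro K hK
    obtain ⟨S₀, hS⟩ := hK
    let K' : IntermediateField k (AlgebraicClosure k) :=
      IntermediateField.adjoin k (S₀ : Set (AlgebraicClosure k))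
    have hK' : K'.toSubalgebra = K := by
      rw [← hS]
      exact IntermediateField.adjoin_toSubalgebra _
    have hfin : Module.Finite k K' :=
      IntermediateField.finiteDimensional_adjoin (fun x _ => Algebra.IsIntegral.isIntegral x)
    have h2 : IsReduced (↥K' ⊗[k] S) := h ↥K' hfin
    let g : ↥K ≃ₐ[k] ↥K' := Subalgebra.equivOfEq K K'.toSubalgebra hK'.symm
    let e1 := Algebra.TensorProduct.congr (AlgEquiv.refl : S ≃ₐ[k] S) g
    let e2 := Algebra.TensorProduct.comm k S ↥K'
    exact isReduced_of_injective
      (e2.toRingEquiv.toRingHom.comp e1.toRingEquiv.toRingHom)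
      (e2.injective.comp e1.injective)
  exact isReduced_of_injective (Algebra.TensorProduct.comm k _ _).toRingEquiv.toRingHom
    (Algebra.TensorProduct.comm k _ _).injective

section Loc

variable (T T' : Type u) [CommRing T] [CommRing T'] [Algebra T T'] [Module.Flat T T']
  (Q : Ideal T) [Q.IsPrime] (Q' : Ideal T') [Q'.IsPrime] (h : Q'.comap (algebraMap T T') = Q)

include h in
theorem exists_faithfullyFlat_loc :
    ∃ (_ : Algebra (Localization.AtPrime Q) (Localization.AtPrime Q')),
      IsLocalHom (algebraMap (Localization.AtPrime Q) (Localization.AtPrime Q')) ∧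
      Module.FaithfullyFlat (Localization.AtPrime Q) (Localization.AtPrime Q') := by
  let f := Localization.localRingHom Q Q' (algebraMap T T') h.symm
  have hflat : (algebraMap T T').Flat := RingHom.flat_algebraMap_iff.mpr inferInstance
  have h1 : f.Flat := hflat.localRingHom Q' Q h.symm
  have h2 : IsLocalHom f := Localization.isLocalHom_localRingHom Q Q' (algebraMap T T') h.symm
  let _ : Algebra (Localization.AtPrime Q) (Localization.AtPrime Q') := f.toAlgebra
  have h3 : IsLocalHom (algebraMap (Localization.AtPrime Q) (Localization.AtPrime Q')) := h2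
  have h4 : Module.Flat (Localization.AtPrime Q) (Localization.AtPrime Q') := h1
  exact ⟨f.toAlgebra, h3, Module.FaithfullyFlat.of_flat_of_isLocalHom⟩

end Loc

/-- pointwise descent of reducedness -/
theorem isReduced_pointwise_descent (T : Type u) [CommRing T]
    (H : ∀ (Q : Ideal T) [Q.IsPrime], ∃ (T' : Type u) (_ : CommRing T') (_ : Algebra T T'),
        IsNoetherianRing T' ∧ Module.Flat T T' ∧ IsReduced T' ∧
        ∃ Q' : Ideal T', Q'.IsPrime ∧ Q'.comap (algebraMap T T') = Q) : IsReduced T := by
  apply isReduced_ofLocalizationMaximal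
  intro Q hQ
  have hQp : Q.IsPrime := hQ.isPrime
  obtain ⟨T', _, _, _, hfl, hred, Q', hQ', hQQ'⟩ := H Q
  obtain ⟨_, hloc, hff⟩ := exists_faithfullyFlat_loc T T' Q Q' hQQ'
  have : IsReduced (Localization.AtPrime Q') := inferInstance
  exact isReduced_of_injective (algebraMap (Localization.AtPrime Q) (Localization.AtPrime Q'))
    (FaithfulSMul.algebraMap_injective _ _)

/-- pointwise descent of normality -/
theorem isNormalRing_pointwise_descent (T : Type u) [CommRing T]
    (H : ∀ (Q : Ideal T) [Q.IsPrime], ∃ (T' : Type u) (_ : CommRing T') (_ : Algebra T T'),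
        IsNoetherianRing T' ∧ Module.Flat T T' ∧ EGA4.IsNormalRing T' ∧
        ∃ Q' : Ideal T', Q'.IsPrime ∧ Q'.comap (algebraMap T T') = Q) : EGA4.IsNormalRing T := by
  intro Q hQp
  obtain ⟨T', _, _, _, hfl, hnor, Q', hQ', hQQ'⟩ := H Q
  obtain ⟨_, hloc, hff⟩ := exists_faithfullyFlat_loc T T' Q Q' hQQ'
  obtain ⟨hdom, hic⟩ := hnor Q'
  exact ⟨Groth.Agent.Helper29.NormDesc.isDomain_of_faithfullyFlat
      (Localization.AtPrime Q) (Localization.AtPrime Q'),
    Groth.Agent.Helper29.NormDesc.isIntegrallyClosed_of_faithfullyFlat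
      (Localization.AtPrime Q) (Localization.AtPrime Q')⟩

/-- pointwise descent of regularity -/
theorem isRegularRing_pointwise_descent (T : Type u) [CommRing T] [IsNoetherianRing T]
    (H : ∀ (Q : Ideal T) [Q.IsPrime], ∃ (T' : Type u) (_ : CommRing T') (_ : Algebra T T'),
        IsNoetherianRing T' ∧ Module.Flat T T' ∧ IsRegularRing T' ∧
        ∃ Q' : Ideal T', Q'.IsPrime ∧ Q'.comap (algebraMap T T') = Q) : IsRegularRing T := by
  rw [isRegularRing_iff]
  intro Q hQp
  obtain ⟨T', _, _, _, hfl, hreg, Q', hQ', hQQ'⟩ := H Q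
  obtain ⟨_, hloc, hff⟩ := exists_faithfullyFlat_loc T T' Q Q' hQQ'
  have : IsRegularLocalRing (Localization.AtPrime Q') :=
    IsRegularRing.isRegularLocalRing_localization _
  exact Groth.Agent.Lead.Hom.isRegularLocalRing_of_flat (Localization.AtPrime Q)
    (Localization.AtPrime Q')


section Final

variable (A : Type u) [CommRing A] [IsNoetherianRing A]

theorem geomReduced_adicCompletion
    (hA : ∀ (p : Ideal A) [p.IsPrime],
      EGA4.HasGeomReducedFormalFibres (Localization.AtPrime p)) (I : Ideal A) :
    Module.Flat A (AdicCompletion I A) ∧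
      ∀ (p : Ideal A) [p.IsPrime],
        Algebra.IsGeometricallyReduced p.ResidueField (p.Fiber (AdicCompletion I A)) := by
  refine ⟨AdicCompletion.flat_of_isNoetherian I, fun p _ => ?_⟩
  apply geomReduced_of_finite
  intro K _ _ hK
  refine geomP_adicCompletion A I (fun R _ => IsReduced R)
    (fun R R' _ _ e h => isReduced_of_injective e.symm.toRingHom e.symm.injective)
    (fun T _ _ H => isReduced_pointwise_descent T H)
    (fun m _ q _ k' _ _ hf => ?_) p K hK
  have := hA m q
  infer_instance

theorem isNormalHom_adicCompletion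
    (hA : ∀ (p : Ideal A) [p.IsPrime],
      EGA4.HasGeomNormalFormalFibres (Localization.AtPrime p)) (I : Ideal A) :
    EGA4.IsNormalHom A (AdicCompletion I A) := by
  refine ⟨AdicCompletion.flat_of_isNoetherian I, fun p _ => ?_⟩
  intro K _ _ hK
  exact geomP_adicCompletion A I (fun R _ => EGA4.IsNormalRing R)
    (fun R R' _ _ e h => isNormalRing_of_ringEquiv R R' e h)
    (fun T _ _ H => isNormalRing_pointwise_descent T H)
    (fun m _ q _ k' _ _ hf => hA m q k' hf) p K hK

theorem isRegularHom_adicCompletion (hA : CAlg.IsGRing A) (I : Ideal A) :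
    CAlg.IsRegularHom A (AdicCompletion I A) := by
  have hBN : IsNoetherianRing (AdicCompletion I A) :=
    Groth.Agent.Helper1.isNoetherianRing_adicCompletion_of_fg A I (IsNoetherian.noetherian I)
  refine ⟨AdicCompletion.flat_of_isNoetherian I, fun p _ =>
    ⟨Groth.Agent.Lead.Fib.isNoetherianRing_fiber p, ?_⟩⟩
  intro K _ _ hK
  exact geomP_adicCompletion A I (fun R _ => IsRegularRing R)
    (fun R R' _ _ e hR => @IsRegularRing.of_ringEquiv R _ R' _ e hR)
    (fun T _ _ H => isRegularRing_pointwise_descent T H)
    (fun m _ q _ k' _ _ hf => ((hA.2 m).2 q).2 k' hf) p K hK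

end Final

end Groth.Agent.Helper7.AdicFib
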