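import Mathlib
import Groth.Agent.Lib.Lead.Hom2

/-!
# Regular local rings: invertible modules over localizations are free (helper7)

* `isStablyFree_baseChange`: a finite module of finite projective dimension over a Noetherian
  local ring becomes stably free after any flat base change making it projective.
* `exists_finite_descent`: finite modules over a localization descend to finite modules.
* `free_of_invertible_localization`: for a regular local ring `R` and a localization `S` of `R`,
  every invertible `S`-module is free.
-/

set_option autoImplicit false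
set_option linter.unusedSectionVars false
set_option linter.style.haveILetI false
universe u

namespace Groth.Agent.Helper7.RegUFD

open TensorProduct IsLocalRing CategoryTheory Module

section StablyFree

variable (R : Type u) [CommRing R] [IsLocalRing R] [IsNoetherianRing R]
  (S : Type u) [CommRing S] [Algebra R S] [Module.Flat R S]

/-- The statement proved by induction (a plain definition so that the induction hypothesis is not
picked up by instance search). -/
def StablyFreeStatement (n : ℕ) : Prop :=
  ∀ (M : Type u) [AddCommGroup M] [Module R M] [Module.Finite R M],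
    HasProjectiveDimensionLT (ModuleCat.of R M) (n + 1) → Module.Projective S (S ⊗[R] M) →
    Module.IsStablyFree S (S ⊗[R] M)

/-- a split short exact sequence gives a product decomposition -/
theorem exists_equiv_prod_of_split {A : Type u} [CommRing A] {K P M : Type u}
    [AddCommGroup K] [Module A K] [AddCommGroup P] [Module A P] [AddCommGroup M] [Module A M]
    (i : K →ₗ[A] P) (g : P →ₗ[A] M) (hi : Function.Injective i)
    (hex : Function.Exact i g) (s : M →ₗ[A] P) (hs : g ∘ₗ s = LinearMap.id) :
    ∃ e : (K × M) ≃ₗ[A] P, ∀ k m, e (k, m) = i k + s m := by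
  have hgs : ∀ m, g (s m) = m := fun m => LinearMap.congr_fun hs m
  let e : (K × M) →ₗ[A] P := i.coprod s
  have hinj : Function.Injective e := by
    rw [← LinearMap.ker_eq_bot, LinearMap.ker_eq_bot']
    rintro ⟨k, m⟩ hkm
    have h1 : i k + s m = 0 := by simpa [e] using hkm
    have h2 : g (i k + s m) = 0 := by rw [h1, map_zero]
    rw [map_add, hgs, (hex (i k)).2 ⟨k, rfl⟩, zero_add] at h2
    subst h2
    rw [map_zero, add_zero] at h1
    have : k = 0 := hi (by rw [h1, map_zero])
    subst this
    rfl
  have hsurj : Function.Surjective e := by
    intro p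
    have h1 : g (p - s (g p)) = 0 := by rw [map_sub, hgs, sub_self]
    obtain ⟨k, hk⟩ := (hex _).1 h1
    refine ⟨(k, g p), ?_⟩
    simp [e, hk]
  exact ⟨LinearEquiv.ofBijective e ⟨hinj, hsurj⟩, fun k m => by simp [e]⟩

theorem stablyFree_aux (n : ℕ) : StablyFreeStatement R S n := by
  induction n with
  | zero =>
    intro M _ _ _ hpd _
    haveI : CategoryTheory.Projective (ModuleCat.of R M) :=
      projective_iff_hasProjectiveDimensionLT_one.mpr hpd
    haveI : Module.Projective R M := (IsProjective.iff_projective M).mpr inferInstance
    haveI : Module.Free R M := Module.free_of_flat_of_isLocalRing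
    infer_instance
  | succ n ih =>
    intro M _ _ _ hpd hproj
    obtain ⟨P, _, _, _, _, f, surjf⟩ := Module.exists_finite_presentation R M
    let C := f.shortComplexKer
    have hC : C.ShortExact := LinearMap.shortExact_shortComplexKer surjf
    have hKpd : HasProjectiveDimensionLT (ModuleCat.of R (LinearMap.ker f)) (n + 1) := by
      have hPpd : HasProjectiveDimensionLT C.X₂ (n + 1) := by
        haveI : Module.Projective R P := Module.Projective.of_free
        haveI : CategoryTheory.Projective C.X₂ := (IsProjective.iff_projective _).mp inferInstance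
        exact hasProjectiveDimensionLT_of_ge C.X₂ 1 (n + 1) (by omega)
      exact hC.hasProjectiveDimensionLT_X₁ (n + 1) hPpd hpd
    -- the tensored sequence
    let i : S ⊗[R] (LinearMap.ker f) →ₗ[S] S ⊗[R] P := (LinearMap.ker f).subtype.baseChange S
    let g : S ⊗[R] P →ₗ[S] S ⊗[R] M := f.baseChange S
    have hi : Function.Injective i :=
      Module.Flat.lTensor_preserves_injective_linearMap (M := S) (LinearMap.ker f).subtype
        (LinearMap.ker f).injective_subtype
    have hex0 : Function.Exact (LinearMap.ker f).subtype f := fun p => by
      constructor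
      · intro hp
        exact ⟨⟨p, hp⟩, rfl⟩
      · rintro ⟨k, rfl⟩
        exact k.2
    have hex : Function.Exact i g := lTensor_exact S hex0 surjf
    have hg : Function.Surjective g := LinearMap.lTensor_surjective S surjf
    obtain ⟨s, hs⟩ := Module.projective_lifting_property g LinearMap.id hg
    obtain ⟨e, he⟩ := exists_equiv_prod_of_split i g hi hex s hs
    -- the kernel is projective
    haveI : Module.Projective S (S ⊗[R] P) := Module.Projective.of_free
    haveI hKproj : Module.Projective S (S ⊗[R] (LinearMap.ker f)) := by
      refine Module.Projective.of_split i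
        ((LinearMap.fst S _ (S ⊗[R] M)).comp e.symm.toLinearMap) (LinearMap.ext fun k => ?_)
      have h1 : e.symm (i k) = (k, 0) := by
        rw [LinearEquiv.symm_apply_eq, he, map_zero, add_zero]
      simp [h1]
    haveI hK : Module.IsStablyFree S (S ⊗[R] (LinearMap.ker f)) :=
      ih (LinearMap.ker f) hKpd hKproj
    obtain ⟨N, _, _, _, _, hfree⟩ := IsStablyFree.exist_free_prod S (S ⊗[R] (LinearMap.ker f))
    haveI := hfree
    let e' : ((S ⊗[R] P) × N) ≃ₗ[S] (S ⊗[R] M) × ((S ⊗[R] (LinearMap.ker f)) × N) :=
      ((e.symm.prodCongr (LinearEquiv.refl S N)).trans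
        ((LinearEquiv.prodComm S _ _).prodCongr (LinearEquiv.refl S N))).trans
        (LinearEquiv.prodAssoc S _ _ _)
    haveI : Module.Free S ((S ⊗[R] M) × ((S ⊗[R] (LinearMap.ker f)) × N)) :=
      Module.Free.of_equiv e'
    exact IsStablyFree.of_free_prod S (S ⊗[R] M) ((S ⊗[R] (LinearMap.ker f)) × N)

/-- A finite module of finite projective dimension over a Noetherian local ring becomes stably free
after any flat base change making it projective. -/
theorem isStablyFree_baseChange (n : ℕ) (M : Type u) [AddCommGroup M] [Module R M]
    [Module.Finite R M] (hpd : HasProjectiveDimensionLT (ModuleCat.of R M) (n + 1))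
    (hproj : Module.Projective S (S ⊗[R] M)) : Module.IsStablyFree S (S ⊗[R] M) :=
  stablyFree_aux R S n M hpd hproj

end StablyFree

section Descent

/-- Finite modules over a localization descend to finite modules over the base. -/
theorem exists_finite_descent {R : Type u} [CommRing R] (T : Submonoid R) (S : Type u)
    [CommRing S] [Algebra R S] [IsLocalization T S] (L : Type u) [AddCommGroup L] [Module R L] [Module S L]
    [IsScalarTower R S L] [Module.Finite S L] :
    ∃ (M : Type u) (_ : AddCommGroup M) (_ : Module R M) (_ : Module.Finite R M),
      Nonempty (S ⊗[R] M ≃ₗ[S] L) := by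
  obtain ⟨G, hG⟩ := Module.finite_def.mp ‹Module.Finite S L›
  let M : Submodule R L := Submodule.span R (G : Set L)
  have hMfin : Module.Finite R M := Module.Finite.span_of_finite R G.finite_toSet
  let f : M →ₗ[R] L := M.subtype
  have hloc : IsLocalizedModule T f := by
    refine ⟨fun t => ?_, fun y => ?_, fun {x₁ x₂} h => ⟨1, ?_⟩⟩
    · rw [Module.End.isUnit_iff]
      obtain ⟨u, hu⟩ := IsLocalization.map_units S t
      have h1 : (⇑(algebraMap R (Module.End R L) (t : R)) : L → L) = fun x => u • x := by
        funext x
        rw [Module.algebraMap_end_apply, Units.smul_def, hu, algebraMap_smul]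
      rw [h1]
      exact MulAction.bijective u
    · have hy : y ∈ Submodule.span S (G : Set L) := by rw [hG]; trivial
      induction hy using Submodule.span_induction with
      | mem y hy => exact ⟨(⟨y, Submodule.subset_span hy⟩, 1), one_smul _ _⟩
      | zero => exact ⟨(0, 1), by simp⟩
      | add y₁ y₂ _ _ h₁ h₂ =>
        obtain ⟨⟨m₁, t₁⟩, h₁⟩ := h₁
        obtain ⟨⟨m₂, t₂⟩, h₂⟩ := h₂
        refine ⟨((t₂ : R) • m₁ + (t₁ : R) • m₂, t₁ * t₂), ?_⟩
        have e1 : (t₁ : R) • y₁ = f m₁ := h₁
        have e2 : (t₂ : R) • y₂ = f m₂ := h₂
        show ((t₁ * t₂ : T) : R) • (y₁ + y₂) = f ((t₂ : R) • m₁ + (t₁ : R) • m₂)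
        rw [map_add, map_smul, map_smul, ← e1, ← e2, Submonoid.coe_mul, smul_add, smul_smul,
          smul_smul, mul_comm (t₂ : R) (t₁ : R)]
      | smul a y _ h =>
        obtain ⟨⟨m, t⟩, h⟩ := h
        obtain ⟨⟨r, t'⟩, hrt⟩ := IsLocalization.surj T a
        refine ⟨(r • m, t' * t), ?_⟩
        have e1 : (t : R) • y = f m := h
        have hrt' : a * algebraMap R S (t' : R) = algebraMap R S r := hrt
        show ((t' * t : T) : R) • (a • y) = f (r • m)
        rw [map_smul, ← e1, Submonoid.coe_mul]
        have h2 : algebraMap R S ((t' : R) * (t : R)) * a = algebraMap R S (r * (t : R)) := by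
          rw [map_mul, map_mul, ← hrt']
          ring
        rw [← algebraMap_smul S ((t' : R) * (t : R)) (a • y), smul_smul, h2, algebraMap_smul,
          mul_smul]
    · have : x₁ = x₂ := Subtype.ext h
      rw [this]
  have hbc : IsBaseChange S f := IsLocalizedModule.isBaseChange T S f
  exact ⟨M, inferInstance, inferInstance, hMfin, ⟨hbc.equiv⟩⟩

end Descent

section Invertible

/-- For a regular local ring `R` and a localization `S` of `R`, every invertible `S`-module is
free. -/
theorem free_of_invertible_localization (R : Type u) [CommRing R] [IsRegularLocalRing R]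
    (T : Submonoid R) (S : Type u) [CommRing S] [Algebra R S] [IsLocalization T S]
    (L : Type u) [AddCommGroup L] [Module S L] [Module.Invertible S L] : Module.Free S L := by
  letI : Module R L := Module.compHom L (algebraMap R S)
  haveI : IsScalarTower R S L := IsScalarTower.of_algebraMap_smul fun r x => rfl
  obtain ⟨M, _, _, _, ⟨e⟩⟩ := exists_finite_descent T S L
  haveI : Module.Flat R S := IsLocalization.flat S T
  have hd : ringKrullDim R = ((maximalIdeal R).spanFinrank : ℕ) :=
    (IsRegularLocalRing.spanFinrank_maximalIdeal (R := R)).symm
  have hpd := Groth.Agent.Lead.Hom.hasProjectiveDimensionLT_of_finite hd M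
  haveI : Module.Projective S (S ⊗[R] M) := Module.Projective.of_equiv e.symm
  haveI : IsStablyFree S (S ⊗[R] M) := isStablyFree_baseChange R S _ M hpd inferInstance
  haveI : IsStablyFree S L := IsStablyFree.equiv e
  exact Module.free_of_isStablyFree_of_invertible S L

/-- The Picard group of a localization of a regular local ring is trivial. -/
theorem subsingleton_pic_localization (R : Type u) [CommRing R] [IsRegularLocalRing R]
    (T : Submonoid R) (S : Type u) [CommRing S] [Algebra R S] [IsLocalization T S] :
    Subsingleton (CommRing.Pic S) :=
  CommRing.Pic.subsingleton_iff.mpr fun L _ _ _ => free_of_invertible_localization R T S L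

end Invertible

end Groth.Agent.Helper7.RegUFD
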