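import Mathlib
import Groth.Agent.Lib.Helper7.RegUFD

/-!
# Locally principal ideals of Noetherian domains are invertible modules (helper7)
-/

set_option autoImplicit false
set_option linter.unusedSectionVars false
set_option linter.style.haveILetI false
universe u

namespace Groth.Agent.Helper7.RegUFD

open TensorProduct IsLocalRing Module

section LocPrincipal

variable {S : Type u} [CommRing S] [IsDomain S] [IsNoetherianRing S]

/-- local generation of `P` at a maximal ideal `M ⊇ P` where `P S_M` is principal -/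
theorem exists_notMem_mul_mem_span (P : Ideal S) (hP0 : P ≠ ⊥) (M : Ideal S) [M.IsMaximal]
    (hloc : (P.map (algebraMap S (Localization.AtPrime M))).IsPrincipal) :
    ∃ p₀ ∈ P, p₀ ≠ 0 ∧ ∃ t : S, t ∉ M ∧ ∀ p ∈ P, ∃ c : S, t * p = c * p₀ := by
  have hinjM : Function.Injective (algebraMap S (Localization.AtPrime M)) :=
    IsLocalization.injective _ M.primeCompl_le_nonZeroDivisors
  obtain ⟨g, hg⟩ := hloc.principal
  have hgmem : g ∈ P.map (algebraMap S (Localization.AtPrime M)) := by
    rw [hg]; exact Submodule.subset_span rfl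
  obtain ⟨⟨⟨p₀, hp₀⟩, s₀⟩, hx⟩ :=
    (IsLocalization.mem_map_algebraMap_iff M.primeCompl (Localization.AtPrime M)).mp hgmem
  have hx' : g * algebraMap S (Localization.AtPrime M) (s₀ : S) =
      algebraMap S (Localization.AtPrime M) p₀ := hx
  have hs₀ : (s₀ : S) ∉ M := s₀.2
  have hp₀0 : p₀ ≠ 0 := by
    rintro rfl
    rw [map_zero] at hx'
    have hu : IsUnit (algebraMap S (Localization.AtPrime M) (s₀ : S)) :=
      IsLocalization.map_units _ s₀
    have hg0 : g = 0 := by
      rcases hu.mul_left_eq_zero.mp hx' with h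
      exact h
    have hbot : P.map (algebraMap S (Localization.AtPrime M)) = ⊥ := by
      rw [hg, hg0]
      exact Ideal.span_singleton_eq_bot.mpr rfl
    exact hP0 ((Ideal.map_eq_bot_iff_of_injective hinjM).mp hbot)
  -- pointwise statement
  have H : ∀ p : S, ∃ t : S, t ∉ M ∧ (p ∈ P → ∃ c : S, t * p = c * p₀) := by
    intro p
    by_cases hp : p ∈ P
    · have hpm : algebraMap S (Localization.AtPrime M) p ∈
          P.map (algebraMap S (Localization.AtPrime M)) := Ideal.mem_map_of_mem _ hp
      rw [hg] at hpm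
      obtain ⟨z, hz⟩ := Ideal.mem_span_singleton'.mp hpm
      obtain ⟨r, t, rfl⟩ := IsLocalization.exists_mk'_eq M.primeCompl z
      refine ⟨(s₀ : S) * (t : S), ?_, fun _ => ⟨r, ?_⟩⟩
      · intro hmem
        rcases (Ideal.IsMaximal.isPrime ‹M.IsMaximal›).mem_or_mem hmem with h | h
        · exact hs₀ h
        · exact t.2 h
      · apply hinjM
        have h1 : IsLocalization.mk' (Localization.AtPrime M) r t *
            algebraMap S (Localization.AtPrime M) (t : S) =
            algebraMap S (Localization.AtPrime M) r := IsLocalization.mk'_spec _ r t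
        rw [map_mul, map_mul, map_mul, ← hz, ← hx', ← h1]
        ring
    · exact ⟨1, fun h => (Ideal.IsMaximal.ne_top ‹M.IsMaximal›) ((Ideal.eq_top_iff_one M).mpr h),
        fun h => absurd h hp⟩
  choose tf htf hcf using H
  obtain ⟨G, hG⟩ := (isNoetherianRing_iff_ideal_fg S).mp inferInstance P
  refine ⟨p₀, hp₀, hp₀0, ∏ p ∈ G, tf p, ?_, ?_⟩
  · intro hmem
    obtain ⟨p, _, hp⟩ := ((Ideal.IsMaximal.isPrime ‹M.IsMaximal›).prod_mem_iff).mp hmem
    exact htf p hp
  · let J : Ideal S := Submodule.comap (LinearMap.mulLeft S (∏ p ∈ G, tf p)) (Ideal.span {p₀})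
    have hGJ : (G : Set S) ⊆ J := by
      intro p hp
      have hpP : p ∈ P := by rw [← hG]; exact Ideal.subset_span hp
      obtain ⟨c, hc⟩ := hcf p hpP
      obtain ⟨d, hd⟩ := Finset.dvd_prod_of_mem tf hp
      show (∏ p ∈ G, tf p) * p ∈ Ideal.span {p₀}
      rw [hd, mul_comm (tf p) d, mul_assoc, hc, ← mul_assoc]
      exact Ideal.mul_mem_left _ _ (Ideal.subset_span rfl)
    have hPJ : P ≤ J := by
      rw [← hG]
      exact Ideal.span_le.mpr hGJ
    intro p hp
    have : (∏ p ∈ G, tf p) * p ∈ Ideal.span {p₀} := hPJ hp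
    obtain ⟨c, hc⟩ := Ideal.mem_span_singleton'.mp this
    exact ⟨c, hc.symm⟩

/-- A nonzero ideal of a Noetherian domain which is principal locally at every maximal ideal
containing it is an invertible module. -/
theorem invertible_of_locally_principal (P : Ideal S) (hP0 : P ≠ ⊥)
    (hloc : ∀ (M : Ideal S) [M.IsMaximal], P ≤ M →
      (P.map (algebraMap S (Localization.AtPrime M))).IsPrincipal) :
    Module.Invertible S P := by
  let K := FractionRing S
  let I : Submodule S K := Submodule.map (Algebra.linearMap S K) P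
  have hinj : Function.Injective (algebraMap S K) := IsFractionRing.injective S K
  have hmemI : ∀ p ∈ P, algebraMap S K p ∈ I := fun p hp => ⟨p, hp, rfl⟩
  have key : (1 : K) ∈ I * (1 / I) := by
    let a : Ideal S := Submodule.comap (Algebra.linearMap S K) (I * (1 / I))
    suffices h : a = ⊤ by
      have h1 : (1 : S) ∈ a := by rw [h]; trivial
      have h2 : algebraMap S K 1 ∈ I * (1 / I) := h1
      rwa [map_one] at h2
    by_contra ha
    obtain ⟨M, hM, haM⟩ := Ideal.exists_le_maximal a ha
    haveI := hM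
    suffices h : ∃ t : S, t ∉ M ∧ t ∈ a by
      obtain ⟨t, htM, hta⟩ := h
      exact htM (haM hta)
    by_cases hPM : P ≤ M
    · obtain ⟨p₀, hp₀, hp₀0, t, htM, ht⟩ := exists_notMem_mul_mem_span P hP0 M (hloc M hPM)
      refine ⟨t, htM, ?_⟩
      have hp₀K : algebraMap S K p₀ ≠ 0 := fun h => hp₀0 (hinj (by rw [h, map_zero]))
      have hy : algebraMap S K t / algebraMap S K p₀ ∈ (1 / I : Submodule S K) := by
        rw [Submodule.mem_div_iff_forall_mul_mem]
        rintro _ ⟨p, hp, rfl⟩
        obtain ⟨c, hc⟩ := ht p hp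
        rw [Submodule.mem_one]
        refine ⟨c, ?_⟩
        have h1 : algebraMap S K t * algebraMap S K p = algebraMap S K c * algebraMap S K p₀ := by
          rw [← map_mul, hc, map_mul]
        rw [Algebra.linearMap_apply, div_mul_eq_mul_div, h1, mul_div_assoc, div_self hp₀K, mul_one]
      have h3 := Submodule.mul_mem_mul (hmemI p₀ hp₀) hy
      rw [mul_div_cancel₀ _ hp₀K] at h3
      exact h3
    · obtain ⟨t, htP, htM⟩ := Set.not_subset.mp hPM
      refine ⟨t, htM, ?_⟩
      have h1 : (1 : K) ∈ (1 / I : Submodule S K) := by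
        rw [Submodule.mem_div_iff_forall_mul_mem]
        rintro _ ⟨p, hp, rfl⟩
        rw [one_mul, Submodule.mem_one]
        exact ⟨p, rfl⟩
      have h2 := Submodule.mul_mem_mul (hmemI t htP) h1
      rw [mul_one] at h2
      exact h2
  have hmul : I * (1 / I) = 1 :=
    le_antisymm Submodule.mul_one_div_le_one (Submodule.one_le.mpr key)
  have hIunit : IsUnit I := IsUnit.of_mul_eq_one (1 / I) hmul
  haveI : Module.Invertible S (hIunit.unit : Submodule S K) := inferInstance
  let e1 : P ≃ₗ[S] I := Submodule.equivMapOfInjective (Algebra.linearMap S K) hinj P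
  let e2 : I ≃ₗ[S] (hIunit.unit : Submodule S K) := LinearEquiv.ofEq _ _ hIunit.unit_spec.symm
  exact Module.Invertible.congr (e1.trans e2).symm

end LocPrincipal

end Groth.Agent.Helper7.RegUFD
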