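import Mathlib
import Groth.Agent.Lib.Helper7.RegUFD2
import Groth.Agent.Lib.Lead.Hom10
import Groth.Agent.Lib.Helper14.RegularLocalization

/-!
# Regular local rings are unique factorization domains (Auslander–Buchsbaum) (helper7)
-/

set_option autoImplicit false
set_option linter.unusedSectionVars false
set_option linter.style.haveILetI false
universe u

namespace Groth.Agent.Helper7.RegUFD

open TensorProduct IsLocalRing Module Groth.Agent.Lead

/-- The statement proved by induction on the dimension. -/
def UFDStatement (d : ℕ) : Prop :=
  ∀ (R : Type u) [CommRing R] [IsRegularLocalRing R], ringKrullDim R = d →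
    UniqueFactorizationMonoid R

/-- a free invertible ideal is principal -/
theorem isPrincipal_of_free_invertible {S : Type u} [CommRing S] (P : Ideal S)
    [Module.Invertible S P] [Module.Free S P] : P.IsPrincipal := by
  obtain ⟨e⟩ := (Module.Invertible.free_iff_linearEquiv (R := S) (M := P)).mp inferInstance
  refine ⟨⟨(e.symm 1 : P), ?_⟩⟩
  apply le_antisymm
  · intro p hp
    have h1 : (⟨p, hp⟩ : P) = (e ⟨p, hp⟩) • e.symm 1 := by
      rw [← map_smul, smul_eq_mul, mul_one, LinearEquiv.symm_apply_apply]
    have h2 : p = (e ⟨p, hp⟩) • ((e.symm 1 : P) : S) := by
      have := congrArg Subtype.val h1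
      simpa using this
    rw [h2]
    exact Submodule.smul_mem _ _ (Submodule.subset_span rfl)
  · rw [Submodule.span_le]
    rintro _ rfl
    exact (e.symm 1).2

theorem ufd_step (d : ℕ) (ih : ∀ d' < d, UFDStatement.{u} d') : UFDStatement.{u} d := by
  intro R _ _ hd
  haveI : IsDomain R := RLR.isDomain R
  by_cases hm : maximalIdeal R = ⊥
  · -- a field
    apply UniqueFactorizationMonoid.of_forall_isPrincipal_of_height_eq_one
    intro p hp hp1
    have hpb : p = ⊥ := le_bot_iff.mp (hm ▸ IsLocalRing.le_maximalIdeal hp.ne_top)
    rw [hpb, Ideal.height_bot] at hp1
    exact absurd hp1 (by norm_num)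
  · obtain ⟨x, hxm, hx2⟩ := Hom.exists_mem_maximalIdeal_notMem_sq hm
    have hx0 : x ≠ 0 := fun h => hx2 (h ▸ Ideal.zero_mem _)
    obtain ⟨n, y, hn, hgen⟩ := RLR.exists_generators_of_notMem_sq hxm hx2
    haveI : IsLocalRing (R ⧸ Ideal.span {x}) :=
      RLR.isLocalRing_quotient (RLR.span_singleton_ne_top hxm)
    obtain ⟨hQreg, -⟩ := RLR.isRegularLocalRing_quotient_aux x y hgen hn
    haveI := hQreg
    haveI : IsDomain (R ⧸ Ideal.span {x}) := RLR.isDomain _
    have hxprime : Prime x := by
      rw [← Ideal.span_singleton_prime hx0, ← Ideal.Quotient.isDomain_iff_prime]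
      infer_instance
    rw [UniqueFactorizationMonoid.iff_localizationAway_of_prime hxprime]
    -- the localization
    haveI : IsDomain (Localization.Away x) :=
      IsLocalization.isDomain_localization (powers_le_nonZeroDivisors_of_noZeroDivisors hx0)
    haveI : IsNoetherianRing (Localization.Away x) :=
      IsLocalization.isNoetherianRing (Submonoid.powers x) _ inferInstance
    haveI : IsRegularRing R :=
      { isRegularLocalRing_localization := fun p _ => Hom.isRegularLocalRing_localization p }
    haveI : IsRegularRing (Localization.Away x) :=
      Groth.Agent.Helper14.RegularLocalization.isRegularRing_of_isLocalization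
        (Submonoid.powers x) (Localization.Away x)
    apply UniqueFactorizationMonoid.of_forall_isPrincipal_of_height_eq_one
    intro P hP hP1
    have hP0 : P ≠ ⊥ := Ideal.ne_bot_of_height_eq_one hP1
    haveI hinv : Module.Invertible (Localization.Away x) P := by
      apply invertible_of_locally_principal P hP0
      intro M hM hPM
      haveI : M.IsPrime := hM.isPrime
      haveI : IsRegularLocalRing (Localization.AtPrime M) :=
        IsRegularRing.isRegularLocalRing_localization M
      haveI : IsDomain (Localization.AtPrime M) :=
        IsLocalization.isDomain_localization M.primeCompl_le_nonZeroDivisors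
      -- the dimension of the localization is smaller
      have hdimM : ringKrullDim (Localization.AtPrime M) = M.height :=
        IsLocalization.AtPrime.ringKrullDim_eq_height M _
      have hq : (M.under R).height = M.height :=
        IsLocalization.height_under (Submonoid.powers x) M
      have hxq : x ∉ M.under R := by
        intro hx
        have hxM : algebraMap R (Localization.Away x) x ∈ M := hx
        exact hM.ne_top (Ideal.eq_top_of_isUnit_mem _ hxM
          (IsLocalization.Away.algebraMap_isUnit x))
      have hlt : M.under R < maximalIdeal R := by
        refine lt_of_le_of_ne (IsLocalRing.le_maximalIdeal (Ideal.IsPrime.ne_top inferInstance)) ?_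
        intro h
        exact hxq (h ▸ hxm)
      have hmd : (maximalIdeal R).height = d := by
        have h1 := IsLocalRing.maximalIdeal_height_eq_ringKrullDim (R := R)
        rw [hd] at h1
        exact_mod_cast h1
      haveI : (maximalIdeal R).FiniteHeight :=
        ⟨Or.inr (by rw [hmd]; exact ENat.natCast_ne_top d)⟩
      have hlt2 : (M.under R).height < d := by
        rw [← hmd]
        exact Ideal.height_strict_mono_of_isPrime_of_isPrime hlt
      obtain ⟨d', hd'⟩ : ∃ d' : ℕ, M.height = d' := by
        have : M.height ≠ ⊤ := by
          rw [← hq]
          exact (lt_of_lt_of_le hlt2 le_top).ne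
        exact ⟨M.height.toNat, (ENat.natCast_toNat this).symm⟩
      have hd'd : d' < d := by
        rw [hq, hd'] at hlt2
        exact_mod_cast hlt2
      have hufd : UniqueFactorizationMonoid (Localization.AtPrime M) :=
        ih d' hd'd (Localization.AtPrime M) (by rw [hdimM, hd']; rfl)
      -- the extension of `P` is a height one prime
      have hdisj : Disjoint (M.primeCompl : Set (Localization.Away x)) (P : Set _) := by
        rw [Set.disjoint_left]
        intro a ha haP
        exact ha (hPM haP)
      haveI : (P.map (algebraMap (Localization.Away x) (Localization.AtPrime M))).IsPrime :=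
        IsLocalization.isPrime_of_isPrime_disjoint M.primeCompl _ P hP hdisj
      have hh : (P.map (algebraMap (Localization.Away x) (Localization.AtPrime M))).height = 1 := by
        rw [IsLocalization.height_map_of_disjoint M.primeCompl P hdisj, hP1]
      exact UniqueFactorizationMonoid.isPrincipal_of_height_eq_one hh
    haveI hfree : Module.Free (Localization.Away x) P :=
      free_of_invertible_localization R (Submonoid.powers x) (Localization.Away x) P
    exact isPrincipal_of_free_invertible P

theorem ufd_aux (d : ℕ) : UFDStatement.{u} d := by
  induction d using Nat.strong_induction_on with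
  | _ d ih => exact ufd_step d ih

/-- **Auslander–Buchsbaum**: a regular local ring is a unique factorization domain. -/
theorem uniqueFactorizationMonoid_of_isRegularLocalRing (R : Type u) [CommRing R]
    [IsRegularLocalRing R] : UniqueFactorizationMonoid R :=
  ufd_aux _ R (IsRegularLocalRing.spanFinrank_maximalIdeal (R := R)).symm

end Groth.Agent.Helper7.RegUFD
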