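import Mathlib.RingTheory.KrullDimension.Polynomial
import Mathlib.RingTheory.KrullDimension.Field
import Mathlib.RingTheory.Ideal.Height
import Mathlib.RingTheory.Ideal.Over
import Mathlib.RingTheory.AlgebraicIndependent.Basic
import Mathlib.RingTheory.AlgebraicIndependent.TranscendenceBasis
import Mathlib.RingTheory.Polynomial.Quotient

/-!
# Heights of primes in `A[X]` lying over a prime of `A` (helper7)
-/

set_option autoImplicit false
universe u

namespace Groth.Agent.Helper7.PolyHeight

open Polynomial Ideal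

attribute [local instance] Polynomial.algebra Polynomial.isLocalization in
theorem height_le_one_of_comap_C_eq_bot (D : Type u) [CommRing D] [IsDomain D] [IsNoetherianRing D]
    (Q : Ideal D[X]) [Q.IsPrime] (hQ : Q.comap (C : D →+* D[X]) = ⊥) : Q.height ≤ 1 := by
  let K := FractionRing D
  have disj : Disjoint (((nonZeroDivisors D).map (C : D →+* D[X]) : Submonoid D[X]) : Set D[X]) (Q : Set D[X]) := by
    refine Set.disjoint_left.mpr fun a ⟨b, hb⟩ ha => ?_
    have hb0 : b ∈ Q.comap (C : D →+* D[X]) := by
      rw [Ideal.mem_comap]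
      have := hb.2
      rw [show (C : D →+* D[X]) b = a from this]; exact ha
    rw [hQ, Ideal.mem_bot] at hb0
    exact nonZeroDivisors.ne_zero hb.1 hb0
  have hprime : (Q.map (algebraMap D[X] K[X])).IsPrime :=
    IsLocalization.isPrime_of_isPrime_disjoint ((nonZeroDivisors D).map (C : D →+* D[X])) K[X] Q inferInstance disj
  have h1 := IsLocalization.height_map_of_disjoint (S := K[X]) ((nonZeroDivisors D).map (C : D →+* D[X])) Q disj
  rw [← h1]
  have h2 : ((Q.map (algebraMap D[X] K[X])).height : WithBot ℕ∞) ≤ ringKrullDim K[X] :=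
    Ideal.height_le_ringKrullDim_of_ne_top hprime.ne_top
  rw [Polynomial.ringKrullDim_of_isNoetherianRing, ringKrullDim_eq_zero_of_field, zero_add] at h2
  exact_mod_cast h2

theorem height_add_one_eq (A : Type u) [CommRing A] [IsNoetherianRing A]
    (p : Ideal A) [p.IsPrime] (q : Ideal A[X]) [q.IsPrime] [q.LiesOver p] :
    (p.height : Cardinal.{u}) + 1 = (q.height : Cardinal.{u}) + Algebra.trdeg (A ⧸ p) (A[X] ⧸ q) := by
  let D := A ⧸ p
  let ψ : A[X] →+* D[X] := Polynomial.mapRingHom (Ideal.Quotient.mk p)
  have hψsurj : Function.Surjective ψ := Polynomial.map_surjective _ Ideal.Quotient.mk_surjective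
  have hker : RingHom.ker ψ = p.map (C : A →+* A[X]) := by
    rw [Polynomial.ker_mapRingHom, Ideal.mk_ker]
  have hpq : p.map (C : A →+* A[X]) ≤ q := by
    rw [Ideal.map_le_iff_le_comap]
    exact le_of_eq (q.over_def p)
  have hQprime : (q.map ψ).IsPrime := Ideal.map_isPrime_of_surjective hψsurj (hker ▸ hpq)
  have hcomap : (q.map ψ).comap ψ = q := by
    rw [Ideal.comap_map_of_surjective' ψ hψsurj, hker]
    exact sup_eq_left.mpr hpq
  -- heights
  have hht := Ideal.height_eq_height_add_of_liesOver_of_hasGoingDown p q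
  have hQht : (q.map ψ).height = (q.map (Ideal.Quotient.mk (p.map (algebraMap A A[X])))).height := by
    rw [← (polynomialQuotientEquivQuotientPolynomial p).symm.height_map
      (q.map (Ideal.Quotient.mk (p.map (algebraMap A A[X]))))]
    congr 1
    rw [← Ideal.map_coe (polynomialQuotientEquivQuotientPolynomial p).symm, Ideal.map_map]
    congr 1
  rw [← hQht] at hht
  have hQC : (q.map ψ).comap (C : D →+* D[X]) = ⊥ := by
    rw [eq_bot_iff]
    intro d hd
    obtain ⟨a, rfl⟩ := Ideal.Quotient.mk_surjective d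
    rw [Ideal.mem_comap] at hd
    have h1 : (C a : A[X]) ∈ (q.map ψ).comap ψ := by
      rw [Ideal.mem_comap]
      have : ψ (C a) = C (Ideal.Quotient.mk p a) := by simp [ψ]
      rw [this]; exact hd
    rw [hcomap] at h1
    have h2 : a ∈ p := by
      rw [q.over_def p]
      exact h1
    rw [Ideal.mem_bot]
    exact Ideal.Quotient.eq_zero_iff_mem.mpr h2
  -- the evaluation map
  let xbar : A[X] ⧸ q := Ideal.Quotient.mk q X
  let φ : D[X] →ₐ[D] (A[X] ⧸ q) := Polynomial.aeval xbar
  have hφψ : ∀ f : A[X], φ (ψ f) = Ideal.Quotient.mk q f := by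
    intro f
    induction f using Polynomial.induction_on' with
    | add f g hf hg => rw [map_add, map_add, hf, hg, map_add]
    | monomial n a =>
      simp only [φ, ψ, xbar, coe_mapRingHom, Polynomial.map_monomial, aeval_monomial]
      rw [Ideal.Quotient.algebraMap_mk_of_liesOver, ← map_pow, ← map_mul]
      congr 1
      rw [← C_mul_X_pow_eq_monomial]
      rfl
  have hφsurj : Function.Surjective φ := by
    intro s
    obtain ⟨f, rfl⟩ := Ideal.Quotient.mk_surjective s
    exact ⟨ψ f, hφψ f⟩
  by_cases hQ : q.map ψ = ⊥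
  · -- transcendental case
    have hφinj : Function.Injective φ := by
      rw [injective_iff_map_eq_zero]
      intro g hg
      obtain ⟨f, rfl⟩ := hψsurj g
      rw [hφψ, Ideal.Quotient.eq_zero_iff_mem] at hg
      have : ψ f ∈ q.map ψ := Ideal.mem_map_of_mem ψ hg
      rwa [hQ, Ideal.mem_bot] at this
    have htr : Algebra.trdeg D (A[X] ⧸ q) = 1 := by
      rw [← (AlgEquiv.ofBijective φ ⟨hφinj, hφsurj⟩).trdeg_eq]
      exact Polynomial.trdeg_of_isDomain
    rw [hQ, Ideal.height_bot, add_zero] at hht
    rw [htr, hht]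
  · -- algebraic case
    have h1 : (q.map ψ).height ≤ 1 := height_le_one_of_comap_C_eq_bot D (q.map ψ) hQC
    have h2 : 1 ≤ (q.map ψ).height := by
      have : (⊥ : Ideal D[X]) < q.map ψ := bot_lt_iff_ne_bot.mpr hQ
      have := Ideal.height_strict_mono_of_isPrime this
      rw [Ideal.height_bot] at this
      exact Order.one_le_iff_pos.mpr this
    have h3 : (q.map ψ).height = 1 := le_antisymm h1 h2
    rw [h3] at hht
    have halg : Algebra.IsAlgebraic D (A[X] ⧸ q) := by
      obtain ⟨g, hgQ, hg0⟩ := Submodule.exists_mem_ne_zero_of_ne_bot hQ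
      have hxalg : IsAlgebraic D xbar := by
        refine ⟨g, hg0, ?_⟩
        obtain ⟨f, rfl⟩ := hψsurj g
        have hf : f ∈ q := by
          rw [← hcomap]; exact hgQ
        show φ (ψ f) = 0
        rw [hφψ]
        exact Ideal.Quotient.eq_zero_iff_mem.mpr hf
      refine ⟨fun s => ?_⟩
      obtain ⟨h, rfl⟩ := hφsurj s
      exact Algebra.isAlgebraic_adjoin_singleton_iff.mpr hxalg _
        (Polynomial.aeval_mem_adjoin_singleton D xbar)
    rw [trdeg_eq_zero, add_zero, hht]
    push_cast
    rfl

end Groth.Agent.Helper7.PolyHeight
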