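import Mathlib
import Groth.Agent.Lib.Helper11.DimLift

/-!
# Topological Krull dimension under maps with "discrete fibres" (helper7)
-/

open TopologicalSpace Topology

namespace Groth.Agent.Helper7.TopDim

variable {X Y : Type*} [TopologicalSpace X] [TopologicalSpace Y]

/-- If no two distinct points of a fibre of `f` specialize to one another, then `dim X ≤ dim Y`. -/
theorem topologicalKrullDim_le_of_fiber_antisymm [QuasiSober X] [T0Space Y] {f : X → Y}
    (hf : Continuous f) (h : ∀ x x' : X, x' ⤳ x → f x = f x' → x = x') :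
    topologicalKrullDim X ≤ topologicalKrullDim Y := by
  unfold topologicalKrullDim
  refine Order.krullDim_le_of_strictMono (IrreducibleCloseds.map f hf) ?_
  intro Z Z' hlt
  refine lt_of_le_of_ne (IrreducibleCloseds.map_mono hf hlt.le) ?_
  intro heq
  obtain ⟨z, hz⟩ := QuasiSober.sober Z.isIrreducible Z.isClosed
  obtain ⟨z', hz'⟩ := QuasiSober.sober Z'.isIrreducible Z'.isClosed
  have hzcl : closure {z} = (Z : Set X) := hz
  have hz'cl : closure {z'} = (Z' : Set X) := hz'
  have h1 : ∀ (W : IrreducibleCloseds X) (w : X), closure {w} = (W : Set X) →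
      ((IrreducibleCloseds.map f hf W : IrreducibleCloseds Y) : Set Y) = closure {f w} := by
    intro W w hw
    rw [IrreducibleCloseds.coe_map, ← hw]
    apply subset_antisymm
    · refine closure_minimal ?_ isClosed_closure
      refine (image_closure_subset_closure_image hf).trans ?_
      rw [Set.image_singleton]
    · refine closure_mono ?_
      rw [Set.singleton_subset_iff]
      exact ⟨w, subset_closure rfl, rfl⟩
  have h2 : closure {f z} = closure {f z'} := by
    rw [← h1 Z z hzcl, ← h1 Z' z' hz'cl, heq]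
  have h3 : f z = f z' := by
    have : Inseparable (f z) (f z') := by
      rw [inseparable_iff_closure_eq]; exact h2
    exact this.eq
  have h4 : z' ⤳ z := by
    rw [specializes_iff_mem_closure, hz'cl]
    have hzZ : z ∈ (Z : Set X) := by rw [← hzcl]; exact subset_closure rfl
    exact hlt.le hzZ
  have h5 : z = z' := h z z' h4 h3
  apply hlt.ne
  apply IrreducibleCloseds.ext
  rw [← hzcl, ← hz'cl, h5]

/-- variant for maps into a subset -/
theorem topologicalKrullDim_le_of_fiber_antisymm_codRestrict [QuasiSober X] [T0Space Y]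
    {f : X → Y} (hf : Continuous f) (h : ∀ x x' : X, x' ⤳ x → f x = f x' → x = x')
    (S : Set Y) (hS : ∀ x, f x ∈ S) :
    topologicalKrullDim X ≤ topologicalKrullDim S := by
  refine topologicalKrullDim_le_of_fiber_antisymm (f := Set.codRestrict f S hS)
    (hf.codRestrict hS) ?_
  intro x x' hx hfx
  exact h x x' hx (congrArg Subtype.val hfx)

/-- in a discrete subset, specialization is equality -/
theorem eq_of_specializes_of_isDiscrete {s : Set X} (hs : IsDiscrete s) {x x' : X} (hx : x ∈ s)
    (hx' : x' ∈ s) (h : x' ⤳ x) : x = x' := by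
  have : DiscreteTopology s := isDiscrete_iff_discreteTopology.1 hs
  have h1 : (⟨x', hx'⟩ : s) ⤳ ⟨x, hx⟩ := (subtype_specializes_iff _ _).2 h
  exact (congrArg Subtype.val h1.eq).symm

/-- Stacks 0066 (4): an open map from a Noetherian quasi-sober space to a T0 space lifts
generalizations. -/
theorem generalizingMap_of_isOpenMap [NoetherianSpace X] [QuasiSober X] [T0Space Y] {f : X → Y}
    (hf : Continuous f) (ho : IsOpenMap f) : GeneralizingMap f := by
  intro x y' hy'
  set F : Set X := f ⁻¹' {y'} with hF
  set T : Set X := closure F with hT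
  have hxT : x ∈ T := by
    rw [hT, mem_closure_iff]
    intro U hU hxU
    have h1 : y' ∈ f '' U := hy'.mem_open (ho U hU) ⟨x, hxU, rfl⟩
    obtain ⟨x'', hx''U, hx''⟩ := h1
    exact ⟨x'', hx''U, hx''⟩
  have hTcl : IsClosed T := isClosed_closure
  have : QuasiSober T := hTcl.isClosedEmbedding_subtypeVal.quasiSober
  let x₀ : T := ⟨x, hxT⟩
  obtain ⟨o, hoo, hone, hoC⟩ :=
    NoetherianSpace.exists_isOpen_nonempty_subset_irreducibleComponent (irreducibleComponent x₀)
      (irreducibleComponent_mem_irreducibleComponents x₀)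
  obtain ⟨ξ, hξ⟩ := QuasiSober.sober (isIrreducible_irreducibleComponent (x := x₀))
    isClosed_irreducibleComponent
  have hξcl : closure {ξ} = irreducibleComponent x₀ := hξ
  obtain ⟨t, hto⟩ := hone
  obtain ⟨O, hO, hOo⟩ := isOpen_induced_iff.1 hoo
  have htO : (t : X) ∈ O := by rw [← hOo] at hto; exact hto
  obtain ⟨x'', hx''O, hx''F⟩ := mem_closure_iff.1 t.2 O hO htO
  let t'' : T := ⟨x'', subset_closure hx''F⟩
  have ht''o : t'' ∈ o := by rw [← hOo]; exact hx''O
  have ht''C : t'' ∈ irreducibleComponent x₀ := hoC ht''o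
  have h1 : ξ ⤳ t'' := by rw [specializes_iff_mem_closure, hξcl]; exact ht''C
  have h2 : (ξ : X) ⤳ x'' := (subtype_specializes_iff _ _).1 h1
  have h3 : f ξ ⤳ y' := by
    have h := h2.map hf
    have e : f x'' = y' := hx''F
    rwa [e] at h
  have h4 : y' ⤳ f ξ := by
    rw [specializes_iff_mem_closure]
    have h5 : f '' closure F ⊆ closure (f '' F) := image_closure_subset_closure_image hf
    have h6 : f '' F ⊆ {y'} := by rintro _ ⟨a, ha, rfl⟩; exact ha
    exact closure_mono h6 (h5 ⟨ξ, ξ.2, rfl⟩)
  have h6 : f ξ = y' := (h3.antisymm h4).eq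
  have h7 : ξ ⤳ x₀ := by
    rw [specializes_iff_mem_closure, hξcl]; exact mem_irreducibleComponent
  exact ⟨ξ, (subtype_specializes_iff _ _).1 h7, h6⟩

end Groth.Agent.Helper7.TopDim

namespace Groth.Agent.Helper7.TopDim
open AlgebraicGeometry

universe u

/-- an open morphism from a locally Noetherian scheme lifts generalizations -/
theorem generalizingMap_of_isOpenMap_scheme {X Y : Scheme.{u}} (f : X ⟶ Y) [IsLocallyNoetherian X]
    (ho : IsOpenMap f) : GeneralizingMap f := by
  intro x y' hy'
  obtain ⟨_, ⟨(U : X.Opens), hU : IsAffineOpen U, rfl⟩, hxU, -⟩ :=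
    X.isBasis_affineOpens.exists_subset_of_mem_open (Set.mem_univ x) isOpen_univ
  have hN : IsNoetherianRing Γ(X, U) := IsLocallyNoetherian.component_noetherian ⟨U, hU⟩
  have : NoetherianSpace ↥U := by
    have e := hU.isoSpec
    have h1 : NoetherianSpace (Spec Γ(X, U)) := inferInstanceAs (NoetherianSpace (PrimeSpectrum _))
    exact (noetherianSpace_iff_of_homeomorph e.hom.homeomorph).2 h1
  have hqs : QuasiSober ↥U := inferInstanceAs (QuasiSober ↥(U : Scheme.{u}))
  let g : ↥U → Y := fun u => f u.1
  have hg : Continuous g := f.continuous.comp continuous_subtype_val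
  have hgo : IsOpenMap g := ho.comp U.2.isOpenMap_subtype_val
  have hy'' : y' ⤳ g ⟨x, hxU⟩ := hy'
  obtain ⟨ξ, hξ1, hξ2⟩ := generalizingMap_of_isOpenMap hg hgo hy''
  exact ⟨ξ.1, (subtype_specializes_iff _ _).1 hξ1, hξ2⟩

end Groth.Agent.Helper7.TopDim
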