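import Mathlib
import Groth.Agent.Lib.Helper7.TopDim

/-!
# Krull dimension of integral extensions (helper7)
-/

namespace Groth.Agent.Helper7.IntDim

theorem ringKrullDim_eq_of_isIntegral_of_injective {A B : Type*} [CommRing A] [CommRing B]
    [Algebra A B] [Algebra.IsIntegral A B] (hinj : Function.Injective (algebraMap A B)) :
    ringKrullDim B = ringKrullDim A := by
  rw [← PrimeSpectrum.topologicalKrullDim_eq_ringKrullDim, ← PrimeSpectrum.topologicalKrullDim_eq_ringKrullDim]
  let φ := PrimeSpectrum.comap (algebraMap A B)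
  have hφc : Continuous φ := PrimeSpectrum.continuous_comap _
  have hcl : IsClosedMap φ :=
    PrimeSpectrum.isClosedMap_comap_of_isIntegral _ Algebra.IsIntegral.isIntegral
  have hsurj : Function.Surjective φ := by
    intro P
    obtain ⟨Q, -, hQ, hQP⟩ := Ideal.exists_ideal_over_prime_of_isIntegral P.asIdeal (⊥ : Ideal B) (by
      rw [Ideal.comap_bot_of_injective _ hinj]; exact bot_le)
    exact ⟨⟨Q, hQ⟩, PrimeSpectrum.ext hQP⟩
  apply le_antisymm
  · refine Groth.Agent.Helper7.TopDim.topologicalKrullDim_le_of_fiber_antisymm hφc ?_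
    intro Q Q' hQ hφQ
    have hle : Q'.asIdeal ≤ Q.asIdeal := (PrimeSpectrum.le_iff_specializes Q' Q).2 hQ
    by_contra hne
    have hlt : Q'.asIdeal < Q.asIdeal :=
      lt_of_le_of_ne hle (fun h => hne (PrimeSpectrum.ext h.symm))
    have h1 := Ideal.IsIntegral.comap_lt_comap (R := A) hlt
    have h2 : Q.asIdeal.comap (algebraMap A B) = Q'.asIdeal.comap (algebraMap A B) :=
      congrArg PrimeSpectrum.asIdeal hφQ
    exact h1.ne h2.symm
  · exact Groth.Agent.Helper11.topologicalKrullDim_le_of_surjective_of_lift hφc hsurj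
      (Or.inl hcl.specializingMap)

end Groth.Agent.Helper7.IntDim
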