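import Mathlib
import Groth.Agent.Lib.Lead.Fib1
import Groth.Agent.Lib.Helper1.SerreNormal
import Groth.Agent.Lib.Helper14.RegFiber
import Groth.Prelude.Def_EGA4b
import Groth.Agent.Lib.Helper9.RegLocExt

/-!
# Ascent of normality along flat maps with normal fibres (helper7)
-/

set_option autoImplicit false
set_option linter.unusedSectionVars false
set_option linter.style.haveILetI false
universe u

namespace Groth.Agent.Helper7.NormAsc

open TensorProduct IsLocalRing Function Groth.Agent.Lead.Fib

theorem maximalIdeal_height_localization {R : Type*} [CommRing R] (q : Ideal R) [q.IsPrime] :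
    (maximalIdeal (Localization.AtPrime q)).height = q.height := by
  have h1 := IsLocalization.AtPrime.ringKrullDim_eq_height q (Localization.AtPrime q)
  rw [← IsLocalRing.maximalIdeal_height_eq_ringKrullDim] at h1
  exact WithBot.coe_injective h1

variable (R S : Type u) [CommRing R] [CommRing S] [Algebra R S]
  [IsNoetherianRing R] [IsNoetherianRing S] [Module.Flat R S]

/-- `(R₁)` ascends along a flat map with `(R₁)` fibres. -/
theorem hasRk_one_of_flat_of_fibres (hR : LocCoh.HasRk 1 R)
    (hfib : ∀ (p : Ideal R) [p.IsPrime], LocCoh.HasRk 1 (p.Fiber S)) : LocCoh.HasRk 1 S := by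
  intro r _ hr
  let p : Ideal R := r.under R
  have hover : r.LiesOver p := ⟨rfl⟩
  obtain ⟨-, hh⟩ := depth_dim_eq p r
  rw [maximalIdeal_height_localization, maximalIdeal_height_localization] at hh
  have hp1 : p.height ≤ 1 := le_trans (by rw [hh]; exact le_self_add) hr
  have hf1 : (maximalIdeal (FL p r)).height ≤ 1 := le_trans (by rw [hh]; exact le_add_self) hr
  have hRp : IsRegularLocalRing (Localization.AtPrime p) := hR p hp1
  obtain ⟨q, hq⟩ := exists_fiber_prime p r
  have hqprime : q.asIdeal.IsPrime := q.isPrime
  have hqh : q.asIdeal.height ≤ 1 := by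
    have e := fiberLocEquiv p q.asIdeal
    have h1 : ringKrullDim (Localization.AtPrime q.asIdeal) =
        ringKrullDim (FL p (q.asIdeal.comap
          (Algebra.TensorProduct.includeRight : S →ₐ[R] p.Fiber S))) :=
      ringKrullDim_eq_of_ringEquiv e
    have key2 : ∀ (r' : Ideal S) [r'.IsPrime] [r'.LiesOver p], r' = r →
        ringKrullDim (FL p r') ≤ 1 := by
      intro r' _ _ h
      subst h
      rw [← IsLocalRing.maximalIdeal_height_eq_ringKrullDim]
      exact_mod_cast hf1
    have h2 := key2 _ hq
    rw [← h1] at h2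
    rw [IsLocalization.AtPrime.ringKrullDim_eq_height q.asIdeal
      (Localization.AtPrime q.asIdeal)] at h2
    exact_mod_cast h2
  have hFq : IsRegularLocalRing (Localization.AtPrime q.asIdeal) := hfib p q.asIdeal hqh
  have key : ∀ (r' : Ideal S) [r'.IsPrime], r' = r →
      IsRegularLocalRing (Localization.AtPrime r') → IsRegularLocalRing (Localization.AtPrime r) := by
    intro r' _ h
    subst h
    exact id
  exact key _ hq (Groth.Agent.Helper14.RegFiber.isRegularLocalRing_of_fiber p q.asIdeal hFq)


/-- normality ascends along a flat map of Noetherian rings with normal fibres -/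
theorem isNormalRing_of_flat_of_fibres (hR : EGA4.IsNormalRing R)
    (hfib : ∀ (p : Ideal R) [p.IsPrime], EGA4.IsNormalRing (p.Fiber S)) : EGA4.IsNormalRing S := by
  have h1 := (Groth.Agent.Helper1.SerreNormal.serre_criterion R).mp hR
  have h2 : ∀ (p : Ideal R) [p.IsPrime],
      LocCoh.HasRk 1 (p.Fiber S) ∧ LocCoh.HasSk 2 (p.Fiber S) (p.Fiber S) := fun p _ => by
    have := isNoetherianRing_fiber (S := S) p
    exact (Groth.Agent.Helper1.SerreNormal.serre_criterion _).mp (hfib p)
  exact (Groth.Agent.Helper1.SerreNormal.serre_criterion S).mpr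
    ⟨hasRk_one_of_flat_of_fibres R S h1.1 (fun p _ => (h2 p).1),
      hasSk_of_flat_of_fibres 2 h1.2 (fun p _ => (h2 p).2)⟩

omit [IsNoetherianRing R] in
/-- a regular ring is normal -/
theorem isNormalRing_of_isRegularRing [IsRegularRing R] : EGA4.IsNormalRing R := by
  apply (Groth.Agent.Helper1.SerreNormal.serre_criterion R).mpr
  refine ⟨fun p _ _ => IsRegularRing.isRegularLocalRing_localization p, ?_⟩
  rw [Groth.Agent.Lead.Depth.hasSk_self_iff]
  intro p _
  have : IsRegularLocalRing (Localization.AtPrime p) :=
    IsRegularRing.isRegularLocalRing_localization p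
  have hcm : LocCoh.IsCohenMacaulayModule (Localization.AtPrime p) (Localization.AtPrime p) :=
    Groth.Agent.Helper9.RegLocExt.isCM_self
  unfold LocCoh.IsCohenMacaulayModule at hcm
  rw [Module.supportDim_self_eq_ringKrullDim] at hcm
  rw [hcm]
  exact min_le_right _ _

end Groth.Agent.Helper7.NormAsc
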