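import Mathlib
import Groth.Agent.S2036
import Groth.Agent.S2035
import Groth.Agent.S4512
import Groth.Agent.Lib.Helper14.AdicFSBaseChange
import Groth.Agent.Lib.Helper14.RegularLocalization

/-!
# Geometric regularity and base change to arbitrary field extensions (helper7)
-/

set_option autoImplicit false
set_option linter.unusedSectionVars false
set_option linter.style.haveILetI false
universe u

namespace Groth.Agent.Helper7.GeomRegFG

open TensorProduct IsLocalRing Function

section Lift

variable (k K S : Type u) [Field k] [CommRing K] [CommRing S] [Algebra k K] [Algebra k S]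

/-- adic formal smoothness of `S_p` over `k` gives adic formal smoothness of `(K ⊗ S)_Q` over `K`
for a prime `Q` over `p`. -/
theorem adicFS_tensor_localization (Q : Ideal (K ⊗[k] S)) [Q.IsPrime] (p : Ideal S) [p.IsPrime]
    (hp : p = Q.comap (Algebra.TensorProduct.includeRight : S →ₐ[k] K ⊗[k] S).toRingHom)
    (h : CAlgX.IsAdicFormallySmooth k (Localization.AtPrime p)
      (maximalIdeal (Localization.AtPrime p))) :
    CAlgX.IsAdicFormallySmooth K (Localization.AtPrime Q)
      (maximalIdeal (Localization.AtPrime Q)) := by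
  intro C _ _ J hJ ψ hψ
  obtain ⟨n, hn⟩ := hψ
  letI : Algebra k C := ((algebraMap K C).comp (algebraMap k K)).toAlgebra
  haveI : IsScalarTower k K C := IsScalarTower.of_algebraMap_eq fun r => rfl
  haveI : IsScalarTower k K (C ⧸ J) := IsScalarTower.of_algebraMap_eq fun r => rfl
  let ι : S →ₐ[k] K ⊗[k] S := Algebra.TensorProduct.includeRight
  have hιQ : ∀ s : S, s ∉ p → ι s ∈ Q.primeCompl := by
    intro s hs hsQ
    apply hs
    rw [hp]
    exact hsQ
  let f₀ : S →+* C ⧸ J :=
    (ψ.toRingHom.comp (algebraMap (K ⊗[k] S) (Localization.AtPrime Q))).comp ι.toRingHom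
  have hf₀k : ∀ r : k, f₀ (algebraMap k S r) = algebraMap k (C ⧸ J) r := by
    intro r
    show ψ (algebraMap (K ⊗[k] S) (Localization.AtPrime Q) (ι (algebraMap k S r))) = _
    rw [ι.commutes, IsScalarTower.algebraMap_apply k K (K ⊗[k] S),
      ← IsScalarTower.algebraMap_apply K (K ⊗[k] S) (Localization.AtPrime Q), ψ.commutes,
      ← IsScalarTower.algebraMap_apply]
  have hunit₀ : ∀ s : p.primeCompl, IsUnit (f₀ s) := by
    intro s
    have h1 : IsUnit (algebraMap (K ⊗[k] S) (Localization.AtPrime Q) (ι s)) :=
      IsLocalization.map_units (Localization.AtPrime Q) (⟨ι s, hιQ s s.2⟩ : Q.primeCompl)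
    exact h1.map ψ
  let f₁ : Localization.AtPrime p →ₐ[k] C ⧸ J :=
    { IsLocalization.lift hunit₀ with
      commutes' := fun r => by
        change (IsLocalization.lift hunit₀) (algebraMap k (Localization.AtPrime p) r) = _
        rw [IsScalarTower.algebraMap_apply k S (Localization.AtPrime p), IsLocalization.lift_eq]
        exact hf₀k r }
  have hf₁ : ∀ s : S, f₁ (algebraMap S (Localization.AtPrime p) s) = f₀ s := fun s =>
    IsLocalization.lift_eq hunit₀ s
  have hpQ : p.map ι.toRingHom ≤ Q := by
    rw [Ideal.map_le_iff_le_comap, hp]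
  have hkill : ∀ x ∈ maximalIdeal (Localization.AtPrime p) ^ n, f₁ x = 0 := by
    have hle : maximalIdeal (Localization.AtPrime p) ^ n ≤ RingHom.ker f₁.toRingHom := by
      rw [← Localization.AtPrime.map_eq_maximalIdeal, ← Ideal.map_pow, Ideal.map_le_iff_le_comap]
      intro x hx
      rw [Ideal.mem_comap, RingHom.mem_ker]
      show f₁ (algebraMap S (Localization.AtPrime p) x) = 0
      rw [hf₁]
      show ψ (algebraMap (K ⊗[k] S) (Localization.AtPrime Q) (ι x)) = 0
      apply hn
      rw [← Localization.AtPrime.map_eq_maximalIdeal, ← Ideal.map_pow]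
      apply Ideal.mem_map_of_mem
      have h2 : ι x ∈ (p.map ι.toRingHom) ^ n := by
        rw [← Ideal.map_pow]
        exact Ideal.mem_map_of_mem _ hx
      exact Ideal.pow_right_mono hpQ n h2
    intro x hx
    exact hle hx
  obtain ⟨χ₁, hχ₁⟩ := h C J hJ f₁ ⟨n, hkill⟩
  have hχ₁' : ∀ y, Ideal.Quotient.mk J (χ₁ y) = f₁ y := fun y => DFunLike.congr_fun hχ₁ y
  let g : K ⊗[k] S →ₐ[K] C :=
    Algebra.TensorProduct.lift (Algebra.ofId K C)
      (χ₁.comp (IsScalarTower.toAlgHom k S (Localization.AtPrime p))) (fun _ _ => Commute.all _ _)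
  have hg : (Ideal.Quotient.mkₐ K J).comp g =
      ψ.comp (IsScalarTower.toAlgHom K (K ⊗[k] S) (Localization.AtPrime Q)) := by
    apply Algebra.TensorProduct.ext
    · ext
    · apply AlgHom.ext
      intro s
      have h1 := hχ₁' (algebraMap S (Localization.AtPrime p) s)
      rw [hf₁] at h1
      simpa [g, f₀, ι] using h1
  have hg' : ∀ t, Ideal.Quotient.mk J (g t) =
      ψ (algebraMap (K ⊗[k] S) (Localization.AtPrime Q) t) := fun t => DFunLike.congr_fun hg t
  have hunit : ∀ t : Q.primeCompl, IsUnit (g.toRingHom t) := by
    intro t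
    change IsUnit (g (t : K ⊗[k] S))
    rw [← IsNilpotent.isUnit_quotient_mk_iff (I := J) ⟨2, hJ⟩, hg']
    exact (IsLocalization.map_units (Localization.AtPrime Q) t).map ψ
  let χ : Localization.AtPrime Q →ₐ[K] C :=
    { IsLocalization.lift hunit with
      commutes' := fun r => by
        change (IsLocalization.lift hunit) (algebraMap K (Localization.AtPrime Q) r) = _
        rw [IsScalarTower.algebraMap_apply K (K ⊗[k] S) (Localization.AtPrime Q),
          IsLocalization.lift_eq]
        exact g.commutes r }
  refine ⟨χ, ?_⟩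
  apply AlgHom.coe_ringHom_injective
  apply IsLocalization.ringHom_ext Q.primeCompl
  refine RingHom.ext fun t => ?_
  change Ideal.Quotient.mk J ((IsLocalization.lift hunit) (algebraMap _ _ t)) = _
  rw [IsLocalization.lift_eq]
  exact hg' t

end Lift


section Core

variable (k S : Type u) [Field k] [CommRing S] [Algebra k S]

/-- a Noetherian local `k`-algebra which is geometrically regular is formally smooth for its
adic topology -/
theorem adicFS_of_geomRegular (A : Type u) [CommRing A] [IsLocalRing A] [IsNoetherianRing A]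
    [Algebra k A] (h : CAlg.IsGeometricallyRegular k A) :
    CAlgX.IsAdicFormallySmooth k A (maximalIdeal A) := by
  obtain ⟨p, hpk⟩ := CharP.exists k
  rcases CharP.char_is_prime_or_zero k p with hp | hp
  · haveI := Fact.mk hp
    exact (Groth.Agent.S2036.result (k := k) (A := A) p).mp h
  · subst hp
    haveI : CharZero k := CharP.charP_to_charZero k
    have h1 : IsRegularRing (k ⊗[k] A) := h k inferInstance
    have h2 : IsRegularRing A :=
      @IsRegularRing.of_ringEquiv _ _ _ _ (Algebra.TensorProduct.lid k A).toRingEquiv h1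
    have h3 : IsRegularLocalRing A := IsRegularLocalRing.of_isRegularRing_of_isLocalRing A
    exact (Groth.Agent.S2035.result (k := k) (A := A)).mp h3

/-- the localizations of a geometrically regular algebra are geometrically regular -/
theorem geomRegular_localization (h : CAlg.IsGeometricallyRegular k S) (p : Ideal S) [p.IsPrime] :
    CAlg.IsGeometricallyRegular k (Localization.AtPrime p) := fun k' _ _ hf =>
  Groth.Agent.Helper14.RegularLocalization.isRegularRing_tensor_localization k' (h k' hf)
    p.primeCompl (Localization.AtPrime p)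

/-- core: if all local rings of `S` are formally smooth over `k`, then `K ⊗ S` is regular for every
field extension `K` for which it is Noetherian -/
theorem isRegularRing_tensor_of_adicFS
    (h : ∀ (p : Ideal S) [p.IsPrime], CAlgX.IsAdicFormallySmooth k (Localization.AtPrime p)
      (maximalIdeal (Localization.AtPrime p)))
    (K : Type u) [Field K] [Algebra k K] [IsNoetherianRing (K ⊗[k] S)] :
    IsRegularRing (K ⊗[k] S) := by
  rw [isRegularRing_iff]
  intro Q _
  let p : Ideal S := Q.comap (Algebra.TensorProduct.includeRight : S →ₐ[k] K ⊗[k] S).toRingHom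
  have hpp : p.IsPrime := Ideal.comap_isPrime _ _
  have hfsQ := adicFS_tensor_localization k K S Q p rfl (h p)
  have h3 := (Groth.Agent.S4512.result hfsQ).1
  have h4 : IsRegularRing (K ⊗[K] Localization.AtPrime Q) := h3 K inferInstance
  have h5 : IsRegularRing (Localization.AtPrime Q) :=
    @IsRegularRing.of_ringEquiv _ _ _ _ (Algebra.TensorProduct.lid K _).toRingEquiv h4
  exact IsRegularLocalRing.of_isRegularRing_of_isLocalRing _

/-- FG theorem, strong form -/
theorem isRegularRing_tensor_of_geomRegular [IsNoetherianRing S]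
    (h : CAlg.IsGeometricallyRegular k S)
    (K : Type u) [Field K] [Algebra k K] [IsNoetherianRing (K ⊗[k] S)] :
    IsRegularRing (K ⊗[k] S) :=
  isRegularRing_tensor_of_adicFS k S
    (fun p _ => adicFS_of_geomRegular k _ (geomRegular_localization k S h p)) K

end Core

end Groth.Agent.Helper7.GeomRegFG
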