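import Mathlib
import Groth.Agent.Lib.Helper7.GeomRegFG
import Groth.Agent.Lib.Helper7.RegComp
import Groth.Agent.S2037
import Groth.Agent.Lib.Lead.Hom14

/-!
# Geometric regularity: purely inseparable and finitely generated extensions (helper7)
-/

set_option autoImplicit false
set_option linter.unusedSectionVars false
set_option linter.style.haveILetI false
universe u

namespace Groth.Agent.Helper7.GeomRegFG

open TensorProduct IsLocalRing Function

section PI

variable (k S : Type u) [Field k] [CommRing S] [Algebra k S]

/-- a Noetherian local `k`-algebra which stays regular after finite purely inseparable extensions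
is formally smooth for its adic topology -/
theorem adicFS_of_pi (A : Type u) [CommRing A] [IsLocalRing A] [IsNoetherianRing A]
    [Algebra k A]
    (h : ∀ (k' : Type u) [Field k'] [Algebra k k'], Module.Finite k k' → IsPurelyInseparable k k' →
      IsRegularRing (k' ⊗[k] A)) :
    CAlgX.IsAdicFormallySmooth k A (maximalIdeal A) := by
  obtain ⟨p, hpk⟩ := CharP.exists k
  rcases CharP.char_is_prime_or_zero k p with hp | hp
  · haveI := Fact.mk hp
    apply (Groth.Agent.S2036.result (k := k) (A := A) p).mp
    apply (Groth.Agent.S2037.result (k := k) (A := A) p).mpr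
    intro k' _ _ hfin hpow
    refine h k' hfin ?_
    haveI : ExpChar k p := ExpChar.prime hp
    rw [isPurelyInseparable_iff_pow_mem k p]
    intro x
    refine ⟨1, ?_⟩
    rw [pow_one]
    exact hpow x
  · subst hp
    haveI : CharZero k := CharP.charP_to_charZero k
    have h1 : IsRegularRing (k ⊗[k] A) := h k inferInstance inferInstance
    have h2 : IsRegularRing A :=
      @IsRegularRing.of_ringEquiv _ _ _ _ (Algebra.TensorProduct.lid k A).toRingEquiv h1
    have h3 : IsRegularLocalRing A := IsRegularLocalRing.of_isRegularRing_of_isLocalRing A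
    exact (Groth.Agent.S2035.result (k := k) (A := A)).mp h3

variable [IsNoetherianRing S]

theorem geomRegular_of_pi
    (h : ∀ (k' : Type u) [Field k'] [Algebra k k'], Module.Finite k k' → IsPurelyInseparable k k' →
      IsRegularRing (k' ⊗[k] S)) :
    CAlg.IsGeometricallyRegular k S := by
  intro K _ _ hK
  have hN : IsNoetherianRing (K ⊗[k] S) :=
    Groth.Agent.Helper7.GeomRed.isNoetherianRing_tensor_of_finite k K S
  refine isRegularRing_tensor_of_adicFS k S (fun p _ => ?_) K
  apply adicFS_of_pi
  intro k' _ _ hf hpi
  exact Groth.Agent.Helper14.RegularLocalization.isRegularRing_tensor_localization k' (h k' hf hpi)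
    p.primeCompl (Localization.AtPrime p)

theorem isNoetherianRing_tensor_of_essFiniteType (K : Type u) [Field K] [Algebra k K]
    [Algebra.EssFiniteType k K] : IsNoetherianRing (K ⊗[k] S) := by
  have h1 : Algebra.EssFiniteType S (S ⊗[k] K) := inferInstance
  have h2 : IsNoetherianRing (S ⊗[k] K) := Algebra.EssFiniteType.isNoetherianRing S _
  exact isNoetherianRing_of_ringEquiv _ (Algebra.TensorProduct.comm k S K).toRingEquiv

theorem s2672 :
    (CAlg.IsGeometricallyRegular k S ↔
        ∀ (k' : Type u) [Field k'] [Algebra k k'], Module.Finite k k' → IsPurelyInseparable k k' →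
          IsRegularRing (k' ⊗[k] S)) ∧
      (CAlg.IsGeometricallyRegular k S ↔
        ∀ (K : Type u) [Field K] [Algebra k K], Algebra.EssFiniteType k K →
          IsRegularRing (K ⊗[k] S)) := by
  refine ⟨⟨fun h k' _ _ hf _ => h k' hf, geomRegular_of_pi k S⟩, ⟨fun h K _ _ hK => ?_, ?_⟩⟩
  · have := isNoetherianRing_tensor_of_essFiniteType k S K
    exact isRegularRing_tensor_of_geomRegular k S h K
  · intro h k' _ _ hf
    exact h k' inferInstance


/-- a common finite field extension -/
theorem exists_compositum (k K k' : Type u) [Field k] [Field K] [Field k'] [Algebra k K]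
    [Algebra k k'] [Module.Finite k k'] :
    ∃ (L : Type u) (_ : Field L) (_ : Algebra K L) (_ : Algebra k' L) (_ : Algebra k L),
      IsScalarTower k K L ∧ IsScalarTower k k' L ∧ Module.Finite K L := by
  obtain ⟨m, hm⟩ := Ideal.exists_maximal (K ⊗[k] k')
  let L := (K ⊗[k] k') ⧸ m
  letI : Field L := Ideal.Quotient.field m
  let _ : Algebra k' L :=
    ((Ideal.Quotient.mk m).comp
      (Algebra.TensorProduct.includeRight : k' →ₐ[k] K ⊗[k] k').toRingHom).toAlgebra
  have t1 : IsScalarTower k K L := inferInstance
  have t2 : IsScalarTower k k' L := IsScalarTower.of_algebraMap_eq (fun x => by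
    show algebraMap k L x = (Ideal.Quotient.mk m) (Algebra.TensorProduct.includeRight
      (algebraMap k k' x))
    rw [AlgHom.commutes]
    rfl)
  have hfin : Module.Finite K (K ⊗[k] k') := inferInstance
  have t3 : Module.Finite K L := Module.Finite.of_surjective
    (Ideal.Quotient.mkₐ K m).toLinearMap (Ideal.Quotient.mkₐ_surjective K m)
  exact ⟨L, inferInstance, inferInstance, inferInstance, inferInstance, t1, t2, t3⟩

theorem s2674 (K : Type u) [Field K] [Algebra k K] [Algebra.EssFiniteType k K] :
    CAlg.IsGeometricallyRegular k S ↔ CAlg.IsGeometricallyRegular K (K ⊗[k] S) := by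
  constructor
  · intro h K' _ _ hK'
    let _ : Algebra k K' := ((algebraMap K K').comp (algebraMap k K)).toAlgebra
    have t : IsScalarTower k K K' := IsScalarTower.of_algebraMap_eq (fun a => rfl)
    have : Algebra.EssFiniteType k K' := Algebra.EssFiniteType.comp k K K'
    have hN := isNoetherianRing_tensor_of_essFiniteType k S K'
    have h1 : IsRegularRing (K' ⊗[k] S) := isRegularRing_tensor_of_geomRegular k S h K'
    exact @IsRegularRing.of_ringEquiv _ _ _ _
      (Algebra.TensorProduct.cancelBaseChange k K K K' S).symm.toRingEquiv h1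
  · intro h k' _ _ hk'
    obtain ⟨L, _, _, _, _, t1, t2, hfin⟩ := exists_compositum k K k'
    have h1 : IsRegularRing (L ⊗[K] (K ⊗[k] S)) := h L hfin
    have hff : Module.FaithfullyFlat (k' ⊗[k] S) ((k' ⊗[k] S) ⊗[k'] L) := inferInstance
    let e : L ⊗[K] (K ⊗[k] S) ≃+* (k' ⊗[k] S) ⊗[k'] L :=
      ((Algebra.TensorProduct.cancelBaseChange k K K L S).toRingEquiv.trans
        (Algebra.TensorProduct.cancelBaseChange k k' k' L S).symm.toRingEquiv).trans
        (Algebra.TensorProduct.comm k' L (k' ⊗[k] S)).toRingEquiv
    have h2 : IsRegularRing ((k' ⊗[k] S) ⊗[k'] L) := @IsRegularRing.of_ringEquiv _ _ _ _ e h1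
    exact Groth.Agent.Lead.Hom.isRegularRing_of_faithfullyFlat (k' ⊗[k] S)
      ((k' ⊗[k] S) ⊗[k'] L)

end PI

end Groth.Agent.Helper7.GeomRegFG
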