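import Mathlib
import Groth.Agent.Lib.Helper7.FieldCM
import Groth.Agent.Lib.Helper7.GeomRegFG2
import Groth.Agent.Lib.Helper7.GeomRed3
import Groth.Agent.Lib.Helper1.SerreNormal

/-!
# Geometric normality and base change to field extensions (helper7)
-/

set_option autoImplicit false
set_option linter.unusedSectionVars false
set_option linter.style.haveILetI false
universe u

namespace Groth.Agent.Helper7.GeomNormFG

open TensorProduct IsLocalRing Function
open Groth.Agent.Helper7.GeomRed Groth.Agent.Helper7.GeomRegFG Groth.Agent.Helper7.FieldCM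

theorem height_le_of_isIntegral {A B : Type*} [CommRing A] [CommRing B] [Algebra A B]
    [Algebra.IsIntegral A B] (P : Ideal B) [hP : P.IsPrime] :
    P.height ≤ (P.comap (algebraMap A B)).height := by
  have hmono : StrictMono (PrimeSpectrum.comap (algebraMap A B)) := fun x y hxy => by
    have h1 : x.asIdeal < y.asIdeal := hxy
    exact Ideal.IsIntegral.comap_lt_comap (R := A) h1
  have h2 := Order.height_le_height_apply_of_strictMono _ hmono (⟨P, hP⟩ : PrimeSpectrum B)
  rw [← PrimeSpectrum.height_eq_orderHeight, ← PrimeSpectrum.height_eq_orderHeight] at h2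
  exact h2

theorem isNormalRing_of_isLocalization {R : Type u} [CommRing R] (M : Submonoid R)
    (S : Type u) [CommRing S] [Algebra R S] [IsLocalization M S] (h : EGA4.IsNormalRing R) :
    EGA4.IsNormalRing S := by
  intro p hp
  haveI : IsLocalization.AtPrime (Localization.AtPrime p) (p.comap (algebraMap R S)) :=
    IsLocalization.isLocalization_isLocalization_atPrime_isLocalization M
      (Localization.AtPrime p) p
  let e : Localization.AtPrime (p.comap (algebraMap R S)) ≃ₐ[R] Localization.AtPrime p :=
    IsLocalization.algEquiv (p.comap (algebraMap R S)).primeCompl _ _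
  obtain ⟨h1, h2⟩ := h (p.comap (algebraMap R S))
  have h3 : IsDomain (Localization.AtPrime p) := e.toRingEquiv.toMulEquiv.isDomain_iff.mp h1
  exact ⟨h3, IsIntegrallyClosed.of_equiv e.toRingEquiv⟩

theorem isNormalRing_tensor_localization {k A : Type u} [CommRing k] [CommRing A] [Algebra k A]
    (k' : Type u) [CommRing k'] [Algebra k k'] (hnor : EGA4.IsNormalRing (k' ⊗[k] A))
    (M : Submonoid A) (B : Type u) [CommRing B] [Algebra A B] [Algebra k B] [IsScalarTower k A B]
    [IsLocalization M B] : EGA4.IsNormalRing (k' ⊗[k] B) := by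
  letI : Algebra (k' ⊗[k] A) (k' ⊗[k] B) :=
    (Algebra.TensorProduct.map (AlgHom.id k' k') (IsScalarTower.toAlgHom k A B)).toRingHom.toAlgebra
  haveI : IsScalarTower k' (k' ⊗[k] A) (k' ⊗[k] B) := IsScalarTower.of_algebraMap_eq fun x => by
    change _ = Algebra.TensorProduct.map (AlgHom.id k' k') (IsScalarTower.toAlgHom k A B)
      (x ⊗ₜ 1)
    simp
  haveI := IsLocalization.tensorProduct_tensorProduct_right k k' M B (by
    ext a
    change Algebra.TensorProduct.map (AlgHom.id k' k') (IsScalarTower.toAlgHom k A B)
      (1 ⊗ₜ a) = 1 ⊗ₜ algebraMap A B a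
    simp)
  exact isNormalRing_of_isLocalization
    (M.map (Algebra.TensorProduct.includeRight (R := k) (A := k'))) (k' ⊗[k] B) hnor


section HtOne

variable (k S : Type u) [Field k] [CommRing S] [Algebra k S] [IsNoetherianRing S]

/-- the local rings of a normal base change at primes of height at most one are regular -/
theorem isRegularRing_tensor_localization_of_height_le_one
    (k' : Type u) [Field k'] [Algebra k k'] [Module.Finite k k']
    (h : EGA4.IsNormalRing (k' ⊗[k] S))
    (p : Ideal S) [p.IsPrime] (hp : p.height ≤ 1) :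
    IsRegularRing (k' ⊗[k] Localization.AtPrime p) := by
  have h1 : EGA4.IsNormalRing (k' ⊗[k] Localization.AtPrime p) :=
    isNormalRing_tensor_localization k' h p.primeCompl (Localization.AtPrime p)
  have h2 : EGA4.IsNormalRing (Localization.AtPrime p ⊗[k] k') :=
    isNormalRing_of_ringEquiv _ _ (Algebra.TensorProduct.comm k k' _).toRingEquiv h1
  have hN : IsNoetherianRing (Localization.AtPrime p ⊗[k] k') :=
    IsNoetherianRing.of_finite (Localization.AtPrime p) _
  have hR1 := ((Groth.Agent.Helper1.SerreNormal.serre_criterion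
    (Localization.AtPrime p ⊗[k] k')).mp h2).1
  have h3 : IsRegularRing (Localization.AtPrime p ⊗[k] k') := by
    rw [isRegularRing_iff]
    intro P _
    apply hR1 P
    have hint : Algebra.IsIntegral (Localization.AtPrime p) (Localization.AtPrime p ⊗[k] k') :=
      inferInstance
    have h4 := height_le_of_isIntegral (A := Localization.AtPrime p) P
    have h5 : (P.comap (algebraMap (Localization.AtPrime p)
        (Localization.AtPrime p ⊗[k] k'))).height ≤ 1 := by
      have h6 : ((P.comap (algebraMap (Localization.AtPrime p)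
          (Localization.AtPrime p ⊗[k] k'))).height : WithBot ℕ∞) ≤
          ringKrullDim (Localization.AtPrime p) :=
        Ideal.height_le_ringKrullDim_of_ne_top (Ideal.IsPrime.ne_top inferInstance)
      rw [IsLocalization.AtPrime.ringKrullDim_eq_height p (Localization.AtPrime p)] at h6
      exact (WithBot.coe_le_coe.mp h6).trans hp
    exact_mod_cast h4.trans h5
  exact @IsRegularRing.of_ringEquiv _ _ _ _ (Algebra.TensorProduct.comm k _ k').toRingEquiv h3

end HtOne


section Point

variable (k S K : Type u) [Field k] [CommRing S] [Algebra k S] [Field K] [Algebra k K]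

theorem isRegularLocalRing_of_adicFS_point [IsNoetherianRing (K ⊗[k] S)]
    (Q : Ideal (K ⊗[k] S)) [Q.IsPrime] (p : Ideal S) [p.IsPrime]
    (hp : p = Q.comap (Algebra.TensorProduct.includeRight : S →ₐ[k] K ⊗[k] S).toRingHom)
    (h : CAlgX.IsAdicFormallySmooth k (Localization.AtPrime p)
      (maximalIdeal (Localization.AtPrime p))) :
    IsRegularLocalRing (Localization.AtPrime Q) := by
  have hfsQ := adicFS_tensor_localization k K S Q p hp h
  have h3 := (Groth.Agent.S4512.result hfsQ).1
  have h4 : IsRegularRing (K ⊗[K] Localization.AtPrime Q) := h3 K inferInstance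
  have h5 : IsRegularRing (Localization.AtPrime Q) :=
    @IsRegularRing.of_ringEquiv _ _ _ _ (Algebra.TensorProduct.lid K _).toRingEquiv h4
  exact IsRegularLocalRing.of_isRegularRing_of_isLocalRing _

end Point

section Main

variable (k S K : Type u) [Field k] [CommRing S] [Algebra k S] [Field K] [Algebra k K]
  [IsNoetherianRing S]

open Groth.Agent.Lead.Fib in
/-- normal FG theorem on `S ⊗ K` -/
theorem isNormalRing_tensor_of_geomNormal' [IsNoetherianRing (S ⊗[k] K)]
    (hc : Algebra.EssFiniteType k K ∨ Algebra.FiniteType k S)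
    (h : ∀ (k' : Type u) [Field k'] [Algebra k k'], Module.Finite k k' →
      IsPurelyInseparable k k' → EGA4.IsNormalRing (k' ⊗[k] S)) :
    EGA4.IsNormalRing (S ⊗[k] K) := by
  have hS : EGA4.IsNormalRing S :=
    isNormalRing_of_ringEquiv _ _ (Algebra.TensorProduct.lid k S).toRingEquiv
      (h k inferInstance inferInstance)
  have hS12 := (Groth.Agent.Helper1.SerreNormal.serre_criterion S).mp hS
  have hNKS : IsNoetherianRing (K ⊗[k] S) :=
    isNoetherianRing_of_ringEquiv _ (Algebra.TensorProduct.comm k S K).toRingEquiv
  apply (Groth.Agent.Helper1.SerreNormal.serre_criterion (S ⊗[k] K)).mpr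
  constructor
  · -- (R1)
    intro Q _ hQ
    let p : Ideal S := Q.comap (algebraMap S (S ⊗[k] K))
    have hpp : p.IsPrime := Ideal.comap_isPrime _ _
    have hlo : Q.LiesOver p := ⟨rfl⟩
    have hht : p.height ≤ 1 := by
      have h1 := Ideal.height_eq_height_add_of_liesOver_of_hasGoingDown p Q
      exact (le_self_add.trans h1.ge).trans hQ
    have hfs := adicFS_of_pi k (Localization.AtPrime p) (fun k' _ _ hf hpi =>
      isRegularRing_tensor_localization_of_height_le_one k S k' (h k' hf hpi) p hht)
    -- transport to `K ⊗ S`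
    let c : K ⊗[k] S ≃+* S ⊗[k] K := (Algebra.TensorProduct.comm k K S).toRingEquiv
    let Q' : Ideal (K ⊗[k] S) := Q.comap c
    have hQ' : Q'.IsPrime := Ideal.comap_isPrime _ _
    have hpQ' : p = Q'.comap
        (Algebra.TensorProduct.includeRight : S →ₐ[k] K ⊗[k] S).toRingHom := by
      ext s
      simp only [p, Q', Ideal.mem_comap]
      have : c ((Algebra.TensorProduct.includeRight : S →ₐ[k] K ⊗[k] S).toRingHom s) =
          algebraMap S (S ⊗[k] K) s := by
        simp [c, Algebra.TensorProduct.algebraMap_apply]
      rw [this]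
    have hreg := isRegularLocalRing_of_adicFS_point k S K Q' p hpQ' hfs
    let f : Localization.AtPrime Q' ≃+* Localization.AtPrime Q :=
      IsLocalization.ringEquivOfRingEquiv
        (Localization.AtPrime Q') (Localization.AtPrime Q) c (c.map_primeCompl_comap_eq Q)
    exact IsRegularLocalRing.of_ringEquiv f
  · -- (S2)
    apply hasSk_of_flat_of_fibres (R := S) 2 hS12.2
    intro q _
    let e : q.Fiber (S ⊗[k] K) ≃+* q.ResidueField ⊗[k] K :=
      (Algebra.TensorProduct.cancelBaseChange k S S q.ResidueField K).toRingEquiv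
    have hN1 : IsNoetherianRing (q.Fiber (S ⊗[k] K)) := isNoetherianRing_fiber q
    have hN2 : IsNoetherianRing (q.ResidueField ⊗[k] K) := isNoetherianRing_of_ringEquiv _ e
    have hsk : LocCoh.HasSk 2 (q.ResidueField ⊗[k] K) (q.ResidueField ⊗[k] K) := by
      rcases hc with hc | hc
      · have hN3 : IsNoetherianRing (K ⊗[k] q.ResidueField) :=
          isNoetherianRing_of_ringEquiv _ (Algebra.TensorProduct.comm k _ K).toRingEquiv
        have := hasSk_tensor_fields k K q.ResidueField 2
        exact hasSk_of_ringEquiv (Algebra.TensorProduct.comm k K _).toRingEquiv 2 this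
      · have : Algebra.EssFiniteType k q.ResidueField := Algebra.EssFiniteType.comp k S _
        exact hasSk_tensor_fields k q.ResidueField K 2
    exact hasSk_of_ringEquiv e.symm 2 hsk

theorem isNormalRing_tensor_of_geomNormal [IsNoetherianRing (K ⊗[k] S)]
    (hc : Algebra.EssFiniteType k K ∨ Algebra.FiniteType k S)
    (h : ∀ (k' : Type u) [Field k'] [Algebra k k'], Module.Finite k k' →
      IsPurelyInseparable k k' → EGA4.IsNormalRing (k' ⊗[k] S)) :
    EGA4.IsNormalRing (K ⊗[k] S) := by
  have hN : IsNoetherianRing (S ⊗[k] K) :=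
    isNoetherianRing_of_ringEquiv _ (Algebra.TensorProduct.comm k K S).toRingEquiv
  exact isNormalRing_of_ringEquiv _ _ (Algebra.TensorProduct.comm k S K).toRingEquiv
    (isNormalRing_tensor_of_geomNormal' k S K hc h)

end Main

end Groth.Agent.Helper7.GeomNormFG
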