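import Mathlib
import Groth.Agent.Lib.Helper7.GeomNormFG
import Groth.Agent.Lib.Helper7.NormAsc
import Groth.Agent.Lib.Helper29.NormDesc

/-!
# Geometric normality: statements (helper7)
-/

set_option autoImplicit false
set_option linter.unusedSectionVars false
set_option linter.style.haveILetI false
universe u

namespace Groth.Agent.Helper7.GeomNormFG

open TensorProduct IsLocalRing Function
open Groth.Agent.Helper7.GeomRed Groth.Agent.Helper7.GeomRegFG Groth.Agent.Helper7.FieldCM

section

variable (k S : Type u) [Field k] [CommRing S] [Algebra k S] [IsNoetherianRing S]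

theorem s2673 :
    (EGA4.IsGeomNormal k S ↔
        ∀ (k' : Type u) [Field k'] [Algebra k k'], Module.Finite k k' → IsPurelyInseparable k k' →
          EGA4.IsNormalRing (k' ⊗[k] S)) ∧
      (EGA4.IsGeomNormal k S ↔
        ∀ (K : Type u) [Field K] [Algebra k K], Algebra.EssFiniteType k K →
          EGA4.IsNormalRing (K ⊗[k] S)) := by
  refine ⟨⟨fun h k' _ _ hf _ => h k' hf, fun h k' _ _ hf => ?_⟩, ⟨fun h K _ _ hK => ?_, ?_⟩⟩
  · have hN : IsNoetherianRing (k' ⊗[k] S) := isNoetherianRing_tensor_of_finite k k' S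
    exact isNormalRing_tensor_of_geomNormal k S k' (Or.inl inferInstance) h
  · have := isNoetherianRing_tensor_of_essFiniteType k S K
    exact isNormalRing_tensor_of_geomNormal k S K (Or.inl hK) (fun k' _ _ hf _ => h k' hf)
  · intro h k' _ _ hf
    exact h k' inferInstance

theorem s2675 (K : Type u) [Field K] [Algebra k K] [Algebra.EssFiniteType k K] :
    EGA4.IsGeomNormal k S ↔ EGA4.IsGeomNormal K (K ⊗[k] S) := by
  constructor
  · intro h K' _ _ hK'
    let _ : Algebra k K' := ((algebraMap K K').comp (algebraMap k K)).toAlgebra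
    have t : IsScalarTower k K K' := IsScalarTower.of_algebraMap_eq (fun a => rfl)
    have : Algebra.EssFiniteType k K' := Algebra.EssFiniteType.comp k K K'
    have hN := isNoetherianRing_tensor_of_essFiniteType k S K'
    have h1 : EGA4.IsNormalRing (K' ⊗[k] S) :=
      isNormalRing_tensor_of_geomNormal k S K' (Or.inl inferInstance) (fun k' _ _ hf _ => h k' hf)
    exact isNormalRing_of_ringEquiv _ _
      (Algebra.TensorProduct.cancelBaseChange k K K K' S).symm.toRingEquiv h1
  · intro h k' _ _ hk'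
    obtain ⟨L, _, _, _, _, t1, t2, hfin⟩ := exists_compositum k K k'
    have h1 : EGA4.IsNormalRing (L ⊗[K] (K ⊗[k] S)) := h L hfin
    have hff : Module.FaithfullyFlat (k' ⊗[k] S) ((k' ⊗[k] S) ⊗[k'] L) := inferInstance
    let e : L ⊗[K] (K ⊗[k] S) ≃+* (k' ⊗[k] S) ⊗[k'] L :=
      ((Algebra.TensorProduct.cancelBaseChange k K K L S).toRingEquiv.trans
        (Algebra.TensorProduct.cancelBaseChange k k' k' L S).symm.toRingEquiv).trans
        (Algebra.TensorProduct.comm k' L (k' ⊗[k] S)).toRingEquiv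
    have h2 : EGA4.IsNormalRing ((k' ⊗[k] S) ⊗[k'] L) := isNormalRing_of_ringEquiv _ _ e h1
    exact Groth.Agent.Helper29.NormDesc.isNormalRing_of_faithfullyFlat (k' ⊗[k] S)
      ((k' ⊗[k] S) ⊗[k'] L) h2

end

section Tensor

variable (k S T : Type u) [Field k] [CommRing S] [CommRing T] [Algebra k S] [Algebra k T]
  [IsNoetherianRing S] [IsNoetherianRing T]

theorem isNormalRing_tensor [IsNoetherianRing (S ⊗[k] T)]
    (hft : Algebra.FiniteType k S ∨ Algebra.FiniteType k T) (hS : EGA4.IsNormalRing S)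
    (hT : EGA4.IsGeomNormal k T) : EGA4.IsNormalRing (S ⊗[k] T) := by
  apply Groth.Agent.Helper7.NormAsc.isNormalRing_of_flat_of_fibres S (S ⊗[k] T) hS
  intro p _
  let e : p.Fiber (S ⊗[k] T) ≃+* p.ResidueField ⊗[k] T :=
    (Algebra.TensorProduct.cancelBaseChange k S S p.ResidueField T).toRingEquiv
  have h0 : IsNoetherianRing (p.Fiber (S ⊗[k] T)) := Groth.Agent.Lead.Fib.isNoetherianRing_fiber p
  have h1 : IsNoetherianRing (p.ResidueField ⊗[k] T) := isNoetherianRing_of_ringEquiv _ e
  have hc : Algebra.EssFiniteType k p.ResidueField ∨ Algebra.FiniteType k T := by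
    rcases hft with h | h
    · exact Or.inl (Algebra.EssFiniteType.comp k S _)
    · exact Or.inr h
  have h2 : EGA4.IsNormalRing (p.ResidueField ⊗[k] T) :=
    isNormalRing_tensor_of_geomNormal k T p.ResidueField hc (fun k' _ _ hf _ => hT k' hf)
  exact isNormalRing_of_ringEquiv _ _ e.symm h2

theorem geomNormal_tensor [IsNoetherianRing (S ⊗[k] T)]
    (hft : Algebra.FiniteType k S ∨ Algebra.FiniteType k T) (hS : EGA4.IsGeomNormal k S)
    (hT : EGA4.IsGeomNormal k T) : EGA4.IsGeomNormal k (S ⊗[k] T) := by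
  intro k' _ _ hk'
  let e : (k' ⊗[k] S) ⊗[k] T ≃+* k' ⊗[k] (S ⊗[k] T) :=
    (Algebra.TensorProduct.assoc k k k k' S T).toRingEquiv
  have h0 : IsNoetherianRing (k' ⊗[k] (S ⊗[k] T)) :=
    isNoetherianRing_tensor_of_finite k k' (S ⊗[k] T)
  have h1 : IsNoetherianRing ((k' ⊗[k] S) ⊗[k] T) := isNoetherianRing_of_ringEquiv _ e.symm
  have h2 : IsNoetherianRing (k' ⊗[k] S) := isNoetherianRing_tensor_of_finite k k' S
  have hft' : Algebra.FiniteType k (k' ⊗[k] S) ∨ Algebra.FiniteType k T := by
    rcases hft with h | h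
    · left
      have h5 : Algebra.FiniteType k' (k' ⊗[k] S) := inferInstance
      have h6 : Algebra.FiniteType k k' := inferInstance
      exact Algebra.FiniteType.trans h6 h5
    · exact Or.inr h
  have h3 : EGA4.IsNormalRing ((k' ⊗[k] S) ⊗[k] T) :=
    isNormalRing_tensor k (k' ⊗[k] S) T hft' (hS k' hk') hT
  exact isNormalRing_of_ringEquiv _ _ e h3

end Tensor

end Groth.Agent.Helper7.GeomNormFG
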