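import Mathlib
import Groth.Agent.Lib.Helper7.GeomRedComp
import Groth.Agent.Lib.Helper7.RegComp
import Groth.Agent.Lib.Lead.Fib1

/-!
# Base change and descent of "flat with geometrically `P` fibres" (helper7)
-/

set_option autoImplicit false
set_option linter.unusedSectionVars false
set_option linter.style.haveILetI false
universe u

namespace Groth.Agent.Helper7.GeomPBase

open TensorProduct IsLocalRing Function
open Groth.Agent.Helper7.GeomRed

/-- the "FG property" of a ring predicate `P`: geometric `P` (finite extensions) implies `P` after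
base change to field extensions `K` (with `K ⊗ S` Noetherian), when `K` is essentially of finite
type or `S` is of finite type. -/
def FGProp (P : ∀ (R : Type u) [CommRing R], Prop) : Prop :=
  ∀ (k S K : Type u) [Field k] [Field K] [Algebra k K] [CommRing S] [Algebra k S]
    [IsNoetherianRing S] [IsNoetherianRing (K ⊗[k] S)],
    (Algebra.EssFiniteType k K ∨ Algebra.FiniteType k S) →
    (∀ (k' : Type u) [Field k'] [Algebra k k'], Module.Finite k k' → P (k' ⊗[k] S)) →
    P (K ⊗[k] S)

section FieldPoint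

variable (A B : Type u) [CommRing A] [CommRing B] [Algebra A B] [IsNoetherianRing B]

/-- `P (L ⊗[A] B)` for field-valued points `L` of `A` -/
theorem tensor_field_of_geomP
    (P : ∀ (R : Type u) [CommRing R], Prop)
    (hP : ∀ (R R' : Type u) [CommRing R] [CommRing R'], (R ≃+* R') → P R → P R')
    (hFG : FGProp P)
    (hAB : ∀ (p : Ideal A) [p.IsPrime] (k' : Type u) [Field k'] [Algebra p.ResidueField k'],
      Module.Finite p.ResidueField k' → P (k' ⊗[p.ResidueField] (p.Fiber B)))
    (L : Type u) [Field L] [Algebra A L] [IsNoetherianRing (L ⊗[A] B)]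
    (hcond : Algebra.EssFiniteType A L ∨ Algebra.FiniteType A B) :
    P (L ⊗[A] B) := by
  let p := kerPrime A L
  let _ : Algebra p.ResidueField L := (kerLift A L).toAlgebra
  have ht : IsScalarTower A p.ResidueField L := IsScalarTower.of_algebraMap_eq (fun b => by
    rw [RingHom.algebraMap_toAlgebra, kerLift_algebraMap])
  let e : L ⊗[p.ResidueField] (p.ResidueField ⊗[A] B) ≃+* L ⊗[A] B :=
    (Algebra.TensorProduct.cancelBaseChange A p.ResidueField p.ResidueField L B).toRingEquiv
  have hN1 : IsNoetherianRing (p.Fiber B) := Groth.Agent.Lead.Fib.isNoetherianRing_fiber p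
  have hN2 : IsNoetherianRing (L ⊗[p.ResidueField] (p.Fiber B)) :=
    isNoetherianRing_of_ringEquiv _ e.symm
  have hc : Algebra.EssFiniteType p.ResidueField L ∨ Algebra.FiniteType p.ResidueField (p.Fiber B) := by
    rcases hcond with h | h
    · exact Or.inl (Algebra.EssFiniteType.of_comp A p.ResidueField L)
    · exact Or.inr inferInstance
  exact hP _ _ e (hFG p.ResidueField (p.Fiber B) L hc (fun k' _ _ hk' => hAB p k' hk'))

end FieldPoint

section BaseChange

variable (A B A' : Type u) [CommRing A] [CommRing B] [CommRing A'] [Algebra A B] [Algebra A A']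
  [IsNoetherianRing B] [IsNoetherianRing (A' ⊗[A] B)]

theorem geomP_baseChange
    (P : ∀ (R : Type u) [CommRing R], Prop)
    (hP : ∀ (R R' : Type u) [CommRing R] [CommRing R'], (R ≃+* R') → P R → P R')
    (hFG : FGProp P)
    (hft : Algebra.FiniteType A B ∨ Algebra.FiniteType A A')
    (hAB : ∀ (p : Ideal A) [p.IsPrime] (k' : Type u) [Field k'] [Algebra p.ResidueField k'],
      Module.Finite p.ResidueField k' → P (k' ⊗[p.ResidueField] (p.Fiber B)))
    (p' : Ideal A') [p'.IsPrime] (K' : Type u) [Field K'] [Algebra p'.ResidueField K']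
    (hK' : Module.Finite p'.ResidueField K') :
    P (K' ⊗[p'.ResidueField] (p'.Fiber (A' ⊗[A] B))) := by
  let k := p'.ResidueField
  let _ : Algebra A' K' := ((algebraMap k K').comp (algebraMap A' k)).toAlgebra
  have ht1 : IsScalarTower A' k K' := IsScalarTower.of_algebraMap_eq (fun a => rfl)
  let _ : Algebra A K' := ((algebraMap A' K').comp (algebraMap A A')).toAlgebra
  have ht2 : IsScalarTower A A' K' := IsScalarTower.of_algebraMap_eq (fun a => rfl)
  let e : K' ⊗[k] (k ⊗[A'] (A' ⊗[A] B)) ≃+* K' ⊗[A] B :=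
    (Algebra.TensorProduct.cancelBaseChange A' k k K' (A' ⊗[A] B)).toRingEquiv.trans
      (Algebra.TensorProduct.cancelBaseChange A A' A' K' B).toRingEquiv
  have hN1 : IsNoetherianRing (p'.Fiber (A' ⊗[A] B)) :=
    Groth.Agent.Lead.Fib.isNoetherianRing_fiber p'
  have hN2 : IsNoetherianRing (K' ⊗[k] (p'.Fiber (A' ⊗[A] B))) :=
    isNoetherianRing_tensor_of_finite k K' _
  have hN3 : IsNoetherianRing (K' ⊗[A] B) :=
    @isNoetherianRing_of_ringEquiv (K' ⊗[k] (k ⊗[A'] (A' ⊗[A] B))) _ (K' ⊗[A] B) _ e hN2
  have hc : Algebra.EssFiniteType A K' ∨ Algebra.FiniteType A B := by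
    rcases hft with h | h
    · exact Or.inr h
    · left
      have h1 : Algebra.EssFiniteType A' K' := Algebra.EssFiniteType.comp A' k K'
      exact Algebra.EssFiniteType.comp A A' K'
  exact hP _ _ e.symm (tensor_field_of_geomP A B P hP hFG hAB K' hc)

end BaseChange


section Descent

variable (A B A' : Type u) [CommRing A] [CommRing B] [CommRing A'] [Algebra A B] [Algebra A A']
  [Module.FaithfullyFlat A A']

theorem geomP_descent_aux
    (P : ∀ (R : Type u) [CommRing R], Prop)
    (hP : ∀ (R R' : Type u) [CommRing R] [CommRing R'], (R ≃+* R') → P R → P R')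
    (hdesc : ∀ (R R' : Type u) [CommRing R] [CommRing R'] [Algebra R R']
      [Module.FaithfullyFlat R R'], P R' → P R)
    (hA'B : ∀ (p' : Ideal A') [p'.IsPrime] (K' : Type u) [Field K'] [Algebra p'.ResidueField K'],
      Module.Finite p'.ResidueField K' → P (K' ⊗[p'.ResidueField] (p'.Fiber (A' ⊗[A] B))))
    (p : Ideal A) [p.IsPrime] (k' : Type u) [Field k'] [Algebra p.ResidueField k']
    [Algebra A k'] [IsScalarTower A p.ResidueField k']
    (L : Type u) [Field L] [Algebra A' L] [Algebra k' L] [Algebra A L] [IsScalarTower A A' L]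
    [IsScalarTower A k' L] (hfin : (kerLift A' L).Finite) :
    P (k' ⊗[p.ResidueField] (p.ResidueField ⊗[A] B)) := by
  let p'' := kerPrime A' L
  let _ : Algebra p''.ResidueField L := (kerLift A' L).toAlgebra
  have ht2 : IsScalarTower A' p''.ResidueField L := IsScalarTower.of_algebraMap_eq (fun b => by
    rw [RingHom.algebraMap_toAlgebra, kerLift_algebraMap])
  have hLfin : Module.Finite p''.ResidueField L := hfin
  have h1 : P (L ⊗[p''.ResidueField] (p''.Fiber (A' ⊗[A] B))) := hA'B p'' L hLfin
  let e1 : L ⊗[p''.ResidueField] (p''.Fiber (A' ⊗[A] B)) ≃+* L ⊗[A] B :=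
    (Algebra.TensorProduct.cancelBaseChange A' p''.ResidueField p''.ResidueField L
      (A' ⊗[A] B)).toRingEquiv.trans
      (Algebra.TensorProduct.cancelBaseChange A A' A' L B).toRingEquiv
  let e2 : k' ⊗[p.ResidueField] (p.ResidueField ⊗[A] B) ≃ₐ[k'] k' ⊗[A] B :=
    Algebra.TensorProduct.cancelBaseChange A p.ResidueField k' k' B
  let e3 : (k' ⊗[p.ResidueField] (p.ResidueField ⊗[A] B)) ⊗[k'] L ≃+* L ⊗[A] B :=
    ((Algebra.TensorProduct.comm k' (k' ⊗[p.ResidueField] (p.ResidueField ⊗[A] B)) L).toRingEquiv.trans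
      (Algebra.TensorProduct.congr (AlgEquiv.refl : L ≃ₐ[k'] L) e2).toRingEquiv).trans
      (Algebra.TensorProduct.cancelBaseChange A k' k' L B).toRingEquiv
  have h2 : P ((k' ⊗[p.ResidueField] (p.ResidueField ⊗[A] B)) ⊗[k'] L) := hP _ _ (e1.trans e3.symm) h1
  have hff : Module.FaithfullyFlat (k' ⊗[p.ResidueField] (p.ResidueField ⊗[A] B)) ((k' ⊗[p.ResidueField] (p.ResidueField ⊗[A] B)) ⊗[k'] L) :=
    inferInstance
  exact hdesc (k' ⊗[p.ResidueField] (p.ResidueField ⊗[A] B)) ((k' ⊗[p.ResidueField] (p.ResidueField ⊗[A] B)) ⊗[k'] L) h2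

theorem geomP_descent
    (P : ∀ (R : Type u) [CommRing R], Prop)
    (hP : ∀ (R R' : Type u) [CommRing R] [CommRing R'], (R ≃+* R') → P R → P R')
    (hdesc : ∀ (R R' : Type u) [CommRing R] [CommRing R'] [Algebra R R']
      [Module.FaithfullyFlat R R'], P R' → P R)
    (hA'B : ∀ (p' : Ideal A') [p'.IsPrime] (K' : Type u) [Field K'] [Algebra p'.ResidueField K'],
      Module.Finite p'.ResidueField K' → P (K' ⊗[p'.ResidueField] (p'.Fiber (A' ⊗[A] B))))
    (p : Ideal A) [p.IsPrime] (k' : Type u) [Field k'] [Algebra p.ResidueField k']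
    (hk' : Module.Finite p.ResidueField k') :
    P (k' ⊗[p.ResidueField] (p.Fiber B)) := by
  let k := p.ResidueField
  let _ : Algebra A k' := ((algebraMap k k').comp (algebraMap A k)).toAlgebra
  have ht : IsScalarTower A k k' := IsScalarTower.of_algebraMap_eq (fun a => rfl)
  have hnt : Nontrivial (A' ⊗[A] k') :=
    (Module.FaithfullyFlat.nontrivial_tensorProduct_iff_right A A').mpr inferInstance
  obtain ⟨m, hm⟩ := Ideal.exists_maximal (A' ⊗[A] k')
  have hmp : m.IsPrime := hm.isPrime
  have hfin : (kerLift A' m.ResidueField).Finite := kerLift_finite A A' p k' m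
  let _ : Algebra k' m.ResidueField := ((algebraMap (A' ⊗[A] k') m.ResidueField).comp
    (Algebra.TensorProduct.includeRight : k' →ₐ[A] A' ⊗[A] k').toRingHom).toAlgebra
  have ht3 : IsScalarTower A k' m.ResidueField := IsScalarTower.of_algebraMap_eq (fun a => by
    show algebraMap A m.ResidueField a = algebraMap (A' ⊗[A] k') m.ResidueField
      ((Algebra.TensorProduct.includeRight : k' →ₐ[A] A' ⊗[A] k') (algebraMap A k' a))
    rw [AlgHom.commutes, ← IsScalarTower.algebraMap_apply])
  exact geomP_descent_aux A B A' P hP hdesc hA'B p k' m.ResidueField hfin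

end Descent

end Groth.Agent.Helper7.GeomPBase
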