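import Mathlib
import Groth.Agent.Lib.Helper7.GeomRegFG2
import Groth.Agent.Lib.Helper7.RegComp
import Groth.Agent.Lib.Lead.Fib1

/-!
# Tensor products of regular and geometrically regular algebras (helper7)
-/

set_option autoImplicit false
set_option linter.unusedSectionVars false
set_option linter.style.haveILetI false
universe u

namespace Groth.Agent.Helper7.GeomRegFG

open TensorProduct IsLocalRing Function

section Tensor

variable (k S T : Type u) [Field k] [CommRing S] [CommRing T] [Algebra k S] [Algebra k T]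
  [IsNoetherianRing S] [IsNoetherianRing T]

theorem isRegularRing_tensor [IsNoetherianRing (S ⊗[k] T)] (hS : IsRegularRing S)
    (hT : CAlg.IsGeometricallyRegular k T) : IsRegularRing (S ⊗[k] T) := by
  apply Groth.Agent.Helper7.GeomRed.isRegularRing_of_flat_of_fibres S (S ⊗[k] T) hS
  intro p _
  let e : p.Fiber (S ⊗[k] T) ≃+* p.ResidueField ⊗[k] T :=
    (Algebra.TensorProduct.cancelBaseChange k S S p.ResidueField T).toRingEquiv
  have h0 : IsNoetherianRing (p.Fiber (S ⊗[k] T)) := Groth.Agent.Lead.Fib.isNoetherianRing_fiber p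
  have h1 : IsNoetherianRing (p.ResidueField ⊗[k] T) := isNoetherianRing_of_ringEquiv _ e
  have h2 : IsRegularRing (p.ResidueField ⊗[k] T) :=
    isRegularRing_tensor_of_geomRegular k T hT p.ResidueField
  exact @IsRegularRing.of_ringEquiv _ _ _ _ e.symm h2

theorem geomRegular_tensor [IsNoetherianRing (S ⊗[k] T)] (hS : CAlg.IsGeometricallyRegular k S)
    (hT : CAlg.IsGeometricallyRegular k T) : CAlg.IsGeometricallyRegular k (S ⊗[k] T) := by
  intro k' _ _ hk'
  let e : (k' ⊗[k] S) ⊗[k] T ≃+* k' ⊗[k] (S ⊗[k] T) :=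
    (Algebra.TensorProduct.assoc k k k k' S T).toRingEquiv
  have h0 : IsNoetherianRing (k' ⊗[k] (S ⊗[k] T)) :=
    Groth.Agent.Helper7.GeomRed.isNoetherianRing_tensor_of_finite k k' (S ⊗[k] T)
  have h1 : IsNoetherianRing ((k' ⊗[k] S) ⊗[k] T) := isNoetherianRing_of_ringEquiv _ e.symm
  have h2 : IsNoetherianRing (k' ⊗[k] S) :=
    Groth.Agent.Helper7.GeomRed.isNoetherianRing_tensor_of_finite k k' S
  have h3 : IsRegularRing ((k' ⊗[k] S) ⊗[k] T) := isRegularRing_tensor k (k' ⊗[k] S) T (hS k' hk') hT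
  exact @IsRegularRing.of_ringEquiv _ _ _ _ e h3

end Tensor

end Groth.Agent.Helper7.GeomRegFG
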