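import Mathlib
import Groth.Agent.Lib.Helper7.GeomPBase
import Groth.Agent.Lib.Helper7.GeomRegFG3
import Groth.Agent.Lib.Lead.Hom14

/-!
# Base change of regular homomorphisms (helper7)
-/

set_option autoImplicit false
set_option linter.unusedSectionVars false
set_option linter.style.haveILetI false
universe u

namespace Groth.Agent.Helper7.GeomPBase

open TensorProduct IsLocalRing Function
open Groth.Agent.Helper7.GeomRed Groth.Agent.Helper7.GeomRegFG

theorem fgProp_isRegularRing : FGProp (fun (R : Type u) [CommRing R] => IsRegularRing R) := by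
  intro k S K _ _ _ _ _ _ _ _ h
  exact isRegularRing_tensor_of_geomRegular k S h K

section

variable (A B A' : Type u) [CommRing A] [CommRing B] [CommRing A']
  [IsNoetherianRing A] [IsNoetherianRing B] [IsNoetherianRing A'] [Algebra A B] [Algebra A A']

theorem isNoetherianRing_tensor_of_ft
    (hft : Algebra.FiniteType A B ∨ Algebra.FiniteType A A') : IsNoetherianRing (A' ⊗[A] B) := by
  rcases hft with h | h
  · exact Algebra.FiniteType.isNoetherianRing A' (A' ⊗[A] B)
  · have h1 : IsNoetherianRing (B ⊗[A] A') := Algebra.FiniteType.isNoetherianRing B (B ⊗[A] A')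
    exact isNoetherianRing_of_ringEquiv _ (Algebra.TensorProduct.comm A B A').toRingEquiv

theorem isRegularHom_baseChange
    (hft : Algebra.FiniteType A B ∨ Algebra.FiniteType A A') (h : CAlg.IsRegularHom A B) :
    CAlg.IsRegularHom A' (A' ⊗[A] B) := by
  have hN : IsNoetherianRing (A' ⊗[A] B) := isNoetherianRing_tensor_of_ft A B A' hft
  have hfl : Module.Flat A B := h.1
  refine ⟨inferInstance, fun p' _ => ⟨Groth.Agent.Lead.Fib.isNoetherianRing_fiber p', ?_⟩⟩
  intro K' _ _ hK'
  exact geomP_baseChange A B A' (fun R _ => IsRegularRing R)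
    (fun R R' _ _ e hR => @IsRegularRing.of_ringEquiv R _ R' _ e hR) fgProp_isRegularRing hft
    (fun p _ k' _ _ hf => (h.2 p).2 k' hf) p' K' hK'

theorem isRegularHom_descent [Module.FaithfullyFlat A A']
    (h : CAlg.IsRegularHom A' (A' ⊗[A] B)) : CAlg.IsRegularHom A B := by
  have hfl : Module.Flat A' (A' ⊗[A] B) := h.1
  refine ⟨Module.Flat.of_flat_tensorProduct A B A', fun p _ =>
    ⟨Groth.Agent.Lead.Fib.isNoetherianRing_fiber p, ?_⟩⟩
  intro k' _ _ hk'
  exact geomP_descent A B A' (fun R _ => IsRegularRing R)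
    (fun R R' _ _ e hR => @IsRegularRing.of_ringEquiv R _ R' _ e hR)
    (fun R R' _ _ _ _ hR' => @Groth.Agent.Lead.Hom.isRegularRing_of_faithfullyFlat R _ R' _ _ _ hR')
    (fun p' _ K' _ _ hf => (h.2 p').2 K' hf) p k' hk'

end

end Groth.Agent.Helper7.GeomPBase
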