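import Mathlib
import Groth.Agent.Lib.Helper7.GeomPBase2
import Groth.Agent.Lib.Helper7.GeomNormFG2

/-!
# Base change of normal homomorphisms (helper7)
-/

set_option autoImplicit false
set_option linter.unusedSectionVars false
set_option linter.style.haveILetI false
universe u

namespace Groth.Agent.Helper7.GeomPBase

open TensorProduct IsLocalRing Function
open Groth.Agent.Helper7.GeomRed Groth.Agent.Helper7.GeomNormFG

theorem fgProp_isNormalRing : FGProp (fun (R : Type u) [CommRing R] => EGA4.IsNormalRing R) := by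
  intro k S K _ _ _ _ _ _ _ hc h
  exact isNormalRing_tensor_of_geomNormal k S K hc (fun k' _ _ hf _ => h k' hf)

section

variable (A B A' : Type u) [CommRing A] [CommRing B] [CommRing A']
  [IsNoetherianRing A] [IsNoetherianRing B] [IsNoetherianRing A'] [Algebra A B] [Algebra A A']

theorem isNormalHom_baseChange
    (hft : Algebra.FiniteType A B ∨ Algebra.FiniteType A A') (h : EGA4.IsNormalHom A B) :
    EGA4.IsNormalHom A' (A' ⊗[A] B) := by
  have hN : IsNoetherianRing (A' ⊗[A] B) := isNoetherianRing_tensor_of_ft A B A' hft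
  have hfl : Module.Flat A B := h.1
  refine ⟨inferInstance, fun p' _ => ?_⟩
  intro K' _ _ hK'
  exact geomP_baseChange A B A' (fun R _ => EGA4.IsNormalRing R)
    (fun R R' _ _ e hR => isNormalRing_of_ringEquiv R R' e hR) fgProp_isNormalRing hft
    (fun p _ k' _ _ hf => h.2 p k' hf) p' K' hK'

theorem isNormalHom_descent [Module.FaithfullyFlat A A']
    (h : EGA4.IsNormalHom A' (A' ⊗[A] B)) : EGA4.IsNormalHom A B := by
  have hfl : Module.Flat A' (A' ⊗[A] B) := h.1
  refine ⟨Module.Flat.of_flat_tensorProduct A B A', fun p _ => ?_⟩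
  intro k' _ _ hk'
  exact geomP_descent A B A' (fun R _ => EGA4.IsNormalRing R)
    (fun R R' _ _ e hR => isNormalRing_of_ringEquiv R R' e hR)
    (fun R R' _ _ _ _ hR' => Groth.Agent.Helper29.NormDesc.isNormalRing_of_faithfullyFlat R R' hR')
    (fun p' _ K' _ _ hf => h.2 p' K' hf) p k' hk'

end

end Groth.Agent.Helper7.GeomPBase
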