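import Mathlib
import Groth.Prelude
import Groth.Agent.Lib.Helper7.GeomPBase4
import Groth.Agent.Lib.Helper7.GeomRed2

/-!
# Reducedness under base change along a normal homomorphism (helper7)
-/

set_option autoImplicit false
set_option linter.unusedSectionVars false
set_option linter.style.haveILetI false
universe u

namespace Groth.Agent.Helper7.RedBase

open TensorProduct IsLocalRing Function

theorem isReduced_of_isNormalRing {A : Type u} [CommRing A] (hn : EGA4.IsNormalRing A) :
    IsReduced A := by
  apply isReduced_ofLocalizationMaximal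
  intro J hJ
  haveI := (hn J).1
  infer_instance

/-- finite type case -/
theorem isReduced_baseChange_ft (A A' : Type u) [CommRing A] [CommRing A'] [IsNoetherianRing A]
    [IsNoetherianRing A'] [Algebra A A'] (h : EGA4.IsNormalHom A A') (B : Type u) [CommRing B]
    [Algebra A B] [Algebra.FiniteType A B] [IsReduced B] : IsReduced (A' ⊗[A] B) := by
  haveI : IsNoetherianRing B := Algebra.FiniteType.isNoetherianRing A B
  have h1 : EGA4.IsNormalHom B (B ⊗[A] A') :=
    Groth.Agent.Helper7.GeomPBase.isNormalHom_baseChange A A' B (Or.inr inferInstance) h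
  haveI : Module.Flat B (B ⊗[A] A') := h1.1
  have h2 : IsReduced (B ⊗[A] A') := by
    apply Groth.Agent.Helper7.GeomRed.isReduced_of_flat_of_fibres B (B ⊗[A] A')
    intro q _ _
    have h3 := h1.2 q q.ResidueField inferInstance
    have h4 : IsReduced (q.ResidueField ⊗[q.ResidueField] (q.Fiber (B ⊗[A] A'))) :=
      isReduced_of_isNormalRing h3
    exact isReduced_of_injective
      (Algebra.TensorProduct.lid q.ResidueField (q.Fiber (B ⊗[A] A'))).symm.toRingEquiv
      (Algebra.TensorProduct.lid q.ResidueField (q.Fiber (B ⊗[A] A'))).symm.toRingEquiv.injective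
  exact isReduced_of_injective
    (Algebra.TensorProduct.comm A A' B).toRingEquiv
    (Algebra.TensorProduct.comm A A' B).toRingEquiv.injective

theorem isReduced_baseChange (A A' : Type u) [CommRing A] [CommRing A'] [IsNoetherianRing A]
    [IsNoetherianRing A'] [Algebra A A'] (h : EGA4.IsNormalHom A A') (B : Type u) [CommRing B]
    [Algebra A B] [IsReduced B] : IsReduced (A' ⊗[A] B) := by
  haveI : Module.Flat A A' := h.1
  apply IsReduced.tensorProduct_of_flat_of_forall_fg
  intro B₁ hB₁
  haveI : Algebra.FiniteType A B₁ := (Subalgebra.fg_iff_finiteType B₁).mp hB₁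
  haveI : IsReduced B₁ := isReduced_of_injective B₁.val Subtype.val_injective
  exact isReduced_baseChange_ft A A' h B₁

end Groth.Agent.Helper7.RedBase
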