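import Mathlib
import Groth.Prelude.Def_Found
import Groth.Agent.Lib.Helper14.IntClosure

/-!
N-2 ascends along quasi-finite finite type extensions of domains (helper7), via Zariski's main theorem.
-/

universe u
namespace Groth.Agent.Helper7.QFN2
open TensorProduct Polynomial

set_option linter.style.haveILetI false

/-- If `S` is a quasi-finite `R`-algebra, domains, then `Frac S` is finite over `Frac R`. -/
theorem finite_fractionRing (R S K F : Type*) [CommRing R] [IsDomain R] [CommRing S] [IsDomain S]
    [Algebra R S] [Algebra.QuasiFinite R S]
    [Field K] [Algebra R K] [IsFractionRing R K] [Field F] [Algebra S F] [IsFractionRing S F]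
    [Algebra R F] [IsScalarTower R S F] [Algebra K F] [IsScalarTower R K F] :
    Module.Finite K F := by
  classical
  haveI : Module.Finite K (K ⊗[R] S) := Module.Finite.of_quasiFinite
  let f : K ⊗[R] S →ₐ[K] F :=
    Algebra.TensorProduct.lift (Algebra.ofId K F) (IsScalarTower.toAlgHom R S F)
      (fun _ _ => Commute.all _ _)
  let T : Subalgebra K F := f.range
  haveI : Module.Finite K T := Module.Finite.range f.toLinearMap
  have hS : ∀ s : S, algebraMap S F s ∈ T := fun s => ⟨1 ⊗ₜ s, by simp [f]⟩
  have htop : T = ⊤ := by
    rw [eq_top_iff]
    rintro y -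
    obtain ⟨a, b, hb, rfl⟩ := IsFractionRing.div_surjective (A := S) y
    have hbT : algebraMap S F b ∈ T := hS b
    have halg : IsAlgebraic K (algebraMap S F b) := by
      have h1 : IsIntegral K (⟨_, hbT⟩ : T) := Algebra.IsIntegral.isIntegral _
      have h2 : IsIntegral K (T.val ⟨_, hbT⟩) := h1.map T.val
      exact h2.isAlgebraic
    have hinv : (algebraMap S F b)⁻¹ ∈ T := T.inv_mem_of_algebraic (x := ⟨_, hbT⟩) halg
    rw [div_eq_mul_inv]
    exact T.mul_mem (hS a) hinv
  exact Module.Finite.equiv ((Subalgebra.equivOfEq _ _ htop).trans Subalgebra.topEquiv).toLinearEquiv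

theorem isIntegral_of_ringEquiv {A B L : Type*} [CommRing A] [CommRing B] [CommRing L]
    [Algebra A L] [Algebra B L] (e : A ≃+* B)
    (he : ∀ a, algebraMap B L (e a) = algebraMap A L a) {x : L} (hx : IsIntegral A x) :
    IsIntegral B x := by
  obtain ⟨p, hp, hpx⟩ := hx
  refine ⟨p.map (e : A →+* B), hp.map _, ?_⟩
  rw [eval₂_map]
  have : (algebraMap B L).comp (e : A →+* B) = algebraMap A L := RingHom.ext he
  rw [this]; exact hpx

theorem finite_integralClosure_of_ringEquiv {A B L : Type*} [CommRing A] [CommRing B] [CommRing L]
    [Algebra A L] [Algebra B L] (e : A ≃+* B)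
    (he : ∀ a, algebraMap B L (e a) = algebraMap A L a)
    (h : Module.Finite A (integralClosure A L)) : Module.Finite B (integralClosure B L) := by
  have he' : ∀ b, algebraMap A L (e.symm b) = algebraMap B L b := fun b => by
    rw [← he, RingEquiv.apply_symm_apply]
  have hiff : ∀ x : L, x ∈ integralClosure A L ↔ x ∈ integralClosure B L := fun x =>
    ⟨fun hx => isIntegral_of_ringEquiv e he hx, fun hx => isIntegral_of_ringEquiv e.symm he' hx⟩
  let e₂ : integralClosure A L ≃+* integralClosure B L :=
    { toFun := fun x => ⟨x.1, (hiff x.1).mp x.2⟩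
      invFun := fun x => ⟨x.1, (hiff x.1).mpr x.2⟩
      left_inv := fun x => rfl
      right_inv := fun x => rfl
      map_mul' := fun x y => rfl
      map_add' := fun x y => rfl }
  refine Module.Finite.of_equiv_equiv (A₁ := A) (B₁ := integralClosure A L) e e₂ ?_
  ext a
  exact he a

theorem finite_integralClosure_of_integral (R A L : Type*) [CommRing R] [CommRing A] [CommRing L]
    [Algebra R A] [Algebra A L] [Algebra R L] [IsScalarTower R A L] [Algebra.IsIntegral R A]
    (h : Module.Finite R (integralClosure R L)) : Module.Finite A (integralClosure A L) := by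
  have heq : (integralClosure R L).toSubmodule =
      (integralClosure A L).toSubmodule.restrictScalars R := by
    ext x
    simp only [Subalgebra.mem_toSubmodule, Submodule.restrictScalars_mem, mem_integralClosure_iff]
    constructor
    · intro hx; exact hx.tower_top
    · intro hx; exact isIntegral_trans x hx
  have h1 : Module.Finite R (integralClosure R L).toSubmodule := h
  rw [Module.Finite.iff_fg, heq, ← Module.Finite.iff_fg] at h1
  haveI : Module.Finite R (integralClosure A L) := h1
  exact Module.Finite.of_restrictScalars_finite R A _

theorem finite_local_piece (R S L : Type u) [CommRing R] [CommRing S] [Algebra R S] [Field L]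
    [Algebra S L] [Algebra R L] [IsScalarTower R S L]
    (hinj : Function.Injective (algebraMap S L))
    (hRL : Module.Finite R (integralClosure R L)) (S' : Subalgebra R S)
    (hS' : S'.toSubmodule.FG) (r : S') (hr : (r : S) ≠ 0)
    (hbij : Function.Bijective (Localization.awayMap S'.val.toRingHom r))
    [Algebra (Localization.Away (S'.val.toRingHom r)) L]
    [IsScalarTower S (Localization.Away (S'.val.toRingHom r)) L] :
    Module.Finite (Localization.Away (S'.val.toRingHom r))
      (integralClosure (Localization.Away (S'.val.toRingHom r)) L) := by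
  classical
  haveI : Module.Finite R S' := Module.Finite.iff_fg.mpr hS'
  haveI : Algebra.IsIntegral R S' := Algebra.IsIntegral.of_finite R S'
  have hA : Module.Finite S' (integralClosure S' L) :=
    finite_integralClosure_of_integral R S' L hRL
  have hunit : IsUnit (algebraMap S' L r) := by
    rw [isUnit_iff_ne_zero]
    intro h0
    apply hr
    apply hinj
    rw [map_zero]; exact h0
  letI : Algebra (Localization.Away r) L := (IsLocalization.Away.lift r hunit).toAlgebra
  haveI : IsScalarTower S' (Localization.Away r) L := IsScalarTower.of_algebraMap_eq (fun x =>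
    (IsLocalization.Away.lift_eq r hunit x).symm)
  have hB : Module.Finite (Localization.Away r) (integralClosure (Localization.Away r) L) :=
    Groth.Agent.Helper14.finite_integralClosure_of_isLocalization (Submonoid.powers r)
      (Localization.Away r) L hA
  let e : Localization.Away r ≃+* Localization.Away (S'.val.toRingHom r) :=
    RingEquiv.ofBijective _ hbij
  refine finite_integralClosure_of_ringEquiv e ?_ hB
  intro a
  have : (algebraMap (Localization.Away (S'.val.toRingHom r)) L).comp
      (Localization.awayMap S'.val.toRingHom r) = algebraMap (Localization.Away r) L := by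
    apply IsLocalization.ringHom_ext (Submonoid.powers r)
    ext s
    simp only [RingHom.comp_apply]
    rw [Localization.awayMap, IsLocalization.Away.map, IsLocalization.map_eq,
      ← IsScalarTower.algebraMap_apply S' (Localization.Away r) L,
      ← IsScalarTower.algebraMap_apply S (Localization.Away (S'.val.toRingHom r)) L]
    rfl
  exact congrArg (fun f => f a) this

theorem main {R S : Type u} [CommRing R] [IsDomain R] [IsNoetherianRing R] [CommRing S]
    [IsDomain S] [Algebra R S] (hinj : Function.Injective (algebraMap R S)) [Algebra.FiniteType R S]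
    [Algebra.QuasiFinite R S] (hR : CAlg.IsN2 R) : CAlg.IsN2 S := by
  classical
  intro L _ _ _ _ hfd
  let K := FractionRing R
  let F := FractionRing S
  haveI : FaithfulSMul R S := (faithfulSMul_iff_algebraMap_injective R S).mpr hinj
  haveI : FaithfulSMul R F := by
    rw [faithfulSMul_iff_algebraMap_injective, IsScalarTower.algebraMap_eq R S F]
    exact (IsFractionRing.injective S F).comp hinj
  letI : Algebra K F := FractionRing.liftAlgebra R F
  haveI : IsScalarTower R K F := FractionRing.isScalarTower_liftAlgebra R F
  haveI : Module.Finite K F := finite_fractionRing R S K F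
  letI : Algebra R L := ((algebraMap S L).comp (algebraMap R S)).toAlgebra
  haveI : IsScalarTower R S L := IsScalarTower.of_algebraMap_eq (fun x => rfl)
  letI : Algebra K L := ((algebraMap F L).comp (algebraMap K F)).toAlgebra
  haveI : IsScalarTower K F L := IsScalarTower.of_algebraMap_eq (fun x => rfl)
  haveI : IsScalarTower R K L := IsScalarTower.of_algebraMap_eq (fun x => by
    show algebraMap S L (algebraMap R S x) = algebraMap F L (algebraMap K F (algebraMap R K x))
    rw [← IsScalarTower.algebraMap_apply R K F, IsScalarTower.algebraMap_apply R S F,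
      ← IsScalarTower.algebraMap_apply S F L])
  haveI : FiniteDimensional K L := Module.Finite.trans F L
  have hRL : Module.Finite R (integralClosure R L) := hR L inferInstance
  have hSL : Function.Injective (algebraMap S L) := by
    rw [IsScalarTower.algebraMap_eq S F L]
    exact (algebraMap F L).injective.comp (IsFractionRing.injective S F)
  let P : S → Prop := fun x => x ≠ 0 ∧ ∃ (S' : Subalgebra R S) (r : S'), S'.toSubmodule.FG ∧
    (r : S) = x ∧ Function.Bijective (Localization.awayMap S'.val.toRingHom r)
  have hP : ∀ x : S, P x → ∀ [Algebra (Localization.Away x) L]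
      [IsScalarTower S (Localization.Away x) L],
      Module.Finite (Localization.Away x) (integralClosure (Localization.Away x) L) := by
    rintro x ⟨hx0, S', r, hfg, rfl, hbij⟩ i1 i2
    exact @finite_local_piece R S L _ _ _ _ _ _ _ hSL hRL S' hfg r hx0 hbij i1 i2
  have hspan : Ideal.span {x | P x} = ⊤ := by
    by_contra hne
    obtain ⟨m, hm, hle⟩ := Ideal.exists_le_maximal _ hne
    haveI := hm.isPrime
    obtain ⟨S', hfg, r, hrm, hbij⟩ :=
      Algebra.QuasiFiniteAt.exists_fg_and_exists_notMem_and_awayMap_bijective (R := R) m
    apply hrm
    apply hle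
    apply Ideal.subset_span
    refine ⟨fun h0 => hrm (h0 ▸ m.zero_mem), S', r, hfg, rfl, hbij⟩
  obtain ⟨s, hsP, hs⟩ := (Ideal.span_eq_top_iff_finite _).mp hspan
  let f : s → S := Subtype.val
  have hf : Ideal.span (Set.range f) = ⊤ := by
    rw [Subtype.range_coe_subtype]; exact hs
  have hf0 : ∀ i : s, IsUnit (algebraMap S L (f i)) := fun i => by
    rw [isUnit_iff_ne_zero]
    intro h0
    exact (hsP i.2).1 (hSL (by rw [map_zero]; exact h0))
  letI : ∀ i : s, Algebra (Localization.Away (f i)) L := fun i =>
    (IsLocalization.Away.lift (f i) (hf0 i)).toAlgebra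
  haveI : ∀ i : s, IsScalarTower S (Localization.Away (f i)) L := fun i =>
    IsScalarTower.of_algebraMap_eq (fun x => (IsLocalization.Away.lift_eq (f i) (hf0 i) x).symm)
  exact Groth.Agent.Helper14.finite_integralClosure_of_span_eq_top f hf
    (fun i => Localization.Away (f i)) L (fun i => hP (f i) (hsP i.2))

end Groth.Agent.Helper7.QFN2
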