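import Mathlib
import Groth.Prelude.Def_Found

/-!
N-2 from finiteness of integral closures in purely inseparable extensions (helper7).
-/

universe u
namespace Groth.Agent.Helper7.PIN2
open IntermediateField Polynomial

set_option linter.style.haveILetI false

theorem isGalois_fixedField_top (K N : Type*) [Field K] [Field N] [Algebra K N]
    [FiniteDimensional K N] :
    IsGalois (fixedField (⊤ : Subgroup Gal(N/K))) N :=
  IsGalois.of_fixed_field N (⊤ : Subgroup Gal(N/K))

theorem isPurelyInseparable_fixedField_top (K N : Type*) [Field K] [Field N] [Algebra K N]
    [FiniteDimensional K N] [Normal K N] :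
    IsPurelyInseparable K (fixedField (⊤ : Subgroup Gal(N/K))) := by
  classical
  rw [isPurelyInseparable_iff_natSepDegree_eq_one]
  intro x
  have hmin : minpoly K x = minpoly K (x : N) :=
    (minpoly.algebraMap_eq (algebraMap (fixedField (⊤ : Subgroup Gal(N/K))) N).injective x).symm
  rw [hmin, natSepDegree_eq_of_splits (E := N) _ (Normal.splits inferInstance (x : N))]
  have hx : ∀ y ∈ ((minpoly K (x : N)).aroots N).toFinset, y = (x : N) := by
    intro y hy
    rw [Multiset.mem_toFinset, mem_aroots] at hy
    have hy' : minpoly K y = minpoly K (x : N) := by
      have hint : IsIntegral K (x : N) := Algebra.IsIntegral.isIntegral _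
      exact (minpoly.eq_of_irreducible_of_monic (minpoly.irreducible hint) hy.2
        (minpoly.monic hint)).symm
    obtain ⟨σ, hσ⟩ := (Normal.minpoly_eq_iff_mem_orbit N).mp hy'
    have := (mem_fixedField_iff (⊤ : Subgroup Gal(N/K)) (x : N)).mp x.2 σ (Subgroup.mem_top σ)
    rw [← hσ]; exact this
  have hmem : (x : N) ∈ ((minpoly K (x : N)).aroots N).toFinset := by
    rw [Multiset.mem_toFinset, mem_aroots]
    exact ⟨minpoly.ne_zero (Algebra.IsIntegral.isIntegral _), minpoly.aeval _ _⟩
  rw [Finset.card_eq_one]
  exact ⟨(x : N), Finset.eq_singleton_iff_unique_mem.mpr ⟨hmem, hx⟩⟩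

theorem finite_integralClosure_of_tower (A K F N : Type*) [CommRing A] [IsDomain A]
    [IsNoetherianRing A] [Field K] [Algebra A K] [IsFractionRing A K]
    [Field F] [Algebra K F] [Algebra A F] [IsScalarTower A K F] [FiniteDimensional K F]
    [Field N] [Algebra F N] [Algebra A N] [IsScalarTower A F N]
    [FiniteDimensional F N] [Algebra.IsSeparable F N]
    (h : Module.Finite A (integralClosure A F)) :
    Module.Finite A (integralClosure A N) := by
  classical
  let A' := integralClosure A F
  haveI : IsNoetherianRing A' := IsNoetherianRing.of_finite A A'
  haveI : IsIntegrallyClosed A' := integralClosure.isIntegrallyClosedOfFiniteExtension K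
  haveI : IsFractionRing A' F := integralClosure.isFractionRing_of_finite_extension K F
  haveI : IsScalarTower A A' N := IsScalarTower.of_algebraMap_eq (fun x => by
    rw [IsScalarTower.algebraMap_apply A F N]; rfl)
  haveI : Module.Finite A' (integralClosure A' N) :=
    IsIntegralClosure.finite A' F N (integralClosure A' N)
  haveI : Module.Finite A (integralClosure A' N) := Module.Finite.trans A' _
  have hfg : ((integralClosure A' N).toSubmodule.restrictScalars A).FG := by
    rw [← Module.Finite.iff_fg]
    exact ‹Module.Finite A (integralClosure A' N)›
  have heq : (integralClosure A N).toSubmodule =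
      (integralClosure A' N).toSubmodule.restrictScalars A := by
    ext x
    simp only [Subalgebra.mem_toSubmodule, Submodule.restrictScalars_mem, mem_integralClosure_iff]
    constructor
    · intro hx; exact hx.tower_top
    · intro hx; exact isIntegral_trans x hx
  show Module.Finite A (integralClosure A N).toSubmodule
  rw [Module.Finite.iff_fg, heq]
  exact hfg

theorem finite_integralClosure_of_normal (A K L N : Type*) [CommRing A] [IsDomain A]
    [IsNoetherianRing A] [Field K] [Algebra A K] [IsFractionRing A K]
    [Field L] [Algebra A L]
    [Field N] [Algebra K N] [Algebra A N] [IsScalarTower A K N] [Algebra L N]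
    [IsScalarTower A L N] [FiniteDimensional K N] [Normal K N]
    (h : Module.Finite A (integralClosure A (fixedField (⊤ : Subgroup Gal(N/K))))) :
    Module.Finite A (integralClosure A L) := by
  classical
  haveI := isGalois_fixedField_top K N
  haveI : IsScalarTower A (fixedField (⊤ : Subgroup Gal(N/K))) N :=
    IsScalarTower.of_algebraMap_eq (fun x => rfl)
  haveI : Module.Finite A (integralClosure A N) :=
    finite_integralClosure_of_tower A K (fixedField (⊤ : Subgroup Gal(N/K))) N h
  haveI : IsNoetherian A (integralClosure A N) := isNoetherian_of_isNoetherianRing_of_finite A _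
  let f : integralClosure A L →ₐ[A] integralClosure A N :=
    (IsScalarTower.toAlgHom A L N).mapIntegralClosure
  have hf : Function.Injective f := by
    intro x y hxy
    have h1 : ((f x : integralClosure A N) : N) = (f y : N) := congrArg Subtype.val hxy
    apply Subtype.ext
    exact (algebraMap L N).injective h1
  exact Module.Finite.of_injective f.toLinearMap hf

theorem main (A : Type u) [CommRing A] [IsDomain A]
    [IsNoetherianRing A]
    (h : ∀ (K' : Type u) [Field K'] [Algebra A K'] [Algebra (FractionRing A) K']
      [IsScalarTower A (FractionRing A) K'], FiniteDimensional (FractionRing A) K' →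
      IsPurelyInseparable (FractionRing A) K' → Module.Finite A (integralClosure A K')) :
    CAlg.IsN2 A := by
  classical
  intro L _ _ _ _ hfd
  let K := FractionRing A
  let Ω := AlgebraicClosure L
  haveI : IsAlgClosure K Ω := IsAlgClosure.ofAlgebraic K L Ω
  let N : IntermediateField K Ω := normalClosure K L Ω
  haveI : FiniteDimensional K N := normalClosure.is_finiteDimensional K L Ω
  haveI : Normal K N := normalClosure.normal K L Ω
  haveI : IsScalarTower A L N := IsScalarTower.of_algebraMap_eq (fun x => by
    apply Subtype.ext
    exact IsScalarTower.algebraMap_apply A L Ω x)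
  refine finite_integralClosure_of_normal A K L N ?_
  exact h _ inferInstance (isPurelyInseparable_fixedField_top K N)

end Groth.Agent.Helper7.PIN2
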