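import Mathlib
import Groth.Prelude.Def_Found
import Groth.Agent.Lib.Helper1.AdicLib
import Groth.Agent.Lib.Helper7.PIN2

/-!
# Helper7: Tate's lemma (Stacks 032P)

`tate`: a Noetherian normal domain `R`, complete for the `x`-adic topology, with `R/xR` an N-2
domain, is N-2.  `core` is the finiteness statement for a fixed finite extension `L` with
`L^q ⊆ K` containing a `q`-th root of `x`.
-/

open TensorProduct

namespace Groth.Agent.Helper7.Tate

universe u

set_option linter.style.haveILetI false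
set_option linter.unusedSectionVars false

section Core

variable {R : Type u} [CommRing R] [IsDomain R] [IsIntegrallyClosed R]
  {L : Type u} [Field L] [Algebra R L] [Algebra (FractionRing R) L]
  [IsScalarTower R (FractionRing R) L]

omit [IsIntegrallyClosed R] in
theorem algebraMap_injective : Function.Injective (algebraMap R L) := by
  rw [IsScalarTower.algebraMap_eq R (FractionRing R) L]
  exact (algebraMap (FractionRing R) L).injective.comp
    (IsFractionRing.injective R (FractionRing R))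

/-- `q`-th powers of integral elements come from `R`. -/
theorem exists_pow_eq (q : ℕ) (hLq : ∀ f : L, f ^ q ∈ (algebraMap (FractionRing R) L).range)
    (s : L) (hs : IsIntegral R s) : ∃ r : R, algebraMap R L r = s ^ q := by
  obtain ⟨k, hk⟩ := hLq s
  have hint : IsIntegral R (s ^ q) := hs.pow q
  rw [← hk] at hint
  have hk' : IsIntegral R k :=
    (isIntegral_algebraMap_iff (algebraMap (FractionRing R) L).injective).mp hint
  obtain ⟨r, hr⟩ := IsIntegrallyClosed.isIntegral_iff.mp hk'
  exact ⟨r, by rw [← hk, ← hr, ← IsScalarTower.algebraMap_apply]⟩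

variable (x : R) (hx0 : x ≠ 0) (q : ℕ) (hq : 0 < q)
  (hLq : ∀ f : L, f ^ q ∈ (algebraMap (FractionRing R) L).range)
  (y : L) (hy : y ^ q = algebraMap R L x)

include hq hy in
theorem y_mem : y ∈ integralClosure R L :=
  IsIntegral.of_pow hq (by rw [hy]; exact isIntegral_algebraMap)

include hx0 hq hy in
theorem y_ne_zero : y ≠ 0 := by
  intro h
  rw [h, zero_pow hq.ne'] at hy
  exact hx0 ((map_eq_zero_iff _ algebraMap_injective).mp hy.symm)

/-- The element `y` of the integral closure. -/
def ys : integralClosure R L := ⟨y, y_mem x q hq y hy⟩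

include hx0 hLq in
theorem mem_span_ys_iff (f : integralClosure R L) :
    f ∈ Ideal.span {ys x q hq y hy} ↔
      ∃ r ∈ Ideal.span {x}, algebraMap R L r = (f : L) ^ q := by
  constructor
  · intro hf
    obtain ⟨a, rfl⟩ := Ideal.mem_span_singleton'.mp hf
    obtain ⟨r', hr'⟩ := exists_pow_eq q hLq (a : L) a.2
    refine ⟨r' * x, Ideal.mem_span_singleton'.mpr ⟨r', rfl⟩, ?_⟩
    rw [map_mul, hr']
    change _ = ((a : L) * y) ^ q
    rw [mul_pow, hy]
  · rintro ⟨r, hr, hrf⟩
    obtain ⟨c, rfl⟩ := Ideal.mem_span_singleton'.mp hr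
    have hy0 : y ≠ 0 := y_ne_zero x hx0 q hq y hy
    have hxL : algebraMap R L x ≠ 0 := fun h =>
      hx0 ((map_eq_zero_iff _ algebraMap_injective).mp h)
    have hg : ((f : L) / y) ^ q = algebraMap R L c := by
      rw [div_pow, ← hrf, hy, map_mul, mul_div_assoc, div_self hxL, mul_one]
    have hgint : IsIntegral R ((f : L) / y) :=
      IsIntegral.of_pow hq (by rw [hg]; exact isIntegral_algebraMap)
    refine Ideal.mem_span_singleton'.mpr ⟨⟨(f : L) / y, hgint⟩, ?_⟩
    apply Subtype.ext
    change (f : L) / y * y = f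
    exact div_mul_cancel₀ _ hy0

include hx0 hLq in
theorem comap_span_ys [hxp : (Ideal.span {x}).IsPrime] :
    (Ideal.span {ys x q hq y hy}).comap (algebraMap R (integralClosure R L)) =
      Ideal.span {x} := by
  ext r
  rw [Ideal.mem_comap, mem_span_ys_iff x hx0 q hq hLq y hy]
  constructor
  · rintro ⟨r₁, hr₁, h⟩
    have h2 : r₁ = r ^ q := by
      apply algebraMap_injective (L := L)
      rw [h, map_pow]
      rfl
    rw [h2] at hr₁
    exact hxp.mem_of_pow_mem _ hr₁
  · intro hr
    refine ⟨r ^ q, Ideal.pow_mem_of_mem _ hr q hq, ?_⟩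
    rw [map_pow]
    rfl

include hx0 hLq in
theorem isPrime_span_ys [hxp : (Ideal.span {x}).IsPrime] :
    (Ideal.span {ys x q hq y hy}).IsPrime := by
  rw [Ideal.isPrime_iff]
  constructor
  · intro htop
    have h1 : (1 : integralClosure R L) ∈ Ideal.span {ys x q hq y hy} := by
      rw [htop]; exact Submodule.mem_top
    rw [mem_span_ys_iff x hx0 q hq hLq y hy] at h1
    obtain ⟨r, hr, h⟩ := h1
    have h2 : r = 1 := by
      apply algebraMap_injective (L := L)
      rw [h, map_one]
      simp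
    rw [h2] at hr
    exact hxp.ne_top ((Ideal.eq_top_iff_one _).mpr hr)
  · intro a b hab
    rw [mem_span_ys_iff x hx0 q hq hLq y hy] at hab
    obtain ⟨r, hr, h⟩ := hab
    obtain ⟨ra, hra⟩ := exists_pow_eq q hLq (a : L) a.2
    obtain ⟨rb, hrb⟩ := exists_pow_eq q hLq (b : L) b.2
    have h2 : r = ra * rb := by
      apply algebraMap_injective (L := L)
      rw [h, map_mul, hra, hrb, ← mul_pow]
      rfl
    rw [h2] at hr
    rcases hxp.mem_or_mem hr with h3 | h3
    · left
      rw [mem_span_ys_iff x hx0 q hq hLq y hy]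
      exact ⟨ra, h3, hra⟩
    · right
      rw [mem_span_ys_iff x hx0 q hq hLq y hy]
      exact ⟨rb, h3, hrb⟩

end Core


section Step3

variable {R : Type u} [CommRing R] [IsDomain R]
  {L : Type u} [Field L] [Algebra R L] [Algebra (FractionRing R) L]
  [IsScalarTower R (FractionRing R) L]

variable (x : R) [IsHausdorff (Ideal.span {x}) R]

theorem exists_not_pow_dvd (a : R) (ha : a ≠ 0) : ∃ m, ¬ x ^ m ∣ a := by
  by_contra hcon
  push Not at hcon
  apply ha
  refine IsHausdorff.haus' (I := Ideal.span {x}) a (fun n => ?_)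
  rw [SModEq.zero, smul_eq_mul, Ideal.mul_top, Ideal.span_singleton_pow,
    Ideal.mem_span_singleton]
  exact hcon n

theorem exists_reduce {ι : Type*} (g : ι → R) (hg : ∃ i, g i ≠ 0) :
    ∃ (m : ℕ) (g' : ι → R), (∀ i, g i = x ^ m * g' i) ∧ ∃ i, ¬ x ∣ g' i := by
  classical
  obtain ⟨i₀, hi₀⟩ := hg
  have hP : ∃ m, ∃ i, ¬ x ^ m ∣ g i := by
    obtain ⟨m, hm⟩ := exists_not_pow_dvd x (g i₀) hi₀
    exact ⟨m, i₀, hm⟩
  have hfind := Nat.find_spec hP
  have hne : Nat.find hP ≠ 0 := by
    intro h0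
    rw [h0] at hfind
    obtain ⟨i, hi⟩ := hfind
    exact hi (by rw [pow_zero]; exact one_dvd _)
  obtain ⟨m, hm⟩ := Nat.exists_eq_succ_of_ne_zero hne
  have hall : ∀ i, x ^ m ∣ g i := by
    intro i
    by_contra hi
    exact Nat.find_min hP (by omega : m < Nat.find hP) ⟨i, hi⟩
  choose g' hg' using hall
  refine ⟨m, g', hg', ?_⟩
  rw [hm] at hfind
  obtain ⟨i, hi⟩ := hfind
  refine ⟨i, fun hdiv => hi ?_⟩
  obtain ⟨c, hc⟩ := hdiv
  exact ⟨c, by rw [hg' i, hc, pow_succ, mul_assoc]⟩

variable [hxp : (Ideal.span {x}).IsPrime]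
  (S : Subalgebra R L) (𝔮 : Ideal S) [𝔮.IsPrime] [hlo : 𝔮.LiesOver (Ideal.span {x})]

theorem linearIndependent_of_quot {ι : Type*} [Finite ι] (s : ι → S)
    (h : LinearIndependent (R ⧸ Ideal.span {x}) (fun i => Ideal.Quotient.mk 𝔮 (s i))) :
    LinearIndependent R (fun i => (s i : L)) := by
  classical
  haveI := Fintype.ofFinite ι
  rw [Fintype.linearIndependent_iff]
  intro g hg
  by_contra hne
  push Not at hne
  obtain ⟨i₀, hi₀⟩ := hne
  obtain ⟨m, g', hgg', i₁, hi₁⟩ := exists_reduce x g ⟨i₀, hi₀⟩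
  have hxm0 : x ^ m ≠ 0 := by
    intro h0
    apply hi₀
    rw [hgg' i₀, h0, zero_mul]
  have hxm : algebraMap R L (x ^ m) ≠ 0 := fun h0 =>
    hxm0 ((map_eq_zero_iff _ algebraMap_injective).mp h0)
  have hsum : ∑ i, g' i • (s i : L) = 0 := by
    have h1 : algebraMap R L (x ^ m) * ∑ i, g' i • (s i : L) = 0 := by
      rw [Finset.mul_sum, ← hg]
      refine Finset.sum_congr rfl (fun i _ => ?_)
      rw [hgg' i, Algebra.smul_def, Algebra.smul_def, map_mul, mul_assoc]
    exact (mul_eq_zero.mp h1).resolve_left hxm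
  have hsumS : ∑ i, g' i • s i = 0 := by
    apply Subtype.ext
    have h2 : ((∑ i, g' i • s i : S) : L) = ∑ i, g' i • (s i : L) := by
      rw [← Subalgebra.coe_val, map_sum]
      rfl
    rw [h2, hsum]
    rfl
  have hsumE : ∑ i, (Ideal.Quotient.mk (Ideal.span {x}) (g' i)) •
      (Ideal.Quotient.mk 𝔮 (s i)) = 0 := by
    have h1 := congrArg (Ideal.Quotient.mk 𝔮) hsumS
    rw [map_sum, map_zero] at h1
    rw [← h1]
    refine Finset.sum_congr rfl (fun i _ => ?_)
    rw [Algebra.smul_def, Algebra.smul_def, map_mul]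
    rfl
  have h0 := Fintype.linearIndependent_iff.mp h _ hsumE i₁
  exact hi₁ (Ideal.mem_span_singleton.mp (Ideal.Quotient.eq_zero_iff_mem.mp h0))

theorem finite_quot_of_liesOver [IsNoetherianRing R] [FiniteDimensional (FractionRing R) L]
    [Algebra.IsIntegral R S] (hN2 : CAlg.IsN2 (R ⧸ Ideal.span {x})) :
    Module.Finite R (S ⧸ 𝔮) := by
  classical
  letI algFM : Algebra (FractionRing (R ⧸ Ideal.span {x})) (FractionRing (S ⧸ 𝔮)) :=
    FractionRing.liftAlgebra _ _
  haveI tow : IsScalarTower (R ⧸ Ideal.span {x}) (FractionRing (R ⧸ Ideal.span {x}))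
      (FractionRing (S ⧸ 𝔮)) := FractionRing.isScalarTower_liftAlgebra _ _
  have hrank : Module.rank (FractionRing (R ⧸ Ideal.span {x})) (FractionRing (S ⧸ 𝔮)) ≤
      (Module.finrank (FractionRing R) L : ℕ) := by
    apply rank_le
    intro t ht
    obtain ⟨d, hd⟩ := IsLocalization.exist_integer_multiples_of_finset
      (nonZeroDivisors (S ⧸ 𝔮)) t
    choose ε hε using fun a : t => hd a.1 a.2
    have hdne : algebraMap (S ⧸ 𝔮) (FractionRing (S ⧸ 𝔮)) (d : S ⧸ 𝔮) ≠ 0 := fun h0 =>
      nonZeroDivisors.ne_zero d.2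
        ((map_eq_zero_iff _ (IsFractionRing.injective (S ⧸ 𝔮) (FractionRing (S ⧸ 𝔮)))).mp h0)
    have hli : LinearIndependent (FractionRing (R ⧸ Ideal.span {x}))
        (fun a : t => algebraMap (S ⧸ 𝔮) (FractionRing (S ⧸ 𝔮)) (ε a)) := by
      have h1 := ht.map' (LinearMap.mulLeft (FractionRing (R ⧸ Ideal.span {x}))
        (algebraMap (S ⧸ 𝔮) (FractionRing (S ⧸ 𝔮)) (d : S ⧸ 𝔮))) (by
          rw [LinearMap.ker_eq_bot]
          intro a b hab
          exact mul_left_cancel₀ hdne hab)
      have h2 : (fun a : t => algebraMap (S ⧸ 𝔮) (FractionRing (S ⧸ 𝔮)) (ε a)) =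
          (LinearMap.mulLeft (FractionRing (R ⧸ Ideal.span {x}))
            (algebraMap (S ⧸ 𝔮) (FractionRing (S ⧸ 𝔮)) (d : S ⧸ 𝔮))) ∘
              (fun i : t => (i : FractionRing (S ⧸ 𝔮))) := by
        funext a
        rw [hε a]
        simp [Algebra.smul_def]
      rw [h2]
      exact h1
    have hli_k : LinearIndependent (R ⧸ Ideal.span {x})
        (fun a : t => algebraMap (S ⧸ 𝔮) (FractionRing (S ⧸ 𝔮)) (ε a)) :=
      LinearIndependent.restrict_scalars' (R := R ⧸ Ideal.span {x})
        (K := FractionRing (R ⧸ Ideal.span {x})) hli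
    have hli_E : LinearIndependent (R ⧸ Ideal.span {x}) ε :=
      LinearIndependent.of_comp
        (IsScalarTower.toAlgHom (R ⧸ Ideal.span {x}) (S ⧸ 𝔮) (FractionRing (S ⧸ 𝔮))).toLinearMap
        hli_k
    have hsurj : ∀ a : t, ∃ s : S, Ideal.Quotient.mk 𝔮 s = ε a :=
      fun a => Ideal.Quotient.mk_surjective (ε a)
    choose σ hσ using hsurj
    have hR := linearIndependent_of_quot x S 𝔮 σ (by
      have : (fun a : t => Ideal.Quotient.mk 𝔮 (σ a)) = ε := funext hσ
      rw [this]; exact hli_E)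
    have hK := (LinearIndependent.iff_fractionRing R (FractionRing R)).mp hR
    have hcard := hK.fintype_card_le_finrank
    rw [Fintype.card_coe] at hcard
    exact hcard
  have hfinFM : Module.Finite (FractionRing (R ⧸ Ideal.span {x})) (FractionRing (S ⧸ 𝔮)) :=
    Module.rank_lt_aleph0_iff.mp (lt_of_le_of_lt hrank Cardinal.natCast_lt_aleph0)
  have hD : Module.Finite (R ⧸ Ideal.span {x})
      (integralClosure (R ⧸ Ideal.span {x}) (FractionRing (S ⧸ 𝔮))) :=
    hN2 (FractionRing (S ⧸ 𝔮)) hfinFM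
  haveI : IsNoetherian (R ⧸ Ideal.span {x})
      (integralClosure (R ⧸ Ideal.span {x}) (FractionRing (S ⧸ 𝔮))) :=
    isNoetherian_of_isNoetherianRing_of_finite _ _
  have hint : ∀ e : S ⧸ 𝔮, algebraMap (S ⧸ 𝔮) (FractionRing (S ⧸ 𝔮)) e ∈
      integralClosure (R ⧸ Ideal.span {x}) (FractionRing (S ⧸ 𝔮)) := by
    intro e
    obtain ⟨s, rfl⟩ := Ideal.Quotient.mk_surjective e
    have h1 : IsIntegral R s := Algebra.IsIntegral.isIntegral s
    have h2 : IsIntegral R (algebraMap (S ⧸ 𝔮) (FractionRing (S ⧸ 𝔮)) (Ideal.Quotient.mk 𝔮 s)) :=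
      h1.map ((IsScalarTower.toAlgHom R (S ⧸ 𝔮) (FractionRing (S ⧸ 𝔮))).comp
        (Ideal.Quotient.mkₐ R 𝔮))
    exact h2.tower_top
  let f : (S ⧸ 𝔮) →ₗ[R ⧸ Ideal.span {x}]
      integralClosure (R ⧸ Ideal.span {x}) (FractionRing (S ⧸ 𝔮)) :=
    LinearMap.codRestrict
      (Subalgebra.toSubmodule (integralClosure (R ⧸ Ideal.span {x}) (FractionRing (S ⧸ 𝔮))))
      (IsScalarTower.toAlgHom (R ⧸ Ideal.span {x}) (S ⧸ 𝔮) (FractionRing (S ⧸ 𝔮))).toLinearMap
      hint
  have hf : Function.Injective f := by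
    intro a b hab
    have := congrArg Subtype.val hab
    exact IsFractionRing.injective (S ⧸ 𝔮) (FractionRing (S ⧸ 𝔮)) this
  haveI : Module.Finite (R ⧸ Ideal.span {x}) (S ⧸ 𝔮) := Module.Finite.of_injective f hf
  exact Module.Finite.trans (R ⧸ Ideal.span {x}) (S ⧸ 𝔮)

end Step3


section Step4

/-- Auxiliary filtration `W + tW + ... + t^(n-1)W`. -/
def filt {R S : Type*} [CommRing R] [CommRing S] [Algebra R S] (W : Submodule R S) (t : S) :
    ℕ → Submodule R S
  | 0 => ⊥
  | n + 1 => W ⊔ (filt W t n).map (LinearMap.mulLeft R t)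

theorem finite_quot_smul_top {R S : Type*} [CommRing R] [CommRing S] [Algebra R S] (x : R)
    (t : S) (q : ℕ) (htq : t ^ q = algebraMap R S x)
    (h : Module.Finite R (S ⧸ Ideal.span {t})) :
    Module.Finite R (S ⧸ (Ideal.span {x} • ⊤ : Submodule R S)) := by
  classical
  obtain ⟨n, b, hb⟩ := Module.Finite.exists_fin (R := R) (M := S ⧸ Ideal.span {t})
  have hsurj : ∀ i, ∃ w : S, Ideal.Quotient.mk (Ideal.span {t}) w = b i :=
    fun i => Ideal.Quotient.mk_surjective (b i)
  choose w hw using hsurj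
  let W : Submodule R S := Submodule.span R (Set.range w)
  have hWfg : W.FG := Submodule.fg_span (Set.finite_range w)
  have hW : ∀ s : S, ∃ u ∈ W, ∃ a : S, s = u + t * a := by
    intro s
    have hmem : Ideal.Quotient.mk (Ideal.span {t}) s ∈ Submodule.span R (Set.range b) := by
      rw [hb]; exact Submodule.mem_top
    obtain ⟨c, hc⟩ := (Submodule.mem_span_range_iff_exists_fun R).mp hmem
    refine ⟨∑ i, c i • w i, Submodule.sum_mem _ (fun i _ =>
      Submodule.smul_mem _ _ (Submodule.subset_span ⟨i, rfl⟩)), ?_⟩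
    have h0 : Ideal.Quotient.mk (Ideal.span {t}) (s - ∑ i, c i • w i) = 0 := by
      rw [map_sub, map_sum, ← hc, sub_eq_zero]
      refine (Finset.sum_congr rfl (fun i _ => ?_)).symm
      rw [← hw i]
      rfl
    obtain ⟨a, ha⟩ := Ideal.mem_span_singleton'.mp (Ideal.Quotient.eq_zero_iff_mem.mp h0)
    exact ⟨a, by rw [mul_comm, ha]; ring⟩
  let T : ℕ → Submodule R S := filt W t
  have hT0 : T 0 = ⊥ := rfl
  have hTs : ∀ n, T (n + 1) = W ⊔ (T n).map (LinearMap.mulLeft R t) := fun n => rfl
  have hTfg : ∀ n, (T n).FG := by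
    intro n
    induction n with
    | zero => rw [hT0]; exact Submodule.fg_bot
    | succ n ih => rw [hTs]; exact hWfg.sup (ih.map _)
  have hdec : ∀ n (s : S), ∃ u ∈ T n, ∃ a : S, s = u + t ^ n * a := by
    intro n
    induction n with
    | zero => intro s; exact ⟨0, Submodule.zero_mem _, s, by simp⟩
    | succ n ih =>
      intro s
      obtain ⟨u₁, hu₁, a₁, rfl⟩ := hW s
      obtain ⟨u₂, hu₂, a₂, rfl⟩ := ih a₁
      refine ⟨u₁ + t * u₂, ?_, a₂, by ring⟩
      rw [hTs]
      exact Submodule.add_mem_sup hu₁ (Submodule.mem_map.mpr ⟨u₂, hu₂, rfl⟩)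
  haveI : Module.Finite R ↥(filt W t q) := Module.Finite.iff_fg.mpr (hTfg q)
  refine Module.Finite.of_surjective
    ((Ideal.span {x} • ⊤ : Submodule R S).mkQ ∘ₗ (filt W t q).subtype) ?_
  intro z
  obtain ⟨s, rfl⟩ := Submodule.mkQ_surjective _ z
  obtain ⟨u, hu, a, rfl⟩ := hdec q s
  refine ⟨⟨u, hu⟩, ?_⟩
  simp only [LinearMap.coe_comp, Function.comp_apply, Submodule.subtype_apply]
  rw [eq_comm, ← sub_eq_zero, ← map_sub, Submodule.mkQ_apply, Submodule.Quotient.mk_eq_zero,
    add_sub_cancel_left, htq, ← Algebra.smul_def]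
  exact Submodule.smul_mem_smul (Ideal.mem_span_singleton_self x) Submodule.mem_top

end Step4

section Step5

variable {R : Type u} [CommRing R] [IsDomain R] [IsIntegrallyClosed R]
  {L : Type u} [Field L] [Algebra R L] [Algebra (FractionRing R) L]
  [IsScalarTower R (FractionRing R) L]

theorem isHausdorff_integralClosure (x : R) [IsHausdorff (Ideal.span {x}) R] (q : ℕ) (hq : 0 < q)
    (hLq : ∀ f : L, f ^ q ∈ (algebraMap (FractionRing R) L).range) :
    IsHausdorff (Ideal.span {x}) (integralClosure R L) := by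
  refine ⟨fun f hf => ?_⟩
  obtain ⟨rf, hrf⟩ := exists_pow_eq q hLq (f : L) f.2
  have hrf0 : rf = 0 := by
    refine IsHausdorff.haus' (I := Ideal.span {x}) rf (fun n => ?_)
    have hfn := hf n
    rw [SModEq.zero, Ideal.span_singleton_pow, Submodule.ideal_span_singleton_smul,
      Submodule.mem_smul_pointwise_iff_exists] at hfn
    obtain ⟨s, -, hs⟩ := hfn
    obtain ⟨rs, hrs⟩ := exists_pow_eq q hLq (s : L) s.2
    rw [SModEq.zero, smul_eq_mul, Ideal.mul_top, Ideal.span_singleton_pow,
      Ideal.mem_span_singleton]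
    have h1 : rf = (x ^ n) ^ q * rs := by
      apply algebraMap_injective (L := L)
      rw [hrf, map_mul, hrs, ← hs, map_pow]
      have h2 : ((x ^ n • s : integralClosure R L) : L) = algebraMap R L (x ^ n) * (s : L) := by
        rw [← Algebra.smul_def]; rfl
      rw [h2, mul_pow]
    obtain ⟨q', rfl⟩ := Nat.exists_eq_succ_of_ne_zero hq.ne'
    exact ⟨(x ^ n) ^ q' * rs, by rw [h1, pow_succ]; ring⟩
  rw [hrf0, map_zero] at hrf
  have hf0 : (f : L) = 0 := (pow_eq_zero_iff hq.ne').mp hrf.symm
  exact Subtype.ext hf0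

end Step5


section CoreAssembly

variable {R : Type u} [CommRing R] [IsDomain R] [IsIntegrallyClosed R]
  {L : Type u} [Field L] [Algebra R L] [Algebra (FractionRing R) L]
  [IsScalarTower R (FractionRing R) L]

theorem core
    (x : R) (hx0 : x ≠ 0) [hxp : (Ideal.span {x}).IsPrime] [IsNoetherianRing R]
    [IsAdicComplete (Ideal.span {x}) R]
    (hN2 : CAlg.IsN2 (R ⧸ Ideal.span {x})) [FiniteDimensional (FractionRing R) L]
    (q : ℕ) (hq : 0 < q) (hLq : ∀ f : L, f ^ q ∈ (algebraMap (FractionRing R) L).range)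
    (y : L) (hy : y ^ q = algebraMap R L x) :
    Module.Finite R (integralClosure R L) := by
  haveI : IsHausdorff (Ideal.span {x}) R := inferInstance
  haveI hprime := isPrime_span_ys x hx0 q hq hLq y hy
  haveI hlo : (Ideal.span {ys x q hq y hy}).LiesOver (Ideal.span {x}) :=
    ⟨(comap_span_ys x hx0 q hq hLq y hy).symm⟩
  have h3 := finite_quot_of_liesOver x (integralClosure R L) (Ideal.span {ys x q hq y hy}) hN2
  have h4 := finite_quot_smul_top x (ys x q hq y hy) q (Subtype.ext (by
    change y ^ q = _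
    rw [hy]
    rfl)) h3
  haveI := isHausdorff_integralClosure (L := L) x q hq hLq
  exact Groth.Agent.Helper1.finite_of_isAdicComplete_of_finite_quotient (Ideal.span {x}) h4

end CoreAssembly

theorem exists_uniform_exponent (K K' : Type*) [Field K] [Field K'] [Algebra K K']
    [FiniteDimensional K K'] [IsPurelyInseparable K K'] (p : ℕ) [ExpChar K p] :
    ∃ e : ℕ, ∀ f : K', f ^ (p ^ e) ∈ (algebraMap K K').range := by
  classical
  haveI : ExpChar K' p := expChar_of_injective_algebraMap (algebraMap K K').injective p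
  let bs := Module.finBasis K K'
  choose n hn using fun i => IsPurelyInseparable.pow_mem K p (bs i)
  refine ⟨Finset.univ.sup n, fun f => ?_⟩
  have hb : ∀ i, (bs i) ^ (p ^ Finset.univ.sup n) ∈ (algebraMap K K').range := by
    intro i
    obtain ⟨d, hd⟩ := Nat.exists_eq_add_of_le (Finset.le_sup (f := n) (Finset.mem_univ i))
    rw [hd, pow_add, pow_mul]
    exact Subring.pow_mem _ (hn i) _
  rw [← bs.sum_repr f, ← iterateFrobenius_def (R := K') p, map_sum]
  refine Subring.sum_mem _ (fun i _ => ?_)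
  rw [iterateFrobenius_def, Algebra.smul_def, mul_pow, ← map_pow]
  exact Subring.mul_mem _ ⟨_, rfl⟩ (hb i)

/-- The subfield of elements whose `p^e`-th power lies in `K`. -/
def powField (K K' Ω : Type*) [Field K] [Field K'] [Field Ω] [Algebra K K'] [Algebra K' Ω]
    [Algebra K Ω] [IsScalarTower K K' Ω] (p : ℕ) [ExpChar Ω p] (e : ℕ)
    (h : ∀ f : K', f ^ (p ^ e) ∈ (algebraMap K K').range) : IntermediateField K' Ω where
  carrier := {f : Ω | f ^ (p ^ e) ∈ (algebraMap K Ω).range}
  mul_mem' := fun {a b} ha hb => by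
    change (a * b) ^ (p ^ e) ∈ (algebraMap K Ω).range
    rw [mul_pow]
    exact Subring.mul_mem _ ha hb
  one_mem' := by
    change (1 : Ω) ^ (p ^ e) ∈ (algebraMap K Ω).range
    rw [one_pow]; exact Subring.one_mem _
  add_mem' := fun {a b} ha hb => by
    change (a + b) ^ (p ^ e) ∈ (algebraMap K Ω).range
    rw [add_pow_expChar_pow]
    exact Subring.add_mem _ ha hb
  zero_mem' := by
    change (0 : Ω) ^ (p ^ e) ∈ (algebraMap K Ω).range
    rw [zero_pow (pow_pos (expChar_pos Ω p) e).ne']; exact Subring.zero_mem _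
  algebraMap_mem' := fun c => by
    change (algebraMap K' Ω c) ^ (p ^ e) ∈ (algebraMap K Ω).range
    obtain ⟨k, hk⟩ := h c
    refine ⟨k, ?_⟩
    rw [← map_pow, ← hk, ← IsScalarTower.algebraMap_apply]
  inv_mem' := fun a ha => by
    change (a⁻¹) ^ (p ^ e) ∈ (algebraMap K Ω).range
    rw [inv_pow]
    obtain ⟨k, hk⟩ := ha
    exact ⟨k⁻¹, by rw [map_inv₀, hk]⟩


/-- **Tate's lemma.** -/
theorem tate (R : Type u) [CommRing R] [IsDomain R] [IsNoetherianRing R] [IsIntegrallyClosed R]
    (x : R) (hx0 : x ≠ 0) [(Ideal.span {x}).IsPrime] [IsAdicComplete (Ideal.span {x}) R]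
    (hN2 : CAlg.IsN2 (R ⧸ Ideal.span {x})) : CAlg.IsN2 R := by
  apply Groth.Agent.Helper7.PIN2.main
  intro K' _ _ _ _ hfd hpi
  obtain ⟨p, hp⟩ := ExpChar.exists (FractionRing R)
  haveI := hp
  haveI : ExpChar K' p :=
    expChar_of_injective_algebraMap (algebraMap (FractionRing R) K').injective p
  haveI : ExpChar (AlgebraicClosure K') p :=
    expChar_of_injective_algebraMap (algebraMap K' (AlgebraicClosure K')).injective p
  obtain ⟨e, he⟩ := exists_uniform_exponent (FractionRing R) K' p
  have hq : 0 < p ^ e := pow_pos (expChar_pos (FractionRing R) p) e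
  obtain ⟨y, hy⟩ := IsAlgClosed.exists_pow_nat_eq (algebraMap R (AlgebraicClosure K') x) hq
  let W := powField (FractionRing R) K' (AlgebraicClosure K') p e he
  have hyW : y ∈ W := by
    change y ^ (p ^ e) ∈ (algebraMap (FractionRing R) (AlgebraicClosure K')).range
    rw [hy]
    exact ⟨algebraMap R (FractionRing R) x, (IsScalarTower.algebraMap_apply _ _ _ _).symm⟩
  have hle : IntermediateField.adjoin K' {y} ≤ W :=
    IntermediateField.adjoin_le_iff.mpr (Set.singleton_subset_iff.mpr hyW)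
  haveI : FiniteDimensional K' (IntermediateField.adjoin K' {y}) :=
    IntermediateField.adjoin.finiteDimensional (Algebra.IsIntegral.isIntegral y)
  haveI : FiniteDimensional (FractionRing R) (IntermediateField.adjoin K' {y}) :=
    Module.Finite.trans K' _
  haveI : IsScalarTower R (FractionRing R) (IntermediateField.adjoin K' {y}) :=
    IsScalarTower.of_algebraMap_eq (fun r => Subtype.ext (by
      change algebraMap R (AlgebraicClosure K') r =
        algebraMap (FractionRing R) (AlgebraicClosure K') (algebraMap R (FractionRing R) r)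
      rw [← IsScalarTower.algebraMap_apply]))
  have hLq : ∀ f : IntermediateField.adjoin K' {y},
      f ^ (p ^ e) ∈ (algebraMap (FractionRing R) (IntermediateField.adjoin K' {y})).range := by
    intro f
    obtain ⟨k, hk⟩ := hle f.2
    exact ⟨k, Subtype.ext hk⟩
  have hcore : Module.Finite R (integralClosure R (IntermediateField.adjoin K' {y})) :=
    core (L := IntermediateField.adjoin K' {y}) x hx0 hN2 (p ^ e) hq hLq
      ⟨y, IntermediateField.mem_adjoin_simple_self K' y⟩ (Subtype.ext hy)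
  haveI : IsNoetherian R (integralClosure R (IntermediateField.adjoin K' {y})) :=
    isNoetherian_of_isNoetherianRing_of_finite R _
  let φ : K' →ₐ[R] IntermediateField.adjoin K' {y} :=
    IsScalarTower.toAlgHom R K' (IntermediateField.adjoin K' {y})
  let f : integralClosure R K' →ₗ[R] integralClosure R (IntermediateField.adjoin K' {y}) :=
    LinearMap.codRestrict
      (Subalgebra.toSubmodule (integralClosure R (IntermediateField.adjoin K' {y})))
      (φ.toLinearMap ∘ₗ (integralClosure R K').val.toLinearMap)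
      (fun s => s.2.map φ)
  have hf : Function.Injective f := by
    intro a b hab
    have h1 := congrArg Subtype.val hab
    exact Subtype.ext (φ.toRingHom.injective h1)
  exact Module.Finite.of_injective f hf


end Groth.Agent.Helper7.Tate
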