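import Mathlib
import Groth.Prelude.Def_Found
import Groth.Agent.Lib.Helper7.Tate
import Groth.Agent.Lib.Helper7.QFN2
import Groth.Agent.S6299

/-!
# Helper7: power series rings over Noetherian normal N-2 domains are N-2 (via Tate's lemma)
-/

open TensorProduct

namespace Groth.Agent.Helper7.TatePS

universe u

set_option linter.style.haveILetI false
set_option linter.unusedSectionVars false

/-- N-2 is invariant under ring isomorphisms. -/
theorem isN2_of_ringEquiv {A B : Type u} [CommRing A] [IsDomain A] [IsNoetherianRing A]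
    [CommRing B] [IsDomain B] (e : A ≃+* B) (h : CAlg.IsN2 A) : CAlg.IsN2 B := by
  letI : Algebra A B := e.toRingHom.toAlgebra
  haveI : Module.Finite A B := Module.Finite.of_surjective (Algebra.linearMap A B) e.surjective
  exact Groth.Agent.Helper7.QFN2.main (R := A) (S := B) e.injective h

open PowerSeries in
theorem isAdicComplete_span_X (A : Type*) [CommRing A] :
    IsAdicComplete (Ideal.span {(X : A⟦X⟧)}) A⟦X⟧ := by
  have hmem : ∀ (n : ℕ) (f : A⟦X⟧),
      f ∈ (Ideal.span {(X : A⟦X⟧)} ^ n • ⊤ : Submodule A⟦X⟧ A⟦X⟧) ↔ ∀ m < n, coeff m f = 0 := by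
    intro n f
    rw [smul_eq_mul, Ideal.mul_top, Ideal.span_singleton_pow, Ideal.mem_span_singleton,
      X_pow_dvd_iff]
  refine { haus' := ?_, prec' := ?_ }
  · intro f hf
    ext m
    have := hf (m + 1)
    rw [SModEq.zero, hmem] at this
    rw [this m (Nat.lt_succ_self m), map_zero]
  · intro f hf
    refine ⟨PowerSeries.mk (fun n => coeff n (f (n + 1))), fun n => ?_⟩
    rw [SModEq.sub_mem, hmem]
    intro m hm
    have h1 := hf (show m + 1 ≤ n by omega)
    rw [SModEq.sub_mem, hmem] at h1
    have h2 := h1 m (Nat.lt_succ_self m)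
    rw [map_sub, sub_eq_zero] at h2
    rw [map_sub, coeff_mk, h2, sub_self]

open PowerSeries in
theorem span_X_eq_ker (A : Type*) [CommRing A] :
    Ideal.span {(X : A⟦X⟧)} = RingHom.ker (constantCoeff (R := A)) := by
  apply Ideal.ext
  intro φ
  rw [RingHom.mem_ker, Ideal.mem_span_singleton, X_dvd_iff]

open PowerSeries in
/-- `A⟦X⟧/(X) ≃ A`. -/
noncomputable def quotXEquiv (A : Type*) [CommRing A] :
    (A⟦X⟧ ⧸ Ideal.span {(X : A⟦X⟧)}) ≃+* A :=
  (Ideal.quotEquivOfEq (span_X_eq_ker A)).trans
    (RingHom.quotientKerEquivOfSurjective (f := constantCoeff (R := A))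
      (fun a => ⟨C a, by simp⟩))

open PowerSeries in
theorem isN2_powerSeries_of_normal (A : Type u) [CommRing A] [IsDomain A] [IsNoetherianRing A]
    [IsIntegrallyClosed A] (hA : CAlg.IsN2 A) : CAlg.IsN2 A⟦X⟧ := by
  haveI : IsIntegrallyClosed A⟦X⟧ := (Groth.Agent.S6299.result A).1
  haveI : (Ideal.span {(X : A⟦X⟧)}).IsPrime := span_X_isPrime
  haveI := isAdicComplete_span_X A
  have hX0 : (X : A⟦X⟧) ≠ 0 := X_ne_zero
  refine Groth.Agent.Helper7.Tate.tate A⟦X⟧ X hX0 ?_
  exact isN2_of_ringEquiv (quotXEquiv A).symm hA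

/-- Multivariate power series over a domain form a domain. -/
theorem isDomain_mvPowerSeries (σ : Type*) (A : Type*) [CommRing A] [IsDomain A] :
    IsDomain (MvPowerSeries σ A) := NoZeroDivisors.to_isDomain _

attribute [local instance] isDomain_mvPowerSeries

theorem isEmptyEquiv_bijective (A : Type*) [CommRing A] :
    Function.Bijective (MvPowerSeries.C (σ := Fin 0) (R := A)) := by
  constructor
  · intro a b hab
    have := congrArg (MvPowerSeries.constantCoeff (σ := Fin 0) (R := A)) hab
    simpa using this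
  · intro f
    refine ⟨MvPowerSeries.constantCoeff f, ?_⟩
    ext n
    have hn : n = 0 := Subsingleton.elim _ _
    subst hn
    simp

theorem mv (r : ℕ) : ∀ (A : Type u) [CommRing A] [IsDomain A] [IsNoetherianRing A]
    [IsIntegrallyClosed A], CAlg.IsN2 A →
      IsIntegrallyClosed (MvPowerSeries (Fin r) A) ∧ CAlg.IsN2 (MvPowerSeries (Fin r) A) := by
  induction r with
  | zero =>
    intro A _ _ _ _ hA
    let e : A ≃+* MvPowerSeries (Fin 0) A :=
      RingEquiv.ofBijective (MvPowerSeries.C (σ := Fin 0) (R := A)) (isEmptyEquiv_bijective A)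
    exact ⟨IsIntegrallyClosed.of_equiv e, isN2_of_ringEquiv e hA⟩
  | succ r ih =>
    intro A _ _ _ _ hA
    obtain ⟨h1, h2⟩ := ih A hA
    haveI := h1
    let e : MvPowerSeries (Fin (r + 1)) A ≃+* PowerSeries (MvPowerSeries (Fin r) A) :=
      (MvPowerSeries.finSuccEquiv A r).toRingEquiv
    haveI : IsIntegrallyClosed (PowerSeries (MvPowerSeries (Fin r) A)) :=
      (Groth.Agent.S6299.result (MvPowerSeries (Fin r) A)).1
    have h3 : CAlg.IsN2 (PowerSeries (MvPowerSeries (Fin r) A)) :=
      isN2_powerSeries_of_normal (MvPowerSeries (Fin r) A) h2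
    exact ⟨IsIntegrallyClosed.of_equiv e.symm, isN2_of_ringEquiv e.symm h3⟩

end Groth.Agent.Helper7.TatePS
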