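import Mathlib
import Groth.Prelude.Def_Found
import Groth.Agent.Lib.Helper7.TatePS
import Groth.Agent.Lib.Helper14.CohenStructure

/-!
# Helper7: complete Noetherian local domains are N-2 (Nagata)
-/

open TensorProduct IsLocalRing

namespace Groth.Agent.Helper7.ComplN2

universe u

set_option linter.style.haveILetI false
set_option linter.unusedSectionVars false

attribute [local instance] Groth.Agent.Helper7.TatePS.isDomain_mvPowerSeries

/-- If `L` is module-finite over the Noetherian ring `R`, the integral closure is finite. -/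
theorem finite_integralClosure_of_finite (R L : Type*) [CommRing R] [IsNoetherianRing R]
    [CommRing L] [Algebra R L] [Module.Finite R L] : Module.Finite R (integralClosure R L) :=
  Module.Finite.of_injective (integralClosure R L).val.toLinearMap Subtype.val_injective

theorem isN2_of_isField (Λ : Type u) [CommRing Λ] [IsDomain Λ] (h : IsField Λ) :
    CAlg.IsN2 Λ := by
  intro L _ _ _ _ hfd
  haveI : IsNoetherianRing Λ := by
    letI := h.toField
    infer_instance
  haveI : Module.Finite Λ (FractionRing Λ) :=
    Module.Finite.of_surjective (Algebra.linearMap Λ (FractionRing Λ))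
      (IsFractionRing.surjective_iff_isField.mpr h)
  haveI : Module.Finite Λ L := Module.Finite.trans (FractionRing Λ) L
  exact finite_integralClosure_of_finite Λ L

theorem charZero_of_cohen (Λ : Type u) [CommRing Λ] [IsDomain Λ] [IsDiscreteValuationRing Λ]
    (p : ℕ) (hp : p.Prime) (hmax : maximalIdeal Λ = Ideal.span {(p : Λ)}) : CharZero Λ := by
  obtain ⟨c, hc⟩ := CharP.exists Λ
  rcases CharP.char_is_prime_or_zero Λ c with hprime | h0
  · exfalso
    have hc0 : (c : Λ) = 0 := CharP.cast_eq_zero Λ c
    have hpm : (p : Λ) ∈ maximalIdeal Λ := by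
      rw [hmax]; exact Ideal.mem_span_singleton_self _
    by_cases hcp : c = p
    · apply IsDiscreteValuationRing.not_a_field Λ
      rw [hmax, ← hcp, hc0, Ideal.span_singleton_eq_bot]
    · have hcop : Nat.Coprime c p := (Nat.coprime_primes hprime hp).mpr hcp
      have h1 : ((Nat.gcd c p : ℕ) : Λ) ∈ maximalIdeal Λ := by
        have hb := Nat.gcd_eq_gcd_ab c p
        have h2 : ((Nat.gcd c p : ℕ) : Λ) = (c : Λ) * ((Nat.gcdA c p : ℤ) : Λ) +
            (p : Λ) * ((Nat.gcdB c p : ℤ) : Λ) := by
          have := congrArg (fun z : ℤ => (z : Λ)) hb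
          push_cast at this
          exact this
        rw [h2, hc0, zero_mul, zero_add]
        exact Ideal.mul_mem_right _ _ hpm
      rw [hcop, Nat.cast_one] at h1
      exact (maximalIdeal.isMaximal Λ).ne_top ((Ideal.eq_top_iff_one _).mpr h1)
  · subst h0
    exact CharP.charP_to_charZero Λ

theorem isN2_of_cohen (Λ : Type u) [CommRing Λ] [IsDomain Λ] [IsDiscreteValuationRing Λ]
    (p : ℕ) (hp : p.Prime) (hmax : maximalIdeal Λ = Ideal.span {(p : Λ)}) : CAlg.IsN2 Λ := by
  intro L _ _ _ _ hfd
  haveI := charZero_of_cohen Λ p hp hmax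
  haveI : CharZero (FractionRing Λ) :=
    charZero_of_injective_algebraMap (IsFractionRing.injective Λ (FractionRing Λ))
  exact IsIntegralClosure.finite Λ (FractionRing Λ) L (integralClosure Λ L)

/-- **Nagata**: a complete Noetherian local domain is N-2. -/
theorem isN2_of_complete_local_domain (R : Type u) [CommRing R] [IsDomain R] [IsLocalRing R]
    [IsNoetherianRing R] [IsAdicComplete (maximalIdeal R) R] : CAlg.IsN2 R := by
  obtain ⟨Λ, _, n, f, hΛ, hinj, hfin, -⟩ :=
    Groth.Agent.Helper14.CohenStructure.exists_powerSeries_finite_injective R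
  have key : ∃ (_ : IsDomain Λ) (_ : IsNoetherianRing Λ) (_ : IsIntegrallyClosed Λ),
      CAlg.IsN2 Λ := by
    rcases hΛ with hf | hc
    · letI := hf.toField
      exact ⟨inferInstance, inferInstance, inferInstance, isN2_of_isField Λ hf⟩
    · obtain ⟨hd, hdvr, -, p, hp, hmax⟩ := hc
      exact ⟨hd, inferInstance, inferInstance, isN2_of_cohen Λ p hp hmax⟩
  obtain ⟨_, _, _, hN2⟩ := key
  have h1 := (Groth.Agent.Helper7.TatePS.mv n Λ hN2).2
  letI : Algebra (MvPowerSeries (Fin n) Λ) R := f.toAlgebra
  haveI : Module.Finite (MvPowerSeries (Fin n) Λ) R := hfin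
  exact Groth.Agent.Helper7.QFN2.main (R := MvPowerSeries (Fin n) Λ) (S := R) hinj h1

end Groth.Agent.Helper7.ComplN2
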