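import Mathlib
import Groth.Prelude.Def_Found

/-!
# Helper7: Japanese flat base change of finite subalgebras (EGA 0_IV 23.2 style)

`main`: for a domain `A`, a Noetherian flat `A`-algebra `B` whose quotients by minimal primes are
N-2, and a finite extension `K'` of `Frac A`, the reduced rings `(C ⊗_A B)_red` stabilise along
the family of finite subalgebras `C` of `K'` with fraction field `K'`; and if `B` is faithfully
flat, `Spec A' → Spec C_α` is universally injective.
-/

open TensorProduct CategoryTheory AlgebraicGeometry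

namespace Groth.Agent.Helper7.JapFlat

universe u

set_option linter.style.haveILetI false
set_option linter.unusedSectionVars false

section Step0

variable {A K' : Type u} [CommRing A] [IsDomain A] [Field K'] [Algebra A K']
  [Algebra (FractionRing A) K'] [IsScalarTower A (FractionRing A) K']

/-- The family of subalgebras considered. -/
def PP (C : Subalgebra A K') : Prop :=
  Module.Finite A C ∧ ∀ x : K', ∃ a b : C, (b : K') ≠ 0 ∧ x * b = a

omit [IsDomain A] [Algebra (FractionRing A) K'] [IsScalarTower A (FractionRing A) K'] in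
theorem pp_mono {C C' : Subalgebra A K'} (h : PP C) (hle : C ≤ C') (hfin : Module.Finite A C') :
    PP C' := by
  refine ⟨hfin, fun x => ?_⟩
  obtain ⟨a, b, hb, hab⟩ := h.2 x
  exact ⟨⟨a, hle a.2⟩, ⟨b, hle b.2⟩, hb, hab⟩

theorem algebraMap_injective' : Function.Injective (algebraMap A K') := by
  rw [IsScalarTower.algebraMap_eq A (FractionRing A) K']
  exact (algebraMap (FractionRing A) K').injective.comp (IsFractionRing.injective A (FractionRing A))

theorem exists_denom_of_span (C : Subalgebra A K') (x : K')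
    (hx : x ∈ Submodule.span (FractionRing A) (C : Set K')) : ∃ d : A, d ≠ 0 ∧ d • x ∈ C := by
  induction hx using Submodule.span_induction with
  | mem x hx => exact ⟨1, one_ne_zero, by simpa using hx⟩
  | zero => exact ⟨1, one_ne_zero, by simp⟩
  | add x y _ _ hx hy =>
    obtain ⟨d, hd, hdx⟩ := hx
    obtain ⟨e, he, hey⟩ := hy
    refine ⟨d * e, mul_ne_zero hd he, ?_⟩
    have h1 : (d * e) • (x + y) = e • (d • x) + d • (e • y) := by
      simp only [Algebra.smul_def, map_mul]; ring
    rw [h1]
    exact C.add_mem (C.smul_mem hdx e) (C.smul_mem hey d)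
  | smul k x _ hx =>
    obtain ⟨d, hd, hdx⟩ := hx
    obtain ⟨⟨n, e⟩, hk⟩ := IsLocalization.mk'_surjective (nonZeroDivisors A) k
    refine ⟨e.1 * d, mul_ne_zero (nonZeroDivisors.ne_zero e.2) hd, ?_⟩
    have h0 : k * algebraMap A (FractionRing A) e.1 = algebraMap A (FractionRing A) n := by
      rw [← hk, IsLocalization.mk'_spec]
    have h1 : algebraMap (FractionRing A) K' k * algebraMap A K' e.1 = algebraMap A K' n := by
      rw [IsScalarTower.algebraMap_apply A (FractionRing A) K',
        IsScalarTower.algebraMap_apply A (FractionRing A) K' n, ← map_mul, h0]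
    have h2 : (e.1 * d) • (k • x) = n • (d • x) := by
      simp only [Algebra.smul_def, map_mul]
      linear_combination (algebraMap A K' d * x) * h1
    rw [h2]
    exact C.smul_mem hdx n

theorem pp_of_span (C : Subalgebra A K') (hfin : Module.Finite A C)
    (h : Submodule.span (FractionRing A) (C : Set K') = ⊤) : PP C := by
  refine ⟨hfin, fun x => ?_⟩
  obtain ⟨d, hd, hdx⟩ := exists_denom_of_span C x (h ▸ Submodule.mem_top)
  refine ⟨⟨d • x, hdx⟩, ⟨algebraMap A K' d, C.algebraMap_mem d⟩, ?_, ?_⟩
  · exact fun h0 => hd ((map_eq_zero_iff _ algebraMap_injective').mp h0)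
  · simp [Algebra.smul_def, mul_comm]

theorem exists_pp [FiniteDimensional (FractionRing A) K'] : ∃ C : Subalgebra A K', PP C := by
  classical
  obtain ⟨s, b, hb⟩ := FiniteDimensional.exists_is_basis_integral A (FractionRing A) K'
  let C : Subalgebra A K' := Algebra.adjoin A (Set.range b)
  have hfg : C.toSubmodule.FG :=
    fg_adjoin_of_finite (Set.finite_range _) (by rintro _ ⟨i, rfl⟩; exact hb i)
  have hfin : Module.Finite A C := Module.Finite.iff_fg.mpr hfg
  refine ⟨C, pp_of_span C hfin ?_⟩
  rw [eq_top_iff, ← b.span_eq]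
  exact Submodule.span_mono Algebra.subset_adjoin

end Step0


section FracInst

variable {R S : Type*} [CommRing R] [CommRing S] [Algebra R S] (P : Ideal S) [P.IsPrime]

noncomputable scoped instance fracAlg :
    Algebra (FractionRing (R ⧸ P.under R)) (FractionRing (S ⧸ P)) :=
  FractionRing.liftAlgebra _ _

scoped instance fracTower :
    IsScalarTower (R ⧸ P.under R) (FractionRing (R ⧸ P.under R)) (FractionRing (S ⧸ P)) :=
  FractionRing.isScalarTower_liftAlgebra _ _

end FracInst

theorem under_mem_minimalPrimes {R S : Type*} [CommRing R] [CommRing S] [Algebra R S]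
    [Module.Flat R S] (P : Ideal S) (hP : P ∈ minimalPrimes S) : P.under R ∈ minimalPrimes R := by
  haveI := Ideal.IsMinimalPrime.isPrime hP
  refine ⟨⟨inferInstance, bot_le⟩, fun q hq hqp => ?_⟩
  haveI := hq.1
  obtain ⟨Q, hQP, hQ, hQq⟩ := Ideal.exists_ideal_le_liesOver_of_le (p := q) (q := P.under R) P hqp
  have hPQ : P ≤ Q := hP.2 ⟨hQ, bot_le⟩ hQP
  have hQeq : Q = P := le_antisymm hQP hPQ
  rw [hQq.over, hQeq]

section Amb

variable {A B K' : Type u} [CommRing A] [IsDomain A] [CommRing B] [Algebra A B] [Field K']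
  [Algebra A K'] [Algebra (FractionRing A) K'] [IsScalarTower A (FractionRing A) K']

theorem flat_K' : Module.Flat A K' := by
  haveI : Module.Flat A (FractionRing A) := IsLocalization.flat _ (nonZeroDivisors A)
  exact Module.Flat.trans A (FractionRing A) K'

theorem isNoetherianRing_amb [IsNoetherianRing B] [FiniteDimensional (FractionRing A) K'] :
    IsNoetherianRing (B ⊗[A] K') := by
  haveI : IsNoetherianRing (B ⊗[A] FractionRing A) :=
    IsLocalization.isNoetherianRing (Algebra.algebraMapSubmonoid B (nonZeroDivisors A)) _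
      inferInstance
  haveI : IsNoetherianRing (FractionRing A ⊗[A] B) :=
    isNoetherianRing_of_ringEquiv _ (Algebra.TensorProduct.comm A B (FractionRing A)).toRingEquiv
  haveI : IsNoetherianRing ((FractionRing A ⊗[A] B) ⊗[FractionRing A] K') :=
    Algebra.FiniteType.isNoetherianRing (FractionRing A ⊗[A] B)
      ((FractionRing A ⊗[A] B) ⊗[FractionRing A] K')
  exact isNoetherianRing_of_ringEquiv _
    (((Algebra.TensorProduct.comm (FractionRing A) (FractionRing A ⊗[A] B) K').trans
      (Algebra.TensorProduct.cancelBaseChange A (FractionRing A) (FractionRing A) K'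
        B)).toRingEquiv.trans (Algebra.TensorProduct.comm A K' B).toRingEquiv)

theorem finite_frac [FiniteDimensional (FractionRing A) K'] (P : Ideal (B ⊗[A] K')) [P.IsPrime] :
    Module.Finite (FractionRing (B ⧸ P.under B)) (FractionRing ((B ⊗[A] K') ⧸ P)) := by
  classical
  let κ : K' →ₐ[A] FractionRing ((B ⊗[A] K') ⧸ P) :=
    (IsScalarTower.toAlgHom A ((B ⊗[A] K') ⧸ P) (FractionRing ((B ⊗[A] K') ⧸ P))).comp
      ((Ideal.Quotient.mkₐ A P).comp Algebra.TensorProduct.includeRight)
  have hκ : ∀ x : K', κ x = algebraMap ((B ⊗[A] K') ⧸ P) (FractionRing ((B ⊗[A] K') ⧸ P))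
      (Ideal.Quotient.mk P ((1 : B) ⊗ₜ[A] x)) := fun x => rfl
  haveI : IsScalarTower A (FractionRing (B ⧸ P.under B)) (FractionRing ((B ⊗[A] K') ⧸ P)) :=
    inferInstance
  have hκinj : Function.Injective κ := κ.toRingHom.injective
  have hAK'inj : Function.Injective (algebraMap A K') := by
    rw [IsScalarTower.algebraMap_eq A (FractionRing A) K']
    exact (algebraMap (FractionRing A) K').injective.comp
      (IsFractionRing.injective A (FractionRing A))
  have hAFinj : Function.Injective (algebraMap A (FractionRing (B ⧸ P.under B))) := by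
    rw [injective_iff_map_eq_zero]
    intro a ha
    have h1 : algebraMap A (FractionRing ((B ⊗[A] K') ⧸ P)) a = 0 := by
      rw [IsScalarTower.algebraMap_apply A (FractionRing (B ⧸ P.under B)), ha, map_zero]
    rw [← κ.commutes a] at h1
    exact (map_eq_zero_iff _ hAK'inj).mp ((map_eq_zero_iff _ hκinj).mp h1)
  haveI : Algebra.IsAlgebraic A (FractionRing A) :=
    IsLocalization.isAlgebraic (FractionRing A) (nonZeroDivisors A)
  haveI : Algebra.IsAlgebraic A K' := Algebra.IsAlgebraic.trans A (FractionRing A) K'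
  have hint : ∀ x : K', IsIntegral (FractionRing (B ⧸ P.under B)) (κ x) := fun x =>
    (((Algebra.IsAlgebraic.isAlgebraic (R := A) x).algHom κ).extendScalars hAFinj).isIntegral
  let bs := Module.finBasis (FractionRing A) K'
  let E : IntermediateField (FractionRing (B ⧸ P.under B)) (FractionRing ((B ⊗[A] K') ⧸ P)) :=
    IntermediateField.adjoin _ (Set.range fun j => κ (bs j))
  haveI : Finite (Set.range fun j => κ (bs j)) := (Set.finite_range _).to_subtype
  haveI : FiniteDimensional (FractionRing (B ⧸ P.under B)) E :=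
    IntermediateField.finiteDimensional_adjoin (by rintro _ ⟨j, rfl⟩; exact hint _)
  have hA : ∀ a : A, κ (algebraMap A K' a) ∈ E := fun a => by
    rw [κ.commutes, IsScalarTower.algebraMap_apply A (FractionRing (B ⧸ P.under B))]
    exact E.algebraMap_mem _
  have hK : ∀ k : FractionRing A, κ (algebraMap (FractionRing A) K' k) ∈ E := fun k => by
    obtain ⟨⟨n, e⟩, rfl⟩ := IsLocalization.mk'_surjective (nonZeroDivisors A) k
    have h0 : algebraMap (FractionRing A) K' (IsLocalization.mk' (FractionRing A) n e) *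
        algebraMap A K' e.1 = algebraMap A K' n := by
      rw [IsScalarTower.algebraMap_apply A (FractionRing A) K',
        IsScalarTower.algebraMap_apply A (FractionRing A) K' n, ← map_mul, IsLocalization.mk'_spec]
    have hne : κ (algebraMap A K' e.1) ≠ 0 := fun h =>
      nonZeroDivisors.ne_zero e.2 ((map_eq_zero_iff _ hAK'inj).mp ((map_eq_zero_iff _ hκinj).mp h))
    have h1 : κ (algebraMap (FractionRing A) K' (IsLocalization.mk' (FractionRing A) n e)) =
        κ (algebraMap A K' n) / κ (algebraMap A K' e.1) := by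
      rw [eq_div_iff hne, ← map_mul, h0]
    rw [h1]
    exact E.div_mem (hA n) (hA e.1)
  have hK' : ∀ x : K', κ x ∈ E := fun x => by
    rw [← bs.sum_repr x, map_sum]
    refine E.sum_mem fun j _ => ?_
    rw [Algebra.smul_def, map_mul]
    exact E.mul_mem (hK _) (IntermediateField.subset_adjoin _ _ ⟨j, rfl⟩)
  have hB : ∀ b : B, algebraMap ((B ⊗[A] K') ⧸ P) (FractionRing ((B ⊗[A] K') ⧸ P))
      (Ideal.Quotient.mk P (b ⊗ₜ[A] (1 : K'))) ∈ E := fun b => by
    have h1 : algebraMap ((B ⊗[A] K') ⧸ P) (FractionRing ((B ⊗[A] K') ⧸ P))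
        (Ideal.Quotient.mk P (b ⊗ₜ[A] (1 : K'))) =
        algebraMap (FractionRing (B ⧸ P.under B)) (FractionRing ((B ⊗[A] K') ⧸ P))
          (algebraMap (B ⧸ P.under B) (FractionRing (B ⧸ P.under B))
            (Ideal.Quotient.mk (P.under B) b)) := by
      rw [← IsScalarTower.algebraMap_apply (B ⧸ P.under B) (FractionRing (B ⧸ P.under B)),
        IsScalarTower.algebraMap_apply (B ⧸ P.under B) ((B ⊗[A] K') ⧸ P)]
      rfl
    rw [h1]
    exact E.algebraMap_mem _
  have hT : ∀ t : B ⊗[A] K', algebraMap ((B ⊗[A] K') ⧸ P) (FractionRing ((B ⊗[A] K') ⧸ P))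
      (Ideal.Quotient.mk P t) ∈ E := fun t => by
    induction t using TensorProduct.induction_on with
    | zero => simp
    | tmul b x =>
      have h1 : b ⊗ₜ[A] x = (b ⊗ₜ[A] (1 : K')) * ((1 : B) ⊗ₜ[A] x) := by
        simp [Algebra.TensorProduct.tmul_mul_tmul]
      rw [h1, map_mul, map_mul]
      exact E.mul_mem (hB b) (by rw [← hκ]; exact hK' x)
    | add u v hu hv =>
      rw [map_add, map_add]
      exact E.add_mem hu hv
  have hL : ∀ z : FractionRing ((B ⊗[A] K') ⧸ P), z ∈ E := fun z => by
    obtain ⟨s, s', _, rfl⟩ := IsFractionRing.div_surjective (A := (B ⊗[A] K') ⧸ P) z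
    obtain ⟨t, rfl⟩ := Ideal.Quotient.mk_surjective s
    obtain ⟨t', rfl⟩ := Ideal.Quotient.mk_surjective s'
    exact E.div_mem (hT t) (hT t')
  exact Module.Finite.of_surjective E.val.toLinearMap (fun z => ⟨⟨z, hL z⟩, rfl⟩)

end Amb


theorem fg_integralClosure_of_surjective (R S L : Type*) [CommRing R] [CommRing S] [CommRing L]
    [Algebra R S] [Algebra S L] [Algebra R L] [IsScalarTower R S L]
    (hsurj : Function.Surjective (algebraMap R S)) (h : Module.Finite S (integralClosure S L)) :
    (Subalgebra.toSubmodule (integralClosure R L)).FG := by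
  have h1 : (Subalgebra.toSubmodule (integralClosure S L)).FG := Module.Finite.iff_fg.mp h
  have h2 := Submodule.FG.restrictScalars_of_surjective (R := R) h1 hsurj
  have heq : Subalgebra.toSubmodule (integralClosure R L) =
      (Subalgebra.toSubmodule (integralClosure S L)).restrictScalars R := by
    ext x
    simp only [Subalgebra.mem_toSubmodule, Submodule.restrictScalars_mem, mem_integralClosure_iff]
    haveI : Algebra.IsIntegral R S := Algebra.isIntegral_of_surjective hsurj
    exact ⟨fun hx => hx.tower_top, fun hx => isIntegral_trans x hx⟩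
  rw [heq]; exact h2


section Main

variable (A B K' : Type u) [CommRing A] [CommRing B] [Algebra A B] [Field K'] [Algebra A K']

/-- Index type: minimal primes of the ambient ring. -/
abbrev Idx := {P : Ideal (B ⊗[A] K') // P ∈ minimalPrimes (B ⊗[A] K')}

variable {A B K'}

scoped instance idxPrime (i : Idx A B K') : i.1.IsPrime := Ideal.IsMinimalPrime.isPrime i.2

/-- The residue fraction fields. -/
abbrev LL (i : Idx A B K') : Type u := FractionRing ((B ⊗[A] K') ⧸ i.1)

/-- The map to the product of the fraction fields. -/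
noncomputable def Phi : (B ⊗[A] K') →ₐ[B] (∀ i : Idx A B K', LL i) :=
  AlgHom.pi (fun i =>
    (IsScalarTower.toAlgHom B ((B ⊗[A] K') ⧸ i.1) (LL i)).comp (Ideal.Quotient.mkₐ B i.1))

theorem Phi_apply (t : B ⊗[A] K') (i : Idx A B K') :
    Phi t i = algebraMap ((B ⊗[A] K') ⧸ i.1) (LL i) (Ideal.Quotient.mk i.1 t) := rfl

theorem isNilpotent_of_Phi_eq_zero (t : B ⊗[A] K') (h : Phi t = 0) : IsNilpotent t := by
  have h1 : t ∈ sInf (minimalPrimes (B ⊗[A] K')) := by
    rw [Ideal.mem_sInf]
    intro P hP
    have h2 := congrFun h ⟨P, hP⟩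
    rw [Phi_apply, Pi.zero_apply, map_eq_zero_iff _ (IsFractionRing.injective _ _)] at h2
    exact Ideal.Quotient.eq_zero_iff_mem.mp h2
  rw [minimalPrimes, Ideal.sInf_minimalPrimes] at h1
  exact mem_nilradical.mp h1

/-- The maps `g_C`. -/
noncomputable def gC (C : Subalgebra A K') : B ⊗[A] C →ₐ[B] B ⊗[A] K' :=
  Algebra.TensorProduct.map (AlgHom.id B B) C.val

theorem gC_injective [Module.Flat A B] (C : Subalgebra A K') :
    Function.Injective (gC (B := B) C) := by
  have h := Module.Flat.lTensor_preserves_injective_linearMap (M := B) C.val.toLinearMap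
    Subtype.val_injective
  have h2 : ∀ z, (C.val.toLinearMap.lTensor B) z = gC C z := by
    intro z
    induction z using TensorProduct.induction_on with
    | zero => simp
    | tmul b c => simp [gC]
    | add u v hu hv => simp only [map_add, hu, hv]
  intro x y hxy
  apply h
  rw [h2, h2, hxy]

theorem gC_comp {C C' : Subalgebra A K'} (hle : C ≤ C') (x : B ⊗[A] C) :
    gC C' (Algebra.TensorProduct.map (AlgHom.id B B) (Subalgebra.inclusion hle) x) = gC C x := by
  induction x using TensorProduct.induction_on with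
  | zero => simp
  | tmul b c => simp [gC]
  | add u v hu hv => simp only [map_add, hu, hv]

/-- The integral closures as `B`-submodules. -/
noncomputable abbrev EE (i : Idx A B K') : Submodule B (LL i) :=
  Subalgebra.toSubmodule (integralClosure B (LL i))

/-- The image modules. -/
noncomputable def MM (C : Subalgebra A K') : Submodule B (∀ i : Idx A B K', LL i) :=
  LinearMap.range ((Phi (A := A) (B := B) (K' := K')).toLinearMap ∘ₗ (gC C).toLinearMap)

theorem mem_MM (C : Subalgebra A K') (y : B ⊗[A] C) : Phi (gC C y) ∈ MM (B := B) C := ⟨y, rfl⟩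

theorem MM_mono {C C' : Subalgebra A K'} (hle : C ≤ C') : MM (B := B) C ≤ MM C' := by
  rintro _ ⟨y, rfl⟩
  refine ⟨Algebra.TensorProduct.map (AlgHom.id B B) (Subalgebra.inclusion hle) y, ?_⟩
  simp only [LinearMap.coe_comp, Function.comp_apply, AlgHom.toLinearMap_apply, gC_comp]

theorem MM_le (C : Subalgebra A K') [Module.Finite A C] :
    MM (B := B) C ≤ Submodule.pi Set.univ EE := by
  rintro _ ⟨y, rfl⟩ i _
  have hy : IsIntegral B y := Algebra.IsIntegral.isIntegral y
  exact hy.map ((Pi.evalAlgHom B (fun i : Idx A B K' => LL i) i).comp (Phi.comp (gC C)))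

end Main

section Main2

variable {A B K' : Type u} [CommRing A] [IsDomain A] [CommRing B] [Algebra A B]
  [IsNoetherianRing B] [Module.Flat A B] [Field K'] [Algebra A K']
  [Algebra (FractionRing A) K'] [IsScalarTower A (FractionRing A) K']
  [FiniteDimensional (FractionRing A) K']

theorem EE_fg (hJ : ∀ (q : Ideal B) [q.IsPrime], q ∈ minimalPrimes B → CAlg.IsN2 (B ⧸ q))
    (i : Idx A B K') : (EE i).FG := by
  haveI : Module.Flat A K' := flat_K'
  have hp := under_mem_minimalPrimes (R := B) i.1 i.2
  have hfin := finite_frac (A := A) (B := B) i.1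
  have hN2 := hJ (i.1.under B) hp (LL i) hfin
  exact fg_integralClosure_of_surjective B (B ⧸ i.1.under B) (LL i)
    Ideal.Quotient.mk_surjective hN2

theorem main_lemma (hJ : ∀ (q : Ideal B) [q.IsPrime], q ∈ minimalPrimes B → CAlg.IsN2 (B ⧸ q)) :
    ∃ Cα : Subalgebra A K', PP Cα ∧ ∀ C : Subalgebra A K', PP C → Cα ≤ C →
      ∀ y : B ⊗[A] C, ∃ x : B ⊗[A] Cα, IsNilpotent (gC Cα x - gC C y) := by
  classical
  haveI : IsNoetherianRing (B ⊗[A] K') := isNoetherianRing_amb
  haveI : Finite (Idx A B K') := (minimalPrimes.finite_of_isNoetherianRing (B ⊗[A] K')).to_subtype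
  have hfg : (Submodule.pi Set.univ (EE (A := A) (B := B) (K' := K'))).FG :=
    Submodule.fg_pi (EE_fg hJ)
  haveI : IsNoetherian B ↥(Submodule.pi Set.univ (EE (A := A) (B := B) (K' := K'))) :=
    isNoetherian_of_fg_of_noetherian _ hfg
  let S : Set (Submodule B ↥(Submodule.pi Set.univ (EE (A := A) (B := B) (K' := K')))) :=
    {N | ∃ C : Subalgebra A K', PP C ∧
      N = (MM (B := B) C).comap (Submodule.pi Set.univ (EE (A := A) (B := B) (K' := K'))).subtype}
  have hS : S.Nonempty := by
    obtain ⟨C, hC⟩ := exists_pp (A := A) (K' := K')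
    exact ⟨_, C, hC, rfl⟩
  obtain ⟨N, ⟨Cα, hCα, rfl⟩, hmax⟩ := set_has_maximal_iff_noetherian.mpr inferInstance S hS
  refine ⟨Cα, hCα, fun C hC hle y => ?_⟩
  have h2 : (MM (B := B) Cα).comap (Submodule.pi Set.univ EE).subtype ≤
      (MM (B := B) C).comap (Submodule.pi Set.univ EE).subtype :=
    Submodule.comap_mono (MM_mono hle)
  have h3 : (MM (B := B) C).comap (Submodule.pi Set.univ EE).subtype =
      (MM (B := B) Cα).comap (Submodule.pi Set.univ EE).subtype := by
    by_contra hne
    exact hmax _ ⟨C, hC, rfl⟩ (lt_of_le_of_ne h2 (Ne.symm hne))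
  haveI := hC.1
  have hy' : (⟨Phi (gC C y), MM_le C (mem_MM C y)⟩ : ↥(Submodule.pi Set.univ EE)) ∈
      (MM (B := B) C).comap (Submodule.pi Set.univ EE).subtype := mem_MM C y
  rw [h3] at hy'
  obtain ⟨x, hx⟩ := hy'
  refine ⟨x, isNilpotent_of_Phi_eq_zero _ ?_⟩
  have hx' : Phi (gC Cα x) = Phi (gC C y) := hx
  rw [map_sub, hx', sub_self]

end Main2


section Final

variable {A B K' : Type u} [CommRing A] [CommRing B] [Algebra A B] [Field K'] [Algebra A K']

theorem map_incl_injective [Module.Flat A B] {C C' : Subalgebra A K'} (hle : C ≤ C') :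
    Function.Injective
      (Algebra.TensorProduct.map (Subalgebra.inclusion hle) (AlgHom.id A B)) := by
  have h := Module.Flat.rTensor_preserves_injective_linearMap (M := B)
    (Subalgebra.inclusion hle).toLinearMap (Subalgebra.inclusion_injective hle)
  have h2 : ∀ z, ((Subalgebra.inclusion hle).toLinearMap.rTensor B) z =
      Algebra.TensorProduct.map (Subalgebra.inclusion hle) (AlgHom.id A B) z := by
    intro z
    induction z using TensorProduct.induction_on with
    | zero => simp
    | tmul b c => simp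
    | add u v hu hv => simp only [map_add, hu, hv]
  intro x y hxy
  apply h
  rw [h2, h2, hxy]

theorem comm_map_comm {C C' : Subalgebra A K'} (hle : C ≤ C') (x' : B ⊗[A] C) :
    Algebra.TensorProduct.comm A C' B
      (Algebra.TensorProduct.map (Subalgebra.inclusion hle) (AlgHom.id A B)
        ((Algebra.TensorProduct.comm A C B).symm x')) =
    Algebra.TensorProduct.map (AlgHom.id B B) (Subalgebra.inclusion hle) x' := by
  induction x' using TensorProduct.induction_on with
  | zero => simp
  | tmul b c => simp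
  | add u v hu hv => simp only [map_add, hu, hv]

theorem surj_of_main [Module.Flat A B] {Cα C : Subalgebra A K'} (hle : Cα ≤ C)
    (h : ∀ y : B ⊗[A] C, ∃ x : B ⊗[A] Cα, IsNilpotent (gC Cα x - gC C y))
    (y : ↥C ⊗[A] B) : ∃ x : ↥Cα ⊗[A] B,
      IsNilpotent (Algebra.TensorProduct.map (Subalgebra.inclusion hle) (AlgHom.id A B) x - y) := by
  obtain ⟨x', hx'⟩ := h (Algebra.TensorProduct.comm A C B y)
  refine ⟨(Algebra.TensorProduct.comm A Cα B).symm x', ?_⟩
  let ψ : ↥C ⊗[A] B →+* B ⊗[A] K' :=
    (gC (B := B) C).toRingHom.comp (Algebra.TensorProduct.comm A C B).toAlgHom.toRingHom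
  have hψ : Function.Injective ψ :=
    (gC_injective C).comp (Algebra.TensorProduct.comm A C B).injective
  rw [← IsNilpotent.map_iff hψ]
  have e : ψ (Algebra.TensorProduct.map (Subalgebra.inclusion hle) (AlgHom.id A B)
      ((Algebra.TensorProduct.comm A Cα B).symm x') - y) =
      gC Cα x' - gC C (Algebra.TensorProduct.comm A C B y) := by
    rw [map_sub]
    congr 1
    change gC C (Algebra.TensorProduct.comm A C B _) = _
    rw [comm_map_comm, gC_comp]
  rw [e]
  exact hx'

theorem radicial_of_surj_red [Module.FaithfullyFlat A B] {C₁ C₂ : Subalgebra A K'}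
    (hle : C₁ ≤ C₂)
    (hsurj : ∀ y : ↥C₂ ⊗[A] B, ∃ x : ↥C₁ ⊗[A] B,
      IsNilpotent (Algebra.TensorProduct.map (Subalgebra.inclusion hle) (AlgHom.id A B) x - y))
    (Ω : Type u) [Field Ω] (h₁ h₂ : C₂ →+* Ω)
    (heq : h₁.comp (Subalgebra.inclusion hle).toRingHom =
      h₂.comp (Subalgebra.inclusion hle).toRingHom) : h₁ = h₂ := by
  letI : Algebra A Ω := (h₁.comp (algebraMap A C₂)).toAlgebra
  have heq' : ∀ c : C₁, h₁ (Subalgebra.inclusion hle c) = h₂ (Subalgebra.inclusion hle c) :=
    fun c => congrArg (fun f : ↥C₁ →+* Ω => f c) heq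
  let h₁' : C₂ →ₐ[A] Ω := { h₁ with commutes' := fun a => rfl }
  have hcomm2 : ∀ a, h₂ (algebraMap A C₂ a) = algebraMap A Ω a := fun a => by
    have := heq' (algebraMap A C₁ a)
    exact this.symm
  let h₂' : C₂ →ₐ[A] Ω := { h₂ with commutes' := hcomm2 }
  obtain ⟨𝔪, h𝔪⟩ := Ideal.exists_maximal (Ω ⊗[A] B)
  haveI := h𝔪
  let π : Ω ⊗[A] B →+* (Ω ⊗[A] B) ⧸ 𝔪 := Ideal.Quotient.mk 𝔪
  let F₁ : ↥C₂ ⊗[A] B →+* (Ω ⊗[A] B) ⧸ 𝔪 :=
    π.comp (Algebra.TensorProduct.map h₁' (AlgHom.id A B)).toRingHom
  let F₂ : ↥C₂ ⊗[A] B →+* (Ω ⊗[A] B) ⧸ 𝔪 :=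
    π.comp (Algebra.TensorProduct.map h₂' (AlgHom.id A B)).toRingHom
  have hagree : ∀ x : ↥C₁ ⊗[A] B,
      F₁ (Algebra.TensorProduct.map (Subalgebra.inclusion hle) (AlgHom.id A B) x) =
      F₂ (Algebra.TensorProduct.map (Subalgebra.inclusion hle) (AlgHom.id A B) x) := by
    intro x
    induction x using TensorProduct.induction_on with
    | zero => simp
    | tmul c b =>
      have : h₁' (Subalgebra.inclusion hle c) = h₂' (Subalgebra.inclusion hle c) := heq' c
      simp [F₁, F₂, this]
    | add u v hu hv => simp only [map_add, hu, hv]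
  have hall : ∀ y, F₁ y = F₂ y := by
    intro y
    obtain ⟨x, hx⟩ := hsurj y
    have e1 : F₁ (Algebra.TensorProduct.map (Subalgebra.inclusion hle) (AlgHom.id A B) x - y) = 0 :=
      (hx.map F₁).eq_zero
    have e2 : F₂ (Algebra.TensorProduct.map (Subalgebra.inclusion hle) (AlgHom.id A B) x - y) = 0 :=
      (hx.map F₂).eq_zero
    rw [map_sub, sub_eq_zero] at e1 e2
    rw [← e1, ← e2, hagree]
  have hinj : Function.Injective
      (π.comp (Algebra.TensorProduct.includeLeft : Ω →ₐ[A] Ω ⊗[A] B).toRingHom) :=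
    RingHom.injective _
  ext c
  apply hinj
  have := hall (c ⊗ₜ[A] (1 : B))
  simpa [F₁, F₂, h₁', h₂'] using this

/-- Field-valued points criterion for `Spec.map` to be universally injective. -/
theorem universallyInjective_spec_of_radicial {R S : Type u} [CommRing R] [CommRing S]
    (ψ : R →+* S)
    (h : ∀ (K : Type u) [Field K] (g₁ g₂ : S →+* K), g₁.comp ψ = g₂.comp ψ → g₁ = g₂) :
    UniversallyInjective (Spec.map (CommRingCat.ofHom ψ)) := by
  have htfae := (tfae_universallyInjective (Spec.map (CommRingCat.ofHom ψ))).out 0 1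
  rw [htfae]
  intro K _ g₁ g₂ hg
  rw [← Spec.map_preimage g₁, ← Spec.map_preimage g₂] at hg ⊢
  simp only [← Spec.map_comp] at hg
  have h2 := Spec.map_injective hg
  have h3 := h K (Spec.preimage g₁).hom (Spec.preimage g₂).hom (by
    have := congrArg CommRingCat.Hom.hom h2
    simpa using this)
  congr 1
  exact CommRingCat.hom_ext h3

end Final


section FinalMain

variable {A B K' : Type u} [CommRing A] [IsDomain A] [CommRing B] [Algebra A B]
  [IsNoetherianRing B] [Module.Flat A B] [Field K'] [Algebra A K']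
  [Algebra (FractionRing A) K'] [IsScalarTower A (FractionRing A) K']
  [FiniteDimensional (FractionRing A) K']

theorem main (hJ : ∀ (q : Ideal B) [q.IsPrime], q ∈ minimalPrimes B → CAlg.IsN2 (B ⧸ q)) :
    ∃ Cα : Subalgebra A K', PP Cα ∧
      (∀ C : Subalgebra A K', PP C → ∀ hle : Cα ≤ C,
        (∀ x : ↥Cα ⊗[A] B, IsNilpotent (Algebra.TensorProduct.map (Subalgebra.inclusion hle)
          (AlgHom.id A B) x) → IsNilpotent x) ∧
        (∀ y : ↥C ⊗[A] B, ∃ x : ↥Cα ⊗[A] B,
          IsNilpotent (Algebra.TensorProduct.map (Subalgebra.inclusion hle)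
            (AlgHom.id A B) x - y))) ∧
      (Module.FaithfullyFlat A B → ∀ hint : Cα ≤ integralClosure A K',
        UniversallyInjective
          (Spec.map (CommRingCat.ofHom (Subalgebra.inclusion hint).toRingHom))) := by
  obtain ⟨Cα, hCα, hmain⟩ := main_lemma (A := A) (B := B) (K' := K') hJ
  have hsurj : ∀ C : Subalgebra A K', PP C → ∀ hle : Cα ≤ C, ∀ y : ↥C ⊗[A] B,
      ∃ x : ↥Cα ⊗[A] B, IsNilpotent (Algebra.TensorProduct.map (Subalgebra.inclusion hle)
        (AlgHom.id A B) x - y) :=
    fun C hC hle => surj_of_main hle (hmain C hC hle)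
  refine ⟨Cα, hCα, fun C hC hle =>
    ⟨fun x hx => (IsNilpotent.map_iff (map_incl_injective hle)).mp hx, hsurj C hC hle⟩,
    fun hff hint => ?_⟩
  haveI := hff
  apply universallyInjective_spec_of_radicial
  intro Ω _ g₁ g₂ hg
  ext x
  have hxint : IsIntegral A (x : K') := x.2
  haveI : Module.Finite A ↥Cα := hCα.1
  haveI : Module.Finite A ↥(Algebra.adjoin A {(x : K')}) :=
    Algebra.finite_adjoin_simple_of_isIntegral hxint
  have hfin : Module.Finite A ↥(Cα ⊔ Algebra.adjoin A {(x : K')}) := Subalgebra.finite_sup _ _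
  have hCα_le : Cα ≤ Cα ⊔ Algebra.adjoin A {(x : K')} := le_sup_left
  have hC_le : Cα ⊔ Algebra.adjoin A {(x : K')} ≤ integralClosure A K' :=
    sup_le hint (Algebra.adjoin_le (by
      intro z hz
      rw [Set.mem_singleton_iff] at hz
      rw [hz]
      exact hxint))
  have hPC : PP (Cα ⊔ Algebra.adjoin A {(x : K')}) := pp_mono hCα hCα_le hfin
  have hrad := radicial_of_surj_red (B := B) hCα_le (hsurj _ hPC hCα_le) Ω
    (g₁.comp (Subalgebra.inclusion hC_le).toRingHom)
    (g₂.comp (Subalgebra.inclusion hC_le).toRingHom) (by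
      ext c
      have := congrArg (fun f : ↥Cα →+* Ω => f c) hg
      exact this)
  have hxC : (x : K') ∈ Cα ⊔ Algebra.adjoin A {(x : K')} :=
    (le_sup_right : Algebra.adjoin A {(x : K')} ≤ _) (Algebra.subset_adjoin rfl)
  have := congrArg (fun f : ↥(Cα ⊔ Algebra.adjoin A {(x : K')}) →+* Ω => f ⟨x, hxC⟩) hrad
  exact this

end FinalMain

end Groth.Agent.Helper7.JapFlat
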