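import Mathlib
import Groth.Prelude.Def_Found
import Groth.Agent.Lib.Helper7.ComplN2
import Groth.Agent.Lib.Helper7.JapFlat
import Groth.Agent.Lib.Helper1.AdicNoeth
import Groth.Agent.Lib.Helper1.AdicLib

/-!
# Helper7: completions of Noetherian local domains and Japanese-ness (EGA 0_IV 23.1)

The `Quot` section (quotients of complete local rings are complete) is adapted from
`Groth.Agent.Helper14.FSFlat` (copied to avoid its heavy imports).
-/

open TensorProduct IsLocalRing CategoryTheory AlgebraicGeometry

namespace Groth.Agent.Helper7.ComplJap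

universe u

set_option linter.style.haveILetI false
set_option linter.unusedSectionVars false
set_option linter.unusedVariables false

section Quot

/-- Quotients of precomplete modules are precomplete. -/
theorem isPrecomplete_quotient {R : Type*} [CommRing R] (I : Ideal R) {M : Type*} [AddCommGroup M]
    [Module R M] [IsPrecomplete I M] (N : Submodule R M) : IsPrecomplete I (M ⧸ N) := by
  refine ⟨fun {f} hf => ?_⟩
  have hmap : ∀ n, (I ^ n • ⊤ : Submodule R (M ⧸ N)) =
      Submodule.map N.mkQ (I ^ n • ⊤ : Submodule R M) := by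
    intro n
    rw [Submodule.map_smul'', Submodule.map_top, Submodule.range_mkQ]
  have hd : ∀ n, ∃ d : M, d ∈ (I ^ n • ⊤ : Submodule R M) ∧ N.mkQ d = f (n + 1) - f n := by
    intro n
    have h1 := Groth.Agent.Helper1.sub_mem_of_le f hf (Nat.le_succ n)
    rw [hmap] at h1
    exact h1
  choose d hd1 hd2 using hd
  obtain ⟨g0, hg0⟩ := N.mkQ_surjective (f 0)
  let g : ℕ → M := fun n => g0 + ∑ i ∈ Finset.range n, d i
  have hgs : ∀ n, g (n + 1) = g n + d n := by
    intro n
    simp only [g, Finset.sum_range_succ, add_assoc]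
  have hg : ∀ n, N.mkQ (g n) = f n := by
    intro n
    induction n with
    | zero => simp [g, hg0]
    | succ n ih =>
      rw [hgs, map_add, ih, hd2]
      abel
  obtain ⟨L, hL⟩ := Groth.Agent.Helper1.exists_limit_of_succ I g (fun n => by
    have : g (n + 1) - g n = d n := by rw [hgs]; abel
    rw [this]
    exact hd1 n)
  refine ⟨N.mkQ L, fun n => ?_⟩
  rw [SModEq.sub_mem, hmap]
  refine ⟨g n - L, ?_, ?_⟩
  · have := hL n
    rw [← neg_sub]
    exact Submodule.neg_mem _ this
  · rw [map_sub, hg]

theorem maximalIdeal_quotient {B : Type*} [CommRing B] [IsLocalRing B] (I : Ideal B)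
    [IsLocalRing (B ⧸ I)] :
    (maximalIdeal B).map (Ideal.Quotient.mk I) = maximalIdeal (B ⧸ I) := by
  have hI : I ≤ maximalIdeal B := by
    apply IsLocalRing.le_maximalIdeal
    intro h
    have : Subsingleton (B ⧸ I) := Ideal.Quotient.subsingleton_iff.mpr h
    exact not_subsingleton (B ⧸ I) this
  apply IsLocalRing.eq_maximalIdeal
  apply Ideal.IsMaximal.map_of_surjective_of_ker_le Ideal.Quotient.mk_surjective
  rw [Ideal.mk_ker]
  exact hI

/-- A quotient of a complete Noetherian local ring is complete. -/
theorem isAdicComplete_quotient {B : Type*} [CommRing B] [IsLocalRing B] [IsNoetherianRing B]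
    [IsAdicComplete (maximalIdeal B) B] (I : Ideal B) [IsLocalRing (B ⧸ I)] :
    IsAdicComplete (maximalIdeal (B ⧸ I)) (B ⧸ I) := by
  haveI h1 : IsPrecomplete (maximalIdeal B) (B ⧸ I) := isPrecomplete_quotient (maximalIdeal B) I
  haveI h2 : IsPrecomplete (maximalIdeal (B ⧸ I)) (B ⧸ I) := by
    rw [← maximalIdeal_quotient I]
    exact (IsPrecomplete.map_algebraMap_iff (S := B ⧸ I) (I := maximalIdeal B) (M := B ⧸ I)).mpr h1
  exact { }

end Quot


section Compl

variable (A : Type u) [CommRing A] [IsLocalRing A] [IsNoetherianRing A]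

instance isNoetherianRing_completion :
    IsNoetherianRing (AdicCompletion (maximalIdeal A) A) :=
  Groth.Agent.Helper1.isNoetherianRing_adicCompletion_of_fg A (maximalIdeal A)
    (maximalIdeal A).fg_of_isNoetherianRing

instance faithfullyFlat_completion :
    Module.FaithfullyFlat A (AdicCompletion (maximalIdeal A) A) :=
  Module.FaithfullyFlat.of_flat_of_isLocalHom

/-- Quotients of the completion by primes are N-2. -/
theorem isN2_completion_quotient (q : Ideal (AdicCompletion (maximalIdeal A) A)) [q.IsPrime] :
    CAlg.IsN2 (AdicCompletion (maximalIdeal A) A ⧸ q) := by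
  haveI : IsLocalRing (AdicCompletion (maximalIdeal A) A ⧸ q) :=
    IsLocalRing.of_surjective' (Ideal.Quotient.mk q) Ideal.Quotient.mk_surjective
  haveI := isAdicComplete_quotient q
  exact Groth.Agent.Helper7.ComplN2.isN2_of_complete_local_domain _

end Compl

theorem s4615 {A K' : Type u} [CommRing A] [IsDomain A]
    [IsLocalRing A] [IsNoetherianRing A] [Field K'] [Algebra A K'] [Algebra (FractionRing A) K']
    [IsScalarTower A (FractionRing A) K'] [FiniteDimensional (FractionRing A) K'] :
    ∃ Cα : Subalgebra A K', Groth.Agent.Helper7.JapFlat.PP Cα ∧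
      (∀ C : Subalgebra A K', Groth.Agent.Helper7.JapFlat.PP C → ∀ hle : Cα ≤ C,
        (∀ x : ↥Cα ⊗[A] AdicCompletion (maximalIdeal A) A,
          IsNilpotent (Algebra.TensorProduct.map (Subalgebra.inclusion hle)
            (AlgHom.id A (AdicCompletion (maximalIdeal A) A)) x) → IsNilpotent x) ∧
        (∀ y : ↥C ⊗[A] AdicCompletion (maximalIdeal A) A,
          ∃ x : ↥Cα ⊗[A] AdicCompletion (maximalIdeal A) A,
          IsNilpotent (Algebra.TensorProduct.map (Subalgebra.inclusion hle)
            (AlgHom.id A (AdicCompletion (maximalIdeal A) A)) x - y))) ∧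
      (∀ hint : Cα ≤ integralClosure A K',
        UniversallyInjective
          (Spec.map (CommRingCat.ofHom (Subalgebra.inclusion hint).toRingHom))) := by
  obtain ⟨Cα, h1, h2, h3⟩ := Groth.Agent.Helper7.JapFlat.main (A := A)
    (B := AdicCompletion (maximalIdeal A) A) (K' := K')
    (fun q _ _ => isN2_completion_quotient A q)
  exact ⟨Cα, h1, h2, h3 inferInstance⟩

end Groth.Agent.Helper7.ComplJap
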