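import Mathlib
import Groth.Prelude.Def_Found
import Groth.Agent.Lib.Helper7.ComplJap

/-!
# Helper7: analytically unramified local domains and finiteness of integral closure
(EGA 0_IV 23.1.5–23.1.7)
-/

open TensorProduct IsLocalRing CategoryTheory AlgebraicGeometry

namespace Groth.Agent.Helper7.ComplJap

universe u

set_option linter.style.haveILetI false
set_option linter.unusedSectionVars false

theorem map_injective_of_flat {A B C D : Type*} [CommRing A] [CommRing B] [Algebra A B]
    [Module.Flat A B] [CommRing C] [Algebra A C] [CommRing D] [Algebra A D] (φ : C →ₐ[A] D)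
    (hφ : Function.Injective φ) :
    Function.Injective (Algebra.TensorProduct.map φ (AlgHom.id A B)) := by
  have h := Module.Flat.rTensor_preserves_injective_linearMap (M := B) φ.toLinearMap hφ
  have h2 : ∀ z, (φ.toLinearMap.rTensor B) z =
      Algebra.TensorProduct.map φ (AlgHom.id A B) z := by
    intro z
    induction z using TensorProduct.induction_on with
    | zero => simp
    | tmul b c => simp
    | add u v hu hv => simp only [map_add, hu, hv]
  intro x y hxy
  apply h
  rw [h2, h2, hxy]

theorem map_injective_of_flat' {A B C D : Type*} [CommRing A] [CommRing B] [Algebra A B]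
    [Module.Flat A B] [CommRing C] [Algebra A C] [CommRing D] [Algebra A D] (φ : C →ₐ[A] D)
    (hφ : Function.Injective φ) :
    Function.Injective (Algebra.TensorProduct.map (AlgHom.id A B) φ) := by
  have h := Module.Flat.lTensor_preserves_injective_linearMap (M := B) φ.toLinearMap hφ
  have h2 : ∀ z, (φ.toLinearMap.lTensor B) z =
      Algebra.TensorProduct.map (AlgHom.id A B) φ z := by
    intro z
    induction z using TensorProduct.induction_on with
    | zero => simp
    | tmul b c => simp
    | add u v hu hv => simp only [map_add, hu, hv]
  intro x y hxy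
  apply h
  rw [h2, h2, hxy]

section Core

variable {A K' : Type u} [CommRing A] [IsDomain A] [IsLocalRing A] [IsNoetherianRing A]
  [Field K'] [Algebra A K'] [Algebra (FractionRing A) K'] [IsScalarTower A (FractionRing A) K']
  [FiniteDimensional (FractionRing A) K']

theorem finite_integralClosure_of_reduced
    (hred : IsReduced (K' ⊗[A] AdicCompletion (maximalIdeal A) A)) :
    Module.Finite A (integralClosure A K') := by
  classical
  obtain ⟨Cα, hPα, hmain, -⟩ := s4615 (A := A) (K' := K')
  have hred_C : ∀ C : Subalgebra A K', IsReduced (↥C ⊗[A] AdicCompletion (maximalIdeal A) A) :=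
    fun C => isReduced_of_injective
      (Algebra.TensorProduct.map C.val (AlgHom.id A (AdicCompletion (maximalIdeal A) A)))
      (map_injective_of_flat C.val Subtype.val_injective)
  have heq : ∀ C : Subalgebra A K', Groth.Agent.Helper7.JapFlat.PP C → Cα ≤ C → C ≤ Cα := by
    intro C hC hle c hc
    have hsurj : Function.Surjective (Algebra.TensorProduct.map (Subalgebra.inclusion hle)
        (AlgHom.id A (AdicCompletion (maximalIdeal A) A))) := by
      intro y
      obtain ⟨x, hx⟩ := (hmain C hC hle).2 y
      haveI := hred_C C
      exact ⟨x, sub_eq_zero.mp hx.eq_zero⟩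
    have hl : Function.Surjective
        ((Subalgebra.inclusion hle).toLinearMap.lTensor (AdicCompletion (maximalIdeal A) A)) := by
      intro z
      obtain ⟨w, hw⟩ := hsurj ((TensorProduct.comm A _ _) z)
      refine ⟨(TensorProduct.comm A _ _) w, ?_⟩
      have h3 : ∀ w : ↥Cα ⊗[A] AdicCompletion (maximalIdeal A) A,
          ((Subalgebra.inclusion hle).toLinearMap.lTensor (AdicCompletion (maximalIdeal A) A))
            ((TensorProduct.comm A _ _) w) =
          (TensorProduct.comm A _ _) (Algebra.TensorProduct.map (Subalgebra.inclusion hle)
            (AlgHom.id A (AdicCompletion (maximalIdeal A) A)) w) := by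
        intro w
        induction w using TensorProduct.induction_on with
        | zero => simp
        | tmul b c => simp
        | add u v hu hv => simp only [map_add, hu, hv]
      rw [h3, hw]
      simp
    have hs := (Module.FaithfullyFlat.lTensor_surjective_iff_surjective A
      (AdicCompletion (maximalIdeal A) A) _).mp hl
    obtain ⟨c', hc'⟩ := hs ⟨c, hc⟩
    have h4 : (c' : K') = c := congrArg Subtype.val hc'
    rw [← h4]
    exact c'.2
  have hle' : integralClosure A K' ≤ Cα := by
    intro x hx
    haveI := hPα.1
    haveI : Module.Finite A ↥(Algebra.adjoin A {x}) :=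
      Algebra.finite_adjoin_simple_of_isIntegral hx
    have hfin : Module.Finite A ↥(Cα ⊔ Algebra.adjoin A {x}) := Subalgebra.finite_sup _ _
    have hP := Groth.Agent.Helper7.JapFlat.pp_mono hPα le_sup_left hfin
    exact heq _ hP le_sup_left
      ((le_sup_right : Algebra.adjoin A {x} ≤ _) (Algebra.subset_adjoin rfl))
  have hge : Cα ≤ integralClosure A K' := by
    intro c hc
    haveI := hPα.1
    exact (Algebra.IsIntegral.isIntegral (R := A) (⟨c, hc⟩ : Cα)).map Cα.val
  have hfinal : integralClosure A K' = Cα := le_antisymm hle' hge
  rw [hfinal]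
  exact hPα.1

end Core

theorem s4565 {A K' R : Type u}
    [CommRing A] [IsDomain A] [IsLocalRing A] [IsNoetherianRing A]
    [CommRing R] [Algebra (AdicCompletion (IsLocalRing.maximalIdeal A) A) R]
    [IsFractionRing (AdicCompletion (IsLocalRing.maximalIdeal A) A) R] [Algebra A R]
    [IsScalarTower A (AdicCompletion (IsLocalRing.maximalIdeal A) A) R]
    [Field K'] [Algebra A K'] [Algebra (FractionRing A) K'] [IsScalarTower A (FractionRing A) K']
    [FiniteDimensional (FractionRing A) K'] (h : IsReduced (R ⊗[A] K')) :
    Module.Finite A (integralClosure A K') := by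
  apply finite_integralClosure_of_reduced
  haveI : Module.Flat A K' := Groth.Agent.Helper7.JapFlat.flat_K'
  let ψ : AdicCompletion (maximalIdeal A) A →ₐ[A] R := IsScalarTower.toAlgHom A _ R
  have hψ : Function.Injective ψ := IsFractionRing.injective _ R
  have h1 := map_injective_of_flat' (B := K') ψ hψ
  exact isReduced_of_injective ((Algebra.TensorProduct.comm A K' R).toAlgHom.comp
    (Algebra.TensorProduct.map (AlgHom.id A K') ψ))
    ((Algebra.TensorProduct.comm A K' R).injective.comp h1)

theorem s2072 {R : Type u} [CommRing R] [IsDomain R] [IsLocalRing R]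
    [IsNoetherianRing R] [IsReduced (AdicCompletion (IsLocalRing.maximalIdeal R) R)] :
    CAlg.IsN1 R := by
  unfold CAlg.IsN1
  apply finite_integralClosure_of_reduced (K' := FractionRing R)
  haveI : IsReduced (AdicCompletion (maximalIdeal R) R ⊗[R] FractionRing R) :=
    isReduced_localizationPreserves
      (Algebra.algebraMapSubmonoid (AdicCompletion (maximalIdeal R) R) (nonZeroDivisors R)) _
      inferInstance
  exact isReduced_of_injective
    (Algebra.TensorProduct.comm R (FractionRing R) (AdicCompletion (maximalIdeal R) R)).toAlgHom
    (Algebra.TensorProduct.comm R (FractionRing R) (AdicCompletion (maximalIdeal R) R)).injective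

theorem s4566 {A R : Type u}
    [CommRing A] [IsDomain A] [IsLocalRing A] [IsNoetherianRing A]
    [CommRing R] [Algebra (AdicCompletion (IsLocalRing.maximalIdeal A) A) R]
    [IsFractionRing (AdicCompletion (IsLocalRing.maximalIdeal A) A) R] [Algebra A R]
    [IsScalarTower A (AdicCompletion (IsLocalRing.maximalIdeal A) A) R]
    [Algebra (FractionRing A) R] [IsScalarTower A (FractionRing A) R]
    (h : Algebra.IsGeometricallyReduced (FractionRing A) R) :
    CAlg.IsN2 A := by
  intro L _ _ _ _ hfd
  apply finite_integralClosure_of_reduced
  haveI : Module.Flat A L := Groth.Agent.Helper7.JapFlat.flat_K'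
  let ψ : AdicCompletion (maximalIdeal A) A →ₐ[A] R := IsScalarTower.toAlgHom A _ R
  have h1 := map_injective_of_flat' (B := L) ψ (IsFractionRing.injective _ R)
  haveI : IsReduced (L ⊗[FractionRing A] R) := inferInstance
  haveI := IsLocalization.tensorProduct_compatibleSMul (nonZeroDivisors A) (FractionRing A) L R
  let e := Algebra.TensorProduct.equivOfCompatibleSMul A (FractionRing A) A L R
  exact isReduced_of_injective (e.symm.toAlgHom.comp
    (Algebra.TensorProduct.map (AlgHom.id A L) ψ)) (e.symm.injective.comp h1)

end Groth.Agent.Helper7.ComplJap
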