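import Mathlib
import Groth.Prelude.Def_Found
import Groth.Prelude.Def_EGA4b
import Groth.Agent.Lib.Helper7.ComplJap2
import Groth.Agent.Lib.Helper7.GeomRed3

universe u
namespace Groth.Agent.Helper7.FFNag
open TensorProduct IsLocalRing

set_option linter.style.haveILetI false

/-- A Noetherian local domain whose generic formal fibre is "geometrically reduced for finite
extensions" is N-2. -/
theorem isN2_of_generic_formal_fibre (B : Type u) [CommRing B] [IsDomain B] [IsLocalRing B]
    [IsNoetherianRing B]
    (h : ∀ (k' : Type u) [Field k'] [Algebra (⊥ : Ideal B).ResidueField k'],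
      Module.Finite (⊥ : Ideal B).ResidueField k' →
      IsReduced (k' ⊗[(⊥ : Ideal B).ResidueField] (EGA4.formalFibre B ⊥))) :
    CAlg.IsN2 B := by
  intro L _ _ _ _ hfd
  let κ := (⊥ : Ideal B).ResidueField
  let e : FractionRing B ≃ₐ[B] κ := FractionRing.algEquiv B κ
  letI : Algebra κ L := ((algebraMap (FractionRing B) L).comp (e.symm : κ →+* FractionRing B)).toAlgebra
  haveI : IsScalarTower B κ L := IsScalarTower.of_algebraMap_eq (fun b => by
    show algebraMap B L b = algebraMap (FractionRing B) L (e.symm (algebraMap B κ b))
    rw [e.symm.commutes, ← IsScalarTower.algebraMap_apply])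
  letI : Algebra (FractionRing B) κ := (e : FractionRing B →+* κ).toAlgebra
  haveI : IsScalarTower (FractionRing B) κ L := IsScalarTower.of_algebraMap_eq (fun x => by
    show algebraMap (FractionRing B) L x = algebraMap (FractionRing B) L (e.symm (e x))
    rw [e.symm_apply_apply])
  haveI : Module.Finite (FractionRing B) L := hfd
  have hfin : Module.Finite κ L := Module.Finite.of_restrictScalars_finite (FractionRing B) κ L
  have hred := h L hfin
  apply Groth.Agent.Helper7.ComplJap.finite_integralClosure_of_reduced
  let c := Algebra.TensorProduct.cancelBaseChange B κ κ L (AdicCompletion (maximalIdeal B) B)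
  exact isReduced_of_injective c.symm.toAlgHom c.symm.injective

theorem s2657 (A : Type u) [CommRing A] [IsNoetherianRing A] [IsLocalRing A]
    (hA : EGA4.HasGeomReducedFormalFibres A) : CAlg.IsNagata A := by
  refine ⟨inferInstance, fun p _ => ?_⟩
  haveI : Nontrivial (A ⧸ p) := Ideal.Quotient.nontrivial_iff.mpr (Ideal.IsPrime.ne_top ‹_›)
  apply isN2_of_generic_formal_fibre
  intro k' _ _ hfin
  exact Groth.Agent.Helper7.GeomRed.formalFibre_transfer_quotient A p
    (fun k k' _ _ _ => Module.Finite k k')
    (fun k₁ k₂ k' _ _ _ _ _ _ _ hb h =>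
      Groth.Agent.Helper7.GeomRed.finite_of_bijective k₁ k₂ k' hb h)
    (fun R _ => IsReduced R)
    (fun R R' _ _ e hR => isReduced_of_injective e.symm e.symm.injective)
    (fun q _ k' _ _ hk => by
      haveI := hA q
      haveI : Module.Finite q.ResidueField k' := hk
      infer_instance)
    ⊥ k' hfin

end Groth.Agent.Helper7.FFNag
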