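import Mathlib
import Groth.Prelude.Def_Found
import Groth.Prelude.Def_EGA4b
import Groth.Agent.Lib.Helper3.AssFlat
import Groth.Agent.Lib.Helper7.ComplJap
import Groth.Agent.Lib.Helper7.GeomRed3

/-!
# Helper7: Zariski's lemma on reducedness (EGA IV 7.6.? / Stacks 0330), abstract form

`zariski_abstract`: A → B flat, Noetherian, `t` a nonzerodivisor of `A` mapping into the Jacobson
radical of `B`, `A/tA` without embedded primes, `A_q` DVR and `B/qB` reduced for the minimal primes
`q` of `tA` ⟹ `B` reduced.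
-/

universe u
namespace Groth.Agent.Helper7.Zariski
open TensorProduct IsLocalRing EGA4

set_option linter.style.haveILetI false

/-- A Noetherian local ring with principal maximal ideal containing a non-zero-divisor is
reduced. -/
theorem isReduced_of_principal_maximal (R : Type*) [CommRing R] [IsLocalRing R]
    [IsNoetherianRing R] (π : R) (hπ : maximalIdeal R = Ideal.span {π}) (t : R)
    (htm : t ∈ maximalIdeal R) (ht : t ∈ nonZeroDivisors R) : IsReduced R := by
  classical
  have hπnil : ¬ IsNilpotent π := by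
    rintro ⟨k, hk⟩
    obtain ⟨a, rfl⟩ := Ideal.mem_span_singleton'.mp (hπ ▸ htm)
    have h0 : (a * π) ^ k = 0 := by rw [mul_pow, hk, mul_zero]
    have hk' : (a * π) ^ k ∈ nonZeroDivisors R := pow_mem ht k
    rw [h0] at hk'
    exact zero_notMem_nonZeroDivisors hk'
  constructor
  intro x hx
  by_contra hx0
  have hinf : (⨅ n : ℕ, (maximalIdeal R) ^ n) = ⊥ :=
    Ideal.iInf_pow_eq_bot_of_isLocalRing _ (IsLocalRing.maximalIdeal.isMaximal R).ne_top
  have hex : ∃ n, x ∉ (maximalIdeal R) ^ n := by
    by_contra hall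
    push Not at hall
    have : x ∈ (⨅ n : ℕ, (maximalIdeal R) ^ n) := Ideal.mem_iInf.mpr hall
    rw [hinf] at this
    exact hx0 this
  have hn : x ∉ (maximalIdeal R) ^ (Nat.find hex) := Nat.find_spec hex
  have hn0 : Nat.find hex ≠ 0 := by
    intro h0
    rw [h0, pow_zero, Ideal.one_eq_top] at hn
    exact hn Submodule.mem_top
  obtain ⟨m, hm⟩ := Nat.exists_eq_succ_of_ne_zero hn0
  have hxm : x ∈ (maximalIdeal R) ^ m := by
    by_contra h
    exact Nat.find_min hex (by omega) h
  rw [hπ, Ideal.span_singleton_pow, Ideal.mem_span_singleton'] at hxm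
  obtain ⟨u, rfl⟩ := hxm
  have hu : IsUnit u := by
    by_contra hu
    have hum : u ∈ maximalIdeal R := (IsLocalRing.mem_maximalIdeal u).mpr hu
    apply hn
    rw [hm, pow_succ', hπ, Ideal.span_singleton_pow]
    rw [hπ] at hum
    exact Ideal.mul_mem_mul hum (Ideal.mem_span_singleton_self _)
  obtain ⟨k, hk⟩ := hx
  rw [mul_pow] at hk
  have h1 : (π ^ m) ^ k = 0 := ((hu.pow k).mul_right_eq_zero).mp hk
  exact hπnil ⟨m * k, by rw [pow_mul]; exact h1⟩

/-- If `B/I` is reduced, associated primes of `B/I` are minimal over `I`. -/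
theorem mem_minimalPrimes_of_mem_associatedPrimes {B : Type*} [CommRing B] [IsNoetherianRing B]
    (I : Ideal B) (hI : I.IsRadical) (P : Ideal B)
    (hP : P ∈ associatedPrimes B (B ⧸ I)) : P ∈ I.minimalPrimes := by
  obtain ⟨hPp, x, hx⟩ := (Submodule.isAssociatedPrime_iff).mp hP
  obtain ⟨x, rfl⟩ := Ideal.Quotient.mk_surjective x
  have hmem : ∀ a, a ∈ P ↔ a * x ∈ I := by
    intro a
    rw [hx, Submodule.mem_colon_singleton, Submodule.mem_bot, ← Ideal.Quotient.eq_zero_iff_mem]
    rfl
  have hxI : x ∉ I := by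
    intro h
    apply hPp.ne_top
    rw [Ideal.eq_top_iff_one, hmem, one_mul]
    exact h
  have hIP : I ≤ P := fun a ha => (hmem a).mpr (I.mul_mem_right x ha)
  have : ∃ Q ∈ I.minimalPrimes, x ∉ Q := by
    by_contra hall
    push Not at hall
    apply hxI
    rw [← hI.radical, ← Ideal.sInf_minimalPrimes]
    exact Ideal.mem_sInf.mpr (fun {Q} hQ => hall Q hQ)
  obtain ⟨Q, hQ, hxQ⟩ := this
  have hPQ : P ≤ Q := by
    intro a ha
    have h1 : a * x ∈ Q := hQ.1.2 ((hmem a).mp ha)
    exact (hQ.1.1.mem_or_mem h1).resolve_right hxQ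
  have hQP : Q ≤ P := hQ.2 ⟨hPp, hIP⟩ hPQ
  rw [le_antisymm hPQ hQP]
  exact hQ

/-- (Z3) -/
theorem map_eq_maximalIdeal_of_minimal {B : Type*} [CommRing B] (I P : Ideal B) [P.IsPrime]
    (hP : P ∈ I.minimalPrimes) (hred : IsReduced (B ⧸ I)) :
    I.map (algebraMap B (Localization.AtPrime P)) = maximalIdeal (Localization.AtPrime P) := by
  have h1 : IsReduced (Localization.AtPrime P ⧸ I.map (algebraMap B (Localization.AtPrime P))) :=
    isReduced_localizationPreserves
      (Algebra.algebraMapSubmonoid (B ⧸ I) P.primeCompl) _ hred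
  have h2 : (I.map (algebraMap B (Localization.AtPrime P))).IsRadical :=
    (Ideal.isRadical_iff_quotient_reduced _).mpr h1
  rw [← h2.radical, IsLocalization.AtPrime.radical_map_of_mem_minimalPrimes
    (A := Localization.AtPrime P) P I hP, Localization.AtPrime.map_eq_maximalIdeal]

/-- (Z4) -/
theorem under_eq_of_mem_minimalPrimes_map {A B : Type*} [CommRing A] [CommRing B] [Algebra A B]
    [Module.Flat A B] (q : Ideal A) [q.IsPrime] (P : Ideal B)
    (hP : P ∈ (q.map (algebraMap A B)).minimalPrimes) : P.under A = q := by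
  haveI : Algebra.HasGoingDown A B := Algebra.HasGoingDown.of_flat
  haveI := hP.1.1
  have hle : q ≤ P.under A := Ideal.map_le_iff_le_comap.mp hP.1.2
  obtain ⟨P', hP'le, hP'prime, hP'over⟩ := Ideal.exists_ideal_le_liesOver_of_le P hle
  have hqP' : q.map (algebraMap A B) ≤ P' := by
    rw [Ideal.map_le_iff_le_comap]
    exact hP'over.over.le
  have hPP' : P ≤ P' := hP.2 ⟨hP'prime, hqP'⟩ hP'le
  have : P' = P := le_antisymm hP'le hPP'
  rw [← this]
  exact hP'over.over.symm

theorem isReduced_localization_of_mem_associatedPrimes {A B : Type u} [CommRing A] [CommRing B]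
    [IsNoetherianRing A] [IsNoetherianRing B]
    [Algebra A B] [Module.Flat A B] (t : A) (hreg : t ∈ nonZeroDivisors A)
    (q : Ideal A) [q.IsPrime] (htq : t ∈ q)
    (hdvr : ∃ (_ : IsDomain (Localization.AtPrime q)),
      IsDiscreteValuationRing (Localization.AtPrime q))
    (hred : IsReduced (B ⧸ q.map (algebraMap A B)))
    (P : Ideal B) [P.IsPrime] (hP : P ∈ associatedPrimes B (B ⧸ q.map (algebraMap A B))) :
    IsReduced (Localization.AtPrime P) := by
  have hrad : (q.map (algebraMap A B)).IsRadical :=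
    (Ideal.isRadical_iff_quotient_reduced _).mpr hred
  have hmin := mem_minimalPrimes_of_mem_associatedPrimes _ hrad P hP
  have hmax := map_eq_maximalIdeal_of_minimal _ P hmin hred
  have hunder : P.under A = q := under_eq_of_mem_minimalPrimes_map q P hmin
  obtain ⟨hdom, hd⟩ := hdvr
  obtain ⟨π, hπ⟩ :=
    (IsPrincipalIdealRing.principal (maximalIdeal (Localization.AtPrime q))).principal
  let φ := Localization.localRingHom q P (algebraMap A B) hunder.symm
  have hφ : φ.comp (algebraMap A (Localization.AtPrime q)) =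
      (algebraMap B (Localization.AtPrime P)).comp (algebraMap A B) := by
    ext x; exact Localization.localRingHom_to_map q P (algebraMap A B) hunder.symm x
  have hgen : maximalIdeal (Localization.AtPrime P) = Ideal.span {φ π} := by
    rw [← hmax, Ideal.map_map, ← hφ, ← Ideal.map_map, Localization.AtPrime.map_eq_maximalIdeal,
      hπ, Ideal.submodule_span_eq, Ideal.map_span, Set.image_singleton]
  have ht'm : algebraMap B (Localization.AtPrime P) (algebraMap A B t) ∈
      maximalIdeal (Localization.AtPrime P) := by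
    rw [← Localization.AtPrime.map_eq_maximalIdeal (I := P)]
    apply Ideal.mem_map_of_mem
    have : t ∈ P.under A := hunder ▸ htq
    exact this
  have ht'reg : algebraMap B (Localization.AtPrime P) (algebraMap A B t) ∈
      nonZeroDivisors (Localization.AtPrime P) := by
    have h1 : algebraMap A B t ∈ nonZeroDivisors B := by
      have hs : IsSMulRegular B t := Module.Flat.isSMulRegular_of_nonZeroDivisors hreg
      rw [mem_nonZeroDivisors_iff_right]
      intro x hx
      apply hs
      simp only [Algebra.smul_def, mul_zero]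
      rw [mul_comm]; exact hx
    exact IsLocalization.map_nonZeroDivisors_le P.primeCompl _ (Submonoid.mem_map_of_mem _ h1)
  exact isReduced_of_principal_maximal _ (φ π) hgen _ ht'm ht'reg

/-- **Zariski's lemma** (abstract form). -/
theorem zariski_abstract {A B : Type u} [CommRing A] [CommRing B] [IsNoetherianRing A]
    [IsNoetherianRing B] [Algebra A B] [Module.Flat A B] (t : A) (hreg : t ∈ nonZeroDivisors A)
    (hjac : algebraMap A B t ∈ (⊥ : Ideal B).jacobson)
    (hemb : associatedPrimes A (A ⧸ Ideal.span {t}) ⊆ (Ideal.span {t}).minimalPrimes)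
    (hdvr : ∀ (q : Ideal A) [q.IsPrime], q ∈ (Ideal.span {t}).minimalPrimes →
      ∃ (_ : IsDomain (Localization.AtPrime q)), IsDiscreteValuationRing (Localization.AtPrime q))
    (hred : ∀ (q : Ideal A) [q.IsPrime], q ∈ (Ideal.span {t}).minimalPrimes →
      IsReduced (B ⧸ q.map (algebraMap A B))) :
    IsReduced B := by
  classical
  let J : Ideal B := (Ideal.span {t}).map (algebraMap A B)
  have hJ : J = Ideal.span {algebraMap A B t} := by
    simp only [J, Ideal.map_span, Set.image_singleton]
  have htreg : algebraMap A B t ∈ nonZeroDivisors B := by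
    have hs : IsSMulRegular B t := Module.Flat.isSMulRegular_of_nonZeroDivisors hreg
    rw [mem_nonZeroDivisors_iff_right]
    intro x hx
    apply hs
    simp only [Algebra.smul_def, mul_zero]
    rw [mul_comm]; exact hx
  have hloc : ∀ P ∈ associatedPrimes B (B ⧸ J), ∀ [P.IsPrime],
      IsReduced (Localization.AtPrime P) := by
    intro P hP _
    have hJtop : (J • (⊤ : Submodule B B)) = J := by
      rw [smul_eq_mul, Ideal.mul_top]
    have h0 : P ∈ associatedPrimes B (B ⧸ (J • (⊤ : Submodule B B))) := by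
      rw [LinearEquiv.AssociatedPrimes.eq (Submodule.quotEquivOfEq _ _ hJtop)]
      exact hP
    have h1 : P ∈ associatedPrimes B (B ⊗[A] (A ⧸ Ideal.span {t})) := by
      rw [← LinearEquiv.AssociatedPrimes.eq
        (Groth.Agent.Helper3.AssFlat.tensorQuotEquiv (S := B) (N := B) (Ideal.span {t}))]
      exact h0
    rw [Groth.Agent.Helper3.AssFlat.s2069] at h1
    obtain ⟨q, hq, hPq⟩ := Set.mem_iUnion₂.mp h1
    haveI : q.IsPrime := hq.isPrime
    have hqmin := hemb hq
    have htq : t ∈ q := hqmin.1.2 (Ideal.mem_span_singleton_self t)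
    have hqtop : ((q.map (algebraMap A B)) • (⊤ : Submodule B B)) = q.map (algebraMap A B) := by
      rw [smul_eq_mul, Ideal.mul_top]
    have hPq' : P ∈ associatedPrimes B (B ⧸ q.map (algebraMap A B)) := by
      rw [← LinearEquiv.AssociatedPrimes.eq (Submodule.quotEquivOfEq _ _ hqtop)]
      exact hPq
    exact isReduced_localization_of_mem_associatedPrimes t hreg q htq (hdvr q hqmin)
      (hred q hqmin) P hPq'
  -- nilpotents lie in J
  have hNJ : ∀ n : B, IsNilpotent n → n ∈ J := by
    intro n hn
    by_contra hnJ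
    have hne : (Ideal.Quotient.mk J n) ≠ 0 := by
      rwa [Ne, Ideal.Quotient.eq_zero_iff_mem]
    obtain ⟨P, hPass, hPle⟩ := exists_le_isAssociatedPrime_of_isNoetherianRing B
      (Ideal.Quotient.mk J n) hne
    haveI : P.IsPrime := hPass.isPrime
    haveI := hloc P hPass
    have h0 : algebraMap B (Localization.AtPrime P) n = 0 :=
      (hn.map (algebraMap B (Localization.AtPrime P))).eq_zero
    rw [IsLocalization.map_eq_zero_iff P.primeCompl] at h0
    obtain ⟨s, hs⟩ := h0
    apply s.2
    apply hPle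
    rw [Submodule.mem_colon_singleton, Submodule.mem_bot]
    show (s : B) • Ideal.Quotient.mk J n = 0
    rw [← Ideal.Quotient.mk_eq_mk, ← Submodule.Quotient.mk_smul, smul_eq_mul, hs]
    rfl
  have hN : nilradical B ≤ J • nilradical B := by
    intro n hn
    have hn' : IsNilpotent n := hn
    have h1 := hNJ n hn'
    rw [hJ, Ideal.mem_span_singleton'] at h1
    obtain ⟨n', rfl⟩ := h1
    have hn'nil : IsNilpotent n' := by
      obtain ⟨k, hk⟩ := hn'
      refine ⟨k, ?_⟩
      rw [mul_pow] at hk
      have hk' : (algebraMap A B t) ^ k ∈ nonZeroDivisors B := pow_mem htreg k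
      exact (mem_nonZeroDivisors_iff_right.mp hk') _ hk
    rw [mul_comm, smul_eq_mul]
    exact Ideal.mul_mem_mul (hJ ▸ Ideal.mem_span_singleton_self _) hn'nil
  have hJjac : J ≤ (⊥ : Ideal B).jacobson := by
    rw [hJ, Ideal.span_le, Set.singleton_subset_iff]
    exact hjac
  have hbot : nilradical B = ⊥ :=
    Submodule.eq_bot_of_le_smul_of_le_jacobson_bot J (nilradical B)
      (IsNoetherian.noetherian _) hN hJjac
  exact nilradical_eq_bot_iff.mp hbot

/-- `Â / qÂ` is reduced when the completion of `A/q` is. -/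
theorem isReduced_cpl_quotient (A : Type u) [CommRing A] [IsNoetherianRing A] [IsLocalRing A]
    (q : Ideal A) [Nontrivial (A ⧸ q)] (h : IsReduced (EGA4.Cpl (A ⧸ q))) :
    IsReduced (EGA4.Cpl A ⧸ q.map (algebraMap A (EGA4.Cpl A))) := by
  obtain ⟨e⟩ := Groth.Agent.Helper7.GeomRed.exists_cpl_quotient_equiv A q
  let e2 := Algebra.TensorProduct.quotIdealMapEquivQuotTensor (EGA4.Cpl A) q
  exact isReduced_of_injective (e.toRingEquiv.toRingHom.comp e2.toRingEquiv.toRingHom)
    (e.injective.comp e2.injective)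

theorem s2649 (A : Type u) [CommRing A] [IsNoetherianRing A] [IsLocalRing A] (t : A)
    (ht : t ∈ IsLocalRing.maximalIdeal A) (hreg : t ∈ nonZeroDivisors A)
    (hemb : associatedPrimes A (A ⧸ Ideal.span {t}) ⊆ (Ideal.span {t}).minimalPrimes)
    (hdvr : ∀ (q : Ideal A) [q.IsPrime], q ∈ (Ideal.span {t}).minimalPrimes →
      ∃ (_ : IsDomain (Localization.AtPrime q)), IsDiscreteValuationRing (Localization.AtPrime q))
    (hred : ∀ (q : Ideal A) [q.IsPrime], q ∈ (Ideal.span {t}).minimalPrimes →
      IsReduced (EGA4.Cpl (A ⧸ q))) :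
    IsReduced (EGA4.Cpl A) := by
  refine zariski_abstract (A := A) (B := EGA4.Cpl A) t hreg ?_ hemb hdvr ?_
  · rw [IsLocalRing.jacobson_eq_maximalIdeal ⊥ bot_ne_top]
    exact map_nonunit (algebraMap A (EGA4.Cpl A)) t ht
  · intro q _ hq
    haveI : Nontrivial (A ⧸ q) := Ideal.Quotient.nontrivial_iff.mpr (Ideal.IsPrime.ne_top ‹_›)
    exact isReduced_cpl_quotient A q (hred q hq)

end Groth.Agent.Helper7.Zariski
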