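import Mathlib
import Groth.Prelude.Def_Found
import Groth.Agent.S14359
import Groth.Agent.Lib.Helper7.ComplJap2
import Groth.Agent.Lib.Helper7.Zariski
import Groth.Agent.Lib.Helper7.QFN2

/-!
# Helper7: Nagata local domains are analytically unramified (EGA 0_IV 23.1 / Nagata, Zariski)

`main`: for a Noetherian local ring `A` all of whose prime quotients are N-2, and any finite
`A`-algebra `D` which is a domain, `D ⊗[A] Â` is reduced.  Proof by Noetherian induction on
`ker (A → D)`, via Zariski's lemma (`Zariski.zariski_abstract`) applied to the normalization of `D`.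
-/

universe u
namespace Groth.Agent.Helper7.NagAU
open TensorProduct IsLocalRing

set_option linter.style.haveILetI false

/-- localization of a Noetherian normal domain at a height one prime is a DVR -/
theorem isDVR_of_height_one (D : Type u) [CommRing D] [IsDomain D] [IsNoetherianRing D]
    [IsIntegrallyClosed D] (q : Ideal D) [q.IsPrime] (hq : q.height = 1) :
    IsDiscreteValuationRing (Localization.AtPrime q) := by
  haveI : IsIntegrallyClosed (Localization.AtPrime q) :=
    isIntegrallyClosed_of_isLocalization (Localization.AtPrime q) q.primeCompl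
      q.primeCompl_le_nonZeroDivisors
  have hdim : ringKrullDim (Localization.AtPrime q) = 1 := by
    rw [IsLocalization.AtPrime.ringKrullDim_eq_height q (Localization.AtPrime q), hq]
    rfl
  have hf : ¬ IsField (Localization.AtPrime q) := by
    intro hf
    rw [ringKrullDim_eq_zero_of_isField hf] at hdim
    exact zero_ne_one hdim
  have h1 : Ring.KrullDimLE 1 (Localization.AtPrime q) := Ring.krullDimLE_iff.mpr hdim.le
  have hmax := Ring.krullDimLE_one_iff_of_noZeroDivisors.mp h1
  have h03 := (IsDiscreteValuationRing.TFAE (Localization.AtPrime q) hf).out 0 3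
  refine h03.mpr ⟨inferInstance, maximalIdeal _, ⟨?_, inferInstance⟩, ?_⟩
  · intro h
    exact hf (IsLocalRing.isField_iff_maximalIdeal_eq.mpr h)
  · rintro P ⟨hP0, hPprime⟩
    exact IsLocalRing.eq_maximalIdeal (hmax P hP0 hPprime)

theorem normal_hyps (D : Type u) [CommRing D] [IsDomain D] [IsNoetherianRing D]
    [IsIntegrallyClosed D] (t : D) (ht : t ≠ 0) :
    associatedPrimes D (D ⧸ Ideal.span {t}) ⊆ (Ideal.span {t}).minimalPrimes ∧
    ∀ (q : Ideal D) [q.IsPrime], q ∈ (Ideal.span {t}).minimalPrimes →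
      ∃ (_ : IsDomain (Localization.AtPrime q)),
        IsDiscreteValuationRing (Localization.AtPrime q) := by
  constructor
  · intro P hP
    have hh : P.height = 1 := Groth.Agent.S14359.result D t ht P hP
    haveI : P.IsPrime := hP.isPrime
    obtain ⟨-, x, hx⟩ := (Submodule.isAssociatedPrime_iff).mp hP
    have htP : Ideal.span {t} ≤ P := by
      rw [Ideal.span_le, Set.singleton_subset_iff, SetLike.mem_coe, hx,
        Submodule.mem_colon_singleton, Submodule.mem_bot]
      obtain ⟨y, rfl⟩ := Ideal.Quotient.mk_surjective x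
      show t • Ideal.Quotient.mk _ y = 0
      rw [← Ideal.Quotient.mk_eq_mk, ← Submodule.Quotient.mk_smul, smul_eq_mul]
      exact Ideal.Quotient.eq_zero_iff_mem.mpr
        (Ideal.mul_mem_right _ _ (Ideal.mem_span_singleton_self t))
    refine ⟨⟨inferInstance, htP⟩, ?_⟩
    rintro P' ⟨hP'prime, htP'⟩ hle
    by_contra hne
    have hlt : P' < P := lt_of_le_not_ge hle hne
    haveI := hP'prime
    have h1 : P'.height < P.height := Ideal.height_strict_mono_of_isPrime hlt
    rw [hh] at h1
    have h0 : P'.height = 0 := Order.lt_one_iff.mp h1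
    rw [Ideal.height_eq_zero_iff] at h0
    have hbot : P' = ⊥ := by
      have : P' ∈ ({⊥} : Set (Ideal D)) := by
        rw [← Ideal.minimalPrimes_eq_subsingleton_self (I := (⊥ : Ideal D))]; exact h0
      exact this
    apply ht
    have : t ∈ P' := htP' (Ideal.mem_span_singleton_self t)
    rw [hbot] at this
    exact this
  · intro q _ hq
    have h1 : q.height ≤ 1 := Ideal.height_le_one_of_isPrincipal_of_mem_minimalPrimes _ q hq
    have h0 : q.height ≠ 0 := by
      intro h0
      rw [Ideal.height_eq_zero_iff] at h0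
      have hbot : q = ⊥ := by
        have : q ∈ ({⊥} : Set (Ideal D)) := by
          rw [← Ideal.minimalPrimes_eq_subsingleton_self (I := (⊥ : Ideal D))]; exact h0
        exact this
      apply ht
      have : t ∈ q := hq.1.2 (Ideal.mem_span_singleton_self t)
      rw [hbot] at this
      exact this
    have hh : q.height = 1 := le_antisymm h1 (Order.one_le_iff_ne_zero.mpr h0)
    exact ⟨inferInstance, isDVR_of_height_one D q hh⟩

theorem tmul_eq_zero_of_mem_map (A : Type u) [CommRing A] [IsLocalRing A]
    (D : Type u) [CommRing D] [Algebra A D]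
    (h : maximalIdeal A ≤ RingHom.ker (algebraMap A D))
    (y : AdicCompletion (maximalIdeal A) A)
    (hy : y ∈ (maximalIdeal A).map (algebraMap A (AdicCompletion (maximalIdeal A) A))) (d : D) :
    d ⊗ₜ[A] y = 0 := by
  revert d
  refine Submodule.span_induction (p := fun y _ => ∀ d : D, d ⊗ₜ[A] y = 0) ?_ ?_ ?_ ?_ hy
  · rintro _ ⟨x, hx, rfl⟩ d
    have h0 : algebraMap A D x = 0 := RingHom.mem_ker.mp (h hx)
    rw [Algebra.algebraMap_eq_smul_one, ← TensorProduct.smul_tmul, Algebra.smul_def, h0, zero_mul,
      TensorProduct.zero_tmul]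
  · intro d; exact TensorProduct.tmul_zero _ _
  · intro a b _ _ ha hb d
    rw [TensorProduct.tmul_add, ha, hb, add_zero]
  · intro z b _ hb d
    have : d ⊗ₜ[A] (z • b) = ((1 : D) ⊗ₜ[A] z) * (d ⊗ₜ[A] b) := by
      rw [Algebra.TensorProduct.tmul_mul_tmul, one_mul, smul_eq_mul]
    rw [this, hb, mul_zero]

theorem isReduced_tensor_of_le_ker (A : Type u) [CommRing A] [IsLocalRing A] [IsNoetherianRing A]
    (D : Type u) [CommRing D] [IsDomain D] [Algebra A D]
    (h : maximalIdeal A ≤ RingHom.ker (algebraMap A D)) :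
    IsReduced (D ⊗[A] AdicCompletion (maximalIdeal A) A) := by
  let m := maximalIdeal A
  let ρ : AdicCompletion m A →ₐ[A] D :=
    (Ideal.Quotient.liftₐ m (Algebra.ofId A D) (fun a ha => RingHom.mem_ker.mp (h ha))).comp
      (AdicCompletion.evalOneₐ m)
  let ψ : D ⊗[A] AdicCompletion m A →ₐ[D] D :=
    Algebra.TensorProduct.lift (AlgHom.id D D) ρ (fun _ _ => Commute.all _ _)
  have hsurj : ∀ z : D ⊗[A] AdicCompletion m A, ∃ d : D, d ⊗ₜ[A] (1 : AdicCompletion m A) = z := by
    intro z
    induction z using TensorProduct.induction_on with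
    | zero => exact ⟨0, TensorProduct.zero_tmul _ _⟩
    | add u v hu hv =>
      obtain ⟨a, rfl⟩ := hu
      obtain ⟨b, rfl⟩ := hv
      exact ⟨a + b, TensorProduct.add_tmul _ _ _⟩
    | tmul d y =>
      obtain ⟨a, ha⟩ := Ideal.Quotient.mk_surjective (AdicCompletion.evalOneₐ m y)
      have hker : y - algebraMap A _ a ∈ RingHom.ker (AdicCompletion.evalOneₐ m).toRingHom := by
        rw [RingHom.mem_ker]
        show (AdicCompletion.evalOneₐ m) (y - algebraMap A _ a) = 0
        rw [map_sub, AlgHom.commutes, ← ha]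
        exact sub_self _
      rw [AdicCompletion.ker_evalOneₐ_eq_map m m.fg_of_isNoetherianRing] at hker
      have h0 := tmul_eq_zero_of_mem_map A D h _ hker d
      refine ⟨a • d, ?_⟩
      rw [TensorProduct.tmul_sub, sub_eq_zero] at h0
      rw [h0, Algebra.algebraMap_eq_smul_one, TensorProduct.smul_tmul]
  have hψ : ∀ d : D, ψ (d ⊗ₜ[A] (1 : AdicCompletion m A)) = d := by
    intro d
    simp [ψ]
  refine isReduced_of_injective ψ.toRingHom ?_
  intro x y hxy
  obtain ⟨a, rfl⟩ := hsurj x
  obtain ⟨b, rfl⟩ := hsurj y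
  have : a = b := by
    have := hxy
    simp only [AlgHom.toRingHom_eq_coe, RingHom.coe_coe] at this
    rw [hψ, hψ] at this
    exact this
  rw [this]

/-- image of the maximal ideal of a local ring lies in the Jacobson radical of an integral
algebra -/
theorem algebraMap_mem_jacobson_of_isIntegral (R S : Type*) [CommRing R] [IsLocalRing R]
    [CommRing S] [Algebra R S] [Algebra.IsIntegral R S] (x : R) (hx : x ∈ maximalIdeal R) :
    algebraMap R S x ∈ (⊥ : Ideal S).jacobson := by
  rw [Ideal.jacobson, Ideal.mem_sInf]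
  rintro M ⟨-, hM⟩
  haveI := hM
  have hmax : (M.comap (algebraMap R S)).IsMaximal :=
    Ideal.isMaximal_comap_of_isIntegral_of_isMaximal (R := R) M
  have : M.comap (algebraMap R S) = maximalIdeal R := IsLocalRing.eq_maximalIdeal hmax
  have hx' : x ∈ M.comap (algebraMap R S) := this ▸ hx
  exact hx'

theorem mem_jacobson_of_ringEquiv {B B' : Type*} [CommRing B] [CommRing B'] (e : B ≃+* B')
    (x : B) (h : e x ∈ (⊥ : Ideal B').jacobson) : x ∈ (⊥ : Ideal B).jacobson := by
  rw [Ideal.mem_jacobson_bot] at h ⊢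
  intro y
  have := (h (e y)).map e.symm
  simpa using this

theorem isReduced_tensor_of_normal (A : Type u) [CommRing A] [IsLocalRing A] [IsNoetherianRing A]
    (D : Type u) [CommRing D] [IsDomain D] [IsIntegrallyClosed D] [Algebra A D] [Module.Finite A D]
    (t : A) (htm : t ∈ maximalIdeal A) (ht0 : algebraMap A D t ≠ 0)
    (IH : ∀ (q : Ideal D) [q.IsPrime], algebraMap A D t ∈ q →
      IsReduced ((D ⧸ q) ⊗[A] AdicCompletion (maximalIdeal A) A)) :
    IsReduced (D ⊗[A] AdicCompletion (maximalIdeal A) A) := by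
  let m := maximalIdeal A
  let Ah := AdicCompletion m A
  haveI : IsNoetherianRing D := Algebra.FiniteType.isNoetherianRing A D
  let e : D ⊗[A] Ah ≃ₐ[A] Ah ⊗[A] D := Algebra.TensorProduct.comm A D Ah
  haveI : IsNoetherianRing (Ah ⊗[A] D) := Algebra.FiniteType.isNoetherianRing Ah (Ah ⊗[A] D)
  haveI : IsNoetherianRing (D ⊗[A] Ah) :=
    isNoetherianRing_of_ringEquiv (Ah ⊗[A] D) e.symm.toRingEquiv
  obtain ⟨hemb, hdvr⟩ := normal_hyps D (algebraMap A D t) ht0
  have hjac : algebraMap D (D ⊗[A] Ah) (algebraMap A D t) ∈ (⊥ : Ideal (D ⊗[A] Ah)).jacobson := by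
    apply mem_jacobson_of_ringEquiv e.toRingEquiv
    have h1 : e.toRingEquiv (algebraMap D (D ⊗[A] Ah) (algebraMap A D t)) =
        algebraMap Ah (Ah ⊗[A] D) (algebraMap A Ah t) := by
      rw [← IsScalarTower.algebraMap_apply A D (D ⊗[A] Ah),
        ← IsScalarTower.algebraMap_apply A Ah (Ah ⊗[A] D)]
      exact e.commutes t
    rw [h1]
    apply algebraMap_mem_jacobson_of_isIntegral
    exact map_nonunit (algebraMap A Ah) t htm
  refine Groth.Agent.Helper7.Zariski.zariski_abstract (A := D) (B := D ⊗[A] Ah)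
    (algebraMap A D t) (mem_nonZeroDivisors_of_ne_zero ht0) hjac hemb hdvr ?_
  intro q _ hq
  have htq : algebraMap A D t ∈ q := hq.1.2 (Ideal.mem_span_singleton_self _)
  haveI := IH q htq
  let φ : D ⊗[A] Ah →ₐ[A] (D ⧸ q) ⊗[A] Ah :=
    Algebra.TensorProduct.map (Ideal.Quotient.mkₐ A q) (AlgHom.id A Ah)
  have hker : RingHom.ker φ = q.map (algebraMap D (D ⊗[A] Ah)) := by
    have h1 := Algebra.TensorProduct.rTensor_ker (R := A) (S := A) (C := Ah)
      (Ideal.Quotient.mkₐ A q) (Ideal.Quotient.mkₐ_surjective A q)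
    have h2 : RingHom.ker (Ideal.Quotient.mkₐ A q) = q := by
      ext x
      rw [RingHom.mem_ker]
      exact Ideal.Quotient.eq_zero_iff_mem
    rw [h2] at h1
    rw [h1]
    rfl
  have hzero : ∀ a ∈ q.map (algebraMap D (D ⊗[A] Ah)), φ.toRingHom a = 0 := by
    intro a ha
    rw [← hker] at ha
    exact ha
  refine isReduced_of_injective (Ideal.Quotient.lift _ φ.toRingHom hzero)
    (RingHom.lift_injective_of_ker_le_ideal _ hzero ?_)
  exact hker.le

theorem main (A : Type u) [CommRing A] [IsLocalRing A] [IsNoetherianRing A]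
    (hNag : ∀ (p : Ideal A) [p.IsPrime], CAlg.IsN2 (A ⧸ p)) (p : Ideal A) :
    ∀ (D : Type u) [CommRing D] [IsDomain D] [Algebra A D] [Module.Finite A D],
      RingHom.ker (algebraMap A D) = p →
      IsReduced (D ⊗[A] AdicCompletion (maximalIdeal A) A) := by
  refine IsNoetherian.induction (R := A) (M := A) (P := fun p : Ideal A =>
    ∀ (D : Type u) [CommRing D] [IsDomain D] [Algebra A D] [Module.Finite A D],
      RingHom.ker (algebraMap A D) = p →
      IsReduced (D ⊗[A] AdicCompletion (maximalIdeal A) A)) ?_ p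
  intro (p : Ideal A) IH D _ _ _ _ hker
  haveI : p.IsPrime := by rw [← hker]; exact RingHom.ker_isPrime _
  by_cases hm : maximalIdeal A ≤ p
  · exact isReduced_tensor_of_le_ker A D (hker ▸ hm)
  obtain ⟨t, htm, htp⟩ := SetLike.not_le_iff_exists.mp hm
  have hzero : ∀ a ∈ p, algebraMap A D a = 0 := fun a ha => RingHom.mem_ker.mp (hker ▸ ha)
  letI : Algebra (A ⧸ p) D := (Ideal.Quotient.lift p (algebraMap A D) hzero).toAlgebra
  haveI : IsScalarTower A (A ⧸ p) D := IsScalarTower.of_algebraMap_eq (fun x => rfl)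
  haveI : Module.Finite (A ⧸ p) D := Module.Finite.of_restrictScalars_finite A (A ⧸ p) D
  have hinj : Function.Injective (algebraMap (A ⧸ p) D) :=
    RingHom.lift_injective_of_ker_le_ideal p hzero hker.le
  have hDN2 : CAlg.IsN2 D := Groth.Agent.Helper7.QFN2.main hinj (hNag p)
  haveI hfin : Module.Finite D (integralClosure D (FractionRing D)) :=
    hDN2 (FractionRing D) inferInstance
  let D' := integralClosure D (FractionRing D)
  haveI : IsIntegrallyClosed ↥D' :=
    integralClosure.isIntegrallyClosedOfFiniteExtension (FractionRing D)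
  letI : Algebra A ↥D' := ((algebraMap D ↥D').comp (algebraMap A D)).toAlgebra
  haveI : IsScalarTower A D ↥D' := IsScalarTower.of_algebraMap_eq (fun x => rfl)
  haveI : Module.Finite A ↥D' := Module.Finite.trans D ↥D'
  have hinj' : Function.Injective (algebraMap D ↥D') := by
    intro x y hxy
    apply IsFractionRing.injective D (FractionRing D)
    exact congrArg Subtype.val hxy
  have ht0 : algebraMap A ↥D' t ≠ 0 := by
    intro h0
    apply htp
    rw [← hker, RingHom.mem_ker]
    apply hinj'
    rw [map_zero]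
    exact h0
  haveI : IsReduced (↥D' ⊗[A] AdicCompletion (maximalIdeal A) A) := by
    refine isReduced_tensor_of_normal A ↥D' t htm ht0 ?_
    intro q _ htq
    refine IH (RingHom.ker (algebraMap A (↥D' ⧸ q))) ?_ (↥D' ⧸ q) rfl
    refine SetLike.lt_iff_le_and_exists.mpr ⟨?_, t, ?_, htp⟩
    · intro a ha
      rw [RingHom.mem_ker]
      show Ideal.Quotient.mk q (algebraMap D ↥D' (algebraMap A D a)) = 0
      rw [hzero a ha, map_zero, map_zero]
    · rw [RingHom.mem_ker]
      exact Ideal.Quotient.eq_zero_iff_mem.mpr htq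
  exact isReduced_of_injective
    (Algebra.TensorProduct.map (IsScalarTower.toAlgHom A D ↥D')
      (AlgHom.id A (AdicCompletion (maximalIdeal A) A)))
    (Groth.Agent.Helper7.ComplJap.map_injective_of_flat _ hinj')

theorem s0576 (R : Type u) [CommRing R] [IsDomain R]
    [IsLocalRing R] (hR : CAlg.IsNagata R) :
    IsReduced (AdicCompletion (IsLocalRing.maximalIdeal R) R) := by
  haveI := hR.1
  haveI := main R (fun p _ => hR.2 p) _ R rfl
  exact isReduced_of_injective
    (Algebra.TensorProduct.lid R (AdicCompletion (maximalIdeal R) R)).symm.toAlgHom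
    (Algebra.TensorProduct.lid R (AdicCompletion (maximalIdeal R) R)).symm.injective

end Groth.Agent.Helper7.NagAU
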