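import Mathlib
import Groth.Prelude.Def_Found
import Groth.Prelude.Def_EGA4b
import Groth.Agent.Lib.Lead.Hom16
import Groth.Agent.Lib.Helper7.FFNag
import Groth.Agent.Lib.Helper7.CplLocal

/-!
# Helper7: quasi-excellent rings are Nagata (EGA IV 7.7.2)

* `finite_of_local_generic`: local-global principle for finiteness of integral closure
* `exists_local_piece`, `exists_generic_piece`
* `isNagata_localization_of_isGRing`: local rings of a G-ring are Nagata
* `s2654`
-/

universe u
namespace Groth.Agent.Helper7.QENag
open TensorProduct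

set_option linter.style.haveILetI false

theorem finite_finsetSup {A K' : Type*} [CommRing A] [CommRing K'] [Algebra A K'] {ι : Type*}
    (T : Finset ι) (D : ι → Subalgebra A K') (hD : ∀ i, Module.Finite A (D i)) :
    Module.Finite A ↥(T.sup D) := by
  classical
  induction T using Finset.induction_on with
  | empty =>
    rw [Finset.sup_empty]
    exact Subalgebra.finite_bot
  | insert a T _ ih =>
    rw [Finset.sup_insert]
    haveI := hD a
    haveI := ih
    exact Subalgebra.finite_sup _ _

/-- Local-global principle for finiteness of the integral closure. -/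
theorem finite_of_local_generic {A K' : Type u} [CommRing A] [IsDomain A] [IsNoetherianRing A]
    [Field K'] [Algebra A K']
    (C₀ : Subalgebra A K') (hC₀ : Module.Finite A C₀) (hC₀' : C₀ ≤ integralClosure A K')
    (f : A) (hf : algebraMap A K' f ≠ 0)
    (hgen : ∀ x ∈ integralClosure A K', ∃ n : ℕ, f ^ n • x ∈ C₀)
    (hloc : ∀ m : Ideal A, m.IsMaximal → ∃ C : Subalgebra A K', Module.Finite A C ∧
       C ≤ integralClosure A K' ∧ ∀ x ∈ integralClosure A K', ∃ s : A, s ∉ m ∧ s • x ∈ C) :
    Module.Finite A (integralClosure A K') := by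
  classical
  have hloc' : ∀ m : Ideal A, ∃ C : Subalgebra A K', Module.Finite A C ∧ C₀ ≤ C ∧
      C ≤ integralClosure A K' ∧
      (m.IsMaximal → ∀ x ∈ integralClosure A K', ∃ s : A, s ∉ m ∧ s • x ∈ C) := by
    intro m
    by_cases hm : m.IsMaximal
    · obtain ⟨C, hfin, hle, hs⟩ := hloc m hm
      refine ⟨C₀ ⊔ C, ?_, le_sup_left, sup_le hC₀' hle, fun _ x hx => ?_⟩
      · exact Subalgebra.finite_sup _ _
      · obtain ⟨s, hsm, hsx⟩ := hs x hx
        exact ⟨s, hsm, (le_sup_right : C ≤ C₀ ⊔ C) hsx⟩
    · exact ⟨C₀, hC₀, le_rfl, hC₀', fun h => absurd h hm⟩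
  choose D hDfin hD0 hDle hDloc using hloc'
  let 𝔞 : Subalgebra A K' → Ideal A := fun C =>
    { carrier := {a | ∀ x ∈ integralClosure A K', f • x ∈ C → a • x ∈ C}
      add_mem' := fun {a b} ha hb x hx hfx => by
        rw [add_smul]; exact C.add_mem (ha x hx hfx) (hb x hx hfx)
      zero_mem' := fun x hx hfx => by rw [zero_smul]; exact C.zero_mem
      smul_mem' := fun c a ha x hx hfx => by
        rw [smul_eq_mul, mul_smul]; exact C.smul_mem (ha x hx hfx) c }
  have claim2 : ∀ (C : Subalgebra A K') (a : A), a ∈ 𝔞 C → ∀ (n : ℕ) (x : K'),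
      x ∈ integralClosure A K' → f ^ n • x ∈ C → a ^ n • x ∈ C := by
    intro C a ha n
    induction n with
    | zero => intro x hx h; simpa using h
    | succ n ih =>
      intro x hx h
      have h1 : f • (f ^ n • x) ∈ C := by rwa [← mul_smul, ← pow_succ']
      have h2 : a • (f ^ n • x) ∈ C := ha _ ((integralClosure A K').smul_mem hx _) h1
      have h3 : f ^ n • (a • x) ∈ C := by rwa [smul_comm]
      have h4 := ih (a • x) ((integralClosure A K').smul_mem hx a) h3
      rwa [← mul_smul, ← pow_succ] at h4
  have claim1 : ∀ m : Ideal A, m.IsMaximal → ¬ (𝔞 (D m) ≤ m) := by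
    intro m hm hle
    let N : Submodule A K' := ((D m).toSubmodule.comap (LinearMap.lsmul A K' f)) ⊓
      (integralClosure A K').toSubmodule
    have hNfg : N.FG := by
      let φ : N →ₗ[A] (D m) :=
        { toFun := fun x => ⟨f • (x : K'), x.2.1⟩
          map_add' := fun x y => by
            apply Subtype.ext
            simp
          map_smul' := fun c x => by
            apply Subtype.ext
            show f • ((c • x : N) : K') = c • (f • (x : K'))
            rw [Submodule.coe_smul, smul_comm] }
      have hφ : Function.Injective φ := by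
        intro x y hxy
        have h : f • (x : K') = f • (y : K') := congrArg Subtype.val hxy
        rw [Algebra.smul_def, Algebra.smul_def] at h
        exact Subtype.ext (mul_left_cancel₀ hf h)
      haveI : Module.Finite A (D m) := hDfin m
      have : Module.Finite A N := Module.Finite.of_injective φ hφ
      exact Module.Finite.iff_fg.mp this
    obtain ⟨G, hG⟩ := hNfg
    have hex : ∀ x ∈ G, ∃ s : A, s ∉ m ∧ s • x ∈ D m := fun x hx => by
      have hxN : x ∈ N := hG ▸ Submodule.subset_span hx
      exact hDloc m hm x hxN.2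
    choose! s hs using hex
    let a := ∏ x ∈ G, s x
    have ham : a ∉ m := by
      intro h
      obtain ⟨x, hx, hsx⟩ := (hm.isPrime.prod_mem_iff).mp h
      exact (hs x hx).1 hsx
    apply ham
    apply hle
    intro x hx hfx
    have hxN : x ∈ N := ⟨hfx, hx⟩
    rw [← hG] at hxN
    refine Submodule.span_induction (p := fun y _ => a • y ∈ D m) ?_ ?_ ?_ ?_ hxN
    · intro y hy
      have : a = (∏ z ∈ G.erase y, s z) * s y := (Finset.prod_erase_mul G s hy).symm
      rw [this, mul_smul]
      exact (D m).smul_mem (hs y hy).2 _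
    · simp
    · intro y z _ _ hy hz; rw [smul_add]; exact (D m).add_mem hy hz
    · intro c y _ hy; rw [smul_comm]; exact (D m).smul_mem hy c
  have hsup : (⨆ m : {m : Ideal A // m.IsMaximal}, 𝔞 (D m.1)) = ⊤ := by
    by_contra hne
    obtain ⟨m, hm, hle⟩ := Ideal.exists_le_maximal _ hne
    exact claim1 m hm
      ((le_iSup (fun m : {m : Ideal A // m.IsMaximal} => 𝔞 (D m.1)) ⟨m, hm⟩).trans hle)
  have h1 : (1 : A) ∈ ⨆ m : {m : Ideal A // m.IsMaximal}, 𝔞 (D m.1) :=
    hsup ▸ Submodule.mem_top
  obtain ⟨T, hT⟩ := Submodule.mem_iSup_iff_exists_finset.mp h1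
  let C := T.sup (fun m => D m.1)
  have hCfin : Module.Finite A C := finite_finsetSup T _ (fun m => hDfin m.1)
  have hDC : ∀ m ∈ T, D m.1 ≤ C := fun m hm => Finset.le_sup (f := fun m => D m.1) hm
  have hCle : C ≤ integralClosure A K' := Finset.sup_le (fun m _ => hDle m.1)
  have hge : integralClosure A K' ≤ C := by
    intro x hx
    let J : Ideal A :=
      { carrier := {a | a • x ∈ C}
        add_mem' := fun {a b} ha hb => by
          show (a + b) • x ∈ C
          rw [add_smul]; exact C.add_mem ha hb
        zero_mem' := by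
          show (0 : A) • x ∈ C
          rw [zero_smul]; exact C.zero_mem
        smul_mem' := fun c a ha => by
          show (c • a) • x ∈ C
          rw [smul_eq_mul, mul_smul]; exact C.smul_mem ha c }
    have hle : (⨆ m ∈ T, 𝔞 (D m.1)) ≤ J.radical := by
      refine iSup₂_le fun m hm a ha => ?_
      obtain ⟨n, hn⟩ := hgen x hx
      exact ⟨n, hDC m hm (claim2 (D m.1) a ha n x hx (hD0 m.1 hn))⟩
    have h1J : (1 : A) ∈ J.radical := hle hT
    obtain ⟨n, hn⟩ := h1J
    rw [one_pow] at hn
    have h2 : (1 : A) • x ∈ C := hn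
    rwa [one_smul] at h2
  have : integralClosure A K' = C := le_antisymm hge hCle
  rw [this]; exact hCfin


/-- Local piece: if the integral closure of a localization `R = S⁻¹B` in `L` is finite over `R`,
there is a finite `B`-subalgebra of the integral closure of `B` in `L` with the same localization. -/
theorem exists_local_piece {B R L : Type u} [CommRing B] [CommRing R] [Field L] [Algebra B R]
    [Algebra B L] [Algebra R L] [IsScalarTower B R L] (S : Submonoid B) [IsLocalization S R]
    (hfin : Module.Finite R (integralClosure R L)) :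
    ∃ C : Subalgebra B L, Module.Finite B C ∧ C ≤ integralClosure B L ∧
      ∀ x ∈ integralClosure B L, ∃ s ∈ S, s • x ∈ C := by
  classical
  obtain ⟨G, hG⟩ := hfin.fg_top
  have h1 : ∀ y : integralClosure R L, ∃ s : S, IsIntegral B ((s : B) • (y : L)) := fun y => by
    obtain ⟨s, hs⟩ := IsIntegral.exists_multiple_integral_of_isLocalization S (y : L) y.2
    exact ⟨s, hs⟩
  choose s hs using h1
  let t : S := ∏ y ∈ G, s y
  have ht : ∀ y ∈ G, IsIntegral B ((t : B) • (y : L)) := by
    intro y hy
    have : (t : B) = (∏ z ∈ G.erase y, (s z : B)) * (s y : B) := by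
      simp only [t, Submonoid.coe_finsetProd]
      exact (Finset.prod_erase_mul G _ hy).symm
    rw [this, mul_smul]
    exact (hs y).smul _
  let gens : Finset L := G.image (fun y : integralClosure R L => (t : B) • (y : L))
  have hgens : ∀ z ∈ gens, IsIntegral B z := by
    intro z hz
    obtain ⟨y, hy, rfl⟩ := Finset.mem_image.mp hz
    exact ht y hy
  let C : Subalgebra B L := Algebra.adjoin B (gens : Set L)
  refine ⟨C, ?_, ?_, ?_⟩
  · have : C.toSubmodule.FG := fg_adjoin_of_finite gens.finite_toSet (fun z hz => hgens z hz)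
    exact Module.Finite.iff_fg.mpr this
  · exact Algebra.adjoin_le (fun z hz => hgens z hz)
  · intro x hx
    have hxR : IsIntegral R x := hx.tower_top
    have hmem : (⟨x, hxR⟩ : integralClosure R L) ∈ Submodule.span R (G : Set _) :=
      hG ▸ Submodule.mem_top
    rw [Submodule.mem_span_finset] at hmem
    obtain ⟨c, -, hc⟩ := hmem
    obtain ⟨d, hd⟩ := IsLocalization.exist_integer_multiples_of_finset S (G.image c)
    refine ⟨(d * t : S), (d * t).2, ?_⟩
    have hx' : x = ∑ y ∈ G, c y • (y : L) := by
      have h := congrArg (Subtype.val) hc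
      simp only at h
      rw [← h]
      simp
    rw [hx', Finset.smul_sum]
    refine C.sum_mem fun y hy => ?_
    obtain ⟨b, hb⟩ := hd (c y) (Finset.mem_image_of_mem c hy)
    have hcalc : ((d * t : S) : B) • (c y • (y : L)) = b • ((t : B) • (y : L)) := by
      have hb' : algebraMap B L b = algebraMap B L (d : B) * algebraMap R L (c y) := by
        rw [IsScalarTower.algebraMap_apply B R L, hb, Algebra.smul_def, map_mul,
          ← IsScalarTower.algebraMap_apply B R L]
      simp only [Algebra.smul_def, Submonoid.coe_mul, map_mul, hb']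
      ring
    rw [hcalc]
    exact C.smul_mem (Algebra.subset_adjoin (Finset.mem_coe.mpr (Finset.mem_image_of_mem _ hy))) b


theorem bot_mem_regLocus (C : Type u) [CommRing C] [IsDomain C] :
    (⟨⊥, Ideal.isPrime_bot⟩ : PrimeSpectrum C) ∈ EGA4.regLocus C := by
  show IsRegularLocalRing (Localization.AtPrime (⊥ : Ideal C))
  have hmax : IsLocalRing.maximalIdeal (Localization.AtPrime (⊥ : Ideal C)) = ⊥ := by
    rw [← Localization.AtPrime.map_eq_maximalIdeal, Ideal.map_bot]
  have hfield : IsField (Localization.AtPrime (⊥ : Ideal C)) :=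
    IsLocalRing.isField_iff_maximalIdeal_eq.mpr hmax
  haveI : IsPrincipalIdealRing (Localization.AtPrime (⊥ : Ideal C)) := hfield.isPrincipalIdealRing
  infer_instance

theorem isIntegrallyClosed_away_of_subset_regLocus (C : Type u) [CommRing C] [IsDomain C] (g : C)
    (hg0 : g ≠ 0) (hg : ∀ p : PrimeSpectrum C, g ∉ p.asIdeal → p ∈ EGA4.regLocus C) :
    IsIntegrallyClosed (Localization.Away g) := by
  haveI : IsDomain (Localization.Away g) :=
    IsLocalization.isDomain_localization
      (powers_le_nonZeroDivisors_of_noZeroDivisors hg0)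
  apply IsIntegrallyClosed.of_localization_maximal
  intro q _ hq
  let e := IsLocalization.localizationLocalizationAtPrimeIsoLocalization (Submonoid.powers g) q
  have hreg : IsRegularLocalRing
      (Localization.AtPrime (q.comap (algebraMap C (Localization.Away g)))) :=
    hg ⟨q.comap (algebraMap C (Localization.Away g)), inferInstance⟩ (by
      intro hmem
      exact hq.ne_top (Ideal.eq_top_of_isUnit_mem _ hmem (IsLocalization.Away.algebraMap_isUnit g)))
  haveI : IsRegularLocalRing (Localization.AtPrime q) :=
    IsRegularLocalRing.of_ringEquiv e.toRingEquiv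
  exact Groth.Agent.Lead.Hom.isIntegrallyClosed_of_isRegularLocalRing _

theorem isFractionRing_of_basis_mem {B L : Type u} [CommRing B] [IsDomain B] [Field L]
    [Algebra B L] [Algebra (FractionRing B) L] [IsScalarTower B (FractionRing B) L] {ι : Type*}
    [Fintype ι] (b : Module.Basis ι (FractionRing B) L) (C : Subalgebra B L)
    (hC : ∀ i, b i ∈ C) : IsFractionRing C L := by
  classical
  haveI : FaithfulSMul C L :=
    (faithfulSMul_iff_algebraMap_injective C L).mpr Subtype.val_injective
  apply IsFractionRing.of_field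
  intro z
  obtain ⟨d, hd⟩ := IsLocalization.exist_integer_multiples_of_finset (nonZeroDivisors B)
    (Finset.univ.image (fun i => b.repr z i))
  have hdz : (d : B) • z ∈ C := by
    have hz : z = ∑ i, b.repr z i • b i := (b.sum_repr z).symm
    rw [hz, Finset.smul_sum]
    refine C.sum_mem fun i _ => ?_
    obtain ⟨a, ha⟩ := hd (b.repr z i) (Finset.mem_image_of_mem _ (Finset.mem_univ i))
    have : (d : B) • (b.repr z i • b i) = a • b i := by
      rw [← smul_assoc, ← ha, algebraMap_smul]
    rw [this]; exact C.smul_mem (hC i) a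
  have hinj : Function.Injective (algebraMap B L) := by
    rw [IsScalarTower.algebraMap_eq B (FractionRing B) L]
    exact (algebraMap (FractionRing B) L).injective.comp (IsFractionRing.injective B _)
  have hd0 : algebraMap B L (d : B) ≠ 0 := by
    rw [Ne, map_eq_zero_iff _ hinj]
    exact nonZeroDivisors.ne_zero d.2
  refine ⟨⟨(d : B) • z, hdz⟩, ⟨algebraMap B L d, C.algebraMap_mem d⟩, ?_⟩
  show z = ((d : B) • z) / algebraMap B L d
  rw [Algebra.smul_def]
  field_simp

theorem exists_generic_piece {B L : Type u} [CommRing B] [IsDomain B] [IsNoetherianRing B]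
    [Field L] [Algebra B L] [Algebra (FractionRing B) L] [IsScalarTower B (FractionRing B) L]
    [FiniteDimensional (FractionRing B) L]
    (hJ : ∀ C : Subalgebra B L, Module.Finite B C → IsOpen (EGA4.regLocus C)) :
    ∃ (C₀ : Subalgebra B L) (f : B), Module.Finite B C₀ ∧ C₀ ≤ integralClosure B L ∧
      algebraMap B L f ≠ 0 ∧ ∀ x ∈ integralClosure B L, ∃ n : ℕ, f ^ n • x ∈ C₀ := by
  classical
  obtain ⟨s, b, hb⟩ := FiniteDimensional.exists_is_basis_integral B (FractionRing B) L
  let C₁ : Subalgebra B L := Algebra.adjoin B (Set.range b)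
  have hint : ∀ z ∈ Set.range b, IsIntegral B z := by rintro _ ⟨i, rfl⟩; exact hb i
  have hfin : Module.Finite B C₁ :=
    Module.Finite.iff_fg.mpr (fg_adjoin_of_finite (Set.finite_range b) hint)
  have hle : C₁ ≤ integralClosure B L := Algebra.adjoin_le hint
  haveI : IsFractionRing C₁ L :=
    isFractionRing_of_basis_mem b C₁ (fun i => Algebra.subset_adjoin ⟨i, rfl⟩)
  have hinj : Function.Injective (algebraMap B L) := by
    rw [IsScalarTower.algebraMap_eq B (FractionRing B) L]
    exact (algebraMap (FractionRing B) L).injective.comp (IsFractionRing.injective B _)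
  have hopen := hJ C₁ hfin
  have hbot : (⟨⊥, Ideal.isPrime_bot⟩ : PrimeSpectrum C₁) ∈ EGA4.regLocus C₁ := bot_mem_regLocus C₁
  obtain ⟨_, ⟨g, rfl⟩, hgmem, hgsub⟩ :=
    PrimeSpectrum.isTopologicalBasis_basic_opens.exists_subset_of_mem_open hbot hopen
  have hg0 : g ≠ 0 := by
    intro h
    apply hgmem
    show g ∈ (⊥ : Ideal C₁)
    rw [h]; exact Ideal.zero_mem _
  haveI : IsIntegrallyClosed (Localization.Away g) :=
    isIntegrallyClosed_away_of_subset_regLocus C₁ g hg0 (fun p hp => hgsub hp)
  have hgL0 : algebraMap C₁ L g ≠ 0 := by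
    intro h
    exact hg0 (Subtype.ext h)
  have hgL : IsUnit (algebraMap C₁ L g) := IsUnit.mk0 _ hgL0
  letI : Algebra (Localization.Away g) L := (IsLocalization.Away.lift g hgL).toAlgebra
  haveI : IsScalarTower C₁ (Localization.Away g) L :=
    IsScalarTower.of_algebraMap_eq (fun x => (IsLocalization.Away.lift_eq g hgL x).symm)
  haveI : IsFractionRing (Localization.Away g) L :=
    IsFractionRing.isFractionRing_of_isDomain_of_isLocalization (Submonoid.powers g)
      (Localization.Away g) L
  haveI := hfin
  have hgint : IsIntegral B g := Algebra.IsIntegral.isIntegral g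
  have hne : (Ideal.span {g}).comap (algebraMap B C₁) ≠ ⊥ :=
    Ideal.comap_ne_bot_of_integral_mem hg0 (Ideal.mem_span_singleton_self g) hgint
  obtain ⟨f, hfmem, hf0⟩ := Submodule.exists_mem_ne_zero_of_ne_bot hne
  obtain ⟨h, hh⟩ := Ideal.mem_span_singleton'.mp hfmem
  refine ⟨C₁, f, hfin, hle, ?_, ?_⟩
  · rw [Ne, map_eq_zero_iff _ hinj]; exact hf0
  · intro x hx
    have hxC : IsIntegral C₁ x := hx.tower_top
    have hxT : IsIntegral (Localization.Away g) x := hxC.tower_top
    obtain ⟨y, hy⟩ := IsIntegrallyClosed.algebraMap_eq_of_integral hxT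
    obtain ⟨⟨c, ⟨_, n, rfl⟩⟩, hc⟩ := IsLocalization.surj (Submonoid.powers g) y
    refine ⟨n, ?_⟩
    have hc' : x * algebraMap C₁ L (g ^ n) = algebraMap C₁ L c := by
      have := congrArg (algebraMap (Localization.Away g) L) hc
      rw [map_mul, hy, ← IsScalarTower.algebraMap_apply, ← IsScalarTower.algebraMap_apply] at this
      exact this
    have hfL : algebraMap B L f = algebraMap C₁ L (h * g) := by
      rw [hh]; rfl
    have : f ^ n • x = ((h ^ n * c : C₁) : L) := by
      rw [Algebra.smul_def, map_pow, hfL]
      show (algebraMap C₁ L (h * g)) ^ n * x = algebraMap C₁ L (h ^ n * c)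
      rw [map_mul, map_mul, map_pow, ← hc', mul_pow, map_pow]
      ring
    rw [this]; exact (h ^ n * c).2



/-- If a localization `R` of a domain `B` (at nonzero elements) is N-2 and `L` is a finite
extension of `Frac B` with a compatible `R`-algebra structure, then the integral closure of `R`
in `L` is `R`-finite. -/
theorem finite_integralClosure_of_isLocalization_isN2 {B R L : Type u} [CommRing B] [IsDomain B]
    [CommRing R] [IsDomain R] [Algebra B R] (S : Submonoid B) [IsLocalization S R]
    (hS : S ≤ nonZeroDivisors B) [Field L] [Algebra B L] [Algebra (FractionRing B) L]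
    [IsScalarTower B (FractionRing B) L] [FiniteDimensional (FractionRing B) L] [Algebra R L]
    [IsScalarTower B R L] (hR : CAlg.IsN2 R) : Module.Finite R (integralClosure R L) := by
  have hBL : Function.Injective (algebraMap B L) := by
    rw [IsScalarTower.algebraMap_eq B (FractionRing B) L]
    exact (algebraMap (FractionRing B) L).injective.comp (IsFractionRing.injective B _)
  have hBR : Function.Injective (algebraMap B R) := IsLocalization.injective R hS
  have hRL : Function.Injective (algebraMap R L) := by
    have hu : ∀ y : S, IsUnit (algebraMap B L y) := fun y => by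
      have := IsLocalization.map_units R y
      have h2 := this.map (algebraMap R L)
      rwa [← IsScalarTower.algebraMap_apply] at h2
    have heq : algebraMap R L = IsLocalization.lift hu := by
      apply IsLocalization.ringHom_ext S
      ext x
      simp [← IsScalarTower.algebraMap_apply]
    rw [heq, IsLocalization.lift_injective_iff]
    intro x y
    rw [hBR.eq_iff, hBL.eq_iff]
  haveI : FaithfulSMul R L := (faithfulSMul_iff_algebraMap_injective R L).mpr hRL
  letI : Algebra (FractionRing R) L := FractionRing.liftAlgebra R L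
  haveI : IsScalarTower R (FractionRing R) L := FractionRing.isScalarTower_liftAlgebra R L
  haveI : FaithfulSMul B (FractionRing R) := by
    rw [faithfulSMul_iff_algebraMap_injective, IsScalarTower.algebraMap_eq B R (FractionRing R)]
    exact (IsFractionRing.injective R _).comp hBR
  letI : Algebra (FractionRing B) (FractionRing R) := FractionRing.liftAlgebra B (FractionRing R)
  haveI : IsScalarTower B (FractionRing B) (FractionRing R) :=
    FractionRing.isScalarTower_liftAlgebra B (FractionRing R)
  haveI : IsScalarTower (FractionRing B) (FractionRing R) L := by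
    apply IsScalarTower.of_algebraMap_eq'
    apply IsLocalization.ringHom_ext (nonZeroDivisors B)
    ext x
    simp only [RingHom.comp_apply]
    rw [← IsScalarTower.algebraMap_apply B (FractionRing B) L,
      ← IsScalarTower.algebraMap_apply B (FractionRing B) (FractionRing R),
      IsScalarTower.algebraMap_apply B R (FractionRing R),
      ← IsScalarTower.algebraMap_apply R (FractionRing R) L,
      ← IsScalarTower.algebraMap_apply B R L]
  haveI : Module.Finite (FractionRing R) L :=
    Module.Finite.of_restrictScalars_finite (FractionRing B) (FractionRing R) L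
  exact hR L inferInstance

/-- The local rings of a G-ring are Nagata. -/
theorem isNagata_localization_of_isGRing (A : Type u) [CommRing A] (hG : CAlg.IsGRing A)
    (M : Ideal A) [M.IsPrime] : CAlg.IsNagata (Localization.AtPrime M) := by
  haveI : IsNoetherianRing A := hG.1
  apply Groth.Agent.Helper7.FFNag.s2657
  intro P _
  exact Groth.Agent.Helper7.CplFlat.geomReduced_of_geomRegular _ _ ((hG.2 M).2 P).2

theorem isN2_quotient_of_qe (A : Type u) [CommRing A] (hA : EGA4.IsQuasiExcellent A)
    (p : Ideal A) [p.IsPrime] : CAlg.IsN2 (A ⧸ p) := by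
  classical
  haveI : IsNoetherianRing A := hA.1
  have hG := hA.2.1
  have hJ := hA.2.2
  intro L _ _ _ _ hfd
  letI : Algebra A L := ((algebraMap (A ⧸ p) L).comp (algebraMap A (A ⧸ p))).toAlgebra
  haveI : IsScalarTower A (A ⧸ p) L := IsScalarTower.of_algebraMap_eq (fun x => rfl)
  haveI : Module.Finite (FractionRing (A ⧸ p)) L := hfd
  have hBL : Function.Injective (algebraMap (A ⧸ p) L) := by
    rw [IsScalarTower.algebraMap_eq (A ⧸ p) (FractionRing (A ⧸ p)) L]
    exact (algebraMap (FractionRing (A ⧸ p)) L).injective.comp (IsFractionRing.injective (A ⧸ p) _)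
  -- generic piece
  obtain ⟨C₀, f, hC₀fin, hC₀le, hf, hgen⟩ := exists_generic_piece (B := A ⧸ p) (L := L)
    (fun C hC => by
      haveI := hC
      have h1 : Algebra.FiniteType A (A ⧸ p) := inferInstance
      have h2 : Algebra.FiniteType (A ⧸ p) C := inferInstance
      exact hJ C (Algebra.FiniteType.trans h1 h2))
  refine finite_of_local_generic C₀ hC₀fin hC₀le f hf hgen ?_
  intro m hm
  let M : Ideal A := m.comap (Ideal.Quotient.mk p)
  haveI : M.IsPrime := Ideal.comap_isPrime _ _
  have hpM : p ≤ M := by
    intro a ha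
    show Ideal.Quotient.mk p a ∈ m
    rw [Ideal.Quotient.eq_zero_iff_mem.mpr ha]; exact m.zero_mem
  let AM := Localization.AtPrime M
  let P : Ideal AM := p.map (algebraMap A AM)
  haveI : P.IsPrime := Ideal.isPrime_map_of_isLocalizationAtPrime M hpM
  have hNag := isNagata_localization_of_isGRing A hG M
  have hN2 : CAlg.IsN2 (AM ⧸ P) := hNag.2 P
  let S : Submonoid (A ⧸ p) := Algebra.algebraMapSubmonoid (A ⧸ p) M.primeCompl
  haveI : IsLocalization S (AM ⧸ P) := inferInstance
  have hSm : ∀ s ∈ S, s ∉ m := by
    rintro _ ⟨a, ha, rfl⟩ hmem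
    exact ha hmem
  have hS0 : S ≤ nonZeroDivisors (A ⧸ p) := by
    intro s hs
    rw [mem_nonZeroDivisors_iff_ne_zero]
    rintro rfl
    exact hSm 0 hs m.zero_mem
  have hu : ∀ y : S, IsUnit (algebraMap (A ⧸ p) L y) := fun y => by
    apply IsUnit.mk0
    rw [Ne, map_eq_zero_iff _ hBL]
    exact nonZeroDivisors.ne_zero (hS0 y.2)
  letI : Algebra (AM ⧸ P) L := (IsLocalization.lift hu).toAlgebra
  haveI : IsScalarTower (A ⧸ p) (AM ⧸ P) L :=
    IsScalarTower.of_algebraMap_eq (fun x => (IsLocalization.lift_eq hu x).symm)
  have hfinR : Module.Finite (AM ⧸ P) (integralClosure (AM ⧸ P) L) :=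
    finite_integralClosure_of_isLocalization_isN2 S hS0 hN2
  obtain ⟨C, hCfin, hCle, hC⟩ := exists_local_piece S hfinR
  refine ⟨C, hCfin, hCle, fun x hx => ?_⟩
  obtain ⟨s, hs, hsx⟩ := hC x hx
  exact ⟨s, hSm s hs, hsx⟩

theorem s2654 (A : Type u) [CommRing A] (hA : EGA4.IsQuasiExcellent A) : CAlg.IsNagata A :=
  ⟨hA.1, fun p _ => isN2_quotient_of_qe A hA p⟩

end Groth.Agent.Helper7.QENag
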