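import Mathlib
import Groth.Prelude.Def_Found
import Groth.Agent.Lib.Helper7.Zariski
import Groth.Agent.Lib.Helper7.ComplJap
import Groth.Agent.Lib.Helper5.PolyR1
import Groth.Agent.Lib.Helper7.NagAU
import Groth.Agent.Lib.Helper7.QENag
import Groth.Agent.Lib.Helper7.ComplN2

/-!
# Helper7: more on analytically unramified local rings
* `s2093`: Zariski's hypersurface criterion.
* `exists_local_subalgebra`: `A + m_A T` is local for `T` integral over local `A`.
* `finite_integralClosure_of_local_hyp`, `s9440`: Nagata local iff finite local domains analytically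
  unramified.
-/

universe u
namespace Groth.Agent.Helper7.NagAU2
open TensorProduct IsLocalRing

set_option linter.style.haveILetI false

theorem height_eq_one_of_mem_minimalPrimes_span (D : Type u) [CommRing D] [IsDomain D]
    [IsNoetherianRing D] (t : D) (ht : t ≠ 0) (q : Ideal D) [q.IsPrime]
    (hq : q ∈ (Ideal.span {t}).minimalPrimes) : q.height = 1 := by
  have h1 : q.height ≤ 1 := Ideal.height_le_one_of_isPrincipal_of_mem_minimalPrimes _ q hq
  have h0 : q.height ≠ 0 := by
    intro h0
    rw [Ideal.height_eq_zero_iff] at h0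
    have hbot : q = ⊥ := by
      have : q ∈ ({⊥} : Set (Ideal D)) := by
        rw [← Ideal.minimalPrimes_eq_subsingleton_self (I := (⊥ : Ideal D))]; exact h0
      exact this
    apply ht
    have : t ∈ q := hq.1.2 (Ideal.mem_span_singleton_self t)
    rw [hbot] at this
    exact this
  exact le_antisymm h1 (Order.one_le_iff_ne_zero.mpr h0)

theorem s2093 {R : Type u} [CommRing R] [IsDomain R] [IsLocalRing R]
    [IsNoetherianRing R] (x : R) (hx : x ≠ 0) (hxm : x ∈ IsLocalRing.maximalIdeal R)
    (hemb : ∀ p ∈ associatedPrimes R (R ⧸ Ideal.span {x}), p ∈ (Ideal.span {x}).minimalPrimes)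
    (hreg : ∀ p ∈ associatedPrimes R (R ⧸ Ideal.span {x}), ∀ (_ : p.IsPrime),
      IsRegularLocalRing (Localization.AtPrime p) ∧
        IsReduced (AdicCompletion ((IsLocalRing.maximalIdeal R).map (Ideal.Quotient.mk p)) (R ⧸ p))) :
    IsReduced (AdicCompletion (IsLocalRing.maximalIdeal R) R) := by
  have hass : ∀ q ∈ (Ideal.span {x}).minimalPrimes,
      q ∈ associatedPrimes R (R ⧸ Ideal.span {x}) := by
    intro q hq
    apply Module.associatedPrimes.minimalPrimes_annihilator_subset_associatedPrimes R
      (R ⧸ Ideal.span {x})
    rw [Ideal.annihilator_quotient]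
    exact hq
  refine Groth.Agent.Helper7.Zariski.s2649 R x hxm (mem_nonZeroDivisors_of_ne_zero hx)
    (fun p hp => hemb p hp) ?_ ?_
  · intro q _ hq
    obtain ⟨hrlr, -⟩ := hreg q (hass q hq) inferInstance
    haveI := hrlr
    refine ⟨inferInstance, ?_⟩
    apply Groth.Agent.Helper5.PolyHeight.isDiscreteValuationRing_of_isRegularLocalRing
    rw [IsLocalization.AtPrime.ringKrullDim_eq_height q (Localization.AtPrime q),
      height_eq_one_of_mem_minimalPrimes_span R x hx q hq]
    rfl
  · intro q _ hq
    obtain ⟨-, hred⟩ := hreg q (hass q hq) inferInstance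
    rw [Groth.Agent.Helper7.ComplJap.maximalIdeal_quotient q] at hred
    exact hred

/-- For an integral algebra `T` over a local ring `A`, the subring `A + m_A T` is local. -/
theorem exists_local_subalgebra (A : Type u) [CommRing A] [IsLocalRing A]
    (T : Type u) [CommRing T] [Nontrivial T] [Algebra A T] [Algebra.IsIntegral A T] :
    ∃ S : Subalgebra A T, IsLocalRing S ∧ ∀ a ∈ maximalIdeal A, ∀ x : T, a • x ∈ S := by
  let J : Ideal T := (maximalIdeal A).map (algebraMap A T)
  have hJjac : J ≤ (⊥ : Ideal T).jacobson := by
    rw [Ideal.map_le_iff_le_comap]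
    intro a ha
    exact Groth.Agent.Helper7.NagAU.algebraMap_mem_jacobson_of_isIntegral A T a ha
  let S : Subalgebra A T :=
    { carrier := {x | ∃ a : A, x - algebraMap A T a ∈ J}
      mul_mem' := by
        rintro x y ⟨a, ha⟩ ⟨b, hb⟩
        refine ⟨a * b, ?_⟩
        have : x * y - algebraMap A T (a * b) =
            (x - algebraMap A T a) * y + algebraMap A T a * (y - algebraMap A T b) := by
          rw [map_mul]; ring
        rw [this]
        exact J.add_mem (J.mul_mem_right _ ha) (J.mul_mem_left _ hb)
      one_mem' := ⟨1, by rw [map_one, sub_self]; exact J.zero_mem⟩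
      add_mem' := by
        rintro x y ⟨a, ha⟩ ⟨b, hb⟩
        refine ⟨a + b, ?_⟩
        have : x + y - algebraMap A T (a + b) =
            (x - algebraMap A T a) + (y - algebraMap A T b) := by
          rw [map_add]; ring
        rw [this]
        exact J.add_mem ha hb
      zero_mem' := ⟨0, by rw [map_zero, sub_self]; exact J.zero_mem⟩
      algebraMap_mem' := fun r => ⟨r, by rw [sub_self]; exact J.zero_mem⟩ }
  have hU : ∀ (x : T) (a : A), IsUnit a → x - algebraMap A T a ∈ J → ∃ y ∈ S, x * y = 1 := by
    intro x a ha hxa
    obtain ⟨a', haa'⟩ := isUnit_iff_exists_inv.mp ha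
    obtain ⟨j, hj⟩ : ∃ j, j = x - algebraMap A T a := ⟨_, rfl⟩
    rw [← hj] at hxa
    have hjjac : j ∈ (⊥ : Ideal T).jacobson := hJjac hxa
    have hu : IsUnit (j * algebraMap A T a' + 1) := (Ideal.mem_jacobson_bot.mp hjjac) _
    have hxu : x * algebraMap A T a' = j * algebraMap A T a' + 1 := by
      have h1 : algebraMap A T a * algebraMap A T a' = 1 := by
        rw [← map_mul, haa', map_one]
      have : x = j + algebraMap A T a := by rw [hj]; ring
      rw [this, add_mul, h1]
    obtain ⟨w, hw⟩ := isUnit_iff_exists_inv.mp hu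
    refine ⟨algebraMap A T a' * w, ⟨a', ?_⟩, ?_⟩
    · have hxy : x * (algebraMap A T a' * w) = 1 := by rw [← mul_assoc, hxu, hw]
      have : algebraMap A T a' * w - algebraMap A T a' =
          (algebraMap A T a' * w) * (-(j * algebraMap A T a')) := by
        linear_combination (algebraMap A T a') * hw
      rw [this]
      exact J.mul_mem_left _ (J.neg_mem (J.mul_mem_right _ hxa))
    · rw [← mul_assoc, hxu, hw]
  haveI : Nontrivial ↥S := inferInstance
  have hloc : IsLocalRing ↥S := by
    apply IsLocalRing.of_isUnit_or_isUnit_one_sub_self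
    rintro ⟨x, a, hxa⟩
    by_cases ha : IsUnit a
    · left
      obtain ⟨y, hy, hxy⟩ := hU x a ha hxa
      exact isUnit_iff_exists_inv.mpr ⟨⟨y, hy⟩, Subtype.ext hxy⟩
    · right
      have ham : a ∈ maximalIdeal A := ha
      have hxJ : x ∈ J := by
        have : x = (x - algebraMap A T a) + algebraMap A T a := by ring
        rw [this]
        exact J.add_mem hxa (Ideal.mem_map_of_mem _ ham)
      obtain ⟨y, hy, hxy⟩ := hU (1 - x) 1 isUnit_one (by
        rw [map_one]
        have : (1 : T) - x - 1 = -x := by ring
        rw [this]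
        exact J.neg_mem hxJ)
      exact isUnit_iff_exists_inv.mpr ⟨⟨y, hy⟩, Subtype.ext hxy⟩
  refine ⟨S, hloc, ?_⟩
  intro a ha x
  refine ⟨0, ?_⟩
  rw [map_zero, sub_zero, Algebra.smul_def]
  exact J.mul_mem_right _ (Ideal.mem_map_of_mem _ ha)

/-- finiteness of integral closure ascends from a finite intermediate ring -/
theorem finite_integralClosure_of_finite_tower (R A L : Type*) [CommRing R] [CommRing A]
    [CommRing L] [Algebra R A] [Algebra A L] [Algebra R L] [IsScalarTower R A L]
    [Module.Finite R A]
    (h : Module.Finite A (integralClosure A L)) : Module.Finite R (integralClosure R L) := by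
  haveI : Algebra.IsIntegral R A := inferInstance
  have heq : (integralClosure R L).toSubmodule =
      (integralClosure A L).toSubmodule.restrictScalars R := by
    ext x
    simp only [Subalgebra.mem_toSubmodule, Submodule.restrictScalars_mem, mem_integralClosure_iff]
    constructor
    · intro hx; exact hx.tower_top
    · intro hx; exact isIntegral_trans x hx
  haveI : Module.Finite R (integralClosure A L) := Module.Finite.trans A _
  have h1 : Module.Finite R ((integralClosure A L).toSubmodule.restrictScalars R) :=
    ‹Module.Finite R (integralClosure A L)›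
  rw [Module.Finite.iff_fg, ← heq, ← Module.Finite.iff_fg] at h1
  exact h1

/-- analytically unramified local domain: integral closure in the fraction field `L` is finite -/
theorem finite_integralClosure_of_isFractionRing (S : Type u) [CommRing S] [IsDomain S]
    [IsLocalRing S] [IsNoetherianRing S] (L : Type u) [Field L] [Algebra S L] [IsFractionRing S L]
    (hred : IsReduced (AdicCompletion (maximalIdeal S) S)) :
    Module.Finite S (integralClosure S L) := by
  haveI : FaithfulSMul S L :=
    (faithfulSMul_iff_algebraMap_injective S L).mpr (IsFractionRing.injective S L)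
  letI : Algebra (FractionRing S) L := FractionRing.liftAlgebra S L
  haveI : IsScalarTower S (FractionRing S) L := FractionRing.isScalarTower_liftAlgebra S L
  haveI : FiniteDimensional (FractionRing S) L := by
    apply Module.Finite.of_surjective (Algebra.linearMap (FractionRing S) L)
    intro z
    obtain ⟨x, y, hy, rfl⟩ := IsFractionRing.div_surjective (A := S) z
    refine ⟨algebraMap S (FractionRing S) x / algebraMap S (FractionRing S) y, ?_⟩
    rw [Algebra.linearMap_apply, map_div₀, ← IsScalarTower.algebraMap_apply,
      ← IsScalarTower.algebraMap_apply]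
  apply Groth.Agent.Helper7.ComplJap.finite_integralClosure_of_reduced (A := S) (K' := L)
  haveI : IsReduced (AdicCompletion (maximalIdeal S) S ⊗[S] L) :=
    isReduced_localizationPreserves
      (Algebra.algebraMapSubmonoid (AdicCompletion (maximalIdeal S) S) (nonZeroDivisors S)) _
      inferInstance
  exact isReduced_of_injective
    (Algebra.TensorProduct.comm S L (AdicCompletion (maximalIdeal S) S)).toAlgHom
    (Algebra.TensorProduct.comm S L (AdicCompletion (maximalIdeal S) S)).injective

theorem finite_integralClosure_of_local_hyp (A : Type u) [CommRing A] [IsDomain A] [IsLocalRing A]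
    [IsNoetherianRing A]
    (H : ∀ (S : Type u) [CommRing S] [IsDomain S] [IsLocalRing S] [Algebra A S]
      [IsLocalHom (algebraMap A S)] [Module.Finite A S],
      IsReduced (AdicCompletion (maximalIdeal S) S))
    (L : Type u) [Field L] [Algebra A L] [Algebra (FractionRing A) L]
    [IsScalarTower A (FractionRing A) L] [FiniteDimensional (FractionRing A) L] :
    Module.Finite A (integralClosure A L) := by
  classical
  by_cases hfield : IsField A
  · exact Groth.Agent.Helper7.ComplN2.isN2_of_isField A hfield L inferInstance
  have hm : maximalIdeal A ≠ ⊥ := fun h => hfield (IsLocalRing.isField_iff_maximalIdeal_eq.mpr h)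
  obtain ⟨t, htm, ht0⟩ := Submodule.exists_mem_ne_zero_of_ne_bot hm
  have hinjAL : Function.Injective (algebraMap A L) := by
    rw [IsScalarTower.algebraMap_eq A (FractionRing A) L]
    exact (algebraMap (FractionRing A) L).injective.comp (IsFractionRing.injective A _)
  obtain ⟨s, b, hb⟩ := FiniteDimensional.exists_is_basis_integral A (FractionRing A) L
  let T : Subalgebra A L := Algebra.adjoin A (Set.range b)
  have hint : ∀ z ∈ Set.range b, IsIntegral A z := by rintro _ ⟨i, rfl⟩; exact hb i
  haveI hfinT : Module.Finite A T :=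
    Module.Finite.iff_fg.mpr (fg_adjoin_of_finite (Set.finite_range b) hint)
  haveI : IsFractionRing T L :=
    Groth.Agent.Helper7.QENag.isFractionRing_of_basis_mem b T
      (fun i => Algebra.subset_adjoin ⟨i, rfl⟩)
  obtain ⟨S, hSloc, hSm⟩ := exists_local_subalgebra A ↥T
  haveI := hSloc
  haveI : IsNoetherian A ↥T := isNoetherian_of_isNoetherianRing_of_finite A ↥T
  haveI : Module.Finite A ↥S :=
    Module.Finite.of_injective S.val.toLinearMap Subtype.val_injective
  have hinjAS : Function.Injective (algebraMap A ↥S) := by
    intro x y hxy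
    apply hinjAL
    have := congrArg (fun z : ↥S => ((z : ↥T) : L)) hxy
    exact this
  haveI : IsLocalHom (algebraMap A ↥S) :=
    RingHom.IsIntegral.isLocalHom (algebraMap_isIntegral_iff.mpr inferInstance) hinjAS
  have hred := H ↥S
  haveI : IsScalarTower ↥S ↥T L := inferInstance
  haveI : IsScalarTower A ↥S L := IsScalarTower.of_algebraMap_eq (fun x => rfl)
  have hinjSL : Function.Injective (algebraMap ↥S L) := by
    intro x y hxy
    exact Subtype.ext (Subtype.ext hxy)
  haveI : FaithfulSMul ↥S L := (faithfulSMul_iff_algebraMap_injective ↥S L).mpr hinjSL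
  have htL : algebraMap A L t ≠ 0 := by
    rw [Ne, map_eq_zero_iff _ hinjAL]; exact ht0
  have hfrac : ∀ z : L, ∃ x y : ↥S, z = algebraMap ↥S L x / algebraMap ↥S L y := by
    intro z
    obtain ⟨x, y, hy, hz⟩ := IsFractionRing.div_surjective (A := ↥T) z
    refine ⟨⟨t • x, hSm t htm x⟩, ⟨t • y, hSm t htm y⟩, ?_⟩
    have hy0 : algebraMap ↥T L y ≠ 0 := by
      rw [Ne, map_eq_zero_iff _ (IsFractionRing.injective ↥T L)]
      exact nonZeroDivisors.ne_zero hy
    show z = algebraMap ↥T L (t • x) / algebraMap ↥T L (t • y)
    rw [Algebra.smul_def, Algebra.smul_def, map_mul, map_mul,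
      ← IsScalarTower.algebraMap_apply A ↥T L, ← hz]
    field_simp
  haveI : IsFractionRing ↥S L := IsFractionRing.of_field ↥S L hfrac
  haveI : IsNoetherianRing ↥S := Algebra.FiniteType.isNoetherianRing A ↥S
  have hfinS : Module.Finite ↥S (integralClosure ↥S L) :=
    finite_integralClosure_of_isFractionRing ↥S L hred
  exact finite_integralClosure_of_finite_tower A ↥S L hfinS

/-- a finite algebra over a Nagata ring is Nagata -/
theorem isNagata_of_finite (R : Type u) [CommRing R] (hR : CAlg.IsNagata R)
    (S : Type u) [CommRing S] [Algebra R S] [Module.Finite R S] : CAlg.IsNagata S := by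
  haveI := hR.1
  haveI : IsNoetherianRing S := Algebra.FiniteType.isNoetherianRing R S
  refine ⟨inferInstance, ?_⟩
  intro q _
  let p : Ideal R := q.comap (algebraMap R S)
  haveI : p.IsPrime := Ideal.comap_isPrime _ q
  haveI : Module.Finite (R ⧸ p) (S ⧸ q) := Module.Finite.of_restrictScalars_finite R _ _
  exact Groth.Agent.Helper7.QFN2.main (R := R ⧸ p) (S := S ⧸ q)
    (Ideal.algebraMap_quotient_injective) (hR.2 p)

theorem s9440 (R : Type u) [CommRing R]
    [IsLocalRing R] [IsNoetherianRing R] :
    CAlg.IsNagata R ↔ ∀ (S : Type u) [CommRing S] [IsDomain S] [IsLocalRing S] [Algebra R S]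
      [IsLocalHom (algebraMap R S)] [Module.Finite R S],
      IsReduced (AdicCompletion (IsLocalRing.maximalIdeal S) S) := by
  constructor
  · intro hR S _ _ _ _ _ _
    exact Groth.Agent.Helper7.NagAU.s0576 S (isNagata_of_finite R hR S)
  · intro H
    refine ⟨inferInstance, ?_⟩
    intro p _ L _ _ _ _ hfd
    refine finite_integralClosure_of_local_hyp (R ⧸ p) ?_ L
    intro S _ _ _ _ _ _
    letI : Algebra R S := ((algebraMap (R ⧸ p) S).comp (Ideal.Quotient.mk p)).toAlgebra
    haveI : IsScalarTower R (R ⧸ p) S := IsScalarTower.of_algebraMap_eq (fun x => rfl)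
    haveI : Module.Finite R S := Module.Finite.trans (R ⧸ p) S
    haveI : IsLocalHom (Ideal.Quotient.mk p) :=
      IsLocalHom.of_surjective _ Ideal.Quotient.mk_surjective
    haveI : IsLocalHom (algebraMap R S) :=
      RingHom.isLocalHom_comp (algebraMap (R ⧸ p) S) (Ideal.Quotient.mk p)
    exact H S

end Groth.Agent.Helper7.NagAU2
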