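import Mathlib
import Groth.Prelude.Def_Found

import Groth.Agent.S9392
universe u
namespace Groth.Agent.Helper7.NagLoc

theorem main (A : Type u) [CommRing A] (hA : CAlg.IsNagata A) (S : Submonoid A) :
    CAlg.IsNagata (Localization S) := by
  obtain ⟨hN, hJ⟩ := hA
  refine ⟨IsLocalization.isNoetherianRing S _ hN, ?_⟩
  intro q hq
  set p : Ideal A := q.comap (algebraMap A (Localization S)) with hp
  have : p.IsPrime := Ideal.comap_isPrime _ _
  have h2 := hJ p
  have hloc : IsLocalization (S.map (Ideal.Quotient.mk p)) (Localization S ⧸ q) := by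
    refine IsLocalization.of_surjective S (Localization S) (Ideal.Quotient.mk p)
      Ideal.Quotient.mk_surjective (Ideal.Quotient.mk q) Ideal.Quotient.mk_surjective ?_ ?_
    · ext x; rfl
    · rw [Ideal.mk_ker, Ideal.mk_ker, hp, IsLocalization.map_under S]
  exact Groth.Agent.S9392.result (A ⧸ p) (S.map (Ideal.Quotient.mk p)) (Localization S ⧸ q) h2

end Groth.Agent.Helper7.NagLoc
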