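import Mathlib
import Groth.Prelude.Def_Found
import Groth.Agent.Lib.Helper7.Zariski


/-!
# Helper7: localizations of the completion at associated primes of `R^/pR^` are DVRs
when `R_p` is a DVR and `p` is analytically unramified (Stacks 0BI1-like); DVR criterion.
-/
universe u
namespace Groth.Agent.Helper7.Zariski2
open TensorProduct IsLocalRing

set_option linter.style.haveILetI false

/-- Krull intersection: in a Noetherian local ring with principal maximal ideal `(π)`, every
nonzero element is a unit times a power of `π`. -/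
theorem exists_unit_mul_pow (S : Type*) [CommRing S] [IsLocalRing S] [IsNoetherianRing S]
    (π : S) (hπ : maximalIdeal S = Ideal.span {π}) (x : S) (hx0 : x ≠ 0) :
    ∃ (n : ℕ) (u : S), IsUnit u ∧ x = u * π ^ n := by
  classical
  have hinf : (⨅ n : ℕ, (maximalIdeal S) ^ n) = ⊥ :=
    Ideal.iInf_pow_eq_bot_of_isLocalRing _ (IsLocalRing.maximalIdeal.isMaximal S).ne_top
  have hex : ∃ n, x ∉ (maximalIdeal S) ^ n := by
    by_contra hall
    push Not at hall
    have : x ∈ (⨅ n : ℕ, (maximalIdeal S) ^ n) := Ideal.mem_iInf.mpr hall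
    rw [hinf] at this
    exact hx0 this
  have hn : x ∉ (maximalIdeal S) ^ (Nat.find hex) := Nat.find_spec hex
  have hn0 : Nat.find hex ≠ 0 := by
    intro h0
    rw [h0, pow_zero, Ideal.one_eq_top] at hn
    exact hn Submodule.mem_top
  obtain ⟨m, hm⟩ := Nat.exists_eq_succ_of_ne_zero hn0
  have hxm : x ∈ (maximalIdeal S) ^ m := by
    by_contra h
    exact Nat.find_min hex (by omega) h
  rw [hπ, Ideal.span_singleton_pow, Ideal.mem_span_singleton'] at hxm
  obtain ⟨u, rfl⟩ := hxm
  refine ⟨m, u, ?_, rfl⟩
  by_contra hu
  have hum : u ∈ maximalIdeal S := (IsLocalRing.mem_maximalIdeal u).mpr hu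
  apply hn
  rw [hm, pow_succ', hπ, Ideal.span_singleton_pow]
  rw [hπ] at hum
  exact Ideal.mul_mem_mul hum (Ideal.mem_span_singleton_self _)

/-- A Noetherian local ring whose maximal ideal is generated by a non-zero-divisor is a DVR. -/
theorem isDVR_of_principal_maximal (S : Type*) [CommRing S] [IsLocalRing S] [IsNoetherianRing S]
    (π : S) (hπ : maximalIdeal S = Ideal.span {π}) (hreg : π ∈ nonZeroDivisors S) :
    ∃ (_ : IsDomain S), IsDiscreteValuationRing S := by
  have hpow : ∀ k : ℕ, π ^ k ≠ 0 := by
    intro k hk
    have : π ^ k ∈ nonZeroDivisors S := pow_mem hreg k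
    rw [hk] at this
    exact zero_notMem_nonZeroDivisors this
  have hdom : IsDomain S := by
    haveI : NoZeroDivisors S := by
      constructor
      intro x y hxy
      by_contra hne
      push Not at hne
      obtain ⟨n, u, hu, rfl⟩ := exists_unit_mul_pow S π hπ x hne.1
      obtain ⟨m, v, hv, rfl⟩ := exists_unit_mul_pow S π hπ y hne.2
      have h1 : (u * v) * π ^ (n + m) = 0 := by rw [← hxy, pow_add]; ring
      exact hpow (n + m) (((hu.mul hv).mul_right_eq_zero).mp h1)
    exact NoZeroDivisors.to_isDomain S
  refine ⟨hdom, ?_⟩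
  have hnf : ¬ IsField S := by
    intro hf
    have hbot : maximalIdeal S = ⊥ := IsLocalRing.isField_iff_maximalIdeal_eq.mp hf
    have hmem : π ∈ maximalIdeal S := hπ ▸ Ideal.mem_span_singleton_self π
    rw [hbot] at hmem
    exact hpow 1 (by rw [pow_one]; exact hmem)
  have hprin : (maximalIdeal S).IsPrincipal := ⟨π, hπ⟩
  exact ((IsDiscreteValuationRing.TFAE S hnf).out 4 0).mp hprin

theorem s9439
    (R : Type u) [CommRing R] [IsLocalRing R] [IsNoetherianRing R] (p : Ideal R) [p.IsPrime]
    [IsDomain (Localization.AtPrime p)] [IsDiscreteValuationRing (Localization.AtPrime p)]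
    (hp : IsReduced (AdicCompletion (IsLocalRing.maximalIdeal R) R ⧸
      p.map (algebraMap R (AdicCompletion (IsLocalRing.maximalIdeal R) R))))
    (q : Ideal (AdicCompletion (IsLocalRing.maximalIdeal R) R)) [q.IsPrime]
    (hq : q ∈ associatedPrimes (AdicCompletion (IsLocalRing.maximalIdeal R) R)
      (AdicCompletion (IsLocalRing.maximalIdeal R) R ⧸
        p.map (algebraMap R (AdicCompletion (IsLocalRing.maximalIdeal R) R)))) :
    ∃ _ : IsDomain (Localization.AtPrime q), IsDiscreteValuationRing (Localization.AtPrime q) := by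
  let Rh := AdicCompletion (maximalIdeal R) R
  have hrad : (p.map (algebraMap R Rh)).IsRadical :=
    (Ideal.isRadical_iff_quotient_reduced _).mpr hp
  have hmin := Groth.Agent.Helper7.Zariski.mem_minimalPrimes_of_mem_associatedPrimes _ hrad q hq
  have hmax := Groth.Agent.Helper7.Zariski.map_eq_maximalIdeal_of_minimal _ q hmin hp
  have hunder : q.under R = p :=
    Groth.Agent.Helper7.Zariski.under_eq_of_mem_minimalPrimes_map p q hmin
  obtain ⟨π, hπ⟩ :=
    (IsPrincipalIdealRing.principal (maximalIdeal (Localization.AtPrime p))).principal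
  let φ := Localization.localRingHom p q (algebraMap R Rh) hunder.symm
  have hφ : φ.comp (algebraMap R (Localization.AtPrime p)) =
      (algebraMap Rh (Localization.AtPrime q)).comp (algebraMap R Rh) := by
    ext x; exact Localization.localRingHom_to_map p q (algebraMap R Rh) hunder.symm x
  have hgen : maximalIdeal (Localization.AtPrime q) = Ideal.span {φ π} := by
    rw [← hmax, Ideal.map_map, ← hφ, ← Ideal.map_map, Localization.AtPrime.map_eq_maximalIdeal,
      hπ, Ideal.submodule_span_eq, Ideal.map_span, Set.image_singleton]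
  have hπ0 : π ≠ 0 := by
    intro h0
    apply IsDiscreteValuationRing.not_a_field (Localization.AtPrime p)
    rw [hπ, h0, Ideal.submodule_span_eq, Ideal.span_singleton_eq_bot]
  have hflat : φ.Flat :=
    RingHom.Flat.localRingHom (RingHom.flat_algebraMap_iff.mpr inferInstance) q p hunder.symm
  have hreg : φ π ∈ nonZeroDivisors (Localization.AtPrime q) := by
    letI : Algebra (Localization.AtPrime p) (Localization.AtPrime q) := φ.toAlgebra
    haveI : Module.Flat (Localization.AtPrime p) (Localization.AtPrime q) := hflat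
    have hs : IsSMulRegular (Localization.AtPrime q) π :=
      Module.Flat.isSMulRegular_of_nonZeroDivisors (mem_nonZeroDivisors_of_ne_zero hπ0)
    rw [mem_nonZeroDivisors_iff_right]
    intro x hx
    apply hs
    simp only [Algebra.smul_def, mul_zero]
    rw [mul_comm]; exact hx
  exact isDVR_of_principal_maximal (Localization.AtPrime q) (φ π) hgen hreg

end Groth.Agent.Helper7.Zariski2
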