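import Mathlib
import Groth.Prelude.Def_Found
import Groth.Prelude.Def_EGA4b
import Groth.Agent.Lib.Helper7.NagAU
import Groth.Agent.Lib.Helper7.NagAU2
import Groth.Agent.Lib.Helper7.Zariski
import Groth.Agent.Lib.Helper7.Zariski2
import Groth.Agent.Lib.Helper7.NagLoc
import Groth.Agent.Lib.Helper7.QENag
import Groth.Agent.Lib.Helper7.ComplJap
import Groth.Agent.Lib.Helper7.TatePS

/-!
# Helper7: monogenic birational extensions `R[x] ⊆ Frac R` of normal Nagata domains are N-1
(Stacks 0334, Step 6)
-/

universe u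
namespace Groth.Agent.Helper7.Mono
open Polynomial IsLocalRing TensorProduct

set_option linter.style.haveILetI false
set_option linter.unusedSectionVars false
set_option linter.unusedVariables false

theorem isNagata_of_ringEquiv {A B : Type u} [CommRing A] [CommRing B] (e : A ≃+* B)
    (hA : CAlg.IsNagata A) : CAlg.IsNagata B := by
  letI : Algebra A B := e.toRingHom.toAlgebra
  haveI : Module.Finite A B := Module.Finite.of_surjective (Algebra.linearMap A B) e.surjective
  exact Groth.Agent.Helper7.NagAU2.isNagata_of_finite A hA B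

/-- The local finiteness statement used throughout. -/
def LF (S K : Type u) [CommRing S] [Field K] [Algebra S K] (m : Ideal S) : Prop :=
  ∃ C : Subalgebra S K, Module.Finite S C ∧ C ≤ integralClosure S K ∧
    ∀ z ∈ integralClosure S K, ∃ s : S, s ∉ m ∧ s • z ∈ C

theorem LF_down {A K K'' : Type u} [CommRing A] [IsNoetherianRing A] [Field K] [Field K'']
    [Algebra A K] [Algebra A K''] [Algebra K K''] [IsScalarTower A K K''] (m : Ideal A)
    (h : LF A K'' m) : LF A K m := by
  obtain ⟨C, hCfin, hCle, hC⟩ := h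
  let φ : K →ₐ[A] K'' := IsScalarTower.toAlgHom A K K''
  have hφinj : Function.Injective φ := (algebraMap K K'').injective
  refine ⟨C.comap φ, ?_, ?_, ?_⟩
  · let ψ : (C.comap φ) →ₗ[A] C :=
      { toFun := fun y => ⟨φ y, y.2⟩
        map_add' := fun y y' => Subtype.ext (map_add φ _ _)
        map_smul' := fun a y => Subtype.ext (map_smul φ _ _) }
    haveI := hCfin
    haveI : IsNoetherian A C := isNoetherian_of_isNoetherianRing_of_finite A C
    refine Module.Finite.of_injective ψ ?_
    intro y y' hyy'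
    apply Subtype.ext
    apply hφinj
    exact congrArg Subtype.val hyy'
  · intro y hy
    have h1 : IsIntegral A (φ y) := hCle hy
    exact (isIntegral_algHom_iff φ hφinj).mp h1
  · intro z hz
    obtain ⟨s, hs, hsz⟩ := hC (φ z) (IsIntegral.map φ hz)
    refine ⟨s, hs, ?_⟩
    show φ (s • z) ∈ C
    rw [map_smul]
    exact hsz

theorem LF_goingUp {A A' K'' : Type u} [CommRing A] [IsNoetherianRing A] [CommRing A']
    [Field K''] [Algebra A A'] [Module.Finite A A'] [Algebra A K''] [Algebra A' K'']
    [IsScalarTower A A' K''] (m : Ideal A) [m.IsPrime]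
    (h : ∀ m' : Ideal A', m'.IsPrime → m'.comap (algebraMap A A') = m → LF A' K'' m') :
    LF A K'' m := by
  classical
  have hfinset : (m.primesOver A').Finite := Algebra.QuasiFinite.finite_primesOver m
  have h' : ∀ m' : Ideal A', ∃ C : Subalgebra A' K'', Module.Finite A' C ∧
      C ≤ integralClosure A' K'' ∧ (m' ∈ m.primesOver A' →
        ∀ z ∈ integralClosure A' K'', ∃ s, s ∉ m' ∧ s • z ∈ C) := by
    intro m'
    by_cases hm' : m' ∈ m.primesOver A'
    · obtain ⟨C, h1, h2, h3⟩ := h m' hm'.1 (hm'.2.over.symm)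
      exact ⟨C, h1, h2, fun _ => h3⟩
    · exact ⟨⊥, Subalgebra.finite_bot, bot_le, fun h => absurd h hm'⟩
  choose C hCfin hCle hC using h'
  let C' : Subalgebra A' K'' := hfinset.toFinset.sup C
  have hC'fin : Module.Finite A' C' := Groth.Agent.Helper7.QENag.finite_finsetSup _ C hCfin
  have hC'le : C' ≤ integralClosure A' K'' := Finset.sup_le (fun m' _ => hCle m')
  haveI : Algebra.IsIntegral A A' := inferInstance
  refine ⟨C'.restrictScalars A, ?_, ?_, ?_⟩
  · have h1 : (Subalgebra.toSubmodule C').FG := Module.Finite.iff_fg.mp hC'fin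
    have h2 : ((Subalgebra.toSubmodule C').restrictScalars A).FG := h1.restrictScalars
    exact Module.Finite.iff_fg.mpr h2
  · intro y hy
    have h1 : IsIntegral A' y := hC'le hy
    exact isIntegral_trans y h1
  · intro z hz
    have hz' : IsIntegral A' z := IsIntegral.tower_top hz
    let I : Ideal A' :=
      { carrier := {s | s • z ∈ C'}
        add_mem' := fun {a b} ha hb => by
          show (a + b) • z ∈ C'
          rw [add_smul]
          exact C'.add_mem ha hb
        zero_mem' := by
          show (0 : A') • z ∈ C'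
          rw [zero_smul]
          exact C'.zero_mem
        smul_mem' := fun c a ha => by
          show (c • a) • z ∈ C'
          rw [smul_assoc]
          exact C'.smul_mem ha c }
    by_contra hcon
    push Not at hcon
    have hIm : I.comap (algebraMap A A') ≤ m := by
      intro s hs
      by_contra hsm
      apply hcon s hsm
      have h1 : algebraMap A A' s • z ∈ C' := hs
      rw [algebraMap_smul] at h1
      exact h1
    obtain ⟨Q, hQI, hQprime, hQm⟩ := Ideal.exists_ideal_over_prime_of_isIntegral m I hIm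
    have hQover : Q ∈ m.primesOver A' := ⟨hQprime, ⟨hQm.symm⟩⟩
    obtain ⟨s, hsQ, hsz⟩ := hC Q hQover z hz'
    apply hsQ
    apply hQI
    show s • z ∈ C'
    exact (Finset.le_sup (f := C) (hfinset.mem_toFinset.mpr hQover)) hsz

theorem isN2_of_isNagata {R : Type u} [CommRing R] [IsDomain R] (hR : CAlg.IsNagata R) :
    CAlg.IsN2 R := by
  haveI := hR.1
  exact Groth.Agent.Helper7.TatePS.isN2_of_ringEquiv (RingEquiv.quotientBot R) (hR.2 ⊥)

theorem finite_integralClosure_of_isN2 {R : Type u} [CommRing R] [IsDomain R]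
    (hN2 : CAlg.IsN2 R) (K L : Type u) [Field K] [Field L] [Algebra R K] [IsFractionRing R K]
    [Algebra K L] [Algebra R L] [IsScalarTower R K L] [FiniteDimensional K L] :
    Module.Finite R (integralClosure R L) := by
  let e := FractionRing.algEquiv R K
  letI : Algebra (FractionRing R) L := ((algebraMap K L).comp e.toRingEquiv.toRingHom).toAlgebra
  haveI : IsScalarTower R (FractionRing R) L := IsScalarTower.of_algebraMap_eq (fun r => by
    show algebraMap R L r = algebraMap K L (e (algebraMap R (FractionRing R) r))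
    rw [AlgEquiv.commutes, ← IsScalarTower.algebraMap_apply])
  haveI : FiniteDimensional (FractionRing R) L := by
    refine Module.Finite.of_equiv_equiv (A₁ := K) (B₁ := L) e.symm.toRingEquiv (RingEquiv.refl L) ?_
    ext a
    show algebraMap K L (e (e.symm a)) = algebraMap K L a
    rw [AlgEquiv.apply_symm_apply]
  exact hN2 L inferInstance

/-- Scaling: if `c ^ n * s ∈ A` for `n` large (for each `s ∈ B`), then for every `z` integral
over `B`, some `c ^ N * z` is integral over `A`. -/
theorem exists_pow_mul_isIntegral {A B K' : Type*} [CommRing A] [CommRing B] [CommRing K']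
    [Algebra A B] [Algebra B K'] [Algebra A K'] [IsScalarTower A B K'] (c : A)
    (hc : ∀ s : B, ∃ k : ℕ, ∀ n, k ≤ n → algebraMap A B c ^ n * s ∈ (algebraMap A B).range)
    (z : K') (hz : IsIntegral B z) :
    ∃ N : ℕ, IsIntegral A (algebraMap A K' c ^ N * z) := by
  classical
  obtain ⟨P, hPm, hPz⟩ := hz
  choose k hk using hc
  obtain ⟨d, hd⟩ : ∃ d, d = P.natDegree := ⟨_, rfl⟩
  let N : ℕ := (Finset.range d).sup (fun i => k (P.coeff i))
  refine ⟨N, ?_⟩
  let P' : B[X] := scaleRoots P (algebraMap A B c ^ N)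
  have hP'm : P'.Monic := (monic_scaleRoots_iff _).mpr hPm
  have hP'l : P' ∈ lifts (algebraMap A B) := by
    rw [lifts_iff_coeff_lifts]
    intro i
    rw [coeff_scaleRoots, ← hd]
    rcases lt_trichotomy i d with hi | hi | hi
    · have h1 : k (P.coeff i) ≤ N * (d - i) := by
        have h2 : k (P.coeff i) ≤ N := Finset.le_sup (f := fun i => k (P.coeff i))
          (Finset.mem_range.mpr hi)
        have h3 : 1 ≤ d - i := Nat.sub_pos_of_lt hi
        calc k (P.coeff i) ≤ N := h2
          _ = N * 1 := (mul_one N).symm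
          _ ≤ N * (d - i) := Nat.mul_le_mul_left N h3
      rw [← pow_mul, mul_comm (P.coeff i)]
      exact hk (P.coeff i) _ h1
    · rw [hi, Nat.sub_self, pow_zero, mul_one, hd, hPm.coeff_natDegree]
      exact ⟨1, map_one _⟩
    · rw [coeff_eq_zero_of_natDegree_lt (hd ▸ hi), zero_mul]
      exact ⟨0, map_zero _⟩
  obtain ⟨P'', hP''map, -, hP''m⟩ := lifts_and_natDegree_eq_and_monic hP'l hP'm
  refine ⟨P'', hP''m, ?_⟩
  have h1 : aeval (algebraMap B K' (algebraMap A B c ^ N) * z) P' = 0 :=
    scaleRoots_aeval_eq_zero (by rw [aeval_def]; exact hPz)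
  rw [← hP''map, aeval_def, eval₂_map, ← IsScalarTower.algebraMap_eq, map_pow,
    ← IsScalarTower.algebraMap_apply] at h1
  exact h1

/-- For `S = R[x]` and `c ∈ R`: `c ^ n * s ∈ R[c x]` for `n` large. -/
theorem exists_pow_mul_mem_adjoin {R S : Type*} [CommRing R] [CommRing S] [Algebra R S]
    (x : S) (hx : Algebra.adjoin R {x} = ⊤) (c : R) (s : S) :
    ∃ k : ℕ, ∀ n, k ≤ n → algebraMap R S c ^ n * s ∈ Algebra.adjoin R {algebraMap R S c * x} := by
  have hs : s ∈ Algebra.adjoin R {x} := hx ▸ Algebra.mem_top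
  rw [Algebra.adjoin_singleton_eq_range_aeval] at hs
  obtain ⟨P, rfl⟩ := hs
  refine ⟨P.natDegree, fun n hn => ?_⟩
  rw [AlgHom.toRingHom_eq_coe, RingHom.coe_coe, aeval_eq_sum_range, Finset.mul_sum]
  refine Subalgebra.sum_mem _ fun j hj => ?_
  have hjn : j ≤ n := (Nat.lt_succ_iff.mp (Finset.mem_range.mp hj)).trans hn
  have h1 : algebraMap R S c ^ n * (P.coeff j • x ^ j) =
      algebraMap R S (P.coeff j * c ^ (n - j)) * (algebraMap R S c * x) ^ j := by
    rw [Algebra.smul_def, map_mul, map_pow, mul_pow]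
    have h2 : algebraMap R S c ^ n = algebraMap R S c ^ (n - j) * algebraMap R S c ^ j := by
      rw [← pow_add, Nat.sub_add_cancel hjn]
    rw [h2]
    ring
  rw [h1]
  exact Subalgebra.mul_mem _ (Subalgebra.algebraMap_mem _ _)
    (Subalgebra.pow_mem _ (Algebra.subset_adjoin (Set.mem_singleton _)) _)

/-- For a maximal ideal `m` of `S = R[x]`, some multiple `c x` (`c ∉ m`) is integral modulo `m`. -/
theorem exists_monic_aeval_mem {R S : Type u} [CommRing R] [CommRing S] [Algebra R S]
    (x : S) (hx : Algebra.adjoin R {x} = ⊤) (m : Ideal S) [hm : m.IsMaximal] :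
    ∃ (c : R) (f : R[X]), algebraMap R S c ∉ m ∧ f.Monic ∧
      aeval (algebraMap R S c * x) f ∈ m := by
  classical
  let n : Ideal R := m.comap (algebraMap R S)
  haveI : n.IsPrime := Ideal.comap_isPrime _ m
  let D := R ⧸ n
  let k := S ⧸ m
  letI : Field k := Ideal.Quotient.field m
  have hinj : Function.Injective (algebraMap D k) := Ideal.algebraMap_quotient_injective
  haveI : FaithfulSMul D k := (faithfulSMul_iff_algebraMap_injective D k).mpr hinj
  let F₀ := FractionRing D
  letI : Algebra F₀ k := FractionRing.liftAlgebra D k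
  haveI : IsScalarTower D F₀ k := FractionRing.isScalarTower_liftAlgebra D k
  let xb : k := Ideal.Quotient.mk m x
  have hmk : ∀ r : R, Ideal.Quotient.mk m (algebraMap R S r) =
      algebraMap D k (Ideal.Quotient.mk n r) := fun r => rfl
  have hadj : Algebra.adjoin F₀ {xb} = ⊤ := by
    rw [eq_top_iff]
    rintro y -
    obtain ⟨s, rfl⟩ := Ideal.Quotient.mk_surjective y
    have hs : s ∈ Algebra.adjoin R {x} := hx ▸ Algebra.mem_top
    induction hs using Algebra.adjoin_induction with
    | mem y hy =>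
      rw [Set.mem_singleton_iff] at hy
      rw [hy]
      exact Algebra.subset_adjoin (Set.mem_singleton _)
    | algebraMap r =>
      rw [hmk, IsScalarTower.algebraMap_apply D F₀ k]
      exact Subalgebra.algebraMap_mem _ _
    | add a b _ _ ha hb =>
      rw [map_add]
      exact Subalgebra.add_mem _ ha hb
    | mul a b _ _ ha hb =>
      rw [map_mul]
      exact Subalgebra.mul_mem _ ha hb
  haveI : Algebra.FiniteType F₀ k := ⟨⟨{xb}, by rw [Finset.coe_singleton]; exact hadj⟩⟩
  haveI : Module.Finite F₀ k := finite_of_finite_type_of_isJacobsonRing F₀ k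
  have hint : IsIntegral F₀ xb := Algebra.IsIntegral.isIntegral xb
  obtain ⟨⟨cb, hcb⟩, hc⟩ := IsIntegral.exists_multiple_integral_of_isLocalization
    (nonZeroDivisors D) xb hint
  obtain ⟨c, rfl⟩ := Ideal.Quotient.mk_surjective cb
  obtain ⟨g, hgm, hg⟩ := hc
  have hglift : g ∈ lifts (Ideal.Quotient.mk n) :=
    mem_lifts_of_surjective Ideal.Quotient.mk_surjective g
  obtain ⟨f, hfmap, -, hfm⟩ := lifts_and_natDegree_eq_and_monic hglift hgm
  refine ⟨c, f, ?_, hfm, ?_⟩
  · intro hcm
    have h1 : Ideal.Quotient.mk n c = 0 := Ideal.Quotient.eq_zero_iff_mem.mpr hcm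
    exact nonZeroDivisors.ne_zero hcb h1
  · rw [← Ideal.Quotient.eq_zero_iff_mem]
    have h1 : Ideal.Quotient.mk m (aeval (algebraMap R S c * x) f) =
        eval₂ (algebraMap D k) (Ideal.Quotient.mk n c • xb) g := by
      rw [← hfmap, eval₂_map, aeval_def, hom_eval₂]
      congr 1
      rw [map_mul, hmk, Algebra.smul_def]
    rw [h1]
    exact hg

section Structure
variable {R : Type u} [CommRing R] [IsDomain R]
  {K : Type u} [Field K] [Algebra R K] [IsFractionRing R K]
  {S : Type u} [CommRing S] [IsDomain S] [Algebra R S] [Algebra S K] [IsScalarTower R S K]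

theorem exists_add_mul (x : S) (hx : Algebra.adjoin R {x} = ⊤) (s : S) :
    ∃ (r : R) (s' : S), s = algebraMap R S r + x * s' := by
  have hs : s ∈ Algebra.adjoin R {x} := hx ▸ Algebra.mem_top
  induction hs using Algebra.adjoin_induction with
  | mem y hy =>
    rw [Set.mem_singleton_iff] at hy
    exact ⟨0, 1, by rw [hy, map_zero, zero_add, mul_one]⟩
  | algebraMap r => exact ⟨r, 0, by rw [mul_zero, add_zero]⟩
  | add a b _ _ ha hb =>
    obtain ⟨r₁, s₁, rfl⟩ := ha
    obtain ⟨r₂, s₂, rfl⟩ := hb
    exact ⟨r₁ + r₂, s₁ + s₂, by rw [map_add]; ring⟩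
  | mul a b _ _ ha hb =>
    obtain ⟨r₁, s₁, rfl⟩ := ha
    obtain ⟨r₂, s₂, rfl⟩ := hb
    exact ⟨r₁ * r₂, algebraMap R S r₁ * s₂ + s₁ * algebraMap R S r₂ + x * s₁ * s₂,
      by rw [map_mul]; ring⟩

theorem exists_aeval (x : S) (hx : Algebra.adjoin R {x} = ⊤) (s : S) :
    ∃ P : R[X], s = aeval x P := by
  have hs : s ∈ Algebra.adjoin R {x} := hx ▸ Algebra.mem_top
  rw [Algebra.adjoin_singleton_eq_range_aeval] at hs
  obtain ⟨P, hP⟩ := hs
  exact ⟨P, hP.symm⟩

theorem algebraMap_RS_injective (K : Type u) [Field K] [Algebra R K] [IsFractionRing R K]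
    [Algebra S K] [IsScalarTower R S K] :
    Function.Injective (algebraMap R S) := by
  intro a b hab
  apply IsFractionRing.injective R K
  rw [IsScalarTower.algebraMap_apply R S K, IsScalarTower.algebraMap_apply R S K, hab]

/-- Key use of normality: if `r = x * s` with `r ∈ R`, `s ∈ S = R[x]`, then `s ∈ R`. -/
theorem exists_eq_algebraMap_of_mul [IsIntegrallyClosed R]
    (hSK : Function.Injective (algebraMap S K))
    (x : S) (hx : Algebra.adjoin R {x} = ⊤) (hx0 : x ≠ 0) (r : R) (s : S)
    (h : algebraMap R S r = x * s) : ∃ r' : R, s = algebraMap R S r' := by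
  obtain ⟨P, hP⟩ := exists_aeval x hx s
  obtain ⟨u, hu⟩ : ∃ u, u = algebraMap S K s := ⟨_, rfl⟩
  obtain ⟨xK, hxK⟩ : ∃ xK, xK = algebraMap S K x := ⟨_, rfl⟩
  obtain ⟨rK, hrK⟩ : ∃ rK, rK = algebraMap R K r := ⟨_, rfl⟩
  have hxK0 : xK ≠ 0 := by
    rw [hxK, Ne, map_eq_zero_iff _ hSK]
    exact hx0
  have hrel : rK = xK * u := by
    rw [hrK, hxK, hu, ← map_mul, ← h, ← IsScalarTower.algebraMap_apply]
  have hint : IsIntegral R u := by
    by_cases hu0 : u = 0
    · rw [hu0]
      exact isIntegral_zero
    obtain ⟨k, hk⟩ : ∃ k, k = P.natDegree := ⟨_, rfl⟩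
    have hsum : u = ∑ i ∈ Finset.range (k + 1), algebraMap R K (P.coeff i) * xK ^ i := by
      rw [hu, hP, hk, aeval_eq_sum_range, map_sum]
      refine Finset.sum_congr rfl fun i _ => ?_
      rw [Algebra.smul_def, map_mul, map_pow, ← IsScalarTower.algebraMap_apply, hxK]
    have hxu : xK = rK / u := by
      rw [hrel, mul_div_assoc, div_self hu0, mul_one]
    let Q : R[X] := X ^ (k + 1) -
      ∑ i ∈ Finset.range (k + 1), C (P.coeff i * r ^ i) * X ^ (k - i)
    have hQm : Q.Monic := by
      apply monic_X_pow_sub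
      have hle : (∑ i ∈ Finset.range (k + 1), C (P.coeff i * r ^ i) * X ^ (k - i) : R[X]).degree
          ≤ (k : WithBot ℕ) := by
        refine le_trans (degree_sum_le (Finset.range (k + 1))
          (fun i => C (P.coeff i * r ^ i) * X ^ (k - i))) ?_
        rw [Finset.sup_le_iff]
        intro i hi
        calc (C (P.coeff i * r ^ i) * X ^ (k - i) : R[X]).degree
            ≤ ((k - i : ℕ) : WithBot ℕ) := degree_C_mul_X_pow_le _ _
          _ ≤ (k : WithBot ℕ) := by exact_mod_cast Nat.sub_le k i
      exact lt_of_le_of_lt hle (by exact_mod_cast Nat.lt_succ_self k)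
    refine ⟨Q, hQm, ?_⟩
    rw [← aeval_def]
    simp only [Q, map_sub, map_pow, aeval_X, map_sum, map_mul, aeval_C]
    rw [sub_eq_zero, pow_succ]
    have h2 : u ^ k * u = u ^ k *
        ∑ i ∈ Finset.range (k + 1), algebraMap R K (P.coeff i) * xK ^ i := by rw [← hsum]
    rw [h2, Finset.mul_sum]
    refine Finset.sum_congr rfl fun i hi => ?_
    have hik : i ≤ k := Nat.lt_succ_iff.mp (Finset.mem_range.mp hi)
    rw [hxu, div_pow, ← hrK]
    have h1 : u ^ k = u ^ (k - i) * u ^ i := by rw [← pow_add, Nat.sub_add_cancel hik]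
    rw [h1]
    have hui : u ^ i ≠ 0 := pow_ne_zero _ hu0
    field_simp
  obtain ⟨r', hr'⟩ := IsIntegrallyClosed.isIntegral_iff.mp hint
  refine ⟨r', hSK ?_⟩
  rw [← hu, ← hr', ← IsScalarTower.algebraMap_apply]

theorem exists_num_denom (hSK : Function.Injective (algebraMap S K)) (x : S) (hx0 : x ≠ 0) :
    ∃ a b : R, a ≠ 0 ∧ b ≠ 0 ∧ algebraMap R S a * x = algebraMap R S b := by
  obtain ⟨b, a, ha, hab⟩ := IsFractionRing.div_surjective (A := R) (algebraMap S K x)
  have ha0 : a ≠ 0 := nonZeroDivisors.ne_zero ha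
  have haK : algebraMap R K a ≠ 0 := by
    rw [Ne, map_eq_zero_iff _ (IsFractionRing.injective R K)]
    exact ha0
  have hrel : algebraMap R S a * x = algebraMap R S b := by
    apply hSK
    rw [map_mul, ← hab, ← IsScalarTower.algebraMap_apply, ← IsScalarTower.algebraMap_apply,
      mul_div_cancel₀ _ haK]
  refine ⟨a, b, ha0, ?_, hrel⟩
  rintro rfl
  rw [map_zero] at hrel
  rcases mul_eq_zero.mp hrel with h | h
  · exact ha0 ((algebraMap_RS_injective K) (by rw [h, map_zero]))
  · exact hx0 h

/-- For an associated prime `Q` of `S/xS`, the contraction to `R` is a minimal prime of `bR`. -/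
theorem comap_mem_minimalPrimes [IsIntegrallyClosed R] [IsNoetherianRing R] [IsNoetherianRing S]
    (hSK : Function.Injective (algebraMap S K))
    (x : S) (hx : Algebra.adjoin R {x} = ⊤) (hx0 : x ≠ 0)
    (a b : R) (ha : a ≠ 0) (hb : b ≠ 0) (hab : algebraMap R S a * x = algebraMap R S b)
    (Q : Ideal S) (hQ : Q ∈ associatedPrimes S (S ⧸ Ideal.span {x})) :
    Q.comap (algebraMap R S) ∈ (Ideal.span {b}).minimalPrimes := by
  have hinj : Function.Injective (algebraMap R S) := algebraMap_RS_injective K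
  obtain ⟨hQprime, z, hz⟩ := (isAssociatedPrime_iff).mp hQ
  obtain ⟨s₀, rfl⟩ := Ideal.Quotient.mk_surjective z
  have hQmem : ∀ s : S, s ∈ Q ↔ s * s₀ ∈ Ideal.span {x} := by
    intro s
    rw [hz, Submodule.mem_colon_singleton, Submodule.mem_bot]
    rw [← Ideal.Quotient.eq_zero_iff_mem, map_mul]
    rfl
  obtain ⟨r₀, s', hs₀⟩ := exists_add_mul x hx s₀
  haveI := hQprime
  haveI : (Q.comap (algebraMap R S)).IsPrime := Ideal.comap_isPrime _ Q
  apply (Groth.Agent.Helper7.NagAU.normal_hyps R b hb).1
  rw [AssociatedPrimes.mem_iff, isAssociatedPrime_iff]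
  refine ⟨inferInstance, Ideal.Quotient.mk _ (a * r₀), ?_⟩
  ext r
  rw [Ideal.mem_comap, hQmem, Submodule.mem_colon_singleton, Submodule.mem_bot]
  have h1 : r • (Ideal.Quotient.mk (Ideal.span {b}) (a * r₀)) = 0 ↔
      r * (a * r₀) ∈ Ideal.span {b} := by
    rw [← Ideal.Quotient.eq_zero_iff_mem, map_mul]
    rfl
  rw [h1, Ideal.mem_span_singleton', Ideal.mem_span_singleton']
  constructor
  · rintro ⟨s'', hs''⟩
    -- alg r * s₀ = s'' * x
    have h2 : algebraMap R S (r * r₀) = x * (s'' - algebraMap R S r * s') := by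
      rw [map_mul, mul_sub, mul_comm x s'', hs'', hs₀]
      ring
    obtain ⟨r', hr'⟩ := exists_eq_algebraMap_of_mul hSK x hx hx0 _ _ h2
    refine ⟨r', ?_⟩
    apply hinj
    rw [map_mul, ← hab, mul_comm (algebraMap R S r'), mul_assoc, ← hr', ← h2]
    simp only [map_mul]
    ring
  · rintro ⟨r', hr'⟩
    -- r' * b = r * (a * r₀)
    refine ⟨algebraMap R S r' + algebraMap R S r * s', ?_⟩
    have haS : algebraMap R S a ≠ 0 := by
      rw [Ne, map_eq_zero_iff _ hinj]
      exact ha
    apply mul_left_cancel₀ haS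
    have h3 := congrArg (algebraMap R S) hr'
    simp only [map_mul] at h3
    rw [hs₀]
    calc algebraMap R S a * ((algebraMap R S r' + algebraMap R S r * s') * x)
        = algebraMap R S r' * (algebraMap R S a * x) +
          algebraMap R S a * (algebraMap R S r * (x * s')) := by ring
      _ = algebraMap R S r' * algebraMap R S b +
          algebraMap R S a * (algebraMap R S r * (x * s')) := by rw [hab]
      _ = algebraMap R S r * (algebraMap R S a * algebraMap R S r₀) +
          algebraMap R S a * (algebraMap R S r * (x * s')) := by rw [h3]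
      _ = algebraMap R S a * (algebraMap R S r * (algebraMap R S r₀ + x * s')) := by ring

theorem span_le_of_mem_associatedPrimes [IsNoetherianRing S] (x : S) (Q : Ideal S)
    (hQ : Q ∈ associatedPrimes S (S ⧸ Ideal.span {x})) : Ideal.span {x} ≤ Q := by
  have h1 := IsAssociatedPrime.annihilator_le hQ
  rwa [Submodule.annihilator_top, Ideal.annihilator_quotient] at h1

theorem assPrimes_subset_minimalPrimes [IsIntegrallyClosed R] [IsNoetherianRing R]
    [IsNoetherianRing S] (hSK : Function.Injective (algebraMap S K))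
    (x : S) (hx : Algebra.adjoin R {x} = ⊤) (hx0 : x ≠ 0) :
    associatedPrimes S (S ⧸ Ideal.span {x}) ⊆ (Ideal.span {x}).minimalPrimes := by
  obtain ⟨a, b, ha, hb, hab⟩ := exists_num_denom (R := R) hSK x hx0
  intro Q hQ
  have hp := comap_mem_minimalPrimes hSK x hx hx0 a b ha hb hab Q hQ
  have hQprime : Q.IsPrime := hQ.isPrime
  have hxQ : Ideal.span {x} ≤ Q := span_le_of_mem_associatedPrimes x Q hQ
  refine ⟨⟨hQprime, hxQ⟩, ?_⟩
  rintro Q' ⟨hQ'prime, hxQ'⟩ hle
  intro s hs
  obtain ⟨r, s', rfl⟩ := exists_add_mul x hx s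
  have hxs : x * s' ∈ Q := Q.mul_mem_right _ (hxQ (Ideal.mem_span_singleton_self x))
  have hr : algebraMap R S r ∈ Q := (Ideal.add_mem_iff_left Q hxs).mp hs
  have hbQ' : b ∈ Q'.comap (algebraMap R S) := by
    rw [Ideal.mem_comap, ← hab]
    exact Q'.mul_mem_left _ (hxQ' (Ideal.mem_span_singleton_self x))
  haveI := hQ'prime
  have hle' : Q.comap (algebraMap R S) ≤ Q'.comap (algebraMap R S) :=
    hp.2 ⟨Ideal.comap_isPrime _ Q', by
      rw [Ideal.span_le, Set.singleton_subset_iff]; exact hbQ'⟩ (Ideal.comap_mono hle)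
  have h2 : algebraMap R S r ∈ Q' := hle' hr
  exact Q'.add_mem h2 (Q'.mul_mem_right _ (hxQ' (Ideal.mem_span_singleton_self x)))

theorem isDVR_atPrime_of_minimal [IsIntegrallyClosed R] [IsNoetherianRing R]
    [IsNoetherianRing S] (hSK : Function.Injective (algebraMap S K))
    (x : S) (hx : Algebra.adjoin R {x} = ⊤) (hx0 : x ≠ 0)
    (Q : Ideal S) [Q.IsPrime] (hQ : Q ∈ (Ideal.span {x}).minimalPrimes) :
    ∃ (_ : IsDomain (Localization.AtPrime Q)),
      IsDiscreteValuationRing (Localization.AtPrime Q) := by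
  obtain ⟨a, b, ha, hb, hab⟩ := exists_num_denom (R := R) hSK x hx0
  have hinj : Function.Injective (algebraMap R S) := algebraMap_RS_injective K
  have hQass : Q ∈ associatedPrimes S (S ⧸ Ideal.span {x}) := by
    apply Module.associatedPrimes.minimalPrimes_annihilator_subset_associatedPrimes S
    rw [Ideal.annihilator_quotient]
    exact hQ
  have hp := comap_mem_minimalPrimes hSK x hx hx0 a b ha hb hab Q hQass
  have hxQ : Ideal.span {x} ≤ Q := hQ.1.2
  obtain ⟨p, hpdef⟩ : ∃ p, p = Q.comap (algebraMap R S) := ⟨_, rfl⟩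
  rw [← hpdef] at hp
  haveI hpprime : p.IsPrime := hpdef ▸ Ideal.comap_isPrime _ Q
  obtain ⟨hdom, hdvr⟩ := (Groth.Agent.Helper7.NagAU.normal_hyps R b hb).2 p hp
  have hmemp : ∀ r : R, r ∈ p ↔ algebraMap R S r ∈ Q := fun r => by rw [hpdef, Ideal.mem_comap]
  have hinjloc : Function.Injective (algebraMap R (Localization.AtPrime p)) :=
    IsLocalization.injective _ p.primeCompl_le_nonZeroDivisors
  -- uniformizer
  obtain ⟨ϖ, hϖ⟩ := IsDiscreteValuationRing.exists_irreducible (Localization.AtPrime p)
  have hmax : maximalIdeal (Localization.AtPrime p) = Ideal.span {ϖ} := hϖ.maximalIdeal_eq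
  obtain ⟨π₀, t₀, hϖeq⟩ := IsLocalization.exists_mk'_eq p.primeCompl ϖ
  have hπϖ : algebraMap R (Localization.AtPrime p) π₀ = ϖ * algebraMap R _ (t₀ : R) := by
    rw [← hϖeq, IsLocalization.mk'_spec]
  have ht₀unit : IsUnit (algebraMap R (Localization.AtPrime p) (t₀ : R)) :=
    IsLocalization.map_units _ t₀
  have hmax' : maximalIdeal (Localization.AtPrime p) =
      Ideal.span {algebraMap R (Localization.AtPrime p) π₀} := by
    rw [hmax, hπϖ]
    exact (Ideal.span_singleton_mul_right_unit ht₀unit ϖ).symm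
  have hπ₀p : π₀ ∈ p := by
    rw [← IsLocalization.AtPrime.to_map_mem_maximal_iff (Localization.AtPrime p) p, hmax']
    exact Ideal.mem_span_singleton_self _
  have hπ₀0 : π₀ ≠ 0 := by
    rintro rfl
    rw [map_zero] at hπϖ
    rcases mul_eq_zero.mp hπϖ.symm with h | h
    · exact hϖ.ne_zero h
    · exact ht₀unit.ne_zero h
  -- (c2)
  have hc2 : ∀ r ∈ p, ∃ r₁ t₁ : R, t₁ ∉ p ∧ t₁ * r = π₀ * r₁ := by
    intro r hr
    have h1 : algebraMap R (Localization.AtPrime p) r ∈ maximalIdeal (Localization.AtPrime p) :=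
      (IsLocalization.AtPrime.to_map_mem_maximal_iff (Localization.AtPrime p) p r).mpr hr
    rw [hmax', Ideal.mem_span_singleton'] at h1
    obtain ⟨y, hy⟩ := h1
    obtain ⟨r₁, t₁, rfl⟩ := IsLocalization.exists_mk'_eq p.primeCompl y
    refine ⟨r₁, t₁, t₁.2, ?_⟩
    apply hinjloc
    rw [map_mul, map_mul, ← hy, mul_comm (IsLocalization.mk' _ r₁ t₁), mul_comm, mul_assoc,
      mul_comm _ (algebraMap R _ (t₁ : R)), IsLocalization.mk'_spec']
  -- (c3)
  have hc3 : ∃ t r : R, t ∉ p ∧ r ∈ p ∧ x * algebraMap R S t = algebraMap R S r := by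
    have haS : algebraMap R S a ≠ 0 := by
      rw [Ne, map_eq_zero_iff _ hinj]; exact ha
    obtain ⟨c, hc⟩ := ValuationRing.cond (algebraMap R (Localization.AtPrime p) a)
      (algebraMap R (Localization.AtPrime p) b)
    obtain ⟨r, t, rfl⟩ := IsLocalization.exists_mk'_eq p.primeCompl c
    rcases hc with hc | hc
    · have h1 : a * r = b * t := by
        apply hinjloc
        rw [map_mul, map_mul, ← hc, mul_assoc, IsLocalization.mk'_spec]
      have h2 : x * algebraMap R S t = algebraMap R S r := by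
        apply mul_left_cancel₀ haS
        rw [← mul_assoc, hab, ← map_mul, ← map_mul, h1]
      refine ⟨t, r, t.2, ?_, h2⟩
      rw [hmemp, ← h2]
      exact Q.mul_mem_right _ (hxQ (Ideal.mem_span_singleton_self x))
    · exfalso
      have h1 : b * r = a * t := by
        apply hinjloc
        rw [map_mul, map_mul, ← hc, mul_assoc, IsLocalization.mk'_spec]
      have h2 : x * algebraMap R S r = algebraMap R S t := by
        apply mul_left_cancel₀ haS
        rw [← mul_assoc, hab, ← map_mul, ← map_mul, h1]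
      apply t.2
      rw [SetLike.mem_coe, hmemp, ← h2]
      exact Q.mul_mem_right _ (hxQ (Ideal.mem_span_singleton_self x))
  obtain ⟨t, r, htp, hrp, hxt⟩ := hc3
  -- principal maximal ideal of S_Q
  let π' : Localization.AtPrime Q := algebraMap S _ (algebraMap R S π₀)
  have hunit : ∀ t : R, t ∉ p → IsUnit (algebraMap S (Localization.AtPrime Q) (algebraMap R S t)) := by
    intro t ht
    exact IsLocalization.map_units (Localization.AtPrime Q)
      (⟨algebraMap R S t, fun h => ht ((hmemp t).mpr h)⟩ : Q.primeCompl)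
  have hRmem : ∀ r ∈ p, algebraMap S (Localization.AtPrime Q) (algebraMap R S r) ∈
      Ideal.span {π'} := by
    intro r hr
    obtain ⟨r₁, t₁, ht₁, h1⟩ := hc2 r hr
    rw [← Ideal.unit_mul_mem_iff_mem _ (hunit t₁ ht₁), ← map_mul, ← map_mul, h1, map_mul, map_mul]
    exact Ideal.mul_mem_right _ _ (Ideal.mem_span_singleton_self _)
  have hxmem : algebraMap S (Localization.AtPrime Q) x ∈ Ideal.span {π'} := by
    rw [← Ideal.mul_unit_mem_iff_mem _ (hunit t htp), ← map_mul, hxt]
    exact hRmem r hrp
  have hmaxQ : maximalIdeal (Localization.AtPrime Q) = Ideal.span {π'} := by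
    rw [← Localization.AtPrime.map_eq_maximalIdeal]
    apply le_antisymm
    · rw [Ideal.map_le_iff_le_comap]
      intro s hs
      obtain ⟨r₀, s', rfl⟩ := exists_add_mul x hx s
      have hxs : x * s' ∈ Q := Q.mul_mem_right _ (hxQ (Ideal.mem_span_singleton_self x))
      have hr₀ : algebraMap R S r₀ ∈ Q := (Ideal.add_mem_iff_left Q hxs).mp hs
      rw [Ideal.mem_comap, map_add, map_mul]
      exact Ideal.add_mem _ (hRmem r₀ ((hmemp r₀).mpr hr₀)) (Ideal.mul_mem_right _ _ hxmem)
    · rw [Ideal.span_le, Set.singleton_subset_iff]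
      exact Ideal.mem_map_of_mem _ ((hmemp π₀).mp hπ₀p)
  have hreg : π' ∈ nonZeroDivisors (Localization.AtPrime Q) := by
    apply mem_nonZeroDivisors_of_ne_zero
    intro h0
    have h1 : algebraMap S (Localization.AtPrime Q) (algebraMap R S π₀) = 0 := h0
    rw [map_eq_zero_iff _ (IsLocalization.injective _ Q.primeCompl_le_nonZeroDivisors),
      map_eq_zero_iff _ hinj] at h1
    exact hπ₀0 h1
  exact Groth.Agent.Helper7.Zariski2.isDVR_of_principal_maximal (Localization.AtPrime Q) π'
    hmaxQ hreg

theorem isReduced_cpl_quotient_of_mem (hR : CAlg.IsNagata R) [IsNoetherianRing S]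
    (x : S) (hx : Algebra.adjoin R {x} = ⊤)
    (m : Ideal S) [m.IsPrime] (Q : Ideal S) [Q.IsPrime] (hxQ : x ∈ Q) :
    IsReduced (EGA4.Cpl (Localization.AtPrime m) ⧸
      (Q.map (algebraMap S (Localization.AtPrime m))).map
        (algebraMap (Localization.AtPrime m) (EGA4.Cpl (Localization.AtPrime m)))) := by
  by_cases hQm : Q ≤ m
  · have hdisj : Disjoint (m.primeCompl : Set S) (Q : Set S) := by
      rw [Set.disjoint_left]
      intro s hs hsQ
      exact hs (hQm hsQ)
    haveI hqprime : (Q.map (algebraMap S (Localization.AtPrime m))).IsPrime :=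
      IsLocalization.isPrime_of_isPrime_disjoint m.primeCompl _ Q inferInstance hdisj
    haveI : Nontrivial (Localization.AtPrime m ⧸ Q.map (algebraMap S (Localization.AtPrime m))) :=
      Ideal.Quotient.nontrivial_iff.mpr hqprime.ne_top
    apply Groth.Agent.Helper7.Zariski.isReduced_cpl_quotient
    -- S/Q is a finite R-algebra
    have hsurj : Function.Surjective (Algebra.linearMap R (S ⧸ Q)) := by
      intro z
      obtain ⟨s, rfl⟩ := Ideal.Quotient.mk_surjective z
      obtain ⟨r, s', rfl⟩ := exists_add_mul x hx s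
      refine ⟨r, ?_⟩
      rw [Algebra.linearMap_apply, IsScalarTower.algebraMap_apply R S (S ⧸ Q),
        Ideal.Quotient.algebraMap_eq, eq_comm, ← sub_eq_zero, ← map_sub,
        Ideal.Quotient.eq_zero_iff_mem, add_sub_cancel_left]
      exact Q.mul_mem_right _ hxQ
    haveI : Module.Finite R (S ⧸ Q) := Module.Finite.of_surjective _ hsurj
    have hNag : CAlg.IsNagata (S ⧸ Q) := Groth.Agent.Helper7.NagAU2.isNagata_of_finite R hR _
    have hNagLoc := Groth.Agent.Helper7.NagLoc.main (S ⧸ Q) hNag
      (Algebra.algebraMapSubmonoid (S ⧸ Q) m.primeCompl)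
    let e := IsLocalization.algEquiv (Algebra.algebraMapSubmonoid (S ⧸ Q) m.primeCompl)
      (Localization (Algebra.algebraMapSubmonoid (S ⧸ Q) m.primeCompl))
      (Localization.AtPrime m ⧸ Q.map (algebraMap S (Localization.AtPrime m)))
    have hNag' : CAlg.IsNagata
        (Localization.AtPrime m ⧸ Q.map (algebraMap S (Localization.AtPrime m))) :=
      isNagata_of_ringEquiv e.toRingEquiv hNagLoc
    exact Groth.Agent.Helper7.NagAU.s0576 _ hNag'
  · obtain ⟨s, hsQ, hsm⟩ := Set.not_subset.mp hQm
    have hunit : IsUnit (algebraMap S (Localization.AtPrime m) s) :=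
      IsLocalization.map_units (Localization.AtPrime m) (⟨s, hsm⟩ : m.primeCompl)
    have htop : (Q.map (algebraMap S (Localization.AtPrime m))).map
        (algebraMap (Localization.AtPrime m) (EGA4.Cpl (Localization.AtPrime m))) = ⊤ := by
      apply Ideal.eq_top_of_isUnit_mem _ _
        (hunit.map (algebraMap (Localization.AtPrime m) (EGA4.Cpl (Localization.AtPrime m))))
      exact Ideal.mem_map_of_mem _ (Ideal.mem_map_of_mem _ hsQ)
    haveI : Subsingleton (EGA4.Cpl (Localization.AtPrime m) ⧸
        (Q.map (algebraMap S (Localization.AtPrime m))).map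
        (algebraMap (Localization.AtPrime m) (EGA4.Cpl (Localization.AtPrime m)))) :=
      Ideal.Quotient.subsingleton_iff.mpr htop
    exact isReduced_of_subsingleton

theorem isFractionRing_of_tower (R : Type u) [CommRing R] [IsDomain R]
    {K : Type u} [Field K] [Algebra R K] [IsFractionRing R K]
    {S : Type u} [CommRing S] [IsDomain S] [Algebra R S] [Algebra S K] [IsScalarTower R S K]
    (hSK : Function.Injective (algebraMap S K)) :
    IsFractionRing S K := by
  haveI : FaithfulSMul S K := (faithfulSMul_iff_algebraMap_injective S K).mpr hSK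
  refine IsFractionRing.of_field S K (fun z => ?_)
  obtain ⟨b, a, _, rfl⟩ := IsFractionRing.div_surjective (A := R) z
  exact ⟨algebraMap R S b, algebraMap R S a, by
    rw [← IsScalarTower.algebraMap_apply, ← IsScalarTower.algebraMap_apply]⟩

theorem core [IsIntegrallyClosed R] (hR : CAlg.IsNagata R) [IsNoetherianRing S]
    (hSK : Function.Injective (algebraMap S K))
    (x : S) (hx : Algebra.adjoin R {x} = ⊤) (m : Ideal S) [m.IsPrime] (hxm : x ∈ m) :
    LF S K m := by
  haveI := hR.1
  by_cases hx0 : x = 0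
  · subst hx0
    have hsurj : Function.Surjective (algebraMap R S) := by
      intro s
      obtain ⟨r, s', rfl⟩ := exists_add_mul (0 : S) hx s
      exact ⟨r, by rw [zero_mul, add_zero]⟩
    refine ⟨⊥, Subalgebra.finite_bot, bot_le, fun z hz => ⟨1, ?_, ?_⟩⟩
    · intro h1
      exact (inferInstance : m.IsPrime).ne_top ((Ideal.eq_top_iff_one m).mpr h1)
    · rw [one_smul]
      haveI : Algebra.IsIntegral R S :=
        Algebra.IsIntegral.of_surjective (Algebra.ofId R S) hsurj
      have hzR : IsIntegral R z := isIntegral_trans z hz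
      obtain ⟨r, hr⟩ := IsIntegrallyClosed.isIntegral_iff.mp hzR
      rw [← hr, IsScalarTower.algebraMap_apply R S K]
      exact Subalgebra.algebraMap_mem _ _
  · let Sm := Localization.AtPrime m
    let B := EGA4.Cpl Sm
    haveI : IsScalarTower S Sm B := IsScalarTower.of_algebraMap_eq (fun _ => rfl)
    haveI : Module.Flat S B := Module.Flat.trans S Sm B
    have hredB : IsReduced B := by
      refine Groth.Agent.Helper7.Zariski.zariski_abstract (A := S) (B := B) x
        (mem_nonZeroDivisors_of_ne_zero hx0) ?_ (assPrimes_subset_minimalPrimes hSK x hx hx0)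
        (fun Q _ hQ => isDVR_atPrime_of_minimal hSK x hx hx0 Q hQ) ?_
      · rw [IsLocalRing.jacobson_eq_maximalIdeal ⊥ bot_ne_top]
        show algebraMap Sm B (algebraMap S Sm x) ∈ _
        apply map_nonunit (algebraMap Sm B)
        exact (IsLocalization.AtPrime.to_map_mem_maximal_iff Sm m x).mpr hxm
      · intro Q _ hQ
        have h1 : Q.map (algebraMap S B) =
            (Q.map (algebraMap S Sm)).map (algebraMap Sm B) := by
          rw [Ideal.map_map]
          rfl
        rw [h1]
        exact isReduced_cpl_quotient_of_mem hR x hx m Q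
          (hQ.1.2 (Ideal.mem_span_singleton_self x))
    have hunits : ∀ y : m.primeCompl, IsUnit (algebraMap S K y) := fun y => by
      rw [isUnit_iff_ne_zero, Ne, map_eq_zero_iff _ hSK]
      intro h
      exact y.2 (h ▸ m.zero_mem)
    letI : Algebra Sm K := (IsLocalization.lift (M := m.primeCompl) hunits).toAlgebra
    haveI : IsScalarTower S Sm K :=
      IsScalarTower.of_algebraMap_eq (fun s => (IsLocalization.lift_eq hunits s).symm)
    haveI : IsFractionRing S K := isFractionRing_of_tower R hSK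
    haveI : IsFractionRing Sm K :=
      IsFractionRing.isFractionRing_of_isDomain_of_isLocalization m.primeCompl Sm K
    have hfin : Module.Finite Sm (integralClosure Sm K) :=
      Groth.Agent.Helper7.NagAU2.finite_integralClosure_of_isFractionRing Sm K hredB
    obtain ⟨C, hCfin, hCle, hC⟩ :=
      Groth.Agent.Helper7.QENag.exists_local_piece (B := S) (R := Sm) (L := K) m.primeCompl hfin
    exact ⟨C, hCfin, hCle, fun z hz => by
      obtain ⟨s, hs, hsz⟩ := hC z hz
      exact ⟨s, hs, hsz⟩⟩

theorem LF_of_monic [IsIntegrallyClosed R] (hR : CAlg.IsNagata R) [IsNoetherianRing S]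
    (hSK : Function.Injective (algebraMap S K))
    (x : S) (hx : Algebra.adjoin R {x} = ⊤) (m : Ideal S) [m.IsPrime]
    (f : R[X]) (hf : f.Monic) (hfm : aeval x f ∈ m) : LF S K m := by
  classical
  haveI := hR.1
  let K'' := (f.map (algebraMap R K)).SplittingField
  haveI : IsScalarTower R S K'' := IsScalarTower.of_algebraMap_eq (fun r => by
    rw [IsScalarTower.algebraMap_apply R K K'', IsScalarTower.algebraMap_apply S K K'',
      ← IsScalarTower.algebraMap_apply R S K])
  apply LF_down (K'' := K'') m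
  let R' := integralClosure R K''
  have hN2 : CAlg.IsN2 R := isN2_of_isNagata hR
  haveI : Module.Finite R R' := finite_integralClosure_of_isN2 hN2 K K''
  haveI : IsIntegrallyClosed R' := integralClosure.isIntegrallyClosedOfFiniteExtension K
  haveI : IsFractionRing R' K'' := integralClosure.isFractionRing_of_finite_extension K K''
  have hR' : CAlg.IsNagata R' := Groth.Agent.Helper7.NagAU2.isNagata_of_finite R hR R'
  let Φ : S ⊗[R] R' →ₐ[S] K'' :=
    Algebra.TensorProduct.productLeftAlgHom (Algebra.ofId S K'') R'.val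
  let S' : Subalgebra S K'' := Φ.range
  haveI : Module.Finite S S' := by
    haveI : Module.Finite S (S ⊗[R] R') := Module.Finite.base_change R S R'
    exact Module.Finite.range Φ.toLinearMap
  haveI : IsNoetherianRing S' := Algebra.FiniteType.isNoetherianRing S S'
  have hΦ : ∀ (s : S) (r' : R'), Φ (s ⊗ₜ r') = algebraMap S K'' s * (r' : K'') := by
    intro s r'
    simp [Φ]
  have hR'S' : ∀ r' : R', (r' : K'') ∈ S' := fun r' => ⟨1 ⊗ₜ r', by
    rw [AlgHom.toRingHom_eq_coe, RingHom.coe_coe, hΦ, map_one, one_mul]⟩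
  let ρ : R' →+* S' := (R'.val.toRingHom).codRestrict S' hR'S'
  letI : Algebra R' S' := ρ.toAlgebra
  haveI : IsScalarTower R' S' K'' := IsScalarTower.of_algebraMap_eq (fun _ => rfl)
  have hS'K : Function.Injective (algebraMap S' K'') := Subtype.val_injective
  let x' : S' := algebraMap S S' x
  have hSmem : ∀ s : S, algebraMap S S' s ∈ Algebra.adjoin R' {x'} := by
    intro s
    have hs : s ∈ Algebra.adjoin R {x} := hx ▸ Algebra.mem_top
    induction hs using Algebra.adjoin_induction with
    | mem y hy =>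
      rw [Set.mem_singleton_iff.mp hy]
      exact Algebra.subset_adjoin (Set.mem_singleton _)
    | algebraMap r =>
      have h1 : algebraMap S S' (algebraMap R S r) = algebraMap R' S' (algebraMap R R' r) := by
        apply hS'K
        rw [← IsScalarTower.algebraMap_apply S S' K'', ← IsScalarTower.algebraMap_apply R' S' K'',
          ← IsScalarTower.algebraMap_apply R S K'']
        rfl
      rw [h1]
      exact Subalgebra.algebraMap_mem _ _
    | add a b _ _ ha hb =>
      rw [map_add]
      exact Subalgebra.add_mem _ ha hb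
    | mul a b _ _ ha hb =>
      rw [map_mul]
      exact Subalgebra.mul_mem _ ha hb
  have hx'adj : Algebra.adjoin R' {x'} = ⊤ := by
    rw [eq_top_iff]
    rintro ⟨y₀, t, ht⟩ -
    have key : ∀ t : S ⊗[R] R', ∃ y ∈ Algebra.adjoin R' {x'}, ((y : S') : K'') = Φ t := by
      intro t
      induction t using TensorProduct.induction_on with
      | zero => exact ⟨0, Subalgebra.zero_mem _, by rw [map_zero]; rfl⟩
      | tmul s r' =>
        refine ⟨algebraMap S S' s * algebraMap R' S' r',
          Subalgebra.mul_mem _ (hSmem s) (Subalgebra.algebraMap_mem _ _), ?_⟩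
        rw [hΦ]
        rfl
      | add a b ha hb =>
        obtain ⟨ya, hya, hya'⟩ := ha
        obtain ⟨yb, hyb, hyb'⟩ := hb
        refine ⟨ya + yb, Subalgebra.add_mem _ hya hyb, ?_⟩
        rw [map_add, ← hya', ← hyb']
        rfl
    obtain ⟨y, hy, hy'⟩ := key t
    have : y = ⟨y₀, t, ht⟩ := Subtype.ext (hy'.trans ht)
    rw [← this]
    exact hy
  apply LF_goingUp (A' := S') m
  intro m' hm'prime hm'm
  haveI := hm'prime
  -- roots
  let f'' : K''[X] := f.map (algebraMap R K'')
  have hsplit : f''.Splits := by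
    have h1 := Polynomial.SplittingField.splits (f.map (algebraMap R K))
    rwa [Polynomial.map_map, ← IsScalarTower.algebraMap_eq] at h1
  have hf''m : f''.Monic := hf.map _
  have heval : f''.eval (algebraMap S K'' x) =
      (f''.roots.map (algebraMap S K'' x - ·)).prod :=
    hsplit.eval_eq_prod_roots_of_monic hf''m _
  have hevalx : f''.eval (algebraMap S K'' x) = algebraMap S K'' (aeval x f) := by
    rw [eval_map, ← aeval_def, aeval_algebraMap_apply]
  have hroot_int : ∀ α ∈ f''.roots, IsIntegral R α := fun α hα => by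
    refine ⟨f, hf, ?_⟩
    rw [← eval_map]
    exact (mem_roots hf''m.ne_zero).mp hα
  have hroot_mem : ∀ α ∈ f''.roots, algebraMap S K'' x - α ∈ S' := fun α hα =>
    S'.sub_mem (S'.algebraMap_mem x) (hR'S' ⟨α, hroot_int α hα⟩)
  let M' : Multiset S' := f''.roots.pmap
    (fun α hα => (⟨algebraMap S K'' x - α, hroot_mem α hα⟩ : S')) (fun α hα => hα)
  have hM'prod : M'.prod = algebraMap S S' (aeval x f) := by
    apply hS'K
    have h1 : algebraMap S' K'' M'.prod = (M'.map (algebraMap S' K'')).prod :=
      map_multiset_prod _ _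
    rw [h1, ← IsScalarTower.algebraMap_apply S S' K'', ← hevalx, heval]
    congr 1
    rw [Multiset.map_pmap]
    exact Multiset.pmap_eq_map _ _ _ _
  have hM'mem : M'.prod ∈ m' := by
    rw [hM'prod]
    have h2 : aeval x f ∈ m'.comap (algebraMap S S') := by rw [hm'm]; exact hfm
    exact h2
  obtain ⟨y, hyM', hym'⟩ := (hm'prime.multiset_prod_mem_iff_exists_mem M').mp hM'mem
  obtain ⟨α, hα, rfl⟩ := Multiset.mem_pmap.mp hyM'
  let αR' : R' := ⟨α, hroot_int α hα⟩
  have hx₂ : (⟨algebraMap S K'' x - α, hroot_mem α hα⟩ : S') = x' - algebraMap R' S' αR' :=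
    Subtype.ext rfl
  rw [hx₂] at hym'
  have hx₂adj : Algebra.adjoin R' {x' - algebraMap R' S' αR'} = ⊤ := by
    rw [eq_top_iff, ← hx'adj]
    apply Algebra.adjoin_le
    rw [Set.singleton_subset_iff]
    have h4 : (x' - algebraMap R' S' αR') + algebraMap R' S' αR' ∈
        Algebra.adjoin R' {x' - algebraMap R' S' αR'} :=
      Subalgebra.add_mem _ (Algebra.subset_adjoin (Set.mem_singleton _))
        (Subalgebra.algebraMap_mem _ _)
    rwa [sub_add_cancel] at h4
  exact core hR' hS'K (x' - algebraMap R' S' αR') hx₂adj m' hym'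

theorem LF_of_maximal [IsIntegrallyClosed R] (hR : CAlg.IsNagata R) [IsNoetherianRing S]
    (hSK : Function.Injective (algebraMap S K))
    (x : S) (hx : Algebra.adjoin R {x} = ⊤) (m : Ideal S) [hm : m.IsMaximal] : LF S K m := by
  classical
  haveI := hR.1
  obtain ⟨c, f, hcm, hfm, hfx⟩ := exists_monic_aeval_mem x hx m
  let S₁ : Subalgebra R S := Algebra.adjoin R {algebraMap R S c * x}
  haveI : Algebra.FiniteType R S₁ := by
    rw [← Subalgebra.fg_iff_finiteType]
    have h1 := Subalgebra.fg_adjoin_finset (R := R) ({algebraMap R S c * x} : Finset S)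
    rwa [Finset.coe_singleton] at h1
  haveI : IsNoetherianRing S₁ := Algebra.FiniteType.isNoetherianRing R S₁
  haveI : IsScalarTower R S₁ K := IsScalarTower.of_algebraMap_eq (fun r => by
    rw [IsScalarTower.algebraMap_apply R S K]; rfl)
  have hS₁K : Function.Injective (algebraMap S₁ K) := hSK.comp Subtype.val_injective
  let x₁ : S₁ := ⟨algebraMap R S c * x, Algebra.subset_adjoin (Set.mem_singleton _)⟩
  have hx₁ : Algebra.adjoin R {x₁} = ⊤ := by
    have h1 := Algebra.adjoin_adjoin_coe_preimage (R := R) (s := {algebraMap R S c * x})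
    have h2 : ((↑) : Algebra.adjoin R {algebraMap R S c * x} → S) ⁻¹' {algebraMap R S c * x}
        = {x₁} := by
      ext y
      simp only [Set.mem_preimage, Set.mem_singleton_iff]
      exact ⟨fun h => Subtype.ext h, fun h => congrArg Subtype.val h⟩
    rw [h2] at h1
    exact h1
  let m₁ : Ideal S₁ := m.comap (algebraMap S₁ S)
  haveI : m₁.IsPrime := Ideal.comap_isPrime _ m
  have hmem₁ : aeval x₁ f ∈ m₁ := by
    show algebraMap S₁ S (aeval x₁ f) ∈ m
    rw [← aeval_algebraMap_apply]
    exact hfx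
  obtain ⟨C₁, hfin₁, hle₁, hC₁⟩ := LF_of_monic hR hS₁K x₁ hx₁ m₁ f hfm hmem₁
  obtain ⟨T, hT⟩ := hfin₁.fg_top
  let TK : Set K := (fun t : C₁ => (t : K)) '' (T : Set C₁)
  have hTKfin : TK.Finite := (Finset.finite_toSet T).image _
  have hTKint : ∀ y ∈ TK, IsIntegral S y := by
    rintro _ ⟨t, _, rfl⟩
    have h1 : IsIntegral S₁ (t : K) := hle₁ t.2
    exact IsIntegral.tower_top h1
  let C : Subalgebra S K := Algebra.adjoin S TK
  have hC₁C : ∀ y : C₁, (y : K) ∈ C := by
    intro y
    have hy : y ∈ Submodule.span S₁ (T : Set C₁) := hT ▸ Submodule.mem_top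
    induction hy using Submodule.span_induction with
    | mem t ht => exact Algebra.subset_adjoin ⟨t, ht, rfl⟩
    | zero => exact C.zero_mem
    | add a b _ _ ha hb => exact C.add_mem ha hb
    | smul s a _ ha =>
      have h1 : ((s • a : C₁) : K) = algebraMap S K (s : S) * (a : K) := by
        rw [Subalgebra.coe_smul, Algebra.smul_def]
        rfl
      rw [h1]
      exact C.mul_mem (C.algebraMap_mem _) ha
  refine ⟨C, Module.Finite.iff_fg.mpr (fg_adjoin_of_finite hTKfin hTKint),
    Algebra.adjoin_le hTKint, ?_⟩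
  intro z hz
  let c₁ : S₁ := algebraMap R S₁ c
  have hc : ∀ s : S, ∃ k : ℕ, ∀ n, k ≤ n →
      algebraMap S₁ S c₁ ^ n * s ∈ (algebraMap S₁ S).range := by
    intro s
    obtain ⟨k, hk⟩ := exists_pow_mul_mem_adjoin x hx c s
    refine ⟨k, fun n hn => ?_⟩
    exact ⟨⟨_, hk n hn⟩, rfl⟩
  obtain ⟨N, hN⟩ := exists_pow_mul_isIntegral c₁ hc z hz
  obtain ⟨s₁, hs₁, hs₁z⟩ := hC₁ _ hN
  refine ⟨(s₁ : S) * algebraMap R S c ^ N, ?_, ?_⟩
  · intro hmem
    rcases hm.isPrime.mem_or_mem hmem with h | h
    · exact hs₁ h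
    · exact hcm (hm.isPrime.mem_of_pow_mem _ h)
  · have h2 : ((s₁ : S) * algebraMap R S c ^ N) • z =
        s₁ • (algebraMap S₁ K c₁ ^ N * z) := by
      have h3 : algebraMap S₁ K c₁ = algebraMap R K c :=
        (IsScalarTower.algebraMap_apply R S₁ K c).symm
      rw [Algebra.smul_def, Algebra.smul_def, map_mul, map_pow, mul_assoc,
        ← IsScalarTower.algebraMap_apply R S K, h3]
      rfl
    rw [h2]
    exact hC₁C ⟨_, hs₁z⟩

/-- `(***)`: for a normal Nagata domain `R` with fraction field `K` and `x ∈ K`, the ring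
`S = R[x]` has finite integral closure in `K`. -/
theorem finite_integralClosure_of_monogenic [IsIntegrallyClosed R] (hR : CAlg.IsNagata R)
    [IsNoetherianRing S] (hSK : Function.Injective (algebraMap S K))
    (x : S) (hx : Algebra.adjoin R {x} = ⊤) : Module.Finite S (integralClosure S K) := by
  haveI := hR.1
  obtain ⟨b, a, ha, hab⟩ := IsFractionRing.div_surjective (A := R) (algebraMap S K x)
  have ha0 : a ≠ 0 := nonZeroDivisors.ne_zero ha
  have haK : algebraMap R K a ≠ 0 := by
    rw [Ne, map_eq_zero_iff _ (IsFractionRing.injective R K)]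
    exact ha0
  have hrel : algebraMap R S a * x = algebraMap R S b := by
    apply hSK
    rw [map_mul, ← hab, ← IsScalarTower.algebraMap_apply, ← IsScalarTower.algebraMap_apply,
      mul_div_cancel₀ _ haK]
  refine Groth.Agent.Helper7.QENag.finite_of_local_generic (⊥ : Subalgebra S K)
    Subalgebra.finite_bot bot_le (algebraMap R S a) ?_ ?_ ?_
  · rw [← IsScalarTower.algebraMap_apply]
    exact haK
  · intro z hz
    have hc : ∀ s : S, ∃ k : ℕ, ∀ n, k ≤ n →
        algebraMap R S a ^ n * s ∈ (algebraMap R S).range := by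
      intro s
      obtain ⟨k, hk⟩ := exists_pow_mul_mem_adjoin x hx a s
      refine ⟨k, fun n hn => ?_⟩
      have h1 := hk n hn
      rw [hrel] at h1
      have h2 : Algebra.adjoin R {algebraMap R S b} ≤ ⊥ := by
        apply Algebra.adjoin_le
        rw [Set.singleton_subset_iff]
        exact Subalgebra.algebraMap_mem _ _
      obtain ⟨r, hr⟩ := Algebra.mem_bot.mp (h2 h1)
      exact ⟨r, hr⟩
    obtain ⟨N, hN⟩ := exists_pow_mul_isIntegral a hc z hz
    obtain ⟨r, hr⟩ := IsIntegrallyClosed.isIntegral_iff.mp hN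
    refine ⟨N, ?_⟩
    rw [Algebra.smul_def, map_pow, ← IsScalarTower.algebraMap_apply, ← hr,
      IsScalarTower.algebraMap_apply R S K]
    exact Subalgebra.algebraMap_mem _ _
  · intro m hm
    haveI := hm
    exact LF_of_maximal hR hSK x hx m

end Structure

end Groth.Agent.Helper7.Mono
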