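import Mathlib
import Groth.Prelude.Def_Found
import Groth.Prelude.Def_EGA4b
import Groth.Agent.Lib.Helper7.QENag
import Groth.Agent.Lib.Helper7.PIN2
import Groth.Agent.S9392

universe u
namespace Groth.Agent.Helper7.QENag
open TensorProduct

set_option linter.style.haveILetI false

/-- Generic piece from generic normality of finite subalgebras. -/
theorem exists_generic_piece_of_normal {B L : Type u} [CommRing B] [IsDomain B]
    [IsNoetherianRing B]
    [Field L] [Algebra B L] [Algebra (FractionRing B) L] [IsScalarTower B (FractionRing B) L]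
    [FiniteDimensional (FractionRing B) L]
    (hN : ∀ C : Subalgebra B L, Module.Finite B C → IsFractionRing C L →
      ∃ g : C, g ≠ 0 ∧ IsIntegrallyClosed (Localization.Away g)) :
    ∃ (C₀ : Subalgebra B L) (f : B), Module.Finite B C₀ ∧ C₀ ≤ integralClosure B L ∧
      algebraMap B L f ≠ 0 ∧ ∀ x ∈ integralClosure B L, ∃ n : ℕ, f ^ n • x ∈ C₀ := by
  classical
  obtain ⟨s, b, hb⟩ := FiniteDimensional.exists_is_basis_integral B (FractionRing B) L
  let C₁ : Subalgebra B L := Algebra.adjoin B (Set.range b)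
  have hint : ∀ z ∈ Set.range b, IsIntegral B z := by rintro _ ⟨i, rfl⟩; exact hb i
  have hfin : Module.Finite B C₁ :=
    Module.Finite.iff_fg.mpr (fg_adjoin_of_finite (Set.finite_range b) hint)
  have hle : C₁ ≤ integralClosure B L := Algebra.adjoin_le hint
  haveI : IsFractionRing C₁ L :=
    isFractionRing_of_basis_mem b C₁ (fun i => Algebra.subset_adjoin ⟨i, rfl⟩)
  have hinj : Function.Injective (algebraMap B L) := by
    rw [IsScalarTower.algebraMap_eq B (FractionRing B) L]
    exact (algebraMap (FractionRing B) L).injective.comp (IsFractionRing.injective B _)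
  obtain ⟨g, hg0, hgn⟩ := hN C₁ hfin inferInstance
  haveI := hgn
  have hgL0 : algebraMap C₁ L g ≠ 0 := by
    intro h
    exact hg0 (Subtype.ext h)
  have hgL : IsUnit (algebraMap C₁ L g) := IsUnit.mk0 _ hgL0
  letI : Algebra (Localization.Away g) L := (IsLocalization.Away.lift g hgL).toAlgebra
  haveI : IsScalarTower C₁ (Localization.Away g) L :=
    IsScalarTower.of_algebraMap_eq (fun x => (IsLocalization.Away.lift_eq g hgL x).symm)
  haveI : IsFractionRing (Localization.Away g) L :=
    IsFractionRing.isFractionRing_of_isDomain_of_isLocalization (Submonoid.powers g)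
      (Localization.Away g) L
  haveI := hfin
  have hgint : IsIntegral B g := Algebra.IsIntegral.isIntegral g
  have hne : (Ideal.span {g}).comap (algebraMap B C₁) ≠ ⊥ :=
    Ideal.comap_ne_bot_of_integral_mem hg0 (Ideal.mem_span_singleton_self g) hgint
  obtain ⟨f, hfmem, hf0⟩ := Submodule.exists_mem_ne_zero_of_ne_bot hne
  obtain ⟨h, hh⟩ := Ideal.mem_span_singleton'.mp hfmem
  refine ⟨C₁, f, hfin, hle, ?_, ?_⟩
  · rw [Ne, map_eq_zero_iff _ hinj]; exact hf0
  · intro x hx
    have hxC : IsIntegral C₁ x := hx.tower_top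
    have hxT : IsIntegral (Localization.Away g) x := hxC.tower_top
    obtain ⟨y, hy⟩ := IsIntegrallyClosed.algebraMap_eq_of_integral hxT
    obtain ⟨⟨c, ⟨_, n, rfl⟩⟩, hc⟩ := IsLocalization.surj (Submonoid.powers g) y
    refine ⟨n, ?_⟩
    have hc' : x * algebraMap C₁ L (g ^ n) = algebraMap C₁ L c := by
      have := congrArg (algebraMap (Localization.Away g) L) hc
      rw [map_mul, hy, ← IsScalarTower.algebraMap_apply, ← IsScalarTower.algebraMap_apply] at this
      exact this
    have hfL : algebraMap B L f = algebraMap C₁ L (h * g) := by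
      rw [hh]; rfl
    have : f ^ n • x = ((h ^ n * c : C₁) : L) := by
      rw [Algebra.smul_def, map_pow, hfL]
      show (algebraMap C₁ L (h * g)) ^ n * x = algebraMap C₁ L (h ^ n * c)
      rw [map_mul, map_mul, map_pow, ← hc', mul_pow, map_pow]
      ring
    rw [this]; exact (h ^ n * c).2

/-- If the integral closure of a domain `C` in its fraction field `K'` is finite, some `C_f` is
integrally closed. -/
theorem exists_away_isIntegrallyClosed {C K' : Type u} [CommRing C] [IsDomain C] [Field K']
    [Algebra C K'] [IsFractionRing C K'] (hfin : Module.Finite C (integralClosure C K')) :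
    ∃ f : C, f ≠ 0 ∧ IsIntegrallyClosed (Localization.Away f) := by
  classical
  obtain ⟨G, hG⟩ := hfin.fg_top
  obtain ⟨f, hf⟩ := IsLocalization.exist_integer_multiples_of_finset (nonZeroDivisors C)
    (G.image (fun y : integralClosure C K' => (y : K')))
  have hf0 : (f : C) ≠ 0 := nonZeroDivisors.ne_zero f.2
  refine ⟨f, hf0, ?_⟩
  have hfK : IsUnit (algebraMap C K' f) := IsLocalization.map_units K' f
  haveI : IsDomain (Localization.Away (f : C)) :=
    IsLocalization.isDomain_localization (powers_le_nonZeroDivisors_of_noZeroDivisors hf0)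
  letI : Algebra (Localization.Away (f : C)) K' := (IsLocalization.Away.lift (f : C) hfK).toAlgebra
  haveI : IsScalarTower C (Localization.Away (f : C)) K' :=
    IsScalarTower.of_algebraMap_eq (fun x => (IsLocalization.Away.lift_eq (f : C) hfK x).symm)
  haveI : IsFractionRing (Localization.Away (f : C)) K' :=
    IsFractionRing.isFractionRing_of_isDomain_of_isLocalization (Submonoid.powers (f : C))
      (Localization.Away (f : C)) K'
  rw [isIntegrallyClosed_iff K']
  intro x hx
  obtain ⟨⟨_, n, rfl⟩, hm⟩ :=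
    IsIntegral.exists_multiple_integral_of_isLocalization (Submonoid.powers (f : C)) x hx
  have hm' : IsIntegral C ((f : C) ^ n • x) := hm
  have hmem : (⟨(f : C) ^ n • x, hm'⟩ : integralClosure C K') ∈ Submodule.span C (G : Set _) :=
    hG ▸ Submodule.mem_top
  rw [Submodule.mem_span_finset] at hmem
  obtain ⟨c, -, hc⟩ := hmem
  have hc' : (f : C) ^ n • x = ∑ y ∈ G, c y • (y : K') := by
    have h := congrArg (Subtype.val) hc
    simp only at h
    rw [← h]
    simp
  have hint : ∀ y ∈ G, ∃ a : C, algebraMap C K' a = (f : C) • (y : K') := fun y hy =>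
    hf (y : K') (Finset.mem_image_of_mem _ hy)
  choose! a ha using hint
  have hden : algebraMap C K' ((f : C) ^ (n + 1)) ≠ 0 := by
    rw [map_pow]; exact pow_ne_zero _ hfK.ne_zero
  have hnum : x * algebraMap C K' ((f : C) ^ (n + 1)) =
      algebraMap C K' (∑ y ∈ G, c y * a y) := by
    rw [map_sum, pow_succ, map_mul, ← mul_assoc, mul_comm x, ← Algebra.smul_def, hc',
      Finset.sum_mul]
    refine Finset.sum_congr rfl fun y hy => ?_
    rw [map_mul, ha y hy, Algebra.smul_def, Algebra.smul_def]; ring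
  refine ⟨IsLocalization.mk' _ (∑ y ∈ G, c y * a y)
    (⟨(f : C) ^ (n + 1), n + 1, rfl⟩ : Submonoid.powers (f : C)), ?_⟩
  apply mul_right_cancel₀ hden
  rw [hnum, IsScalarTower.algebraMap_apply C (Localization.Away (f : C)) K' ((f : C) ^ (n + 1)),
    ← map_mul]
  have := IsLocalization.mk'_spec (Localization.Away (f : C)) (∑ y ∈ G, c y * a y)
    (⟨(f : C) ^ (n + 1), n + 1, rfl⟩ : Submonoid.powers (f : C))
  rw [this, ← IsScalarTower.algebraMap_apply]

/-- Local piece for a quotient `A ⧸ p`, from N-2 of the quotients of the local rings of `A`. -/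
theorem exists_local_piece_quotient (A : Type u) [CommRing A] [IsNoetherianRing A]
    (p : Ideal A) [p.IsPrime] (L : Type u) [Field L] [Algebra (A ⧸ p) L]
    [Algebra (FractionRing (A ⧸ p)) L] [IsScalarTower (A ⧸ p) (FractionRing (A ⧸ p)) L]
    [FiniteDimensional (FractionRing (A ⧸ p)) L]
    (m : Ideal (A ⧸ p)) (hm : m.IsMaximal)
    (hloc : ∀ (P : Ideal (Localization.AtPrime (m.comap (Ideal.Quotient.mk p)))) [P.IsPrime],
      CAlg.IsN2 (Localization.AtPrime (m.comap (Ideal.Quotient.mk p)) ⧸ P)) :
    ∃ C : Subalgebra (A ⧸ p) L, Module.Finite (A ⧸ p) C ∧ C ≤ integralClosure (A ⧸ p) L ∧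
      ∀ x ∈ integralClosure (A ⧸ p) L, ∃ s : A ⧸ p, s ∉ m ∧ s • x ∈ C := by
  classical
  have hBL : Function.Injective (algebraMap (A ⧸ p) L) := by
    rw [IsScalarTower.algebraMap_eq (A ⧸ p) (FractionRing (A ⧸ p)) L]
    exact (algebraMap (FractionRing (A ⧸ p)) L).injective.comp (IsFractionRing.injective (A ⧸ p) _)
  let M : Ideal A := m.comap (Ideal.Quotient.mk p)
  haveI : M.IsPrime := Ideal.comap_isPrime _ _
  have hpM : p ≤ M := by
    intro a ha
    show Ideal.Quotient.mk p a ∈ m
    rw [Ideal.Quotient.eq_zero_iff_mem.mpr ha]; exact m.zero_mem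
  let AM := Localization.AtPrime M
  let P : Ideal AM := p.map (algebraMap A AM)
  haveI : P.IsPrime := Ideal.isPrime_map_of_isLocalizationAtPrime M hpM
  have hN2 : CAlg.IsN2 (AM ⧸ P) := hloc P
  let S : Submonoid (A ⧸ p) := Algebra.algebraMapSubmonoid (A ⧸ p) M.primeCompl
  haveI : IsLocalization S (AM ⧸ P) := inferInstance
  have hSm : ∀ s ∈ S, s ∉ m := by
    rintro _ ⟨a, ha, rfl⟩ hmem
    exact ha hmem
  have hS0 : S ≤ nonZeroDivisors (A ⧸ p) := by
    intro s hs
    rw [mem_nonZeroDivisors_iff_ne_zero]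
    rintro rfl
    exact hSm 0 hs m.zero_mem
  have hu : ∀ y : S, IsUnit (algebraMap (A ⧸ p) L y) := fun y => by
    apply IsUnit.mk0
    rw [Ne, map_eq_zero_iff _ hBL]
    exact nonZeroDivisors.ne_zero (hS0 y.2)
  letI : Algebra (AM ⧸ P) L := (IsLocalization.lift hu).toAlgebra
  haveI : IsScalarTower (A ⧸ p) (AM ⧸ P) L :=
    IsScalarTower.of_algebraMap_eq (fun x => (IsLocalization.lift_eq hu x).symm)
  have hfinR : Module.Finite (AM ⧸ P) (integralClosure (AM ⧸ P) L) :=
    finite_integralClosure_of_isLocalization_isN2 S hS0 hN2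
  obtain ⟨C, hCfin, hCle, hC⟩ := exists_local_piece S hfinR
  refine ⟨C, hCfin, hCle, fun x hx => ?_⟩
  obtain ⟨s, hs, hsx⟩ := hC x hx
  exact ⟨s, hSm s hs, hsx⟩

theorem s12125 (A : Type u) [CommRing A] [IsNoetherianRing A] :
    CAlg.IsNagata A ↔
      ((∀ (m : Ideal A) [m.IsMaximal] (P : Ideal (Localization.AtPrime m)) [P.IsPrime],
          CAlg.IsN2 (Localization.AtPrime m ⧸ P)) ∧
        ∀ (p : Ideal A) [p.IsPrime] (K' : Type u) [Field K'] [Algebra (A ⧸ p) K']
          [Algebra (FractionRing (A ⧸ p)) K'] [IsScalarTower (A ⧸ p) (FractionRing (A ⧸ p)) K']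
          [FiniteDimensional (FractionRing (A ⧸ p)) K']
          [IsPurelyInseparable (FractionRing (A ⧸ p)) K']
          (B' : Subalgebra (A ⧸ p) K'), Module.Finite (A ⧸ p) B' → IsFractionRing B' K' →
            ∃ f : B', f ≠ 0 ∧ IsIntegrallyClosed (Localization.Away f)) := by
  constructor
  · rintro ⟨-, hN⟩
    refine ⟨?_, ?_⟩
    · intro m _ P _
      let p : Ideal A := P.comap (algebraMap A (Localization.AtPrime m))
      haveI : p.IsPrime := Ideal.comap_isPrime _ _
      have hmap : p.map (algebraMap A (Localization.AtPrime m)) = P :=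
        IsLocalization.map_under m.primeCompl _ P
      haveI : (p.map (algebraMap A (Localization.AtPrime m))).IsPrime := hmap ▸ inferInstance
      have h1 : CAlg.IsN2
          (Localization.AtPrime m ⧸ p.map (algebraMap A (Localization.AtPrime m))) :=
        Groth.Agent.S9392.result (A ⧸ p) (Algebra.algebraMapSubmonoid (A ⧸ p) m.primeCompl) _ (hN p)
      exact Groth.Agent.Helper7.TatePS.isN2_of_ringEquiv (Ideal.quotEquivOfEq hmap) h1
    · intro p _ K' _ _ _ _ _ _ B' hB' hfrac
      haveI := hB'
      haveI := hfrac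
      have h1 : Module.Finite (A ⧸ p) (integralClosure (A ⧸ p) K') := hN p K' inferInstance
      haveI : Algebra.IsIntegral (A ⧸ p) B' := Algebra.IsIntegral.of_finite _ _
      have h2 : Module.Finite B' (integralClosure B' K') :=
        Groth.Agent.Helper7.QFN2.finite_integralClosure_of_integral (A ⧸ p) B' K' h1
      exact exists_away_isIntegrallyClosed h2
  · rintro ⟨h1, h2⟩
    refine ⟨inferInstance, fun p _ => ?_⟩
    apply Groth.Agent.Helper7.PIN2.main
    intro K' _ _ _ _ hfd hpi
    haveI : Module.Finite (FractionRing (A ⧸ p)) K' := hfd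
    obtain ⟨C₀, f, hC₀fin, hC₀le, hf, hgen⟩ := exists_generic_piece_of_normal (B := A ⧸ p) (L := K')
      (fun C hC hfr => h2 p K' C hC hfr)
    refine finite_of_local_generic C₀ hC₀fin hC₀le f hf hgen ?_
    intro m hm
    haveI : (m.comap (Ideal.Quotient.mk p)).IsMaximal :=
      Ideal.comap_isMaximal_of_surjective (Ideal.Quotient.mk p) Ideal.Quotient.mk_surjective
    exact exists_local_piece_quotient A p K' m hm (fun P _ => h1 _ P)

end Groth.Agent.Helper7.QENag
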