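import Mathlib
import Groth.Prelude.Def_Found
import Groth.Agent.Lib.Helper7.QENag2
import Groth.Agent.Lib.Helper14.IntClosure

/-!
# Helper7: the locus where a finite subalgebra agrees with the integral closure is open;
normal locus of a Noetherian domain (S0572), N-1 criterion (S0571)
-/

universe u
namespace Groth.Agent.Helper7.NorLoc
open TensorProduct

set_option linter.style.haveILetI false

section Ann

variable {A K' : Type u} [CommRing A] [Field K'] [Algebra A K']

/-- annihilator of the `f`-torsion of `A'/C`. -/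
def annIdeal (C : Subalgebra A K') (f : A) : Ideal A where
  carrier := {a | ∀ x ∈ integralClosure A K', f • x ∈ C → a • x ∈ C}
  add_mem' := fun {a b} ha hb x hx hfx => by
    rw [add_smul]; exact C.add_mem (ha x hx hfx) (hb x hx hfx)
  zero_mem' := fun x hx hfx => by rw [zero_smul]; exact C.zero_mem
  smul_mem' := fun c a ha x hx hfx => by
    rw [smul_eq_mul, mul_smul]; exact C.smul_mem (ha x hx hfx) c

theorem pow_smul_mem (C : Subalgebra A K') (f a : A) (ha : a ∈ annIdeal C f) :
    ∀ (n : ℕ) (x : K'), x ∈ integralClosure A K' → f ^ n • x ∈ C → a ^ n • x ∈ C := by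
  intro n
  induction n with
  | zero => intro x hx h; simpa using h
  | succ n ih =>
    intro x hx h
    have h1 : f • (f ^ n • x) ∈ C := by rwa [← mul_smul, ← pow_succ']
    have h2 : a • (f ^ n • x) ∈ C := ha _ ((integralClosure A K').smul_mem hx _) h1
    have h3 : f ^ n • (a • x) ∈ C := by rwa [smul_comm]
    have h4 := ih (a • x) ((integralClosure A K').smul_mem hx a) h3
    rwa [← mul_smul, ← pow_succ] at h4

theorem not_annIdeal_le_of_local [IsNoetherianRing A] (C : Subalgebra A K')
    [Module.Finite A C] (f : A) (hf : algebraMap A K' f ≠ 0) (p : Ideal A) [hp : p.IsPrime]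
    (h : ∀ x ∈ integralClosure A K', ∃ s : A, s ∉ p ∧ s • x ∈ C) : ¬ annIdeal C f ≤ p := by
  classical
  intro hle
  let N : Submodule A K' := (C.toSubmodule.comap (LinearMap.lsmul A K' f)) ⊓
    (integralClosure A K').toSubmodule
  have hNfg : N.FG := by
    let φ : N →ₗ[A] C :=
      { toFun := fun x => ⟨f • (x : K'), x.2.1⟩
        map_add' := fun x y => by
          apply Subtype.ext
          simp
        map_smul' := fun c x => by
          apply Subtype.ext
          show f • ((c • x : N) : K') = c • (f • (x : K'))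
          rw [Submodule.coe_smul, smul_comm] }
    have hφ : Function.Injective φ := by
      intro x y hxy
      have h : f • (x : K') = f • (y : K') := congrArg Subtype.val hxy
      rw [Algebra.smul_def, Algebra.smul_def] at h
      exact Subtype.ext (mul_left_cancel₀ hf h)
    have : Module.Finite A N := Module.Finite.of_injective φ hφ
    exact Module.Finite.iff_fg.mp this
  obtain ⟨G, hG⟩ := hNfg
  have hex : ∀ x ∈ G, ∃ s : A, s ∉ p ∧ s • x ∈ C := fun x hx => by
    have hxN : x ∈ N := hG ▸ Submodule.subset_span hx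
    exact h x hxN.2
  choose! s hs using hex
  let a := ∏ x ∈ G, s x
  have ham : a ∉ p := by
    intro h
    obtain ⟨x, hx, hsx⟩ := (hp.prod_mem_iff).mp h
    exact (hs x hx).1 hsx
  apply ham
  apply hle
  intro x hx hfx
  have hxN : x ∈ N := ⟨hfx, hx⟩
  rw [← hG] at hxN
  refine Submodule.span_induction (p := fun y _ => a • y ∈ C) ?_ ?_ ?_ ?_ hxN
  · intro y hy
    have : a = (∏ z ∈ G.erase y, s z) * s y := (Finset.prod_erase_mul G s hy).symm
    rw [this, mul_smul]
    exact C.smul_mem (hs y hy).2 _
  · simp
  · intro y z _ _ hy hz; rw [smul_add]; exact C.add_mem hy hz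
  · intro c y _ hy; rw [smul_comm]; exact C.smul_mem hy c

theorem local_of_not_annIdeal_le (C : Subalgebra A K') (f : A)
    (hgen : ∀ x ∈ integralClosure A K', ∃ n : ℕ, f ^ n • x ∈ C) (p : Ideal A) [hp : p.IsPrime]
    (h : ¬ annIdeal C f ≤ p) : ∀ x ∈ integralClosure A K', ∃ s : A, s ∉ p ∧ s • x ∈ C := by
  obtain ⟨a, ha, hap⟩ := Set.not_subset.mp h
  intro x hx
  obtain ⟨n, hn⟩ := hgen x hx
  exact ⟨a ^ n, fun hmem => hap (hp.mem_of_pow_mem n hmem), pow_smul_mem C f a ha n x hx hn⟩

/-- The locus of primes where `C` agrees with the integral closure is open. -/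
theorem isOpen_agree [IsNoetherianRing A] (C : Subalgebra A K')
    [Module.Finite A C] (f : A) (hf : algebraMap A K' f ≠ 0)
    (hgen : ∀ x ∈ integralClosure A K', ∃ n : ℕ, f ^ n • x ∈ C) :
    IsOpen {p : PrimeSpectrum A | ∀ x ∈ integralClosure A K', ∃ s : A, s ∉ p.asIdeal ∧ s • x ∈ C} := by
  have : {p : PrimeSpectrum A | ∀ x ∈ integralClosure A K', ∃ s : A, s ∉ p.asIdeal ∧ s • x ∈ C} =
      (PrimeSpectrum.zeroLocus (annIdeal C f : Set A))ᶜ := by
    ext p
    simp only [Set.mem_ofPred_eq, Set.mem_compl_iff, PrimeSpectrum.mem_zeroLocus]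
    constructor
    · intro h hle
      exact not_annIdeal_le_of_local C f hf p.asIdeal h hle
    · intro h
      exact local_of_not_annIdeal_le C f hgen p.asIdeal h
  rw [this]
  exact (PrimeSpectrum.isClosed_zeroLocus _).isOpen_compl

end Ann

section Domain
variable (R : Type u) [CommRing R] [IsDomain R]

theorem isIntegrallyClosed_localization_iff (S : Submonoid R) (hS : S ≤ nonZeroDivisors R)
    (T : Type u) [CommRing T] [Algebra R T] [IsLocalization S T] :
    IsIntegrallyClosed T ↔ ∀ x ∈ integralClosure R (FractionRing R), ∃ s ∈ S,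
      s • x ∈ (⊥ : Subalgebra R (FractionRing R)) := by
  let K := FractionRing R
  haveI : IsDomain T := IsLocalization.isDomain_of_le_nonZeroDivisors (M := S) T hS
  have hu : ∀ y : S, IsUnit (algebraMap R K y) := fun y =>
    IsLocalization.map_units K (⟨y, hS y.2⟩ : nonZeroDivisors R)
  letI : Algebra T K := (IsLocalization.lift hu).toAlgebra
  haveI : IsScalarTower R T K :=
    IsScalarTower.of_algebraMap_eq fun x => (IsLocalization.lift_eq hu x).symm
  haveI : IsFractionRing T K := IsFractionRing.isFractionRing_of_isDomain_of_isLocalization S T K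
  rw [isIntegrallyClosed_iff K]
  constructor
  · intro h x hx
    have hx' : IsIntegral T x := IsIntegral.tower_top hx
    obtain ⟨y, hy⟩ := h hx'
    obtain ⟨⟨r, s⟩, hrs⟩ := IsLocalization.surj S y
    refine ⟨s, s.2, ?_⟩
    rw [Algebra.mem_bot]
    refine ⟨r, ?_⟩
    have := congrArg (algebraMap T K) hrs
    simp only [map_mul, hy, ← IsScalarTower.algebraMap_apply] at this
    rw [Algebra.smul_def, mul_comm]; exact this.symm
  · intro h x hx
    obtain ⟨t, ht⟩ := IsIntegral.exists_multiple_integral_of_isLocalization S x hx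
    obtain ⟨s, hs, hsx⟩ := h _ ht
    rw [Algebra.mem_bot] at hsx
    obtain ⟨r, hr⟩ := hsx
    refine ⟨IsLocalization.mk' T r (⟨s, hs⟩ * t : S), ?_⟩
    have hden : algebraMap R K ((⟨s, hs⟩ * t : S) : R) ≠ 0 := (hu _).ne_zero
    apply mul_right_cancel₀ hden
    rw [IsScalarTower.algebraMap_apply R T K, ← map_mul, IsLocalization.mk'_spec,
      ← IsScalarTower.algebraMap_apply, hr]
    simp only [Submonoid.coe_mul, map_mul, Algebra.smul_def, Submonoid.smul_def,
      ← IsScalarTower.algebraMap_apply]
    ring

theorem generic_of_away (f : R) (hf : f ≠ 0) (hn : IsIntegrallyClosed (Localization.Away f)) :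
    ∀ x ∈ integralClosure R (FractionRing R), ∃ n : ℕ,
      f ^ n • x ∈ (⊥ : Subalgebra R (FractionRing R)) := by
  intro x hx
  obtain ⟨s, ⟨n, rfl⟩, hs⟩ := (isIntegrallyClosed_localization_iff R (Submonoid.powers f)
    (powers_le_nonZeroDivisors_of_noZeroDivisors hf) (Localization.Away f)).mp hn x hx
  exact ⟨n, hs⟩

theorem s0572 [IsNoetherianRing R] (f : R)
    (hf : f ≠ 0) (hn : IsIntegrallyClosed (Localization.Away f)) :
    IsOpen {p : PrimeSpectrum R | IsIntegrallyClosed (Localization.AtPrime p.asIdeal)} := by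
  have hgen := generic_of_away R f hf hn
  have hfK : algebraMap R (FractionRing R) f ≠ 0 := by
    rw [Ne, map_eq_zero_iff _ (IsFractionRing.injective R _)]; exact hf
  haveI : Module.Finite R (⊥ : Subalgebra R (FractionRing R)) := Subalgebra.finite_bot
  have hopen := isOpen_agree (⊥ : Subalgebra R (FractionRing R)) f hfK hgen
  have heq : {p : PrimeSpectrum R | IsIntegrallyClosed (Localization.AtPrime p.asIdeal)} =
      {p : PrimeSpectrum R | ∀ x ∈ integralClosure R (FractionRing R), ∃ s : R,
        s ∉ p.asIdeal ∧ s • x ∈ (⊥ : Subalgebra R (FractionRing R))} := by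
    ext p
    exact isIntegrallyClosed_localization_iff R p.asIdeal.primeCompl
      p.asIdeal.primeCompl_le_nonZeroDivisors (Localization.AtPrime p.asIdeal)
  rw [heq]
  exact hopen

theorem isN1_iff_of_isFractionRing (T K : Type u) [CommRing T] [IsDomain T] [Field K]
    [Algebra T K] [IsFractionRing T K] :
    CAlg.IsN1 T ↔ Module.Finite T (integralClosure T K) := by
  let e := FractionRing.algEquiv T K
  unfold CAlg.IsN1
  constructor
  · intro h
    exact Module.Finite.equiv e.mapIntegralClosure.toLinearEquiv
  · intro h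
    exact Module.Finite.equiv e.mapIntegralClosure.symm.toLinearEquiv

theorem isN1_atPrime_iff (m : Ideal R) [m.IsPrime] :
    CAlg.IsN1 (Localization.AtPrime m) ↔ Module.Finite (Localization.AtPrime m)
      (integralClosure (Localization.AtPrime m) (FractionRing R)) :=
  isN1_iff_of_isFractionRing (Localization.AtPrime m) (FractionRing R)

theorem s0571 [IsNoetherianRing R] :
    CAlg.IsN1 R ↔ ((∃ f : R, f ≠ 0 ∧ IsIntegrallyClosed (Localization.Away f)) ∧
      ∀ (m : Ideal R) [m.IsMaximal], CAlg.IsN1 (Localization.AtPrime m)) := by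
  constructor
  · intro h
    refine ⟨Groth.Agent.Helper7.QENag.exists_away_isIntegrallyClosed (C := R)
      (K' := FractionRing R) h, fun m _ => ?_⟩
    exact (isN1_atPrime_iff R m).mpr
      (Groth.Agent.Helper14.finite_integralClosure_of_isLocalization m.primeCompl
        (Localization.AtPrime m) (FractionRing R) h)
  · rintro ⟨⟨f, hf, hn⟩, hloc⟩
    have hgen := generic_of_away R f hf hn
    have hfK : algebraMap R (FractionRing R) f ≠ 0 := by
      rw [Ne, map_eq_zero_iff _ (IsFractionRing.injective R _)]; exact hf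
    refine Groth.Agent.Helper7.QENag.finite_of_local_generic (⊥ : Subalgebra R (FractionRing R))
      Subalgebra.finite_bot bot_le f hfK hgen ?_
    intro m hm
    have h1 := (isN1_atPrime_iff R m).mp (hloc m)
    obtain ⟨C, hCfin, hCle, hC⟩ := Groth.Agent.Helper7.QENag.exists_local_piece m.primeCompl h1
    exact ⟨C, hCfin, hCle, fun x hx => hC x hx⟩

end Domain

end Groth.Agent.Helper7.NorLoc
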