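import Mathlib
import Groth.Prelude.Def_Found
import Groth.Agent.Lib.Helper7.QFN2
import Groth.Agent.Lib.Helper7.TatePS

/-!
# Helper7: N-2 descends along finite injective extensions; power series over N-2 domains are N-2
-/

universe u
namespace Groth.Agent.Helper7.PSN2
open TensorProduct

set_option linter.style.haveILetI false


/-- A common finite overfield. -/
theorem exists_compositum (K F L : Type u) [Field K] [Field F] [Field L] [Algebra K F]
    [Algebra K L] [Module.Finite K L] :
    ∃ (L' : Type u) (_ : Field L') (_ : Algebra F L') (g : L →+* L'), Module.Finite F L' ∧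
      ∀ k, g (algebraMap K L k) = algebraMap F L' (algebraMap K F k) := by
  classical
  haveI : Nontrivial (F ⊗[K] L) := inferInstance
  obtain ⟨m, hm⟩ := Ideal.exists_maximal (F ⊗[K] L)
  letI : Field ((F ⊗[K] L) ⧸ m) := Ideal.Quotient.field m
  haveI : Module.Finite F (F ⊗[K] L) := Module.Finite.base_change K F L
  refine ⟨(F ⊗[K] L) ⧸ m, inferInstance, inferInstance, (Ideal.Quotient.mk m).comp
    (Algebra.TensorProduct.includeRight (R := K) (A := F) (B := L)).toRingHom, ?_, ?_⟩
  · exact Module.Finite.of_surjective
      (Ideal.Quotient.mkₐ F m).toLinearMap Ideal.Quotient.mk_surjective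
  · intro k
    show Ideal.Quotient.mk m (1 ⊗ₜ[K] (algebraMap K L k)) =
      Ideal.Quotient.mk m (algebraMap F (F ⊗[K] L) _)
    congr 1
    rw [Algebra.TensorProduct.algebraMap_apply, Algebra.algebraMap_eq_smul_one k,
      TensorProduct.tmul_smul, TensorProduct.smul_tmul', Algebra.smul_def, mul_one]
    simp

/-- N-2 descends along finite injective extensions of Noetherian domains. -/
theorem isN2_of_finite_injective {R S : Type u} [CommRing R] [IsDomain R] [IsNoetherianRing R]
    [CommRing S] [IsDomain S] [Algebra R S] (hinj : Function.Injective (algebraMap R S))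
    [Module.Finite R S] (hS : CAlg.IsN2 S) : CAlg.IsN2 R := by
  classical
  intro L _ _ _ _ hfd
  let K := FractionRing R
  let F := FractionRing S
  haveI : FaithfulSMul R S := (faithfulSMul_iff_algebraMap_injective R S).mpr hinj
  haveI : FaithfulSMul R F := by
    rw [faithfulSMul_iff_algebraMap_injective, IsScalarTower.algebraMap_eq R S F]
    exact (IsFractionRing.injective S F).comp hinj
  letI : Algebra K F := FractionRing.liftAlgebra R F
  haveI : IsScalarTower R K F := FractionRing.isScalarTower_liftAlgebra R F
  haveI : Module.Finite K L := hfd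
  obtain ⟨L', _, _, g, hfin, hgk⟩ := exists_compositum K F L
  letI : Algebra S L' := ((algebraMap F L').comp (algebraMap S F)).toAlgebra
  haveI : IsScalarTower S F L' := IsScalarTower.of_algebraMap_eq (fun x => rfl)
  letI : Algebra R L' := ((algebraMap S L').comp (algebraMap R S)).toAlgebra
  haveI : IsScalarTower R S L' := IsScalarTower.of_algebraMap_eq (fun x => rfl)
  have hSL : Module.Finite S (integralClosure S L') := hS L' hfin
  have hg : Function.Injective g := g.injective
  have hcompat : ∀ r : R, g (algebraMap R L r) = algebraMap R L' r := by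
    intro r
    show _ = algebraMap F L' (algebraMap S F (algebraMap R S r))
    rw [IsScalarTower.algebraMap_apply R K L, ← IsScalarTower.algebraMap_apply R S F,
      IsScalarTower.algebraMap_apply R K F, hgk]
  have hmem : ∀ x : integralClosure R L, g x ∈ integralClosure S L' := by
    intro x
    have h1 : IsIntegral R (g x) := by
      obtain ⟨p, hp, hpx⟩ := x.2
      refine ⟨p, hp, ?_⟩
      have : (algebraMap R L') = g.comp (algebraMap R L) := RingHom.ext fun r => (hcompat r).symm
      rw [this, ← Polynomial.hom_eval₂, hpx, map_zero]
    exact h1.tower_top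
  haveI : Module.Finite R (integralClosure S L') := Module.Finite.trans S _
  let φ : integralClosure R L →ₗ[R] integralClosure S L' :=
    { toFun := fun x => ⟨g x, hmem x⟩
      map_add' := fun x y => by
        apply Subtype.ext
        simp
      map_smul' := fun r x => by
        apply Subtype.ext
        show g ((r • x : integralClosure R L) : L) = r • g x
        rw [Algebra.smul_def, Algebra.smul_def]
        simp [hcompat] }
  have hφ : Function.Injective φ := by
    intro x y hxy
    apply Subtype.ext
    apply hg
    exact congrArg Subtype.val hxy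
  exact Module.Finite.of_injective φ hφ


open PowerSeries in
theorem finite_powerSeries (R A : Type*) [CommRing R] [CommRing A] [Algebra R A]
    [Module.Finite R A] : Module.Finite R⟦X⟧ A⟦X⟧ := by
  classical
  obtain ⟨s, hs⟩ := (Module.Finite.fg_top : (⊤ : Submodule R A).FG)
  have hrep : ∀ a : A, ∃ c : A → R, a = ∑ e ∈ s, c e • e := by
    intro a
    have : a ∈ Submodule.span R (s : Set A) := hs ▸ Submodule.mem_top
    rw [Submodule.mem_span_finset] at this
    obtain ⟨c, -, hc⟩ := this
    exact ⟨c, hc.symm⟩
  choose c hc using hrep
  refine ⟨⟨s.image (C (R := A)), ?_⟩⟩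
  rw [eq_top_iff]
  rintro f -
  have hf : f = ∑ e ∈ s, (PowerSeries.mk fun k => c (coeff k f) e) • (C e : A⟦X⟧) := by
    ext k
    rw [map_sum]
    conv_lhs => rw [hc (coeff k f)]
    refine Finset.sum_congr rfl fun e _ => ?_
    rw [Algebra.smul_def, Algebra.smul_def (A := A⟦X⟧), algebraMap_apply'', coeff_mul_C,
      coeff_map, coeff_mk]
  rw [hf]
  refine Submodule.sum_mem _ fun e he => Submodule.smul_mem _ _ (Submodule.subset_span ?_)
  exact Finset.mem_coe.mpr (Finset.mem_image_of_mem _ he)

theorem map_injective_of_injective {R A : Type*} [CommRing R] [CommRing A] [Algebra R A]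
    (h : Function.Injective (algebraMap R A)) :
    Function.Injective (algebraMap (PowerSeries R) (PowerSeries A)) := by
  intro f g hfg
  ext k
  apply h
  have := congrArg (PowerSeries.coeff k) hfg
  simpa [PowerSeries.algebraMap_apply''] using this


open PowerSeries in
/-- Power series over a Noetherian N-2 domain form an N-2 domain. -/
theorem isN2_powerSeries (R : Type u) [CommRing R] [IsDomain R] [IsNoetherianRing R]
    (h : CAlg.IsN2 R) : CAlg.IsN2 (PowerSeries R) := by
  let K := FractionRing R
  let R' := integralClosure R K
  haveI : Module.Finite R R' := h K inferInstance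
  haveI : IsNoetherianRing R' := IsNoetherianRing.of_finite R R'
  haveI : IsIntegrallyClosed R' := integralClosure.isIntegrallyClosedOfFiniteExtension K
  have hinj : Function.Injective (algebraMap R R') := by
    intro x y hxy
    apply IsFractionRing.injective R K
    exact congrArg Subtype.val hxy
  have hR' : CAlg.IsN2 R' := Groth.Agent.Helper7.QFN2.main hinj h
  have hPS' : CAlg.IsN2 (PowerSeries R') :=
    Groth.Agent.Helper7.TatePS.isN2_powerSeries_of_normal R' hR'
  haveI := finite_powerSeries R R'
  exact isN2_of_finite_injective (map_injective_of_injective hinj) hPS'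

end Groth.Agent.Helper7.PSN2
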