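import Mathlib
import Groth.Prelude.Def_Found
import Groth.Agent.Lib.Helper7.NorLoc
import Groth.Agent.Lib.Helper7.PIN2
import Groth.Agent.Lib.Helper7.PSN2
import Groth.Agent.S0574

/-!
# Helper7: polynomial rings over N-1 / N-2 Noetherian domains are N-1 / N-2
-/

universe u
namespace Groth.Agent.Helper7.PolyN
open Polynomial

set_option linter.style.haveILetI false
set_option linter.unusedSectionVars false

/-- `A[X]` is finite over `R[X]` when `A` is finite over `R`. -/
theorem finite_polynomial (R A : Type*) [CommRing R] [CommRing A] [Algebra R A]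
    [Module.Finite R A] :
    letI := (Polynomial.mapRingHom (algebraMap R A)).toAlgebra
    Module.Finite R[X] A[X] := by
  classical
  letI := (Polynomial.mapRingHom (algebraMap R A)).toAlgebra
  obtain ⟨s, hs⟩ := (Module.Finite.fg_top : (⊤ : Submodule R A).FG)
  refine ⟨⟨s.image (C (R := A)), ?_⟩⟩
  rw [eq_top_iff]
  rintro p -
  induction p using Polynomial.induction_on' with
  | add p q hp hq => exact add_mem hp hq
  | monomial n a =>
    have ha : a ∈ Submodule.span R (s : Set A) := hs ▸ Submodule.mem_top
    induction ha using Submodule.span_induction with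
    | mem a ha =>
      have h1 : monomial n a = (X ^ n : R[X]) • (C a : A[X]) := by
        rw [Algebra.smul_def]
        show _ = Polynomial.map (algebraMap R A) (X ^ n) * _
        rw [Polynomial.map_pow, Polynomial.map_X, ← C_mul_X_pow_eq_monomial, mul_comm]
      rw [h1]
      refine Submodule.smul_mem _ _ (Submodule.subset_span ?_)
      exact Finset.mem_coe.mpr (Finset.mem_image_of_mem _ ha)
    | zero => simp
    | add a b _ _ ha hb =>
      rw [map_add]
      exact add_mem ha hb
    | smul r a _ ha =>
      have h1 : monomial n (r • a) = (C r : R[X]) • (monomial n a : A[X]) := by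
        rw [Algebra.smul_def]
        show _ = Polynomial.map (algebraMap R A) (C r) * _
        rw [Polynomial.map_C, C_mul_monomial]
      rw [h1]
      exact Submodule.smul_mem _ _ ha

/-- If `B` is a finite integrally closed extension of the Noetherian domain `A` inside a common
fraction field `F`, then the integral closure of `A` in `F` is finite. -/
theorem finite_integralClosure_of_finite_normal (A B F : Type*) [CommRing A] [IsNoetherianRing A]
    [CommRing B] [IsDomain B] [IsIntegrallyClosed B] [Field F] [Algebra A B] [Algebra A F]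
    [Algebra B F] [IsScalarTower A B F] [IsFractionRing B F] [Module.Finite A B] :
    Module.Finite A (integralClosure A F) := by
  have hle : (integralClosure A F).toSubmodule ≤
      LinearMap.range (IsScalarTower.toAlgHom A B F).toLinearMap := by
    intro z hz
    have hz' : IsIntegral B z := IsIntegral.tower_top (R := A) hz
    obtain ⟨y, hy⟩ := IsIntegrallyClosed.isIntegral_iff.mp hz'
    exact ⟨y, hy⟩
  have hfg : (LinearMap.range (IsScalarTower.toAlgHom A B F).toLinearMap).FG := by
    rw [LinearMap.range_eq_map]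
    exact Submodule.FG.map _ Module.Finite.fg_top
  haveI : IsNoetherian A (LinearMap.range (IsScalarTower.toAlgHom A B F).toLinearMap) :=
    isNoetherian_of_fg_of_noetherian _ hfg
  have : (integralClosure A F).toSubmodule.FG := by
    have := (isNoetherian_submodule.mp ‹_›) _ hle
    exact this
  exact ⟨(Submodule.fg_top _).mpr this⟩

/-- The algebra structure `D[X] → RatFunc K`. -/
@[reducible] noncomputable def algRat (D K : Type*) [CommRing D] [Field K] [Algebra D K] :
    Algebra D[X] (RatFunc K) :=
  ((algebraMap K[X] (RatFunc K)).comp (Polynomial.mapRingHom (algebraMap D K))).toAlgebra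

theorem isFractionRing_ratFunc (D K : Type*) [CommRing D] [IsDomain D] [Field K] [Algebra D K]
    [IsFractionRing D K] :
    letI := algRat D K
    IsFractionRing D[X] (RatFunc K) := by
  letI := algRat D K
  have hinj : Function.Injective (algebraMap D[X] (RatFunc K)) :=
    (RatFunc.algebraMap_injective K).comp
      (Polynomial.map_injective _ (IsFractionRing.injective D K))
  haveI : FaithfulSMul D[X] (RatFunc K) := (faithfulSMul_iff_algebraMap_injective _ _).mpr hinj
  refine IsFractionRing.of_field (R := D[X]) (K := RatFunc K) (fun z => ?_)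
  obtain ⟨p, q, hq, rfl⟩ := IsFractionRing.div_surjective (A := K[X]) z
  obtain ⟨b, hb, hpb⟩ := IsLocalization.integerNormalization_spec (nonZeroDivisors D) p
  obtain ⟨c, hc, hqc⟩ := IsLocalization.integerNormalization_spec (nonZeroDivisors D) q
  refine ⟨C c * IsLocalization.integerNormalization (nonZeroDivisors D) p,
    C b * IsLocalization.integerNormalization (nonZeroDivisors D) q, ?_⟩
  have hb0 : algebraMap D K b ≠ 0 := by
    rw [Ne, map_eq_zero_iff _ (IsFractionRing.injective D K)]
    exact nonZeroDivisors.ne_zero hb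
  have hc0 : algebraMap D K c ≠ 0 := by
    rw [Ne, map_eq_zero_iff _ (IsFractionRing.injective D K)]
    exact nonZeroDivisors.ne_zero hc
  have h1 : algebraMap D[X] (RatFunc K)
      (C c * IsLocalization.integerNormalization (nonZeroDivisors D) p) =
      algebraMap K[X] (RatFunc K) (C (algebraMap D K c) * C (algebraMap D K b)) *
        algebraMap K[X] (RatFunc K) p := by
    show algebraMap K[X] (RatFunc K) (Polynomial.map (algebraMap D K) _) = _
    rw [Polynomial.map_mul, Polynomial.map_C, hpb, Algebra.smul_def, ← map_mul,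
      Polynomial.algebraMap_apply, mul_assoc]
  have h2 : algebraMap D[X] (RatFunc K)
      (C b * IsLocalization.integerNormalization (nonZeroDivisors D) q) =
      algebraMap K[X] (RatFunc K) (C (algebraMap D K c) * C (algebraMap D K b)) *
        algebraMap K[X] (RatFunc K) q := by
    show algebraMap K[X] (RatFunc K) (Polynomial.map (algebraMap D K) _) = _
    rw [Polynomial.map_mul, Polynomial.map_C, hqc, Algebra.smul_def, ← map_mul,
      Polynomial.algebraMap_apply, ← mul_assoc, mul_comm (C (algebraMap D K b))]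
  rw [h1, h2]
  have h3 : algebraMap K[X] (RatFunc K) (C (algebraMap D K c) * C (algebraMap D K b)) ≠ 0 := by
    rw [Ne, map_eq_zero_iff _ (RatFunc.algebraMap_injective K), ← C_mul, C_eq_zero]
    exact mul_ne_zero hc0 hb0
  rw [mul_div_mul_left _ _ h3]

theorem isN1_polynomial (R : Type u) [CommRing R] [IsDomain R] [IsNoetherianRing R]
    (h : CAlg.IsN1 R) : CAlg.IsN1 R[X] := by
  let K := FractionRing R
  let R' := integralClosure R K
  haveI : Module.Finite R R' := h
  haveI : IsIntegrallyClosed R' := integralClosure.isIntegrallyClosedOfFiniteExtension K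
  haveI : IsFractionRing R' K := integralClosure.isFractionRing_of_finite_extension K K
  letI a1 := algRat R K
  letI a2 := algRat R' K
  letI a3 : Algebra R[X] R'[X] := (mapRingHom (algebraMap R R')).toAlgebra
  haveI : IsScalarTower R[X] R'[X] (RatFunc K) := IsScalarTower.of_algebraMap_eq (fun p => by
    show algebraMap K[X] (RatFunc K) (Polynomial.map (algebraMap R K) p) =
      algebraMap K[X] (RatFunc K) (Polynomial.map (algebraMap R' K)
        (Polynomial.map (algebraMap R R') p))
    rw [Polynomial.map_map, ← IsScalarTower.algebraMap_eq])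
  haveI := isFractionRing_ratFunc R K
  haveI := isFractionRing_ratFunc R' K
  haveI := finite_polynomial R R'
  rw [NorLoc.isN1_iff_of_isFractionRing R[X] (RatFunc K)]
  exact finite_integralClosure_of_finite_normal R[X] R'[X] (RatFunc K)

/-- Main abstract lemma: finiteness of the integral closure of a normal Noetherian domain of
characteristic `p` in a finite purely inseparable extension, given an explicit finiteness
statement for "`q`-th roots". -/
theorem finite_integralClosure_purelyInseparable
    (A : Type u) [CommRing A] [IsDomain A] [IsNoetherianRing A] [IsIntegrallyClosed A]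
    (p : ℕ) [hp : Fact p.Prime] [CharP A p]
    (H : ∀ (e m : ℕ) (g : Fin m → A), ∃ (ι : Type u) (_ : Fintype ι) (n : ι → A),
      ∀ (t d : A) (s : Fin m → A), d ≠ 0 → d ^ (p ^ e) * t = ∑ j, s j ^ (p ^ e) * g j →
        ∃ f : ι → A, t = ∑ i, f i ^ (p ^ e) * n i)
    (L : Type u) [Field L] [Algebra A L] [Algebra (FractionRing A) L]
    [IsScalarTower A (FractionRing A) L] [FiniteDimensional (FractionRing A) L]
    [IsPurelyInseparable (FractionRing A) L] :
    Module.Finite A (integralClosure A L) := by
  classical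
  let F := FractionRing A
  haveI : CharP F p := charP_of_injective_algebraMap (IsFractionRing.injective A F) p
  haveI : ExpChar F p := ExpChar.prime hp.out
  haveI : CharP L p := charP_of_injective_algebraMap (algebraMap F L).injective p
  haveI : ExpChar L p := ExpChar.prime hp.out
  haveI : ExpChar A p := ExpChar.prime hp.out
  obtain ⟨e, he⟩ : ∃ e, e = IsPurelyInseparable.exponent F L := ⟨_, rfl⟩
  have hq0 : p ^ e ≠ 0 := pow_ne_zero _ hp.out.ne_zero
  have hpow : ∀ a : L, a ^ (p ^ e) ∈ (algebraMap F L).range := fun a => by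
    rw [he]; exact IsPurelyInseparable.exponent_def' F p a
  have hinjAL : Function.Injective (algebraMap A L) := by
    rw [IsScalarTower.algebraMap_eq A F L]
    exact (algebraMap F L).injective.comp (IsFractionRing.injective A F)
  have hfrob : ∀ x y : L, x ^ (p ^ e) = y ^ (p ^ e) → x = y := fun x y h =>
    iterateFrobenius_inj L p e h
  -- basis
  obtain ⟨m, hm⟩ : ∃ m, m = Module.finrank F L := ⟨_, rfl⟩
  let β : Module.Basis (Fin m) F L := hm ▸ Module.finBasis F L
  -- scaled basis
  have hscale : ∀ j, ∃ (v g : A), v ≠ 0 ∧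
      (algebraMap A L v * β j) ^ (p ^ e) = algebraMap A L g := by
    intro j
    obtain ⟨φ, hφ⟩ := hpow (β j)
    obtain ⟨u, v, hv, rfl⟩ := IsFractionRing.div_surjective (A := A) φ
    have hv0 : algebraMap A F v ≠ 0 := by
      rw [Ne, map_eq_zero_iff _ (IsFractionRing.injective A F)]
      exact nonZeroDivisors.ne_zero hv
    refine ⟨v, v ^ (p ^ e - 1) * u, nonZeroDivisors.ne_zero hv, ?_⟩
    rw [mul_pow, ← hφ, IsScalarTower.algebraMap_apply A F L, IsScalarTower.algebraMap_apply A F L
      (v ^ (p ^ e - 1) * u), ← map_pow, ← map_mul]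
    congr 1
    rw [map_mul, map_pow]
    have h1 : p ^ e = (p ^ e - 1) + 1 := (Nat.sub_add_cancel (Nat.one_le_iff_ne_zero.mpr hq0)).symm
    conv_lhs => rw [h1, pow_succ]
    rw [mul_assoc, mul_div_assoc', mul_div_cancel_left₀ _ hv0]
  choose v g hv hg using hscale
  -- spanning
  have hspan : ∀ b : L, ∃ (d : A) (s : Fin m → A), d ≠ 0 ∧
      algebraMap A L d * b = ∑ j, algebraMap A L (s j) * (algebraMap A L (v j) * β j) := by
    intro b
    obtain ⟨d, hd⟩ := IsLocalization.exist_integer_multiples (nonZeroDivisors A)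
      (Finset.univ : Finset (Fin m)) (fun j => β.repr b j / algebraMap A F (v j))
    have hd' : ∀ j, ∃ s : A, algebraMap A F s =
        (d : A) • (β.repr b j / algebraMap A F (v j)) := fun j => hd j (Finset.mem_univ j)
    choose s hs using hd'
    refine ⟨d, s, nonZeroDivisors.ne_zero d.2, ?_⟩
    conv_lhs => rw [← β.sum_repr b]
    rw [Finset.mul_sum]
    refine Finset.sum_congr rfl fun j _ => ?_
    have hvj : algebraMap A F (v j) ≠ 0 := by
      rw [Ne, map_eq_zero_iff _ (IsFractionRing.injective A F)]
      exact hv j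
    rw [IsScalarTower.algebraMap_apply A F L (s j), hs j, Algebra.smul_def (β.repr b j) (β j),
      Algebra.smul_def, map_mul, map_div₀, IsScalarTower.algebraMap_apply A F L (v j),
      IsScalarTower.algebraMap_apply A F L (d : A)]
    have hvj' : algebraMap F L (algebraMap A F (v j)) ≠ 0 := by
      rw [Ne, map_eq_zero]; exact hvj
    field_simp
  obtain ⟨ι, _, n, hn⟩ := H e m g
  have hsumpow : ∀ f : ι → A, ∀ f' : ι → A,
      ∑ i, (f i + f' i) ^ (p ^ e) * n i = ∑ i, f i ^ (p ^ e) * n i + ∑ i, f' i ^ (p ^ e) * n i := by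
    intro f f'
    rw [← Finset.sum_add_distrib]
    refine Finset.sum_congr rfl fun i _ => ?_
    rw [add_pow_expChar_pow, add_mul]
  have hsmulpow : ∀ (a : A) (f : ι → A),
      ∑ i, (a * f i) ^ (p ^ e) * n i = a ^ (p ^ e) * ∑ i, f i ^ (p ^ e) * n i := by
    intro a f
    rw [Finset.mul_sum]
    refine Finset.sum_congr rfl fun i _ => ?_
    rw [mul_pow, mul_assoc]
  let PP : Submodule A (ι → A) :=
    { carrier := {f | ∃ b : L, algebraMap A L (∑ i, f i ^ (p ^ e) * n i) = b ^ (p ^ e)}
      add_mem' := by
        rintro f f' ⟨b, hb⟩ ⟨b', hb'⟩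
        refine ⟨b + b', ?_⟩
        simp only [Pi.add_apply]
        rw [hsumpow, map_add, hb, hb', add_pow_expChar_pow]
      zero_mem' := ⟨0, by simp [zero_pow hq0]⟩
      smul_mem' := by
        rintro a f ⟨b, hb⟩
        refine ⟨algebraMap A L a * b, ?_⟩
        simp only [Pi.smul_apply, smul_eq_mul]
        rw [hsmulpow, map_mul, hb, map_pow, mul_pow] }
  have hfg : PP.FG := IsNoetherian.noetherian PP
  obtain ⟨S, hS⟩ := hfg
  have hb : ∀ f : ι → A, ∃ b : L, f ∈ PP →
      algebraMap A L (∑ i, f i ^ (p ^ e) * n i) = b ^ (p ^ e) := by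
    intro f
    by_cases hf : f ∈ PP
    · obtain ⟨b, hb⟩ := hf
      exact ⟨b, fun _ => hb⟩
    · exact ⟨0, fun h => absurd h hf⟩
  choose bb hbb using hb
  let W : Submodule A L := Submodule.span A ((S.image bb : Finset L) : Set L)
  have key : ∀ f ∈ PP, ∃ b ∈ W, algebraMap A L (∑ i, f i ^ (p ^ e) * n i) = b ^ (p ^ e) := by
    intro f hf
    rw [← hS] at hf
    induction hf using Submodule.span_induction with
    | mem f hf =>
      refine ⟨bb f, Submodule.subset_span ?_, hbb f (hS ▸ Submodule.subset_span hf)⟩
      exact Finset.mem_coe.mpr (Finset.mem_image_of_mem _ hf)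
    | zero => exact ⟨0, zero_mem _, by simp [zero_pow hq0]⟩
    | add f f' _ _ h1 h2 =>
      obtain ⟨b, hbW, hb⟩ := h1
      obtain ⟨b', hbW', hb'⟩ := h2
      refine ⟨b + b', add_mem hbW hbW', ?_⟩
      simp only [Pi.add_apply]
      rw [hsumpow, map_add, hb, hb', add_pow_expChar_pow]
    | smul a f _ h1 =>
      obtain ⟨b, hbW, hb⟩ := h1
      refine ⟨a • b, Submodule.smul_mem _ _ hbW, ?_⟩
      simp only [Pi.smul_apply, smul_eq_mul]
      rw [hsmulpow, map_mul, hb, map_pow, Algebra.smul_def, mul_pow]
  have hle : (integralClosure A L).toSubmodule ≤ W := by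
    intro b hb
    obtain ⟨φ, hφ⟩ := hpow b
    have hφint : IsIntegral A φ := by
      have h1 : IsIntegral A (b ^ (p ^ e)) := IsIntegral.pow hb _
      rw [← hφ] at h1
      exact (isIntegral_algebraMap_iff (algebraMap F L).injective).mp h1
    obtain ⟨t, ht⟩ := IsIntegrallyClosed.isIntegral_iff.mp hφint
    obtain ⟨d, s, hd, hds⟩ := hspan b
    have htb : algebraMap A L t = b ^ (p ^ e) := by
      rw [IsScalarTower.algebraMap_apply A F L, ht, hφ]
    have hrel : d ^ (p ^ e) * t = ∑ j, s j ^ (p ^ e) * g j := by
      apply hinjAL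
      rw [map_mul, map_pow, map_sum, htb, ← mul_pow, hds, sum_pow_char_pow]
      refine Finset.sum_congr rfl fun j _ => ?_
      rw [mul_pow, hg j, map_mul, map_pow]
    obtain ⟨f, hf⟩ := hn t d s hd hrel
    have hfP : f ∈ PP := ⟨b, by rw [← hf, htb]⟩
    obtain ⟨b', hb'W, hb'⟩ := key f hfP
    have hbb' : b = b' := hfrob _ _ (by rw [← hb', ← hf, htb])
    rw [hbb']
    exact hb'W
  haveI : IsNoetherian A W := isNoetherian_of_fg_of_noetherian _ (Submodule.fg_span (Finset.finite_toSet _))
  have hfgB : (integralClosure A L).toSubmodule.FG := (isNoetherian_submodule.mp ‹_›) _ hle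
  exact ⟨(Submodule.fg_top _).mpr hfgB⟩

/-- For an N-2 domain `R` with fraction field `K`, a field `K'` receiving `σ : K → K'` and a finite
set `C ⊆ K'` of elements algebraic over `σ K`, there is a subfield `K₁ ⊇ σ K ∪ C` of `K'` in which
the elements integral over `R` form a finitely generated `R`-module. -/
theorem exists_subfield_finite (R : Type u) [CommRing R] [IsDomain R] (hN2 : CAlg.IsN2 R)
    (K' : Type u) [Field K'] (σ : FractionRing R →+* K') (C : Finset K')
    (hC : ∀ c ∈ C, σ.IsIntegralElem c) :
    ∃ (K₁ : Subfield K') (ι : Type u) (_ : Fintype ι) (τ : ι → K'),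
      (∀ a, σ a ∈ K₁) ∧ (∀ c ∈ C, c ∈ K₁) ∧
      (∀ i, (σ.comp (algebraMap R (FractionRing R))).IsIntegralElem (τ i)) ∧
      ∀ z ∈ K₁, (σ.comp (algebraMap R (FractionRing R))).IsIntegralElem z →
        ∃ r : ι → R, z = ∑ i, σ (algebraMap R (FractionRing R) (r i)) * τ i := by
  classical
  let K := FractionRing R
  letI : Algebra K K' := σ.toAlgebra
  letI : Algebra R K' := (σ.comp (algebraMap R K)).toAlgebra
  haveI : IsScalarTower R K K' := IsScalarTower.of_algebraMap_eq (fun _ => rfl)
  let K₁ : IntermediateField K K' := IntermediateField.adjoin K (C : Set K')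
  haveI : FiniteDimensional K K₁ :=
    IntermediateField.finiteDimensional_adjoin (fun c hc => hC c hc)
  have hfin : Module.Finite R (integralClosure R K₁) := hN2 K₁ inferInstance
  haveI : IsScalarTower R K₁ K' := IsScalarTower.of_algebraMap_eq (fun r => rfl)
  obtain ⟨s, hs⟩ := hfin.fg_top
  refine ⟨K₁.toSubfield, s, inferInstance,
    fun i => (((i : integralClosure R K₁) : K₁) : K'), ?_, ?_, ?_, ?_⟩
  · intro a
    exact K₁.algebraMap_mem a
  · intro c hc
    exact IntermediateField.subset_adjoin K _ hc
  · intro i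
    have h1 : IsIntegral R ((i : integralClosure R K₁) : K₁) := (i : integralClosure R K₁).2
    exact h1.map (IsScalarTower.toAlgHom R K₁ K')
  · intro z hz hint
    have hz' : IsIntegral R (⟨z, hz⟩ : K₁) :=
      (isIntegral_algebraMap_iff (B := K') (algebraMap K₁ K').injective).mp hint
    have hmem : (⟨⟨z, hz⟩, hz'⟩ : integralClosure R K₁) ∈ Submodule.span R (s : Set _) :=
      hs ▸ Submodule.mem_top
    rw [Submodule.mem_span_finset] at hmem
    obtain ⟨f, -, hf⟩ := hmem
    refine ⟨fun i => f i, ?_⟩
    have h2 := congrArg (fun x : integralClosure R K₁ => ((x : K₁) : K')) hf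
    simp only at h2
    rw [← h2, ← Finset.sum_coe_sort s]
    simp only [AddSubmonoidClass.coe_finsetSum]
    refine Finset.sum_congr rfl fun i _ => ?_
    show ((f i • ((i : integralClosure R K₁) : K₁) : K₁) : K') = _
    rw [Algebra.smul_def, IntermediateField.coe_mul]
    rfl

theorem poly_explicit (R : Type u) [CommRing R] [IsDomain R] [IsNoetherianRing R]
    [IsIntegrallyClosed R] (hN2 : CAlg.IsN2 R) (p : ℕ) [hp : Fact p.Prime] [CharP R p]
    (e m : ℕ) (g : Fin m → R[X]) :
    ∃ (ι : Type u) (_ : Fintype ι) (n : ι → R[X]),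
      ∀ (t d : R[X]) (s : Fin m → R[X]), d ≠ 0 →
        d ^ (p ^ e) * t = ∑ j, s j ^ (p ^ e) * g j →
        ∃ f : ι → R[X], t = ∑ i, f i ^ (p ^ e) * n i := by
  classical
  let K := FractionRing R
  haveI : CharP K p := charP_of_injective_algebraMap (IsFractionRing.injective R K) p
  haveI : ExpChar K p := ExpChar.prime hp.out
  haveI : ExpChar R p := ExpChar.prime hp.out
  haveI : ExpChar R[X] p := ExpChar.prime hp.out
  have hq0 : p ^ e ≠ 0 := pow_ne_zero _ hp.out.ne_zero
  let σ : K →+* K := iterateFrobenius K p e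
  let ψ : R →+* K := algebraMap R K
  have hψinj : Function.Injective ψ := IsFractionRing.injective R K
  let C : Finset K := (Finset.univ.biUnion (fun j => (g j).coeffs)).image ψ
  have hC : ∀ c ∈ C, σ.IsIntegralElem c := by
    intro c _
    refine ⟨X ^ (p ^ e) - Polynomial.C c, monic_X_pow_sub_C c hq0, ?_⟩
    simp [eval₂_sub, eval₂_pow, σ, iterateFrobenius_def]
  obtain ⟨K₁, ι, _, τ, hσK₁, hCK₁, hτint, hgen⟩ := exists_subfield_finite R hN2 K σ C hC
  have hint_mem : ∀ z : K, (σ.comp ψ).IsIntegralElem z → ∃ r : R, ψ r = z := by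
    rintro z ⟨P, hPm, hP⟩
    have h1 : IsIntegral R z := by
      refine ⟨P.map (iterateFrobenius R p e), hPm.map _, ?_⟩
      rw [eval₂_map]
      have h2 : (algebraMap R K).comp (iterateFrobenius R p e) = σ.comp ψ := by
        ext r
        simp [σ, ψ, iterateFrobenius_def]
      rw [h2]
      exact hP
    exact IsIntegrallyClosed.isIntegral_iff.mp h1
  have hτ : ∀ i, ∃ c : R, ψ c = τ i := fun i => hint_mem _ (hτint i)
  choose c hc using hτ
  have hR₁ : ∀ r : R, ∃ ρ : ι → R, ψ r ∈ K₁ → r = ∑ i, ρ i ^ (p ^ e) * c i := by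
    intro r
    by_cases hr : ψ r ∈ K₁
    · have hint : (σ.comp ψ).IsIntegralElem (ψ r) := by
        refine ⟨X ^ (p ^ e) - Polynomial.C r, monic_X_pow_sub_C r hq0, ?_⟩
        simp [eval₂_sub, eval₂_pow, σ, iterateFrobenius_def]
      obtain ⟨ρ, hρ⟩ := hgen _ hr hint
      refine ⟨ρ, fun _ => ?_⟩
      apply hψinj
      rw [hρ, map_sum]
      refine Finset.sum_congr rfl fun i _ => ?_
      rw [map_mul, map_pow, hc i]
      rfl
    · exact ⟨0, fun h => absurd h hr⟩
  choose ρ hρ using hR₁
  refine ⟨ι × Fin (p ^ e), inferInstance,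
    fun ik => Polynomial.C (c ik.1) * X ^ (ik.2 : ℕ), ?_⟩
  intro t d s hd hrel
  -- Step a: coefficients of `t` lie in `K₁`
  have hcoef : ∀ k, ψ (t.coeff k) ∈ K₁ := by
    let j : K₁ →+* K := K₁.subtype
    have hrange : ∀ z : K, z ∈ Set.range j ↔ z ∈ K₁ := by
      intro z
      simp [j]
    have hpowlift : ∀ f : K[X], f ^ (p ^ e) ∈ lifts j := by
      intro f
      rw [← map_iterateFrobenius_expand, lifts_iff_coeff_lifts]
      intro k
      rw [coeff_map, hrange]
      exact hσK₁ _
    have hmaplift : ∀ j' : Fin m, (g j').map ψ ∈ lifts j := by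
      intro j'
      rw [lifts_iff_coeff_lifts]
      intro k
      rw [coeff_map, hrange]
      by_cases h0 : (g j').coeff k = 0
      · rw [h0, map_zero]
        exact zero_mem _
      · apply hCK₁
        refine Finset.mem_image_of_mem _ (Finset.mem_biUnion.mpr ⟨j', Finset.mem_univ _, ?_⟩)
        exact coeff_mem_coeffs h0
    have hrelK : (d.map ψ) ^ (p ^ e) * t.map ψ =
        ∑ j', (s j').map ψ ^ (p ^ e) * (g j').map ψ := by
      have h1 := congrArg (Polynomial.map ψ) hrel
      simpa [Polynomial.map_mul, Polynomial.map_pow, Polynomial.map_sum] using h1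
    have hu : (∑ j', (s j').map ψ ^ (p ^ e) * (g j').map ψ) ∈ lifts j :=
      Subsemiring.sum_mem _ fun j' _ => Subsemiring.mul_mem _ (hpowlift _) (hmaplift _)
    obtain ⟨u₁, hu₁⟩ := (mem_lifts _).mp hu
    obtain ⟨d₁, hd₁⟩ := (mem_lifts _).mp (hpowlift (d.map ψ))
    have hdK : (d.map ψ) ^ (p ^ e) ≠ 0 :=
      pow_ne_zero _ ((Polynomial.map_ne_zero_iff hψinj).mpr hd)
    have ht : t.map ψ = (u₁ / d₁).map j := by
      rw [Polynomial.map_div, hu₁, hd₁, ← hrelK, mul_div_cancel_left₀ _ hdK]
    intro k
    have h1 := congrArg (fun P => P.coeff k) ht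
    simp only [coeff_map] at h1
    rw [h1]
    exact ((u₁ / d₁).coeff k).2
  -- Step c
  let N : AddSubmonoid R[X] :=
    { carrier := {t | ∃ f : ι × Fin (p ^ e) → R[X],
        t = ∑ ik, f ik ^ (p ^ e) * (Polynomial.C (c ik.1) * X ^ (ik.2 : ℕ))}
      add_mem' := by
        rintro a b ⟨f, rfl⟩ ⟨f', rfl⟩
        refine ⟨f + f', ?_⟩
        rw [← Finset.sum_add_distrib]
        refine Finset.sum_congr rfl fun ik _ => ?_
        rw [Pi.add_apply, add_pow_expChar_pow, add_mul]
      zero_mem' := ⟨0, by simp [zero_pow hq0]⟩ }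
  have hmono : ∀ (k : ℕ) (r : R), ψ r ∈ K₁ → monomial k r ∈ N := by
    intro k r hr
    have hr' := hρ r hr
    refine ⟨fun ik => if (ik.2 : ℕ) = k % (p ^ e) then
      monomial (k / (p ^ e)) (ρ r ik.1) else 0, ?_⟩
    rw [Fintype.sum_prod_type]
    have h1 : ∀ i, ∑ k' : Fin (p ^ e), (if (k' : ℕ) = k % p ^ e then
        monomial (k / p ^ e) (ρ r i) else 0) ^ (p ^ e) *
          (Polynomial.C (c i) * X ^ (k' : ℕ)) = monomial k (ρ r i ^ (p ^ e) * c i) := by
      intro i
      rw [Finset.sum_eq_single (⟨k % p ^ e, Nat.mod_lt _ (Nat.pos_of_ne_zero hq0)⟩ :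
        Fin (p ^ e))]
      · rw [if_pos rfl, monomial_pow, C_mul_X_pow_eq_monomial, monomial_mul_monomial,
          Nat.div_add_mod']
      · intro b _ hb
        rw [if_neg, zero_pow hq0, zero_mul]
        intro h
        apply hb
        exact Fin.ext h
      · intro h
        exact absurd (Finset.mem_univ _) h
    simp_rw [h1]
    rw [← map_sum, ← hr']
  have htN : t ∈ N := by
    rw [← sum_monomial_eq t, sum_def]
    exact sum_mem fun k _ => hmono k _ (hcoef k)
  exact htN

/-- Polynomial rings over normal Noetherian N-2 domains of characteristic `p` are N-2. -/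
theorem isN2_polynomial_of_normal (R : Type u) [CommRing R] [IsDomain R] [IsNoetherianRing R]
    [IsIntegrallyClosed R] (hN2 : CAlg.IsN2 R) (p : ℕ) [hp : Fact p.Prime] [CharP R p] :
    CAlg.IsN2 R[X] := by
  apply Groth.Agent.Helper7.PIN2.main
  intro L _ _ _ _ hfd hpi
  haveI := hfd
  haveI := hpi
  exact finite_integralClosure_purelyInseparable R[X] p
    (fun e m g => poly_explicit R hN2 p e m g) L

theorem map_injective_of_injective {R A : Type*} [CommRing R] [CommRing A] [Algebra R A]
    (h : Function.Injective (algebraMap R A)) :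
    letI := (Polynomial.mapRingHom (algebraMap R A)).toAlgebra
    Function.Injective (algebraMap R[X] A[X]) :=
  Polynomial.map_injective _ h

/-- Polynomial rings over Noetherian N-2 domains are N-2. -/
theorem isN2_polynomial (R : Type u) [CommRing R] [IsDomain R] [IsNoetherianRing R]
    (h : CAlg.IsN2 R) : CAlg.IsN2 R[X] := by
  have hN1 : CAlg.IsN1 R := h (FractionRing R) inferInstance
  obtain ⟨p, hp⟩ := CharP.exists R
  rcases CharP.char_is_prime_or_zero R p with hpp | hp0
  · haveI : Fact p.Prime := ⟨hpp⟩
    let K := FractionRing R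
    let R' := integralClosure R K
    haveI : Module.Finite R R' := hN1
    haveI : IsNoetherianRing R' := IsNoetherianRing.of_finite R R'
    haveI : IsIntegrallyClosed R' := integralClosure.isIntegrallyClosedOfFiniteExtension K
    have hinj : Function.Injective (algebraMap R R') := by
      intro x y hxy
      apply IsFractionRing.injective R K
      exact congrArg Subtype.val hxy
    have hR' : CAlg.IsN2 R' := Groth.Agent.Helper7.QFN2.main hinj h
    haveI : CharP R' p := charP_of_injective_algebraMap hinj p
    have hP' : CAlg.IsN2 R'[X] := isN2_polynomial_of_normal R' hR' p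
    letI : Algebra R[X] R'[X] := (Polynomial.mapRingHom (algebraMap R R')).toAlgebra
    haveI : Module.Finite R[X] R'[X] := finite_polynomial R R'
    exact Groth.Agent.Helper7.PSN2.isN2_of_finite_injective
      (map_injective_of_injective hinj) hP'
  · subst hp0
    haveI : CharZero R := CharP.charP_to_charZero R
    exact (Groth.Agent.S0574.result R[X]).mp (isN1_polynomial R hN1)

theorem s0570 (R : Type u) [CommRing R] [IsDomain R] [IsNoetherianRing R] :
    (CAlg.IsN1 R → CAlg.IsN1 (Polynomial R)) ∧ (CAlg.IsN2 R → CAlg.IsN2 (Polynomial R)) :=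
  ⟨isN1_polynomial R, isN2_polynomial R⟩

end Groth.Agent.Helper7.PolyN
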