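import Mathlib
import Groth.Prelude.Def_Found
import Groth.Agent.Lib.Helper7.Mono
import Groth.Agent.Lib.Helper7.PolyN
import Groth.Agent.Lib.Helper7.ComplN2

/-!
# Helper7: finite type algebras over Nagata rings are Nagata (Stacks 0334)
-/

universe u
namespace Groth.Agent.Helper7.Mono
open Polynomial IsLocalRing TensorProduct

set_option linter.style.haveILetI false
set_option linter.unusedSectionVars false
set_option linter.unusedVariables false

/-- If `T = D[x]` with `x` algebraic over the domain `D`, then `Frac T` is finite over `Frac D`. -/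
theorem finite_fractionRing_of_isAlgebraic {D T : Type u} [CommRing D] [IsDomain D] [CommRing T]
    [IsDomain T] [Algebra D T] (x : T) (hx : Algebra.adjoin D {x} = ⊤) (halg : IsAlgebraic D x)
    (KD KT : Type u) [Field KD] [Field KT] [Algebra D KD] [IsFractionRing D KD] [Algebra T KT]
    [IsFractionRing T KT] [Algebra D KT] [IsScalarTower D T KT] [Algebra KD KT]
    [IsScalarTower D KD KT] : Module.Finite KD KT := by
  let xT : KT := algebraMap T KT x
  have halg' : IsAlgebraic KD xT := by
    have h1 : IsAlgebraic D xT := halg.algebraMap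
    exact h1.extendScalars (IsFractionRing.injective D KD)
  let E : IntermediateField KD KT := IntermediateField.adjoin KD {xT}
  haveI : FiniteDimensional KD E := IntermediateField.adjoin.finiteDimensional halg'.isIntegral
  have hT : ∀ t : T, algebraMap T KT t ∈ E := by
    intro t
    have ht : t ∈ Algebra.adjoin D {x} := hx ▸ Algebra.mem_top
    induction ht using Algebra.adjoin_induction with
    | mem y hy =>
      rw [Set.mem_singleton_iff.mp hy]
      exact IntermediateField.subset_adjoin KD {xT} (Set.mem_singleton _)
    | algebraMap d =>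
      rw [← IsScalarTower.algebraMap_apply D T KT, IsScalarTower.algebraMap_apply D KD KT]
      exact E.algebraMap_mem _
    | add a b _ _ ha hb =>
      rw [map_add]
      exact E.add_mem ha hb
    | mul a b _ _ ha hb =>
      rw [map_mul]
      exact E.mul_mem ha hb
  have htop : E = ⊤ := by
    rw [eq_top_iff]
    rintro y -
    obtain ⟨a, b, _, rfl⟩ := IsFractionRing.div_surjective (A := T) y
    exact E.div_mem (hT a) (hT b)
  rw [htop] at this
  exact Module.Finite.equiv (IntermediateField.topEquiv (F := KD) (E := KT)).toLinearEquiv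

/-- **Monogenic extensions**: a domain generated by one element over a Nagata domain is N-2. -/
theorem isN2_of_monogenic {D T : Type u} [CommRing D] [IsDomain D] (hD : CAlg.IsNagata D)
    [CommRing T] [IsDomain T] [Algebra D T] (hinj : Function.Injective (algebraMap D T))
    (x : T) (hx : Algebra.adjoin D {x} = ⊤) : CAlg.IsN2 T := by
  classical
  haveI := hD.1
  haveI : Algebra.FiniteType D T := ⟨⟨{x}, by rw [Finset.coe_singleton]; exact hx⟩⟩
  haveI : IsNoetherianRing T := Algebra.FiniteType.isNoetherianRing D T
  have hDN2 : CAlg.IsN2 D := isN2_of_isNagata hD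
  by_cases htr : Transcendental D x
  · have hinj' : Function.Injective (aeval x : D[X] →ₐ[D] T) := transcendental_iff_injective.mp htr
    have hsurj : Function.Surjective (aeval x : D[X] →ₐ[D] T) := by
      intro t
      have ht : t ∈ Algebra.adjoin D {x} := hx ▸ Algebra.mem_top
      rw [Algebra.adjoin_singleton_eq_range_aeval] at ht
      exact ht
    let e : D[X] ≃+* T := RingEquiv.ofBijective (aeval x : D[X] →ₐ[D] T) ⟨hinj', hsurj⟩
    exact Groth.Agent.Helper7.TatePS.isN2_of_ringEquiv e
      (Groth.Agent.Helper7.PolyN.isN2_polynomial D hDN2)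
  · have halg : IsAlgebraic D x := not_not.mp htr
    intro M _ _ _ _ hfd
    let KD := FractionRing D
    let KT := FractionRing T
    haveI : FaithfulSMul D T := (faithfulSMul_iff_algebraMap_injective D T).mpr hinj
    haveI : FaithfulSMul D KT := by
      rw [faithfulSMul_iff_algebraMap_injective, IsScalarTower.algebraMap_eq D T KT]
      exact (IsFractionRing.injective T KT).comp hinj
    letI : Algebra KD KT := FractionRing.liftAlgebra D KT
    haveI : IsScalarTower D KD KT := FractionRing.isScalarTower_liftAlgebra D KT
    haveI : Module.Finite KD KT := finite_fractionRing_of_isAlgebraic x hx halg KD KT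
    letI : Algebra D M := ((algebraMap T M).comp (algebraMap D T)).toAlgebra
    haveI : IsScalarTower D T M := IsScalarTower.of_algebraMap_eq (fun _ => rfl)
    letI : Algebra KD M := ((algebraMap KT M).comp (algebraMap KD KT)).toAlgebra
    haveI : IsScalarTower KD KT M := IsScalarTower.of_algebraMap_eq (fun _ => rfl)
    haveI : IsScalarTower D KD M := IsScalarTower.of_algebraMap_eq (fun d => by
      show algebraMap T M (algebraMap D T d) = algebraMap KT M (algebraMap KD KT (algebraMap D KD d))
      rw [← IsScalarTower.algebraMap_apply D KD KT, IsScalarTower.algebraMap_apply D T KT,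
        ← IsScalarTower.algebraMap_apply T KT M])
    haveI : Module.Finite KT M := hfd
    haveI : FiniteDimensional KD M := Module.Finite.trans KT M
    let D' := integralClosure D M
    haveI : Module.Finite D D' := hDN2 M inferInstance
    haveI : IsIntegrallyClosed D' := integralClosure.isIntegrallyClosedOfFiniteExtension KD
    haveI : IsFractionRing D' M := integralClosure.isFractionRing_of_finite_extension KD M
    have hD' : CAlg.IsNagata D' := Groth.Agent.Helper7.NagAU2.isNagata_of_finite D hD D'
    let Φ : T ⊗[D] D' →ₐ[T] M :=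
      Algebra.TensorProduct.productLeftAlgHom (Algebra.ofId T M) D'.val
    let S' : Subalgebra T M := Φ.range
    haveI : Module.Finite T S' := by
      haveI : Module.Finite T (T ⊗[D] D') := Module.Finite.base_change D T D'
      exact Module.Finite.range Φ.toLinearMap
    haveI : IsNoetherianRing S' := Algebra.FiniteType.isNoetherianRing T S'
    have hΦ : ∀ (s : T) (r' : D'), Φ (s ⊗ₜ r') = algebraMap T M s * (r' : M) := by
      intro s r'
      simp [Φ]
    have hD'S' : ∀ r' : D', (r' : M) ∈ S' := fun r' => ⟨1 ⊗ₜ r', by
      rw [AlgHom.toRingHom_eq_coe, RingHom.coe_coe, hΦ, map_one, one_mul]⟩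
    let ρ : D' →+* S' := (D'.val.toRingHom).codRestrict S' hD'S'
    letI : Algebra D' S' := ρ.toAlgebra
    haveI : IsScalarTower D' S' M := IsScalarTower.of_algebraMap_eq (fun _ => rfl)
    have hS'M : Function.Injective (algebraMap S' M) := Subtype.val_injective
    let x' : S' := algebraMap T S' x
    have hSmem : ∀ s : T, algebraMap T S' s ∈ Algebra.adjoin D' {x'} := by
      intro s
      have hs : s ∈ Algebra.adjoin D {x} := hx ▸ Algebra.mem_top
      induction hs using Algebra.adjoin_induction with
      | mem y hy =>
        rw [Set.mem_singleton_iff.mp hy]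
        exact Algebra.subset_adjoin (Set.mem_singleton _)
      | algebraMap r =>
        have h1 : algebraMap T S' (algebraMap D T r) = algebraMap D' S' (algebraMap D D' r) := by
          apply hS'M
          rw [← IsScalarTower.algebraMap_apply T S' M, ← IsScalarTower.algebraMap_apply D' S' M,
            ← IsScalarTower.algebraMap_apply D T M]
          rfl
        rw [h1]
        exact Subalgebra.algebraMap_mem _ _
      | add a b _ _ ha hb =>
        rw [map_add]
        exact Subalgebra.add_mem _ ha hb
      | mul a b _ _ ha hb =>
        rw [map_mul]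
        exact Subalgebra.mul_mem _ ha hb
    have hx'adj : Algebra.adjoin D' {x'} = ⊤ := by
      rw [eq_top_iff]
      rintro ⟨y₀, t, ht⟩ -
      have key : ∀ t : T ⊗[D] D', ∃ y ∈ Algebra.adjoin D' {x'}, ((y : S') : M) = Φ t := by
        intro t
        induction t using TensorProduct.induction_on with
        | zero => exact ⟨0, Subalgebra.zero_mem _, by rw [map_zero]; rfl⟩
        | tmul s r' =>
          refine ⟨algebraMap T S' s * algebraMap D' S' r',
            Subalgebra.mul_mem _ (hSmem s) (Subalgebra.algebraMap_mem _ _), ?_⟩
          rw [hΦ]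
          rfl
        | add a b ha hb =>
          obtain ⟨ya, hya, hya'⟩ := ha
          obtain ⟨yb, hyb, hyb'⟩ := hb
          refine ⟨ya + yb, Subalgebra.add_mem _ hya hyb, ?_⟩
          rw [map_add, ← hya', ← hyb']
          rfl
      obtain ⟨y, hy, hy'⟩ := key t
      have : y = ⟨y₀, t, ht⟩ := Subtype.ext (hy'.trans ht)
      rw [← this]
      exact hy
    have hfin : Module.Finite S' (integralClosure S' M) :=
      finite_integralClosure_of_monogenic (R := D') (K := M) (S := S') hD' hS'M x' hx'adj
    exact Groth.Agent.Helper7.NagAU2.finite_integralClosure_of_finite_tower T S' M hfin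

/-- The polynomial ring over a Nagata ring is Nagata. -/
theorem isNagata_polynomial (R : Type u) [CommRing R] (hR : CAlg.IsNagata R) :
    CAlg.IsNagata R[X] := by
  haveI := hR.1
  refine ⟨inferInstance, fun q _ => ?_⟩
  haveI : (q.comap (algebraMap R R[X])).IsPrime := Ideal.comap_isPrime _ q
  have hD : CAlg.IsNagata (R ⧸ q.comap (algebraMap R R[X])) :=
    Groth.Agent.Helper7.NagAU2.isNagata_of_finite R hR _
  refine isN2_of_monogenic (D := R ⧸ q.comap (algebraMap R R[X])) (T := R[X] ⧸ q) hD
    Ideal.algebraMap_quotient_injective (Ideal.Quotient.mk q X) ?_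
  rw [eq_top_iff]
  rintro t -
  obtain ⟨P, rfl⟩ := Ideal.Quotient.mk_surjective t
  induction P using Polynomial.induction_on with
  | C a =>
    have h1 : Ideal.Quotient.mk q (C a) =
        algebraMap (R ⧸ q.comap (algebraMap R R[X])) (R[X] ⧸ q) (Ideal.Quotient.mk _ a) := rfl
    rw [h1]
    exact Subalgebra.algebraMap_mem _ _
  | add p₁ p₂ h₁ h₂ =>
    rw [map_add]
    exact Subalgebra.add_mem _ h₁ h₂
  | monomial n a h =>
    rw [pow_succ, ← mul_assoc, map_mul]
    exact Subalgebra.mul_mem _ h (Algebra.subset_adjoin (Set.mem_singleton _))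

theorem isNagata_mvPolynomial (R : Type u) [CommRing R] (hR : CAlg.IsNagata R) (n : ℕ) :
    CAlg.IsNagata (MvPolynomial (Fin n) R) := by
  induction n with
  | zero =>
    exact isNagata_of_ringEquiv (MvPolynomial.isEmptyRingEquiv R (Fin 0)).symm hR
  | succ n ih =>
    exact isNagata_of_ringEquiv (MvPolynomial.finSuccEquiv R n).symm.toRingEquiv
      (isNagata_polynomial _ ih)

/-- **Stacks 0334**: finite type algebras over Nagata rings are Nagata. -/
theorem s0566 (R : Type u) [CommRing R] (hR : CAlg.IsNagata R) (S : Type u)
    [CommRing S] [Algebra R S] [Algebra.FiniteType R S] : CAlg.IsNagata S := by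
  obtain ⟨n, f, hf⟩ := Algebra.FiniteType.iff_quotient_mvPolynomial''.mp
    (inferInstance : Algebra.FiniteType R S)
  letI : Algebra (MvPolynomial (Fin n) R) S := f.toRingHom.toAlgebra
  haveI : Module.Finite (MvPolynomial (Fin n) R) S :=
    Module.Finite.of_surjective (Algebra.linearMap (MvPolynomial (Fin n) R) S) hf
  exact Groth.Agent.Helper7.NagAU2.isNagata_of_finite _ (isNagata_mvPolynomial R hR n) S

theorem s0567 (R : Type u) [CommRing R] :
    CAlg.IsNagata R ↔ (IsNoetherianRing R ∧ CAlg.IsUniversallyJapanese R) := by
  constructor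
  · intro hR
    refine ⟨hR.1, ?_⟩
    intro S _ _ _ hft
    haveI := hft
    exact isN2_of_isNagata (s0566 R hR S)
  · rintro ⟨hN, hUJ⟩
    refine ⟨hN, fun p _ => ?_⟩
    exact hUJ (R ⧸ p) inferInstance

theorem isNagata_of_isField (k : Type u) [Field k] : CAlg.IsNagata k := by
  refine ⟨inferInstance, fun p hp => ?_⟩
  exact Groth.Agent.Helper7.ComplN2.isN2_of_isField (k ⧸ p)
    (Ideal.Quotient.maximal_ideal_iff_isField_quotient p |>.mp
      (by
        have : p = ⊥ := (Ideal.eq_bot_or_top p).resolve_right hp.ne_top
        rw [this]
        exact Ideal.bot_isMaximal))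

theorem s10862 (k A K L : Type u) [Field k] [CommRing A] [IsDomain A]
    [Algebra k A] [Algebra.FiniteType k A] [Field K] [Field L] [Algebra A K] [IsFractionRing A K]
    [Algebra K L] [FiniteDimensional K L] [Algebra A L] [IsScalarTower A K L] :
    Module.Finite A (integralClosure A L) :=
  finite_integralClosure_of_isN2 (isN2_of_isNagata (s0566 k (isNagata_of_isField k) A)) K L

end Groth.Agent.Helper7.Mono
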