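import Mathlib
universe u
open AlgebraicGeometry CategoryTheory CategoryTheory.Limits

namespace Groth.Agent.Helper7.FinBir

/-- the stalk at a point equal to the generic point is the fraction field of any affine open
containing it -/
theorem isFractionRing_stalk_of_eq_genericPoint {Y : Scheme.{u}} [IsIntegral Y] (U : Y.Opens)
    (hU : IsAffineOpen U) (y : Y) (hy : y = genericPoint Y) (hyU : y ∈ U) :
    letI := (Y.presheaf.germ U y hyU).hom.toAlgebra
    IsFractionRing Γ(Y, U) (Y.presheaf.stalk y) := by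
  subst hy
  have : Nonempty U := ⟨⟨_, hyU⟩⟩
  exact functionField_isFractionRing_of_isAffineOpen (X := Y) U hU

/-- sections over an affine open of an integral scheme with integrally closed stalks are
integrally closed -/
theorem isIntegrallyClosed_of_stalk {Y : Scheme.{u}} [IsIntegral Y]
    (hN : ∀ y : Y, IsIntegrallyClosed (Y.presheaf.stalk y)) (U : Y.Opens) (hU : IsAffineOpen U)
    [Nonempty U] : IsIntegrallyClosed Γ(Y, U) := by
  let Rp : ∀ (P : Ideal Γ(Y, U)) [P.IsMaximal], Type u := fun P _ =>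
    Y.presheaf.stalk (hU.fromSpec ⟨P, inferInstance⟩)
  have hmem : ∀ (P : Ideal Γ(Y, U)) [P.IsMaximal], hU.fromSpec ⟨P, inferInstance⟩ ∈ U := by
    intro P _
    have := hU.range_fromSpec
    have h2 : hU.fromSpec ⟨P, inferInstance⟩ ∈ Set.range hU.fromSpec := ⟨_, rfl⟩
    rw [this] at h2
    exact h2
  let i1 : ∀ (P : Ideal Γ(Y, U)) [P.IsMaximal], CommRing (Rp P) := fun P _ => inferInstance
  let i2 : ∀ (P : Ideal Γ(Y, U)) [P.IsMaximal], Algebra Γ(Y, U) (Rp P) := fun P _ =>
    TopCat.Presheaf.algebra_section_stalk Y.presheaf ⟨hU.fromSpec ⟨P, inferInstance⟩, hmem P⟩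
  have i3 : ∀ (P : Ideal Γ(Y, U)) [P.IsMaximal], @IsLocalization.AtPrime _ _ (Rp P)
      (i1 P).toCommSemiring (i2 P) P _ :=
    fun P _ => hU.isLocalization_stalk' ⟨P, inferInstance⟩ (hmem P)
  exact @IsIntegrallyClosed.of_isLocalization_maximal _ _ Rp i1 i2 i3 _ (fun P _ => hN _)

theorem bijective_app_of_finite_birational {Y' Y : Scheme.{u}} [IsIntegral Y'] [IsIntegral Y]
    (hN : ∀ y : Y, IsIntegrallyClosed (Y.presheaf.stalk y)) (f : Y' ⟶ Y) [IsFinite f]
    (hgen : f (genericPoint Y') = genericPoint Y)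
    (hbir : IsIso (f.stalkMap (genericPoint Y'))) (U : Y.Opens) (hU : IsAffineOpen U)
    [Nonempty U] : Function.Bijective (f.app U).hom := by
  have hηU : f (genericPoint Y') ∈ U := by
    rw [hgen]
    exact ((genericPoint_spec Y).mem_open_set_iff U.isOpen).mpr (by simpa using ‹Nonempty U›)
  let σ := f.stalkMap (genericPoint Y')
  have hσ : Function.Bijective σ.hom := ConcreteCategory.bijective_of_isIso σ
  let gA := Y.presheaf.germ U (f (genericPoint Y')) hηU
  let gB := Y'.presheaf.germ (f ⁻¹ᵁ U) (genericPoint Y') hηU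
  have hrel : ∀ a, σ.hom (gA.hom a) = gB.hom ((f.app U).hom a) := fun a =>
    Scheme.Hom.germ_stalkMap_apply f U (genericPoint Y') hηU a
  have hgA : Function.Injective gA.hom := germ_injective_of_isIntegral Y _ hηU
  have hgB : Function.Injective gB.hom := germ_injective_of_isIntegral Y' _ hηU
  let _ := gA.hom.toAlgebra
  have hfr : IsFractionRing Γ(Y, U) (Y.presheaf.stalk (f (genericPoint Y'))) :=
    isFractionRing_stalk_of_eq_genericPoint U hU _ hgen hηU
  have hic : IsIntegrallyClosed Γ(Y, U) := isIntegrallyClosed_of_stalk hN U hU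
  have halg : ∀ a, algebraMap Γ(Y, U) (Y.presheaf.stalk (f (genericPoint Y'))) a = gA.hom a :=
    fun a => rfl
  constructor
  · intro a a' haa
    apply hgA
    apply hσ.injective
    rw [hrel, hrel, haa]
  · intro b
    obtain ⟨k, hk⟩ := hσ.surjective (gB.hom b)
    have hfin : (f.app U).hom.Finite := IsFinite.finite_app f U hU
    obtain ⟨p, hp, hpb⟩ := hfin.to_isIntegral b
    have hkint : IsIntegral Γ(Y, U) k := by
      refine ⟨p, hp, ?_⟩
      apply hσ.injective
      rw [map_zero, Polynomial.hom_eval₂, hk]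
      have : σ.hom.comp (algebraMap Γ(Y, U) (Y.presheaf.stalk (f (genericPoint Y')))) =
          gB.hom.comp (f.app U).hom := by
        ext a
        exact hrel a
      rw [this, ← Polynomial.hom_eval₂, hpb, map_zero]
    obtain ⟨a, ha⟩ := IsIntegrallyClosed.algebraMap_eq_of_integral hkint
    refine ⟨a, ?_⟩
    apply hgB
    rw [← hrel, ← halg, ha, hk]

theorem isIso_of_finite_birational {Y' Y : Scheme.{u}} [IsIntegral Y'] [IsIntegral Y]
    (hN : ∀ y : Y, IsIntegrallyClosed (Y.presheaf.stalk y)) (f : Y' ⟶ Y) [IsFinite f]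
    (hgen : f (genericPoint Y') = genericPoint Y)
    (hbir : IsIso (f.stalkMap (genericPoint Y'))) : IsIso f := by
  rw [← MorphismProperty.isomorphisms.iff]
  apply (IsZariskiLocalAtTarget.iff_of_iSup_eq_top (P := MorphismProperty.isomorphisms Scheme)
    (fun y : Y => (Y.affineCover.f (Y.affineCover.idx y)).opensRange)
    (eq_top_iff.2 fun y _ => TopologicalSpace.Opens.mem_iSup.2 ⟨y, Y.affineCover.covers y⟩)).2
  intro y
  have hU : IsAffineOpen (Y.affineCover.f (Y.affineCover.idx y)).opensRange :=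
    isAffineOpen_opensRange _
  have : Nonempty (Y.affineCover.f (Y.affineCover.idx y)).opensRange :=
    ⟨⟨y, Y.affineCover.covers y⟩⟩
  rw [MorphismProperty.isomorphisms.iff, isIso_morphismRestrict_iff_isIso_app f hU]
  rw [ConcreteCategory.isIso_iff_bijective]
  exact bijective_app_of_finite_birational hN f hgen hbir _ hU

end Groth.Agent.Helper7.FinBir
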