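import Mathlib
open AlgebraicGeometry CategoryTheory CategoryTheory.Limits TensorProduct
universe u
namespace Groth.Agent.Helper7

lemma geometricallyReduced_comp_of_isOpenImmersion {U X Y : Scheme.{u}} (j : U ⟶ X)
    [IsOpenImmersion j] (f : X ⟶ Y) [GeometricallyReduced f] : GeometricallyReduced (j ≫ f) := by
  constructor
  intro K _ y Z fst snd h
  have hP : IsReduced (pullback f y) :=
    GeometricallyReduced.geometrically_isReduced (f := f) y _ _ (.of_hasPullback _ _)
  let l : Z ⟶ pullback f y := pullback.lift (fst ≫ j) snd (by rw [Category.assoc, h.w])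
  have h1 : l ≫ pullback.fst f y = fst ≫ j := pullback.lift_fst _ _ _
  have h2 : l ≫ pullback.snd f y = snd := pullback.lift_snd _ _ _
  have hbig : IsPullback (l ≫ pullback.snd f y) fst y (j ≫ f) := by
    rw [h2]; exact h.flip
  have hsq : IsPullback l fst (pullback.fst f y) j :=
    IsPullback.of_right hbig h1 (IsPullback.of_hasPullback f y).flip
  have : IsOpenImmersion l := MorphismProperty.of_isPullback hsq.flip inferInstance
  exact isReduced_of_isOpenImmersion l

theorem isReduced_tensor_of_geometricallyReduced {k A C : Type u} [Field k] [CommRing A]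
    [CommRing C] [Algebra k A] [Algebra k C]
    (hA : GeometricallyReduced (Spec.map (CommRingCat.ofHom (algebraMap k A)))) [IsReduced C] :
    IsReduced (A ⊗[k] C) := by
  apply IsReduced.tensorProduct_of_flat_of_forall_fg
  intro C₀ hC₀
  have : IsReduced C₀ := isReduced_of_injective C₀.val Subtype.val_injective
  have : Algebra.FiniteType k C₀ := (Subalgebra.fg_iff_finiteType C₀).mp hC₀
  have : IsNoetherianRing C₀ := Algebra.FiniteType.isNoetherianRing k C₀
  have hflat : Flat (Spec.map (CommRingCat.ofHom (algebraMap k A))) := by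
    rw [HasRingHomProperty.Spec_iff (P := @Flat)]
    exact (RingHom.flat_algebraMap_iff).mpr inferInstance
  have hred : IsReduced (pullback (Spec.map (CommRingCat.ofHom (algebraMap k A)))
      (Spec.map (CommRingCat.ofHom (algebraMap k C₀)))) := inferInstance
  have : IsReduced (Spec (.of (A ⊗[k] C₀))) :=
    isReduced_of_isOpenImmersion (pullbackSpecIso k A C₀).inv
  exact (affine_isReduced_iff _).mp this


theorem isReduced_pullback_of_geometricallyReduced_of_isReduced {k : Type u} [Field k]
    {X S : Scheme.{u}} (f : X ⟶ Spec (CommRingCat.of k)) (g : S ⟶ Spec (CommRingCat.of k))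
    [GeometricallyReduced f] [IsReduced S] : IsReduced (pullback f g) := by
  let 𝒰 := X.affineOpenCover
  let 𝒱 := S.affineOpenCover
  let 𝒲 := Scheme.Pullback.openCoverOfLeftRight 𝒰.openCover 𝒱.openCover f g
  have : ∀ ij, IsReduced (𝒲.X ij) := by
    rintro ⟨i, j⟩
    change IsReduced (pullback (𝒰.f i ≫ f) (𝒱.f j ≫ g))
    obtain ⟨φ, hφ⟩ := Spec.map_surjective (𝒰.f i ≫ f)
    obtain ⟨ψ, hψ⟩ := Spec.map_surjective (𝒱.f j ≫ g)
    have hgr : GeometricallyReduced (𝒰.f i ≫ f) :=
      geometricallyReduced_comp_of_isOpenImmersion _ _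
    have hredj : IsReduced (Spec (𝒱.X j)) := isReduced_of_isOpenImmersion (𝒱.f j)
    have hredC : _root_.IsReduced (𝒱.X j) := (affine_isReduced_iff _).mp hredj
    rw [← hφ] at hgr ⊢
    rw [← hψ]
    algebraize [φ.hom, ψ.hom]
    have e1 : φ = CommRingCat.ofHom (algebraMap k (𝒰.X i)) := rfl
    have e2 : ψ = CommRingCat.ofHom (algebraMap k (𝒱.X j)) := rfl
    rw [e1] at hgr ⊢
    rw [e2]
    have := isReduced_tensor_of_geometricallyReduced (k := k) (A := 𝒰.X i) (C := 𝒱.X j) hgr
    have h3 : IsReduced (Spec (.of ((𝒰.X i) ⊗[k] (𝒱.X j)))) := inferInstance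
    exact isReduced_of_isOpenImmersion (pullbackSpecIso k (𝒰.X i) (𝒱.X j)).hom
  exact IsReduced.of_openCover (X := pullback f g) 𝒲

theorem geometricallyReduced_pullback {k : Type u} [Field k] {X Y : Scheme.{u}}
    (f : X ⟶ Spec (CommRingCat.of k)) (g : Y ⟶ Spec (CommRingCat.of k)) [GeometricallyReduced f]
    [GeometricallyReduced g] : GeometricallyReduced (pullback.fst f g ≫ f) := by
  constructor
  intro K _ y Z fst' snd' h
  have hYK : IsReduced (pullback g y) :=
    GeometricallyReduced.geometrically_isReduced (f := g) y _ _ (.of_hasPullback _ _)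
  have h' : IsPullback snd' fst' y (pullback.snd f g ≫ g) := by
    rw [← pullback.condition]; exact h.flip
  have t : IsPullback (pullback.snd g y) (pullback.fst g y) y g := (IsPullback.of_hasPullback g y).flip
  have hA := IsPullback.of_right' h' t
  have hB : IsPullback (pullback.snd f g) (pullback.fst f g) g f := (IsPullback.of_hasPullback f g).flip
  have hC := (hA.paste_vert hB).flip
  have hred : IsReduced (pullback f (pullback.fst g y ≫ g)) :=
    isReduced_pullback_of_geometricallyReduced_of_isReduced f (pullback.fst g y ≫ g)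
  exact isReduced_of_isOpenImmersion hC.isoPullback.hom

end Groth.Agent.Helper7
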