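import Mathlib
import Groth.Prelude.Def_EGA4b

/-!
# A ring covered by normal subrings is normal (helper7)
-/

set_option autoImplicit false
set_option linter.unusedSectionVars false
set_option linter.style.haveILetI false
universe u

namespace Groth.Agent.Helper7.NormCover

open Polynomial

/-- In an integrally closed domain, a root `a` of `scaleRoots q b` (`q` monic, `b ≠ 0`)
is divisible by `b`. -/
theorem dvd_of_scaleRoots_eval_eq_zero {S : Type*} [CommRing S] [IsDomain S]
    [IsIntegrallyClosed S] {a b : S} (hb : b ≠ 0) {q : S[X]} (hq : q.Monic)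
    (h : (q.scaleRoots b).eval a = 0) : b ∣ a := by
  let K := FractionRing S
  have hinj : Function.Injective (algebraMap S K) := IsFractionRing.injective S K
  have hbK : algebraMap S K b ≠ 0 := (map_ne_zero_iff _ hinj).mpr hb
  have hint : IsIntegral S (algebraMap S K a / algebraMap S K b) := by
    refine ⟨q, hq, ?_⟩
    have h1 := scaleRoots_eval₂_mul (p := q) (algebraMap S K)
      (algebraMap S K a / algebraMap S K b) b
    rw [mul_div_cancel₀ _ hbK, Polynomial.eval₂_at_apply, h, map_zero] at h1
    have h2 : algebraMap S K b ^ q.natDegree ≠ 0 := pow_ne_zero _ hbK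
    exact (mul_eq_zero.mp h1.symm).resolve_left h2
  obtain ⟨y, hy⟩ := IsIntegrallyClosed.isIntegral_iff.mp hint
  refine ⟨y, ?_⟩
  apply hinj
  rw [map_mul, hy, mul_div_cancel₀ _ hbK]

variable (R : Type u) [CommRing R]

/-- A ring every finite subset of which lies in the image of an injective ring map from a normal
ring is normal. -/
theorem isNormalRing_of_covering
    (H : ∀ F : Finset R, ∃ (R' : Type u) (_ : CommRing R') (φ : R' →+* R),
      Function.Injective φ ∧ EGA4.IsNormalRing R' ∧ (↑F : Set R) ⊆ Set.range φ) :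
    EGA4.IsNormalRing R := by
  classical
  intro P hP
  set S := Localization.AtPrime P with hS
  -- domain
  have hdom : IsDomain S := by
    haveI : NoZeroDivisors S := by
      refine ⟨fun {α β} hαβ => ?_⟩
      obtain ⟨x, s, rfl⟩ := IsLocalization.exists_mk'_eq P.primeCompl α
      obtain ⟨y, t, rfl⟩ := IsLocalization.exists_mk'_eq P.primeCompl β
      rw [← IsLocalization.mk'_mul, IsLocalization.mk'_eq_zero_iff] at hαβ
      obtain ⟨u, hu⟩ := hαβ
      obtain ⟨R', _, φ, hφ, hR', hF⟩ := H {(u : R), x, y}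
      have hmem : ∀ z ∈ ({(u : R), x, y} : Finset R), z ∈ Set.range φ := fun z hz => hF hz
      obtain ⟨u', hu'⟩ := hmem u (by simp)
      obtain ⟨x', hx'⟩ := hmem x (by simp)
      obtain ⟨y', hy'⟩ := hmem y (by simp)
      have h0 : u' * (x' * y') = 0 := by
        apply hφ
        rw [map_mul, map_mul, hu', hx', hy', map_zero]
        exact hu
      let P' : Ideal R' := P.comap φ
      haveI : P'.IsPrime := Ideal.comap_isPrime _ _
      obtain ⟨hd', -⟩ := hR' P'
      have hu'P : u' ∈ P'.primeCompl := by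
        show u' ∉ P.comap φ
        rw [Ideal.mem_comap, hu']
        exact u.2
      have h1 : algebraMap R' (Localization.AtPrime P') x' *
          algebraMap R' (Localization.AtPrime P') y' = 0 := by
        have hunit : IsUnit (algebraMap R' (Localization.AtPrime P') u') :=
          IsLocalization.map_units _ ⟨u', hu'P⟩
        have := congrArg (algebraMap R' (Localization.AtPrime P')) h0
        rw [map_mul, map_mul, map_zero] at this
        exact (hunit.mul_right_eq_zero).mp this
      have key : ∀ (w' : R') (w : R), φ w' = w →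
          algebraMap R' (Localization.AtPrime P') w' = 0 →
          ∀ (s : P.primeCompl), IsLocalization.mk' S w s = 0 := by
        intro w' w hw h s
        rw [IsLocalization.map_eq_zero_iff P'.primeCompl] at h
        obtain ⟨v', hv'⟩ := h
        rw [IsLocalization.mk'_eq_zero_iff]
        refine ⟨⟨φ v', v'.2⟩, ?_⟩
        show φ v' * w = 0
        rw [← hw, ← map_mul, hv', map_zero]
      rcases mul_eq_zero.mp h1 with h2 | h2
      · exact Or.inl (key x' x hx' h2 s)
      · exact Or.inr (key y' y hy' h2 t)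
    exact NoZeroDivisors.to_isDomain S
  refine ⟨hdom, ?_⟩
  -- integrally closed
  haveI : IsDomain S := hdom
  let K := FractionRing S
  letI : Field K := inferInstanceAs (Field (FractionRing S))
  have hginj : Function.Injective (algebraMap S K) := IsFractionRing.injective S K
  rw [isIntegrallyClosed_iff K]
  intro z hz
  -- clear denominators
  obtain ⟨m, hm⟩ := IsIntegral.exists_multiple_integral_of_isLocalization P.primeCompl z hz
  obtain ⟨q, hqm, hq⟩ := hm
  obtain ⟨α, β, hβ, rfl⟩ := IsFractionRing.div_surjective (A := S) z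
  obtain ⟨a, s, rfl⟩ := IsLocalization.exists_mk'_eq P.primeCompl α
  obtain ⟨b, t, rfl⟩ := IsLocalization.exists_mk'_eq P.primeCompl β
  have hβ0 : IsLocalization.mk' S b t ≠ 0 := nonZeroDivisors.ne_zero hβ
  have hb0 : algebraMap R S b ≠ 0 := by
    intro h
    apply hβ0
    rw [IsLocalization.mk'_eq_zero_iff]
    rw [IsLocalization.map_eq_zero_iff P.primeCompl] at h
    exact h
  set f : R →+* K := algebraMap R K with hf
  have hfS : ∀ x, f x = algebraMap S K (algebraMap R S x) := fun x =>
    IsScalarTower.algebraMap_apply R S K x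
  -- a₂ = m a t, b₁ = b s
  set a₂ : R := m * a * t with ha₂
  set b₁ : R := b * s with hb₁
  have hs_unit : IsUnit (algebraMap R S s) := IsLocalization.map_units _ s
  have ht_unit : IsUnit (algebraMap R S t) := IsLocalization.map_units _ t
  have hm_unit : IsUnit (algebraMap R S m) := IsLocalization.map_units _ m
  have hb₁0 : algebraMap R S b₁ ≠ 0 := by
    rw [hb₁, map_mul]
    exact mul_ne_zero hb0 hs_unit.ne_zero
  have hfb₁ : f b₁ ≠ 0 := by
    rw [hfS]
    exact (map_ne_zero_iff _ hginj).mpr hb₁0
  have hz' : m • (algebraMap S K (IsLocalization.mk' S a s) /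
      algebraMap S K (IsLocalization.mk' S b t)) = f a₂ / f b₁ := by
    have e1 : algebraMap S K (IsLocalization.mk' S a s) * f (s : R) = f a := by
      rw [hfS, hfS, ← map_mul, IsLocalization.mk'_spec]
    have e2 : algebraMap S K (IsLocalization.mk' S b t) * f (t : R) = f b := by
      rw [hfS, hfS, ← map_mul, IsLocalization.mk'_spec]
    have hfs : f (s : R) ≠ 0 := by
      rw [hfS]; exact (map_ne_zero_iff _ hginj).mpr hs_unit.ne_zero
    have hft : f (t : R) ≠ 0 := by
      rw [hfS]; exact (map_ne_zero_iff _ hginj).mpr ht_unit.ne_zero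
    have hβK : algebraMap S K (IsLocalization.mk' S b t) ≠ 0 :=
      (map_ne_zero_iff _ hginj).mpr hβ0
    rw [Submonoid.smul_def, Algebra.smul_def, ha₂, hb₁, map_mul, map_mul, map_mul, ← e1, ← e2]
    field_simp
    exact mul_comm _ _
  rw [hz'] at hq
  -- the equation in `R`
  have h4 : f ((q.scaleRoots b₁).eval a₂) = 0 := by
    have h1 := scaleRoots_eval₂_mul (p := q) f (f a₂ / f b₁) b₁
    rw [mul_div_cancel₀ _ hfb₁, Polynomial.eval₂_at_apply] at h1
    rw [h1]
    rw [hq, mul_zero]
  have h5 : algebraMap R S ((q.scaleRoots b₁).eval a₂) = 0 := by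
    apply hginj
    rw [← hfS, h4, map_zero]
  rw [IsLocalization.map_eq_zero_iff P.primeCompl] at h5
  obtain ⟨u, hu⟩ := h5
  -- cover
  obtain ⟨R', _, φ, hφ, hR', hF⟩ := H ({a₂, b₁, (u : R)} ∪ q.coeffs)
  have hmem : ∀ z ∈ ({a₂, b₁, (u : R)} ∪ q.coeffs : Finset R), z ∈ Set.range φ := fun z hz => hF hz
  obtain ⟨a', ha'⟩ := hmem a₂ (by simp)
  obtain ⟨b', hb'⟩ := hmem b₁ (by simp)
  obtain ⟨u', hu'⟩ := hmem u (by simp)
  have hlift : q ∈ lifts φ := by
    rw [lifts_iff_coeffs_subset_range]
    intro c hc
    exact hmem c (Finset.mem_union_right _ hc)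
  obtain ⟨q', hq'map, -, hq'monic⟩ := lifts_and_natDegree_eq_and_monic hlift hqm
  haveI : Nontrivial R := ⟨⟨0, 1, fun h => hP.ne_top (by
    rw [Ideal.eq_top_iff_one, ← h]; exact Ideal.zero_mem _)⟩⟩
  have hQ' : u' * (q'.scaleRoots b').eval a' = 0 := by
    apply hφ
    rw [map_mul, hu', map_zero, ← Polynomial.eval₂_at_apply, ← Polynomial.eval_map, ha',
      map_scaleRoots _ _ _ (by rw [hq'monic.leadingCoeff, map_one]; exact one_ne_zero), hq'map, hb']
    exact hu
  let P' : Ideal R' := P.comap φ
  haveI : P'.IsPrime := Ideal.comap_isPrime _ _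
  obtain ⟨hd', hic'⟩ := hR' P'
  set S' := Localization.AtPrime P' with hS'
  have hu'P : u' ∈ P'.primeCompl := by
    show u' ∉ P.comap φ
    rw [Ideal.mem_comap, hu']
    exact u.2
  have hb'0 : algebraMap R' S' b' ≠ 0 := by
    intro h
    rw [IsLocalization.map_eq_zero_iff P'.primeCompl] at h
    obtain ⟨v', hv'⟩ := h
    apply hb₁0
    rw [IsLocalization.map_eq_zero_iff P.primeCompl]
    refine ⟨⟨φ v', v'.2⟩, ?_⟩
    show φ v' * b₁ = 0
    rw [← hb', ← map_mul, hv', map_zero]
  have heq : ((q'.map (algebraMap R' S')).scaleRoots (algebraMap R' S' b')).eval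
      (algebraMap R' S' a') = 0 := by
    have hunit : IsUnit (algebraMap R' S' u') := IsLocalization.map_units _ ⟨u', hu'P⟩
    have := congrArg (algebraMap R' S') hQ'
    rw [map_mul, map_zero, hunit.mul_right_eq_zero] at this
    rw [← map_scaleRoots _ _ _ (by rw [hq'monic.leadingCoeff, map_one]; exact one_ne_zero),
      Polynomial.eval_map, Polynomial.eval₂_at_apply]
    exact this
  obtain ⟨γ', hγ'⟩ := dvd_of_scaleRoots_eval_eq_zero hb'0 (hq'monic.map _) heq
  obtain ⟨e', v', rfl⟩ := IsLocalization.exists_mk'_eq P'.primeCompl γ'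
  -- `a' v' = b' e'` in `S'`
  have h7 : algebraMap R' S' (a' * v') = algebraMap R' S' (b' * e') := by
    rw [map_mul, map_mul, hγ', mul_assoc, IsLocalization.mk'_spec]
  rw [IsLocalization.eq_iff_exists P'.primeCompl] at h7
  obtain ⟨w', hw'⟩ := h7
  have h8 : φ w' * (a₂ * φ v') = φ w' * (b₁ * φ e') := by
    rw [← ha', ← hb', ← map_mul, ← map_mul, ← map_mul, ← map_mul, hw']
  -- conclude
  let v : P.primeCompl := ⟨φ v', v'.2⟩
  have h9 : algebraMap R S a₂ * algebraMap R S (v : R) = algebraMap R S b₁ * algebraMap R S (φ e') := by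
    rw [← map_mul, ← map_mul, IsLocalization.eq_iff_exists P.primeCompl]
    exact ⟨⟨φ w', w'.2⟩, h8⟩
  refine ⟨IsLocalization.mk' S (φ e') (v * m), ?_⟩
  -- z = (f a₂ / f b₁) / m
  have hfm : f (m : R) ≠ 0 := by
    rw [hfS]; exact (map_ne_zero_iff _ hginj).mpr hm_unit.ne_zero
  have hfv : f (v : R) ≠ 0 := by
    rw [hfS]; exact (map_ne_zero_iff _ hginj).mpr (IsLocalization.map_units S v).ne_zero
  have h10 : f a₂ * f (v : R) = f b₁ * f (φ e') := by
    have := congrArg (algebraMap S K) h9
    rw [map_mul (algebraMap S K), map_mul (algebraMap S K)] at this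
    rw [hfS, hfS, hfS b₁, hfS (φ e')]
    exact this
  have h11 : algebraMap S K (IsLocalization.mk' S (φ e') (v * m)) * (f (v : R) * f (m : R)) =
      f (φ e') := by
    rw [hfS (v : R), hfS (m : R), hfS (φ e'), ← map_mul, ← map_mul, ← map_mul]
    congr 1
    have := IsLocalization.mk'_spec S (φ e') (v * m)
    rw [Submonoid.coe_mul] at this
    exact this
  have h12 : (m : R) • (algebraMap S K (IsLocalization.mk' S a s) /
      algebraMap S K (IsLocalization.mk' S b t)) = f a₂ / f b₁ := hz'
  rw [Algebra.smul_def] at h12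
  have h13 : algebraMap S K (IsLocalization.mk' S a s) /
      algebraMap S K (IsLocalization.mk' S b t) = f a₂ / f b₁ / f (m : R) := by
    rw [← h12]
    show _ = f (m : R) * _ / f (m : R)
    rw [mul_div_cancel_left₀ _ hfm]
  rw [h13]
  rw [eq_div_iff hfm, eq_div_iff hfb₁]
  have : algebraMap S K (IsLocalization.mk' S (φ e') (v * m)) =
      f (φ e') / (f (v : R) * f (m : R)) := by
    rw [eq_div_iff (mul_ne_zero hfv hfm), h11]
  rw [this]
  field_simp
  linear_combination (-1 : K) * h10

end Groth.Agent.Helper7.NormCover
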