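import Mathlib
import Groth.Agent.Lib.Helper7.NormCover
import Groth.Agent.Lib.Helper7.GeomNormFG

/-!
# Normality of a ring from two normal localizations (helper7)
-/

set_option autoImplicit false
set_option linter.unusedSectionVars false
set_option linter.style.haveILetI false
universe u

namespace Groth.Agent.Helper7.NormFinal

open Polynomial
open Groth.Agent.Helper7.NormCover Groth.Agent.Helper7.GeomNormFG

/-- elementwise criterion for integral closedness of a domain -/
theorem isIntegrallyClosed_of_forall_dvd {S : Type*} [CommRing S] [IsDomain S]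
    (H : ∀ (a b : S), b ≠ 0 → ∀ q : S[X], q.Monic → (q.scaleRoots b).eval a = 0 → b ∣ a) :
    IsIntegrallyClosed S := by
  rw [isIntegrallyClosed_iff (FractionRing S)]
  intro z hz
  obtain ⟨q, hqm, hq⟩ := hz
  obtain ⟨a, b, hb, rfl⟩ := IsFractionRing.div_surjective (A := S) z
  have hinj := IsFractionRing.injective S (FractionRing S)
  have h1 := scaleRoots_eval₂_eq_zero_of_eval₂_div_eq_zero hinj hq hb
  rw [Polynomial.eval₂_at_apply, map_eq_zero_iff _ hinj] at h1
  obtain ⟨c, rfl⟩ := H a b (nonZeroDivisors.ne_zero hb) q hqm h1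
  refine ⟨c, ?_⟩
  have hb0 : algebraMap S (FractionRing S) b ≠ 0 :=
    (map_ne_zero_iff _ hinj).mpr (nonZeroDivisors.ne_zero hb)
  rw [map_mul, mul_div_cancel_left₀ _ hb0]

/-- a normal ring is integrally closed in every localization at non-zero-divisors -/
theorem mem_range_of_isIntegral {R : Type u} [CommRing R] (hR : EGA4.IsNormalRing R)
    (M : Submonoid R) (hM : M ≤ nonZeroDivisors R) (R' : Type*) [CommRing R'] [Algebra R R']
    [IsLocalization M R'] (y : R') (hy : IsIntegral R y) : y ∈ Set.range (algebraMap R R') := by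
  obtain ⟨x, m, rfl⟩ := IsLocalization.exists_mk'_eq M y
  obtain ⟨p, hpm, hp⟩ := hy
  -- the equation in `R`
  have h1 : (p.scaleRoots (m : R)).eval x = 0 := by
    have h2 := scaleRoots_eval₂_mul (p := p) (algebraMap R R') (IsLocalization.mk' R' x m) (m : R)
    rw [hp, mul_zero, mul_comm, IsLocalization.mk'_spec, Polynomial.eval₂_at_apply] at h2
    rw [IsLocalization.map_eq_zero_iff M] at h2
    obtain ⟨m', hm'⟩ := h2
    exact (mem_nonZeroDivisors_iff.mp (hM m'.2)).1 _ hm'
  -- the conductor ideal
  let I : Ideal R :=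
    { carrier := {c | (m : R) ∣ c * x}
      add_mem' := by
        intro c d hc hd
        show (m : R) ∣ (c + d) * x
        rw [add_mul]
        exact dvd_add hc hd
      zero_mem' := by
        show (m : R) ∣ 0 * x
        rw [zero_mul]
        exact dvd_zero _
      smul_mem' := by
        intro r c hc
        show (m : R) ∣ (r • c) * x
        rw [smul_eq_mul, mul_assoc]
        exact Dvd.dvd.mul_left hc r }
  have hI : I = ⊤ := by
    by_contra hne
    obtain ⟨P, hPmax, hIP⟩ := Ideal.exists_le_maximal I hne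
    haveI : P.IsPrime := hPmax.isPrime
    obtain ⟨hdom, hic⟩ := hR P
    set S := Localization.AtPrime P
    have hm0 : algebraMap R S (m : R) ≠ 0 := by
      intro h
      rw [IsLocalization.map_eq_zero_iff P.primeCompl] at h
      obtain ⟨s, hs⟩ := h
      have : (s : R) = 0 := (mem_nonZeroDivisors_iff.mp (hM m.2)).2 _ hs
      exact s.2 (this ▸ Ideal.zero_mem P)
    haveI : Nontrivial R := ⟨⟨0, 1, fun h => hPmax.ne_top (by
      rw [Ideal.eq_top_iff_one, ← h]; exact Ideal.zero_mem _)⟩⟩
    have heq : ((p.map (algebraMap R S)).scaleRoots (algebraMap R S (m : R))).eval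
        (algebraMap R S x) = 0 := by
      rw [← map_scaleRoots _ _ _ (by rw [hpm.leadingCoeff, map_one]; exact one_ne_zero),
        Polynomial.eval_map, Polynomial.eval₂_at_apply, h1, map_zero]
    obtain ⟨γ, hγ⟩ := dvd_of_scaleRoots_eval_eq_zero hm0 (hpm.map _) heq
    obtain ⟨e, v, rfl⟩ := IsLocalization.exists_mk'_eq P.primeCompl γ
    have h7 : algebraMap R S (x * v) = algebraMap R S ((m : R) * e) := by
      rw [map_mul, map_mul, hγ, mul_assoc, IsLocalization.mk'_spec]
    rw [IsLocalization.eq_iff_exists P.primeCompl] at h7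
    obtain ⟨w, hw⟩ := h7
    have hmem : (w : R) * v ∈ I := by
      show (m : R) ∣ (w : R) * v * x
      refine ⟨w * e, ?_⟩
      calc (w : R) * v * x = w * (x * v) := by ring
        _ = w * ((m : R) * e) := hw
        _ = (m : R) * (w * e) := by ring
    have := hIP hmem
    rcases (inferInstance : P.IsPrime).mem_or_mem this with h | h
    · exact w.2 h
    · exact v.2 h
  have h1I : (1 : R) ∈ I := by rw [hI]; trivial
  obtain ⟨z, hz⟩ : (m : R) ∣ 1 * x := h1I
  rw [one_mul] at hz
  refine ⟨z, ?_⟩
  rw [IsLocalization.eq_mk'_iff_mul_eq, ← map_mul, hz, mul_comm]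

/-- a normal ring which is a domain is integrally closed -/
theorem isIntegrallyClosed_of_isNormalRing {R : Type u} [CommRing R] [IsDomain R]
    (hR : EGA4.IsNormalRing R) : IsIntegrallyClosed R :=
  IsIntegrallyClosed.of_localization_maximal fun p _ _ => (hR p).2

/-- in a ring whose localization at `m` is a domain, the only minimal prime below `m` is the
kernel of the localization map -/
theorem minimalPrime_eq_ker {R : Type u} [CommRing R] (m : Ideal R) [m.IsPrime]
    [IsDomain (Localization.AtPrime m)] (p : Ideal R) (hp : p ∈ minimalPrimes R) (hpm : p ≤ m) :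
    p = RingHom.ker (algebraMap R (Localization.AtPrime m)) := by
  have hker : (RingHom.ker (algebraMap R (Localization.AtPrime m))).IsPrime :=
    RingHom.ker_isPrime _
  have hle : RingHom.ker (algebraMap R (Localization.AtPrime m)) ≤ p := by
    intro x hx
    rw [RingHom.mem_ker, IsLocalization.map_eq_zero_iff m.primeCompl] at hx
    obtain ⟨s, hs⟩ := hx
    have hpp : p.IsPrime := hp.1.1
    have : (s : R) * x ∈ p := hs ▸ Ideal.zero_mem p
    rcases hpp.mem_or_mem this with h | h
    · exact absurd (hpm h) s.2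
    · exact h
  exact le_antisymm (hp.2 ⟨hker, bot_le⟩ hle) hle

/-- a Noetherian normal ring with only trivial idempotents is a domain -/
theorem isDomain_of_isNormalRing_of_idempotent {R : Type u} [CommRing R] [IsNoetherianRing R]
    [Nontrivial R] (hR : EGA4.IsNormalRing R) (hid : ∀ e : R, e * e = e → e = 0 ∨ e = 1) :
    IsDomain R := by
  classical
  -- reduced
  have hred : IsReduced R := by
    refine ⟨fun x hx => ?_⟩
    apply eq_zero_of_localization
    intro J hJ
    haveI := hJ.isPrime
    haveI := (hR J).1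
    exact (hx.map (algebraMap R (Localization.AtPrime J))).eq_zero
  have hfin : (minimalPrimes R).Finite := minimalPrimes.finite_of_isNoetherianRing R
  have hcop : ∀ p ∈ minimalPrimes R, ∀ q ∈ minimalPrimes R, p ≠ q → p ⊔ q = ⊤ := by
    intro p hp q hq hpq
    by_contra hne
    obtain ⟨m, hmmax, hm⟩ := Ideal.exists_le_maximal _ hne
    haveI := hmmax.isPrime
    haveI := (hR m).1
    have h1 := minimalPrime_eq_ker m p hp (le_sup_left.trans hm)
    have h2 := minimalPrime_eq_ker m q hq (le_sup_right.trans hm)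
    exact hpq (h1.trans h2.symm)
  obtain ⟨p, hp⟩ : (minimalPrimes R).Nonempty := by
    obtain ⟨m, hm⟩ := Ideal.exists_maximal R
    haveI := hm.isPrime
    obtain ⟨p, hp, -⟩ := Ideal.exists_minimalPrimes_le (bot_le : (⊥ : Ideal R) ≤ m)
    exact ⟨p, hp⟩
  have hpp : p.IsPrime := hp.1.1
  -- other minimal primes
  let s : Finset (Ideal R) := hfin.toFinset.erase p
  have hsup : p ⊔ ⨅ q ∈ s, q = ⊤ := by
    apply Ideal.sup_iInf_eq_top
    intro q hq
    have hq' : q ∈ minimalPrimes R ∧ q ≠ p := by
      simpa [s, and_comm] using hq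
    exact hcop p hp q hq'.1 (Ne.symm hq'.2)
  have hinf : p ⊓ ⨅ q ∈ s, q = ⊥ := by
    have h1 : sInf (minimalPrimes R) = ⊥ := by
      have := Ideal.sInf_minimalPrimes (I := (⊥ : Ideal R))
      rw [show (⊥ : Ideal R).radical = ⊥ from (Ideal.radical_eq_iff.mpr
        (by rw [Ideal.isRadical_iff_quotient_reduced]; exact
          (isReduced_of_injective _ (RingEquiv.quotientBot R).injective)))] at this
      exact this
    rw [eq_bot_iff, ← h1]
    apply le_sInf
    intro q hq
    by_cases hqp : q = p
    · rw [hqp]; exact inf_le_left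
    · refine inf_le_right.trans ?_
      exact iInf₂_le q (by simp [s, hqp, hq])
  obtain ⟨x, hx, y, hy, hxy⟩ := Submodule.mem_sup.mp
    ((Ideal.eq_top_iff_one _).mp hsup)
  have hxy0 : x * y = 0 := by
    have : x * y ∈ p ⊓ ⨅ q ∈ s, q :=
      ⟨Ideal.mul_mem_right _ _ hx, Ideal.mul_mem_left _ _ hy⟩
    rw [hinf] at this
    exact this
  have hxx : x * x = x := by
    have : x * x = x * (x + y) - x * y := by ring
    rw [this, hxy, hxy0, mul_one, sub_zero]
  have hs_empty : s = ∅ := by
    rcases hid x hxx with h | h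
    · -- y = 1 ∈ every other minimal prime
      rw [h, zero_add] at hxy
      rw [Finset.eq_empty_iff_forall_notMem]
      intro q hq
      have hq' : q ∈ minimalPrimes R ∧ q ≠ p := by
        simpa [s, and_comm] using hq
      have hyq : y ∈ q := by
        have := (Ideal.mem_iInf.mp hy) q
        exact (Ideal.mem_iInf.mp this) hq
      rw [hxy] at hyq
      exact absurd ((Ideal.eq_top_iff_one q).mpr hyq) hq'.1.1.1.ne_top
    · rw [h] at hx
      exact absurd ((Ideal.eq_top_iff_one p).mpr hx) hpp.ne_top
  have hp0 : p = ⊥ := by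
    rw [hs_empty] at hinf
    simpa using hinf
  rw [hp0] at hpp
  haveI : NoZeroDivisors R := ⟨fun {a b} hab => by
    have : a * b ∈ (⊥ : Ideal R) := hab
    rcases hpp.mem_or_mem this with h | h
    · exact Or.inl h
    · exact Or.inr h⟩
  exact NoZeroDivisors.to_isDomain R

section Main

variable {C : Type u} [CommRing C] (M₁ M₂ : Submonoid C)
  (D E T : Type u) [CommRing D] [CommRing E] [CommRing T]
  [Algebra C D] [Algebra C E] [Algebra C T] [Algebra D T] [Algebra E T]
  [IsScalarTower C D T] [IsScalarTower C E T]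
  [IsLocalization M₁ D] [IsLocalization M₂ E]
  [IsLocalization (M₂.map (algebraMap C D)) T]
  [IsLocalization (M₁.map (algebraMap C E)) T]

include M₁ M₂ D E in
theorem algebraMap_injective_of_two (h₁ : M₁ ≤ nonZeroDivisors C) (h₂ : M₂ ≤ nonZeroDivisors C) :
    Function.Injective (algebraMap C T) := by
  have hCD : Function.Injective (algebraMap C D) := IsLocalization.injective D h₁
  have hM₂D : M₂.map (algebraMap C D) ≤ nonZeroDivisors D :=
    (Submonoid.monotone_map h₂).trans (IsLocalization.map_nonZeroDivisors_le M₁ D)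
  have hDT : Function.Injective (algebraMap D T) := IsLocalization.injective T hM₂D
  rw [IsScalarTower.algebraMap_eq C D T]
  exact hDT.comp hCD

include M₁ M₂ D E in
theorem mem_range_of_isIntegral_of_two (h₁ : M₁ ≤ nonZeroDivisors C)
    (h₂ : M₂ ≤ nonZeroDivisors C)
    (hD : EGA4.IsNormalRing D) (hE : EGA4.IsNormalRing E)
    (hstar : ∀ a ∈ M₁, ∀ b ∈ M₂, ∀ x : C, a ∣ b * x → a ∣ x)
    (y : T) (hy : IsIntegral C y) : y ∈ Set.range (algebraMap C T) := by
  have hM₂D : M₂.map (algebraMap C D) ≤ nonZeroDivisors D :=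
    (Submonoid.monotone_map h₂).trans (IsLocalization.map_nonZeroDivisors_le M₁ D)
  have hM₁E : M₁.map (algebraMap C E) ≤ nonZeroDivisors E :=
    (Submonoid.monotone_map h₁).trans (IsLocalization.map_nonZeroDivisors_le M₂ E)
  have hCT : Function.Injective (algebraMap C T) :=
    algebraMap_injective_of_two M₁ M₂ D E T h₁ h₂
  obtain ⟨d, hd⟩ := mem_range_of_isIntegral hD _ hM₂D T y hy.tower_top
  obtain ⟨e, he⟩ := mem_range_of_isIntegral hE _ hM₁E T y hy.tower_top
  obtain ⟨x₂, a, rfl⟩ := IsLocalization.exists_mk'_eq M₁ d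
  obtain ⟨x₁, b, rfl⟩ := IsLocalization.exists_mk'_eq M₂ e
  have e1 : algebraMap C T x₂ = algebraMap C T a * y := by
    rw [← hd, IsScalarTower.algebraMap_apply C D T, IsScalarTower.algebraMap_apply C D T,
      ← map_mul, mul_comm, IsLocalization.mk'_spec]
  have e2 : algebraMap C T x₁ = algebraMap C T b * y := by
    rw [← he, IsScalarTower.algebraMap_apply C E T, IsScalarTower.algebraMap_apply C E T,
      ← map_mul, mul_comm, IsLocalization.mk'_spec]
  have h3 : algebraMap C T ((b : C) * x₂) = algebraMap C T ((a : C) * x₁) := by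
    rw [map_mul, map_mul, e1, e2]; ring
  have h4 := hCT h3
  obtain ⟨x₃, hx₃⟩ := hstar a a.2 b b.2 x₂ ⟨x₁, h4⟩
  refine ⟨x₃, ?_⟩
  rw [← hd, IsScalarTower.algebraMap_apply C D T]
  congr 1
  rw [IsLocalization.eq_mk'_iff_mul_eq, ← map_mul, hx₃, mul_comm]

include M₁ M₂ D E in
/-- **Two localizations**: if `D = M₁⁻¹C` and `E = M₂⁻¹C` are normal, `T = (M₁M₂)⁻¹C` is
Noetherian and `M₂` is regular modulo the elements of `M₁`, then `C` is normal. -/
theorem isNormalRing_of_two_localizations [IsNoetherianRing T]
    (h₁ : M₁ ≤ nonZeroDivisors C) (h₂ : M₂ ≤ nonZeroDivisors C)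
    (hD : EGA4.IsNormalRing D) (hE : EGA4.IsNormalRing E)
    (hstar : ∀ a ∈ M₁, ∀ b ∈ M₂, ∀ x : C, a ∣ b * x → a ∣ x) : EGA4.IsNormalRing C := by
  intro r hr
  have hT : EGA4.IsNormalRing T :=
    isNormalRing_of_isLocalization (M₂.map (algebraMap C D)) T hD
  have hCT : Function.Injective (algebraMap C T) :=
    algebraMap_injective_of_two M₁ M₂ D E T h₁ h₂
  have hint : ∀ y : T, IsIntegral C y → y ∈ Set.range (algebraMap C T) :=
    mem_range_of_isIntegral_of_two M₁ M₂ D E T h₁ h₂ hD hE hstar
  set S := Localization.AtPrime r with hS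
  set N := Algebra.algebraMapSubmonoid T r.primeCompl with hN
  set St := Localization N with hSt
  have hSt_inj : Function.Injective (algebraMap S St) :=
    localizationAlgebra_injective (Rₘ := S) (Sₘ := St) hCT
  have hStN : EGA4.IsNormalRing St := isNormalRing_of_isLocalization N St hT
  haveI : IsNoetherianRing St := IsLocalization.isNoetherianRing N St inferInstance
  haveI : Nontrivial St := hSt_inj.nontrivial
  -- `S` is integrally closed in `St`
  have hint' : ∀ z : St, IsIntegral S z → z ∈ Set.range (algebraMap S St) := by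
    intro z hz
    obtain ⟨⟨x, n⟩, e⟩ := IsLocalization.surj N z
    obtain ⟨m₁, hm₁, hm₁n⟩ := n.2
    obtain ⟨m₂, hm₂s⟩ := IsIntegral.exists_multiple_integral_of_isLocalization r.primeCompl z hz
    have e' : z * algebraMap C St m₁ = algebraMap T St x := by
      rw [← e, IsScalarTower.algebraMap_apply C T St, hm₁n]
    have h5 : IsIntegral C (algebraMap T St ((m₂ : C) • x)) := by
      have : algebraMap T St ((m₂ : C) • x) = (m₂ • z) * algebraMap C St m₁ := by
        rw [Algebra.smul_def, map_mul, ← e', ← IsScalarTower.algebraMap_apply C T St,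
          Submonoid.smul_def, Algebra.smul_def]
        ring
      rw [this]
      exact hm₂s.mul isIntegral_algebraMap
    obtain ⟨m₃, hm₃, hm₃s⟩ := IsLocalization.exists_isIntegral_smul_of_isIntegral_map
      (Sₘ := St) r.primeCompl (x := (m₂ : C) • x) h5
    obtain ⟨c, hc⟩ := hint _ hm₃s
    let m : r.primeCompl := ⟨m₁, hm₁⟩ * m₂ * ⟨m₃, hm₃⟩
    refine ⟨IsLocalization.mk' S c m, ?_⟩
    have hunit : IsUnit (algebraMap C St (m : C)) := by
      rw [IsScalarTower.algebraMap_apply C S St]
      exact (IsLocalization.map_units S m).map _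
    apply hunit.mul_left_injective
    show algebraMap S St (IsLocalization.mk' S c m) * algebraMap C St (m : C) =
      z * algebraMap C St (m : C)
    have h6 : algebraMap S St (IsLocalization.mk' S c m) * algebraMap C St (m : C) =
        algebraMap C St c := by
      rw [IsScalarTower.algebraMap_apply C S St, ← map_mul, IsLocalization.mk'_spec,
        ← IsScalarTower.algebraMap_apply C S St]
    rw [h6, IsScalarTower.algebraMap_apply C T St c, hc]
    have h7 : (m : C) = m₁ * m₂ * m₃ := rfl
    rw [h7, map_mul, map_mul, Algebra.smul_def, Algebra.smul_def, map_mul, map_mul,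
      ← IsScalarTower.algebraMap_apply C T St, ← IsScalarTower.algebraMap_apply C T St, ← e']
    ring
  -- idempotents of `St` are trivial
  have hid : ∀ e : St, e * e = e → e = 0 ∨ e = 1 := by
    intro e he
    have hei : IsIntegral S e := by
      refine ⟨X ^ 2 - X, monic_X_pow_sub (by simp), ?_⟩
      simp [pow_two, he]
    obtain ⟨e₀, rfl⟩ := hint' e hei
    have he₀ : e₀ * e₀ = e₀ := hSt_inj (by rw [map_mul, he])
    rcases IsLocalRing.isUnit_or_isUnit_one_sub_self e₀ with h | h
    · right
      have : e₀ * (1 - e₀) = 0 := by rw [mul_sub, mul_one, he₀, sub_self]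
      have h2 : 1 - e₀ = 0 := (h.mul_right_eq_zero).mp this
      rw [← sub_eq_zero.mp h2, map_one]
    · left
      have : (1 - e₀) * e₀ = 0 := by rw [sub_mul, one_mul, he₀, sub_self]
      have h2 : e₀ = 0 := (h.mul_right_eq_zero).mp this
      rw [h2, map_zero]
  haveI hdomSt : IsDomain St := isDomain_of_isNormalRing_of_idempotent hStN hid
  haveI hicSt : IsIntegrallyClosed St := isIntegrallyClosed_of_isNormalRing hStN
  haveI hdomS : IsDomain S := Function.Injective.isDomain (algebraMap S St) hSt_inj
  refine ⟨hdomS, ?_⟩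
  apply isIntegrallyClosed_of_forall_dvd
  intro a b hb q hqm hq
  set ι := algebraMap S St with hι
  have hιb : ι b ≠ 0 := (map_ne_zero_iff _ hSt_inj).mpr hb
  have heq : ((q.map ι).scaleRoots (ι b)).eval (ι a) = 0 := by
    rw [← map_scaleRoots _ _ _ (by rw [hqm.leadingCoeff, map_one]; exact one_ne_zero),
      Polynomial.eval_map, Polynomial.eval₂_at_apply, hq, map_zero]
  obtain ⟨w, hw⟩ := dvd_of_scaleRoots_eval_eq_zero hιb (hqm.map _) heq
  have hwi : IsIntegral S w := by
    refine ⟨q, hqm, ?_⟩
    have h1 := scaleRoots_eval₂_mul (p := q) ι w b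
    rw [← hw, Polynomial.eval₂_at_apply, hq, map_zero] at h1
    exact (mul_eq_zero.mp h1.symm).resolve_left (pow_ne_zero _ hιb)
  obtain ⟨w₀, rfl⟩ := hint' w hwi
  exact ⟨w₀, hSt_inj (by rw [map_mul]; exact hw)⟩

end Main

end Groth.Agent.Helper7.NormFinal
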