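import Mathlib
import Groth.Agent.Lib.Helper7.NormCover
import Groth.Agent.Lib.Helper7.GeomNormFG
import Groth.Agent.Lib.Helper16.Alg.NormalSmooth2
import Groth.Agent.Lib.Helper14.GeomRedSmooth

/-!
# Tensor products of normal rings over a field (non-Noetherian) (helper7)
-/

set_option autoImplicit false
set_option linter.unusedSectionVars false
set_option linter.style.haveILetI false
universe u

namespace Groth.Agent.Helper7.NormTensor

open TensorProduct
open Groth.Agent.Helper7.GeomRed Groth.Agent.Helper7.GeomNormFG

/-- every element of `k' ⊗ A` comes from `B ⊗ A` for `B` containing finitely many elements -/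
theorem exists_finset_range (k A k' : Type u) [Field k] [CommRing A] [Algebra k A]
    [CommRing k'] [Algebra k k'] (z : k' ⊗[k] A) :
    ∃ E : Finset k', ∀ (B : Subalgebra k k'), (↑E : Set k') ⊆ B →
      z ∈ Set.range (Algebra.TensorProduct.map B.val (AlgHom.id k A)) := by
  classical
  obtain ⟨T, hT⟩ := TensorProduct.exists_finset z
  refine ⟨T.image Prod.fst, fun B hB => ?_⟩
  have : z ∈ (Algebra.TensorProduct.map B.val (AlgHom.id k A)).range := by
    rw [hT]
    refine Subalgebra.sum_mem _ fun i hi => ?_
    have hi1 : i.1 ∈ B := hB (by simpa using Finset.mem_image_of_mem Prod.fst hi)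
    exact ⟨(⟨i.1, hi1⟩ : B) ⊗ₜ i.2, by simp⟩
  exact this

/-- EGA IV 6.14.2-type statement: base change of a normal ring to a separable field extension -/
theorem isNormalRing_tensor_of_geomReduced (k A k' : Type u) [Field k] [CommRing A] [Algebra k A]
    (hA : EGA4.IsNormalRing A) [Field k'] [Algebra k k'] [Algebra.IsGeometricallyReduced k k'] :
    EGA4.IsNormalRing (k' ⊗[k] A) := by
  classical
  apply Groth.Agent.Helper7.NormCover.isNormalRing_of_covering
  intro F
  choose Ez hEz using exists_finset_range k A k'
  obtain ⟨B, hEB, hsm⟩ :=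
    Groth.Agent.Helper14.exists_subalgebra_smooth_of_isGeometricallyReduced k k' (F.biUnion Ez)
  refine ⟨B ⊗[k] A, inferInstance,
    (Algebra.TensorProduct.map B.val (AlgHom.id k A)).toRingHom, ?_, ?_, ?_⟩
  · have h1 : Function.Injective (LinearMap.rTensor A B.val.toLinearMap) :=
      Module.Flat.rTensor_preserves_injective_linearMap _ Subtype.val_injective
    exact h1
  · have h1 : EGA4.IsNormalRing (A ⊗[k] B) :=
      Groth.Agent.Helper16.NormalSmooth.isNormalRing_of_smooth A (A ⊗[k] B) hA
    exact isNormalRing_of_ringEquiv _ _ (Algebra.TensorProduct.comm k A B).toRingEquiv h1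
  · intro z hz
    refine hEz z B ?_
    intro x hx
    exact hEB (by
      rw [Finset.coe_biUnion]
      exact Set.mem_biUnion hz hx)

end Groth.Agent.Helper7.NormTensor
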