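import Mathlib
import Groth.Agent.Lib.Helper7.NormFinal
import Groth.Agent.Lib.Helper7.NormTensor

/-!
# Tensor products of normal domains over a field (helper7)
-/

set_option autoImplicit false
set_option linter.unusedSectionVars false
set_option linter.style.haveILetI false
universe u

namespace Groth.Agent.Helper7.NormTensor

open TensorProduct

section Star

variable (k A B : Type u) [Field k] [CommRing A] [CommRing B] [Algebra k A] [Algebra k B]

theorem rTensor_mulLeft_apply (a : A) (x : A ⊗[k] B) :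
    (LinearMap.mulLeft k a).rTensor B x = (a ⊗ₜ[k] (1 : B)) * x := by
  induction x with
  | zero => simp
  | add x y hx hy => rw [map_add, hx, hy, mul_add]
  | tmul a' b => simp [Algebra.TensorProduct.tmul_mul_tmul]

theorem lTensor_mulLeft_apply (b : B) (x : A ⊗[k] B) :
    (LinearMap.mulLeft k b).lTensor A x = ((1 : A) ⊗ₜ[k] b) * x := by
  induction x with
  | zero => simp
  | add x y hx hy => rw [map_add, hx, hy, mul_add]
  | tmul a b' => simp [Algebra.TensorProduct.tmul_mul_tmul]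

theorem tmul_one_mem_nonZeroDivisors {a : A} (ha : a ∈ nonZeroDivisors A) :
    a ⊗ₜ[k] (1 : B) ∈ nonZeroDivisors (A ⊗[k] B) := by
  have hinj : Function.Injective (LinearMap.mulLeft k a) := fun x y h =>
    (mem_nonZeroDivisors_iff.mp ha).1 _ (by
      have h' : a * x = a * y := h
      rw [mul_sub, h', sub_self]) |> sub_eq_zero.mp
  have h1 : Function.Injective ((LinearMap.mulLeft k a).rTensor B) :=
    Module.Flat.rTensor_preserves_injective_linearMap _ hinj
  rw [mem_nonZeroDivisors_iff]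
  refine ⟨fun x hx => ?_, fun x hx => ?_⟩
  · apply h1
    rw [rTensor_mulLeft_apply, hx, map_zero]
  · apply h1
    rw [rTensor_mulLeft_apply, mul_comm, hx, map_zero]

theorem one_tmul_mem_nonZeroDivisors {b : B} (hb : b ∈ nonZeroDivisors B) :
    (1 : A) ⊗ₜ[k] b ∈ nonZeroDivisors (A ⊗[k] B) := by
  have hinj : Function.Injective (LinearMap.mulLeft k b) := fun x y h =>
    (mem_nonZeroDivisors_iff.mp hb).1 _ (by
      have h' : b * x = b * y := h
      rw [mul_sub, h', sub_self]) |> sub_eq_zero.mp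
  have h1 : Function.Injective ((LinearMap.mulLeft k b).lTensor A) :=
    Module.Flat.lTensor_preserves_injective_linearMap _ hinj
  rw [mem_nonZeroDivisors_iff]
  refine ⟨fun x hx => ?_, fun x hx => ?_⟩
  · apply h1
    rw [lTensor_mulLeft_apply, hx, map_zero]
  · apply h1
    rw [lTensor_mulLeft_apply, mul_comm, hx, map_zero]

/-- `1 ⊗ b` is regular modulo `a ⊗ 1` -/
theorem dvd_of_dvd_one_tmul_mul (a : A) {b : B} (hb : b ∈ nonZeroDivisors B) (x : A ⊗[k] B)
    (h : a ⊗ₜ[k] (1 : B) ∣ ((1 : A) ⊗ₜ[k] b) * x) : a ⊗ₜ[k] (1 : B) ∣ x := by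
  obtain ⟨y, hy⟩ := h
  let I : Ideal A := Ideal.span {a}
  let π : A →ₗ[k] A ⧸ I := (Ideal.Quotient.mkₐ k I).toLinearMap
  have hπ : Function.Surjective π := Ideal.Quotient.mk_surjective
  have hex : Function.Exact (LinearMap.mulLeft k a) π := by
    intro z
    constructor
    · intro hz
      have : z ∈ I := Ideal.Quotient.eq_zero_iff_mem.mp hz
      obtain ⟨c, rfl⟩ := Ideal.mem_span_singleton'.mp this
      exact ⟨c, mul_comm _ _⟩
    · rintro ⟨c, rfl⟩
      show Ideal.Quotient.mk I (a * c) = 0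
      exact Ideal.Quotient.eq_zero_iff_mem.mpr
        (Ideal.mul_mem_right _ _ (Ideal.mem_span_singleton_self a))
  have hex2 := rTensor_exact B hex hπ
  have hinjb : Function.Injective (LinearMap.mulLeft k b) := fun u v h =>
    (mem_nonZeroDivisors_iff.mp hb).1 _ (by
      have h' : b * u = b * v := h
      rw [mul_sub, h', sub_self]) |> sub_eq_zero.mp
  have h1 : Function.Injective ((LinearMap.mulLeft k b).lTensor (A ⧸ I)) :=
    Module.Flat.lTensor_preserves_injective_linearMap _ hinjb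
  have h2 : (LinearMap.mulLeft k b).lTensor (A ⧸ I) (π.rTensor B x) = 0 := by
    have e1 : (LinearMap.mulLeft k b).lTensor (A ⧸ I) (π.rTensor B x) =
        π.rTensor B ((LinearMap.mulLeft k b).lTensor A x) := by
      rw [← LinearMap.comp_apply, ← LinearMap.comp_apply, LinearMap.lTensor_comp_rTensor,
        LinearMap.rTensor_comp_lTensor]
    rw [e1, lTensor_mulLeft_apply, hy, ← rTensor_mulLeft_apply]
    exact (hex2 _).mpr ⟨y, rfl⟩
  have h3 : π.rTensor B x = 0 := h1 (by rw [h2, map_zero])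
  obtain ⟨y', hy'⟩ := (hex2 x).mp h3
  exact ⟨y', by rw [← hy', rTensor_mulLeft_apply]⟩

end Star

section CT

variable (k A B K L : Type u) [Field k] [CommRing A] [CommRing B] [IsDomain A] [IsDomain B]
  [Algebra k A] [Algebra k B] [Field K] [Field L] [Algebra A K] [Algebra B L] [Algebra k K]
  [Algebra k L] [IsScalarTower k A K] [IsScalarTower k B L] [IsFractionRing A K]
  [IsFractionRing B L]

open Groth.Agent.Helper7.NormFinal in
/-- `A ⊗ B` is normal as soon as `Frac A ⊗ B` and `A ⊗ Frac B` are, if `Frac A ⊗ Frac B` is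
Noetherian. -/
theorem isNormalRing_tensor_of_fractionFields [IsNoetherianRing (K ⊗[k] L)]
    (hD : EGA4.IsNormalRing (K ⊗[k] B)) (hE : EGA4.IsNormalRing (A ⊗[k] L)) :
    EGA4.IsNormalRing (A ⊗[k] B) := by
  let fA : A →ₐ[k] K := IsScalarTower.toAlgHom k A K
  let fB : B →ₐ[k] L := IsScalarTower.toAlgHom k B L
  letI aCD : Algebra (A ⊗[k] B) (K ⊗[k] B) :=
    (Algebra.TensorProduct.map fA (AlgHom.id k B)).toRingHom.toAlgebra
  letI aCE : Algebra (A ⊗[k] B) (A ⊗[k] L) :=
    (Algebra.TensorProduct.map (AlgHom.id k A) fB).toRingHom.toAlgebra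
  letI aCT : Algebra (A ⊗[k] B) (K ⊗[k] L) :=
    (Algebra.TensorProduct.map fA fB).toRingHom.toAlgebra
  letI aDT : Algebra (K ⊗[k] B) (K ⊗[k] L) :=
    (Algebra.TensorProduct.map (AlgHom.id k K) fB).toRingHom.toAlgebra
  letI aET : Algebra (A ⊗[k] L) (K ⊗[k] L) :=
    (Algebra.TensorProduct.map fA (AlgHom.id k L)).toRingHom.toAlgebra
  have hCD : ∀ x, algebraMap (A ⊗[k] B) (K ⊗[k] B) x =
    Algebra.TensorProduct.map fA (AlgHom.id k B) x := fun _ => rfl
  have hCE : ∀ x, algebraMap (A ⊗[k] B) (A ⊗[k] L) x =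
    Algebra.TensorProduct.map (AlgHom.id k A) fB x := fun _ => rfl
  have hCT : ∀ x, algebraMap (A ⊗[k] B) (K ⊗[k] L) x =
    Algebra.TensorProduct.map fA fB x := fun _ => rfl
  have hDT : ∀ x, algebraMap (K ⊗[k] B) (K ⊗[k] L) x =
    Algebra.TensorProduct.map (AlgHom.id k K) fB x := fun _ => rfl
  have hET : ∀ x, algebraMap (A ⊗[k] L) (K ⊗[k] L) x =
    Algebra.TensorProduct.map fA (AlgHom.id k L) x := fun _ => rfl
  haveI t1 : IsScalarTower (A ⊗[k] B) (K ⊗[k] B) (K ⊗[k] L) :=
    IsScalarTower.of_algebraMap_eq fun x => by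
      rw [hCT, hDT, hCD]
      induction x with
      | zero => simp
      | add x y hx hy => simp only [map_add, hx, hy]
      | tmul a b => simp
  haveI t2 : IsScalarTower (A ⊗[k] B) (A ⊗[k] L) (K ⊗[k] L) :=
    IsScalarTower.of_algebraMap_eq fun x => by
      rw [hCT, hET, hCE]
      induction x with
      | zero => simp
      | add x y hx hy => simp only [map_add, hx, hy]
      | tmul a b => simp
  haveI t3 : IsScalarTower A (A ⊗[k] B) (K ⊗[k] B) :=
    IsScalarTower.of_algebraMap_eq fun a => by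
      rw [hCD]
      simp [Algebra.TensorProduct.algebraMap_apply, fA]
  haveI t4 : IsScalarTower A (A ⊗[k] B) (A ⊗[k] L) :=
    IsScalarTower.of_algebraMap_eq fun a => by
      rw [hCE]
      simp [Algebra.TensorProduct.algebraMap_apply]
  haveI t5 : IsScalarTower K (K ⊗[k] B) (K ⊗[k] L) :=
    IsScalarTower.of_algebraMap_eq fun a => by
      rw [hDT]
      simp [Algebra.TensorProduct.algebraMap_apply]
  haveI t6 : IsScalarTower A (A ⊗[k] L) (K ⊗[k] L) :=
    IsScalarTower.of_algebraMap_eq fun a => by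
      rw [hET]
      simp [Algebra.TensorProduct.algebraMap_apply, fA]
  -- the submonoids
  let M₁ : Submonoid (A ⊗[k] B) := Algebra.algebraMapSubmonoid (A ⊗[k] B) (nonZeroDivisors A)
  let M₂ : Submonoid (A ⊗[k] B) :=
    (nonZeroDivisors B).map (Algebra.TensorProduct.includeRight (R := k) (A := A))
  haveI l1 : IsLocalization M₁ (K ⊗[k] B) :=
    IsLocalization.tensorProduct_tensorProduct k B (nonZeroDivisors A) K (by
      ext b
      show Algebra.TensorProduct.map fA (AlgHom.id k B) (1 ⊗ₜ b) = 1 ⊗ₜ b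
      simp)
  haveI l2 : IsLocalization M₂ (A ⊗[k] L) :=
    IsLocalization.tensorProduct_tensorProduct_right k A (nonZeroDivisors B) L (by
      ext b
      show Algebra.TensorProduct.map (AlgHom.id k A) fB (1 ⊗ₜ b) = 1 ⊗ₜ algebraMap B L b
      simp [fB])
  haveI l3 : IsLocalization (M₂.map (algebraMap (A ⊗[k] B) (K ⊗[k] B))) (K ⊗[k] L) := by
    have h0 := IsLocalization.tensorProduct_tensorProduct_right k K (nonZeroDivisors B) L (by
      ext b
      show Algebra.TensorProduct.map (AlgHom.id k K) fB (1 ⊗ₜ b) = 1 ⊗ₜ algebraMap B L b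
      simp [fB])
    have heq : M₂.map (algebraMap (A ⊗[k] B) (K ⊗[k] B)) =
        (nonZeroDivisors B).map (Algebra.TensorProduct.includeRight (R := k) (A := K)) := by
      ext x
      simp only [M₂, Submonoid.mem_map]
      constructor
      · rintro ⟨_, ⟨b, hb, rfl⟩, rfl⟩
        refine ⟨b, hb, ?_⟩
        rw [hCD]
        simp
      · rintro ⟨b, hb, rfl⟩
        refine ⟨_, ⟨b, hb, rfl⟩, ?_⟩
        rw [hCD]
        simp
    rw [heq]
    exact h0
  haveI l4 : IsLocalization (M₁.map (algebraMap (A ⊗[k] B) (A ⊗[k] L))) (K ⊗[k] L) := by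
    have h0 := IsLocalization.tensorProduct_tensorProduct k L (nonZeroDivisors A) K (by
      ext b
      show Algebra.TensorProduct.map fA (AlgHom.id k L) (1 ⊗ₜ b) = 1 ⊗ₜ b
      simp)
    have heq : M₁.map (algebraMap (A ⊗[k] B) (A ⊗[k] L)) =
        Algebra.algebraMapSubmonoid (A ⊗[k] L) (nonZeroDivisors A) := by
      ext x
      simp only [M₁, Algebra.algebraMapSubmonoid, Submonoid.mem_map]
      constructor
      · rintro ⟨_, ⟨a, ha, rfl⟩, rfl⟩
        refine ⟨a, ha, ?_⟩
        rw [← IsScalarTower.algebraMap_apply A (A ⊗[k] B) (A ⊗[k] L)]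
      · rintro ⟨a, ha, rfl⟩
        refine ⟨_, ⟨a, ha, rfl⟩, ?_⟩
        rw [← IsScalarTower.algebraMap_apply A (A ⊗[k] B) (A ⊗[k] L)]
    rw [heq]
    exact h0
  have h₁ : M₁ ≤ nonZeroDivisors (A ⊗[k] B) := by
    rintro _ ⟨a, ha, rfl⟩
    rw [Algebra.TensorProduct.algebraMap_apply, Algebra.algebraMap_self, RingHom.id_apply]
    exact tmul_one_mem_nonZeroDivisors k A B ha
  have h₂ : M₂ ≤ nonZeroDivisors (A ⊗[k] B) := by
    rintro _ ⟨b, hb, rfl⟩
    exact one_tmul_mem_nonZeroDivisors k A B hb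
  have hstar : ∀ a ∈ M₁, ∀ b ∈ M₂, ∀ x : A ⊗[k] B, a ∣ b * x → a ∣ x := by
    rintro _ ⟨a, ha, rfl⟩ _ ⟨b, hb, rfl⟩ x h
    rw [Algebra.TensorProduct.algebraMap_apply, Algebra.algebraMap_self, RingHom.id_apply] at h ⊢
    exact dvd_of_dvd_one_tmul_mul k A B a hb x h
  exact isNormalRing_of_two_localizations M₁ M₂ (K ⊗[k] B) (A ⊗[k] L) (K ⊗[k] L) h₁ h₂ hD hE hstar

end CT

end Groth.Agent.Helper7.NormTensor
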