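import Mathlib
import Groth.Agent.Lib.Helper7.NormTensor2

/-!
# Tensor products of normal domains over a field, II (helper7)
-/

set_option autoImplicit false
set_option linter.unusedSectionVars false
set_option linter.style.haveILetI false
universe u

namespace Groth.Agent.Helper7.NormTensor

open TensorProduct

theorem isNormalRing_of_isDomain_isIntegrallyClosed (R : Type u) [CommRing R] [IsDomain R]
    [IsIntegrallyClosed R] : EGA4.IsNormalRing R := fun p _ =>
  ⟨IsLocalization.isDomain_localization p.primeCompl_le_nonZeroDivisors,
    isIntegrallyClosed_of_isLocalization _ p.primeCompl p.primeCompl_le_nonZeroDivisors⟩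

/-- every element of `A ⊗ B` comes from `A ⊗ B'` for `B'` containing finitely many elements -/
theorem exists_finset_range_right (k A B : Type u) [Field k] [CommRing A] [Algebra k A]
    [CommRing B] [Algebra k B] (z : A ⊗[k] B) :
    ∃ E : Finset B, ∀ (B' : Subalgebra k B), (↑E : Set B) ⊆ B' →
      z ∈ Set.range (Algebra.TensorProduct.map (AlgHom.id k A) B'.val) := by
  classical
  obtain ⟨T, hT⟩ := TensorProduct.exists_finset z
  refine ⟨T.image Prod.snd, fun B' hB => ?_⟩
  have : z ∈ (Algebra.TensorProduct.map (AlgHom.id k A) B'.val).range := by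
    rw [hT]
    refine Subalgebra.sum_mem _ fun i hi => ?_
    have hi1 : i.2 ∈ B' := hB (by simpa using Finset.mem_image_of_mem Prod.snd hi)
    exact ⟨i.1 ⊗ₜ (⟨i.2, hi1⟩ : B'), by simp⟩
  exact this

section Sub

variable (k B : Type u) [Field k] [CommRing B] [IsDomain B] [Algebra k B]

/-- the subfield of `Frac B` generated by a finite subset of `B` -/
noncomputable def subField (E : Finset B) : IntermediateField k (FractionRing B) :=
  IntermediateField.adjoin k ((algebraMap B (FractionRing B)) '' (E : Set B))

/-- the trace on `B` of the subfield generated by a finite subset -/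
noncomputable def subAlg (E : Finset B) : Subalgebra k B :=
  (subField k B E).toSubalgebra.comap (IsScalarTower.toAlgHom k B (FractionRing B))

theorem mem_subAlg {E : Finset B} {b : B} :
    b ∈ subAlg k B E ↔ algebraMap B (FractionRing B) b ∈ subField k B E := Iff.rfl

theorem subset_subAlg (E : Finset B) : (↑E : Set B) ⊆ subAlg k B E := by
  intro e he
  rw [SetLike.mem_coe, mem_subAlg]
  exact IntermediateField.subset_adjoin _ _ ⟨e, he, rfl⟩

theorem adjoin_le_subAlg (E : Finset B) : Algebra.adjoin k (↑E : Set B) ≤ subAlg k B E :=
  Algebra.adjoin_le (subset_subAlg k B E)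

/-- the map `B ∩ L_E → L_E` -/
noncomputable def subAlgHom (E : Finset B) : subAlg k B E →ₐ[k] subField k B E where
  toFun b := ⟨algebraMap B (FractionRing B) b.1, b.2⟩
  map_one' := by ext; simp
  map_mul' x y := by ext; simp
  map_zero' := by ext; simp
  map_add' x y := by ext; simp
  commutes' c := by
    ext
    simp only [Subalgebra.coe_algebraMap]
    rw [← IsScalarTower.algebraMap_apply]
    rfl

noncomputable instance (E : Finset B) : Algebra (subAlg k B E) (subField k B E) :=
  (subAlgHom k B E).toRingHom.toAlgebra

instance (E : Finset B) : IsScalarTower k (subAlg k B E) (subField k B E) :=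
  IsScalarTower.of_algebraMap_eq fun c => ((subAlgHom k B E).commutes c).symm

theorem coe_algebraMap_subAlg (E : Finset B) (b : subAlg k B E) :
    ((algebraMap (subAlg k B E) (subField k B E) b : subField k B E) : FractionRing B) =
      algebraMap B (FractionRing B) b.1 := rfl

theorem algebraMap_subAlg_injective (E : Finset B) :
    Function.Injective (algebraMap (subAlg k B E) (subField k B E)) := by
  intro x y h
  have := congrArg (fun z : subField k B E => (z : FractionRing B)) h
  simp only [coe_algebraMap_subAlg] at this
  exact Subtype.ext (IsFractionRing.injective B (FractionRing B) this)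

instance (E : Finset B) : FaithfulSMul (subAlg k B E) (subField k B E) :=
  (faithfulSMul_iff_algebraMap_injective _ _).mpr (algebraMap_subAlg_injective k B E)

instance isFractionRing_subAlg (E : Finset B) :
    IsFractionRing (subAlg k B E) (subField k B E) := by
  apply IsFractionRing.of_field
  rintro ⟨z, hz⟩
  obtain ⟨r, hr, s, hs, rfl⟩ := IntermediateField.mem_adjoin_iff_div.mp hz
  have key : ∀ r ∈ Algebra.adjoin k ((algebraMap B (FractionRing B)) '' (E : Set B)),
      ∃ b : subAlg k B E, algebraMap B (FractionRing B) b.1 = r := by
    intro r hr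
    have h1 : Algebra.adjoin k ((algebraMap B (FractionRing B)) '' (E : Set B)) =
        (Algebra.adjoin k (↑E : Set B)).map (IsScalarTower.toAlgHom k B (FractionRing B)) := by
      rw [AlgHom.map_adjoin]
      rfl
    rw [h1] at hr
    obtain ⟨b, hb, rfl⟩ := hr
    exact ⟨⟨b, adjoin_le_subAlg k B E hb⟩, rfl⟩
  obtain ⟨x, hx⟩ := key r hr
  obtain ⟨y, hy⟩ := key s hs
  refine ⟨x, y, ?_⟩
  apply Subtype.ext
  simp only [IntermediateField.coe_div, coe_algebraMap_subAlg, hx, hy]

instance isIntegrallyClosed_subAlg [IsIntegrallyClosed B] (E : Finset B) :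
    IsIntegrallyClosed (subAlg k B E) := by
  rw [isIntegrallyClosed_iff (subField k B E)]
  intro x hx
  have h1 : IsIntegral B ((subField k B E).val x) :=
    hx.map_of_comp_eq (subAlg k B E).val.toRingHom (subField k B E).val.toRingHom (by
      ext b; rfl)
  obtain ⟨b, hb⟩ := IsIntegrallyClosed.isIntegral_iff.mp h1
  have hb' : b ∈ subAlg k B E := by
    rw [mem_subAlg, hb]
    exact x.2
  exact ⟨⟨b, hb'⟩, Subtype.ext hb⟩

theorem essFiniteType_subField (E : Finset B) : Algebra.EssFiniteType k (subField k B E) := by
  classical
  refine IntermediateField.essFiniteType_iff.mpr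
    ⟨E.image (algebraMap B (FractionRing B)), ?_⟩
  rw [Finset.coe_image]
  rfl

end Sub

section G

variable (k A B : Type u) [Field k] [CommRing A] [CommRing B] [IsDomain A] [IsDomain B]
  [IsIntegrallyClosed B] [Algebra k A] [Algebra k B]

/-- **Theorem G**: `A ⊗ B` is normal if `Frac A` is separable over `k`, `B` is a normal domain
and `A ⊗ L'` is normal for all finitely generated subfields `L'` of `Frac B`. -/
theorem isNormalRing_tensor_of_domains [Algebra.IsGeometricallyReduced k (FractionRing A)]
    (hE : ∀ L' : IntermediateField k (FractionRing B), Algebra.EssFiniteType k L' →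
      EGA4.IsNormalRing (A ⊗[k] L')) : EGA4.IsNormalRing (A ⊗[k] B) := by
  classical
  apply Groth.Agent.Helper7.NormCover.isNormalRing_of_covering
  intro F
  choose Ez hEz using exists_finset_range_right k A B
  set E : Finset B := F.biUnion Ez with hEdef
  refine ⟨A ⊗[k] subAlg k B E, inferInstance,
    (Algebra.TensorProduct.map (AlgHom.id k A) (subAlg k B E).val).toRingHom, ?_, ?_, ?_⟩
  · have h1 : Function.Injective (LinearMap.lTensor A (subAlg k B E).val.toLinearMap) :=
      Module.Flat.lTensor_preserves_injective_linearMap _ Subtype.val_injective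
    exact h1
  · haveI := essFiniteType_subField k B E
    haveI : IsNoetherianRing (FractionRing A ⊗[k] subField k B E) :=
      Algebra.EssFiniteType.isNoetherianRing (FractionRing A) _
    have hB' : EGA4.IsNormalRing (subAlg k B E) := isNormalRing_of_isDomain_isIntegrallyClosed _
    exact isNormalRing_tensor_of_fractionFields k A (subAlg k B E) (FractionRing A)
      (subField k B E)
      (isNormalRing_tensor_of_geomReduced k (subAlg k B E) (FractionRing A) hB')
      (hE _ (essFiniteType_subField k B E))
  · intro z hz
    refine hEz z (subAlg k B E) ?_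
    intro x hx
    apply subset_subAlg k B E
    rw [hEdef, Finset.coe_biUnion]
    exact Set.mem_biUnion hz hx

/-- EGA IV 6.14.? : tensor product of normal domains with separable fraction fields -/
theorem s2691 [IsIntegrallyClosed A] [Algebra.IsGeometricallyReduced k (FractionRing A)]
    [Algebra.IsGeometricallyReduced k (FractionRing B)] : EGA4.IsNormalRing (A ⊗[k] B) := by
  apply isNormalRing_tensor_of_domains k A B
  intro L' _
  haveI : Algebra.IsGeometricallyReduced k L' :=
    Algebra.IsGeometricallyReduced.of_injective L'.val Subtype.val_injective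
  have h := isNormalRing_tensor_of_geomReduced k A L' (isNormalRing_of_isDomain_isIntegrallyClosed A)
  exact Groth.Agent.Helper7.GeomRed.isNormalRing_of_ringEquiv _ _
    (Algebra.TensorProduct.comm k L' A).toRingEquiv h

end G

end Groth.Agent.Helper7.NormTensor
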