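import Mathlib
import Groth.Agent.Lib.Helper7.NormTensor3
import Groth.Agent.Lib.Helper9.SepFS
import Groth.Agent.Lib.Helper14.GeomRedTFAE
import Groth.Agent.Lib.Helper29.NormDesc

/-!
# Geometrically normal algebras: base change to arbitrary fields and tensor with normal rings
(helper7)
-/

set_option autoImplicit false
set_option linter.unusedSectionVars false
set_option linter.style.haveILetI false
universe u

namespace Groth.Agent.Helper7.NormTensor

open TensorProduct
open Groth.Agent.Helper7.GeomRed Groth.Agent.Helper7.GeomNormFG

theorem isReduced_of_isNormalRing {R : Type u} [CommRing R] (hR : EGA4.IsNormalRing R) :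
    IsReduced R := by
  refine ⟨fun x hx => ?_⟩
  apply eq_zero_of_localization
  intro J hJ
  haveI := hJ.isPrime
  haveI := (hR J).1
  exact (hx.map (algebraMap R (Localization.AtPrime J))).eq_zero

section Field

variable (k A : Type u) [Field k] [CommRing A] [Algebra k A]

/-- base change of a geometrically normal algebra to the algebraic closure -/
theorem isNormalRing_algebraicClosure_tensor (hA : EGA4.IsGeomNormal k A) :
    EGA4.IsNormalRing (AlgebraicClosure k ⊗[k] A) := by
  classical
  apply Groth.Agent.Helper7.NormCover.isNormalRing_of_covering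
  intro F
  choose Ez hEz using exists_finset_range k A (AlgebraicClosure k)
  set E : Finset (AlgebraicClosure k) := F.biUnion Ez with hEdef
  let K' : IntermediateField k (AlgebraicClosure k) := IntermediateField.adjoin k (E : Set _)
  haveI : FiniteDimensional k K' :=
    IntermediateField.finiteDimensional_adjoin (fun x _ => Algebra.IsIntegral.isIntegral x)
  refine ⟨K' ⊗[k] A, inferInstance,
    (Algebra.TensorProduct.map K'.val (AlgHom.id k A)).toRingHom, ?_, ?_, ?_⟩
  · have h1 : Function.Injective (LinearMap.rTensor A K'.val.toLinearMap) :=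
      Module.Flat.rTensor_preserves_injective_linearMap _ Subtype.val_injective
    exact h1
  · exact hA K' inferInstance
  · intro z hz
    refine hEz z K'.toSubalgebra ?_
    intro x hx
    apply IntermediateField.subset_adjoin
    rw [hEdef, Finset.coe_biUnion]
    exact Set.mem_biUnion hz hx

/-- **Field case**: a geometrically normal algebra stays normal after any field extension. -/
theorem isNormalRing_tensor_field_of_geomNormal (hA : EGA4.IsGeomNormal k A)
    (L : Type u) [Field L] [Algebra k L] : EGA4.IsNormalRing (A ⊗[k] L) := by
  let Ω := AlgebraicClosure k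
  haveI : Nontrivial (L ⊗[k] Ω) :=
    Algebra.TensorProduct.nontrivial_of_algebraMap_injective_of_flat_left (R := k) L Ω
      (algebraMap k Ω).injective
  obtain ⟨m, hm⟩ := Ideal.exists_maximal (L ⊗[k] Ω)
  letI : Field ((L ⊗[k] Ω) ⧸ m) := Ideal.Quotient.field m
  let Ls := (L ⊗[k] Ω) ⧸ m
  letI aΩ : Algebra Ω Ls :=
    ((Ideal.Quotient.mk m).comp
      (Algebra.TensorProduct.includeRight : Ω →ₐ[k] L ⊗[k] Ω).toRingHom).toAlgebra
  haveI tΩ : IsScalarTower k Ω Ls := IsScalarTower.of_algebraMap_eq fun c => by
    show algebraMap k Ls c = Ideal.Quotient.mk m ((1 : L) ⊗ₜ[k] algebraMap k Ω c)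
    rw [IsScalarTower.algebraMap_apply k (L ⊗[k] Ω) Ls, Algebra.TensorProduct.algebraMap_apply,
      Algebra.TensorProduct.tmul_one_eq_one_tmul]
    rfl
  -- normality over `Ω`
  have h1 : EGA4.IsNormalRing (Ω ⊗[k] A) := isNormalRing_algebraicClosure_tensor k A hA
  haveI : Algebra.IsGeometricallyReduced Ω Ls :=
    Groth.Agent.Helper9.SepFS.isGeometricallyReduced_of_perfectField
  have h2 : EGA4.IsNormalRing (Ls ⊗[Ω] (Ω ⊗[k] A)) :=
    isNormalRing_tensor_of_geomReduced Ω (Ω ⊗[k] A) Ls h1
  have h3 : EGA4.IsNormalRing (Ls ⊗[k] A) :=
    isNormalRing_of_ringEquiv _ _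
      (Algebra.TensorProduct.cancelBaseChange k Ω Ω Ls A).toRingEquiv h2
  have h4 : EGA4.IsNormalRing (A ⊗[k] Ls) :=
    isNormalRing_of_ringEquiv _ _ (Algebra.TensorProduct.comm k Ls A).toRingEquiv h3
  -- descent
  haveI : Module.FaithfullyFlat L Ls := inferInstance
  exact Groth.Agent.Helper29.NormDesc.isNormalRing_of_ringHom
    (Groth.Agent.Helper29.NormDesc.tmap k A L Ls).toRingHom
    (Groth.Agent.Helper29.NormDesc.tmap_faithfullyFlat k A L Ls) h4

/-- geometric normality passes to localizations -/
theorem isGeomNormal_localization (hA : EGA4.IsGeomNormal k A) (M : Submonoid A) (A' : Type u)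
    [CommRing A'] [Algebra A A'] [Algebra k A'] [IsScalarTower k A A'] [IsLocalization M A'] :
    EGA4.IsGeomNormal k A' := fun k' _ _ hfin =>
  isNormalRing_tensor_localization k' (hA k' hfin) M A'

/-- the fraction field of a geometrically normal domain is separable over the base field -/
theorem isGeometricallyReduced_fractionRing [IsDomain A] (hA : EGA4.IsGeomNormal k A) :
    Algebra.IsGeometricallyReduced k (FractionRing A) := by
  apply Groth.Agent.Helper14.isGeometricallyReduced_of_forall_finite_purelyInseparable
  intro k' _ _ hfin _
  exact isReduced_of_isNormalRing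
    (isGeomNormal_localization k A hA (nonZeroDivisors A) (FractionRing A) k' hfin)

end Field

section Local

/-- normality can be checked after localizing the base -/
theorem isNormalRing_of_forall_localization (R C : Type u) [CommRing R] [CommRing C] [Algebra R C]
    (H : ∀ (p : Ideal R) [p.IsPrime], EGA4.IsNormalRing (Localization.AtPrime p ⊗[R] C)) :
    EGA4.IsNormalRing C := by
  intro r hr
  let p : Ideal R := r.comap (algebraMap R C)
  haveI : p.IsPrime := Ideal.comap_isPrime _ _
  let C' := Localization.AtPrime p ⊗[R] C
  letI : Algebra C C' := Algebra.TensorProduct.rightAlgebra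
  let M : Submonoid C := Algebra.algebraMapSubmonoid C p.primeCompl
  haveI : IsLocalization M C' := by
    have := IsLocalization.tensorRight (R := R) (S := C) (A := Localization.AtPrime p) p.primeCompl
    exact this
  have hdisj : Disjoint (M : Set C) (r : Set C) := by
    rw [Set.disjoint_left]
    rintro _ ⟨a, ha, rfl⟩ har
    exact ha har
  let r' : Ideal C' := r.map (algebraMap C C')
  haveI hr' : r'.IsPrime := IsLocalization.isPrime_of_isPrime_disjoint M C' r hr hdisj
  have hcomap : r'.comap (algebraMap C C') = r := IsLocalization.comap_map_of_isPrime_disjoint M C' hr hdisj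
  haveI : IsLocalization.AtPrime (Localization.AtPrime r') (r'.comap (algebraMap C C')) :=
    IsLocalization.isLocalization_isLocalization_atPrime_isLocalization M
      (Localization.AtPrime r') r'
  obtain ⟨h1, h2⟩ := H p r'
  have key : ∀ (r₀ : Ideal C) [r₀.IsPrime], r₀ = r →
      IsLocalization.AtPrime (Localization.AtPrime r') r₀ →
      IsDomain (Localization.AtPrime r) ∧ IsIntegrallyClosed (Localization.AtPrime r) := by
    intro r₀ _ h0 hloc
    subst h0
    let e : Localization.AtPrime r₀ ≃ₐ[C] Localization.AtPrime r' :=
      IsLocalization.algEquiv r₀.primeCompl _ _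
    exact ⟨e.toRingEquiv.toMulEquiv.isDomain_iff.mpr h1,
      IsIntegrallyClosed.of_equiv (R := Localization.AtPrime r') e.symm.toRingEquiv⟩
  exact key _ hcomap inferInstance

end Local

section Main

variable (k A B : Type u) [Field k] [CommRing A] [CommRing B] [Algebra k A] [Algebra k B]

/-- the case of domains -/
theorem isNormalRing_tensor_of_geomNormal_of_domains [IsDomain A] [IsDomain B]
    [IsIntegrallyClosed B] (hA : EGA4.IsGeomNormal k A) : EGA4.IsNormalRing (A ⊗[k] B) := by
  haveI := isGeometricallyReduced_fractionRing k A hA
  apply isNormalRing_tensor_of_domains k A B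
  intro L' _
  exact isNormalRing_tensor_field_of_geomNormal k A hA L'

/-- **EGA IV 6.14.? / Stacks 06DF**: geometrically normal ⊗ normal is normal. -/
theorem isNormalRing_tensor_of_geomNormal (hA : EGA4.IsGeomNormal k A)
    (hB : EGA4.IsNormalRing B) : EGA4.IsNormalRing (A ⊗[k] B) := by
  apply isNormalRing_of_forall_localization A (A ⊗[k] B)
  intro p _
  have h1 : EGA4.IsNormalRing (Localization.AtPrime p ⊗[k] B) := by
    -- swap and localize `B`
    have h2 : EGA4.IsNormalRing (B ⊗[k] Localization.AtPrime p) := by
      apply isNormalRing_of_forall_localization B (B ⊗[k] Localization.AtPrime p)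
      intro q _
      have h3 : EGA4.IsNormalRing (Localization.AtPrime p ⊗[k] Localization.AtPrime q) := by
        obtain ⟨hd, hic⟩ := hB q
        have hAp : EGA4.IsGeomNormal k (Localization.AtPrime p) :=
          isGeomNormal_localization k A hA p.primeCompl _
        haveI : IsDomain (Localization.AtPrime p) := by
          have := hAp k inferInstance
          have h4 : EGA4.IsNormalRing (Localization.AtPrime p) :=
            isNormalRing_of_ringEquiv _ _ (Algebra.TensorProduct.lid k _).toRingEquiv this
          obtain ⟨h5, -⟩ := h4 (IsLocalRing.maximalIdeal _)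
          have e := IsLocalization.atUnits (Localization.AtPrime p)
              (IsLocalRing.maximalIdeal (Localization.AtPrime p)).primeCompl
              (S := Localization.AtPrime (IsLocalRing.maximalIdeal (Localization.AtPrime p)))
              (by
                intro x hx
                exact IsLocalRing.notMem_maximalIdeal.mp hx)
          exact e.toRingEquiv.toMulEquiv.isDomain_iff.mpr h5
        exact isNormalRing_tensor_of_geomNormal_of_domains k _ _ hAp
      have h4 : EGA4.IsNormalRing (Localization.AtPrime q ⊗[k] Localization.AtPrime p) :=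
        isNormalRing_of_ringEquiv _ _ (Algebra.TensorProduct.comm k _ _).toRingEquiv h3
      exact isNormalRing_of_ringEquiv _ _
        (Algebra.TensorProduct.cancelBaseChange k B B (Localization.AtPrime q)
          (Localization.AtPrime p)).symm.toRingEquiv h4
    exact isNormalRing_of_ringEquiv _ _ (Algebra.TensorProduct.comm k _ _).toRingEquiv h2
  exact isNormalRing_of_ringEquiv _ _
    (Algebra.TensorProduct.cancelBaseChange k A A (Localization.AtPrime p) B).symm.toRingEquiv h1

end Main

end Groth.Agent.Helper7.NormTensor
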