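import Mathlib
import Groth.Agent.Lib.Helper7.NormTensor4

/-!
# Geometric normality can be tested on finite purely inseparable extensions (helper7)
-/

set_option autoImplicit false
set_option linter.unusedSectionVars false
set_option linter.style.haveILetI false
universe u

namespace Groth.Agent.Helper7.NormTensor

open TensorProduct
open Groth.Agent.Helper7.GeomRed Groth.Agent.Helper7.GeomNormFG

section PI

variable (k A : Type u) [Field k] [CommRing A] [Algebra k A]

/-- base change to a purely inseparable algebraic extension, from the finite ones -/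
theorem isNormalRing_purelyInseparable_tensor (P : Type u) [Field P] [Algebra k P]
    [IsPurelyInseparable k P]
    (H : ∀ (k' : Type u) [Field k'] [Algebra k k'], Module.Finite k k' →
      IsPurelyInseparable k k' → EGA4.IsNormalRing (k' ⊗[k] A)) :
    EGA4.IsNormalRing (P ⊗[k] A) := by
  classical
  haveI : Algebra.IsAlgebraic k P := inferInstance
  apply Groth.Agent.Helper7.NormCover.isNormalRing_of_covering
  intro F
  choose Ez hEz using exists_finset_range k A P
  set E : Finset P := F.biUnion Ez with hEdef
  let K' : IntermediateField k P := IntermediateField.adjoin k (E : Set _)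
  haveI : FiniteDimensional k K' :=
    IntermediateField.finiteDimensional_adjoin (fun x _ => Algebra.IsIntegral.isIntegral x)
  haveI : IsPurelyInseparable k K' := IsPurelyInseparable.tower_bot k K' P
  refine ⟨K' ⊗[k] A, inferInstance,
    (Algebra.TensorProduct.map K'.val (AlgHom.id k A)).toRingHom, ?_, ?_, ?_⟩
  · have h1 : Function.Injective (LinearMap.rTensor A K'.val.toLinearMap) :=
      Module.Flat.rTensor_preserves_injective_linearMap _ Subtype.val_injective
    exact h1
  · exact H K' inferInstance inferInstance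
  · intro z hz
    refine hEz z K'.toSubalgebra ?_
    intro x hx
    apply IntermediateField.subset_adjoin
    rw [hEdef, Finset.coe_biUnion]
    exact Set.mem_biUnion hz hx

/-- normality after all finite purely inseparable extensions implies normality after all field
extensions -/
theorem isNormalRing_tensor_field_of_forall_purelyInseparable_aux
    (Ω : Type u) [Field Ω] [Algebra k Ω] [IsPurelyInseparable k Ω] [PerfectField Ω]
    (H : ∀ (k' : Type u) [Field k'] [Algebra k k'], Module.Finite k k' →
      IsPurelyInseparable k k' → EGA4.IsNormalRing (k' ⊗[k] A))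
    (L : Type u) [Field L] [Algebra k L] : EGA4.IsNormalRing (A ⊗[k] L) := by
  haveI : Nontrivial (L ⊗[k] Ω) :=
    Algebra.TensorProduct.nontrivial_of_algebraMap_injective_of_flat_left (R := k) L Ω
      (algebraMap k Ω).injective
  obtain ⟨m, hm⟩ := Ideal.exists_maximal (L ⊗[k] Ω)
  letI : Field ((L ⊗[k] Ω) ⧸ m) := Ideal.Quotient.field m
  let Ls := (L ⊗[k] Ω) ⧸ m
  letI aΩ : Algebra Ω Ls :=
    ((Ideal.Quotient.mk m).comp
      (Algebra.TensorProduct.includeRight : Ω →ₐ[k] L ⊗[k] Ω).toRingHom).toAlgebra
  haveI tΩ : IsScalarTower k Ω Ls := IsScalarTower.of_algebraMap_eq fun c => by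
    show algebraMap k Ls c = Ideal.Quotient.mk m ((1 : L) ⊗ₜ[k] algebraMap k Ω c)
    rw [IsScalarTower.algebraMap_apply k (L ⊗[k] Ω) Ls, Algebra.TensorProduct.algebraMap_apply,
      Algebra.TensorProduct.tmul_one_eq_one_tmul]
    rfl
  have h1 : EGA4.IsNormalRing (Ω ⊗[k] A) := isNormalRing_purelyInseparable_tensor k A Ω H
  haveI : Algebra.IsGeometricallyReduced Ω Ls :=
    Groth.Agent.Helper9.SepFS.isGeometricallyReduced_of_perfectField
  have h2 : EGA4.IsNormalRing (Ls ⊗[Ω] (Ω ⊗[k] A)) :=
    isNormalRing_tensor_of_geomReduced Ω (Ω ⊗[k] A) Ls h1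
  have h3 : EGA4.IsNormalRing (Ls ⊗[k] A) :=
    isNormalRing_of_ringEquiv _ _
      (Algebra.TensorProduct.cancelBaseChange k Ω Ω Ls A).toRingEquiv h2
  have h4 : EGA4.IsNormalRing (A ⊗[k] Ls) :=
    isNormalRing_of_ringEquiv _ _ (Algebra.TensorProduct.comm k Ls A).toRingEquiv h3
  haveI : Module.FaithfullyFlat L Ls := inferInstance
  exact Groth.Agent.Helper29.NormDesc.isNormalRing_of_ringHom
    (Groth.Agent.Helper29.NormDesc.tmap k A L Ls).toRingHom
    (Groth.Agent.Helper29.NormDesc.tmap_faithfullyFlat k A L Ls) h4

theorem isNormalRing_tensor_field_of_forall_purelyInseparable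
    (H : ∀ (k' : Type u) [Field k'] [Algebra k k'], Module.Finite k k' →
      IsPurelyInseparable k k' → EGA4.IsNormalRing (k' ⊗[k] A))
    (L : Type u) [Field L] [Algebra k L] : EGA4.IsNormalRing (A ⊗[k] L) :=
  isNormalRing_tensor_field_of_forall_purelyInseparable_aux k A
    (↥(perfectClosure k (AlgebraicClosure k))) H L

/-- S2070 -/
theorem s2070 :
    (∀ (k' : Type u) [Field k'] [Algebra k k'] (P : Ideal (k' ⊗[k] A)) [P.IsPrime],
        IsDomain (Localization.AtPrime P) ∧ IsIntegrallyClosed (Localization.AtPrime P)) ↔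
      ∀ (k' : Type u) [Field k'] [Algebra k k'], Module.Finite k k' → IsPurelyInseparable k k' →
        ∀ (P : Ideal (k' ⊗[k] A)) [P.IsPrime],
          IsDomain (Localization.AtPrime P) ∧ IsIntegrallyClosed (Localization.AtPrime P) := by
  constructor
  · intro h k' _ _ _ _ P _
    exact h k' P
  · intro h k' _ _
    have h1 : EGA4.IsNormalRing (A ⊗[k] k') :=
      isNormalRing_tensor_field_of_forall_purelyInseparable k A
        (fun k'' _ _ hfin hpi => fun P _ => h k'' hfin hpi P) k'
    have h2 : EGA4.IsNormalRing (k' ⊗[k] A) :=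
      isNormalRing_of_ringEquiv _ _ (Algebra.TensorProduct.comm k A k').toRingEquiv h1
    exact fun P _ => h2 P

end PI

end Groth.Agent.Helper7.NormTensor
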