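import Mathlib
import Groth.Agent.Lib.Helper18.StalkBC2
import Groth.Agent.Lib.Helper7.NormTensor5

/-!
# Geometric normality at a point via the local ring (helper7; adapted from helper18's StalkBC)
-/

set_option autoImplicit false
set_option linter.unusedSectionVars false
set_option linter.style.haveILetI false
universe u
open CategoryTheory CategoryTheory.Limits AlgebraicGeometry
open scoped TensorProduct

namespace Groth.Agent.Helper7.StalkNormal

open Groth.Agent.Helper18.StalkBC

/-- the property of being a normal domain -/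
def Nor (R : Type u) [CommRing R] : Prop := IsDomain R ∧ IsIntegrallyClosed R

theorem nor_of_ringEquiv {R S : Type u} [CommRing R] [CommRing S] (e : R ≃+* S) (h : Nor R) :
    Nor S := by
  obtain ⟨h1, h2⟩ := h
  exact ⟨e.toMulEquiv.isDomain_iff.mp h1, IsIntegrallyClosed.of_equiv e⟩

/-- normality can be checked at maximal ideals -/
theorem isNormalRing_of_forall_maximal (R : Type u) [CommRing R]
    (H : ∀ (m : Ideal R) [m.IsMaximal], Nor (Localization.AtPrime m)) : EGA4.IsNormalRing R := by
  intro q hq
  obtain ⟨m, hm, hqm⟩ := Ideal.exists_le_maximal q hq.ne_top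
  obtain ⟨hd, hic⟩ := H m
  have hnm : EGA4.IsNormalRing (Localization.AtPrime m) :=
    Groth.Agent.Helper7.NormTensor.isNormalRing_of_isDomain_isIntegrallyClosed _
  have hdisj : Disjoint (m.primeCompl : Set R) (q : Set R) := by
    rw [Set.disjoint_left]
    intro a ha haq
    exact ha (hqm haq)
  let q' : Ideal (Localization.AtPrime m) := q.map (algebraMap R (Localization.AtPrime m))
  haveI hq' : q'.IsPrime :=
    IsLocalization.isPrime_of_isPrime_disjoint m.primeCompl (Localization.AtPrime m) q hq hdisj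
  have hcomap : q'.comap (algebraMap R (Localization.AtPrime m)) = q :=
    IsLocalization.comap_map_of_isPrime_disjoint m.primeCompl (Localization.AtPrime m) hq hdisj
  haveI : IsLocalization.AtPrime (Localization.AtPrime q')
      (q'.comap (algebraMap R (Localization.AtPrime m))) :=
    IsLocalization.isLocalization_isLocalization_atPrime_isLocalization m.primeCompl
      (Localization.AtPrime q') q'
  obtain ⟨h1, h2⟩ := hnm q'
  have key : ∀ (r₀ : Ideal R) [r₀.IsPrime], r₀ = q →
      IsLocalization.AtPrime (Localization.AtPrime q') r₀ →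
      IsDomain (Localization.AtPrime q) ∧ IsIntegrallyClosed (Localization.AtPrime q) := by
    intro r₀ _ h0 hloc
    subst h0
    let e : Localization.AtPrime r₀ ≃ₐ[R] Localization.AtPrime q' :=
      IsLocalization.algEquiv r₀.primeCompl _ _
    exact ⟨e.toRingEquiv.toMulEquiv.isDomain_iff.mpr h1,
      IsIntegrallyClosed.of_equiv (R := Localization.AtPrime q') e.symm.toRingEquiv⟩
  exact key _ hcomap inferInstance

/-- Normality of stalks is equivalent along a flat preimmersion. -/
theorem nor_stalk_iff {Z X : Scheme.{u}} (j : Z ⟶ X) [Flat j] [IsPreimmersion j] (z : Z) :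
    Nor (Z.presheaf.stalk z) ↔ Nor (X.presheaf.stalk (j z)) := by
  let e : X.presheaf.stalk (j z) ≃+* Z.presheaf.stalk z :=
    RingEquiv.ofBijective (j.stalkMap z).hom (bijective_stalkMap j z)
  exact ⟨nor_of_ringEquiv e.symm, nor_of_ringEquiv e⟩

/-- the stalk of `Spec B` at a prime is normal iff the localization is -/
lemma nor_stalk_Spec_iff (B : Type u) [CommRing B] (y : PrimeSpectrum B) :
    Nor ((Spec (CommRingCat.of B)).presheaf.stalk y) ↔
      Nor (Localization.AtPrime y.asIdeal) := by
  letI : Algebra B ((Spec (CommRingCat.of B)).presheaf.stalk y) :=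
    StructureSheaf.stalkAlgebra B y
  haveI : IsLocalization.AtPrime ((Spec (CommRingCat.of B)).presheaf.stalk y) y.asIdeal :=
    StructureSheaf.IsLocalization.to_stalk B y
  let e : Localization.AtPrime y.asIdeal ≃ₐ[B] (Spec (CommRingCat.of B)).presheaf.stalk y :=
    IsLocalization.algEquiv y.asIdeal.primeCompl _ _
  exact ⟨nor_of_ringEquiv e.symm.toRingEquiv, nor_of_ringEquiv e.toRingEquiv⟩

section Field

variable {k : Type u} [Field k] {X : Scheme.{u}} (f : X ⟶ Spec (CommRingCat.of k))
  (K : Type u) [Field K] [Algebra k K]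

section Generic

variable {A : Type u} [CommRing A] [Algebra k A] (j : Spec (CommRingCat.of A) ⟶ X)
  (hj : j ≫ f = Spec.map (CommRingCat.ofHom (algebraMap k A)))

include hj in
/-- If `A ⊗_k K` is normal and `j : Spec A ⟶ X` is a flat preimmersion, the local rings of
`X_K` at all points over points in the range of `j` are normal. -/
theorem nor_stalk_of_isNormalRing_tensor_gen [Flat j] [IsPreimmersion j]
    (h : EGA4.IsNormalRing (A ⊗[k] K))
    (x' : ↥(FBase.bc f K)) (hx' : (FBase.bcπ f K).base x' ∈ Set.range j) :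
    Nor ((FBase.bc f K).presheaf.stalk x') := by
  obtain ⟨a, ha⟩ := hx'
  obtain ⟨z, -, hz⟩ := Scheme.Pullback.exists_preimage_pullback
    (f := j) (g := FBase.bcπ f K) a x' ha
  let e := isoW f K j hj
  have h0 : Nor ((Spec (CommRingCat.of (A ⊗[k] K))).presheaf.stalk (e.hom z)) := by
    refine (nor_stalk_Spec_iff (A ⊗[k] K) (e.hom z)).mpr ?_
    exact h _
  have h1 : Nor ((pullback j (FBase.bcπ f K)).presheaf.stalk z) := (nor_stalk_iff e.hom z).mpr h0
  have h2 := (nor_stalk_iff (pullback.snd j (FBase.bcπ f K)) z).mp h1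
  rw [show (pullback.snd j (FBase.bcπ f K)) z = x' from hz] at h2
  exact h2

include hj in
/-- If `K/k` is integral, `A` is local and `j : Spec A ⟶ X` is a flat preimmersion, then
`A ⊗_k K` is normal as soon as the local rings of `X_K` at the points over the image of the
closed point are normal. -/
theorem isNormalRing_tensor_of_nor_stalk_gen [Flat j] [IsPreimmersion j] [IsLocalRing A]
    [Algebra.IsIntegral k K]
    (h : ∀ x' : ↥(FBase.bc f K), (FBase.bcπ f K).base x' = j (IsLocalRing.closedPoint A) →
      Nor ((FBase.bc f K).presheaf.stalk x')) :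
    EGA4.IsNormalRing (A ⊗[k] K) := by
  apply isNormalRing_of_forall_maximal
  intro m hm
  let y₀ : PrimeSpectrum (A ⊗[k] K) := ⟨m, hm.isPrime⟩
  let y : Spec (CommRingCat.of (A ⊗[k] K)) := y₀
  refine (nor_stalk_Spec_iff (A ⊗[k] K) y₀).mp ?_
  show Nor ((Spec (CommRingCat.of (A ⊗[k] K))).presheaf.stalk y)
  let e := isoW f K j hj
  let z := e.inv y
  have hz1 : (pullback.fst j (FBase.bcπ f K)) z = IsLocalRing.closedPoint A := by
    have h1 : (pullback.fst j (FBase.bcπ f K)) z =
        (Spec.map (CommRingCat.ofHom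
          (Algebra.TensorProduct.includeLeftRingHom (R := k) (A := A) (B := K)))) y := by
      rw [← isoW_hom_fst f K j hj]
      show (e.hom ≫ _) (e.inv y) = _
      rw [Scheme.Hom.comp_apply, ← Scheme.Hom.comp_apply e.inv e.hom, e.inv_hom_id]
      rfl
    rw [h1]
    haveI : (Ideal.comap (algebraMap A (A ⊗[k] K)) m).IsMaximal :=
      Ideal.isMaximal_comap_of_isIntegral_of_isMaximal m
    apply PrimeSpectrum.ext
    show Ideal.comap (algebraMap A (A ⊗[k] K)) m = IsLocalRing.maximalIdeal A
    exact IsLocalRing.eq_maximalIdeal inferInstance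
  have hz2 : (FBase.bcπ f K).base ((pullback.snd j (FBase.bcπ f K)) z) =
      j (IsLocalRing.closedPoint A) := by
    rw [← hz1]
    have hc := pullback.condition (f := j) (g := FBase.bcπ f K)
    have := congrArg (fun φ : pullback j (FBase.bcπ f K) ⟶ X => φ z) hc
    simp only [Scheme.Hom.comp_apply] at this
    exact this.symm
  have h3 := h _ hz2
  have h4 := (nor_stalk_iff (pullback.snd j (FBase.bcπ f K)) z).mpr h3
  exact (nor_stalk_iff e.inv y).mpr h4

end Generic

end Field

section Main

variable {k : Type u} [Field k] {X : Scheme.{u}} (f : X ⟶ Spec (CommRingCat.of k)) (x : X)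
  (K : Type u) [Field K] [Algebra k K]

/-- Theorem A. -/
theorem nor_stalk_of_isNormalRing_tensor
    (h : letI := stalkAlg f x; EGA4.IsNormalRing ((X.presheaf.stalk x) ⊗[k] K))
    (x' : ↥(FBase.bc f K)) (hx' : (FBase.bcπ f K).base x' ⤳ x) :
    Nor ((FBase.bc f K).presheaf.stalk x') := by
  letI := stalkAlg f x
  let j : Spec (CommRingCat.of (X.presheaf.stalk x)) ⟶ X := X.fromSpecStalk x
  haveI : Flat j := inferInstanceAs (Flat (X.fromSpecStalk x))
  haveI : IsPreimmersion j := inferInstanceAs (IsPreimmersion (X.fromSpecStalk x))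
  have hj : j ≫ f = Spec.map (CommRingCat.ofHom (algebraMap k (X.presheaf.stalk x))) :=
    fromSpecStalk_comp f x
  refine nor_stalk_of_isNormalRing_tensor_gen f K j hj h x' ?_
  show (FBase.bcπ f K).base x' ∈ Set.range (X.fromSpecStalk x)
  rw [Scheme.range_fromSpecStalk]; exact hx'

/-- Theorem B. -/
theorem isNormalRing_tensor_of_nor_stalk [Algebra.IsIntegral k K]
    (h : ∀ x' : ↥(FBase.bc f K), (FBase.bcπ f K).base x' = x →
      Nor ((FBase.bc f K).presheaf.stalk x')) :
    letI := stalkAlg f x; EGA4.IsNormalRing ((X.presheaf.stalk x) ⊗[k] K) := by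
  letI := stalkAlg f x
  let j : Spec (CommRingCat.of (X.presheaf.stalk x)) ⟶ X := X.fromSpecStalk x
  haveI : Flat j := inferInstanceAs (Flat (X.fromSpecStalk x))
  haveI : IsPreimmersion j := inferInstanceAs (IsPreimmersion (X.fromSpecStalk x))
  have hj : j ≫ f = Spec.map (CommRingCat.ofHom (algebraMap k (X.presheaf.stalk x))) :=
    fromSpecStalk_comp f x
  refine isNormalRing_tensor_of_nor_stalk_gen f K j hj ?_
  intro x' hx'
  refine h x' ?_
  rw [hx']
  exact Scheme.fromSpecStalk_closedPoint

end Main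

end Groth.Agent.Helper7.StalkNormal

namespace Groth.Agent.Helper7.StalkNormal

open Groth.Agent.Helper18.StalkBC

attribute [local instance] Curv2.stalkAlgebra

theorem s7599 (k : Type u) [Field k] (X : Scheme.{u}) [X.Over (Spec (CommRingCat.of k))] (x : ↥X) :
    ((∀ (k' : Type u) [Field k'] [Algebra k k'] (x' : ↥(Curv2.bc k X k')), Curv2.bcFst k X k' x' = x →
          IsDomain ↥((Curv2.bc k X k').presheaf.stalk x') ∧ IsIntegrallyClosed ↥((Curv2.bc k X k').presheaf.stalk x')) ↔
      (∀ (k' : Type u) [Field k'] [Algebra k k'] [FiniteDimensional k k'] [IsPurelyInseparable k k'] (x' : ↥(Curv2.bc k X k')), Curv2.bcFst k X k' x' = x →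
          IsDomain ↥((Curv2.bc k X k').presheaf.stalk x') ∧ IsIntegrallyClosed ↥((Curv2.bc k X k').presheaf.stalk x'))) ∧
    ((∀ (k' : Type u) [Field k'] [Algebra k k'] [FiniteDimensional k k'] [IsPurelyInseparable k k'] (x' : ↥(Curv2.bc k X k')), Curv2.bcFst k X k' x' = x →
          IsDomain ↥((Curv2.bc k X k').presheaf.stalk x') ∧ IsIntegrallyClosed ↥((Curv2.bc k X k').presheaf.stalk x')) ↔
      ∀ (k' : Type u) [Field k'] [Algebra k k'], EGA4.IsNormalRing (k' ⊗[k] ↥(X.presheaf.stalk x))) := by
  have h31 : (∀ (k' : Type u) [Field k'] [Algebra k k'],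
      EGA4.IsNormalRing (k' ⊗[k] ↥(X.presheaf.stalk x))) →
      (∀ (k' : Type u) [Field k'] [Algebra k k'] (x' : ↥(Curv2.bc k X k')),
        Curv2.bcFst k X k' x' = x →
          IsDomain ↥((Curv2.bc k X k').presheaf.stalk x') ∧
            IsIntegrallyClosed ↥((Curv2.bc k X k').presheaf.stalk x')) := by
    intro h k' _ _ x' hx'
    have h' : EGA4.IsNormalRing (↥(X.presheaf.stalk x) ⊗[k] k') :=
      Groth.Agent.Helper7.GeomRed.isNormalRing_of_ringEquiv _ _
        (Algebra.TensorProduct.comm k k' _).toRingEquiv (h k')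
    exact nor_stalk_of_isNormalRing_tensor (X ↘ Spec (CommRingCat.of k)) x k' h' x'
      (hx' ▸ specializes_rfl)
  have h23 : (∀ (k' : Type u) [Field k'] [Algebra k k'] [FiniteDimensional k k']
      [IsPurelyInseparable k k'] (x' : ↥(Curv2.bc k X k')), Curv2.bcFst k X k' x' = x →
          IsDomain ↥((Curv2.bc k X k').presheaf.stalk x') ∧
            IsIntegrallyClosed ↥((Curv2.bc k X k').presheaf.stalk x')) →
      (∀ (k' : Type u) [Field k'] [Algebra k k'],
        EGA4.IsNormalRing (k' ⊗[k] ↥(X.presheaf.stalk x))) := by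
    intro h k' _ _
    have H : ∀ (k'' : Type u) [Field k''] [Algebra k k''], Module.Finite k k'' →
        IsPurelyInseparable k k'' → EGA4.IsNormalRing (k'' ⊗[k] ↥(X.presheaf.stalk x)) := by
      intro k'' _ _ hfin hpi
      haveI : Algebra.IsIntegral k k'' := inferInstance
      have h1 : EGA4.IsNormalRing (↥(X.presheaf.stalk x) ⊗[k] k'') :=
        isNormalRing_tensor_of_nor_stalk (X ↘ Spec (CommRingCat.of k)) x k''
          (fun x' hx' => h k'' x' hx')
      exact Groth.Agent.Helper7.GeomRed.isNormalRing_of_ringEquiv _ _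
        (Algebra.TensorProduct.comm k _ k'').toRingEquiv h1
    have h2 : EGA4.IsNormalRing (↥(X.presheaf.stalk x) ⊗[k] k') :=
      Groth.Agent.Helper7.NormTensor.isNormalRing_tensor_field_of_forall_purelyInseparable k _ H k'
    exact Groth.Agent.Helper7.GeomRed.isNormalRing_of_ringEquiv _ _
      (Algebra.TensorProduct.comm k _ k').toRingEquiv h2
  refine ⟨⟨fun h k' _ _ _ _ x' hx' => h k' x' hx', fun h => h31 (h23 h)⟩,
    ⟨h23, fun h k' _ _ _ _ x' hx' => h31 h k' x' hx'⟩⟩

end Groth.Agent.Helper7.StalkNormal
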