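import Mathlib
import Groth.Agent.Lib.Helper7.StalkNormal
import Groth.Agent.Lib.Helper7.GeomRed

/-!
# Normality of base changes and products of schemes over a field (helper7)
-/

set_option autoImplicit false
set_option linter.unusedSectionVars false
set_option linter.style.haveILetI false
universe u
open CategoryTheory CategoryTheory.Limits AlgebraicGeometry
open scoped TensorProduct

namespace Groth.Agent.Helper7.StalkNormal

open Groth.Agent.Helper18.StalkBC

/-- all stalks of `Spec R` are normal domains when `R` is a normal ring -/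
theorem isNormalScheme_Spec (R : Type u) [CommRing R] (h : EGA4.IsNormalRing R) :
    Pi1.IsNormalScheme (Spec (CommRingCat.of R)) := fun y =>
  (nor_stalk_Spec_iff R y).mpr (h _)

theorem isNormalScheme_of_iso {W W' : Scheme.{u}} (e : W' ≅ W) (h : Pi1.IsNormalScheme W) :
    Pi1.IsNormalScheme W' := fun w => (nor_stalk_iff e.hom w).mpr (h _)

theorem nor_stalk_of_mem_range {W Z : Scheme.{u}} (j : W ⟶ Z) [Flat j] [IsPreimmersion j]
    (h : Pi1.IsNormalScheme W) (z : Z) (hz : z ∈ Set.range j) : Nor (Z.presheaf.stalk z) := by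
  obtain ⟨w, rfl⟩ := hz
  exact (nor_stalk_iff j w).mp (h w)

/-- the fibre product of two affine schemes over a field with normal tensor product -/
theorem isNormalScheme_pullback_Spec {k A B : Type u} [Field k] [CommRing A] [CommRing B]
    [Algebra k A] [Algebra k B] (h : EGA4.IsNormalRing (A ⊗[k] B))
    (a : Spec (CommRingCat.of A) ⟶ Spec (CommRingCat.of k))
    (ha : a = Spec.map (CommRingCat.ofHom (algebraMap k A)))
    (b : Spec (CommRingCat.of B) ⟶ Spec (CommRingCat.of k))
    (hb : b = Spec.map (CommRingCat.ofHom (algebraMap k B))) :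
    Pi1.IsNormalScheme (pullback a b) := by
  subst ha hb
  exact isNormalScheme_of_iso (pullbackSpecIso k A B) (isNormalScheme_Spec _ h)

/-- local rings of `X ×_k Y` are normal when the tensor product of the local rings is -/
theorem nor_stalk_pullback {k : Type u} [Field k] {X Y : Scheme.{u}}
    (f : X ⟶ Spec (CommRingCat.of k)) (g : Y ⟶ Spec (CommRingCat.of k))
    (z : ↥(pullback f g)) (x : X) (y : Y) (hx : pullback.fst f g z = x)
    (hy : pullback.snd f g z = y)
    (h : letI := stalkAlg f x; letI := stalkAlg g y;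
      EGA4.IsNormalRing ((X.presheaf.stalk x) ⊗[k] (Y.presheaf.stalk y))) :
    Nor ((pullback f g).presheaf.stalk z) := by
  letI := stalkAlg f x
  letI := stalkAlg g y
  let jx : Spec (CommRingCat.of (X.presheaf.stalk x)) ⟶ X := X.fromSpecStalk x
  haveI : Flat jx := inferInstanceAs (Flat (X.fromSpecStalk x))
  haveI : IsPreimmersion jx := inferInstanceAs (IsPreimmersion (X.fromSpecStalk x))
  have hjx : jx ≫ f = Spec.map (CommRingCat.ofHom (algebraMap k (X.presheaf.stalk x))) :=
    fromSpecStalk_comp f x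
  let jy : Spec (CommRingCat.of (Y.presheaf.stalk y)) ⟶ Y := Y.fromSpecStalk y
  haveI : Flat jy := inferInstanceAs (Flat (Y.fromSpecStalk y))
  haveI : IsPreimmersion jy := inferInstanceAs (IsPreimmersion (Y.fromSpecStalk y))
  have hjy : jy ≫ g = Spec.map (CommRingCat.ofHom (algebraMap k (Y.presheaf.stalk y))) :=
    fromSpecStalk_comp g y
  -- the final scheme
  have hW : Pi1.IsNormalScheme (pullback (jx ≫ f) (jy ≫ g)) :=
    isNormalScheme_pullback_Spec h _ hjx _ hjy
  -- step back along `jy`
  have hW2 : Pi1.IsNormalScheme (pullback (pullback.snd (jx ≫ f) g) jy) :=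
    isNormalScheme_of_iso (pullbackLeftPullbackSndIso (jx ≫ f) g jy) hW
  -- step A: lift z
  have ha : jx (IsLocalRing.closedPoint (X.presheaf.stalk x)) = pullback.fst f g z := by
    rw [hx]; exact Scheme.fromSpecStalk_closedPoint
  obtain ⟨w1, -, hw1⟩ := Scheme.Pullback.exists_preimage_pullback
    (f := jx) (g := pullback.fst f g) _ z ha
  have h1 : Nor ((pullback jx (pullback.fst f g)).presheaf.stalk w1) := by
    let e1 := pullbackRightPullbackFstIso f g jx
    refine (nor_stalk_iff e1.hom w1).mpr ?_
    have hsnd : pullback.snd (jx ≫ f) g (e1.hom w1) = y := by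
      have := congrArg (fun φ : pullback jx (pullback.fst f g) ⟶ Y => φ w1)
        (pullbackRightPullbackFstIso_hom_snd f g jx)
      simp only [Scheme.Hom.comp_apply] at this
      rw [this, hw1, hy]
    have hb : pullback.snd (jx ≫ f) g (e1.hom w1) =
        jy (IsLocalRing.closedPoint (Y.presheaf.stalk y)) := by
      rw [hsnd]; exact Scheme.fromSpecStalk_closedPoint.symm
    obtain ⟨w3, hw3, -⟩ := Scheme.Pullback.exists_preimage_pullback
      (f := pullback.snd (jx ≫ f) g) (g := jy) (e1.hom w1) _ hb
    exact nor_stalk_of_mem_range (pullback.fst (pullback.snd (jx ≫ f) g) jy) hW2 _ ⟨w3, hw3⟩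
  have h2 := (nor_stalk_iff (pullback.snd jx (pullback.fst f g)) w1).mp h1
  rw [show (pullback.snd jx (pullback.fst f g)) w1 = z from hw1] at h2
  exact h2


attribute [local instance] Curv2.stalkAlgebra

theorem isNormalRing_of_nor (R : Type u) [CommRing R] (h : Nor R) : EGA4.IsNormalRing R := by
  obtain ⟨h1, h2⟩ := h
  exact Groth.Agent.Helper7.NormTensor.isNormalRing_of_isDomain_isIntegrallyClosed R

theorem s7602 (k : Type u) [Field k] (X : Scheme.{u}) [X.Over (Spec (CommRingCat.of k))]
    (hX : Pi1.IsNormalScheme X)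
    (K : Type u) [Field K] [Algebra k K]
    [hK : GeometricallyReduced (Spec.map (CommRingCat.ofHom (algebraMap k K)))] :
    Pi1.IsNormalScheme (Curv2.bc k X K) := by
  intro x'
  haveI : Algebra.IsGeometricallyReduced k K := by
    rw [Algebra.isGeometricallyReduced_field_iff]
    have h1 : IsReduced (K ⊗[k] AlgebraicClosure k) :=
      Groth.Agent.Helper7.isReduced_tensor_of_geometricallyReduced hK
    exact isReduced_of_injective (Algebra.TensorProduct.comm k (AlgebraicClosure k) K)
      (Algebra.TensorProduct.comm k (AlgebraicClosure k) K).injective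
  have h1 : EGA4.IsNormalRing (X.presheaf.stalk (Curv2.bcFst k X K x')) :=
    isNormalRing_of_nor _ (hX _)
  have h2 : EGA4.IsNormalRing (K ⊗[k] ↥(X.presheaf.stalk (Curv2.bcFst k X K x'))) :=
    Groth.Agent.Helper7.NormTensor.isNormalRing_tensor_of_geomReduced k _ K h1
  have h3 : EGA4.IsNormalRing (↥(X.presheaf.stalk (Curv2.bcFst k X K x')) ⊗[k] K) :=
    Groth.Agent.Helper7.GeomRed.isNormalRing_of_ringEquiv _ _
      (Algebra.TensorProduct.comm k K _).toRingEquiv h2
  exact nor_stalk_of_isNormalRing_tensor (X ↘ Spec (CommRingCat.of k)) _ K h3 x' specializes_rfl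

theorem s1668 (k : Type u) [Field k] (X : Scheme.{u}) [X.Over (Spec (CommRingCat.of k))]
    (h : ∀ (k' : Type u) [Field k'] [Algebra k k'] [FiniteDimensional k k']
      [IsPurelyInseparable k k'], Pi1.IsNormalScheme (Curv2.bc k X k'))
    (K : Type u) [Field K] [Algebra k K] : Pi1.IsNormalScheme (Curv2.bc k X K) := by
  intro x'
  have H : ∀ (k'' : Type u) [Field k''] [Algebra k k''], Module.Finite k k'' →
      IsPurelyInseparable k k'' →
        EGA4.IsNormalRing (k'' ⊗[k] ↥(X.presheaf.stalk (Curv2.bcFst k X K x'))) := by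
    intro k'' _ _ hfin hpi
    haveI : Algebra.IsIntegral k k'' := inferInstance
    have h1 : EGA4.IsNormalRing (↥(X.presheaf.stalk (Curv2.bcFst k X K x')) ⊗[k] k'') :=
      isNormalRing_tensor_of_nor_stalk (X ↘ Spec (CommRingCat.of k)) _ k''
        (fun x'' _ => h k'' x'')
    exact Groth.Agent.Helper7.GeomRed.isNormalRing_of_ringEquiv _ _
      (Algebra.TensorProduct.comm k _ k'').toRingEquiv h1
  have h2 : EGA4.IsNormalRing (↥(X.presheaf.stalk (Curv2.bcFst k X K x')) ⊗[k] K) :=
    Groth.Agent.Helper7.NormTensor.isNormalRing_tensor_field_of_forall_purelyInseparable k _ H K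
  exact nor_stalk_of_isNormalRing_tensor (X ↘ Spec (CommRingCat.of k)) _ K h2 x' specializes_rfl

theorem s7601 (k : Type u) [Field k] (X : Scheme.{u}) [X.Over (Spec (CommRingCat.of k))]
    (Y : Scheme.{u}) [Y.Over (Spec (CommRingCat.of k))]
    (hX : ∀ (K : Type u) [Field K] [Algebra k K], Pi1.IsNormalScheme (Curv2.bc k X K))
    (hY : Pi1.IsNormalScheme Y) :
    Pi1.IsNormalScheme (pullback (X ↘ (Spec (CommRingCat.of k))) (Y ↘ (Spec (CommRingCat.of k)))) := by
  intro z
  set x := pullback.fst (X ↘ (Spec (CommRingCat.of k))) (Y ↘ (Spec (CommRingCat.of k))) z with hx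
  set y := pullback.snd (X ↘ (Spec (CommRingCat.of k))) (Y ↘ (Spec (CommRingCat.of k))) z with hy
  have hA : EGA4.IsGeomNormal k (X.presheaf.stalk x) := by
    intro k' _ _ hfin
    haveI : Algebra.IsIntegral k k' := inferInstance
    have h1 : EGA4.IsNormalRing (↥(X.presheaf.stalk x) ⊗[k] k') :=
      isNormalRing_tensor_of_nor_stalk (X ↘ Spec (CommRingCat.of k)) _ k'
        (fun x'' _ => hX k' x'')
    exact Groth.Agent.Helper7.GeomRed.isNormalRing_of_ringEquiv _ _
      (Algebra.TensorProduct.comm k _ k').toRingEquiv h1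
  have hB : EGA4.IsNormalRing (Y.presheaf.stalk y) := isNormalRing_of_nor _ (hY y)
  have h3 : EGA4.IsNormalRing (↥(X.presheaf.stalk x) ⊗[k] ↥(Y.presheaf.stalk y)) :=
    Groth.Agent.Helper7.NormTensor.isNormalRing_tensor_of_geomNormal k _ _ hA hB
  exact nor_stalk_pullback (X ↘ (Spec (CommRingCat.of k))) (Y ↘ (Spec (CommRingCat.of k))) z x y
    hx.symm hy.symm h3

end Groth.Agent.Helper7.StalkNormal
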