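import Mathlib
import Groth.Agent.Lib.Helper1.GU8
import Groth.Agent.Lib.Helper7.StalkNormal2

/-!
# Connected Noetherian schemes with integral local rings are irreducible (helper7)
-/

set_option autoImplicit false
set_option linter.unusedSectionVars false
set_option linter.style.haveILetI false
universe u
open CategoryTheory CategoryTheory.Limits AlgebraicGeometry
open scoped TensorProduct

namespace Groth.Agent.Helper7.NormalConn

/-- the set of maximal points -/
def maxPts (X : Type*) [TopologicalSpace X] : Set X := {ζ | ∀ y, y ⤳ ζ → y = ζ}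

section Top

variable {X : Type*} [TopologicalSpace X] [T0Space X] [QuasiSober X]

theorem exists_maxPt_specializes (x : X) : ∃ ζ ∈ maxPts X, ζ ⤳ x ∧
    IsGenericPoint ζ (irreducibleComponent x) := by
  obtain ⟨ζ, hζ⟩ := QuasiSober.sober (isIrreducible_irreducibleComponent (x := x))
    isClosed_irreducibleComponent
  have hζcl : closure ({ζ} : Set X) = irreducibleComponent x := hζ
  refine ⟨ζ, ?_, ?_, hζ⟩
  · intro y hy
    have h1 : ζ ∈ closure ({y} : Set X) := specializes_iff_mem_closure.mp hy
    have h2 : closure ({ζ} : Set X) ⊆ closure ({y} : Set X) :=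
      closure_minimal (Set.singleton_subset_iff.mpr h1) isClosed_closure
    have h3 : closure ({y} : Set X) ⊆ irreducibleComponent x :=
      (irreducibleComponent_mem_irreducibleComponents x).2 isIrreducible_singleton.closure
        (hζcl ▸ h2)
    have h4 : y ∈ closure ({ζ} : Set X) := by
      rw [hζcl]
      exact h3 (subset_closure (Set.mem_singleton y))
    exact (hy.antisymm (specializes_iff_mem_closure.mpr h4)).eq
  · rw [specializes_iff_mem_closure, hζcl]
    exact mem_irreducibleComponent

theorem finite_maxPts [TopologicalSpace.NoetherianSpace X] : (maxPts X).Finite := by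
  classical
  have hfin := TopologicalSpace.NoetherianSpace.finite_irreducibleComponents (α := X)
  have key : maxPts X ⊆ ⋃ Z ∈ irreducibleComponents X, {ζ | IsGenericPoint ζ Z} := by
    intro ζ hζ
    obtain ⟨ζ', hζ', hsp, hgen⟩ := exists_maxPt_specializes ζ
    have : ζ' = ζ := hζ ζ' hsp
    subst this
    simp only [Set.mem_iUnion]
    exact ⟨irreducibleComponent ζ', irreducibleComponent_mem_irreducibleComponents ζ', hgen⟩
  refine (hfin.biUnion fun Z _ => ?_).subset key
  apply Set.Subsingleton.finite
  intro a ha b hb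
  exact IsGenericPoint.eq ha hb

end Top

/-- two maximal points specializing to a point with integral local ring coincide -/
theorem maxPt_unique (X : Scheme.{u}) (x : X) [IsDomain (X.presheaf.stalk x)]
    (ζ₁ ζ₂ : X) (h₁ : ζ₁ ∈ maxPts X) (h₂ : ζ₂ ∈ maxPts X) (hs₁ : ζ₁ ⤳ x) (hs₂ : ζ₂ ⤳ x) :
    ζ₁ = ζ₂ := by
  let j := X.fromSpecStalk x
  have hrange : Set.range j = {y | y ⤳ x} := Scheme.range_fromSpecStalk
  let η : PrimeSpectrum (X.presheaf.stalk x) := ⟨⊥, Ideal.isPrime_bot⟩
  have key : ∀ ζ ∈ maxPts X, ζ ⤳ x → j η = ζ := by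
    intro ζ hζ hs
    obtain ⟨p, hp⟩ : ζ ∈ Set.range j := by rw [hrange]; exact hs
    have h1 : η ⤳ p := (PrimeSpectrum.le_iff_specializes η p).mp bot_le
    have h2 : j η ⤳ j p := h1.map j.continuous
    rw [hp] at h2
    exact hζ _ h2
  rw [← key ζ₁ h₁ hs₁, ← key ζ₂ h₂ hs₂]

theorem irreducibleSpace_of_forall_isDomain_stalk (X : Scheme.{u})
    [TopologicalSpace.NoetherianSpace X] [ConnectedSpace X]
    (h : ∀ x : X, IsDomain (X.presheaf.stalk x)) : IrreducibleSpace X := by
  refine Groth.Agent.Helper1.GU.irreducibleSpace_of_preconnected (maxPts X) ?_ ?_ ?_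
  · intro x
    obtain ⟨ζ, hζ, hsp, -⟩ := exists_maxPt_specializes x
    exact ⟨ζ, hζ, hsp⟩
  · intro x ζ₁ ζ₂ h₁ h₂ hs₁ hs₂
    haveI := h x
    exact maxPt_unique X x ζ₁ ζ₂ h₁ h₂ hs₁ hs₂
  · intro x
    exact ⟨Set.univ, isOpen_univ, trivial, finite_maxPts.subset Set.inter_subset_left⟩

end Groth.Agent.Helper7.NormalConn

namespace Groth.Agent.Helper7.NormalConn

open Groth.Agent.Helper7.StalkNormal

theorem s7603 (k : Type u) [Field k] (X : Scheme.{u}) [X.Over (Spec (CommRingCat.of k))]
    [IsProper (X ↘ (Spec (CommRingCat.of k)))]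
    (hX : ∀ (K : Type u) [Field K] [Algebra k K], Pi1.IsNormalScheme (Curv2.bc k X K)) :
    GeometricallyConnected (X ↘ (Spec (CommRingCat.of k))) ↔
      GeometricallyIrreducible (X ↘ (Spec (CommRingCat.of k))) := by
  constructor
  · intro hc
    refine ⟨fun K _ y Z fst snd hsq => ?_⟩
    haveI : ConnectedSpace Z := hc.geometrically_connectedSpace y fst snd hsq
    letI : Algebra k K := (Spec.preimage y).hom.toAlgebra
    have hy : y = Spec.map (CommRingCat.ofHom (algebraMap k K)) := (Spec.map_preimage y).symm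
    have hsq' : IsPullback fst snd (X ↘ (Spec (CommRingCat.of k)))
        (Spec.map (CommRingCat.ofHom (algebraMap k K))) := hy ▸ hsq
    have hnor : Pi1.IsNormalScheme Z := isNormalScheme_of_iso hsq'.isoPullback (hX K)
    haveI : IsProper snd := MorphismProperty.of_isPullback hsq (inferInstance :
      IsProper (X ↘ (Spec (CommRingCat.of k))))
    haveI : IsLocallyNoetherian Z := LocallyOfFiniteType.isLocallyNoetherian snd
    haveI : CompactSpace Z := QuasiCompact.compactSpace_of_compactSpace snd
    haveI : IsNoetherian Z := {}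
    exact irreducibleSpace_of_forall_isDomain_stalk Z (fun z => (hnor z).1)
  · intro hi
    refine ⟨fun K _ y Z fst snd hsq => ?_⟩
    haveI : IrreducibleSpace Z := hi.geometrically_irreducibleSpace y fst snd hsq
    infer_instance

end Groth.Agent.Helper7.NormalConn
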