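import Mathlib
import Groth.Agent.Lib.Helper7.NormalConn
import Groth.Agent.Lib.Helper26.NormInt4

/-!
# Sections of a normal Noetherian scheme over an open form a normal ring (helper7)
-/

set_option autoImplicit false
set_option linter.unusedSectionVars false
set_option linter.style.haveILetI false
universe u
open CategoryTheory CategoryTheory.Limits AlgebraicGeometry TopologicalSpace

namespace Groth.Agent.Helper7.NormalSections

open Groth.Agent.Helper7.NormalConn

variable (X : Scheme.{u})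

/-- the generization map of local rings is injective when the source is a domain -/
theorem stalkSpecializes_injective {x y : X} (h : x ⤳ y) [IsDomain (X.presheaf.stalk y)] :
    Function.Injective (X.presheaf.stalkSpecializes h).hom := by
  rw [injective_iff_map_eq_zero]
  intro a ha
  obtain ⟨W, hyW, r₀, rfl⟩ := X.presheaf.exists_germ_eq a
  obtain ⟨V, hV, hyV, hVW⟩ := exists_isAffineOpen_mem_and_subset (x := y) (U := W) hyW
  have hxV : x ∈ V := h.mem_open V.isOpen hyV
  set r : Γ(X, V) := (X.presheaf.map (homOfLE hVW).op).hom r₀ with hr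
  have hgr : (X.presheaf.germ W y hyW).hom r₀ = (X.presheaf.germ V y hyV).hom r :=
    (TopCat.Presheaf.germ_res_apply X.presheaf (homOfLE hVW) y hyV r₀).symm
  rw [hgr] at ha ⊢
  have hsp : ∀ t : Γ(X, V), (X.presheaf.stalkSpecializes h).hom ((X.presheaf.germ V y hyV).hom t) =
      (X.presheaf.germ V x hxV).hom t := by
    intro t
    have := congrArg (fun φ => φ.hom t) (X.presheaf.germ_stalkSpecializes hyV h)
    simp only [CommRingCat.hom_comp, RingHom.comp_apply] at this
    exact this
  rw [hsp] at ha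
  letI := X.presheaf.algebra_section_stalk ⟨x, hxV⟩
  haveI := hV.isLocalization_stalk ⟨x, hxV⟩
  have ha' : algebraMap Γ(X, V) (X.presheaf.stalk x) r = 0 := ha
  rw [IsLocalization.map_eq_zero_iff (hV.primeIdealOf ⟨x, hxV⟩).asIdeal.primeCompl] at ha'
  obtain ⟨⟨t, ht⟩, htr⟩ := ha'
  have hmul : (X.presheaf.germ V y hyV).hom t * (X.presheaf.germ V y hyV).hom r = 0 := by
    rw [← map_mul]
    have : t * r = 0 := htr
    rw [this, map_zero]
  rcases mul_eq_zero.mp hmul with h0 | h0
  · exfalso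
    have h1 : (X.presheaf.germ V x hxV).hom t = 0 := by
      rw [← hsp, h0, map_zero]
    have h2 : IsUnit (algebraMap Γ(X, V) (X.presheaf.stalk x) t) :=
      IsLocalization.map_units (X.presheaf.stalk x)
        (⟨t, ht⟩ : (hV.primeIdealOf ⟨x, hxV⟩).asIdeal.primeCompl)
    have h3 : algebraMap Γ(X, V) (X.presheaf.stalk x) t = 0 := h1
    rw [h3] at h2
    exact not_isUnit_zero h2
  · exact h0

/-- the set of points where a section has zero germ is open -/
theorem isOpen_germ_eq_zero (W : X.Opens) (s : Γ(X, W)) :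
    IsOpen {w : X | ∃ hw : w ∈ W, (X.presheaf.germ W w hw).hom s = 0} := by
  rw [isOpen_iff_forall_mem_open]
  rintro w ⟨hw, h0⟩
  obtain ⟨U, hwU, i₁, i₂, heq⟩ := X.presheaf.germ_eq w hw hw s 0 (by rw [h0, map_zero])
  refine ⟨U, ?_, U.isOpen, hwU⟩
  intro z hz
  have hzW : z ∈ W := i₁.le hz
  refine ⟨hzW, ?_⟩
  have h1 := TopCat.Presheaf.germ_res_apply X.presheaf i₁ z hz s
  have h2 := TopCat.Presheaf.germ_res_apply X.presheaf i₂ z hz (0 : Γ(X, W))
  rw [← h1, heq, h2, map_zero]

/-- on a Noetherian scheme with integral local rings, the set of points where a section has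
nonzero germ is open -/
theorem isOpen_germ_ne_zero [NoetherianSpace X] (hdom : ∀ x : X, IsDomain (X.presheaf.stalk x))
    (W : X.Opens) (s : Γ(X, W)) :
    IsOpen {w : X | ∃ hw : w ∈ W, (X.presheaf.germ W w hw).hom s ≠ 0} := by
  rw [isOpen_iff_forall_mem_open]
  rintro w₀ ⟨hw₀, hne⟩
  obtain ⟨ζ₀, hζ₀, hsp₀, -⟩ := exists_maxPt_specializes w₀
  let T : Set X := ⋃ ζ ∈ (maxPts X \ {ζ₀}), closure ({ζ} : Set X)
  have hT : IsClosed T :=
    (finite_maxPts.subset Set.sdiff_subset).isClosed_biUnion fun _ _ => isClosed_closure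
  refine ⟨(W : Set X) ∩ Tᶜ, ?_, W.isOpen.inter hT.isOpen_compl, ⟨hw₀, ?_⟩⟩
  · rintro z ⟨hzW, hzT⟩
    refine ⟨hzW, ?_⟩
    intro hz0
    obtain ⟨ζ, hζ, hsp, -⟩ := exists_maxPt_specializes z
    have hζζ₀ : ζ = ζ₀ := by
      by_contra hne'
      apply hzT
      simp only [T, Set.mem_iUnion]
      exact ⟨ζ, ⟨hζ, hne'⟩, specializes_iff_mem_closure.mp hsp⟩
    subst hζζ₀
    have hζW : ζ ∈ W := hsp.mem_open W.isOpen hzW
    have e1 : (X.presheaf.germ W ζ hζW).hom s = 0 := by
      have := congrArg (fun φ => φ.hom s) (X.presheaf.germ_stalkSpecializes hzW hsp)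
      simp only [CommRingCat.hom_comp, RingHom.comp_apply] at this
      rw [← this, hz0, map_zero]
    have e2 : (X.presheaf.stalkSpecializes hsp₀).hom ((X.presheaf.germ W w₀ hw₀).hom s) = 0 := by
      have := congrArg (fun φ => φ.hom s) (X.presheaf.germ_stalkSpecializes hw₀ hsp₀)
      simp only [CommRingCat.hom_comp, RingHom.comp_apply] at this
      rw [this, e1]
    haveI := hdom w₀
    apply hne
    apply stalkSpecializes_injective X hsp₀
    rw [e2, map_zero]
  · intro hwT
    simp only [T, Set.mem_iUnion] at hwT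
    obtain ⟨ζ, ⟨hζ, hne'⟩, hcl⟩ := hwT
    apply hne'
    haveI := hdom w₀
    exact maxPt_unique X w₀ ζ ζ₀ hζ hζ₀ (specializes_iff_mem_closure.mpr hcl) hsp₀

/-- a non-zero-divisor of the ring of sections over an open has nonzero germ everywhere -/
theorem germ_ne_zero_of_mem_nonZeroDivisors [NoetherianSpace X]
    (hdom : ∀ x : X, IsDomain (X.presheaf.stalk x)) (W : X.Opens) (s : Γ(X, W))
    (hs : s ∈ nonZeroDivisors Γ(X, W)) (w : X) (hw : w ∈ W) :
    (X.presheaf.germ W w hw).hom s ≠ 0 := by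
  intro h0
  let E₀ : X.Opens := ⟨_, isOpen_germ_eq_zero X W s⟩
  let E₁ : X.Opens := ⟨_, isOpen_germ_ne_zero X hdom W s⟩
  let U : Bool → X.Opens := fun b => bif b then E₀ else E₁
  have hUW : ∀ b, U b ≤ W := by
    rintro (_ | _) z ⟨hz, -⟩ <;> exact hz
  let sf : ∀ b, Γ(X, U b) := fun b => match b with
    | true => 1
    | false => 0
  have hdisj : E₀ ⊓ E₁ = ⊥ := by
    rw [eq_bot_iff]
    rintro z ⟨⟨_, h1⟩, ⟨_, h2⟩⟩
    exact (h2 h1).elim
  have hcompat : TopCat.Presheaf.IsCompatible X.sheaf.1 U sf := by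
    intro i j
    by_cases h : i = j
    · subst h
      rfl
    · have hbot : U i ⊓ U j = ⊥ := by
        rcases i with _ | _ <;> rcases j with _ | _
        · exact (h rfl).elim
        · rw [inf_comm]; exact hdisj
        · exact hdisj
        · exact (h rfl).elim
      have hsub : Subsingleton Γ(X, U i ⊓ U j) := by
        rw [hbot]
        infer_instance
      exact @Subsingleton.elim Γ(X, U i ⊓ U j) hsub _ _
  obtain ⟨e, he, -⟩ : ∃! e : Γ(X, W), ∀ b,
      (X.presheaf.map (homOfLE (hUW b)).op).hom e = sf b :=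
    X.sheaf.existsUnique_gluing' U W (fun b => homOfLE (hUW b))
    (fun z hz => by
      by_cases hz0 : (X.presheaf.germ W z hz).hom s = 0
      · exact Opens.mem_iSup.mpr ⟨true, ⟨hz, hz0⟩⟩
      · exact Opens.mem_iSup.mpr ⟨false, ⟨hz, hz0⟩⟩) sf hcompat
  have hse : e * s = 0 := by
    apply TopCat.Presheaf.section_ext X.sheaf W
    intro z hz
    change (X.presheaf.germ W z hz).hom (e * s) = (X.presheaf.germ W z hz).hom 0
    rw [map_mul, map_zero]
    by_cases hz0 : (X.presheaf.germ W z hz).hom s = 0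
    · rw [hz0, mul_zero]
    · have hzE : z ∈ U false := ⟨hz, hz0⟩
      have h1 := TopCat.Presheaf.germ_res_apply X.presheaf (homOfLE (hUW false)) z hzE e
      have h2 : (X.presheaf.map (homOfLE (hUW false)).op).hom e = 0 := he false
      rw [← h1, h2, map_zero, zero_mul]
  have he0 : e = 0 := (mem_nonZeroDivisors_iff_right.mp hs) e hse
  have hwE : w ∈ U true := ⟨hw, h0⟩
  have h1 := TopCat.Presheaf.germ_res_apply X.presheaf (homOfLE (hUW true)) w hwE e
  have h2 : (X.presheaf.map (homOfLE (hUW true)).op).hom e = 1 := he true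
  rw [h2, map_one, he0, map_zero] at h1
  haveI := hdom w
  exact one_ne_zero h1

/-- local division: an integral fraction `a / s` is locally a section -/
theorem exists_local_div [NoetherianSpace X] (hX : Pi1.IsNormalScheme X) (W : X.Opens)
    (x : FractionRing Γ(X, W)) (hx : IsIntegral Γ(X, W) x) (a s : Γ(X, W))
    (hxas : x * algebraMap Γ(X, W) (FractionRing Γ(X, W)) s =
      algebraMap Γ(X, W) (FractionRing Γ(X, W)) a) (w : X) (hw : w ∈ W) :
    ∃ (U : X.Opens) (_ : w ∈ U) (hUW : U ≤ W) (c : Γ(X, U)),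
      (X.presheaf.map (homOfLE hUW).op).hom a = (X.presheaf.map (homOfLE hUW).op).hom s * c := by
  have hdom : ∀ x : X, IsDomain (X.presheaf.stalk x) := fun x => (hX x).1
  have hnz := germ_ne_zero_of_mem_nonZeroDivisors X hdom W
  haveI := hdom w
  haveI := (hX w).2
  let g : Γ(X, W) →+* X.presheaf.stalk w := (X.presheaf.germ W w hw).hom
  let K := FractionRing (X.presheaf.stalk w)
  have hinj : Function.Injective (algebraMap (X.presheaf.stalk w) K) :=
    IsFractionRing.injective _ K
  have hg : ∀ t : nonZeroDivisors Γ(X, W),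
      IsUnit (((algebraMap (X.presheaf.stalk w) K).comp g) t) := by
    intro t
    apply IsUnit.mk0
    rw [RingHom.comp_apply]
    intro h0
    exact hnz t.1 t.2 w hw (hinj (h0.trans (map_zero _).symm))
  let ψ : FractionRing Γ(X, W) →+* K := IsLocalization.lift hg
  have hψ : ∀ r, ψ (algebraMap _ _ r) = algebraMap _ K (g r) := fun r =>
    IsLocalization.lift_eq hg r
  have hint : IsIntegral (X.presheaf.stalk w) (ψ x) := by
    refine IsIntegral.map_of_comp_eq g ψ ?_ hx
    ext r
    simp only [RingHom.comp_apply]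
    exact (hψ r).symm
  obtain ⟨c₀, hc₀⟩ := IsIntegrallyClosed.isIntegral_iff.mp hint
  have hdiv : g a = g s * c₀ := by
    apply hinj
    rw [map_mul, hc₀, ← hψ, ← hψ, ← map_mul, mul_comm, hxas]
  obtain ⟨U₀, hwU₀, c₁, hc₁⟩ := X.presheaf.exists_germ_eq c₀
  have hwU₀W : w ∈ U₀ ⊓ W := ⟨hwU₀, hw⟩
  let t : Γ(X, U₀ ⊓ W) := (X.presheaf.map (homOfLE (inf_le_right : U₀ ⊓ W ≤ W)).op).hom s *
    (X.presheaf.map (homOfLE (inf_le_left : U₀ ⊓ W ≤ U₀)).op).hom c₁
  have hgerm : (X.presheaf.germ W w hw).hom a = (X.presheaf.germ (U₀ ⊓ W) w hwU₀W).hom t := by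
    simp only [t, map_mul]
    rw [TopCat.Presheaf.germ_res_apply, TopCat.Presheaf.germ_res_apply, hc₁]
    exact hdiv
  obtain ⟨U, hwU, i₁, i₂, heq⟩ := X.presheaf.germ_eq w hw hwU₀W a t hgerm
  refine ⟨U, hwU, i₁.le, (X.presheaf.map (i₂ ≫ homOfLE (inf_le_left : U₀ ⊓ W ≤ U₀)).op).hom c₁, ?_⟩
  have heq' : (X.presheaf.map i₁.op).hom a = (X.presheaf.map i₂.op).hom t := heq
  have e1 : (X.presheaf.map (homOfLE i₁.le).op).hom a = (X.presheaf.map i₁.op).hom a := rfl
  rw [e1, heq']
  simp only [t, map_mul]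
  congr 1
  · rw [← RingHom.comp_apply, ← CommRingCat.hom_comp, ← X.presheaf.map_comp]
    rfl
  · rw [← RingHom.comp_apply, ← CommRingCat.hom_comp, ← X.presheaf.map_comp]
    rfl

/-- the ring of sections of a normal Noetherian scheme over an open is integrally closed in its
total ring of fractions -/
theorem intClosedInTotal_sections [NoetherianSpace X] (hX : Pi1.IsNormalScheme X)
    (W : X.Opens) : Groth.Agent.Lib.Helper26.NormInt2.IntClosedInTotal Γ(X, W) := by
  intro x hx
  have hdom : ∀ x : X, IsDomain (X.presheaf.stalk x) := fun x => (hX x).1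
  have hnz := germ_ne_zero_of_mem_nonZeroDivisors X hdom W
  obtain ⟨⟨a, ⟨s, hs⟩⟩, hxas⟩ := IsLocalization.surj (nonZeroDivisors Γ(X, W)) x
  have hxas' : x * algebraMap Γ(X, W) (FractionRing Γ(X, W)) s =
      algebraMap Γ(X, W) (FractionRing Γ(X, W)) a := hxas
  have loc : ∀ w : W, ∃ (U : X.Opens) (_ : w.1 ∈ U) (hUW : U ≤ W) (c : Γ(X, U)),
      (X.presheaf.map (homOfLE hUW).op).hom a = (X.presheaf.map (homOfLE hUW).op).hom s * c :=
    fun w => exists_local_div X hX W x hx a s hxas' w.1 w.2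
  choose U hwU hUW c hc using loc
  have compat : TopCat.Presheaf.IsCompatible X.sheaf.1 U c := by
    intro w w'
    apply TopCat.Presheaf.section_ext X.sheaf (U w ⊓ U w')
    intro z hz
    haveI := hdom z
    have hzW : z ∈ W := hUW w hz.1
    have hsz : (X.presheaf.germ W z hzW).hom s ≠ 0 := hnz s hs z hzW
    have key : ∀ (w₁ : W) (hz₁ : z ∈ U w₁), (X.presheaf.germ W z hzW).hom a =
        (X.presheaf.germ W z hzW).hom s * (X.presheaf.germ (U w₁) z hz₁).hom (c w₁) := by
      intro w₁ hz₁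
      have h1 := congrArg (X.presheaf.germ (U w₁) z hz₁).hom (hc w₁)
      rw [map_mul, TopCat.Presheaf.germ_res_apply, TopCat.Presheaf.germ_res_apply] at h1
      exact h1
    have h2 := (key w hz.1).symm.trans (key w' hz.2)
    have h3 := mul_left_cancel₀ hsz h2
    have e1 := TopCat.Presheaf.germ_res_apply X.presheaf (Opens.infLELeft (U w) (U w')) z hz (c w)
    have e2 := TopCat.Presheaf.germ_res_apply X.presheaf (Opens.infLERight (U w) (U w')) z hz
      (c w')
    exact e1.trans (h3.trans e2.symm)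
  obtain ⟨d, hd, -⟩ : ∃! d : Γ(X, W), ∀ w : W,
      (X.presheaf.map (homOfLE (hUW w)).op).hom d = c w :=
    X.sheaf.existsUnique_gluing' U W (fun w => homOfLE (hUW w))
      (fun z hz => Opens.mem_iSup.mpr ⟨⟨z, hz⟩, hwU ⟨z, hz⟩⟩) c compat
  have had : a = s * d := by
    apply TopCat.Presheaf.section_ext X.sheaf W
    intro z hz
    change (X.presheaf.germ W z hz).hom a = (X.presheaf.germ W z hz).hom (s * d)
    have h1 := congrArg (X.presheaf.germ (U ⟨z, hz⟩) z (hwU ⟨z, hz⟩)).hom (hc ⟨z, hz⟩)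
    rw [map_mul, TopCat.Presheaf.germ_res_apply, TopCat.Presheaf.germ_res_apply] at h1
    rw [map_mul, h1, ← hd ⟨z, hz⟩, TopCat.Presheaf.germ_res_apply]
  refine ⟨d, ?_⟩
  have hu : IsUnit (algebraMap Γ(X, W) (FractionRing Γ(X, W)) s) :=
    IsLocalization.map_units _ (⟨s, hs⟩ : nonZeroDivisors Γ(X, W))
  apply hu.mul_right_cancel
  rw [hxas', had, map_mul, mul_comm]

/-- **Lemma N**: the ring of sections of a normal Noetherian scheme over an open is a normal
ring (as soon as it has finitely many minimal primes). -/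
theorem isNormalRing_sections [NoetherianSpace X] (hX : Pi1.IsNormalScheme X) (W : X.Opens)
    (hfin : (minimalPrimes Γ(X, W)).Finite) : EGA4.IsNormalRing Γ(X, W) := by
  haveI : ∀ x : X, _root_.IsReduced (X.presheaf.stalk x) := fun x => by
    haveI := (hX x).1
    infer_instance
  haveI : IsReduced X := isReduced_of_isReduced_stalk X
  exact Groth.Agent.Lib.Helper26.NormInt4.isNormalRing_of_intClosedInTotal hfin
    (intClosedInTotal_sections X hX W)

variable {X}

/-- normality descends along a morphism `f : X ⟶ Y` with `O_Y ≅ f_* O_X` -/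
theorem isNormalScheme_of_app_isIso {Y : Scheme.{u}} (f : X ⟶ Y) [NoetherianSpace X]
    [IsLocallyNoetherian Y] (hfib : ∀ V : Y.Opens, IsIso (f.app V))
    (hX : Pi1.IsNormalScheme X) : Pi1.IsNormalScheme Y := by
  intro y
  obtain ⟨V, hV, hyV, -⟩ := exists_isAffineOpen_mem_and_subset (x := y) (U := ⊤) trivial
  haveI : IsNoetherianRing Γ(Y, V) := IsLocallyNoetherian.component_noetherian ⟨V, hV⟩
  haveI := hfib V
  let e : Γ(Y, V) ≃+* Γ(X, f ⁻¹ᵁ V) := (asIso (f.app V)).commRingCatIsoToRingEquiv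
  haveI : IsNoetherianRing Γ(X, f ⁻¹ᵁ V) := isNoetherianRing_of_ringEquiv _ e
  have hC : EGA4.IsNormalRing Γ(X, f ⁻¹ᵁ V) :=
    isNormalRing_sections X hX _ (minimalPrimes.finite_of_isNoetherianRing _)
  letI := Y.presheaf.algebra_section_stalk ⟨y, hyV⟩
  haveI := hV.isLocalization_stalk ⟨y, hyV⟩
  set p := (hV.primeIdealOf ⟨y, hyV⟩).asIdeal with hp
  obtain ⟨h1, h2⟩ := hC (p.comap e.symm)
  let g : Localization.AtPrime (p.comap e.symm) ≃+* Localization.AtPrime p :=
    IsLocalization.ringEquivOfRingEquiv (Localization.AtPrime (p.comap e.symm))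
      (Localization.AtPrime p) e.symm (e.symm.map_primeCompl_comap_eq p)
  let g' : Localization.AtPrime p ≃+* Y.presheaf.stalk y :=
    (IsLocalization.algEquiv p.primeCompl (Localization.AtPrime p)
      (Y.presheaf.stalk y)).toRingEquiv
  have hd : IsDomain (Y.presheaf.stalk y) := (g.trans g').toMulEquiv.isDomain_iff.mp h1
  exact ⟨hd, IsIntegrallyClosed.of_equiv (g.trans g')⟩

end Groth.Agent.Helper7.NormalSections

namespace Groth.Agent.Helper7.NormalSections

theorem noetherianSpace_of_finiteType (k : Type u) [Field k] (X : Scheme.{u})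
    (p : X ⟶ Spec (CommRingCat.of k)) [LocallyOfFiniteType p] [QuasiCompact p] :
    IsNoetherian X := by
  haveI : IsLocallyNoetherian X := LocallyOfFiniteType.isLocallyNoetherian p
  haveI : CompactSpace X := QuasiCompact.compactSpace_of_compactSpace p
  exact {}

theorem s19513 (k : Type u) [Field k] (X Y : Scheme.{u})
    [X.Over (Spec (CommRingCat.of k))] [Y.Over (Spec (CommRingCat.of k))]
    [IsProper (X ↘ Spec (CommRingCat.of k))] [IsProper (Y ↘ Spec (CommRingCat.of k))]
    (f : X ⟶ Y) (hf : f ≫ (Y ↘ Spec (CommRingCat.of k)) = X ↘ Spec (CommRingCat.of k))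
    (hfib : ∀ V : Y.Opens, IsIso (f.app V))
    (hX : Pi1.IsNormalScheme X) : Pi1.IsNormalScheme Y := by
  haveI := noetherianSpace_of_finiteType k X (X ↘ Spec (CommRingCat.of k))
  haveI := noetherianSpace_of_finiteType k Y (Y ↘ Spec (CommRingCat.of k))
  exact isNormalScheme_of_app_isIso f hfib hX

theorem s20014 (k : Type u) [Field k]
    (X Xt : Scheme.{u}) [X.Over (Spec (CommRingCat.of k))] [Xt.Over (Spec (CommRingCat.of k))]
    [LocallyOfFiniteType (X ↘ Spec (CommRingCat.of k))] [QuasiCompact (X ↘ Spec (CommRingCat.of k))]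
    (f : Xt ⟶ X) (hf : f ≫ (X ↘ Spec (CommRingCat.of k)) = Xt ↘ Spec (CommRingCat.of k))
    [IsProper f]
    (hfib : ∀ V : X.Opens, IsIso (f.app V))
    (hXt : Pi1.IsNormalScheme Xt) : Pi1.IsNormalScheme X := by
  haveI : LocallyOfFiniteType (Xt ↘ Spec (CommRingCat.of k)) := by
    rw [← hf]; infer_instance
  haveI : QuasiCompact (Xt ↘ Spec (CommRingCat.of k)) := by
    rw [← hf]; infer_instance
  haveI := noetherianSpace_of_finiteType k X (X ↘ Spec (CommRingCat.of k))
  haveI := noetherianSpace_of_finiteType k Xt (Xt ↘ Spec (CommRingCat.of k))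
  exact isNormalScheme_of_app_isIso f hfib hXt

end Groth.Agent.Helper7.NormalSections
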