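import Mathlib.AlgebraicGeometry.Geometrically.Basic
import Mathlib.AlgebraicGeometry.Geometrically.Irreducible
import Mathlib.AlgebraicGeometry.Geometrically.Connected
import Mathlib.AlgebraicGeometry.Morphisms.UnderlyingMap

set_option autoImplicit false
universe u
open AlgebraicGeometry CategoryTheory CategoryTheory.Limits

namespace Groth.Agent.Helper7

/-- If a property of schemes passes to surjective images, then "geometrically P" passes from
`h ≫ g` to `g` when `h` is surjective. -/
theorem geometrically_of_comp_surjective (P : ObjectProperty Scheme.{u})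
    (hP : ∀ {A B : Scheme.{u}} (φ : A ⟶ B), Surjective φ → P A → P B)
    {X Y S : Scheme.{u}} (h : X ⟶ Y) (g : Y ⟶ S) [Surjective h]
    (H : geometrically P (h ≫ g)) : geometrically P g := by
  intro K _ y Z fst snd hpb
  have h1 : IsPullback (pullback.fst h fst) (pullback.snd h fst) h fst := .of_hasPullback _ _
  have h2 : IsPullback (pullback.fst h fst) (pullback.snd h fst ≫ snd) (h ≫ g) y :=
    h1.paste_vert hpb
  have h3 : P (pullback h fst) := H y _ _ h2
  have : Surjective (pullback.snd h fst) := inferInstance
  exact hP (pullback.snd h fst) this h3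

/-- "geometrically P" descends along a surjective base change when P passes to surjective images. -/
theorem geometrically_of_pullback_snd_surjective (P : ObjectProperty Scheme.{u})
    (hP : ∀ {A B : Scheme.{u}} (φ : A ⟶ B), Surjective φ → P A → P B)
    {X Y Y' : Scheme.{u}} (f : X ⟶ Y) (g : Y' ⟶ Y) [Surjective g]
    (H : geometrically P (pullback.snd f g)) : geometrically P f := by
  intro K _ y Z fst snd hpb
  -- a point of `Spec K ×_Y Y'`
  obtain ⟨pt⟩ : Nonempty (Spec (.of K)) := inferInstance
  obtain ⟨y', hy'⟩ := (inferInstance : Surjective g).surj (y pt)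
  obtain ⟨t, -, -⟩ := Scheme.Pullback.exists_preimage_pullback (f := y) (g := g) pt y' hy'.symm
  let W := pullback y g
  let L := W.residueField t
  let i : Spec (.of L) ⟶ W := W.fromSpecResidueField t
  let a : Spec (.of L) ⟶ Spec (.of K) := i ≫ pullback.fst y g
  let b : Spec (.of L) ⟶ Y' := i ≫ pullback.snd y g
  have hab : a ≫ y = b ≫ g := by
    simp only [a, b, Category.assoc, pullback.condition]
  -- T = Z ×_K L
  have hT : IsPullback (pullback.fst snd a) (pullback.snd snd a) snd a := .of_hasPullback _ _
  have hout : IsPullback (pullback.fst snd a ≫ fst) (pullback.snd snd a) f (a ≫ y) :=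
    hT.paste_horiz hpb
  let k : pullback snd a ⟶ pullback f g :=
    pullback.lift (pullback.fst snd a ≫ fst) (pullback.snd snd a ≫ b) (by
      rw [Category.assoc, hpb.w, Category.assoc, ← hab, pullback.condition_assoc])
  have hk1 : k ≫ pullback.fst f g = pullback.fst snd a ≫ fst := pullback.lift_fst _ _ _
  have hk2 : k ≫ pullback.snd f g = pullback.snd snd a ≫ b := pullback.lift_snd _ _ _
  have hright : IsPullback (pullback.fst f g) (pullback.snd f g) f g := .of_hasPullback _ _
  have hleft : IsPullback k (pullback.snd snd a) (pullback.snd f g) b := by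
    refine IsPullback.of_right ?_ hk2 hright
    rw [hk1, ← hab]
    exact hout
  have hPT : P (pullback snd a) := H b k (pullback.snd snd a) hleft
  have : Surjective a := ⟨fun x => ⟨Nonempty.some inferInstance, Subsingleton.elim _ _⟩⟩
  have : Surjective (pullback.fst snd a) := inferInstance
  exact hP (pullback.fst snd a) this hPT

end Groth.Agent.Helper7
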