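import Mathlib
import Groth.Agent.Lib.Helper7.Geom

set_option autoImplicit false
universe u
open AlgebraicGeometry CategoryTheory CategoryTheory.Limits

namespace Groth.Agent.Helper7

/-- Reducedness descends along flat surjective morphisms. -/
theorem isReduced_of_flat_surjective {A B : Scheme.{u}} (φ : A ⟶ B) [Flat φ] [Surjective φ]
    [IsReduced A] : IsReduced B := by
  have : ∀ y : B, _root_.IsReduced (B.presheaf.stalk y) := by
    intro y
    obtain ⟨x, rfl⟩ := φ.surjective y
    have hflat := Flat.stalkMap φ x
    algebraize [(φ.stalkMap x).hom]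
    have : IsLocalHom (algebraMap (B.presheaf.stalk (φ x)) (A.presheaf.stalk x)) :=
      inferInstanceAs (IsLocalHom (φ.stalkMap x).hom)
    have : Module.FaithfullyFlat (B.presheaf.stalk (φ x)) (A.presheaf.stalk x) :=
      Module.FaithfullyFlat.of_flat_of_isLocalHom
    exact isReduced_of_injective (algebraMap (B.presheaf.stalk (φ x)) (A.presheaf.stalk x))
      (FaithfulSMul.algebraMap_injective _ _)
  exact isReduced_of_isReduced_stalk B

/-- "geometrically P" descends along a surjective base change when P passes to flat surjective
images. -/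
theorem geometrically_of_pullback_snd_surjective_flat (P : ObjectProperty Scheme.{u})
    (hP : ∀ {A B : Scheme.{u}} (φ : A ⟶ B), Surjective φ → Flat φ → P A → P B)
    {X Y Y' : Scheme.{u}} (f : X ⟶ Y) (g : Y' ⟶ Y) [Surjective g]
    (H : geometrically P (pullback.snd f g)) : geometrically P f := by
  intro K _ y Z fst snd hpb
  -- a point of `Spec K ×_Y Y'`
  obtain ⟨pt⟩ : Nonempty (Spec (.of K)) := inferInstance
  obtain ⟨y', hy'⟩ := (inferInstance : Surjective g).surj (y pt)
  obtain ⟨t, -, -⟩ := Scheme.Pullback.exists_preimage_pullback (f := y) (g := g) pt y' hy'.symm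
  let W := pullback y g
  let L := W.residueField t
  let i : Spec (.of L) ⟶ W := W.fromSpecResidueField t
  let a : Spec (.of L) ⟶ Spec (.of K) := i ≫ pullback.fst y g
  let b : Spec (.of L) ⟶ Y' := i ≫ pullback.snd y g
  have hab : a ≫ y = b ≫ g := by
    simp only [a, b, Category.assoc, pullback.condition]
  -- T = Z ×_K L
  have hT : IsPullback (pullback.fst snd a) (pullback.snd snd a) snd a := .of_hasPullback _ _
  have hout : IsPullback (pullback.fst snd a ≫ fst) (pullback.snd snd a) f (a ≫ y) :=
    hT.paste_horiz hpb
  let k : pullback snd a ⟶ pullback f g :=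
    pullback.lift (pullback.fst snd a ≫ fst) (pullback.snd snd a ≫ b) (by
      rw [Category.assoc, hpb.w, Category.assoc, ← hab, pullback.condition_assoc])
  have hk1 : k ≫ pullback.fst f g = pullback.fst snd a ≫ fst := pullback.lift_fst _ _ _
  have hk2 : k ≫ pullback.snd f g = pullback.snd snd a ≫ b := pullback.lift_snd _ _ _
  have hright : IsPullback (pullback.fst f g) (pullback.snd f g) f g := .of_hasPullback _ _
  have hleft : IsPullback k (pullback.snd snd a) (pullback.snd f g) b := by
    refine IsPullback.of_right ?_ hk2 hright
    rw [hk1, ← hab]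
    exact hout
  have hPT : P (pullback snd a) := H b k (pullback.snd snd a) hleft
  have : Surjective a := ⟨fun x => ⟨Nonempty.some inferInstance, Subsingleton.elim _ _⟩⟩
  have : Flat a := inferInstance
  have : Surjective (pullback.fst snd a) := inferInstance
  have : Flat (pullback.fst snd a) := inferInstance
  exact hP (pullback.fst snd a) inferInstance inferInstance hPT

end Groth.Agent.Helper7
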