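import Mathlib

set_option autoImplicit false
universe u
open AlgebraicGeometry CategoryTheory CategoryTheory.Limits

namespace Groth.Agent.Helper7.LimBC

variable {I : Type u} [Category.{u} I] (D : I ⥤ Scheme.{u}) (c : Cone D) (hc : IsLimit c)

set_option backward.isDefEq.respectTransparency false in
/-- The diagram `j ↦ D j ×_{D i} T` over `Over i`. -/
@[simps] noncomputable
def pbDiagram (i : I) {T : Scheme.{u}} (g : T ⟶ D.obj i) : Over i ⥤ Scheme.{u} where
  obj j := pullback (D.map j.hom) g
  map {j k} f := pullback.lift (pullback.fst _ _ ≫ D.map f.left) (pullback.snd _ _)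
    (by rw [Category.assoc, ← D.map_comp, Over.w f, pullback.condition])
  map_id j := by
    apply pullback.hom_ext <;> simp
  map_comp f h := by
    apply pullback.hom_ext <;> simp

set_option backward.isDefEq.respectTransparency false in
/-- The projection to the original diagram. -/
@[simps] noncomputable
def pbDiagramι (i : I) {T : Scheme.{u}} (g : T ⟶ D.obj i) :
    pbDiagram D i g ⟶ Over.forget i ⋙ D where
  app j := pullback.fst _ _
  naturality j k f := by simp

set_option backward.isDefEq.respectTransparency false in
/-- The projection to the constant diagram `T`. -/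
@[simps] noncomputable
def pbDiagramSnd (i : I) {T : Scheme.{u}} (g : T ⟶ D.obj i) :
    pbDiagram D i g ⟶ (Functor.const _).obj T where
  app j := pullback.snd _ _
  naturality j k f := by simp

set_option backward.isDefEq.respectTransparency false in
/-- The base-changed cone. -/
@[simps] noncomputable
def pbCone (i : I) {T : Scheme.{u}} (g : T ⟶ D.obj i) : Cone (pbDiagram D i g) where
  pt := pullback (c.π.app i) g
  π :=
  { app j := pullback.lift (pullback.fst _ _ ≫ c.π.app j.left) (pullback.snd _ _)
      (by rw [Category.assoc, Cone.w, pullback.condition])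
    naturality j k f := by
      apply pullback.hom_ext <;> simp }

attribute [local instance] CategoryTheory.isConnected_of_hasTerminal

set_option backward.isDefEq.respectTransparency false in
/-- The base change of a limit cone along `T ⟶ D i` is a limit cone (over `Over i`). -/
noncomputable
def isLimitPbCone [IsCofiltered I] (i : I) {T : Scheme.{u}} (g : T ⟶ D.obj i) :
    IsLimit (pbCone D c i g) :=
  isLimitOfIsPullbackOfIsConnected (pbDiagramι D i g) _ _
    (by exact { hom := pullback.fst (c.π.app i) g })
    (fun j ↦ by
      have h1 : IsPullback (pullback.snd (D.map j.hom) g) (pullback.fst (D.map j.hom) g) g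
          (D.map j.hom) := (IsPullback.of_hasPullback _ _).flip
      have h2 : IsPullback (pullback.snd (c.π.app i) g) (pullback.fst (c.π.app i) g) g
          (c.π.app i) := (IsPullback.of_hasPullback _ _).flip
      refine IsPullback.of_right ?_ ?_ h1
      · simpa using h2
      · simp)
    ((Functor.Initial.isLimitWhiskerEquiv (Over.forget i) c).symm hc)


set_option backward.isDefEq.respectTransparency false in
instance pbDiagram_isAffineHom [∀ {i j} (f : i ⟶ j), IsAffineHom (D.map f)] (i : I)
    {T : Scheme.{u}} (g : T ⟶ D.obj i) {j k : Over i} (f : j ⟶ k) :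
    IsAffineHom ((pbDiagram D i g).map f) := by
  have h1 : IsAffineHom (pullback.snd (D.map k.hom) g) :=
    MorphismProperty.pullback_snd (P := @IsAffineHom) _ _ inferInstance
  have h2 : IsAffineHom ((pbDiagram D i g).map f ≫ pullback.snd (D.map k.hom) g) := by
    simp only [pbDiagram_map, limit.lift_π, PullbackCone.mk_π_app]
    exact MorphismProperty.pullback_snd (P := @IsAffineHom) _ _ inferInstance
  exact IsAffineHom.of_comp _ (pullback.snd (D.map k.hom) g)

set_option backward.isDefEq.respectTransparency false in
instance pbDiagram_compactSpace [∀ {i j} (f : i ⟶ j), IsAffineHom (D.map f)] (i : I)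
    {T : Scheme.{u}} [CompactSpace T] (g : T ⟶ D.obj i) (j : Over i) :
    CompactSpace ((pbDiagram D i g).obj j) := by
  have h1 : IsAffineHom (pullback.snd (D.map j.hom) g) :=
    MorphismProperty.pullback_snd (P := @IsAffineHom) _ _ inferInstance
  exact QuasiCompact.compactSpace_of_compactSpace (pullback.snd (D.map j.hom) g)

include hc in
/-- `range (c.π.app i)` is the intersection of the ranges of the transition maps. -/
theorem range_π_eq_iInter [IsCofiltered I] [∀ {i j} (f : i ⟶ j), IsAffineHom (D.map f)] (i : I) :
    Set.range (c.π.app i) = ⋂ (j : I) (φ : j ⟶ i), Set.range (D.map φ) := by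
  apply Set.Subset.antisymm
  · rintro _ ⟨x, rfl⟩
    simp only [Set.mem_iInter]
    intro j φ
    refine ⟨c.π.app j x, ?_⟩
    rw [← Scheme.Hom.comp_apply, Cone.w]
  · intro s hs
    simp only [Set.mem_iInter] at hs
    let T := Spec (.of ((D.obj i).residueField s))
    let g : T ⟶ D.obj i := (D.obj i).fromSpecResidueField s
    have hne : ∀ j : Over i, Nonempty ((pbDiagram D i g).obj j) := by
      intro j
      obtain ⟨y, hy⟩ := hs j.left j.hom
      obtain ⟨pt⟩ : Nonempty T := inferInstance
      have hpt : g pt = s := by
        have : Set.range g = {s} := (D.obj i).range_fromSpecResidueField s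
        have h2 : g pt ∈ Set.range g := ⟨pt, rfl⟩
        rw [this] at h2
        exact h2
      obtain ⟨t, -, -⟩ := Scheme.Pullback.exists_preimage_pullback (f := D.map j.hom) (g := g) y pt
        (by rw [hy, hpt])
      exact ⟨t⟩
    have : Nonempty (pbCone D c i g).pt :=
      Scheme.nonempty_of_isLimit (pbDiagram D i g) (pbCone D c i g) (isLimitPbCone D c hc i g)
    obtain ⟨z⟩ := this
    refine ⟨(pullback.fst (c.π.app i) g) z, ?_⟩
    rw [← Scheme.Hom.comp_apply, pullback.condition, Scheme.Hom.comp_apply]
    have : Set.range g = {s} := (D.obj i).range_fromSpecResidueField s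
    have h2 : g ((pullback.snd (c.π.app i) g) z) ∈ Set.range g := ⟨_, rfl⟩
    rw [this] at h2
    exact h2

end Groth.Agent.Helper7.LimBC
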