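import Mathlib

set_option autoImplicit false
universe u v w

namespace Groth.Agent.Helper7

/-- A module which is a "directed union" of flat modules is flat (equational criterion). -/
theorem Module.Flat.of_directed {A : Type u} [CommRing A] {M : Type v} [AddCommGroup M] [Module A M]
    {ι : Type w} (Ms : ι → Type v) [∀ i, AddCommGroup (Ms i)] [∀ i, Module A (Ms i)]
    (π : ∀ i, Ms i →ₗ[A] M) (hflat : ∀ i, Module.Flat A (Ms i))
    (h1 : ∀ {l : ℕ} (x : Fin l → M), ∃ i, ∃ y : Fin l → Ms i, ∀ k, π i (y k) = x k)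
    (h2 : ∀ i (y : Ms i), π i y = 0 →
      ∃ j, ∃ φ : Ms i →ₗ[A] Ms j, (∀ z, π j (φ z) = π i z) ∧ φ y = 0) :
    Module.Flat A M := by
  refine Module.Flat.of_forall_isTrivialRelation ?_
  intro l f x hfx
  obtain ⟨i, y, hy⟩ := h1 x
  have h3 : π i (∑ k, f k • y k) = 0 := by
    rw [map_sum, ← hfx]
    refine Finset.sum_congr rfl fun k _ => ?_
    rw [map_smul, hy]
  obtain ⟨j, φ, hφ1, hφ2⟩ := h2 i _ h3
  rw [map_sum] at hφ2
  simp only [map_smul] at hφ2
  have := hflat j
  obtain ⟨k', a, z, hz1, hz2⟩ := Module.Flat.isTrivialRelation_of_sum_smul_eq_zero hφ2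
  refine ⟨k', a, fun n => π j (z n), fun m => ?_, hz2⟩
  have hz1' : φ (y m) = ∑ n, a m n • z n := hz1 m
  rw [← hy m, ← hφ1, hz1', map_sum]
  simp only [map_smul]

/-- Ring version. -/
theorem RingHom.Flat.of_directed {A B : Type u} [CommRing A] [CommRing B] (f : A →+* B)
    {ι : Type w} (Bs : ι → Type u) [∀ i, CommRing (Bs i)] (fs : ∀ i, A →+* Bs i)
    (π : ∀ i, Bs i →+* B)
    (hπ : ∀ i, (π i).comp (fs i) = f) (hflat : ∀ i, (fs i).Flat)
    (h1 : ∀ {l : ℕ} (x : Fin l → B), ∃ i, ∃ y : Fin l → Bs i, ∀ k, π i (y k) = x k)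
    (h2 : ∀ i (y : Bs i), π i y = 0 →
      ∃ j, ∃ φ : Bs i →+* Bs j, φ.comp (fs i) = fs j ∧ (π j).comp φ = π i ∧ φ y = 0) :
    f.Flat := by
  letI := f.toAlgebra
  letI : ∀ i, Algebra A (Bs i) := fun i => (fs i).toAlgebra
  let π' : ∀ i, Bs i →ₗ[A] B := fun i =>
    { toFun := π i
      map_add' := map_add _
      map_smul' := fun a b => by
        simp only [Algebra.smul_def, RingHom.id_apply, map_mul]
        congr 1
        exact RingHom.congr_fun (hπ i) a }
  change Module.Flat A B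
  refine Module.Flat.of_directed Bs π' (fun i => hflat i) (fun x => h1 x) ?_
  intro i y hy
  obtain ⟨j, φ, hφ1, hφ2, hφ3⟩ := h2 i y hy
  refine ⟨j, { toFun := φ, map_add' := map_add _, map_smul' := fun a b => ?_ }, ?_, hφ3⟩
  · simp only [Algebra.smul_def, RingHom.id_apply, map_mul]
    congr 1
    exact RingHom.congr_fun hφ1 a
  · intro z
    exact RingHom.congr_fun hφ2 z

end Groth.Agent.Helper7
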