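import Mathlib
import Groth.Agent.Lib.Helper7.LimBC

set_option autoImplicit false
universe u
open AlgebraicGeometry CategoryTheory CategoryTheory.Limits

namespace Groth.Agent.Helper7.LimBC

variable {I : Type u} [Category.{u} I] (D : I ⥤ Scheme.{u}) (c : Cone D) (hc : IsLimit c)

set_option backward.isDefEq.respectTransparency false in
include hc in
/-- If `U ⊆ D i` is a compact open all of whose preimages in the stages are nonempty, then it meets
the range of the projection from the limit. -/
theorem exists_π_mem_of_forall_nonempty [IsCofiltered I]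
    [∀ {i j} (f : i ⟶ j), IsAffineHom (D.map f)] (i : I) (U : (D.obj i).Opens)
    (hU : IsCompact (U : Set (D.obj i)))
    (hne : ∀ (j : I) (φ : j ⟶ i), ∃ y : D.obj j, D.map φ y ∈ U) :
    ∃ x : c.pt, c.π.app i x ∈ U := by
  have h1 : ∀ j : Over i, Nonempty ((opensDiagram D i U).obj j) := by
    intro j
    obtain ⟨y, hy⟩ := hne j.left j.hom
    exact ⟨⟨y, hy⟩⟩
  have h2 : ∀ j : Over i, CompactSpace ((opensDiagram D i U).obj j) := by
    intro j
    change CompactSpace ↥(D.map j.hom ⁻¹ᵁ U)
    exact isCompact_iff_compactSpace.mp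
      (QuasiCompact.isCompact_preimage (f := D.map j.hom) _ U.2 hU)
  have := Scheme.nonempty_of_isLimit (opensDiagram D i U) (opensCone D c i U)
    (isLimitOpensCone D c hc i U)
  obtain ⟨x⟩ := this
  exact ⟨x.1, x.2⟩

include hc in
theorem isDominant_π_of_forall [IsCofiltered I]
    [∀ {i j} (f : i ⟶ j), IsAffineHom (D.map f)] (i : I)
    (h : ∀ (j : I) (φ : j ⟶ i), IsDominant (D.map φ)) : IsDominant (c.π.app i) := by
  constructor
  rw [DenseRange, dense_iff_inter_open]
  intro U hU ⟨x, hx⟩
  obtain ⟨_, ⟨V, hV, rfl⟩, hxV, hVU⟩ :=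
    (D.obj i).isBasis_affineOpens.exists_subset_of_mem_open hx hU
  obtain ⟨z, hz⟩ := exists_π_mem_of_forall_nonempty D c hc i V hV.isCompact (by
    intro j φ
    have := (h j φ).denseRange
    rw [DenseRange, dense_iff_inter_open] at this
    obtain ⟨_, hy1, ⟨y, rfl⟩⟩ := this V V.2 ⟨x, hxV⟩
    exact ⟨y, hy1⟩)
  exact ⟨_, hVU hz, ⟨z, rfl⟩⟩

end Groth.Agent.Helper7.LimBC
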