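import Mathlib
import Groth.Agent.Lib.Helper7.LimDom

set_option autoImplicit false
universe u
open AlgebraicGeometry CategoryTheory CategoryTheory.Limits

namespace Groth.Agent.Helper7.LimBC

variable {I : Type u} [Category.{u} I] (D : I ⥤ Scheme.{u}) (c : Cone D) (hc : IsLimit c)

include hc in
/-- Affine case: if the limit of a cofiltered diagram of affine schemes is not reduced, then
eventually the stages are not reduced. -/
theorem exists_forall_not_isReduced_of_isAffine [IsCofiltered I] [∀ i, IsAffine (D.obj i)]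
    (h : ¬ IsReduced c.pt) : ∃ k : I, ∀ (l : I) (_ : l ⟶ k), ¬ IsReduced (D.obj l) := by
  have : IsAffine c.pt := Scheme.isAffine_of_isLimit c hc
  have h1 : ¬ _root_.IsReduced Γ(c.pt, ⊤) := fun h2 => h (isReduced_of_isAffine_isReduced c.pt)
  rw [isReduced_iff] at h1
  push Not at h1
  obtain ⟨r, ⟨n, hn⟩, hr0⟩ := h1
  obtain ⟨j, t, rfl⟩ := exists_appTop_π_eq_of_isAffine_of_isLimit D c hc r
  rw [← map_pow] at hn
  obtain ⟨k, ψ, hk⟩ := exists_appTop_map_eq_zero_of_isAffine_of_isLimit D c hc j (t ^ n) hn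
  refine ⟨k, fun l χ hred => ?_⟩
  have h2 : ((D.map (χ ≫ ψ)).appTop t) ^ n = 0 := by
    rw [← map_pow, D.map_comp, Scheme.Hom.comp_appTop, CommRingCat.comp_apply, hk, map_zero]
  have h3 : (D.map (χ ≫ ψ)).appTop t = 0 := by
    have : _root_.IsReduced Γ(D.obj l, ⊤) := inferInstance
    exact IsReduced.eq_zero _ ⟨n, h2⟩
  apply hr0
  have h4 : (c.π.app j).appTop t = (c.π.app l).appTop ((D.map (χ ≫ ψ)).appTop t) := by
    rw [← CommRingCat.comp_apply, ← Scheme.Hom.comp_appTop, Cone.w]
  rw [h4, h3, map_zero]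


set_option backward.isDefEq.respectTransparency false in
include hc in
/-- If the limit is not reduced, then eventually the stages are not reduced. -/
theorem exists_forall_not_isReduced [IsCofiltered I] [∀ {i j} (f : i ⟶ j), IsAffineHom (D.map f)]
    (h : ¬ IsReduced c.pt) : ∃ k : I, ∀ (l : I) (_ : l ⟶ k), ¬ IsReduced (D.obj l) := by
  -- some affine piece is not reduced
  obtain ⟨i, U, hU, hUred⟩ : ∃ (i : I) (U : (D.obj i).Opens), IsAffineOpen U ∧
      ¬ IsReduced (c.π.app i ⁻¹ᵁ U : Scheme.{u}) := by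
    by_contra hcon
    push Not at hcon
    apply h
    let 𝒰 : c.pt.OpenCover := c.pt.openCoverOfIsOpenCover
      (fun p : Σ i : I, (D.obj i).affineOpens => c.π.app p.1 ⁻¹ᵁ p.2.1) (by
        refine TopologicalSpace.IsOpenCover.mk (top_le_iff.mp fun x _ => ?_)
        obtain ⟨i⟩ := IsCofiltered.nonempty (C := I)
        obtain ⟨_, ⟨V, hV : IsAffineOpen V, rfl⟩, hxV, -⟩ :=
          (D.obj i).isBasis_affineOpens.exists_subset_of_mem_open
            (Set.mem_univ (c.π.app i x)) isOpen_univ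
        exact TopologicalSpace.Opens.mem_iSup.mpr ⟨⟨i, ⟨V, hV⟩⟩, hxV⟩)
    have : ∀ p, IsReduced (𝒰.X p) := fun p => hcon p.1 p.2.1 p.2.2
    exact IsReduced.of_openCover c.pt 𝒰
  have (j : Over i) : IsAffine ((opensDiagram D i U).obj j) := hU.preimage (D.map _)
  obtain ⟨k, hk⟩ := exists_forall_not_isReduced_of_isAffine (opensDiagram D i U)
    (opensCone D c i U) (isLimitOpensCone D c hc i U) hUred
  refine ⟨k.left, fun l χ hred => ?_⟩
  refine hk (Over.mk (χ ≫ k.hom)) (Over.homMk χ) ?_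
  change IsReduced (D.map (χ ≫ k.hom) ⁻¹ᵁ U : Scheme.{u})
  infer_instance

end Groth.Agent.Helper7.LimBC
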