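import Mathlib
import Groth.Agent.Lib.Helper7.LimRed
import Groth.Agent.Lib.Helper7.FlatColim

set_option autoImplicit false
universe u
open AlgebraicGeometry CategoryTheory CategoryTheory.Limits

namespace Groth.Agent.Helper7.LimBC

variable {I : Type u} [Category.{u} I] (D : I ⥤ Scheme.{u}) (c : Cone D) (hc : IsLimit c)

include hc in
/-- finitely many global sections of the limit come from a common stage over `i`. -/
theorem exists_common_stage [IsCofiltered I] [∀ i, IsAffine (D.obj i)] (i : I) {l : ℕ}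
    (x : Fin l → Γ(c.pt, ⊤)) :
    ∃ (j : I) (_ : j ⟶ i) (y : Fin l → Γ(D.obj j, ⊤)), ∀ k, (c.π.app j).appTop (y k) = x k := by
  classical
  choose jk t ht using fun k => exists_appTop_π_eq_of_isAffine_of_isLimit D c hc (x k)
  obtain ⟨j, hj⟩ := IsCofiltered.inf_objs_exists (insert i (Finset.univ.image jk))
  have φi : j ⟶ i := (hj (Finset.mem_insert_self _ _)).some
  have φ : ∀ k, j ⟶ jk k := fun k =>
    (hj (Finset.mem_insert_of_mem (Finset.mem_image_of_mem _ (Finset.mem_univ k)))).some
  refine ⟨j, φi, fun k => (D.map (φ k)).appTop (t k), fun k => ?_⟩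
  rw [← CommRingCat.comp_apply, ← Scheme.Hom.comp_appTop, Cone.w, ht]

include hc in
theorem flat_π_of_isAffine [IsCofiltered I] [∀ i, IsAffine (D.obj i)] (i : I)
    (hf : ∀ (j : I) (φ : j ⟶ i), Flat (D.map φ)) : Flat (c.π.app i) := by
  have : IsAffine c.pt := Scheme.isAffine_of_isLimit c hc
  have : IsAffine (((Functor.const I).obj c.pt).obj i) := this
  rw [HasRingHomProperty.iff_of_isAffine (P := @Flat)]
  refine RingHom.Flat.of_directed _ (ι := Over i) (fun j => Γ(D.obj j.left, ⊤))
    (fun j => (D.map j.hom).appTop.hom) (fun j => (c.π.app j.left).appTop.hom) ?_ ?_ ?_ ?_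
  · intro j
    rw [← CommRingCat.hom_comp, ← Scheme.Hom.comp_appTop, Cone.w]
  · intro j
    have := hf j.left j.hom
    exact (HasRingHomProperty.iff_of_isAffine (P := @Flat)).mp this
  · intro l x
    obtain ⟨j, φ, y, hy⟩ := exists_common_stage D c hc i x
    exact ⟨Over.mk φ, y, hy⟩
  · intro j y hy
    obtain ⟨k, ψ, hk⟩ := exists_appTop_map_eq_zero_of_isAffine_of_isLimit D c hc j.left y hy
    refine ⟨Over.mk (ψ ≫ j.hom), (D.map ψ).appTop.hom, ?_, ?_, hk⟩
    · rw [← CommRingCat.hom_comp, ← Scheme.Hom.comp_appTop, ← D.map_comp]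
      rfl
    · rw [← CommRingCat.hom_comp, ← Scheme.Hom.comp_appTop]
      simp only [Over.mk_left, Cone.w]


set_option backward.isDefEq.respectTransparency false in
include hc in
theorem flat_π [IsCofiltered I] [∀ {i j} (f : i ⟶ j), IsAffineHom (D.map f)] (i : I)
    (hf : ∀ (j : I) (φ : j ⟶ i), Flat (D.map φ)) : Flat (c.π.app i) := by
  refine IsZariskiLocalAtTarget.of_forall_exists_morphismRestrict (P := @Flat) fun x => ?_
  obtain ⟨_, ⟨U, hU : IsAffineOpen U, rfl⟩, hxU, -⟩ :=
    (D.obj i).isBasis_affineOpens.exists_subset_of_mem_open (Set.mem_univ x) isOpen_univ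
  refine ⟨U, hxU, ?_⟩
  have (j : Over i) : IsAffine ((opensDiagram D i U).obj j) := hU.preimage (D.map _)
  have h1 := flat_π_of_isAffine (opensDiagram D i U) (opensCone D c i U)
    (isLimitOpensCone D c hc i U) (Over.mk (𝟙 i)) (by
      intro j φ
      have := hf j.left φ.left
      simp only [opensDiagram_obj, opensDiagram_map]
      infer_instance)
  have h2 : Flat ((c.π.app i).resLE (D.map (𝟙 i) ⁻¹ᵁ U) (c.π.app i ⁻¹ᵁ U)
      (by rw [← Scheme.Hom.comp_preimage, Cone.w])) := h1
  rw [Scheme.Hom.resLE_congr (c.π.app i) _ (by simp : D.map (𝟙 i) ⁻¹ᵁ U = U) rfl @Flat] at h2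
  rw [← Scheme.Hom.resLE_eq_morphismRestrict]
  exact h2

end Groth.Agent.Helper7.LimBC
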