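import Mathlib
import Groth.Agent.Lib.Helper7.LimFlat

set_option autoImplicit false
universe u
open AlgebraicGeometry CategoryTheory CategoryTheory.Limits Topology

namespace Groth.Agent.Helper7.LimBC

/-- In a compact space, constructible sets are compact. -/
theorem isCompact_of_isConstructible {X : Type*} [TopologicalSpace X] [CompactSpace X] {s : Set X}
    (hs : IsConstructible s) : IsCompact s := by
  induction s, hs using BooleanSubalgebra.closure_sdiff_sup_induction with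
  | isSublattice =>
    exact ⟨fun s hs t ht ↦ ⟨hs.1.union ht.1, hs.2.union ht.2⟩,
      fun s hs t ht ↦ ⟨hs.1.inter ht.1, hs.2.inter_isOpen ht.2 ht.1⟩⟩
  | bot_mem => exact ⟨isOpen_empty, .empty⟩
  | top_mem => exact ⟨isOpen_univ, .univ⟩
  | sdiff U hU V hV =>
    rw [Set.sdiff_eq]
    exact hU.2.isCompact.inter_right hV.1.isClosed_compl
  | sup s _ t _ hs' ht' => exact hs'.union ht'

variable {I : Type u} [Category.{u} I] (D : I ⥤ Scheme.{u}) (c : Cone D) (hc : IsLimit c)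

/-- merging two "eventually" statements -/
theorem eventually_and [IsCofiltered I] {k : I} {P Q : ∀ l : I, (l ⟶ k) → Prop}
    (hP : ∃ (l : I) (ψ : l ⟶ k), ∀ (l' : I) (χ : l' ⟶ l), P l' (χ ≫ ψ))
    (hQ : ∃ (l : I) (ψ : l ⟶ k), ∀ (l' : I) (χ : l' ⟶ l), Q l' (χ ≫ ψ)) :
    ∃ (l : I) (ψ : l ⟶ k), ∀ (l' : I) (χ : l' ⟶ l), P l' (χ ≫ ψ) ∧ Q l' (χ ≫ ψ) := by
  obtain ⟨l₁, ψ₁, h₁⟩ := hP
  obtain ⟨l₂, ψ₂, h₂⟩ := hQ
  obtain ⟨l, a, b, hab⟩ := IsCofiltered.cospan ψ₁ ψ₂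
  refine ⟨l, a ≫ ψ₁, fun l' χ => ⟨?_, ?_⟩⟩
  · rw [← Category.assoc]; exact h₁ _ _
  · rw [hab, ← Category.assoc]; exact h₂ _ _

include hc in
/-- Lemma P: emptiness of the preimage of `B ∩ A ∩ F` descends to a stage. -/
theorem exists_preimage_inter_eq_empty [IsCofiltered I]
    [∀ {i j} (f : i ⟶ j), IsAffineHom (D.map f)] {k : I} [CompactSpace (D.obj k)]
    {B : Set (D.obj k)} (hB : IsConstructible B) :
    ∀ (A : Set (D.obj k)), IsOpen A → IsCompact A → ∀ F : Set (D.obj k), IsClosed F →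
      c.π.app k ⁻¹' (B ∩ A ∩ F) = ∅ →
      ∃ (l : I) (ψ : l ⟶ k), ∀ (l' : I) (χ : l' ⟶ l), D.map (χ ≫ ψ) ⁻¹' (B ∩ A ∩ F) = ∅ := by
  induction B, hB using BooleanSubalgebra.closure_sdiff_sup_induction with
  | isSublattice =>
    exact ⟨fun s hs t ht ↦ ⟨hs.1.union ht.1, hs.2.union ht.2⟩,
      fun s hs t ht ↦ ⟨hs.1.inter ht.1, hs.2.inter_isOpen ht.2 ht.1⟩⟩
  | bot_mem => exact ⟨isOpen_empty, .empty⟩
  | top_mem => exact ⟨isOpen_univ, .univ⟩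
  | sdiff U hU V hV =>
    intro A hAo hAc F hF hempty
    let U' : (D.obj k).Opens := ⟨U ∩ A, hU.1.inter hAo⟩
    let V' : (D.obj k).Opens := ⟨(Vᶜ ∩ F)ᶜ, (hV.1.isClosed_compl.inter hF).isOpen_compl⟩
    have hU'c : IsCompact (U' : Set (D.obj k)) := hU.2 hAc hAo
    have hle : c.π.app k ⁻¹ᵁ U' ≤ c.π.app k ⁻¹ᵁ V' := by
      intro x hx
      by_contra hx'
      have : x ∈ c.π.app k ⁻¹' (U \ V ∩ A ∩ F) := by
        simp only [Set.mem_preimage, Set.mem_inter_iff, Set.mem_sdiff]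
        have h1 : c.π.app k x ∈ U ∩ A := hx
        have h2 : ¬ c.π.app k x ∈ (Vᶜ ∩ F)ᶜ := hx'
        simp only [Set.mem_compl_iff, Set.mem_inter_iff, not_not] at h2
        exact ⟨⟨⟨h1.1, h2.1⟩, h1.2⟩, h2.2⟩
      rw [hempty] at this
      exact this
    obtain ⟨l, ψ, hl⟩ := exists_map_preimage_le_map_preimage D c hc hU'c hle
    refine ⟨l, ψ, fun l' χ => ?_⟩
    rw [Set.eq_empty_iff_forall_notMem]
    rintro x ⟨⟨⟨hxU, hxV⟩, hxA⟩, hxF⟩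
    rw [D.map_comp, Scheme.Hom.comp_apply] at hxU hxV hxA hxF
    have h1 : D.map χ x ∈ D.map ψ ⁻¹ᵁ U' := ⟨hxU, hxA⟩
    have h2 : D.map ψ (D.map χ x) ∈ (Vᶜ ∩ F)ᶜ := hl h1
    exact h2 ⟨hxV, hxF⟩
  | sup s _ t _ hs' ht' =>
    intro A hAo hAc F hF hempty
    have h1 : c.π.app k ⁻¹' (s ∩ A ∩ F) = ∅ := by
      rw [Set.eq_empty_iff_forall_notMem] at hempty ⊢
      rintro x ⟨⟨hx1, hx2⟩, hx3⟩
      exact hempty x ⟨⟨Or.inl hx1, hx2⟩, hx3⟩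
    have h2 : c.π.app k ⁻¹' (t ∩ A ∩ F) = ∅ := by
      rw [Set.eq_empty_iff_forall_notMem] at hempty ⊢
      rintro x ⟨⟨hx1, hx2⟩, hx3⟩
      exact hempty x ⟨⟨Or.inr hx1, hx2⟩, hx3⟩
    obtain ⟨l, ψ, hl⟩ := eventually_and
      (P := fun l' ψ' => D.map ψ' ⁻¹' (s ∩ A ∩ F) = ∅)
      (Q := fun l' ψ' => D.map ψ' ⁻¹' (t ∩ A ∩ F) = ∅)
      (hs' A hAo hAc F hF h1) (ht' A hAo hAc F hF h2)
    refine ⟨l, ψ, fun l' χ => ?_⟩
    obtain ⟨h3, h4⟩ := hl l' χ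
    rw [Set.eq_empty_iff_forall_notMem] at h3 h4 ⊢
    rintro x ⟨⟨hx1 | hx1, hx2⟩, hx3⟩
    · exact h3 x ⟨⟨hx1, hx2⟩, hx3⟩
    · exact h4 x ⟨⟨hx1, hx2⟩, hx3⟩


include hc in
/-- If `A \ A'` (compact opens) and a constructible `B` have the same preimage in the limit, they
have the same preimage at some stage. -/
theorem exists_preimage_diff_eq [IsCofiltered I]
    [∀ {i j} (f : i ⟶ j), IsAffineHom (D.map f)] {k : I} [CompactSpace (D.obj k)]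
    {B : Set (D.obj k)} (hB : IsConstructible B) (A A' : Set (D.obj k))
    (hAo : IsOpen A) (hAc : IsCompact A) (hA'o : IsOpen A') (hA'c : IsCompact A')
    (h : c.π.app k ⁻¹' (A \ A') = c.π.app k ⁻¹' B) :
    ∃ (l : I) (ψ : l ⟶ k), ∀ (l' : I) (χ : l' ⟶ l),
      D.map (χ ≫ ψ) ⁻¹' (A \ A') = D.map (χ ≫ ψ) ⁻¹' B := by
  have e1 : c.π.app k ⁻¹' (B ∩ Set.univ ∩ Aᶜ) = ∅ := by
    rw [Set.eq_empty_iff_forall_notMem]
    rintro x ⟨⟨hx1, -⟩, hx3⟩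
    have : x ∈ c.π.app k ⁻¹' (A \ A') := by rw [h]; exact hx1
    exact hx3 this.1
  have e2 : c.π.app k ⁻¹' (B ∩ A' ∩ Set.univ) = ∅ := by
    rw [Set.eq_empty_iff_forall_notMem]
    rintro x ⟨⟨hx1, hx2⟩, -⟩
    have : x ∈ c.π.app k ⁻¹' (A \ A') := by rw [h]; exact hx1
    exact this.2 hx2
  have e3 : c.π.app k ⁻¹' (Bᶜ ∩ A ∩ A'ᶜ) = ∅ := by
    rw [Set.eq_empty_iff_forall_notMem]
    rintro x ⟨⟨hx1, hx2⟩, hx3⟩
    have : x ∈ c.π.app k ⁻¹' B := by rw [← h]; exact ⟨hx2, hx3⟩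
    exact hx1 this
  have E1 := exists_preimage_inter_eq_empty D c hc hB Set.univ isOpen_univ isCompact_univ Aᶜ
    hAo.isClosed_compl e1
  have E2 := exists_preimage_inter_eq_empty D c hc hB A' hA'o hA'c Set.univ isClosed_univ e2
  have E3 := exists_preimage_inter_eq_empty D c hc hB.compl A hAo hAc A'ᶜ hA'o.isClosed_compl e3
  obtain ⟨l, ψ, hl⟩ := eventually_and
    (P := fun l' ψ' => D.map ψ' ⁻¹' (B ∩ Set.univ ∩ Aᶜ) = ∅ ∧ D.map ψ' ⁻¹' (B ∩ A' ∩ Set.univ) = ∅)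
    (Q := fun l' ψ' => D.map ψ' ⁻¹' (Bᶜ ∩ A ∩ A'ᶜ) = ∅)
    (eventually_and (P := fun l' ψ' => D.map ψ' ⁻¹' (B ∩ Set.univ ∩ Aᶜ) = ∅)
      (Q := fun l' ψ' => D.map ψ' ⁻¹' (B ∩ A' ∩ Set.univ) = ∅) E1 E2) E3
  refine ⟨l, ψ, fun l' χ => ?_⟩
  obtain ⟨⟨h1, h2⟩, h3⟩ := hl l' χ
  rw [Set.eq_empty_iff_forall_notMem] at h1 h2 h3
  ext x
  constructor
  · rintro ⟨hx1, hx2⟩
    by_contra hx3
    exact h3 x ⟨⟨hx3, hx1⟩, hx2⟩
  · intro hx
    refine ⟨?_, ?_⟩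
    · by_contra hx1
      exact h1 x ⟨⟨hx, trivial⟩, hx1⟩
    · intro hx2
      exact h2 x ⟨⟨hx, hx2⟩, trivial⟩

include hc in
/-- compact opens of the limit descend to a stage over a given index. -/
theorem exists_preimage_eq_over [IsCofiltered I]
    [∀ {i j} (f : i ⟶ j), IsAffineHom (D.map f)] (i₀ : I) (U : c.pt.Opens)
    (hU : IsCompact (U : Set c.pt)) :
    ∃ (k : I) (_ : k ⟶ i₀) (V : (D.obj k).Opens), IsCompact (V : Set (D.obj k)) ∧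
      c.π.app k ⁻¹ᵁ V = U := by
  obtain ⟨i, V, hV, rfl⟩ := exists_preimage_eq D c hc U hU
  refine ⟨IsCofiltered.min i i₀, IsCofiltered.minToRight i i₀,
    D.map (IsCofiltered.minToLeft i i₀) ⁻¹ᵁ V, ?_, ?_⟩
  · exact QuasiCompact.isCompact_preimage (f := D.map (IsCofiltered.minToLeft i i₀)) _ V.2 hV
  · rw [← Scheme.Hom.comp_preimage, Cone.w]

end Groth.Agent.Helper7.LimBC
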