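import Mathlib
import Groth.Agent.Lib.Helper7.LimCons
import Groth.Agent.Lib.Helper7.LimFlat
universe u
open AlgebraicGeometry CategoryTheory CategoryTheory.Limits

namespace Groth.Agent.Helper7.QcClosure

theorem exists_specializes_of_mem_closure_range_SpecMap {A R : CommRingCat.{u}} (φ : A ⟶ R)
    (y : Spec A) (hy : y ∈ closure (Set.range (Spec.map φ))) :
    ∃ x : Spec R, (Spec.map φ) x ⤳ y := by
  have h1 : closure (Set.range (Spec.map φ)) = PrimeSpectrum.zeroLocus (RingHom.ker φ.hom) :=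
    PrimeSpectrum.closure_range_comap φ.hom
  rw [h1] at hy
  have hy' : (RingHom.ker φ.hom : Set A) ⊆ (y : PrimeSpectrum A).asIdeal :=
    (PrimeSpectrum.mem_zeroLocus (y : PrimeSpectrum A) _).1 hy
  obtain ⟨Q, -, hQ, hQy⟩ := Ideal.exists_ideal_comap_le_prime (f := φ.hom)
    (y : PrimeSpectrum A).asIdeal ⊥ hy'
  refine ⟨(⟨Q, hQ⟩ : PrimeSpectrum R), ?_⟩
  exact (PrimeSpectrum.le_iff_specializes (PrimeSpectrum.comap φ.hom ⟨Q, hQ⟩)
    (y : PrimeSpectrum A)).1 hQy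

theorem exists_specializes_of_mem_closure_range {X Y : Scheme.{u}} (f : X ⟶ Y) [QuasiCompact f]
    (y : Y) (hy : y ∈ closure (Set.range f)) : ∃ x, f x ⤳ y := by
  obtain ⟨_, ⟨U, hU : IsAffineOpen U, rfl⟩, hyU, -⟩ :=
    Y.isBasis_affineOpens.exists_subset_of_mem_open (Set.mem_univ y) isOpen_univ
  have hc : IsCompact (f ⁻¹ᵁ U : Set X) := QuasiCompact.isCompact_preimage _ U.2 hU.isCompact
  have : CompactSpace ((f ⁻¹ᵁ U : X.Opens) : Scheme.{u}) := isCompact_iff_compactSpace.mp hc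
  obtain ⟨R, g, hg⟩ := (compactSpace_iff_exists (X := ((f ⁻¹ᵁ U : X.Opens) : Scheme.{u}))).mp this
  let h' : Spec R ⟶ Y := g ≫ (f ⁻¹ᵁ U).ι ≫ f
  have hr : Set.range h' = Set.range f ∩ U := by
    simp only [h', Scheme.Hom.comp_base, TopCat.coe_comp, Set.range_comp, hg.range_eq,
      Set.image_univ, Scheme.Opens.range_ι]
    rw [Set.inter_comm]
    exact Set.image_preimage_eq_inter_range
  have hsub : Set.range h' ⊆ Set.range hU.fromSpec := by
    rw [hr, hU.range_fromSpec]; exact Set.inter_subset_right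
  let h : Spec R ⟶ Spec Γ(Y, U) := IsOpenImmersion.lift hU.fromSpec h' hsub
  have hh : h ≫ hU.fromSpec = h' := IsOpenImmersion.lift_fac _ _ _
  obtain ⟨φ, hφ⟩ : ∃ φ, Spec.map φ = h := ⟨_, Spec.map_preimage h⟩
  obtain ⟨y', rfl⟩ : y ∈ Set.range hU.fromSpec := by rw [hU.range_fromSpec]; exact hyU
  have hy' : y' ∈ closure (Set.range (Spec.map φ)) := by
    rw [hU.fromSpec.isOpenEmbedding.isEmbedding.closure_eq_preimage_closure_image, Set.mem_preimage,
      ← Set.range_comp, hφ]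
    have : (hU.fromSpec : _ → _) ∘ (h : _ → _) = h' := by
      rw [← hh]; rfl
    rw [this, hr, mem_closure_iff]
    intro V hV hyV
    obtain ⟨z, ⟨hz1, hz2⟩, hz3⟩ := mem_closure_iff.1 hy (V ∩ U) (hV.inter U.2) ⟨hyV, hyU⟩
    exact ⟨z, hz1, hz3, hz2⟩
  obtain ⟨x, hx⟩ := exists_specializes_of_mem_closure_range_SpecMap φ y' hy'
  refine ⟨((f ⁻¹ᵁ U).ι) (g x), ?_⟩
  have := hx.map hU.fromSpec.continuous
  rw [hφ] at this
  have e : hU.fromSpec (h x) = f (((f ⁻¹ᵁ U).ι) (g x)) := by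
    have := congr($hh x)
    exact this
  rwa [e] at this


/-- Flat base change and closure of the image of a quasi-compact morphism. -/
theorem preimage_closure_range_subset {X Y X' Y' : Scheme.{u}} {p' : X' ⟶ X} {f' : X' ⟶ Y'}
    {f : X ⟶ Y} {v : Y' ⟶ Y} (H : IsPullback p' f' f v) [QuasiCompact f] [Flat v] :
    v ⁻¹' closure (Set.range f) ⊆ closure (Set.range f') := by
  intro y' hy'
  obtain ⟨x, hx⟩ := exists_specializes_of_mem_closure_range f (v y') hy'
  obtain ⟨y'', hy''1, hy''2⟩ := Flat.generalizingMap v hx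
  obtain ⟨z, hz1, hz2⟩ := Scheme.Pullback.exists_preimage_pullback (f := f) (g := v) x y''
    hy''2.symm
  have e : f' (H.isoPullback.inv z) = y'' := by
    rw [← hz2, ← Scheme.Hom.comp_apply, H.isoPullback_inv_snd]
  exact hy''1.mem_closed isClosed_closure (subset_closure ⟨_, e⟩)

theorem isDominant_of_isPullback {X Y X' Y' : Scheme.{u}} {p' : X' ⟶ X} {f' : X' ⟶ Y'}
    {f : X ⟶ Y} {v : Y' ⟶ Y} (H : IsPullback p' f' f v) [QuasiCompact f] [Flat v]
    (h : v ⁻¹' closure (Set.range f) = Set.univ) : IsDominant f' := by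
  constructor
  rw [DenseRange, dense_iff_closure_eq, ← Set.univ_subset_iff, ← h]
  exact preimage_closure_range_subset H

end Groth.Agent.Helper7.QcClosure

namespace Groth.Agent.Helper7.LimBC
open QcClosure

variable {I : Type u} [Category.{u} I] (D : I ⥤ Scheme.{u}) (c : Cone D) (hc : IsLimit c)

/-- comparison squares between the limit and a stage -/
theorem exists_isPullback_of_stage (i₀ : I) {X₀ Y₀ : Scheme.{u}} (f₀ : X₀ ⟶ Y₀)
    (g₀ : Y₀ ⟶ D.obj i₀)
    {X Y : Scheme.{u}} (f : X ⟶ Y) (g : Y ⟶ c.pt) (qY : Y ⟶ Y₀) (qX : X ⟶ X₀)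
    (hY : IsPullback qY g g₀ (c.π.app i₀)) (hX : IsPullback qX f f₀ qY)
    {j : I} (φ : j ⟶ i₀) {Xj Yj : Scheme.{u}} (fj : Xj ⟶ Yj) (gj : Yj ⟶ D.obj j) (pY : Yj ⟶ Y₀)
    (pX : Xj ⟶ X₀) (hYj : IsPullback pY gj g₀ (D.map φ)) (hXj : IsPullback pX fj f₀ pY) :
    ∃ (uX : X ⟶ Xj) (uY : Y ⟶ Yj), IsPullback uX f fj uY ∧ IsPullback uY g gj (c.π.app j) := by
  let uY : Y ⟶ Yj := hYj.lift qY (g ≫ c.π.app j) (by rw [Category.assoc, Cone.w, hY.w])
  have huY : uY ≫ pY = qY := hYj.lift_fst _ _ _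
  let uX : X ⟶ Xj := hXj.lift qX (f ≫ uY) (by rw [Category.assoc, huY, hX.w])
  refine ⟨uX, uY, ?_, ?_⟩
  · refine IsPullback.of_right ?_ (hXj.lift_snd _ _ _) hXj
    rw [hXj.lift_fst, huY]
    exact hX
  · refine IsPullback.of_right ?_ (hYj.lift_snd _ _ _) hYj
    rw [huY, Cone.w]
    exact hY

set_option backward.isDefEq.respectTransparency false in
include hc in
theorem exists_isDominant_stage [IsCofiltered I] [∀ {i j} (f : i ⟶ j), IsAffineHom (D.map f)]
    (i₀ : I) [CompactSpace (D.obj i₀)] (hfl : ∀ (i j : I) (φ : i ⟶ j), Flat (D.map φ))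
    {X₀ Y₀ : Scheme.{u}} (f₀ : X₀ ⟶ Y₀) (g₀ : Y₀ ⟶ D.obj i₀)
    [QuasiCompact (f₀ ≫ g₀)] [QuasiCompact g₀] [QuasiSeparated g₀]
    (hcl : Topology.IsConstructible (closure (Set.range ⇑f₀)))
    {X Y : Scheme.{u}} (f : X ⟶ Y) (g : Y ⟶ c.pt) (qY : Y ⟶ Y₀) (qX : X ⟶ X₀)
    (hY : IsPullback qY g g₀ (c.π.app i₀)) (hX : IsPullback qX f f₀ qY) [IsDominant f] :
    ∃ (j : I) (φ : j ⟶ i₀),
      IsDominant (pullback.snd f₀ (pullback.snd (D.map φ) g₀)) := by
  have hf₀ : QuasiCompact f₀ := QuasiCompact.of_comp f₀ g₀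
  have : CompactSpace Y₀ := QuasiCompact.compactSpace_of_compactSpace g₀
  set C₀ := closure (Set.range ⇑f₀) with hC₀
  -- `qY ⁻¹' C₀ᶜ = ∅`
  have h1 : qY ⁻¹' C₀ᶜ = ∅ := by
    have hsub : closure (Set.range f) ⊆ qY ⁻¹' C₀ := by
      apply closure_minimal _ (isClosed_closure.preimage qY.continuous)
      rintro _ ⟨x, rfl⟩
      apply subset_closure
      refine ⟨qX x, ?_⟩
      rw [← Scheme.Hom.comp_apply, hX.w, Scheme.Hom.comp_apply]
    have : closure (Set.range f) = Set.univ := f.denseRange.closure_range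
    rw [this, Set.univ_subset_iff] at hsub
    rw [Set.preimage_compl, hsub, Set.compl_univ]
  let k₀ : Over i₀ := Over.mk (𝟙 i₀)
  let B : Set ((pbDiagram D i₀ g₀).obj k₀) := (pullback.snd (D.map k₀.hom) g₀) ⁻¹' C₀ᶜ
  have hB : Topology.IsConstructible B := Scheme.Hom.isConstructible_preimage _ hcl.compl
  let θ : pullback (c.π.app i₀) g₀ ⟶ Y := hY.lift (pullback.snd _ _) (pullback.fst _ _)
    pullback.condition.symm
  have hθ : θ ≫ qY = pullback.snd _ _ := hY.lift_fst _ _ _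
  obtain ⟨l, ψ, hl⟩ := exists_preimage_inter_eq_empty (pbDiagram D i₀ g₀) (pbCone D c i₀ g₀)
    (isLimitPbCone D c hc i₀ g₀) (k := k₀) hB Set.univ isOpen_univ isCompact_univ Set.univ
    isClosed_univ (by
      rw [Set.inter_univ, Set.inter_univ]
      have e : (pbCone D c i₀ g₀).π.app k₀ ≫ pullback.snd (D.map k₀.hom) g₀ = θ ≫ qY := by
        rw [hθ]; simp
      rw [Set.eq_empty_iff_forall_notMem]
      intro x hx
      have hx' : (pullback.snd (D.map k₀.hom) g₀) ((pbCone D c i₀ g₀).π.app k₀ x) ∈ C₀ᶜ := hx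
      have e' := congr($e x)
      rw [Scheme.Hom.comp_apply, Scheme.Hom.comp_apply] at e'
      have : θ x ∈ qY ⁻¹' C₀ᶜ := by
        exact (congrArg (fun z => z ∈ C₀ᶜ) e').mp hx'
      rw [h1] at this
      exact this)
  have hl' := hl l (𝟙 l)
  rw [Set.inter_univ, Set.inter_univ, Category.id_comp] at hl'
  refine ⟨l.left, l.hom, ?_⟩
  have hfl' : Flat (pullback.snd (D.map l.hom) g₀) :=
    MorphismProperty.pullback_snd (P := @Flat) _ _ (hfl _ _ _)
  refine isDominant_of_isPullback (IsPullback.of_hasPullback f₀ (pullback.snd (D.map l.hom) g₀)) ?_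
  have e : (pbDiagram D i₀ g₀).map ψ ≫ pullback.snd (D.map k₀.hom) g₀ =
      pullback.snd (D.map l.hom) g₀ := by simp
  have : (pullback.snd (D.map l.hom) g₀) ⁻¹' C₀ᶜ = ∅ := by
    rw [Set.eq_empty_iff_forall_notMem]
    intro x hx
    have hx' : (pullback.snd (D.map l.hom) g₀) x ∈ C₀ᶜ := hx
    have e' := congr($e x)
    rw [Scheme.Hom.comp_apply] at e'
    have : x ∈ ((pbDiagram D i₀ g₀).map ψ) ⁻¹' B := by
      exact (congrArg (fun z => z ∈ C₀ᶜ) e').mpr hx'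
    rw [hl'] at this
    exact this
  rw [Set.preimage_compl, Set.compl_empty_iff] at this
  exact this

end Groth.Agent.Helper7.LimBC
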