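import Mathlib
import Groth.Agent.Lib.Helper7.LimBC
universe u
open AlgebraicGeometry CategoryTheory CategoryTheory.Limits

namespace Groth.Agent.Helper7.LimBC

variable {I : Type u} [Category.{u} I] (D : I ⥤ Scheme.{u}) (c : Cone D) (hc : IsLimit c)

set_option backward.isDefEq.respectTransparency false in
instance pbDiagram_isAffine [∀ {i j} (f : i ⟶ j), IsAffineHom (D.map f)] (i : I)
    {T : Scheme.{u}} [IsAffine T] (g : T ⟶ D.obj i) (j : Over i) :
    IsAffine ((pbDiagram D i g).obj j) := by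
  have h1 : IsAffineHom (pullback.snd (D.map j.hom) g) :=
    MorphismProperty.pullback_snd (P := @IsAffineHom) _ _ inferInstance
  exact isAffine_of_isAffineHom (pullback.snd (D.map j.hom) g)

set_option backward.isDefEq.respectTransparency false in
include hc in
theorem exists_hom_of_isAffine [IsCofiltered I] [∀ {i j} (f : i ⟶ j), IsAffineHom (D.map f)]
    (i₀ : I) {V M₀ : Scheme.{u}} [IsAffine V] (g : V ⟶ D.obj i₀) (m₀ : M₀ ⟶ D.obj i₀)
    [LocallyOfFinitePresentation m₀] (a : pullback (c.π.app i₀) g ⟶ M₀)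
    (ha : a ≫ m₀ = pullback.snd _ _ ≫ g) :
    ∃ (j : Over i₀) (aj : pullback (D.map j.hom) g ⟶ M₀), aj ≫ m₀ = pullback.snd _ _ ≫ g := by
  have hq : ∀ j, QuasiSeparatedSpace ((pbDiagram D i₀ g).obj j) := fun j => inferInstance
  have hcpt : ∀ j, CompactSpace ((pbDiagram D i₀ g).obj j) := fun j => inferInstance
  obtain ⟨j, aj, h1, h2⟩ := Scheme.exists_π_app_comp_eq_of_locallyOfFinitePresentation
    (pbDiagram D i₀ g) (pbDiagramSnd D i₀ g ≫ (Functor.const _).map g) m₀ (pbCone D c i₀ g)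
    (isLimitPbCone D c hc i₀ g) a (by
      ext j
      simp [ha])
  exact ⟨j, aj, by simpa using h2⟩

set_option backward.isDefEq.respectTransparency false in
/-- factoring through a monomorphism is local on the source -/
theorem exists_fac_of_openCover {T B M₀ : Scheme.{u}} (m₀ : M₀ ⟶ B) [Mono m₀] (h : T ⟶ B)
    (𝒰 : T.OpenCover) (H : ∀ b, ∃ a : 𝒰.X b ⟶ M₀, a ≫ m₀ = 𝒰.f b ≫ h) :
    ∃ a : T ⟶ M₀, a ≫ m₀ = h := by
  choose a ha using H
  refine ⟨𝒰.glueMorphisms a ?_, ?_⟩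
  · intro x y
    rw [← cancel_mono m₀, Category.assoc, Category.assoc, ha, ha, pullback.condition_assoc]
  · apply 𝒰.hom_ext
    intro b
    rw [Scheme.Cover.ι_glueMorphisms_assoc, ha]

set_option backward.isDefEq.respectTransparency false in
include hc in
theorem exists_fac_of_compactSpace [IsCofiltered I] [∀ {i j} (f : i ⟶ j), IsAffineHom (D.map f)]
    (i₀ : I) {T₀ M₀ : Scheme.{u}} [CompactSpace T₀] (a₀ : T₀ ⟶ D.obj i₀) (m₀ : M₀ ⟶ D.obj i₀)
    [Mono m₀] [LocallyOfFinitePresentation m₀] (a : pullback (c.π.app i₀) a₀ ⟶ M₀)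
    (ha : a ≫ m₀ = pullback.snd _ _ ≫ a₀) :
    ∃ (j : I) (φ : j ⟶ i₀) (aj : pullback (D.map φ) a₀ ⟶ M₀),
      aj ≫ m₀ = pullback.snd _ _ ≫ a₀ := by
  let 𝒱 := T₀.affineCover.finiteSubcover
  have hfin : Finite 𝒱.I₀ := inferInstance
  have haff : ∀ b, IsAffine (𝒱.X b) := fun b => by dsimp [𝒱]; infer_instance
  have key : ∀ b : 𝒱.I₀, ∃ (j : Over i₀) (aj : pullback (D.map j.hom) (𝒱.f b ≫ a₀) ⟶ M₀),
      aj ≫ m₀ = pullback.snd _ _ ≫ 𝒱.f b ≫ a₀ := by
    intro b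
    refine exists_hom_of_isAffine D c hc i₀ (𝒱.f b ≫ a₀) m₀
      (pullback.map _ _ _ _ (𝟙 _) (𝒱.f b) (𝟙 _) (by simp) (by simp) ≫ a) ?_
    rw [Category.assoc, ha]
    simp
  choose j aj haj using key
  obtain ⟨k, fk, g, hg⟩ := IsCofiltered.wideCospan (fun b => (j b).hom)
  refine ⟨k, fk, ?_⟩
  refine exists_fac_of_openCover m₀ (pullback.snd (D.map fk) a₀ ≫ a₀)
    (Scheme.Pullback.openCoverOfRight 𝒱 (D.map fk) a₀) ?_
  intro b
  refine ⟨pullback.map _ _ _ _ (D.map (g b)) (𝟙 _) (𝟙 _) (by rw [Category.comp_id, ← D.map_comp, hg])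
    (by simp) ≫ aj b, ?_⟩
  rw [Category.assoc, haj]
  simp

end Groth.Agent.Helper7.LimBC
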