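import Mathlib
import Groth.Agent.Lib.Helper7.LimBC
universe u
open AlgebraicGeometry CategoryTheory CategoryTheory.Limits

namespace Groth.Agent.Helper7.LimBC

/-- for any pullback square over `f`, the base-changed map is an iso iff the chosen one is -/
theorem isIso_snd_iff_of_isPullback {C : Type*} [Category C] [HasPullbacks C] {P X Y Z : C}
    {fst : P ⟶ X} {snd : P ⟶ Z} {f : X ⟶ Y} {h : Z ⟶ Y} (H : IsPullback fst snd f h) :
    IsIso snd ↔ IsIso (pullback.snd f h) := by
  have e : snd = H.isoPullback.hom ≫ pullback.snd f h := by simp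
  constructor
  · intro h1
    have : pullback.snd f h = H.isoPullback.inv ≫ snd := by simp
    rw [this]; infer_instance
  · intro h1
    rw [e]; infer_instance

variable {J : Type u} [Category.{u} J] [IsCofiltered J] (E : J ⥤ Scheme.{u})
  [∀ {i j} (f : i ⟶ j), IsAffineHom (E.map f)]
  (cE : Cone E) (hcE : IsLimit cE) {T X₀ : Scheme.{u}} (t : E ⟶ (Functor.const J).obj T)
  (f₀ : X₀ ⟶ T)

omit [IsCofiltered J] [∀ {i j} (f : i ⟶ j), IsAffineHom (E.map f)] in
theorem π_app_comp_t_eq [IsCofiltered J] (j j' : J) :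
    cE.π.app j ≫ t.app j = cE.π.app j' ≫ t.app j' := by
  have h1 : ∀ (k k' : J) (φ : k ⟶ k'), cE.π.app k ≫ t.app k = cE.π.app k' ≫ t.app k' := by
    intro k k' φ
    have := t.naturality φ
    simp only [Functor.const_obj_obj, Functor.const_obj_map, Category.comp_id] at this
    rw [← this, ← Category.assoc, Cone.w]
  rw [← h1 _ _ (IsCofiltered.minToLeft j j'), ← h1 _ _ (IsCofiltered.minToRight j j')]

set_option backward.isDefEq.respectTransparency false in
include hcE in
/-- **Core descent of isomorphisms** (qcqs stages). -/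
theorem exists_isIso_snd_of_isIso [∀ j, CompactSpace (E.obj j)]
    [∀ j, QuasiSeparatedSpace (E.obj j)] [LocallyOfFinitePresentation f₀] [QuasiCompact f₀]
    (j₀ : J) (h : IsIso (pullback.snd f₀ (cE.π.app j₀ ≫ t.app j₀))) :
    ∃ j : J, IsIso (pullback.snd f₀ (t.app j)) := by
  let τ := cE.π.app j₀ ≫ t.app j₀
  have hτ : ∀ j, cE.π.app j ≫ t.app j = τ := fun j => π_app_comp_t_eq E cE t j j₀
  -- step 1: the section over the limit
  let a : cE.pt ⟶ X₀ := inv (pullback.snd f₀ τ) ≫ pullback.fst f₀ τ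
  have ha : a ≫ f₀ = τ := by
    simp only [a, Category.assoc, pullback.condition, IsIso.inv_hom_id_assoc]
  -- step 2: descend the section
  obtain ⟨j₁, a₁, ha₁, ha₁'⟩ := Scheme.exists_π_app_comp_eq_of_locallyOfFinitePresentation
    E t f₀ cE hcE a (by
      ext j
      simp only [NatTrans.comp_app, Functor.const_obj_obj, Functor.const_map_app]
      rw [hτ, ha])
  let p₁ := pullback.snd f₀ (t.app j₁)
  let s₁ : E.obj j₁ ⟶ pullback f₀ (t.app j₁) :=
    pullback.lift a₁ (𝟙 _) (by rw [ha₁', Category.id_comp])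
  have hs₁ : s₁ ≫ p₁ = 𝟙 _ := pullback.lift_snd _ _ _
  have hs₁' : s₁ ≫ pullback.fst f₀ (t.app j₁) = a₁ := pullback.lift_fst _ _ _
  -- step 3: uniqueness on the system `Z_j = E_j ×_{E_{j₁}} X₁`
  have hqc : QuasiCompact p₁ := MorphismProperty.pullback_snd (P := @QuasiCompact) _ _ inferInstance
  have : CompactSpace ↥(pullback f₀ (t.app j₁)) := QuasiCompact.compactSpace_of_compactSpace p₁
  have hZc : ∀ k, CompactSpace ((pbDiagram E j₁ p₁).obj k) := fun k => inferInstance
  let k₀ : Over j₁ := Over.mk (𝟙 j₁)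
  let α : (pbDiagram E j₁ p₁).obj k₀ ⟶ X₀ :=
    pullback.snd (E.map k₀.hom) p₁ ≫ pullback.fst f₀ (t.app j₁)
  let β : (pbDiagram E j₁ p₁).obj k₀ ⟶ X₀ := pullback.snd (E.map k₀.hom) p₁ ≫ p₁ ≫ a₁
  have hαβ : (pbCone E cE j₁ p₁).π.app k₀ ≫ α = (pbCone E cE j₁ p₁).π.app k₀ ≫ β := by
    let w : pullback (cE.π.app j₁) p₁ ⟶ pullback f₀ τ :=
      pullback.lift (pullback.snd _ _ ≫ pullback.fst f₀ (t.app j₁)) (pullback.fst _ _) (by
        rw [Category.assoc, pullback.condition, ← pullback.condition_assoc, ← hτ j₁])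
    have hw1 : w ≫ pullback.fst f₀ τ = pullback.snd _ _ ≫ pullback.fst f₀ (t.app j₁) :=
      pullback.lift_fst _ _ _
    have hw2 : w ≫ pullback.snd f₀ τ = pullback.fst _ _ := pullback.lift_snd _ _ _
    have e1 : (pbCone E cE j₁ p₁).π.app k₀ ≫ pullback.snd (E.map k₀.hom) p₁ =
        pullback.snd (cE.π.app j₁) p₁ := by simp
    simp only [α, β]
    rw [reassoc_of% e1, reassoc_of% e1, ← hw1, ← pullback.condition_assoc, ha₁, ← hw2]
    simp only [a, Category.assoc, IsIso.hom_inv_id_assoc]
  obtain ⟨k, hk, hkeq⟩ := Scheme.exists_hom_comp_eq_comp_of_locallyOfFiniteType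
    (pbDiagram E j₁ p₁) (pbDiagramSnd E j₁ p₁ ≫ (Functor.const _).map (p₁ ≫ t.app j₁)) f₀
    (pbCone E cE j₁ p₁) (isLimitPbCone E cE hcE j₁ p₁) (i := k₀) α β
    (by simp [α, pullback.condition]; rfl) (by simp [β, ha₁']) hαβ
  have hstar : pullback.snd (E.map k.hom) p₁ ≫ pullback.fst f₀ (t.app j₁) =
      pullback.snd (E.map k.hom) p₁ ≫ p₁ ≫ a₁ := by
    have e2 : (pbDiagram E j₁ p₁).map hk ≫ pullback.snd (E.map k₀.hom) p₁ =
        pullback.snd (E.map k.hom) p₁ := by simp
    simpa only [α, β, reassoc_of% e2] using hkeq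
  -- step 4: the base change at stage `k` is an isomorphism
  have hiso : IsIso (pullback.fst (E.map k.hom) p₁) := by
    refine ⟨pullback.lift (𝟙 _) (E.map k.hom ≫ s₁) (by rw [Category.id_comp, Category.assoc, hs₁,
      Category.comp_id]), pullback.hom_ext ?_ ?_, pullback.lift_fst _ _ _⟩
    · rw [Category.assoc, pullback.lift_fst, Category.comp_id, Category.id_comp]
    · rw [Category.assoc, pullback.lift_snd, Category.id_comp, pullback.condition_assoc]
      apply pullback.hom_ext
      · rw [Category.assoc, Category.assoc, hs₁', hstar]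
      · rw [Category.assoc, Category.assoc]
        change _ ≫ _ ≫ s₁ ≫ p₁ = _
        rw [hs₁, Category.comp_id]
  -- step 5: convert
  refine ⟨k.left, ?_⟩
  have hsq : IsPullback (pullback.snd (E.map k.hom) p₁ ≫ pullback.fst f₀ (t.app j₁))
      (pullback.fst (E.map k.hom) p₁) f₀ (t.app k.left) := by
    have h1 : IsPullback (pullback.snd (E.map k.hom) p₁) (pullback.fst (E.map k.hom) p₁) p₁
        (E.map k.hom) := (IsPullback.of_hasPullback _ _).flip
    have h2 : IsPullback (pullback.fst f₀ (t.app j₁)) p₁ f₀ (t.app j₁) :=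
      IsPullback.of_hasPullback _ _
    have h3 := h1.paste_horiz h2
    have h4 : E.map k.hom ≫ t.app j₁ = t.app k.left := by
      have := t.naturality k.hom
      simp only [Functor.const_obj_obj, Functor.const_obj_map, Category.comp_id] at this
      exact this
    rw [h4] at h3
    exact h3
  exact (isIso_snd_iff_of_isPullback hsq).1 hiso

end Groth.Agent.Helper7.LimBC
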