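import Mathlib
import Groth.Agent.Lib.Helper7.LimIso
import Groth.Agent.Lib.Helper7.LimHom
universe u
open AlgebraicGeometry CategoryTheory CategoryTheory.Limits

namespace Groth.Agent.Helper7.LfpComp

theorem locallyOfFinitePresentation_of_comp {X Y Z : Scheme.{u}} (f : X ⟶ Y) (g : Y ⟶ Z)
    (hg : LocallyOfFiniteType g) (h : LocallyOfFinitePresentation (f ≫ g)) :
    LocallyOfFinitePresentation f := by
  wlog hZ : IsAffine Z generalizing X Y Z
  · rw [IsZariskiLocalAtTarget.iff_of_iSup_eq_top (P := @LocallyOfFinitePresentation) _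
      (g.iSup_preimage_eq_top (iSup_affineOpens_eq_top Z))]
    intro U
    have H := IsZariskiLocalAtTarget.restrict h U.1
    rw [morphismRestrict_comp] at H
    exact this (f ∣_ g ⁻¹ᵁ U.1) (g ∣_ U.1) inferInstance H inferInstance
  wlog hY : IsAffine Y generalizing X Y
  · rw [IsZariskiLocalAtTarget.iff_of_iSup_eq_top (P := @LocallyOfFinitePresentation) _
      (iSup_affineOpens_eq_top Y)]
    intro U
    have H : LocallyOfFinitePresentation ((f ⁻¹ᵁ U.1).ι ≫ f ≫ g) :=
      locallyOfFinitePresentation_comp _ _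
    rw [← morphismRestrict_ι_assoc] at H
    exact this (f ∣_ U.1) (U.1.ι ≫ g) (locallyOfFiniteType_comp _ _) H inferInstance
  wlog hX : IsAffine X generalizing X
  · rw [IsZariskiLocalAtSource.iff_of_iSup_eq_top (P := @LocallyOfFinitePresentation) _
      (iSup_affineOpens_eq_top X)]
    intro U
    have H : LocallyOfFinitePresentation (U.1.ι ≫ f ≫ g) := locallyOfFinitePresentation_comp _ _
    rw [← Category.assoc] at H
    exact this (U.1.ι ≫ f) H inferInstance
  rw [HasRingHomProperty.iff_of_isAffine (P := @LocallyOfFinitePresentation)] at h ⊢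
  rw [HasRingHomProperty.iff_of_isAffine (P := @LocallyOfFiniteType)] at hg
  rw [Scheme.Hom.comp_appTop, CommRingCat.hom_comp] at h
  exact RingHom.FinitePresentation.of_comp_finiteType _ h hg

end Groth.Agent.Helper7.LfpComp

namespace Groth.Agent.Helper7.LimBC
open MorphismProperty

theorem isIso_snd_comp {C : Type*} [Category C] [HasPullbacks C] {X Y Z W : C} (f : X ⟶ Y)
    (v : Z ⟶ Y) (u : W ⟶ Z) (h : IsIso (pullback.snd f v)) : IsIso (pullback.snd f (u ≫ v)) := by
  have t : IsPullback (pullback.fst f v) (pullback.snd f v) f v := IsPullback.of_hasPullback _ _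
  have s : IsPullback (pullback.fst (pullback.snd f v) u) (pullback.snd (pullback.snd f v) u)
      (pullback.snd f v) u := IsPullback.of_hasPullback _ _
  exact (isIso_snd_iff_of_isPullback (s.paste_horiz t)).1 inferInstance

theorem isIso_snd_comp' {C : Type*} [Category C] [HasPullbacks C] {X Y Z W : C} (f : X ⟶ Y)
    (v : Z ⟶ Y) (u : W ⟶ Z) (w : W ⟶ Y) (h : IsIso (pullback.snd f v)) (e : w = u ≫ v) :
    IsIso (pullback.snd f w) := by
  subst e
  exact isIso_snd_comp f v u h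

theorem isIso_snd_iff_comp {C : Type*} [Category C] [HasPullbacks C] {X₀ Y₀ Xj Yj W : C}
    {pX : Xj ⟶ X₀} {fj : Xj ⟶ Yj} {f₀ : X₀ ⟶ Y₀} {pY : Yj ⟶ Y₀} (H : IsPullback pX fj f₀ pY)
    (u : W ⟶ Yj) : IsIso (pullback.snd fj u) ↔ IsIso (pullback.snd f₀ (u ≫ pY)) := by
  have s : IsPullback (pullback.fst fj u) (pullback.snd fj u) fj u := IsPullback.of_hasPullback _ _
  exact isIso_snd_iff_of_isPullback (s.paste_horiz H)

variable {I : Type u} [Category.{u} I] [IsCofiltered I] (D : I ⥤ Scheme.{u})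
  [∀ {i j} (f : i ⟶ j), IsAffineHom (D.map f)] (c : Cone D) (hc : IsLimit c)

set_option backward.isDefEq.respectTransparency false in
include hc in
theorem exists_isIso_snd_fst (i₀ : I) [CompactSpace (D.obj i₀)]
    {X₀ Y₀ : Scheme.{u}} (f₀ : X₀ ⟶ Y₀) (g₀ : Y₀ ⟶ D.obj i₀)
    [LocallyOfFiniteType g₀] [QuasiCompact g₀] [QuasiSeparated g₀]
    [LocallyOfFinitePresentation (f₀ ≫ g₀)] [QuasiCompact (f₀ ≫ g₀)]
    (hiso : IsIso (pullback.snd f₀ (pullback.fst g₀ (c.π.app i₀)))) :
    ∃ (j : I) (φ : j ⟶ i₀), IsIso (pullback.snd f₀ (pullback.fst g₀ (D.map φ))) := by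
  have hf₀ : LocallyOfFinitePresentation f₀ :=
    LfpComp.locallyOfFinitePresentation_of_comp f₀ g₀ inferInstance inferInstance
  have hf₀' : QuasiCompact f₀ := QuasiCompact.of_comp f₀ g₀
  have : CompactSpace Y₀ := QuasiCompact.compactSpace_of_compactSpace g₀
  let 𝒲 := Y₀.affineCover.finiteSubcover
  have hfin : Finite 𝒲.I₀ := inferInstance
  have haff : ∀ b, IsAffine (𝒲.X b) := fun b => by dsimp [𝒲]; infer_instance
  have key : ∀ b : 𝒲.I₀, ∃ k : Over i₀,
      IsIso (pullback.snd f₀ (pullback.snd (D.map k.hom) (𝒲.f b ≫ g₀) ≫ 𝒲.f b)) := by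
    intro b
    let E := pbDiagram D i₀ (𝒲.f b ≫ g₀)
    let t : E ⟶ (Functor.const _).obj Y₀ :=
      pbDiagramSnd D i₀ (𝒲.f b ≫ g₀) ≫ (Functor.const _).map (𝒲.f b)
    have hEc : ∀ k, CompactSpace (E.obj k) := fun k => inferInstance
    have hEq : ∀ k, QuasiSeparatedSpace (E.obj k) := fun k => inferInstance
    obtain ⟨k, hk⟩ := exists_isIso_snd_of_isIso E (pbCone D c i₀ (𝒲.f b ≫ g₀))
      (isLimitPbCone D c hc i₀ (𝒲.f b ≫ g₀)) t f₀ (Over.mk (𝟙 i₀)) (by
        let u : pullback (c.π.app i₀) (𝒲.f b ≫ g₀) ⟶ pullback g₀ (c.π.app i₀) :=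
          pullback.lift (pullback.snd _ _ ≫ 𝒲.f b) (pullback.fst _ _)
            (by rw [Category.assoc, pullback.condition])
        have hu : (pbCone D c i₀ (𝒲.f b ≫ g₀)).π.app (Over.mk (𝟙 i₀)) ≫ t.app (Over.mk (𝟙 i₀)) =
            u ≫ pullback.fst g₀ (c.π.app i₀) := by
          simp [t, u]
        rw [hu]
        exact isIso_snd_comp _ _ _ hiso)
    exact ⟨k, hk⟩
  choose k hk using key
  obtain ⟨j, φ, ψ, hψ⟩ := IsCofiltered.wideCospan (fun b => (k b).hom)
  refine ⟨j, φ, ?_⟩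
  let pY := pullback.fst g₀ (D.map φ)
  let fj := pullback.snd f₀ pY
  change IsIso fj
  rw [← isomorphisms.iff, IsZariskiLocalAtTarget.iff_of_openCover (P := isomorphisms Scheme)
    (𝒲.pullback₁ pY)]
  intro b
  rw [isomorphisms.iff]
  change IsIso (pullback.snd fj (pullback.fst pY (𝒲.f b)))
  rw [isIso_snd_iff_comp (IsPullback.of_hasPullback f₀ pY)]
  let m : pullback pY (𝒲.f b) ⟶ pullback (D.map (k b).hom) (𝒲.f b ≫ g₀) :=
    pullback.lift (pullback.fst _ _ ≫ pullback.snd g₀ (D.map φ) ≫ D.map (ψ b)) (pullback.snd _ _)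
      (by
        rw [Category.assoc, Category.assoc, ← D.map_comp, hψ, ← pullback.condition,
          pullback.condition_assoc])
  have hm : pullback.fst pY (𝒲.f b) ≫ pY =
      m ≫ pullback.snd (D.map (k b).hom) (𝒲.f b ≫ g₀) ≫ 𝒲.f b := by
    rw [pullback.lift_snd_assoc, pullback.condition]
  exact isIso_snd_comp' _ _ _ _ (hk b) hm

end Groth.Agent.Helper7.LimBC
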