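import Mathlib
import Groth.Agent.Lib.Helper7.LimCons

set_option autoImplicit false
universe u
open AlgebraicGeometry CategoryTheory CategoryTheory.Limits Topology

namespace Groth.Agent.Helper7.LimBC

variable {I : Type u} [Category.{u} I] (D : I ⥤ Scheme.{u}) (c : Cone D) (hc : IsLimit c)

include hc in
theorem compactSpace_pt [IsCofiltered I] [∀ {i j} (f : i ⟶ j), IsAffineHom (D.map f)] (i : I)
    [CompactSpace (D.obj i)] : CompactSpace c.pt := by
  have := isAffineHom_π_app D c hc i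
  exact QuasiCompact.compactSpace_of_compactSpace (c.π.app i)

theorem compactSpace_of_hom [∀ {i j} (f : i ⟶ j), IsAffineHom (D.map f)] {i j : I} (φ : j ⟶ i)
    [CompactSpace (D.obj i)] : CompactSpace (D.obj j) :=
  QuasiCompact.compactSpace_of_compactSpace (D.map φ)

include hc in
/-- core descent lemma -/
theorem exists_preimage_eq_diff_core [IsCofiltered I]
    [∀ {i j} (f : i ⟶ j), IsAffineHom (D.map f)] (i₁ : I)
    (Z₁ : Set (D.obj i₁)) (hZ : IsConstructible Z₁) {k : I} (φ : k ⟶ i₁) [CompactSpace (D.obj k)]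
    (V V' : (D.obj k).Opens) (hV : IsCompact (V : Set (D.obj k)))
    (hV' : IsCompact (V' : Set (D.obj k)))
    (h : c.π.app i₁ ⁻¹' Z₁ = c.π.app k ⁻¹' ((V : Set (D.obj k)) \ V')) :
    ∃ (l : I) (ψ : l ⟶ k),
      D.map (ψ ≫ φ) ⁻¹' Z₁ = (D.map ψ ⁻¹ᵁ V : Set (D.obj l)) \ (D.map ψ ⁻¹ᵁ V' : Set (D.obj l)) := by
  let B : Set (D.obj k) := D.map φ ⁻¹' Z₁
  have hB : IsConstructible B := Scheme.Hom.isConstructible_preimage _ hZ
  have hBZ : c.π.app k ⁻¹' B = c.π.app i₁ ⁻¹' Z₁ := by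
    change (c.π.app k ≫ D.map φ) ⁻¹' Z₁ = _
    rw [Cone.w]
  have heq : c.π.app k ⁻¹' ((V : Set (D.obj k)) \ V') = c.π.app k ⁻¹' B := by
    rw [hBZ, h]
  obtain ⟨l, ψ, hl⟩ := exists_preimage_diff_eq D c hc hB V V' V.2 hV V'.2 hV' heq
  refine ⟨l, ψ, ?_⟩
  have := hl l (𝟙 l)
  rw [Category.id_comp] at this
  have h2 : D.map (ψ ≫ φ) ⁻¹' Z₁ = D.map ψ ⁻¹' B := by
    change _ = (D.map ψ ≫ D.map φ) ⁻¹' Z₁
    rw [← D.map_comp]
  rw [h2, ← this]
  rfl

include hc in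
/-- descending "locally closed of the form U \ U'" -/
theorem exists_preimage_eq_diff_of_constructible [IsCofiltered I]
    [∀ {i j} (f : i ⟶ j), IsAffineHom (D.map f)] (i₁ : I) [CompactSpace (D.obj i₁)]
    (Z₁ : Set (D.obj i₁)) (hZ : IsConstructible Z₁) (U U' : c.pt.Opens)
    (hU : IsCompact (U : Set c.pt)) (hU' : IsCompact (U' : Set c.pt))
    (h : c.π.app i₁ ⁻¹' Z₁ = (U : Set c.pt) \ U') :
    ∃ (j : I) (φ : j ⟶ i₁) (A A' : (D.obj j).Opens),
      D.map φ ⁻¹' Z₁ = (A : Set (D.obj j)) \ A' := by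
  obtain ⟨k₁, φ₁, V, hV, hVU⟩ := exists_preimage_eq_over D c hc i₁ U hU
  obtain ⟨k₂, φ₂, V', hV', hVU'⟩ := exists_preimage_eq_over D c hc k₁ U' hU'
  have : CompactSpace (D.obj k₁) := compactSpace_of_hom D φ₁
  have : CompactSpace (D.obj k₂) := compactSpace_of_hom D φ₂
  let A : (D.obj k₂).Opens := D.map φ₂ ⁻¹ᵁ V
  have hA : IsCompact (A : Set (D.obj k₂)) :=
    QuasiCompact.isCompact_preimage (f := D.map φ₂) _ V.2 hV
  have hAU : c.π.app k₂ ⁻¹ᵁ A = U := by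
    rw [← hVU, ← Scheme.Hom.comp_preimage, Cone.w]
  have heq : c.π.app i₁ ⁻¹' Z₁ = c.π.app k₂ ⁻¹' ((A : Set (D.obj k₂)) \ V') := by
    rw [h, Set.preimage_sdiff]
    congr 1
    · exact (congrArg (fun W : c.pt.Opens => (W : Set c.pt)) hAU).symm
    · exact (congrArg (fun W : c.pt.Opens => (W : Set c.pt)) hVU').symm
  obtain ⟨l, ψ, hl⟩ := exists_preimage_eq_diff_core D c hc i₁ Z₁ hZ (φ₂ ≫ φ₁) A V' hA hV' heq
  exact ⟨l, ψ ≫ φ₂ ≫ φ₁, _, _, hl⟩

include hc in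
/-- descending openness -/
theorem exists_isOpen_preimage_of_constructible [IsCofiltered I]
    [∀ {i j} (f : i ⟶ j), IsAffineHom (D.map f)] (i₁ : I) [CompactSpace (D.obj i₁)]
    (Z₁ : Set (D.obj i₁)) (hZ : IsConstructible Z₁)
    (hopen : IsOpen (c.π.app i₁ ⁻¹' Z₁ : Set c.pt)) :
    ∃ (j : I) (φ : j ⟶ i₁), IsOpen (D.map φ ⁻¹' Z₁) := by
  have hcpt : CompactSpace c.pt := compactSpace_pt D c hc i₁
  have hW : IsConstructible (c.π.app i₁ ⁻¹' Z₁ : Set c.pt) :=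
    Scheme.Hom.isConstructible_preimage _ hZ
  have hWc := isCompact_of_isConstructible hW
  obtain ⟨k, φ, V, hV, hVU⟩ := exists_preimage_eq_over D c hc i₁ ⟨_, hopen⟩ hWc
  have : CompactSpace (D.obj k) := compactSpace_of_hom D φ
  have heq : c.π.app i₁ ⁻¹' Z₁ = c.π.app k ⁻¹' ((V : Set (D.obj k)) \ (⊥ : (D.obj k).Opens)) := by
    have := congrArg (fun W : c.pt.Opens => (W : Set c.pt)) hVU
    simp only [TopologicalSpace.Opens.coe_mk] at this
    rw [← this]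
    simp
  obtain ⟨l, ψ, hl⟩ := exists_preimage_eq_diff_core D c hc i₁ Z₁ hZ φ V ⊥ hV (by simp) heq
  refine ⟨l, ψ ≫ φ, ?_⟩
  rw [hl]
  simp only [Scheme.Hom.preimage_bot, TopologicalSpace.Opens.coe_bot, Set.sdiff_empty]
  exact (D.map ψ ⁻¹ᵁ V).2

/-- constructible ∩ compact open is compact. -/
theorem isCompact_inter_of_isConstructible {X : Type*} [TopologicalSpace X] {s : Set X}
    (hs : IsConstructible s) : ∀ A : Set X, IsOpen A → IsCompact A → IsCompact (s ∩ A) := by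
  induction s, hs using BooleanSubalgebra.closure_sdiff_sup_induction with
  | isSublattice =>
    exact ⟨fun s hs t ht ↦ ⟨hs.1.union ht.1, hs.2.union ht.2⟩,
      fun s hs t ht ↦ ⟨hs.1.inter ht.1, hs.2.inter_isOpen ht.2 ht.1⟩⟩
  | bot_mem => exact ⟨isOpen_empty, .empty⟩
  | top_mem => exact ⟨isOpen_univ, .univ⟩
  | sdiff U hU V hV =>
    intro A hAo hAc
    have : U \ V ∩ A = (U ∩ A) ∩ Vᶜ := by
      ext x; simp only [Set.mem_inter_iff, Set.mem_sdiff, Set.mem_compl_iff]; tauto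
    rw [this]
    exact (hU.2 hAc hAo).inter_right hV.1.isClosed_compl
  | sup s _ t _ hs' ht' =>
    intro A hAo hAc
    have : (s ⊔ t) ∩ A = (s ∩ A) ∪ (t ∩ A) := Set.union_inter_distrib_right s t A
    rw [this]
    exact (hs' A hAo hAc).union (ht' A hAo hAc)

/-- A locally closed constructible subset of a compact scheme is a difference of compact opens. -/
theorem exists_compact_opens_diff {X : Scheme.{u}} [CompactSpace X] {W : Set X}
    (hW : IsConstructible W) (hlc : IsLocallyClosed W) :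
    ∃ U U' : X.Opens, IsCompact (U : Set X) ∧ IsCompact (U' : Set X) ∧ W = (U : Set X) \ U' := by
  obtain ⟨O, C, hO, hC, rfl⟩ := hlc
  have hWc : IsCompact (O ∩ C) := isCompact_of_isConstructible hW
  -- cover by affine opens inside O
  have hcov : ∀ x : (O ∩ C : Set X), ∃ V : X.Opens, IsAffineOpen V ∧ x.1 ∈ V ∧ (V : Set X) ⊆ O := by
    intro x
    obtain ⟨_, ⟨V, hV, rfl⟩, hxV, hVO⟩ :=
      X.isBasis_affineOpens.exists_subset_of_mem_open x.2.1 hO
    exact ⟨V, hV, hxV, hVO⟩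
  choose V hVaff hxV hVO using hcov
  obtain ⟨t, ht⟩ := hWc.elim_finite_subcover (fun x => (V x : Set X)) (fun x => (V x).2)
    (fun x hx => Set.mem_iUnion.mpr ⟨⟨x, hx⟩, hxV ⟨x, hx⟩⟩)
  let U : X.Opens := ⨆ x ∈ t, V x
  have hUcoe : (U : Set X) = ⋃ x ∈ t, (V x : Set X) := by
    simp [U]
  have hUc : IsCompact (U : Set X) := by
    rw [hUcoe]
    exact t.isCompact_biUnion fun x _ => (hVaff x).isCompact
  have hUO : (U : Set X) ⊆ O := by
    rw [hUcoe]
    exact Set.iUnion₂_subset fun x _ => hVO x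
  have hWU : O ∩ C ⊆ (U : Set X) := by rw [hUcoe]; exact ht
  let U' : X.Opens := ⟨(U : Set X) ∩ Cᶜ, U.2.inter hC.isOpen_compl⟩
  have hU'eq : (U' : Set X) = (O ∩ C)ᶜ ∩ U := by
    ext x
    simp only [U', TopologicalSpace.Opens.coe_mk, Set.mem_inter_iff, Set.mem_compl_iff, not_and]
    constructor
    · rintro ⟨h1, h2⟩
      exact ⟨fun _ => h2, h1⟩
    · rintro ⟨h1, h2⟩
      exact ⟨h2, h1 (hUO h2)⟩
  refine ⟨U, U', hUc, ?_, ?_⟩
  · rw [hU'eq]
    exact isCompact_inter_of_isConstructible hW.compl U U.2 hUc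
  · ext x
    simp only [U', TopologicalSpace.Opens.coe_mk, Set.mem_inter_iff, Set.mem_sdiff,
      Set.mem_compl_iff, not_and, not_not]
    constructor
    · rintro ⟨h1, h2⟩
      exact ⟨hWU ⟨h1, h2⟩, fun _ => h2⟩
    · rintro ⟨h1, h2⟩
      exact ⟨hUO h1, h2 h1⟩

end Groth.Agent.Helper7.LimBC
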