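import Mathlib
import Groth.Agent.Lib.Helper7.LimCons2
universe u
open AlgebraicGeometry CategoryTheory CategoryTheory.Limits Topology

namespace Groth.Agent.Helper7.LimBC

theorem isLocallyConstructible_compl {X : Type*} [TopologicalSpace X] {s : Set X}
    (hs : IsLocallyConstructible s) : IsLocallyConstructible sᶜ := by
  intro x
  obtain ⟨U, hxU, hU, H⟩ := hs x
  exact ⟨U, hxU, hU, by rw [Set.preimage_compl]; exact isConstructible_compl.2 H⟩

variable {I : Type u} [Category.{u} I] (D : I ⥤ Scheme.{u}) (c : Cone D) (hc : IsLimit c)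

set_option backward.isDefEq.respectTransparency false in
include hc in
/-- one affine open piece -/
theorem exists_isOpen_preimage_inter_of_isAffineOpen [IsCofiltered I]
    [∀ {i j} (f : i ⟶ j), IsAffineHom (D.map f)] (i₁ : I)
    (Z₁ : Set (D.obj i₁)) (hZ : IsLocallyConstructible Z₁) (U : (D.obj i₁).Opens)
    (hU : IsAffineOpen U)
    (hopen : IsOpen (c.π.app i₁ ⁻¹' Z₁ : Set c.pt)) :
    ∃ (j : I) (φ : j ⟶ i₁), IsOpen (D.map φ ⁻¹' (Z₁ ∩ U)) := by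
  let E := opensDiagram D i₁ U
  let cE := opensCone D c i₁ U
  have hE : IsLimit cE := isLimitOpensCone D c hc i₁ U
  let k₀ : Over i₁ := Over.mk (𝟙 i₁)
  have haff : IsAffine (E.obj k₀) := hU.preimage (D.map (𝟙 i₁))
  let ι₀ : E.obj k₀ ⟶ D.obj i₁ := (D.map k₀.hom ⁻¹ᵁ U).ι
  let Z' : Set (E.obj k₀) := ι₀ ⁻¹' Z₁
  have hZ' : IsConstructible Z' :=
    (hZ.preimage_of_isOpenEmbedding ι₀.isOpenEmbedding).isConstructible
  have hcomp : cE.π.app k₀ ≫ ι₀ = (c.π.app i₁ ⁻¹ᵁ U).ι ≫ c.π.app i₁ := by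
    simp [cE, ι₀, k₀]
  have hopen' : IsOpen (cE.π.app k₀ ⁻¹' Z' : Set cE.pt) := by
    have : cE.π.app k₀ ⁻¹' Z' = (cE.π.app k₀ ≫ ι₀) ⁻¹' Z₁ := rfl
    rw [this, hcomp]
    exact hopen.preimage ((c.π.app i₁ ⁻¹ᵁ U).ι).continuous
  obtain ⟨j, ψ, hj⟩ := exists_isOpen_preimage_of_constructible E cE hE k₀ Z' hZ' hopen'
  refine ⟨j.left, j.hom, ?_⟩
  have hcomp2 : E.map ψ ≫ ι₀ = (D.map j.hom ⁻¹ᵁ U).ι ≫ D.map j.hom := by
    have : ψ.left = j.hom := by
      have := Over.w ψ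
      simpa [k₀] using this
    simp [E, ι₀, k₀, this]
  have h1 : E.map ψ ⁻¹' Z' = (D.map j.hom ⁻¹ᵁ U).ι ⁻¹' (D.map j.hom ⁻¹' Z₁) := by
    have : E.map ψ ⁻¹' Z' = (E.map ψ ≫ ι₀) ⁻¹' Z₁ := rfl
    rw [this, hcomp2]
    rfl
  rw [h1] at hj
  have h2 := (D.map j.hom ⁻¹ᵁ U).ι.isOpenEmbedding.isOpenMap _ hj
  rw [Set.image_preimage_eq_inter_range] at h2
  convert h2 using 1
  rw [Set.preimage_inter]
  congr 1
  simp

include hc in
/-- If the preimage in the limit of a locally constructible subset of a quasi-compact stage is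
open, then so is its preimage in some stage. -/
theorem exists_isOpen_preimage_of_isLocallyConstructible [IsCofiltered I]
    [∀ {i j} (f : i ⟶ j), IsAffineHom (D.map f)] (i₁ : I) [CompactSpace (D.obj i₁)]
    (Z₁ : Set (D.obj i₁)) (hZ : IsLocallyConstructible Z₁)
    (hopen : IsOpen (c.π.app i₁ ⁻¹' Z₁ : Set c.pt)) :
    ∃ (j : I) (φ : j ⟶ i₁), IsOpen (D.map φ ⁻¹' Z₁) := by
  let 𝒰 := (D.obj i₁).affineCover.finiteSubcover
  have hfin : Finite 𝒰.I₀ := inferInstance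
  have key : ∀ a : 𝒰.I₀, ∃ (j : I) (φ : j ⟶ i₁),
      IsOpen (D.map φ ⁻¹' (Z₁ ∩ ((𝒰.f a).opensRange : Set (D.obj i₁)))) := by
    intro a
    have : IsAffine (𝒰.X a) := by dsimp [𝒰]; infer_instance
    exact exists_isOpen_preimage_inter_of_isAffineOpen D c hc i₁ Z₁ hZ _
      (isAffineOpen_opensRange (𝒰.f a)) hopen
  choose j φ hj using key
  obtain ⟨k, fk, g, hg⟩ := IsCofiltered.wideCospan φ
  refine ⟨k, fk, ?_⟩
  have hcov : Z₁ = ⋃ a, Z₁ ∩ ((𝒰.f a).opensRange : Set (D.obj i₁)) := by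
    rw [← Set.inter_iUnion]
    have : (⋃ a, ((𝒰.f a).opensRange : Set (D.obj i₁))) = Set.univ := 𝒰.iUnion_range
    rw [this, Set.inter_univ]
  rw [hcov, Set.preimage_iUnion]
  refine isOpen_iUnion fun a => ?_
  have : D.map fk ⁻¹' (Z₁ ∩ ((𝒰.f a).opensRange : Set (D.obj i₁))) =
      D.map (g a) ⁻¹' (D.map (φ a) ⁻¹' (Z₁ ∩ ((𝒰.f a).opensRange : Set (D.obj i₁)))) := by
    rw [← hg a, D.map_comp]
    rfl
  rw [this]
  exact (hj a).preimage (D.map (g a)).continuous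

end Groth.Agent.Helper7.LimBC
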