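import Mathlib
universe u
open AlgebraicGeometry CategoryTheory CategoryTheory.Limits

namespace Groth.Agent.Helper7.PbSnd

set_option backward.isDefEq.respectTransparency false in
/-- `Z₀ ×_B S ⟶ S` is the base change of `Z₀ ×_B S' ⟶ S'` along `p : S ⟶ S'`. -/
theorem isPullback_snd_snd {C : Type*} [Category C] [HasPullbacks C] {Z₀ B S S' : C}
    (ι₀ : Z₀ ⟶ B) (π : S ⟶ B) (φ : S' ⟶ B) (p : S ⟶ S') (hp : p ≫ φ = π) :
    IsPullback (pullback.map ι₀ π ι₀ φ (𝟙 _) p (𝟙 _) (by simp) (by simp [hp]))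
      (pullback.snd ι₀ π) (pullback.snd ι₀ φ) p := by
  refine IsPullback.of_right ?_ (by simp) (IsPullback.of_hasPullback ι₀ φ)
  simpa [hp] using IsPullback.of_hasPullback ι₀ π

end Groth.Agent.Helper7.PbSnd
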