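import Mathlib
import Groth.Agent.Lib.Helper7.LimIso2
import Groth.Agent.S4818
universe u
open AlgebraicGeometry CategoryTheory CategoryTheory.Limits

namespace Groth.Agent.Helper7.LimSep
open MorphismProperty

section general
variable {C : Type*} [Category C] [HasPullbacks C]

theorem snd_iff_of_isPullback (P : MorphismProperty C) [P.RespectsIso] {Q X Y Z : C}
    {fst : Q ⟶ X} {snd : Q ⟶ Z} {f : X ⟶ Y} {h : Z ⟶ Y} (H : IsPullback fst snd f h) :
    P snd ↔ P (pullback.snd f h) := by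
  have e : snd = H.isoPullback.hom ≫ pullback.snd f h := by simp
  rw [e, P.cancel_left_of_respectsIso]

theorem snd_comp_iff (P : MorphismProperty C) [P.RespectsIso] {X Y Z W : C} (f : X ⟶ Y)
    (v : Z ⟶ Y) (u : W ⟶ Z) :
    P (pullback.snd (pullback.snd f v) u) ↔ P (pullback.snd f (u ≫ v)) := by
  have t : IsPullback (pullback.fst f v) (pullback.snd f v) f v := IsPullback.of_hasPullback _ _
  have s : IsPullback (pullback.fst (pullback.snd f v) u) (pullback.snd (pullback.snd f v) u)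
      (pullback.snd f v) u := IsPullback.of_hasPullback _ _
  exact snd_iff_of_isPullback P (s.paste_horiz t)

theorem snd_comp (P : MorphismProperty C) [P.IsStableUnderBaseChange] {X Y Z W : C} (f : X ⟶ Y)
    (v : Z ⟶ Y) (u : W ⟶ Z) (w : W ⟶ Y) (h : P (pullback.snd f v)) (e : w = u ≫ v) :
    P (pullback.snd f w) := by
  subst e
  exact (snd_comp_iff P f v u).1 (P.pullback_snd _ _ h)

set_option backward.isDefEq.respectTransparency false in
/-- The diagonal of a base change is the base change of the diagonal. -/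
theorem isPullback_diagonal {X Y X₀ Y₀ : C} {qX : X ⟶ X₀} {f : X ⟶ Y} {f₀ : X₀ ⟶ Y₀}
    {qY : Y ⟶ Y₀} (hX : IsPullback qX f f₀ qY) :
    IsPullback qX (pullback.diagonal f) (pullback.diagonal f₀)
      (pullback.map f f f₀ f₀ qX qX qY hX.w.symm hX.w.symm) := by
  refine ⟨⟨by ext <;> simp⟩, ⟨PullbackCone.IsLimit.mk _ (fun s => s.snd ≫ pullback.fst f f)
    ?_ ?_ ?_⟩⟩
  · intro s
    have := congr($(s.condition) ≫ pullback.fst f₀ f₀)
    simp only [Category.assoc, pullback.diagonal_fst, Category.comp_id, pullback.lift_fst] at this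
    simpa using this.symm
  · intro s
    have h1 := congr($(s.condition) ≫ pullback.fst f₀ f₀)
    have h2 := congr($(s.condition) ≫ pullback.snd f₀ f₀)
    simp only [Category.assoc, pullback.diagonal_fst, pullback.diagonal_snd, Category.comp_id,
      pullback.lift_fst, pullback.lift_snd] at h1 h2
    apply pullback.hom_ext
    · simp
    · simp only [Category.assoc, pullback.diagonal_snd, Category.comp_id]
      apply hX.hom_ext
      · simp only [Category.assoc]
        rw [← h1, ← h2]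
      · simp only [Category.assoc, pullback.condition]
  · intro s m h1 h2
    rw [← h2]
    simp

end general

variable {J : Type u} [SmallCategory J] [IsCofiltered J] (E : J ⥤ Scheme.{u})
  [∀ {i j} (f : i ⟶ j), IsAffineHom (E.map f)]
  (cE : Cone E) (hcE : IsLimit cE) {T W₀ : Scheme.{u}} (t : E ⟶ (Functor.const J).obj T)
  (ι₀ : W₀ ⟶ T)

include hcE in
/-- **Lemma G**: descent of closed immersions for a general target. -/
theorem exists_isClosedImmersion_snd [IsImmersion ι₀] [LocallyOfFinitePresentation ι₀]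
    [QuasiCompact ι₀] (j₀ : J) [CompactSpace (E.obj j₀)]
    (h : IsClosedImmersion (pullback.snd ι₀ (cE.π.app j₀ ≫ t.app j₀))) :
    ∃ j : J, IsClosedImmersion (pullback.snd ι₀ (t.app j)) := by
  let ι' := pullback.snd ι₀ (t.app j₀)
  have h1 : IsImmersion ι' := MorphismProperty.pullback_snd (P := @IsImmersion) _ _ inferInstance
  have h2 : LocallyOfFinitePresentation ι' :=
    MorphismProperty.pullback_snd (P := @LocallyOfFinitePresentation) _ _ inferInstance
  have h3 : QuasiCompact ι' := MorphismProperty.pullback_snd (P := @QuasiCompact) _ _ inferInstance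
  have : ∀ (i j : J) (f : i ⟶ j), IsAffineHom (E.map f) := fun _ _ f => inferInstance
  have key := (Groth.Agent.S4818.result E cE hcE j₀ ι').1
    ((snd_comp_iff @IsClosedImmersion ι₀ (t.app j₀) (cE.π.app j₀)).2 h)
  obtain ⟨j, φ, hj⟩ := key
  refine ⟨j, ?_⟩
  have := (snd_comp_iff @IsClosedImmersion ι₀ (t.app j₀) (E.map φ)).1 hj
  have e : E.map φ ≫ t.app j₀ = t.app j := by
    have := t.naturality φ
    simp only [Functor.const_obj_obj, Functor.const_obj_map, Category.comp_id] at this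
    exact this
  exact snd_comp @IsClosedImmersion ι₀ _ (𝟙 _) _ this (by rw [Category.id_comp, e])

open Groth.Agent.Helper7.LimBC

variable {I : Type u} [SmallCategory I] [IsCofiltered I] (D : I ⥤ Scheme.{u})
  [∀ {i j} (f : i ⟶ j), IsAffineHom (D.map f)] (c : Cone D) (hc : IsLimit c)

set_option backward.isDefEq.respectTransparency false in
include hc in
theorem exists_isSeparated_stage (i₀ : I) {X₀ Y₀ : Scheme.{u}} (f₀ : X₀ ⟶ Y₀)
    (g₀ : Y₀ ⟶ D.obj i₀) [CompactSpace Y₀]
    [LocallyOfFiniteType f₀] [QuasiCompact f₀] [QuasiSeparated f₀]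
    {X Y : Scheme.{u}} (f : X ⟶ Y) (g : Y ⟶ c.pt) (qY : Y ⟶ Y₀) (qX : X ⟶ X₀)
    (hY : IsPullback qY g g₀ (c.π.app i₀)) (hX : IsPullback qX f f₀ qY) [IsSeparated f] :
    ∃ (j : I) (φ : j ⟶ i₀), IsSeparated (pullback.snd f₀ (pullback.fst g₀ (D.map φ))) := by
  let Z₀ := pullback f₀ f₀
  let Δ₀ : X₀ ⟶ Z₀ := pullback.diagonal f₀
  let h₀ : Z₀ ⟶ D.obj i₀ := pullback.fst f₀ f₀ ≫ f₀ ≫ g₀
  have : CompactSpace X₀ := QuasiCompact.compactSpace_of_compactSpace f₀
  have hqc : QuasiCompact (pullback.fst f₀ f₀) :=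
    MorphismProperty.pullback_fst (P := @QuasiCompact) _ _ inferInstance
  have : CompactSpace ↥Z₀ := QuasiCompact.compactSpace_of_compactSpace (pullback.fst f₀ f₀)
  have hΔ1 : LocallyOfFinitePresentation Δ₀ :=
    LfpComp.locallyOfFinitePresentation_of_comp Δ₀ (pullback.fst f₀ f₀)
      (MorphismProperty.pullback_fst (P := @LocallyOfFiniteType) _ _ inferInstance)
      (by rw [pullback.diagonal_fst]; infer_instance)
  have hΔ2 : QuasiCompact Δ₀ := inferInstance
  have hΔ3 : IsImmersion Δ₀ := inferInstance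
  -- the diagonal of `f`
  let ρ := pullback.map f f f₀ f₀ qX qX qY hX.w.symm hX.w.symm
  have hsq : IsPullback qX (pullback.diagonal f) Δ₀ ρ := isPullback_diagonal hX
  have hcl : IsClosedImmersion (pullback.snd Δ₀ ρ) :=
    (snd_iff_of_isPullback @IsClosedImmersion hsq).1 inferInstance
  let y : pullback (c.π.app i₀) h₀ ⟶ Y :=
    hY.lift (pullback.snd _ _ ≫ pullback.fst f₀ f₀ ≫ f₀) (pullback.fst _ _)
      (by rw [Category.assoc, Category.assoc]; exact pullback.condition.symm)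
  let v₁ : pullback (c.π.app i₀) h₀ ⟶ X :=
    hX.lift (pullback.snd _ _ ≫ pullback.fst f₀ f₀) y (by simp [y])
  let v₂ : pullback (c.π.app i₀) h₀ ⟶ X :=
    hX.lift (pullback.snd _ _ ≫ pullback.snd f₀ f₀) y (by simp [y, pullback.condition])
  let ε : pullback (c.π.app i₀) h₀ ⟶ pullback f f := pullback.lift v₁ v₂ (by simp [v₁, v₂])
  have hε : pullback.snd (c.π.app i₀) h₀ = ε ≫ ρ := by
    apply pullback.hom_ext <;> simp [ε, ρ, v₁, v₂]
  have hcl' : IsClosedImmersion (pullback.snd Δ₀ (pullback.snd (c.π.app i₀) h₀)) :=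
    snd_comp @IsClosedImmersion Δ₀ ρ ε _ hcl hε
  obtain ⟨k, hk⟩ := exists_isClosedImmersion_snd (pbDiagram D i₀ h₀) (pbCone D c i₀ h₀)
    (isLimitPbCone D c hc i₀ h₀) (pbDiagramSnd D i₀ h₀) Δ₀ (Over.mk (𝟙 i₀))
    (snd_comp @IsClosedImmersion Δ₀ _ (𝟙 _) _ hcl' (by simp))
  have hk' : IsClosedImmersion (pullback.snd Δ₀ (pullback.snd (D.map k.hom) h₀)) := hk
  refine ⟨k.left, k.hom, ?_⟩
  let pY := pullback.fst g₀ (D.map k.hom)
  let fk := pullback.snd f₀ pY
  have hXk : IsPullback (pullback.fst f₀ pY) fk f₀ pY := IsPullback.of_hasPullback _ _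
  let ρk := pullback.map fk fk f₀ f₀ _ _ pY hXk.w.symm hXk.w.symm
  have hsqk : IsPullback _ (pullback.diagonal fk) Δ₀ ρk := isPullback_diagonal hXk
  change IsSeparated fk
  rw [isSeparated_iff, snd_iff_of_isPullback @IsClosedImmersion hsqk]
  let εk : pullback fk fk ⟶ pullback (D.map k.hom) h₀ :=
    pullback.lift (pullback.fst fk fk ≫ fk ≫ pullback.snd g₀ (D.map k.hom)) ρk (by
      have e1 : ρk ≫ pullback.fst f₀ f₀ = pullback.fst fk fk ≫ pullback.fst f₀ pY :=
        pullback.lift_fst _ _ _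
      have e2 : pullback.fst f₀ pY ≫ f₀ = fk ≫ pY := pullback.condition
      have e3 : pY ≫ g₀ = pullback.snd g₀ (D.map k.hom) ≫ D.map k.hom := pullback.condition
      simp only [Category.assoc, h₀]
      rw [reassoc_of% e1, reassoc_of% e2, e3])
  exact snd_comp @IsClosedImmersion Δ₀ _ εk _ hk' (by simp [εk])

omit [IsCofiltered I] [∀ {i j} (f : i ⟶ j), IsAffineHom (D.map f)] in
theorem isSeparated_of_stage (i₀ : I) {X₀ Y₀ : Scheme.{u}} (f₀ : X₀ ⟶ Y₀)
    (g₀ : Y₀ ⟶ D.obj i₀)
    {X Y : Scheme.{u}} (f : X ⟶ Y) (g : Y ⟶ c.pt) (qY : Y ⟶ Y₀) (qX : X ⟶ X₀)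
    (hY : IsPullback qY g g₀ (c.π.app i₀)) (hX : IsPullback qX f f₀ qY)
    {j : I} (φ : j ⟶ i₀) {Xj Yj : Scheme.{u}} (fj : Xj ⟶ Yj) (gj : Yj ⟶ D.obj j) (pY : Yj ⟶ Y₀)
    (pX : Xj ⟶ X₀) (hYj : IsPullback pY gj g₀ (D.map φ)) (hXj : IsPullback pX fj f₀ pY)
    (P : MorphismProperty Scheme.{u}) [P.IsStableUnderBaseChange] (h : P fj) : P f := by
  let uY : Y ⟶ Yj := hYj.lift qY (g ≫ c.π.app j) (by rw [Category.assoc, Cone.w, hY.w])
  have huY : uY ≫ pY = qY := hYj.lift_fst _ _ _
  let uX : X ⟶ Xj := hXj.lift qX (f ≫ uY) (by rw [Category.assoc, huY, hX.w])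
  have hsq : IsPullback uX f fj uY := by
    refine IsPullback.of_right ?_ (hXj.lift_snd _ _ _) hXj
    rw [hXj.lift_fst, huY]
    exact hX
  exact MorphismProperty.of_isPullback hsq h

end Groth.Agent.Helper7.LimSep
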