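import Mathlib
import Groth.Agent.Lib.Helper7.LimCons2

set_option autoImplicit false
universe u
open AlgebraicGeometry CategoryTheory CategoryTheory.Limits Topology

namespace Groth.Agent.Helper7.LimBC

variable {I : Type u} [Category.{u} I] (D : I ⥤ Scheme.{u}) (c : Cone D) (hc : IsLimit c)

theorem quasiSeparatedSpace_of_hom [∀ {i j} (f : i ⟶ j), IsAffineHom (D.map f)] {i j : I}
    (φ : j ⟶ i) [QuasiSeparatedSpace (D.obj i)] : QuasiSeparatedSpace (D.obj j) :=
  quasiSeparatedSpace_of_quasiSeparated (D.map φ)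

include hc in
/-- constructible subsets of the limit descend (to a stage over a qcqs stage). -/
theorem exists_isConstructible_preimage_eq [IsCofiltered I]
    [∀ {i j} (f : i ⟶ j), IsAffineHom (D.map f)] (i₀ : I) [CompactSpace (D.obj i₀)]
    [QuasiSeparatedSpace (D.obj i₀)] (Z : Set c.pt) (hZ : IsConstructible Z) :
    ∃ (i : I) (_ : i ⟶ i₀) (Zi : Set (D.obj i)),
      IsConstructible Zi ∧ (c.π.app i ⁻¹' Zi : Set c.pt) = Z := by
  have hcpt : CompactSpace c.pt := compactSpace_pt D c hc i₀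
  induction hZ using IsConstructible.empty_union_induction with
  | open_retrocompact U hUo hUc =>
    have hUcpt : IsCompact U := by simpa using hUc isCompact_univ isOpen_univ
    obtain ⟨k, φ, V, hV, hVU⟩ := exists_preimage_eq_over D c hc i₀ ⟨U, hUo⟩ hUcpt
    have : QuasiSeparatedSpace (D.obj k) := quasiSeparatedSpace_of_hom D φ
    refine ⟨k, φ, V, hV.isConstructible V.2, ?_⟩
    exact congrArg (fun W : c.pt.Opens => (W : Set c.pt)) hVU
  | union s hs t ht hs' ht' =>
    obtain ⟨i, φ, Zi, hZi, rfl⟩ := hs'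
    obtain ⟨j, ψ, Zj, hZj, rfl⟩ := ht'
    refine ⟨IsCofiltered.min i j, IsCofiltered.minToLeft i j ≫ φ,
      D.map (IsCofiltered.minToLeft i j) ⁻¹' Zi ∪ D.map (IsCofiltered.minToRight i j) ⁻¹' Zj,
      ?_, ?_⟩
    · exact (Scheme.Hom.isConstructible_preimage _ hZi).union
        (Scheme.Hom.isConstructible_preimage _ hZj)
    · rw [Set.preimage_union]
      congr 1
      · change (c.π.app _ ≫ D.map (IsCofiltered.minToLeft i j)) ⁻¹' Zi = _
        rw [Cone.w]
      · change (c.π.app _ ≫ D.map (IsCofiltered.minToRight i j)) ⁻¹' Zj = _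
        rw [Cone.w]
  | compl s hs hs' =>
    obtain ⟨i, φ, Zi, hZi, rfl⟩ := hs'
    exact ⟨i, φ, Ziᶜ, hZi.compl, rfl⟩

end Groth.Agent.Helper7.LimBC
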