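import Mathlib
import Groth.Agent.Lib.Helper7.LimCons3

set_option autoImplicit false
universe u
open AlgebraicGeometry CategoryTheory CategoryTheory.Limits Topology

namespace Groth.Agent.Helper7.LimBC

theorem not_preconnectedSpace_of_opens {X : Type*} [TopologicalSpace X] (U V : Set X)
    (hU : IsOpen U) (hV : IsOpen V) (hUV : U ∪ V = Set.univ) (hdisj : U ∩ V = ∅)
    (hUne : U.Nonempty) (hVne : V.Nonempty) : ¬ PreconnectedSpace X := by
  intro h
  have := h.isPreconnected_univ U V hU hV (by rw [hUV]) (by simpa using hUne) (by simpa using hVne)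
  rw [hdisj] at this
  simp at this

theorem exists_opens_of_not_preconnectedSpace {X : Type*} [TopologicalSpace X]
    (h : ¬ PreconnectedSpace X) : ∃ U V : Set X, IsOpen U ∧ IsOpen V ∧ U ∪ V = Set.univ ∧
      U ∩ V = ∅ ∧ U.Nonempty ∧ V.Nonempty := by
  have h1 : ¬ _root_.IsPreconnected (Set.univ : Set X) := fun h2 => h ⟨h2⟩
  rw [_root_.IsPreconnected] at h1
  push Not at h1
  obtain ⟨U, V, hU, hV, hUV, hUne, hVne, hdisj⟩ := h1
  refine ⟨U, V, hU, hV, Set.eq_univ_of_univ_subset hUV, ?_, by simpa using hUne, by simpa using hVne⟩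
  simpa using hdisj

variable {I : Type u} [Category.{u} I] (D : I ⥤ Scheme.{u}) (c : Cone D) (hc : IsLimit c)

include hc in
/-- two compact opens of the limit descend to a common stage over `i₀` -/
theorem exists_two_preimage_eq_over [IsCofiltered I]
    [∀ {i j} (f : i ⟶ j), IsAffineHom (D.map f)] (i₀ : I) (U₁ U₂ : c.pt.Opens)
    (hU₁ : IsCompact (U₁ : Set c.pt)) (hU₂ : IsCompact (U₂ : Set c.pt)) :
    ∃ (k : I) (_ : k ⟶ i₀) (A₁ A₂ : (D.obj k).Opens), IsCompact (A₁ : Set (D.obj k)) ∧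
      IsCompact (A₂ : Set (D.obj k)) ∧ c.π.app k ⁻¹ᵁ A₁ = U₁ ∧ c.π.app k ⁻¹ᵁ A₂ = U₂ := by
  obtain ⟨k₁, φ₁, V₁, hV₁, hVU₁⟩ := exists_preimage_eq_over D c hc i₀ U₁ hU₁
  obtain ⟨k₂, φ₂, V₂, hV₂, hVU₂⟩ := exists_preimage_eq_over D c hc k₁ U₂ hU₂
  refine ⟨k₂, φ₂ ≫ φ₁, D.map φ₂ ⁻¹ᵁ V₁, V₂, ?_, hV₂, ?_, hVU₂⟩
  · exact QuasiCompact.isCompact_preimage (f := D.map φ₂) _ V₁.2 hV₁
  · rw [← hVU₁, ← Scheme.Hom.comp_preimage, Cone.w]

include hc in
theorem exists_forall_not_preconnectedSpace [IsCofiltered I]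
    [∀ {i j} (f : i ⟶ j), IsAffineHom (D.map f)] (i₀ : I) [CompactSpace (D.obj i₀)]
    [QuasiSeparatedSpace (D.obj i₀)] (h : ¬ PreconnectedSpace c.pt) :
    ∃ (i : I) (_ : i ⟶ i₀), ∀ (j : I) (_ : j ⟶ i), ¬ PreconnectedSpace (D.obj j) := by
  have hcpt : CompactSpace c.pt := compactSpace_pt D c hc i₀
  obtain ⟨U, V, hU, hV, hUV, hdisj, hUne, hVne⟩ := exists_opens_of_not_preconnectedSpace h
  have hUc : IsCompact U := by
    have : U = Vᶜ := by
      ext x; constructor
      · intro hx hx'; have : x ∈ U ∩ V := ⟨hx, hx'⟩; rw [hdisj] at this; exact this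
      · intro hx; have : x ∈ U ∪ V := by rw [hUV]; trivial
        exact this.resolve_right hx
    rw [this]; exact hV.isClosed_compl.isCompact
  have hVc : IsCompact V := by
    have : V = Uᶜ := by
      ext x; constructor
      · intro hx hx'; have : x ∈ U ∩ V := ⟨hx', hx⟩; rw [hdisj] at this; exact this
      · intro hx; have : x ∈ U ∪ V := by rw [hUV]; trivial
        exact this.resolve_left hx
    rw [this]; exact hU.isClosed_compl.isCompact
  obtain ⟨k, φ, A₁, A₂, hA₁, hA₂, hAU, hAV⟩ :=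
    exists_two_preimage_eq_over D c hc i₀ ⟨U, hU⟩ ⟨V, hV⟩ hUc hVc
  have : CompactSpace (D.obj k) := compactSpace_of_hom D φ
  have : QuasiSeparatedSpace (D.obj k) := quasiSeparatedSpace_of_hom D φ
  have hAU' : c.π.app k ⁻¹' (A₁ : Set (D.obj k)) = U :=
    congrArg (fun W : c.pt.Opens => (W : Set c.pt)) hAU
  have hAV' : c.π.app k ⁻¹' (A₂ : Set (D.obj k)) = V :=
    congrArg (fun W : c.pt.Opens => (W : Set c.pt)) hAV
  have e1 : c.π.app k ⁻¹' (Set.univ ∩ ((A₁ : Set (D.obj k)) ∩ A₂) ∩ Set.univ) = ∅ := by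
    rw [Set.univ_inter, Set.inter_univ, Set.preimage_inter, hAU', hAV', hdisj]
  have e2 : c.π.app k ⁻¹' (Set.univ ∩ Set.univ ∩ ((A₁ : Set (D.obj k)) ∪ A₂)ᶜ) = ∅ := by
    rw [Set.univ_inter, Set.univ_inter, Set.preimage_compl, Set.preimage_union, hAU', hAV', hUV,
      Set.compl_univ]
  have E1 := exists_preimage_inter_eq_empty D c hc IsConstructible.univ
    ((A₁ : Set (D.obj k)) ∩ A₂) (A₁.2.inter A₂.2) (hA₁.inter_of_isOpen hA₂ A₁.2 A₂.2)
    Set.univ isClosed_univ e1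
  have E2 := exists_preimage_inter_eq_empty D c hc IsConstructible.univ
    Set.univ isOpen_univ isCompact_univ ((A₁ : Set (D.obj k)) ∪ A₂)ᶜ
    (A₁.2.union A₂.2).isClosed_compl e2
  obtain ⟨l, ψ, hl⟩ := eventually_and
    (P := fun l' ψ' => D.map ψ' ⁻¹' (Set.univ ∩ ((A₁ : Set (D.obj k)) ∩ A₂) ∩ Set.univ) = ∅)
    (Q := fun l' ψ' => D.map ψ' ⁻¹' (Set.univ ∩ Set.univ ∩ ((A₁ : Set (D.obj k)) ∪ A₂)ᶜ) = ∅)
    E1 E2
  refine ⟨l, ψ ≫ φ, fun j χ => ?_⟩
  obtain ⟨h1, h2⟩ := hl j χ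
  rw [Set.univ_inter, Set.inter_univ, Set.preimage_inter] at h1
  rw [Set.univ_inter, Set.univ_inter, Set.preimage_compl, Set.preimage_union,
    Set.compl_empty_iff] at h2
  have hne : ∀ (A : (D.obj k).Opens) (W : Set c.pt), c.π.app k ⁻¹' (A : Set (D.obj k)) = W →
      W.Nonempty → (D.map (χ ≫ ψ) ⁻¹' (A : Set (D.obj k))).Nonempty := by
    rintro A W rfl ⟨x, hx⟩
    refine ⟨c.π.app j x, ?_⟩
    change (c.π.app j ≫ D.map (χ ≫ ψ)) x ∈ A
    rw [Cone.w]; exact hx
  exact not_preconnectedSpace_of_opens _ _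
    (A₁.2.preimage (D.map (χ ≫ ψ)).continuous) (A₂.2.preimage (D.map (χ ≫ ψ)).continuous)
    h2 h1 (hne A₁ U hAU' hUne) (hne A₂ V hAV' hVne)


theorem not_irreducibleSpace_of_opens {X : Type*} [TopologicalSpace X] (U V : Set X)
    (hU : IsOpen U) (hV : IsOpen V) (hdisj : U ∩ V = ∅)
    (hUne : U.Nonempty) (hVne : V.Nonempty) : ¬ IrreducibleSpace X := by
  intro h
  have := h.toPreirreducibleSpace.isPreirreducible_univ U V hU hV (by simpa using hUne)
    (by simpa using hVne)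
  rw [hdisj] at this
  simp at this

theorem exists_opens_of_not_irreducibleSpace {X : Type*} [TopologicalSpace X] [Nonempty X]
    (h : ¬ IrreducibleSpace X) : ∃ U V : Set X, IsOpen U ∧ IsOpen V ∧
      U ∩ V = ∅ ∧ U.Nonempty ∧ V.Nonempty := by
  have h1 : ¬ IsPreirreducible (Set.univ : Set X) := fun h2 =>
    h { toPreirreducibleSpace := ⟨h2⟩, toNonempty := inferInstance }
  rw [IsPreirreducible] at h1
  push Not at h1
  obtain ⟨U, V, hU, hV, hUne, hVne, hdisj⟩ := h1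
  refine ⟨U, V, hU, hV, ?_, by simpa using hUne, by simpa using hVne⟩
  simpa using hdisj

include hc in
/-- disjointness of two compact opens descends (over a qcqs stage) -/
theorem exists_forall_disjoint_nonempty [IsCofiltered I]
    [∀ {i j} (f : i ⟶ j), IsAffineHom (D.map f)] (i₀ : I) [CompactSpace (D.obj i₀)]
    [QuasiSeparatedSpace (D.obj i₀)] (U V : Set c.pt) (hU : IsOpen U) (hV : IsOpen V)
    (hUc : IsCompact U) (hVc : IsCompact V) (hdisj : U ∩ V = ∅) (hUne : U.Nonempty)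
    (hVne : V.Nonempty) :
    ∃ (i : I) (_ : i ⟶ i₀), ∀ (j : I) (_ : j ⟶ i), ∃ A B : Set (D.obj j), IsOpen A ∧ IsOpen B ∧
      A ∩ B = ∅ ∧ A.Nonempty ∧ B.Nonempty := by
  obtain ⟨k, φ, A₁, A₂, hA₁, hA₂, hAU, hAV⟩ :=
    exists_two_preimage_eq_over D c hc i₀ ⟨U, hU⟩ ⟨V, hV⟩ hUc hVc
  have : CompactSpace (D.obj k) := compactSpace_of_hom D φ
  have : QuasiSeparatedSpace (D.obj k) := quasiSeparatedSpace_of_hom D φ
  have hAU' : c.π.app k ⁻¹' (A₁ : Set (D.obj k)) = U :=
    congrArg (fun W : c.pt.Opens => (W : Set c.pt)) hAU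
  have hAV' : c.π.app k ⁻¹' (A₂ : Set (D.obj k)) = V :=
    congrArg (fun W : c.pt.Opens => (W : Set c.pt)) hAV
  have e1 : c.π.app k ⁻¹' (Set.univ ∩ ((A₁ : Set (D.obj k)) ∩ A₂) ∩ Set.univ) = ∅ := by
    rw [Set.univ_inter, Set.inter_univ, Set.preimage_inter, hAU', hAV', hdisj]
  obtain ⟨l, ψ, hl⟩ := exists_preimage_inter_eq_empty D c hc IsConstructible.univ
    ((A₁ : Set (D.obj k)) ∩ A₂) (A₁.2.inter A₂.2) (hA₁.inter_of_isOpen hA₂ A₁.2 A₂.2)
    Set.univ isClosed_univ e1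
  refine ⟨l, ψ ≫ φ, fun j χ => ?_⟩
  have h1 := hl j χ
  rw [Set.univ_inter, Set.inter_univ, Set.preimage_inter] at h1
  have hne : ∀ (A : (D.obj k).Opens) (W : Set c.pt), c.π.app k ⁻¹' (A : Set (D.obj k)) = W →
      W.Nonempty → (D.map (χ ≫ ψ) ⁻¹' (A : Set (D.obj k))).Nonempty := by
    rintro A W rfl ⟨x, hx⟩
    refine ⟨c.π.app j x, ?_⟩
    change (c.π.app j ≫ D.map (χ ≫ ψ)) x ∈ A
    rw [Cone.w]; exact hx
  exact ⟨_, _, A₁.2.preimage (D.map (χ ≫ ψ)).continuous,
    A₂.2.preimage (D.map (χ ≫ ψ)).continuous, h1, hne A₁ U hAU' hUne, hne A₂ V hAV' hVne⟩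

include hc in
theorem exists_forall_not_irreducibleSpace [IsCofiltered I]
    [∀ {i j} (f : i ⟶ j), IsAffineHom (D.map f)] (i₀ : I) [CompactSpace (D.obj i₀)]
    [QuasiSeparatedSpace (D.obj i₀)] [TopologicalSpace.NoetherianSpace c.pt]
    (h : ¬ IrreducibleSpace c.pt) :
    ∃ (i : I) (_ : i ⟶ i₀), ∀ (j : I) (_ : j ⟶ i), ¬ IrreducibleSpace (D.obj j) := by
  rcases isEmpty_or_nonempty c.pt with hemp | hne
  · have e1 : c.π.app i₀ ⁻¹' (Set.univ ∩ Set.univ ∩ Set.univ : Set (D.obj i₀)) = ∅ :=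
      Set.eq_empty_iff_forall_notMem.mpr fun x _ => hemp.false x
    obtain ⟨l, ψ, hl⟩ := exists_preimage_inter_eq_empty D c hc IsConstructible.univ
      Set.univ isOpen_univ isCompact_univ Set.univ isClosed_univ e1
    refine ⟨l, ψ, fun j χ hirr => ?_⟩
    have h1 := hl j χ
    simp only [Set.inter_self, Set.preimage_univ, Set.univ_eq_empty_iff] at h1
    exact h1.false hirr.toNonempty.some
  · obtain ⟨U, V, hU, hV, hdisj, hUne, hVne⟩ := exists_opens_of_not_irreducibleSpace h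
    obtain ⟨i, φ, hi⟩ := exists_forall_disjoint_nonempty D c hc i₀ U V hU hV
      (TopologicalSpace.NoetherianSpace.isCompact U) (TopologicalSpace.NoetherianSpace.isCompact V)
      hdisj hUne hVne
    refine ⟨i, φ, fun j χ => ?_⟩
    obtain ⟨A, B, hA, hB, hAB, hAne, hBne⟩ := hi j χ
    exact not_irreducibleSpace_of_opens A B hA hB hAB hAne hBne


theorem irreducibleSpace_of_denseRange {X Y : Type*} [TopologicalSpace X] [TopologicalSpace Y]
    [IrreducibleSpace X] {f : X → Y} (hf : DenseRange f) (hc : Continuous f) :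
    IrreducibleSpace Y := by
  have h1 : IsIrreducible (f '' Set.univ) :=
    (IrreducibleSpace.isIrreducible_univ X).image f hc.continuousOn
  rw [Set.image_univ] at h1
  have h2 := h1.closure
  rw [hf.closure_range] at h2
  exact { toPreirreducibleSpace := ⟨h2.isPreirreducible⟩
          toNonempty := ⟨h2.nonempty.some⟩ }

include hc in
theorem exists_preimage_nonempty_of_dominant [IsCofiltered I]
    [∀ {i j} (f : i ⟶ j), IsAffineHom (D.map f)]
    (hd : ∀ (i j : I) (φ : i ⟶ j), IsDominant (D.map φ)) (k : I) (A : Set (D.obj k))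
    (hA : IsOpen A) (hne : A.Nonempty) : (c.π.app k ⁻¹' A).Nonempty := by
  have := isDominant_π_of_forall D c hc k (fun j φ => hd j k φ)
  have h2 := (c.π.app k).denseRange
  rw [DenseRange, dense_iff_inter_open] at h2
  obtain ⟨_, hx1, ⟨x, rfl⟩⟩ := h2 A hA hne
  exact ⟨x, hx1⟩

include hc in
theorem irreducibleSpace_iff_eventually [IsCofiltered I]
    [∀ {i j} (f : i ⟶ j), IsAffineHom (D.map f)] (i₀ : I) [CompactSpace (D.obj i₀)]
    [TopologicalSpace.NoetherianSpace c.pt]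
    (hd : ∀ (i j : I) (φ : i ⟶ j), IsDominant (D.map φ)) :
    IrreducibleSpace c.pt ↔
      ∃ (i : I) (_ : i ⟶ i₀), ∀ (j : I) (_ : j ⟶ i), IrreducibleSpace (D.obj j) := by
  constructor
  · intro h
    refine ⟨i₀, 𝟙 i₀, fun j φ => ?_⟩
    have := isDominant_π_of_forall D c hc j (fun j' φ' => hd j' j φ')
    have : IrreducibleSpace ↥(((Functor.const I).obj c.pt).obj j) := h
    exact irreducibleSpace_of_denseRange (c.π.app j).denseRange (c.π.app j).continuous
  · rintro ⟨i, φ, hi⟩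
    have : CompactSpace (D.obj i) := compactSpace_of_hom D φ
    have hne : Nonempty c.pt := by
      obtain ⟨x, -⟩ := exists_π_mem_of_forall_nonempty D c hc i ⊤ isCompact_univ (fun j ψ =>
        ⟨(hi j ψ).toNonempty.some, trivial⟩)
      exact ⟨x⟩
    by_contra hcon
    obtain ⟨U, V, hU, hV, hdisj, hUne, hVne⟩ := exists_opens_of_not_irreducibleSpace hcon
    obtain ⟨k, ψ, A₁, A₂, -, -, hAU, hAV⟩ :=
      exists_two_preimage_eq_over D c hc i ⟨U, hU⟩ ⟨V, hV⟩
        (TopologicalSpace.NoetherianSpace.isCompact U) (TopologicalSpace.NoetherianSpace.isCompact V)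
    have hAU' : c.π.app k ⁻¹' (A₁ : Set (D.obj k)) = U :=
      congrArg (fun W : c.pt.Opens => (W : Set c.pt)) hAU
    have hAV' : c.π.app k ⁻¹' (A₂ : Set (D.obj k)) = V :=
      congrArg (fun W : c.pt.Opens => (W : Set c.pt)) hAV
    have := hi k ψ
    have hA₁ne : (A₁ : Set (D.obj k)).Nonempty := by
      obtain ⟨x, hx⟩ := hUne; rw [← hAU'] at hx; exact ⟨_, hx⟩
    have hA₂ne : (A₂ : Set (D.obj k)).Nonempty := by
      obtain ⟨x, hx⟩ := hVne; rw [← hAV'] at hx; exact ⟨_, hx⟩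
    have h3 := nonempty_preirreducible_inter A₁.2 A₂.2 hA₁ne hA₂ne
    obtain ⟨x, hx⟩ := exists_preimage_nonempty_of_dominant D c hc hd k _ (A₁.2.inter A₂.2) h3
    have hx' : x ∈ U ∩ V := ⟨by rw [← hAU']; exact hx.1, by rw [← hAV']; exact hx.2⟩
    rw [hdisj] at hx'
    exact hx'

include hc in
theorem connectedSpace_iff_eventually [IsCofiltered I]
    [∀ {i j} (f : i ⟶ j), IsAffineHom (D.map f)] (i₀ : I) [CompactSpace (D.obj i₀)]
    (hd : ∀ (i j : I) (φ : i ⟶ j), IsDominant (D.map φ)) :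
    ConnectedSpace c.pt ↔
      ∃ (i : I) (_ : i ⟶ i₀), ∀ (j : I) (_ : j ⟶ i), ConnectedSpace (D.obj j) := by
  constructor
  · intro h
    refine ⟨i₀, 𝟙 i₀, fun j φ => ?_⟩
    have := isDominant_π_of_forall D c hc j (fun j' φ' => hd j' j φ')
    have : PreconnectedSpace ↥(((Functor.const I).obj c.pt).obj j) := h.toPreconnectedSpace
    have : PreconnectedSpace (D.obj j) :=
      (c.π.app j).denseRange.preconnectedSpace (c.π.app j).continuous
    exact { toNonempty := ⟨c.π.app j h.toNonempty.some⟩ }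
  · rintro ⟨i, φ, hi⟩
    have : CompactSpace (D.obj i) := compactSpace_of_hom D φ
    have hcpt : CompactSpace c.pt := compactSpace_pt D c hc i
    have hne : Nonempty c.pt := by
      obtain ⟨x, -⟩ := exists_π_mem_of_forall_nonempty D c hc i ⊤ isCompact_univ (fun j ψ =>
        ⟨(hi j ψ).toNonempty.some, trivial⟩)
      exact ⟨x⟩
    suffices PreconnectedSpace c.pt from { toNonempty := hne }
    by_contra hcon
    obtain ⟨U, V, hU, hV, hUV, hdisj, hUne, hVne⟩ := exists_opens_of_not_preconnectedSpace hcon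
    have hUc : IsCompact U := by
      have : U = Vᶜ := by
        ext x; constructor
        · intro hx hx'; have : x ∈ U ∩ V := ⟨hx, hx'⟩; rw [hdisj] at this; exact this
        · intro hx; have : x ∈ U ∪ V := by rw [hUV]; trivial
          exact this.resolve_right hx
      rw [this]; exact hV.isClosed_compl.isCompact
    have hVc : IsCompact V := by
      have : V = Uᶜ := by
        ext x; constructor
        · intro hx hx'; have : x ∈ U ∩ V := ⟨hx', hx⟩; rw [hdisj] at this; exact this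
        · intro hx; have : x ∈ U ∪ V := by rw [hUV]; trivial
          exact this.resolve_left hx
      rw [this]; exact hU.isClosed_compl.isCompact
    obtain ⟨k, ψ, A₁, A₂, -, -, hAU, hAV⟩ :=
      exists_two_preimage_eq_over D c hc i ⟨U, hU⟩ ⟨V, hV⟩ hUc hVc
    have : CompactSpace (D.obj k) := compactSpace_of_hom D ψ
    have hAU' : c.π.app k ⁻¹' (A₁ : Set (D.obj k)) = U :=
      congrArg (fun W : c.pt.Opens => (W : Set c.pt)) hAU
    have hAV' : c.π.app k ⁻¹' (A₂ : Set (D.obj k)) = V :=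
      congrArg (fun W : c.pt.Opens => (W : Set c.pt)) hAV
    have e2 : c.π.app k ⁻¹' (Set.univ ∩ Set.univ ∩ ((A₁ : Set (D.obj k)) ∪ A₂)ᶜ) = ∅ := by
      rw [Set.univ_inter, Set.univ_inter, Set.preimage_compl, Set.preimage_union, hAU', hAV', hUV,
        Set.compl_univ]
    obtain ⟨l, χ, hl⟩ := exists_preimage_inter_eq_empty D c hc IsConstructible.univ
      Set.univ isOpen_univ isCompact_univ ((A₁ : Set (D.obj k)) ∪ A₂)ᶜ
      (A₁.2.union A₂.2).isClosed_compl e2
    have h2 := hl l (𝟙 l)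
    rw [Category.id_comp, Set.univ_inter, Set.univ_inter, Set.preimage_compl, Set.preimage_union,
      Set.compl_empty_iff] at h2
    have hconn := hi l (χ ≫ ψ)
    have hne' : ∀ (A : (D.obj k).Opens) (W : Set c.pt), c.π.app k ⁻¹' (A : Set (D.obj k)) = W →
        W.Nonempty → (D.map χ ⁻¹' (A : Set (D.obj k))).Nonempty := by
      rintro A W rfl ⟨x, hx⟩
      refine ⟨c.π.app l x, ?_⟩
      change (c.π.app l ≫ D.map χ) x ∈ A
      rw [Cone.w]; exact hx
    have h3 := hconn.toPreconnectedSpace.isPreconnected_univ _ _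
      (A₁.2.preimage (D.map χ).continuous) (A₂.2.preimage (D.map χ).continuous)
      h2.ge (by simpa using hne' A₁ U hAU' hUne) (by simpa using hne' A₂ V hAV' hVne)
    rw [Set.univ_inter] at h3
    obtain ⟨x, hx⟩ := exists_preimage_nonempty_of_dominant D c hc hd l _
      ((A₁.2.preimage (D.map χ).continuous).inter (A₂.2.preimage (D.map χ).continuous)) h3
    have hx1 : x ∈ U := by
      rw [← hAU']; change (c.π.app k) x ∈ A₁
      rw [← c.w χ]; exact hx.1
    have hx2 : x ∈ V := by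
      rw [← hAV']; change (c.π.app k) x ∈ A₂
      rw [← c.w χ]; exact hx.2
    have : x ∈ U ∩ V := ⟨hx1, hx2⟩
    rw [hdisj] at this
    exact this

end Groth.Agent.Helper7.LimBC
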