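import Mathlib
import Groth.Agent.Lib.Helper7.LimConn

set_option autoImplicit false
universe u
open AlgebraicGeometry CategoryTheory CategoryTheory.Limits Topology

namespace Groth.Agent.Helper7.LimBC

variable {I : Type u} [Category.{u} I] (D : I ⥤ Scheme.{u}) (c : Cone D) (hc : IsLimit c)

include hc in
/-- basis of the limit by preimages of opens from stages over `i`. -/
theorem isTopologicalBasis_preimage_over [IsCofiltered I]
    [∀ {i j} (f : i ⟶ j), IsAffineHom (D.map f)] (i : I) :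
    TopologicalSpace.IsTopologicalBasis
      {W : Set c.pt | ∃ (j : I) (_ : j ⟶ i) (V : (D.obj j).Opens), W = c.π.app j ⁻¹' V} := by
  have hb := isBasis_preimage_isAffineOpen D c hc
  rw [TopologicalSpace.Opens.IsBasis] at hb
  refine TopologicalSpace.IsTopologicalBasis.of_isOpen_of_subset ?_ hb ?_
  · rintro W ⟨j, φ, V, rfl⟩
    exact V.2.preimage (c.π.app j).continuous
  · rintro _ ⟨_, ⟨j, V, hV, rfl⟩, rfl⟩
    refine ⟨IsCofiltered.min j i, IsCofiltered.minToRight j i,
      D.map (IsCofiltered.minToLeft j i) ⁻¹ᵁ V, ?_⟩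
    change _ = (c.π.app _ ≫ D.map (IsCofiltered.minToLeft j i)) ⁻¹' V
    rw [Cone.w]
    rfl

include hc in
theorem isOpenMap_π_of_forall [IsCofiltered I]
    [∀ {i j} (f : i ⟶ j), IsAffineHom (D.map f)] (i : I)
    (hs : ∀ (j : I) (_ : j ⟶ i), Function.Surjective (c.π.app j))
    (h : ∀ (j : I) (φ : j ⟶ i), IsOpenMap (D.map φ)) : IsOpenMap (c.π.app i) := by
  rw [(isTopologicalBasis_preimage_over D c hc i).isOpenMap_iff]
  rintro W ⟨j, φ, V, rfl⟩
  have : c.π.app i '' (c.π.app j ⁻¹' V) = D.map φ '' V := by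
    rw [← c.w φ]
    ext y
    constructor
    · rintro ⟨x, hx, rfl⟩
      exact ⟨c.π.app j x, hx, rfl⟩
    · rintro ⟨z, hz, rfl⟩
      obtain ⟨x, rfl⟩ := hs j φ z
      exact ⟨x, hz, rfl⟩
  rw [this]
  exact h j φ V V.2

omit hc in
theorem isOpenMap_map_of_isOpenMap_π (i : I) {j : I} (φ : j ⟶ i)
    (hs : Function.Surjective (c.π.app j)) (h : IsOpenMap (c.π.app i)) : IsOpenMap (D.map φ) := by
  intro U hU
  have : D.map φ '' U = c.π.app i '' (c.π.app j ⁻¹' U) := by
    rw [← c.w φ]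
    ext y
    constructor
    · rintro ⟨z, hz, rfl⟩
      obtain ⟨x, rfl⟩ := hs z
      exact ⟨x, hz, rfl⟩
    · rintro ⟨x, hx, rfl⟩
      exact ⟨c.π.app j x, hx, rfl⟩
  rw [this]
  exact h _ (hU.preimage (c.π.app j).continuous)

end Groth.Agent.Helper7.LimBC
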