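import Mathlib
import Groth.Agent.Lib.Helper7.LimOpen

set_option autoImplicit false
universe u
open AlgebraicGeometry CategoryTheory CategoryTheory.Limits Topology MorphismProperty

namespace Groth.Agent.Helper7.LimBC

variable {I : Type u} [Category.{u} I] (D : I ⥤ Scheme.{u}) (c : Cone D) (hc : IsLimit c)

set_option backward.isDefEq.respectTransparency false in
/-- the legs of the base-changed cone are base changes of the legs of the cone -/
theorem isPullback_pbCone_π (i : I) {T : Scheme.{u}} (g : T ⟶ D.obj i) (j : Over i) :
    IsPullback ((pbCone D c i g).π.app j) (pullback.fst (c.π.app i) g)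
      (pullback.fst (D.map j.hom) g) (c.π.app j.left) := by
  have h1 : IsPullback (pullback.snd (D.map j.hom) g) (pullback.fst (D.map j.hom) g) g
      (D.map j.hom) := (IsPullback.of_hasPullback _ _).flip
  have h2 : IsPullback (pullback.snd (c.π.app i) g) (pullback.fst (c.π.app i) g) g
      (c.π.app i) := (IsPullback.of_hasPullback _ _).flip
  refine IsPullback.of_right ?_ ?_ h1
  · simpa using h2
  · simp

set_option backward.isDefEq.respectTransparency false in
/-- the transition maps of the base-changed diagram are base changes of the transition maps -/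
theorem isPullback_pbDiagram_map (i : I) {T : Scheme.{u}} (g : T ⟶ D.obj i) {j k : Over i}
    (f : j ⟶ k) :
    IsPullback ((pbDiagram D i g).map f) (pullback.fst (D.map j.hom) g)
      (pullback.fst (D.map k.hom) g) (D.map f.left) := by
  have h1 : IsPullback (pullback.snd (D.map k.hom) g) (pullback.fst (D.map k.hom) g) g
      (D.map k.hom) := (IsPullback.of_hasPullback _ _).flip
  have h2 : IsPullback (pullback.snd (D.map j.hom) g) (pullback.fst (D.map j.hom) g) g
      (D.map j.hom) := (IsPullback.of_hasPullback _ _).flip
  refine IsPullback.of_right ?_ ?_ h1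
  · rw [← D.map_comp, Over.w f]
    simpa using h2
  · simp

set_option backward.isDefEq.respectTransparency false in
include hc in
/-- base change of `π_i` along `g` is open if all transition maps to `i` are universally open
and the projections are surjective. -/
theorem isOpenMap_pullback_snd_π [IsCofiltered I]
    [∀ {i j} (f : i ⟶ j), IsAffineHom (D.map f)] (i : I)
    (hs : ∀ (j : I) (_ : j ⟶ i), Surjective (c.π.app j))
    (h : ∀ (j : I) (φ : j ⟶ i), UniversallyOpen (D.map φ)) {T : Scheme.{u}} (g : T ⟶ D.obj i) :
    IsOpenMap (pullback.snd (c.π.app i) g) := by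
  have h1 : IsOpenMap ((pbCone D c i g).π.app (Over.mk (𝟙 i))) := by
    refine isOpenMap_π_of_forall (pbDiagram D i g) (pbCone D c i g) (isLimitPbCone D c hc i g)
      (Over.mk (𝟙 i)) ?_ ?_
    · intro j _
      have := hs j.left j.hom
      have : Surjective ((pbCone D c i g).π.app j) :=
        MorphismProperty.of_isPullback (P := @Surjective) (isPullback_pbCone_π D c i g j).flip
          inferInstance
      exact this.surj
    · intro j φ
      have := h j.left φ.left
      have : UniversallyOpen ((pbDiagram D i g).map φ) :=
        MorphismProperty.of_isPullback (P := @UniversallyOpen)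
          (isPullback_pbDiagram_map D i g φ).flip inferInstance
      exact ((pbDiagram D i g).map φ).isOpenMap
  have h2 : pullback.snd (c.π.app i) g =
      (pbCone D c i g).π.app (Over.mk (𝟙 i)) ≫ pullback.snd (D.map (𝟙 i)) g := by
    simp
  rw [h2]
  have h3 : IsIso (pullback.snd (D.map (𝟙 i)) g) := by
    rw [D.map_id]; infer_instance
  have h4 : IsOpenMap (pullback.snd (D.map (𝟙 i)) g) :=
    (pullback.snd (D.map (𝟙 i)) g).isOpenEmbedding.isOpenMap
  exact h4.comp h1

include hc in
theorem universallyOpen_π_of_forall [IsCofiltered I]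
    [∀ {i j} (f : i ⟶ j), IsAffineHom (D.map f)] (i : I)
    (hs : ∀ (j : I) (_ : j ⟶ i), Surjective (c.π.app j))
    (h : ∀ (j : I) (φ : j ⟶ i), UniversallyOpen (D.map φ)) : UniversallyOpen (c.π.app i) := by
  rw [UniversallyOpen.eq]
  refine universally_mk' _ _ fun {T} g _ => ?_
  have : pullback.fst g (c.π.app i) = (pullbackSymmetry g (c.π.app i)).hom ≫
      pullback.snd (c.π.app i) g := by simp
  rw [this]
  exact (isOpenMap_pullback_snd_π D c hc i hs h g).comp
    (pullbackSymmetry g (c.π.app i)).hom.isOpenEmbedding.isOpenMap

set_option backward.isDefEq.respectTransparency false in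
theorem universallyOpen_map_of_universallyOpen_π (i : I) {j : I} (φ : j ⟶ i)
    (hs : Surjective (c.π.app j)) (h : UniversallyOpen (c.π.app i)) :
    UniversallyOpen (D.map φ) := by
  rw [UniversallyOpen.eq]
  refine universally_mk' _ _ fun {T} g _ => ?_
  have hmain : IsOpenMap (pullback.snd (D.map φ) g) := by
    have hsurj : Surjective ((pbCone D c i g).π.app (Over.mk φ)) :=
      MorphismProperty.of_isPullback (P := @Surjective)
        (isPullback_pbCone_π D c i g (Over.mk φ)).flip hs
    have hopen : IsOpenMap (pullback.snd (c.π.app i) g) := (pullback.snd (c.π.app i) g).isOpenMap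
    have e2 : pullback.snd (c.π.app i) g =
        (pbCone D c i g).π.app (Over.mk φ) ≫ pullback.snd (D.map φ) g := by
      simp
    intro U hU
    have : pullback.snd (D.map φ) g '' U = pullback.snd (c.π.app i) g ''
        ((pbCone D c i g).π.app (Over.mk φ) ⁻¹' U) := by
      rw [e2]
      ext y
      constructor
      · rintro ⟨z, hz, rfl⟩
        obtain ⟨x, rfl⟩ := hsurj.surj z
        exact ⟨x, hz, rfl⟩
      · rintro ⟨x, hx, rfl⟩
        exact ⟨_, hx, rfl⟩
    rw [this]
    exact hopen _ (hU.preimage ((pbCone D c i g).π.app (Over.mk φ)).continuous)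
  have e1 : pullback.fst g (D.map φ) = (pullbackSymmetry g (D.map φ)).hom ≫
      pullback.snd (D.map φ) g := by simp
  rw [e1]
  exact hmain.comp (pullbackSymmetry g (D.map φ)).hom.isOpenEmbedding.isOpenMap

end Groth.Agent.Helper7.LimBC
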