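import Mathlib
import Groth.Agent.Lib.Helper7.LimOpen2

set_option autoImplicit false
universe u
open AlgebraicGeometry CategoryTheory CategoryTheory.Limits Topology MorphismProperty

namespace Groth.Agent.Helper7.LimBC

/-- In a pullback square, the image of a preimage is the preimage of the image. -/
theorem image_preimage_of_isPullback {P A B C : Scheme.{u}} {pA : P ⟶ A} {pB : P ⟶ B}
    {k : A ⟶ C} {h : B ⟶ C} (H : IsPullback pA pB k h) (U : Set A) :
    pB '' (pA ⁻¹' U) = h ⁻¹' (k '' U) := by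
  ext b
  constructor
  · rintro ⟨x, hx, rfl⟩
    refine ⟨pA x, hx, ?_⟩
    rw [← Scheme.Hom.comp_apply, H.w, Scheme.Hom.comp_apply]
  · rintro ⟨a, ha, hab⟩
    obtain ⟨z, hz1, hz2⟩ := Scheme.Pullback.exists_preimage_pullback (f := k) (g := h) a b hab
    refine ⟨H.isoPullback.inv z, ?_, ?_⟩
    · show pA (H.isoPullback.inv z) ∈ U
      rw [← Scheme.Hom.comp_apply, H.isoPullback_inv_fst, hz1]
      exact ha
    · rw [← Scheme.Hom.comp_apply, H.isoPullback_inv_snd, hz2]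

variable {J : Type u} [Category.{u} J]

/-- open descent: a map between limits which is stagewise a base change of open maps is open. -/
theorem isOpenMap_of_isPullback_of_forall [IsCofiltered J] (E B : J ⥤ Scheme.{u})
    [∀ {i j} (f : i ⟶ j), IsAffineHom (E.map f)]
    (cE : Cone E) (hcE : IsLimit cE) (cB : Cone B) (α : ∀ j, E.obj j ⟶ B.obj j)
    (f : cE.pt ⟶ cB.pt) (hpb : ∀ j, IsPullback (cE.π.app j) f (α j) (cB.π.app j))
    (j₀ : J) (hopen : ∀ (j : J) (_ : j ⟶ j₀), IsOpenMap (α j)) : IsOpenMap f := by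
  rw [(isTopologicalBasis_preimage_over E cE hcE j₀).isOpenMap_iff]
  rintro W ⟨j, φ, V, rfl⟩
  rw [image_preimage_of_isPullback (hpb j)]
  exact (hopen j φ V V.2).preimage (cB.π.app j).continuous


section BaseChangeMap

variable {A C X₀ Y₀ : Scheme.{u}} (u : A ⟶ C) (f₀ : X₀ ⟶ Y₀) (g₀ : Y₀ ⟶ C)

/-- the map `A ×_C X₀ ⟶ A ×_C Y₀` induced by `f₀`. -/
noncomputable def pbMap : pullback u (f₀ ≫ g₀) ⟶ pullback u g₀ :=
  pullback.lift (pullback.fst _ _) (pullback.snd _ _ ≫ f₀)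
    (by rw [Category.assoc, pullback.condition])

set_option backward.isDefEq.respectTransparency false in
@[reassoc (attr := simp)]
theorem pbMap_fst : pbMap u f₀ g₀ ≫ pullback.fst u g₀ = pullback.fst u (f₀ ≫ g₀) := by
  simp [pbMap]

set_option backward.isDefEq.respectTransparency false in
@[reassoc (attr := simp)]
theorem pbMap_snd : pbMap u f₀ g₀ ≫ pullback.snd u g₀ = pullback.snd u (f₀ ≫ g₀) ≫ f₀ := by
  simp [pbMap]

theorem isPullback_pbMap :
    IsPullback (pullback.snd u (f₀ ≫ g₀)) (pbMap u f₀ g₀) f₀ (pullback.snd u g₀) := by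
  have hbot : IsPullback (pullback.snd u g₀) (pullback.fst u g₀) g₀ u :=
    (IsPullback.of_hasPullback _ _).flip
  have hbig : IsPullback (pullback.snd u (f₀ ≫ g₀)) (pullback.fst u (f₀ ≫ g₀)) (f₀ ≫ g₀) u :=
    (IsPullback.of_hasPullback _ _).flip
  refine IsPullback.of_bot ?_ (pbMap_snd u f₀ g₀).symm hbot
  rw [pbMap_fst]
  exact hbig

end BaseChangeMap

variable {I : Type u} [Category.{u} I] (D : I ⥤ Scheme.{u}) (c : Cone D) (hc : IsLimit c)

set_option backward.isDefEq.respectTransparency false in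
theorem isPullback_pbCone_pbMap (i₀ : I) {X₀ Y₀ : Scheme.{u}} (f₀ : X₀ ⟶ Y₀)
    (g₀ : Y₀ ⟶ D.obj i₀) (j : Over i₀) :
    IsPullback ((pbCone D c i₀ (f₀ ≫ g₀)).π.app j) (pbMap (c.π.app i₀) f₀ g₀)
      (pbMap (D.map j.hom) f₀ g₀) ((pbCone D c i₀ g₀).π.app j) := by
  refine IsPullback.of_right ?_ ?_ (isPullback_pbMap (D.map j.hom) f₀ g₀)
  · have e1 : (pbCone D c i₀ (f₀ ≫ g₀)).π.app j ≫ pullback.snd (D.map j.hom) (f₀ ≫ g₀) =
        pullback.snd (c.π.app i₀) (f₀ ≫ g₀) := by simp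
    have e2 : (pbCone D c i₀ g₀).π.app j ≫ pullback.snd (D.map j.hom) g₀ =
        pullback.snd (c.π.app i₀) g₀ := by simp
    rw [e1, e2]
    exact isPullback_pbMap (c.π.app i₀) f₀ g₀
  · apply pullback.hom_ext
    · simp
    · simp

include hc in
/-- S4779 for the standard models. -/
theorem isOpenMap_pbMap_of_eventually [IsCofiltered I]
    [∀ {i j} (f : i ⟶ j), IsAffineHom (D.map f)] (i₀ : I) {X₀ Y₀ : Scheme.{u}} (f₀ : X₀ ⟶ Y₀)
    (g₀ : Y₀ ⟶ D.obj i₀) (i : I) (φ : i ⟶ i₀)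
    (h : ∀ (j : I) (ψ : j ⟶ i), IsOpenMap (pbMap (D.map (ψ ≫ φ)) f₀ g₀)) :
    IsOpenMap (pbMap (c.π.app i₀) f₀ g₀) := by
  refine isOpenMap_of_isPullback_of_forall (pbDiagram D i₀ (f₀ ≫ g₀)) (pbDiagram D i₀ g₀)
    (pbCone D c i₀ (f₀ ≫ g₀)) (isLimitPbCone D c hc i₀ (f₀ ≫ g₀)) (pbCone D c i₀ g₀)
    (fun j => pbMap (D.map j.hom) f₀ g₀) (pbMap (c.π.app i₀) f₀ g₀)
    (fun j => isPullback_pbCone_pbMap D c i₀ f₀ g₀ j) (Over.mk φ) ?_
  intro j χ
  have := h j.left χ.left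
  have e : χ.left ≫ φ = j.hom := by simpa using Over.w χ
  rw [e] at this
  exact this

end Groth.Agent.Helper7.LimBC
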