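import Mathlib
import Groth.Agent.Lib.Helper7.LimIso2
universe u
open AlgebraicGeometry CategoryTheory CategoryTheory.Limits

namespace Groth.Agent.Helper7.LimBC
open MorphismProperty

variable {I : Type u} [Category.{u} I] [IsCofiltered I] (D : I ⥤ Scheme.{u})
  [∀ {i j} (f : i ⟶ j), IsAffineHom (D.map f)] (c : Cone D) (hc : IsLimit c)

omit [IsCofiltered I] [∀ {i j} (f : i ⟶ j), IsAffineHom (D.map f)] in
/-- `(⇐)`: an isomorphism at a stage induces an isomorphism over the limit. -/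
theorem exists_iso_of_stage (i₀ : I)
    {X₀ Y₀ : Scheme.{u}} (a₀ : X₀ ⟶ D.obj i₀) (b₀ : Y₀ ⟶ D.obj i₀)
    {X Y : Scheme.{u}} (a : X ⟶ c.pt) (b : Y ⟶ c.pt) (qX : X ⟶ X₀) (qY : Y ⟶ Y₀)
    (hX : IsPullback qX a a₀ (c.π.app i₀)) (hY : IsPullback qY b b₀ (c.π.app i₀))
    {j : I} (φ : j ⟶ i₀) {Xj Yj : Scheme.{u}} (aj : Xj ⟶ D.obj j) (bj : Yj ⟶ D.obj j)
    (pX : Xj ⟶ X₀) (pY : Yj ⟶ Y₀) (hXj : IsPullback pX aj a₀ (D.map φ))
    (hYj : IsPullback pY bj b₀ (D.map φ)) (e : Xj ≅ Yj) (he : e.hom ≫ bj = aj) :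
    ∃ e' : X ≅ Y, e'.hom ≫ b = a := by
  have hπ : c.π.app j ≫ D.map φ = c.π.app i₀ := Cone.w c φ
  let uX : X ⟶ Xj := hXj.lift qX (a ≫ c.π.app j) (by rw [Category.assoc, hπ, hX.w])
  let uY : Y ⟶ Yj := hYj.lift qY (b ≫ c.π.app j) (by rw [Category.assoc, hπ, hY.w])
  have hX' : IsPullback uX a aj (c.π.app j) := by
    refine IsPullback.of_right ?_ (hXj.lift_snd _ _ _) hXj
    rw [hπ, hXj.lift_fst]
    exact hX
  have hY' : IsPullback uY b bj (c.π.app j) := by
    refine IsPullback.of_right ?_ (hYj.lift_snd _ _ _) hYj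
    rw [hπ, hYj.lift_fst]
    exact hY
  have hsq : IsPullback e.hom aj bj (𝟙 _) := IsPullback.of_horiz_isIso ⟨by rw [he, Category.comp_id]⟩
  have hX'' : IsPullback (uX ≫ e.hom) a bj (c.π.app j) := by
    have := hX'.paste_horiz hsq
    rwa [Category.comp_id] at this
  exact ⟨hX''.isoIsPullback _ _ hY', IsPullback.isoIsPullback_hom_snd _ _ hX'' hY'⟩

set_option backward.isDefEq.respectTransparency false in
include hc in
/-- `(⇒)`: an isomorphism over the limit descends to a stage (canonical pullback for `X`). -/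
theorem exists_stage_of_iso (i₀ : I) [CompactSpace (D.obj i₀)] [QuasiSeparatedSpace (D.obj i₀)]
    {X₀ Y₀ : Scheme.{u}} (a₀ : X₀ ⟶ D.obj i₀) (b₀ : Y₀ ⟶ D.obj i₀)
    [LocallyOfFinitePresentation a₀] [QuasiCompact a₀] [QuasiSeparated a₀]
    [LocallyOfFinitePresentation b₀] [QuasiCompact b₀] [QuasiSeparated b₀]
    {Y : Scheme.{u}} (b : Y ⟶ c.pt) (qY : Y ⟶ Y₀)
    (hY : IsPullback qY b b₀ (c.π.app i₀))
    (e : pullback (c.π.app i₀) a₀ ≅ Y) (he : e.hom ≫ b = pullback.fst _ _) :
    ∃ (j : I) (φ : j ⟶ i₀) (Xj Yj : Scheme.{u}) (aj : Xj ⟶ D.obj j) (bj : Yj ⟶ D.obj j)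
      (pX : Xj ⟶ X₀) (pY : Yj ⟶ Y₀), IsPullback pX aj a₀ (D.map φ) ∧
        IsPullback pY bj b₀ (D.map φ) ∧ ∃ e : Xj ≅ Yj, e.hom ≫ bj = aj := by
  -- the system `X_k`
  let E := pbDiagram D i₀ a₀
  let cE := pbCone D c i₀ a₀
  have hcE : IsLimit cE := isLimitPbCone D c hc i₀ a₀
  let t : E ⟶ (Functor.const _).obj (D.obj i₀) :=
    pbDiagramSnd D i₀ a₀ ≫ (Functor.const _).map a₀
  have : CompactSpace X₀ := QuasiCompact.compactSpace_of_compactSpace a₀
  have : QuasiSeparatedSpace X₀ := quasiSeparatedSpace_of_quasiSeparated a₀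
  have hEc : ∀ k, CompactSpace (E.obj k) := fun k => inferInstance
  have hEq : ∀ k, QuasiSeparatedSpace (E.obj k) := fun k => by
    have : IsAffineHom (pullback.snd (D.map k.hom) a₀) :=
      MorphismProperty.pullback_snd (P := @IsAffineHom) _ _ inferInstance
    exact quasiSeparatedSpace_of_quasiSeparated (pullback.snd (D.map k.hom) a₀)
  let α : cE.pt ⟶ Y₀ := e.hom ≫ qY
  have hα : α ≫ b₀ = pullback.snd _ _ ≫ a₀ := by
    simp only [α, Category.assoc, hY.w, reassoc_of% he]
    exact pullback.condition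
  obtain ⟨k, αk, hαk, hαk'⟩ := Scheme.exists_π_app_comp_eq_of_locallyOfFinitePresentation
    E t b₀ cE hcE α (by
      ext k
      simp [t, cE, hα])
  have hαk'' : αk ≫ b₀ = pullback.snd (D.map k.hom) a₀ ≫ a₀ := hαk'
  let ak := pullback.fst (D.map k.hom) a₀
  let bk := pullback.snd b₀ (D.map k.hom)
  let Fk : pullback (D.map k.hom) a₀ ⟶ pullback b₀ (D.map k.hom) :=
    pullback.lift αk ak (by rw [hαk'']; exact pullback.condition.symm)
  have hFk : Fk ≫ bk = ak := pullback.lift_snd _ _ _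
  have hFk' : Fk ≫ pullback.fst b₀ (D.map k.hom) = αk := pullback.lift_fst _ _ _
  have hbk1 : LocallyOfFiniteType bk :=
    MorphismProperty.pullback_snd (P := @LocallyOfFiniteType) _ _ inferInstance
  have hbk2 : QuasiCompact bk :=
    MorphismProperty.pullback_snd (P := @QuasiCompact) _ _ inferInstance
  have hbk3 : QuasiSeparated bk :=
    MorphismProperty.pullback_snd (P := @QuasiSeparated) _ _ inferInstance
  have hak1 : LocallyOfFinitePresentation (Fk ≫ bk) := by
    rw [hFk]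
    exact MorphismProperty.pullback_fst (P := @LocallyOfFinitePresentation) _ _ inferInstance
  have hak2 : QuasiCompact (Fk ≫ bk) := by
    rw [hFk]
    exact MorphismProperty.pullback_fst (P := @QuasiCompact) _ _ inferInstance
  have : CompactSpace (D.obj k.left) := QuasiCompact.compactSpace_of_compactSpace (D.map k.hom)
  -- the pullback squares over the limit
  let uX : cE.pt ⟶ pullback (D.map k.hom) a₀ := cE.π.app k
  let uY : Y ⟶ pullback b₀ (D.map k.hom) := pullback.lift qY (b ≫ c.π.app k.left)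
    (by rw [hY.w, Category.assoc, Cone.w])
  have hYk : IsPullback uY b bk (c.π.app k.left) := by
    refine IsPullback.of_right ?_ (pullback.lift_snd _ _ _) (IsPullback.of_hasPullback b₀ _)
    rw [pullback.lift_fst, Cone.w]
    exact hY
  have hXk : IsPullback uX (pullback.fst _ _) ak (c.π.app k.left) := by
    refine IsPullback.of_right ?_ (pullback.lift_fst _ _ _)
      (IsPullback.of_hasPullback (D.map k.hom) a₀).flip
    rw [Cone.w]
    have : uX ≫ pullback.snd (D.map k.hom) a₀ = pullback.snd _ _ := pullback.lift_snd _ _ _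
    rw [this]
    exact (IsPullback.of_hasPullback _ _).flip
  have hcomm : uX ≫ Fk = e.hom ≫ uY := by
    apply pullback.hom_ext
    · rw [Category.assoc, hFk', hαk, Category.assoc, pullback.lift_fst]
    · have e1 : uX ≫ Fk ≫ bk = pullback.fst _ _ ≫ c.π.app k.left := by
        rw [hFk]; exact pullback.lift_fst _ _ _
      have e2 : e.hom ≫ uY ≫ bk = pullback.fst _ _ ≫ c.π.app k.left := by
        have : uY ≫ bk = b ≫ c.π.app k.left := pullback.lift_snd _ _ _
        rw [this, reassoc_of% he]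
      rw [Category.assoc, Category.assoc]
      exact e1.trans e2.symm
  have hsq : IsPullback uX e.hom Fk uY := by
    refine (IsPullback.of_right ?_ hcomm.symm hYk.flip).flip
    rw [he, hFk]
    exact hXk.flip
  have h1 : IsIso (pullback.snd Fk uY) := (isIso_snd_iff_of_isPullback hsq).1 inferInstance
  have hiso : IsIso (pullback.snd Fk (pullback.fst bk (c.π.app k.left))) :=
    isIso_snd_comp' Fk uY hYk.isoPullback.inv _ h1 (by simp)
  obtain ⟨j, φ, hj⟩ := exists_isIso_snd_fst D c hc k.left Fk bk hiso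
  let pYk := pullback.fst bk (D.map φ)
  let fj := pullback.snd Fk pYk
  refine ⟨j, φ ≫ k.hom, pullback Fk pYk, pullback bk (D.map φ), fj ≫ pullback.snd bk (D.map φ),
    pullback.snd bk (D.map φ), pullback.fst Fk pYk ≫ pullback.snd (D.map k.hom) a₀,
    pYk ≫ pullback.fst b₀ (D.map k.hom), ?_, ?_, asIso fj, rfl⟩
  · rw [D.map_comp]
    have s1 : IsPullback (pullback.fst Fk pYk) fj Fk pYk := IsPullback.of_hasPullback _ _
    have s2 : IsPullback pYk (pullback.snd bk (D.map φ)) bk (D.map φ) :=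
      IsPullback.of_hasPullback _ _
    have s12 := s1.paste_vert s2
    rw [hFk] at s12
    exact s12.paste_horiz (IsPullback.of_hasPullback (D.map k.hom) a₀).flip
  · rw [D.map_comp]
    exact (IsPullback.of_hasPullback bk (D.map φ)).paste_horiz
      (IsPullback.of_hasPullback b₀ (D.map k.hom))

end Groth.Agent.Helper7.LimBC
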