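import Mathlib
import Groth.Agent.Lib.Helper14.GeomRedTFAE
import Groth.Agent.Lib.Helper7.NormTensor

/-!
# Residue fields of `k' ⊗ K` become separable after a finite purely inseparable extension
(helper7)
-/

set_option autoImplicit false
set_option linter.unusedSectionVars false
set_option linter.style.haveILetI false
universe u

namespace Groth.Agent.Helper7.PIResidue

open TensorProduct

section Pow

variable (k P K : Type u) [Field k] [Field P] [Field K] [Algebra k P] [Algebra k K]
  [IsPurelyInseparable k P]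

instance : Nontrivial (P ⊗[k] K) :=
  Algebra.TensorProduct.nontrivial_of_algebraMap_injective_of_flat_left (R := k) P K
    (algebraMap k K).injective

/-- every element of `P ⊗ K` has a `q`-power in the image of `K` -/
theorem exists_pow_mem_range (q : ℕ) [ExpChar k q] (x : P ⊗[k] K) :
    ∃ n : ℕ, x ^ q ^ n ∈
      Set.range (Algebra.TensorProduct.includeRight : K →ₐ[k] P ⊗[k] K) := by
  haveI : ExpChar (P ⊗[k] K) q :=
    expChar_of_injective_algebraMap (algebraMap k (P ⊗[k] K)).injective q
  induction x with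
  | zero => exact ⟨0, 0, by simp⟩
  | tmul a b =>
    obtain ⟨n, c, hc⟩ := IsPurelyInseparable.pow_mem k q a
    refine ⟨n, c • b ^ q ^ n, ?_⟩
    rw [Algebra.TensorProduct.tmul_pow, ← hc, Algebra.TensorProduct.includeRight_apply,
      Algebra.algebraMap_eq_smul_one, TensorProduct.smul_tmul]
  | add x y hx hy =>
    obtain ⟨n, u, hu⟩ := hx
    obtain ⟨m, v, hv⟩ := hy
    refine ⟨n + m, u ^ q ^ m + v ^ q ^ n, ?_⟩
    rw [add_pow_expChar_pow, map_add, map_pow, map_pow, hu, hv, ← pow_mul, ← pow_mul,
      ← pow_add, ← pow_add, add_comm m n]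

theorem isUnit_or_isNilpotent (x : P ⊗[k] K) : IsUnit x ∨ IsNilpotent x := by
  obtain ⟨q, hq⟩ := ExpChar.exists k
  obtain ⟨n, c, hc⟩ := exists_pow_mem_range k P K q x
  by_cases h0 : c = 0
  · right
    exact ⟨q ^ n, by rw [← hc, h0, map_zero]⟩
  · left
    have h1 : IsUnit (x ^ q ^ n) := by
      rw [← hc]
      exact (IsUnit.mk0 c h0).map _
    exact (isUnit_pow_iff (pow_ne_zero n (expChar_pos k q).ne')).mp h1

end Pow

theorem exists_algHom_of_purelyInseparable (k' k'' P : Type u) [Field k'] [Field k''] [Field P]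
    [Algebra k' k''] [Algebra k' P] [IsPurelyInseparable k' k''] [PerfectField P] :
    Nonempty (k'' →ₐ[k'] P) := by
  obtain ⟨q, hq⟩ := ExpChar.exists k'
  haveI : ExpChar P q := expChar_of_injective_algebraMap (algebraMap k' P).injective q
  haveI : ExpChar k'' q := expChar_of_injective_algebraMap (algebraMap k' k'').injective q
  haveI : PerfectRing P q := inferInstance
  have hι₀ : (PerfectRing.lift (algebraMap k' k'') (algebraMap k' P) q).comp (algebraMap k' k'') =
      algebraMap k' P := PerfectRing.lift_comp _ _ _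
  exact ⟨{ PerfectRing.lift (algebraMap k' k'') (algebraMap k' P) q with
    commutes' := fun c => RingHom.congr_fun hι₀ c }⟩

section A

variable (k P K : Type u) [Field k] [Field P] [Field K] [Algebra k P] [Algebra k K]
  [IsPurelyInseparable k P] [PerfectField P] (k' : Type u) [Field k'] [Algebra k k']
  [Algebra k' P] [IsScalarTower k k' P]
  (m : Ideal (k' ⊗[k] K))

/-- the map `k' ⊗ K → P ⊗ K` -/
noncomputable abbrev phi : k' ⊗[k] K →ₐ[k] P ⊗[k] K :=
  Algebra.TensorProduct.map (IsScalarTower.toAlgHom k k' P) (AlgHom.id k K)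

theorem phi_injective : Function.Injective (phi k P K k') := by
  have h1 : Function.Injective (LinearMap.rTensor K (IsScalarTower.toAlgHom k k' P).toLinearMap) :=
    Module.Flat.rTensor_preserves_injective_linearMap _ (algebraMap k' P).injective
  exact h1

/-- the surjection `P ⊗[k] K → P ⊗[k'] K'` -/
noncomputable abbrev psi : P ⊗[k] K →ₐ[k'] P ⊗[k'] ((k' ⊗[k] K) ⧸ m) :=
  (Algebra.TensorProduct.map (AlgHom.id k' P) (Ideal.Quotient.mkₐ k' m)).comp
    (Algebra.TensorProduct.cancelBaseChange k k' k' P K).symm.toAlgHom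

theorem psi_surjective : Function.Surjective (psi k P K k' m) := by
  refine (Algebra.TensorProduct.map_surjective (f := AlgHom.id k' P)
    (g := Ideal.Quotient.mkₐ k' m) Function.surjective_id
    (Ideal.Quotient.mkₐ_surjective k' m)).comp ?_
  exact (Algebra.TensorProduct.cancelBaseChange k k' k' P K).symm.surjective

theorem psi_phi (x : k' ⊗[k] K) :
    psi k P K k' m (phi k P K k' x) = (1 : P) ⊗ₜ[k'] (Ideal.Quotient.mkₐ k' m x) := by
  induction x with
  | zero => simp
  | add x y hx hy => rw [map_add, map_add, hx, hy, map_add, TensorProduct.tmul_add]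
  | tmul a b =>
    have e1 : psi k P K k' m (phi k P K k' (a ⊗ₜ[k] b)) =
        (algebraMap k' P a) ⊗ₜ[k'] (Ideal.Quotient.mkₐ k' m ((1 : k') ⊗ₜ[k] b)) := by
      show (Algebra.TensorProduct.map (AlgHom.id k' P) (Ideal.Quotient.mkₐ k' m))
        ((Algebra.TensorProduct.cancelBaseChange k k' k' P K).symm
          (Algebra.TensorProduct.map (IsScalarTower.toAlgHom k k' P) (AlgHom.id k K)
            (a ⊗ₜ[k] b))) = _
      rw [Algebra.TensorProduct.map_tmul, Algebra.TensorProduct.cancelBaseChange_symm_tmul,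
        Algebra.TensorProduct.map_tmul]
      rfl
    have e2 : a ⊗ₜ[k] b = a • ((1 : k') ⊗ₜ[k] b) := by
      rw [TensorProduct.smul_tmul', smul_eq_mul, mul_one]
    rw [e1, e2, map_smul, ← TensorProduct.smul_tmul, Algebra.smul_def, mul_one]

theorem isGeometricallyReduced_quotient (s : Set (P ⊗[k] K))
    (hs : Ideal.span s = nilradical (P ⊗[k] K))
    (hgen : ∀ ν ∈ s, ∃ ν' ∈ m, phi k P K k' ν' = ν) :
    Algebra.IsGeometricallyReduced k' ((k' ⊗[k] K) ⧸ m) := by
  apply Groth.Agent.Helper14.isGeometricallyReduced_of_forall_finite_purelyInseparable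
  intro k'' _ _ _ _
  obtain ⟨ι⟩ := exists_algHom_of_purelyInseparable k' k'' P
  have h1 : Function.Injective
      (Algebra.TensorProduct.map ι (AlgHom.id k' ((k' ⊗[k] K) ⧸ m))) := by
    have h2 : Function.Injective (LinearMap.rTensor ((k' ⊗[k] K) ⧸ m) ι.toLinearMap) :=
      Module.Flat.rTensor_preserves_injective_linearMap _ ι.toRingHom.injective
    exact h2
  suffices h : IsReduced (P ⊗[k'] ((k' ⊗[k] K) ⧸ m)) from isReduced_of_injective _ h1
  have hker : nilradical (P ⊗[k] K) ≤ RingHom.ker (psi k P K k' m).toRingHom := by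
    rw [← hs, Ideal.span_le]
    intro ν hν
    obtain ⟨ν', hmem, hν'⟩ := hgen ν hν
    show psi k P K k' m ν = 0
    rw [← hν', psi_phi]
    have : Ideal.Quotient.mkₐ k' m ν' = 0 := Ideal.Quotient.eq_zero_iff_mem.mpr hmem
    rw [this, TensorProduct.tmul_zero]
  refine ⟨fun t ht => ?_⟩
  obtain ⟨r, rfl⟩ := psi_surjective k P K k' m t
  rcases isUnit_or_isNilpotent k P K r with hu | hn
  · have hu' : IsUnit (psi k P K k' m r) := hu.map (psi k P K k' m).toRingHom
    obtain ⟨N, hN⟩ := ht
    have h0 : IsUnit ((psi k P K k' m r) ^ N) := hu'.pow N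
    rw [hN] at h0
    obtain ⟨b, hb⟩ := h0.exists_right_inv
    exact eq_of_zero_eq_one ((zero_mul b).symm.trans hb) _ _
  · exact hker (mem_nilradical.mpr hn)

end A

section Main

theorem main'' (k P K : Type u) [Field k] [Field P] [Field K] [Algebra k P] [Algebra k K]
    [IsPurelyInseparable k P] [PerfectField P] [Algebra.IsAlgebraic k P]
    (hfg : (nilradical (P ⊗[k] K)).FG) :
    ∃ (k' : Type u) (_ : Field k') (_ : Algebra k k'), FiniteDimensional k k' ∧
      IsPurelyInseparable k k' ∧
      ∀ (m : Ideal (k' ⊗[k] K)), nilradical (k' ⊗[k] K) ≤ m →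
        Algebra.IsGeometricallyReduced k' ((k' ⊗[k] K) ⧸ m) := by
  classical
  obtain ⟨s, hs⟩ := hfg
  choose Ez hEz using Groth.Agent.Helper7.NormTensor.exists_finset_range k K P
  refine ⟨IntermediateField.adjoin k (↑(s.biUnion Ez) : Set P), inferInstance, inferInstance,
    IntermediateField.finiteDimensional_adjoin (fun x _ => Algebra.IsIntegral.isIntegral x),
    IsPurelyInseparable.tower_bot k _ P, ?_⟩
  intro m hm
  refine isGeometricallyReduced_quotient k P K _ m (↑s) hs ?_
  intro ν hν
  obtain ⟨ν', hν'⟩ := hEz ν (IntermediateField.adjoin k (↑(s.biUnion Ez) : Set P)).toSubalgebra (by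
    intro x hx
    apply IntermediateField.subset_adjoin
    rw [Finset.coe_biUnion]
    exact Set.mem_biUnion hν hx)
  have hν'' : phi k P K (IntermediateField.adjoin k (↑(s.biUnion Ez) : Set P)) ν' = ν := hν'
  refine ⟨ν', ?_, hν''⟩
  have hnil : IsNilpotent ν := by
    have : ν ∈ nilradical (P ⊗[k] K) := by rw [← hs]; exact Ideal.subset_span hν
    exact mem_nilradical.mp this
  obtain ⟨N, hN⟩ := hnil
  have : ν' ^ N = 0 :=
    phi_injective k P K (↥(IntermediateField.adjoin k (↑(s.biUnion Ez) : Set P))) (by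
      rw [map_pow, hν'', hN, map_zero])
  exact hm (mem_nilradical.mpr ⟨N, this⟩)

theorem main' (k P K : Type u) [Field k] [Field P] [Field K] [Algebra k P] [Algebra k K]
    [IsPurelyInseparable k P] [PerfectField P] [Algebra.IsAlgebraic k P]
    [Algebra.EssFiniteType k K] :
    ∃ (k' : Type u) (_ : Field k') (_ : Algebra k k'), FiniteDimensional k k' ∧
      IsPurelyInseparable k k' ∧
      ∀ (m : Ideal (k' ⊗[k] K)), m.IsMaximal →
        Algebra.IsGeometricallyReduced k' ((k' ⊗[k] K) ⧸ m) := by
  haveI : IsNoetherianRing (P ⊗[k] K) := Algebra.EssFiniteType.isNoetherianRing P (P ⊗[k] K)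
  obtain ⟨k', i1, i2, h1, h2, h3⟩ := main'' k P K (IsNoetherian.noetherian _)
  exact ⟨k', i1, i2, h1, h2, fun m hm => h3 m (nilradical_le_prime m)⟩

end Main

theorem main {k K : Type u} [Field k] [Field K] [Algebra k K] [Algebra.EssFiniteType k K] :
    ∃ (k' : Type u) (_ : Field k') (_ : Algebra k k'), FiniteDimensional k k' ∧
      IsPurelyInseparable k k' ∧
      ∀ (m : Ideal (k' ⊗[k] K)), m.IsMaximal →
        Algebra.IsGeometricallyReduced k' ((k' ⊗[k] K) ⧸ m) :=
  main' k (perfectClosure k (AlgebraicClosure k)) K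

end Groth.Agent.Helper7.PIResidue
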