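import Mathlib
open AlgebraicGeometry CategoryTheory
universe u
namespace Groth.Agent.Helper7

theorem isReduced_subscheme_iff_radical_eq {X : Scheme.{u}} (I : X.IdealSheafData) :
    IsReduced I.subscheme ↔ I.radical = I := by
  rw [IsReduced.iff_of_openCover (X := I.subscheme) I.subschemeCover.openCover]
  constructor
  · intro h
    ext U : 2
    have h1 := h U
    have h2 : _root_.IsReduced (Γ(X, U) ⧸ I.ideal U) :=
      (affine_isReduced_iff (.of (Γ(X, U) ⧸ I.ideal U))).mp h1
    have h3 : (I.ideal U).IsRadical := (Ideal.isRadical_iff_quotient_reduced _).mpr h2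
    exact h3.radical
  · intro h (U : X.affineOpens)
    have h3 : (I.ideal U).IsRadical := by
      have : (I.radical.ideal U) = I.ideal U := by rw [h]
      rw [Scheme.IdealSheafData.radical_ideal] at this
      exact Ideal.radical_eq_iff.mp this
    have h2 : _root_.IsReduced (Γ(X, U) ⧸ I.ideal U) := (Ideal.isRadical_iff_quotient_reduced _).mp h3
    exact (affine_isReduced_iff (.of (Γ(X, U) ⧸ I.ideal U))).mpr h2

instance isReduced_nilradical_subscheme (X : Scheme.{u}) : IsReduced X.nilradical.subscheme := by
  rw [isReduced_subscheme_iff_radical_eq]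
  ext U : 2
  simp [Scheme.nilradical, Ideal.radical_idem]

theorem surjective_nilradical_subschemeι (X : Scheme.{u}) :
    Function.Surjective X.nilradical.subschemeι := by
  rw [← Set.range_eq_univ, Scheme.IdealSheafData.range_subschemeι]
  rfl

theorem isOpenImmersion_red_of_isOpenImmersion
    {X Y : Scheme.{u}} (f : X ⟶ Y) [IsOpenImmersion f]
    (g : X.nilradical.subscheme ⟶ Y.nilradical.subscheme)
    (hg : g ≫ Y.nilradical.subschemeι = X.nilradical.subschemeι ≫ f) :
    IsOpenImmersion g := by
  let P := Limits.pullback f Y.nilradical.subschemeι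
  have hP : IsReduced P := isReduced_of_isOpenImmersion (Limits.pullback.snd f Y.nilradical.subschemeι)
  let h : X.nilradical.subscheme ⟶ P := Limits.pullback.lift X.nilradical.subschemeι g hg.symm
  have h1 : h ≫ Limits.pullback.fst f Y.nilradical.subschemeι = X.nilradical.subschemeι :=
    Limits.pullback.lift_fst _ _ _
  have h2 : h ≫ Limits.pullback.snd f Y.nilradical.subschemeι = g :=
    Limits.pullback.lift_snd _ _ _
  have hci : IsClosedImmersion (h ≫ Limits.pullback.fst f Y.nilradical.subschemeι) := by
    rw [h1]; infer_instance
  have hci' : IsClosedImmersion h := IsClosedImmersion.of_comp h (Limits.pullback.fst f _)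
  have hsurj : Surjective h := by
    constructor
    intro p
    obtain ⟨z, hz⟩ := surjective_nilradical_subschemeι X (Limits.pullback.fst f Y.nilradical.subschemeι p)
    refine ⟨z, ?_⟩
    apply (Limits.pullback.fst f Y.nilradical.subschemeι).isClosedEmbedding.injective
    rw [← hz, ← Scheme.Hom.comp_apply, h1]
  have hiso : IsIso h := isIso_of_isClosedImmersion_of_surjective h
  rw [← h2]
  infer_instance

end Groth.Agent.Helper7
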