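import Mathlib
import Groth.Prelude.Def_Found
import Groth.Agent.Lib.Helper7.Mono2

universe u
namespace Groth.Agent.Helper7.NagFin
open Polynomial TensorProduct

set_option linter.style.haveILetI false
set_option linter.unusedSectionVars false
set_option linter.unusedVariables false

/-- Injective domain case. -/
theorem finite_integralClosure_of_injective {D T : Type u} [CommRing D] [IsDomain D]
    (hD : CAlg.IsNagata D) [CommRing T] [IsDomain T] [Algebra D T] [Algebra.FiniteType D T]
    (hinj : Function.Injective (algebraMap D T)) : Module.Finite D (integralClosure D T) := by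
  classical
  haveI := hD.1
  let KD := FractionRing D
  let KT := FractionRing T
  haveI : FaithfulSMul D T := (faithfulSMul_iff_algebraMap_injective D T).mpr hinj
  haveI : FaithfulSMul D KT := by
    rw [faithfulSMul_iff_algebraMap_injective, IsScalarTower.algebraMap_eq D T KT]
    exact (IsFractionRing.injective T KT).comp hinj
  letI : Algebra KD KT := FractionRing.liftAlgebra D KT
  haveI : IsScalarTower D KD KT := FractionRing.isScalarTower_liftAlgebra D KT
  let P : KD ⊗[D] T →ₐ[D] KT :=
    Algebra.TensorProduct.productMap (IsScalarTower.toAlgHom D KD KT) (IsScalarTower.toAlgHom D T KT)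
  haveI : Nontrivial (KD ⊗[D] T) := by
    refine ⟨⟨0, 1, fun h => ?_⟩⟩
    have h1 := congrArg P h
    rw [map_zero, map_one] at h1
    exact zero_ne_one h1
  obtain ⟨m, hm⟩ := Ideal.exists_maximal (KD ⊗[D] T)
  let κ := (KD ⊗[D] T) ⧸ m
  letI : Field κ := Ideal.Quotient.field m
  haveI : Module.Finite KD κ := finite_of_finite_type_of_isJacobsonRing KD κ
  let A' := integralClosure D T
  let φ : A' →ₐ[D] κ := ((Ideal.Quotient.mkₐ D m).comp
    (Algebra.TensorProduct.includeRight (R := D) (A := KD) (B := T))).comp A'.val
  have hDκ : Function.Injective (algebraMap D κ) := by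
    rw [IsScalarTower.algebraMap_eq D KD κ]
    exact (algebraMap KD κ).injective.comp (IsFractionRing.injective D KD)
  have hφ : Function.Injective φ := by
    rw [← AlgHom.coe_toRingHom, injective_iff_map_eq_zero]
    intro y hy
    have hker : RingHom.ker φ.toRingHom = ⊥ := by
      apply Ideal.eq_bot_of_comap_eq_bot (R := D)
      rw [eq_bot_iff]
      intro d hd
      rw [Ideal.mem_comap, RingHom.mem_ker] at hd
      have h1 : algebraMap D κ d = 0 := by
        rw [← hd]
        exact (φ.commutes d).symm
      rw [Ideal.mem_bot]
      exact hDκ (by rw [h1, map_zero])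
    have : y ∈ RingHom.ker φ.toRingHom := hy
    rw [hker] at this
    exact this
  have hN2 : CAlg.IsN2 D := Groth.Agent.Helper7.Mono.isN2_of_isNagata hD
  have hfin : Module.Finite D (integralClosure D κ) :=
    Groth.Agent.Helper7.Mono.finite_integralClosure_of_isN2 hN2 KD κ
  let ψ : A' →ₗ[D] integralClosure D κ :=
    { toFun := fun y => ⟨φ y, IsIntegral.map φ (Algebra.IsIntegral.isIntegral y)⟩
      map_add' := fun y y' => Subtype.ext (map_add φ y y')
      map_smul' := fun d y => Subtype.ext (map_smul φ d y) }
  haveI : IsNoetherian D (integralClosure D κ) := isNoetherian_of_isNoetherianRing_of_finite D _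
  refine Module.Finite.of_injective ψ ?_
  intro y y' hyy'
  exact hφ (congrArg Subtype.val hyy')

/-- Domain case. -/
theorem finite_integralClosure_of_isDomain (R : Type u) [CommRing R] (hR : CAlg.IsNagata R)
    (T : Type u) [CommRing T] [IsDomain T] [Algebra R T] [Algebra.FiniteType R T] :
    Module.Finite R (integralClosure R T) := by
  haveI := hR.1
  let p : Ideal R := RingHom.ker (algebraMap R T)
  haveI : p.IsPrime := RingHom.ker_isPrime _
  let D := R ⧸ p
  letI : Algebra D T := (RingHom.kerLift (algebraMap R T)).toAlgebra
  haveI : IsScalarTower R D T := IsScalarTower.of_algebraMap_eq (fun r => rfl)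
  have hinj : Function.Injective (algebraMap D T) := RingHom.kerLift_injective _
  have hD : CAlg.IsNagata D := Groth.Agent.Helper7.NagAU2.isNagata_of_finite R hR D
  haveI : Algebra.FiniteType D T := Algebra.FiniteType.of_restrictScalars_finiteType R D T
  have h1 : Module.Finite D (integralClosure D T) := finite_integralClosure_of_injective hD hinj
  exact Groth.Agent.Helper7.NagAU2.finite_integralClosure_of_finite_tower R D T h1

theorem s0573 (R : Type u) [CommRing R] (hR : CAlg.IsNagata R)
    (S : Type u) [CommRing S] [IsReduced S] [Algebra R S] [Algebra.FiniteType R S] :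
    Module.Finite R (integralClosure R S) := by
  classical
  haveI := hR.1
  haveI : IsNoetherianRing S := Algebra.FiniteType.isNoetherianRing R S
  have hfinite : (minimalPrimes S).Finite := minimalPrimes.finite_of_isNoetherianRing S
  haveI : Fintype (minimalPrimes S) := hfinite.fintype
  haveI : ∀ q : minimalPrimes S, q.1.IsPrime := fun q => q.2.1.1
  have hfin : ∀ q : minimalPrimes S, Module.Finite R (integralClosure R (S ⧸ q.1)) := fun q =>
    finite_integralClosure_of_isDomain R hR (S ⧸ q.1)
  let ψ : integralClosure R S →ₗ[R] (∀ q : minimalPrimes S, integralClosure R (S ⧸ q.1)) :=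
    { toFun := fun y q => ⟨Ideal.Quotient.mk q.1 y,
        IsIntegral.map (Ideal.Quotient.mkₐ R q.1) y.2⟩
      map_add' := fun y y' => by
        ext q
        simp
      map_smul' := fun r y => by
        ext q
        simp [Algebra.smul_def] }
  haveI : IsNoetherian R (∀ q : minimalPrimes S, integralClosure R (S ⧸ q.1)) :=
    isNoetherian_of_isNoetherianRing_of_finite R _
  refine Module.Finite.of_injective ψ ?_
  rw [← LinearMap.ker_eq_bot, eq_bot_iff]
  intro y hy
  rw [LinearMap.mem_ker] at hy
  rw [Submodule.mem_bot]
  apply Subtype.ext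
  have h1 : (y : S) ∈ sInf (minimalPrimes S) := by
    rw [Ideal.mem_sInf]
    intro q hq
    have h2 := congrFun hy ⟨q, hq⟩
    have h3 : Ideal.Quotient.mk q (y : S) = 0 := congrArg Subtype.val h2
    exact Ideal.Quotient.eq_zero_iff_mem.mp h3
  have h4 : sInf (minimalPrimes S) = nilradical S := by
    rw [minimalPrimes, Ideal.sInf_minimalPrimes, nilradical]
    rfl
  rw [h4, nilradical_eq_zero] at h1
  exact h1

end Groth.Agent.Helper7.NagFin
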