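import Mathlib
import Groth.Prelude.Def_Found
import Groth.Agent.Lib.Helper1.NAff1
import Groth.Agent.Lib.Helper7.NagFin
import Groth.Agent.Lib.Helper7.Mono2

set_option autoImplicit false
set_option linter.style.haveILetI false
set_option linter.unusedSectionVars false

namespace Groth.Agent.Helper7.NormFin

open CategoryTheory AlgebraicGeometry TopologicalSpace

universe u

theorem finite_integralClosure_of_jointly_injective (R A : Type u) [CommRing R]
    [IsNoetherianRing R] [CommRing A] [Algebra R A]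
    {J : Type u} [Finite J] (B : J → Type u) [∀ j, CommRing (B j)] [∀ j, Algebra R (B j)]
    (φ : ∀ j, A →ₐ[R] B j) (hinj : ∀ a : A, (∀ j, φ j a = 0) → a = 0)
    (hfin : ∀ j, Module.Finite R (integralClosure R (B j))) :
    Module.Finite R (integralClosure R A) := by
  haveI := hfin
  haveI : ∀ j, IsNoetherian R (integralClosure R (B j)) := fun j =>
    isNoetherian_of_isNoetherianRing_of_finite R _
  haveI : IsNoetherian R (∀ j, integralClosure R (B j)) := isNoetherian_pi
  let g : integralClosure R A →ₗ[R] (∀ j, integralClosure R (B j)) :=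
    LinearMap.pi (fun j => ((φ j).mapIntegralClosure).toLinearMap)
  apply Module.Finite.of_injective g
  rw [injective_iff_map_eq_zero]
  intro a ha
  apply Subtype.ext
  apply hinj
  intro j
  have := congrArg (fun x => (x j : B j)) ha
  exact this

theorem finite_integralClosure_sections {X S : Scheme.{u}} (f : X ⟶ S)
    [LocallyOfFiniteType f] [QuasiCompact f] [IsReduced X]
    (U : S.Opens) (hU : IsAffineOpen U) (hN : CAlg.IsNagata Γ(S, U)) :
    letI := (f.app U).hom.toAlgebra
    Module.Finite Γ(S, U) (integralClosure Γ(S, U) Γ(X, f ⁻¹ᵁ U)) := by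
  letI := (f.app U).hom.toAlgebra
  haveI : IsNoetherianRing Γ(S, U) := hN.1
  obtain ⟨s, hsfin, hs⟩ := isCompact_iff_finite_and_eq_biUnion_affineOpens.mp
    (f.isCompact_preimage hU.isCompact)
  haveI : Finite s := hsfin
  have hle : ∀ j : s, j.1.1 ≤ f ⁻¹ᵁ U := by
    intro j
    rw [hs]
    exact le_iSup₂ (f := fun (i : X.affineOpens) (_ : i ∈ s) => (i : X.Opens)) j.1 j.2
  letI alg : ∀ j : s, Algebra Γ(S, U) Γ(X, j.1.1) := fun j =>
    (f.appLE U j.1.1 (hle j)).hom.toAlgebra
  let φ : ∀ j : s, Γ(X, f ⁻¹ᵁ U) →ₐ[Γ(S, U)] Γ(X, j.1.1) := fun j =>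
    { (X.presheaf.map (homOfLE (hle j)).op).hom with
      commutes' := fun r => by
        show (X.presheaf.map (homOfLE (hle j)).op).hom ((f.app U).hom r) =
          (f.appLE U j.1.1 (hle j)).hom r
        rw [Scheme.Hom.appLE]
        rfl }
  refine finite_integralClosure_of_jointly_injective Γ(S, U) Γ(X, f ⁻¹ᵁ U)
    (fun j : s => Γ(X, j.1.1)) φ ?_ ?_
  · intro a ha
    apply X.sheaf.eq_of_locally_eq' (fun j : s => j.1.1) (f ⁻¹ᵁ U) (fun j => homOfLE (hle j))
    · rw [hs]
      apply iSup₂_le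
      intro i hi
      exact le_iSup (fun j : s => j.1.1) ⟨i, hi⟩
    · intro j
      have := ha j
      exact this.trans (map_zero (X.presheaf.map (homOfLE (hle j)).op).hom).symm
  · intro j
    haveI : Algebra.FiniteType Γ(S, U) Γ(X, j.1.1) :=
      f.finiteType_appLE hU j.1.2 (hle j)
    exact Groth.Agent.Helper7.NagFin.s0573 Γ(S, U) hN Γ(X, j.1.1)

theorem s9675 {X S : Scheme.{u}} (f : X ⟶ S)
    [LocallyOfFiniteType f] [QuasiCompact f] [QuasiSeparated f] [IsReduced X]
    (hS : ∀ U : S.affineOpens, CAlg.IsNagata Γ(S, U)) :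
    IsFinite f.fromNormalization := by
  rw [Groth.Agent.Helper1.NAff.fromNormalization_iff _ @IsFinite]
  intro U
  letI := (f.app U.1).hom.toAlgebra
  show IsFinite (Spec.map (CommRingCat.ofHom (algebraMap Γ(S, U.1)
      (integralClosure Γ(S, U.1) Γ(X, f ⁻¹ᵁ U.1)))))
  rw [IsFinite.SpecMap_iff]
  haveI := finite_integralClosure_sections f U.1 U.2 (hS U)
  exact RingHom.finite_algebraMap.mpr inferInstance

theorem finite_integralClosure_of_fractionRing_finiteType (R : Type u) [CommRing R]
    (hR : CAlg.IsNagata R)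
    (A K : Type u) [CommRing A] [IsDomain A] [Algebra R A] [Algebra.FiniteType R A]
    [Field K] [Algebra A K] [IsFractionRing A K] [Algebra R K] [IsScalarTower R A K] :
    Module.Finite R (integralClosure R K) := by
  have hA : CAlg.IsNagata A := Groth.Agent.Helper7.Mono.s0566 R hR A
  have hN2 : CAlg.IsN2 A := Groth.Agent.Helper7.Mono.isN2_of_isNagata hA
  haveI hfin : Module.Finite A (integralClosure A K) :=
    Groth.Agent.Helper7.Mono.finite_integralClosure_of_isN2 hN2 K K
  haveI : Algebra.FiniteType R (integralClosure A K) := by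
    have h1 : Algebra.FiniteType R A := inferInstance
    have h2 : Algebra.FiniteType A (integralClosure A K) := inferInstance
    exact Algebra.FiniteType.trans h1 h2
  haveI : Module.Finite R (integralClosure R (integralClosure A K)) :=
    Groth.Agent.Helper7.NagFin.s0573 R hR (integralClosure A K)
  let ψ : (integralClosure A K) →ₐ[R] K := IsScalarTower.toAlgHom R (integralClosure A K) K
  have hψ : Function.Injective ψ := Subtype.val_injective
  apply Module.Finite.of_surjective ψ.mapIntegralClosure.toLinearMap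
  rintro ⟨z, hz⟩
  have hzA : IsIntegral A z := hz.tower_top
  have hz' : IsIntegral R (⟨z, hzA⟩ : integralClosure A K) :=
    (isIntegral_algHom_iff ψ hψ).mp hz
  exact ⟨⟨⟨z, hzA⟩, hz'⟩, rfl⟩

theorem finite_integralClosure_of_essFiniteType_field (R : Type u) [CommRing R]
    (hR : CAlg.IsNagata R)
    (K : Type u) [Field K] [Algebra R K] [Algebra.EssFiniteType R K] :
    Module.Finite R (integralClosure R K) := by
  let A := Algebra.EssFiniteType.subalgebra R K
  haveI : IsLocalization (Algebra.EssFiniteType.submonoid R K) K := inferInstance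
  haveI : IsFractionRing A K := by
    apply IsFractionRing.of_field
    intro z
    obtain ⟨a, m, rfl⟩ := IsLocalization.exists_mk'_eq (Algebra.EssFiniteType.submonoid R K) z
    refine ⟨a, m.1, ?_⟩
    have hm : algebraMap A K m.1 ≠ 0 := (IsLocalization.map_units K m).ne_zero
    rw [eq_div_iff hm, IsLocalization.mk'_spec]
  exact finite_integralClosure_of_fractionRing_finiteType R hR A K

theorem essFiniteType_evaluation {S : Scheme.{u}} {U : S.Opens} (hU : IsAffineOpen U) (y : S)
    (hy : y ∈ U) : (S.evaluation U y hy).hom.EssFiniteType := by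
  have h1 : (S.presheaf.germ U y hy).hom.EssFiniteType := by
    letI := S.presheaf.algebra_section_stalk ⟨y, hy⟩
    haveI := hU.isLocalization_stalk ⟨y, hy⟩
    have : Algebra.EssFiniteType Γ(S, U) (S.presheaf.stalk y) :=
      Algebra.EssFiniteType.of_isLocalization _ (hU.primeIdealOf ⟨y, hy⟩).asIdeal.primeCompl
    exact RingHom.essFiniteType_algebraMap.mpr this
  have h2 : (S.residue y).hom.EssFiniteType :=
    (RingHom.FiniteType.of_surjective _ (S.residue_surjective y)).essFiniteType
  exact h1.comp h2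

theorem exists_finite_generic_points {X : Scheme.{u}} (W : X.Opens) (hW : IsCompact (W : Set X))
    (hfin : LocallyFinite (fun Z : ↥(irreducibleComponents ↥X) => (Z : Set ↥X))) :
    ∃ (t : Set X), t.Finite ∧ (∀ ξ ∈ t, ξ ∈ W ∧ closure {ξ} ∈ irreducibleComponents X) ∧
      ∀ z ∈ W, ∃ ξ ∈ t, ξ ⤳ z := by
  classical
  have hfin' := hfin.finite_nonempty_inter_compact hW
  have hgen : ∀ Z : ↥(irreducibleComponents ↥X), ∃ ξ : X, closure {ξ} = (Z : Set X) := by
    intro Z
    obtain ⟨ξ, hξ⟩ := QuasiSober.sober Z.2.1 (isClosed_of_mem_irreducibleComponents _ Z.2)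
    exact ⟨ξ, hξ⟩
  choose g hg using hgen
  refine ⟨g '' {Z | ((Z : Set X) ∩ (W : Set X)).Nonempty}, hfin'.image g, ?_, ?_⟩
  · rintro _ ⟨Z, ⟨z, hzZ, hzW⟩, rfl⟩
    refine ⟨?_, ?_⟩
    · have hsp : g Z ⤳ z := by
        rw [specializes_iff_mem_closure, hg Z]
        exact hzZ
      exact hsp.mem_open W.isOpen hzW
    · rw [hg Z]; exact Z.2
  · intro z hz
    let Z : ↥(irreducibleComponents ↥X) :=
      ⟨irreducibleComponent z, irreducibleComponent_mem_irreducibleComponents z⟩
    refine ⟨g Z, ⟨Z, ⟨z, mem_irreducibleComponent, hz⟩, rfl⟩, ?_⟩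
    rw [specializes_iff_mem_closure, hg Z]
    exact mem_irreducibleComponent

theorem finite_integralClosure_sections' {X S : Scheme.{u}} (f : X ⟶ S)
    [QuasiCompact f] [IsReduced X]
    (hfin : LocallyFinite (fun Z : ↥(irreducibleComponents ↥X) => (Z : Set ↥X)))
    (hres : ∀ x : X, closure {x} ∈ irreducibleComponents ↥X →
      (f.residueFieldMap x).hom.EssFiniteType)
    (U : S.Opens) (hU : IsAffineOpen U) (hN : CAlg.IsNagata Γ(S, U)) :
    letI := (f.app U).hom.toAlgebra
    Module.Finite Γ(S, U) (integralClosure Γ(S, U) Γ(X, f ⁻¹ᵁ U)) := by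
  letI := (f.app U).hom.toAlgebra
  haveI : IsNoetherianRing Γ(S, U) := hN.1
  obtain ⟨t, htfin, ht1, ht2⟩ := exists_finite_generic_points (f ⁻¹ᵁ U)
    (f.isCompact_preimage hU.isCompact) hfin
  haveI : Finite t := htfin
  letI alg : ∀ j : t, Algebra Γ(S, U) (X.residueField j.1) := fun j =>
    (f.app U ≫ X.evaluation (f ⁻¹ᵁ U) j.1 (ht1 j.1 j.2).1).hom.toAlgebra
  let φ : ∀ j : t, Γ(X, f ⁻¹ᵁ U) →ₐ[Γ(S, U)] (X.residueField j.1) := fun j =>
    { (X.evaluation (f ⁻¹ᵁ U) j.1 (ht1 j.1 j.2).1).hom with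
      commutes' := fun r => rfl }
  refine finite_integralClosure_of_jointly_injective Γ(S, U) Γ(X, f ⁻¹ᵁ U)
    (fun j : t => X.residueField j.1) φ ?_ ?_
  · intro a ha
    rw [← AlgebraicGeometry.basicOpen_eq_bot_iff, eq_bot_iff]
    intro z hz
    have hzW : z ∈ f ⁻¹ᵁ U := X.basicOpen_le a hz
    obtain ⟨ξ, hξ, hsp⟩ := ht2 z hzW
    have hξa : ξ ∈ X.basicOpen a := hsp.mem_open (X.basicOpen a).isOpen hz
    have := (X.evaluation_ne_zero_iff_mem_basicOpen ξ (ht1 ξ hξ).1 a).mpr hξa
    exact (this (ha ⟨ξ, hξ⟩)).elim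
  · intro j
    haveI : Algebra.EssFiniteType Γ(S, U) (X.residueField j.1) := by
      have h1 : (S.evaluation U (f j.1) (ht1 j.1 j.2).1 ≫ f.residueFieldMap j.1).hom.EssFiniteType :=
        (essFiniteType_evaluation hU (f j.1) (ht1 j.1 j.2).1).comp (hres j.1 (ht1 j.1 j.2).2)
      rw [Scheme.evaluation_naturality] at h1
      exact h1
    exact finite_integralClosure_of_essFiniteType_field Γ(S, U) hN (X.residueField j.1)

theorem s9674 {X S : Scheme.{u}} (f : X ⟶ S)
    [QuasiCompact f] [QuasiSeparated f] [IsReduced X]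
    (hS : ∀ U : S.affineOpens, CAlg.IsNagata Γ(S, U))
    (hfin : LocallyFinite (fun Z : ↥(irreducibleComponents ↥X) => (Z : Set ↥X)))
    (hres : ∀ x : X, closure {x} ∈ irreducibleComponents ↥X →
      (f.residueFieldMap x).hom.EssFiniteType) :
    IsFinite f.fromNormalization := by
  rw [Groth.Agent.Helper1.NAff.fromNormalization_iff _ @IsFinite]
  intro U
  letI := (f.app U.1).hom.toAlgebra
  show IsFinite (Spec.map (CommRingCat.ofHom (algebraMap Γ(S, U.1)
      (integralClosure Γ(S, U.1) Γ(X, f ⁻¹ᵁ U.1)))))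
  rw [IsFinite.SpecMap_iff]
  haveI := finite_integralClosure_sections' f hfin hres U.1 U.2 (hS U)
  exact RingHom.finite_algebraMap.mpr inferInstance

end Groth.Agent.Helper7.NormFin
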