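import Mathlib

set_option autoImplicit false

universe u

namespace Groth.Agent.Helper7.Graded

open DirectSum

variable {R A : Type u} [CommRing R] [CommRing A] [Algebra R A]
  (𝒜 : ℕ → Submodule R A) [GradedAlgebra 𝒜]

/-- Lemma C: a homogeneous element of degree `n` in the ideal generated by a set `E` of homogeneous
elements is a finite sum of products `a * e` with `e ∈ E` and `a` homogeneous of complementary
degree. -/
theorem mem_closure_of_mem_span {E : Set A} (deg : A → ℕ) (hdeg : ∀ e ∈ E, e ∈ 𝒜 (deg e))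
    {n : ℕ} {x : A} (hx : x ∈ 𝒜 n) (hxE : x ∈ Ideal.span E) :
    x ∈ AddSubmonoid.closure
      {y : A | ∃ e ∈ E, deg e ≤ n ∧ ∃ a ∈ 𝒜 (n - deg e), y = a * e} := by
  classical
  obtain ⟨l, hl⟩ := (Finsupp.mem_span_iff_linearCombination A E x).mp hxE
  have h1 : x = ∑ e ∈ l.support, ((decompose 𝒜 (l e * (e : A)) n : 𝒜 n) : A) := by
    conv_lhs => rw [← decompose_of_mem_same 𝒜 hx, ← hl, Finsupp.linearCombination_apply,
      Finsupp.sum, decompose_sum, DFinsupp.finsetSum_apply, AddSubmonoidClass.coe_finsetSum]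
    rfl
  rw [h1]
  refine AddSubmonoid.sum_mem _ fun e _ => ?_
  by_cases hle : deg (e : A) ≤ n
  · rw [coe_decompose_mul_of_right_mem_of_le 𝒜 (hdeg e e.2) hle]
    exact AddSubmonoid.subset_closure ⟨e, e.2, hle, _, (decompose 𝒜 (l e) (n - deg (e : A))).2, rfl⟩
  · rw [coe_decompose_mul_of_right_mem_of_not_le 𝒜 (hdeg e e.2) hle]
    exact AddSubmonoid.zero_mem _


theorem mem_irrelevant_of_mem_pos {n : ℕ} (hn : 0 < n) {x : A} (hx : x ∈ 𝒜 n) :
    x ∈ (HomogeneousIdeal.irrelevant 𝒜).toIdeal :=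
  HomogeneousIdeal.mem_irrelevant_of_mem 𝒜 hn hx

/-- L2: if `E` (homogeneous of positive degrees) generates the irrelevant ideal then it generates
`A` as an `𝒜 0`-algebra. -/
theorem adjoin_eq_top_of_irrelevant_eq_span (E : Set A) (hE : ∀ e ∈ E, ∃ d : ℕ, 0 < d ∧ e ∈ 𝒜 d)
    (h : (HomogeneousIdeal.irrelevant 𝒜).toIdeal = Ideal.span E) :
    Algebra.adjoin (𝒜 0) E = ⊤ := by
  classical
  choose! deg hdegpos hdeg using hE
  have key : ∀ n : ℕ, ∀ x ∈ 𝒜 n, x ∈ Algebra.adjoin (𝒜 0) E := by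
    intro n
    induction n using Nat.strong_induction_on with
    | _ n ih =>
      intro x hx
      rcases Nat.eq_zero_or_pos n with rfl | hn
      · exact Subalgebra.algebraMap_mem _ (⟨x, hx⟩ : 𝒜 0)
      · have hxE : x ∈ Ideal.span E := h ▸ mem_irrelevant_of_mem_pos 𝒜 hn hx
        have := mem_closure_of_mem_span 𝒜 deg hdeg hx hxE
        have hsub : AddSubmonoid.closure
            {y : A | ∃ e ∈ E, deg e ≤ n ∧ ∃ a ∈ 𝒜 (n - deg e), y = a * e} ≤
            (Algebra.adjoin (𝒜 0) E).toSubmodule.toAddSubmonoid := by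
          rw [AddSubmonoid.closure_le]
          rintro y ⟨e, he, hle, a, ha, rfl⟩
          exact Subalgebra.mul_mem _ (ih _ (by have := hdegpos e he; omega) a ha)
            (Algebra.subset_adjoin he)
        exact hsub this
  rw [eq_top_iff]
  intro x _
  rw [← DirectSum.sum_support_decompose 𝒜 x]
  exact Subalgebra.sum_mem _ fun i _ => key i _ (decompose 𝒜 x i).2

/-- L3: converse. -/
theorem irrelevant_eq_span_of_adjoin_eq_top (E : Set A) (hE : ∀ e ∈ E, ∃ d : ℕ, 0 < d ∧ e ∈ 𝒜 d)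
    (h : Algebra.adjoin (𝒜 0) E = ⊤) :
    (HomogeneousIdeal.irrelevant 𝒜).toIdeal = Ideal.span E := by
  apply le_antisymm
  · intro x hx
    have key : ∀ y ∈ Algebra.adjoin (𝒜 0) E, ∃ a ∈ 𝒜 0, y - a ∈ Ideal.span E := by
      intro y hy
      induction hy using Algebra.adjoin_induction with
      | mem e he => exact ⟨0, Submodule.zero_mem _, by simpa using Ideal.subset_span he⟩
      | algebraMap r => exact ⟨r, r.2, by simp [show algebraMap (𝒜 0) A r = (r : A) from rfl]⟩
      | add y z _ _ hy hz =>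
        obtain ⟨a, ha, hya⟩ := hy
        obtain ⟨b, hb, hzb⟩ := hz
        refine ⟨a + b, Submodule.add_mem _ ha hb, ?_⟩
        have : y + z - (a + b) = (y - a) + (z - b) := by ring
        rw [this]; exact Ideal.add_mem _ hya hzb
      | mul y z _ _ hy hz =>
        obtain ⟨a, ha, hya⟩ := hy
        obtain ⟨b, hb, hzb⟩ := hz
        refine ⟨a * b, by simpa using SetLike.GradedMul.mul_mem ha hb, ?_⟩
        have : y * z - a * b = (y - a) * z + a * (z - b) := by ring
        rw [this]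
        exact Ideal.add_mem _ (Ideal.mul_mem_right _ _ hya) (Ideal.mul_mem_left _ _ hzb)
    obtain ⟨a, ha, hxa⟩ := key x (h ▸ Algebra.mem_top)
    have hle : Ideal.span E ≤ (HomogeneousIdeal.irrelevant 𝒜).toIdeal := by
      rw [Ideal.span_le]
      intro e he
      obtain ⟨d, hd, hed⟩ := hE e he
      exact mem_irrelevant_of_mem_pos 𝒜 hd hed
    have ha' : a ∈ (HomogeneousIdeal.irrelevant 𝒜).toIdeal := by
      have : a = x - (x - a) := by ring
      rw [this]
      exact Ideal.sub_mem _ hx (hle hxa)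
    have ha0 : a = 0 := by
      have h1 := (HomogeneousIdeal.mem_irrelevant_iff 𝒜 a).mp ha'
      rw [GradedRing.proj_apply, decompose_of_mem_same 𝒜 ha] at h1
      exact h1
    rw [ha0, sub_zero] at hxa
    exact hxa
  · rw [Ideal.span_le]
    intro e he
    obtain ⟨d, hd, hed⟩ := hE e he
    exact mem_irrelevant_of_mem_pos 𝒜 hd hed


/-- L4: the irrelevant ideal is finitely generated iff `A` is of finite type over `𝒜 0`. -/
theorem irrelevant_fg_iff_finiteType :
    (HomogeneousIdeal.irrelevant 𝒜).toIdeal.FG ↔ Algebra.FiniteType (𝒜 0) A := by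
  classical
  constructor
  · rintro ⟨F, hF⟩
    let E : Finset A := F.biUnion fun f =>
      (decompose 𝒜 f).support.image fun i => ((decompose 𝒜 f i : 𝒜 i) : A)
    have hFirr : ∀ f ∈ F, f ∈ (HomogeneousIdeal.irrelevant 𝒜).toIdeal := fun f hf =>
      hF ▸ Ideal.subset_span hf
    have hEmem : ∀ e ∈ E, e ∈ (HomogeneousIdeal.irrelevant 𝒜).toIdeal ∧
        ∃ d : ℕ, 0 < d ∧ e ∈ 𝒜 d := by
      intro e he
      simp only [E, Finset.mem_biUnion, Finset.mem_image] at he
      obtain ⟨f, hf, i, -, rfl⟩ := he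
      refine ⟨(HomogeneousIdeal.irrelevant 𝒜).isHomogeneous i (hFirr f hf), ?_⟩
      rcases Nat.eq_zero_or_pos i with rfl | hi
      · have h0 := (HomogeneousIdeal.mem_irrelevant_iff 𝒜 f).mp (hFirr f hf)
        rw [GradedRing.proj_apply] at h0
        exact ⟨1, one_pos, by rw [h0]; exact Submodule.zero_mem _⟩
      · exact ⟨i, hi, (decompose 𝒜 f i).2⟩
    have hspan : (HomogeneousIdeal.irrelevant 𝒜).toIdeal = Ideal.span (E : Set A) := by
      apply le_antisymm
      · rw [← hF, Ideal.span_le]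
        intro f hf
        rw [← DirectSum.sum_support_decompose 𝒜 f]
        refine Ideal.sum_mem _ fun i hi => Ideal.subset_span ?_
        simp only [E, Finset.coe_biUnion, Finset.coe_image, Set.mem_iUnion, Set.mem_image]
        exact ⟨f, hf, i, hi, rfl⟩
      · rw [Ideal.span_le]
        exact fun e he => (hEmem e he).1
    have := adjoin_eq_top_of_irrelevant_eq_span 𝒜 (E : Set A) (fun e he => (hEmem e he).2) hspan
    exact ⟨⟨E, this⟩⟩
  · intro hft
    obtain ⟨s, hs, hs'⟩ := GradedAlgebra.exists_finset_adjoin_eq_top_and_homogeneous_ne_zero 𝒜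
    have := irrelevant_eq_span_of_adjoin_eq_top 𝒜 (s : Set A)
      (fun e he => by
        obtain ⟨n, hn, hen⟩ := hs' e he
        exact ⟨n, Nat.pos_of_ne_zero hn, hen⟩) hs
    exact ⟨s, this.symm⟩

/-- L5 -/
theorem isNoetherianRing_iff :
    IsNoetherianRing A ↔ IsNoetherianRing (𝒜 0) ∧ Algebra.FiniteType (𝒜 0) A := by
  constructor
  · intro h
    refine ⟨inferInstance, ?_⟩
    rw [← irrelevant_fg_iff_finiteType]
    exact (isNoetherianRing_iff_ideal_fg A).mp h _
  · rintro ⟨h1, h2⟩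
    exact Algebra.FiniteType.isNoetherianRing (𝒜 0) A

/-- existence of a finite set of positive-degree homogeneous generators of the irrelevant ideal -/
theorem exists_finset_irrelevant_eq_span [Algebra.FiniteType (𝒜 0) A] :
    ∃ s : Finset A, (HomogeneousIdeal.irrelevant 𝒜).toIdeal = Ideal.span (s : Set A) ∧
      ∀ e ∈ s, ∃ d : ℕ, 0 < d ∧ e ∈ 𝒜 d := by
  obtain ⟨s, hs, hs'⟩ := GradedAlgebra.exists_finset_adjoin_eq_top_and_homogeneous_ne_zero 𝒜
  have h2 : ∀ e ∈ (s : Set A), ∃ d : ℕ, 0 < d ∧ e ∈ 𝒜 d := fun e he => by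
    obtain ⟨n, hn, hen⟩ := hs' e he
    exact ⟨n, Nat.pos_of_ne_zero hn, hen⟩
  exact ⟨s, irrelevant_eq_span_of_adjoin_eq_top 𝒜 (s : Set A) h2 hs, h2⟩

/-- L6 -/
theorem exists_forall_le_irrelevant_pow [Algebra.FiniteType (𝒜 0) A] (n : ℕ) (hn : 0 < n) :
    ∃ m₀ : ℕ, ∀ m : ℕ, m₀ ≤ m →
      (𝒜 m : Set A) ⊆ ((HomogeneousIdeal.irrelevant 𝒜).toIdeal ^ n : Ideal A) := by
  classical
  obtain ⟨s, hs, hs'⟩ := exists_finset_irrelevant_eq_span 𝒜
  choose! deg hdegpos hdeg using hs'
  let D := s.sup deg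
  have hD : ∀ e ∈ s, deg e ≤ D := fun e he => Finset.le_sup he
  have key : ∀ k : ℕ, ∀ m : ℕ, (k + 1) * (D + 1) ≤ m →
      (𝒜 m : Set A) ⊆ ((HomogeneousIdeal.irrelevant 𝒜).toIdeal ^ (k + 1) : Ideal A) := by
    intro k
    induction k with
    | zero =>
      intro m hm x hx
      rw [zero_add, pow_one]
      exact mem_irrelevant_of_mem_pos 𝒜 (by omega) hx
    | succ k ih =>
      intro m hm x hx
      have hxirr : x ∈ Ideal.span (s : Set A) := hs ▸ mem_irrelevant_of_mem_pos 𝒜 (by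
        have : 0 < (k + 1 + 1) * (D + 1) := by positivity
        omega) hx
      have := mem_closure_of_mem_span 𝒜 deg (fun e he => hdeg e he) hx hxirr
      have hsub : AddSubmonoid.closure
          {y : A | ∃ e ∈ (s : Set A), deg e ≤ m ∧ ∃ a ∈ 𝒜 (m - deg e), y = a * e} ≤
          ((HomogeneousIdeal.irrelevant 𝒜).toIdeal ^ (k + 1 + 1) : Ideal A).toAddSubmonoid := by
        rw [AddSubmonoid.closure_le]
        rintro y ⟨e, he, hle, a, ha, rfl⟩
        have h1 : a ∈ ((HomogeneousIdeal.irrelevant 𝒜).toIdeal ^ (k + 1) : Ideal A) := by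
          refine ih (m - deg e) ?_ ha
          have := hD e he
          have h3 : (k + 1 + 1) * (D + 1) = (k + 1) * (D + 1) + (D + 1) := by ring
          omega
        have h2 : e ∈ (HomogeneousIdeal.irrelevant 𝒜).toIdeal :=
          mem_irrelevant_of_mem_pos 𝒜 (hdegpos e he) (hdeg e he)
        rw [pow_succ]
        exact Ideal.mul_mem_mul h1 h2
      exact hsub this
  obtain ⟨k, rfl⟩ : ∃ k, n = k + 1 := ⟨n - 1, by omega⟩
  exact ⟨(k + 1) * (D + 1), key k⟩

end Groth.Agent.Helper7.Graded
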