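import Mathlib

/-!
# Separating families of linear maps: abstract lemmas (helper7)

`HProp u` for a family `u i : M →ₗ[C] N i` says: an element `x` of `M` all of whose images
`u i x` are `h`-power torsion is itself `h`-power torsion (i.e. the family is separating on every
basic open `D(h)`).  We prove stability of this property under jointly injective families,
extensions, integral ring extensions and polynomial extensions.
-/

set_option autoImplicit false

open Polynomial

namespace Groth.Agent.Helper7.SepAbs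

section Defs

variable {C : Type*} [CommRing C] {ι : Type*} {M : Type*} [AddCommGroup M] [Module C M]
  {N : ι → Type*} [∀ i, AddCommGroup (N i)] [∀ i, Module C (N i)]

/-- all images of `x` are `h`-power torsion -/
def Hyp (u : ∀ i, M →ₗ[C] N i) (h : C) (x : M) : Prop := ∀ i, ∃ n : ℕ, u i (h ^ n • x) = 0

/-- The family `u` is separating on every basic open. -/
def HProp (u : ∀ i, M →ₗ[C] N i) : Prop :=
  ∀ (h : C) (x : M), Hyp u h x → ∃ n : ℕ, h ^ n • x = 0

lemma Hyp.smul {u : ∀ i, M →ₗ[C] N i} {h : C} {x : M} (hx : Hyp u h x) (r : C) :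
    Hyp u h (r • x) := fun i => by
  obtain ⟨n, hn⟩ := hx i
  exact ⟨n, by rw [smul_comm, map_smul, hn, smul_zero]⟩

end Defs

section Family

theorem HProp.of_family {C C' : Type*} [CommRing C] [CommRing C'] (φ : C →+* C')
    {ι : Type*} {M : Type*} [AddCommGroup M] [Module C M]
    {N : ι → Type*} [∀ i, AddCommGroup (N i)] [∀ i, Module C (N i)] (u : ∀ i, M →ₗ[C] N i)
    {L : Type*} [Finite L] {M' : L → Type*} [∀ l, AddCommGroup (M' l)] [∀ l, Module C' (M' l)]
    {N' : L → ι → Type*} [∀ l i, AddCommGroup (N' l i)] [∀ l i, Module C' (N' l i)]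
    (u' : ∀ l i, M' l →ₗ[C'] N' l i)
    (Ψ : ∀ l, M →+ M' l) (hΨ : ∀ l (h : C) (x : M), Ψ l (h • x) = φ h • Ψ l x)
    (hinj : ∀ x, (∀ l, Ψ l x = 0) → x = 0)
    (ΨN : ∀ l i, N i →+ N' l i) (hcomm : ∀ l i x, ΨN l i (u i x) = u' l i (Ψ l x))
    (H : ∀ l, HProp (u' l)) : HProp u := by
  intro h x hx
  have key : ∀ l, ∃ n : ℕ, φ h ^ n • Ψ l x = 0 := by
    intro l
    apply H l
    intro i
    obtain ⟨n, hn⟩ := hx i
    refine ⟨n, ?_⟩
    rw [← map_pow, ← hΨ, ← hcomm, hn, map_zero]
  choose n hn using key
  have := Fintype.ofFinite L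
  refine ⟨Finset.univ.sup n, hinj _ fun l => ?_⟩
  rw [hΨ, map_pow]
  have hle : n l ≤ Finset.univ.sup n := Finset.le_sup (Finset.mem_univ l)
  obtain ⟨k, hk⟩ := Nat.exists_eq_add_of_le hle
  rw [hk, pow_add, mul_comm, mul_smul, hn l, smul_zero]

end Family

section Exact

theorem HProp.of_exact {C : Type*} [CommRing C] {ι : Type*}
    {M₁ M₂ M₃ : Type*} [AddCommGroup M₁] [Module C M₁] [AddCommGroup M₂] [Module C M₂]
    [AddCommGroup M₃] [Module C M₃]
    {N₁ N₂ N₃ : ι → Type*} [∀ i, AddCommGroup (N₁ i)] [∀ i, Module C (N₁ i)]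
    [∀ i, AddCommGroup (N₂ i)] [∀ i, Module C (N₂ i)]
    [∀ i, AddCommGroup (N₃ i)] [∀ i, Module C (N₃ i)]
    (u₁ : ∀ i, M₁ →ₗ[C] N₁ i) (u₂ : ∀ i, M₂ →ₗ[C] N₂ i) (u₃ : ∀ i, M₃ →ₗ[C] N₃ i)
    (f : M₁ →ₗ[C] M₂) (g : M₂ →ₗ[C] M₃) (hfg : ∀ x, g x = 0 → ∃ y, f y = x)
    (fN : ∀ i, N₁ i →ₗ[C] N₂ i) (gN : ∀ i, N₂ i →ₗ[C] N₃ i)
    (hfN : ∀ i, Function.Injective (fN i))
    (hf : ∀ i x, fN i (u₁ i x) = u₂ i (f x)) (hg : ∀ i x, gN i (u₂ i x) = u₃ i (g x))
    (H₁ : HProp u₁) (H₃ : HProp u₃) : HProp u₂ := by
  intro h x hx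
  obtain ⟨n₀, hn₀⟩ := H₃ h (g x) (fun i => by
    obtain ⟨n, hn⟩ := hx i
    exact ⟨n, by rw [← map_smul, ← hg, hn, map_zero]⟩)
  rw [← map_smul] at hn₀
  obtain ⟨y, hy⟩ := hfg _ hn₀
  obtain ⟨n₁, hn₁⟩ := H₁ h y (fun i => by
    obtain ⟨n, hn⟩ := hx i
    refine ⟨n, hfN i ?_⟩
    rw [map_zero, hf, map_smul, hy, smul_comm, map_smul, hn, smul_zero])
  refine ⟨n₁ + n₀, ?_⟩
  rw [pow_add, mul_smul, ← hy, ← map_smul, hn₁, map_zero]

end Exact

section Integral

variable {C D : Type*} [CommRing C] [CommRing D] [Algebra C D]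
  {ι : Type*} {M : Type*} [AddCommGroup M] [Module C M] [Module D M] [IsScalarTower C D M]
  {N : ι → Type*} [∀ i, AddCommGroup (N i)] [∀ i, Module C (N i)] [∀ i, Module D (N i)]
  [∀ i, IsScalarTower C D (N i)]
  (u : ∀ i, M →ₗ[D] N i)

/-- `G h e q = h^e + Σ_{j<e} q_j h^j` -/
def G (h : D) (e : ℕ) (q : ℕ → C) : D :=
  h ^ e + ∑ j ∈ Finset.range e, algebraMap C D (q j) * h ^ j

lemma G_succ (h : D) (e : ℕ) (q : ℕ → C) :
    G h (e + 1) q = algebraMap C D (q 0) + h * G h e (fun j => q (j + 1)) := by
  unfold G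
  rw [Finset.sum_range_succ', pow_zero, mul_one, mul_add, Finset.mul_sum, pow_succ']
  have : ∀ j, h * (algebraMap C D (q (j + 1)) * h ^ j) =
      algebraMap C D (q (j + 1)) * h ^ (j + 1) := fun j => by ring
  simp only [this]
  ring

theorem peel (H : HProp (fun i => (u i).restrictScalars C)) (h : D) :
    ∀ (e s : ℕ) (q : ℕ → C) (x : M), Hyp u h x → (h ^ s * G h e q) • x = 0 →
      ∃ n : ℕ, h ^ n • x = 0 := by
  intro e
  induction e with
  | zero =>
    intro s q x _ hrel
    refine ⟨s, ?_⟩
    simpa [G] using hrel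
  | succ e ih =>
    intro s q x hx hrel
    set a : C := q 0 with ha
    set α : D := algebraMap C D a with hα
    set G' : D := G h e (fun j => q (j + 1)) with hG'
    have hG : G h (e + 1) q = α + h * G' := G_succ h e q
    have hαM : ∀ (m : ℕ) (z : M), α ^ m • z = a ^ m • z := fun m z => by
      rw [hα, ← map_pow, algebraMap_smul]
    -- Step A
    have stepA : ∃ m : ℕ, α ^ m • (h ^ s • x) = 0 := by
      have := H a (h ^ s • x) (fun i => by
        obtain ⟨n, hn⟩ := hx i
        refine ⟨n, ?_⟩
        set y := u i x with hy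
        have hy0 : h ^ n • y = 0 := by rw [hy, ← map_smul]; exact hn
        have hrely : (h ^ s * (α + h * G')) • y = 0 := by
          rw [← hG, hy, ← map_smul, hrel, map_zero]
        have claim : ∀ r : ℕ, (h ^ s * α ^ r) • y = ((-1) ^ r * h ^ (s + r) * G' ^ r) • y := by
          intro r
          induction r with
          | zero => simp
          | succ r ihr =>
            have e1 : h ^ s * α ^ (r + 1) = α * (h ^ s * α ^ r) := by ring
            rw [e1, mul_smul, ihr, ← mul_smul]
            have e2 : α * ((-1) ^ r * h ^ (s + r) * G' ^ r) =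
                ((-1) ^ r * h ^ r * G' ^ r) * (h ^ s * (α + h * G')) +
                  ((-1) ^ (r + 1) * h ^ (s + (r + 1)) * G' ^ (r + 1)) := by ring
            rw [e2, add_smul, mul_smul _ (h ^ s * (α + h * G')), hrely, smul_zero, zero_add]
        change (u i) (a ^ n • (h ^ s • x)) = 0
        rw [← hαM, ← mul_smul, map_smul, mul_comm, ← hy, claim n]
        have e3 : (-1) ^ n * h ^ (s + n) * G' ^ n = ((-1) ^ n * h ^ s * G' ^ n) * h ^ n := by ring
        rw [e3, mul_smul, hy0, smul_zero])
      obtain ⟨m, hm⟩ := this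
      exact ⟨m, by rw [hαM]; exact hm⟩
    obtain ⟨m, hm⟩ := stepA
    -- Step B
    have Q : ∀ (m : ℕ) (x' : M), Hyp u h x' → (h ^ s * G h (e + 1) q) • x' = 0 →
        α ^ m • x' = 0 → ∃ n, h ^ n • x' = 0 := by
      intro m
      induction m with
      | zero =>
        intro x' _ _ h0
        exact ⟨0, by simpa using h0⟩
      | succ m ihm =>
        intro x' hx' hrel' h0
        have ha'' : α • (α ^ m • x') = 0 := by rw [← mul_smul, ← pow_succ']; exact h0
        have hrel'' : (h ^ (s + 1) * G') • (α ^ m • x') = 0 := by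
          have h1 : (h ^ s * G h (e + 1) q) • (α ^ m • x') = 0 := by
            rw [smul_comm, hrel', smul_zero]
          rw [hG] at h1
          have e4 : h ^ s * (α + h * G') = h ^ s * α + h ^ (s + 1) * G' := by ring
          rw [e4, add_smul, mul_smul (h ^ s) α, ha'', smul_zero, zero_add] at h1
          exact h1
        obtain ⟨n, hn⟩ := ih (s + 1) _ (α ^ m • x') (hx'.smul _) hrel''
        have h2 : α ^ m • (h ^ n • x') = 0 := by rw [smul_comm]; exact hn
        obtain ⟨n', hn'⟩ := ihm (h ^ n • x') (hx'.smul _)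
          (by rw [smul_comm, hrel', smul_zero]) h2
        exact ⟨n' + n, by rw [pow_add, mul_smul]; exact hn'⟩
    obtain ⟨n, hn⟩ := Q m (h ^ s • x) (hx.smul _) (by rw [smul_comm, hrel, smul_zero]) hm
    exact ⟨n + s, by rw [pow_add, mul_smul]; exact hn⟩

theorem HProp.of_integral [Algebra.IsIntegral C D]
    (H : HProp (fun i => (u i).restrictScalars C)) : HProp u := by
  intro h x hx
  obtain ⟨p, hp, hph⟩ := Algebra.IsIntegral.isIntegral (R := C) h
  have hG : G h p.natDegree (fun j => p.coeff j) = eval₂ (algebraMap C D) h p := by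
    rw [eval₂_eq_sum_range, Finset.sum_range_succ, hp.coeff_natDegree, map_one, one_mul]
    unfold G
    rw [add_comm]
  exact peel u H h p.natDegree 0 _ x hx (by rw [pow_zero, one_mul, hG, hph, zero_smul])

end Integral

section Poly

variable {C : Type*} [CommRing C]

lemma exists_bound {P : Type*} [AddCommGroup P] [Module C P] (d : PolynomialModule C P) :
    ∃ D : ℕ, ∀ j, D ≤ j → d.coeff j = 0 := by
  refine ⟨d.coeff.support.sup id + 1, fun j hj => ?_⟩
  by_contra hne
  have h1 : j ∈ d.coeff.support := Finsupp.mem_support_iff.mpr hne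
  have h2 := Finset.le_sup (f := id) h1
  simp only [id_eq] at h2
  omega

lemma coeff_smulC {P : Type*} [AddCommGroup P] [Module C P] (r : C) (d : PolynomialModule C P)
    (j : ℕ) : (r • d).coeff j = r • d.coeff j := rfl

/-- if `h • d = 0` and `d` has no coefficients in degree `≥ D` then `lc(h)^D • d = 0` -/
lemma leadingCoeff_pow_smul_eq_zero {P : Type*} [AddCommGroup P] [Module C P] (h : C[X]) :
    ∀ (D : ℕ) (d : PolynomialModule C P), (∀ j, D ≤ j → d.coeff j = 0) → h • d = 0 →
      h.leadingCoeff ^ D • d = 0 := by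
  intro D
  induction D with
  | zero =>
    intro d hd _
    have : d = 0 := by
      ext j
      simpa using hd j (Nat.zero_le j)
    rw [this, smul_zero]
  | succ D ih =>
    intro d hd hhd
    have h1 : h.leadingCoeff • d.coeff D = 0 := by
      have h0 : (h • d).coeff (h.natDegree + D) = 0 := by rw [hhd]; rfl
      rw [PolynomialModule.smul_apply, Finset.sum_eq_single (h.natDegree, D)] at h0
      · exact h0
      · rintro ⟨a, b⟩ hab hne
        rw [Finset.HasAntidiagonal.mem_antidiagonal] at hab
        simp only at hab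
        by_cases ha : h.natDegree < a
        · rw [Polynomial.coeff_eq_zero_of_natDegree_lt ha, zero_smul]
        · have hb : D + 1 ≤ b := by
            rcases Nat.lt_or_ge D b with hb | hb
            · exact hb
            · exfalso
              apply hne
              have h3 : a = h.natDegree := by omega
              have h4 : b = D := by omega
              rw [h3, h4]
          rw [hd b hb, smul_zero]
      · intro hnot
        exfalso
        apply hnot
        rw [Finset.HasAntidiagonal.mem_antidiagonal]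
    have h2 := ih (h.leadingCoeff • d) (fun j hj => by
      rw [coeff_smulC]
      rcases Nat.eq_or_lt_of_le hj with rfl | hlt
      · exact h1
      · rw [hd j hlt, smul_zero]) (by rw [smul_comm, hhd, smul_zero])
    rw [pow_succ, mul_smul]
    exact h2

lemma exists_leadingCoeff_pow_smul_eq_zero {P : Type*} [AddCommGroup P] [Module C P] (h : C[X])
    (n : ℕ) : ∀ d : PolynomialModule C P, h ^ n • d = 0 →
      ∃ m : ℕ, h.leadingCoeff ^ m • d = 0 := by
  induction n with
  | zero =>
    intro d hd
    exact ⟨0, by simpa using hd⟩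
  | succ n ih =>
    intro d hd
    rw [pow_succ', mul_smul] at hd
    obtain ⟨D, hD⟩ := exists_bound (h ^ n • d)
    have h1 := leadingCoeff_pow_smul_eq_zero h D _ hD hd
    rw [smul_comm] at h1
    obtain ⟨m, hm⟩ := ih _ h1
    exact ⟨m + D, by rw [pow_add, mul_smul]; exact hm⟩

variable {ι : Type*} {M : Type*} [AddCommGroup M] [Module C M]
  {N : ι → Type*} [∀ i, AddCommGroup (N i)] [∀ i, Module C (N i)] (u : ∀ i, M →ₗ[C] N i)

/-- the induced maps on polynomial modules -/
noncomputable def polyMap (i : ι) :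
    PolynomialModule C M →ₗ[C[X]] PolynomialModule C (N i) :=
  { toFun := PolynomialModule.map C (u i)
    map_add' := map_add _
    map_smul' := fun p q => by
      rw [PolynomialModule.map_smul]
      simp }

lemma polyMap_coeff (i : ι) (x : PolynomialModule C M) (j : ℕ) :
    (polyMap u i x).coeff j = u i (x.coeff j) := rfl

lemma smul_eq_eraseLead_smul (h : C[X]) (z : PolynomialModule C M)
    (hz : h.leadingCoeff • z = 0) : h • z = h.eraseLead • z := by
  conv_lhs => rw [← Polynomial.eraseLead_add_monomial_natDegree_leadingCoeff h]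
  rw [add_smul]
  have : (monomial h.natDegree) h.leadingCoeff • z = 0 := by
    rw [← Polynomial.C_mul_X_pow_eq_monomial, mul_comm, mul_smul]
    have : (Polynomial.C h.leadingCoeff : C[X]) • z = h.leadingCoeff • z :=
      algebraMap_smul C[X] h.leadingCoeff z
    rw [this, hz, smul_zero]
  rw [this, add_zero]

theorem HProp.polynomial (H : HProp u) : HProp (polyMap u) := by
  suffices key : ∀ (c : ℕ) (h : C[X]), h.support.card ≤ c → ∀ x, Hyp (polyMap u) h x →
      ∃ n : ℕ, h ^ n • x = 0 from fun h x hx => key _ h le_rfl x hx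
  intro c
  induction c with
  | zero =>
    intro h hc x _
    have : h = 0 := by
      rw [← Polynomial.support_eq_empty, ← Finset.card_eq_zero]
      omega
    exact ⟨1, by rw [this, pow_one, zero_smul]⟩
  | succ c ih =>
    intro h hc x hx
    by_cases h0 : h = 0
    · exact ⟨1, by rw [h0, pow_one, zero_smul]⟩
    set a := h.leadingCoeff with ha
    have stepA : ∃ m : ℕ, a ^ m • x = 0 := by
      have hcoef : ∀ j, ∃ m : ℕ, a ^ m • x.coeff j = 0 := by
        intro j
        apply H a (x.coeff j)
        intro i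
        obtain ⟨n, hn⟩ := hx i
        have h1 : h ^ n • (polyMap u i x) = 0 := by rw [← map_smul]; exact hn
        obtain ⟨m, hm⟩ := exists_leadingCoeff_pow_smul_eq_zero h n _ h1
        refine ⟨m, ?_⟩
        have h2 : (h.leadingCoeff ^ m • polyMap u i x).coeff j = 0 := by rw [hm]; rfl
        rw [coeff_smulC, polyMap_coeff, ← map_smul] at h2
        exact h2
      choose m hm using hcoef
      refine ⟨x.coeff.support.sup m, ?_⟩
      ext j
      rw [coeff_smulC]
      by_cases hj : j ∈ x.coeff.support
      · have hle := Finset.le_sup (f := m) hj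
        obtain ⟨k, hk⟩ := Nat.exists_eq_add_of_le hle
        rw [hk, pow_add, mul_comm, mul_smul, hm j, smul_zero]
        rfl
      · rw [Finsupp.notMem_support_iff.mp hj, smul_zero]
        rfl
    obtain ⟨m, hm⟩ := stepA
    have Q : ∀ (m : ℕ) (x' : PolynomialModule C M), Hyp (polyMap u) h x' → a ^ m • x' = 0 →
        ∃ n, h ^ n • x' = 0 := by
      intro m
      induction m with
      | zero =>
        intro x' _ h0'
        exact ⟨0, by simpa using h0'⟩
      | succ m ihm =>
        intro x' hx' h0'
        have hCa : ∀ z : PolynomialModule C M, a ^ m • z = (Polynomial.C (a ^ m) : C[X]) • z :=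
          fun z => (algebraMap_smul C[X] (a ^ m) z).symm
        have ha'' : a • (a ^ m • x') = 0 := by rw [← mul_smul, ← pow_succ']; exact h0'
        have hE : ∀ n : ℕ, h ^ n • (a ^ m • x') = h.eraseLead ^ n • (a ^ m • x') := by
          intro n
          induction n with
          | zero => simp
          | succ n ihn =>
            rw [pow_succ, mul_smul, smul_eq_eraseLead_smul h _ ha'', smul_comm, ihn,
              smul_smul, ← pow_succ']
        have hx'' : Hyp (polyMap u) h.eraseLead (a ^ m • x') := fun i => by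
          have h3 : Hyp (polyMap u) h (a ^ m • x') := by
            rw [hCa]
            exact hx'.smul _
          obtain ⟨n, hn⟩ := h3 i
          exact ⟨n, by rw [← hE]; exact hn⟩
        have hcard : h.eraseLead.support.card ≤ c := by
          have := Polynomial.eraseLead_support_card_lt h0
          omega
        obtain ⟨n, hn⟩ := ih h.eraseLead hcard _ hx''
        rw [← hE] at hn
        have h4 : a ^ m • (h ^ n • x') = 0 := by rw [smul_comm]; exact hn
        obtain ⟨n', hn'⟩ := ihm (h ^ n • x') (hx'.smul _) h4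
        exact ⟨n' + n, by rw [pow_add, mul_smul]; exact hn'⟩
    exact Q m x hx hm

end Poly

end Groth.Agent.Helper7.SepAbs
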