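import Mathlib
import Groth.Agent.Lib.Helper7.SepAbs

/-!
# Separating families: stability under base change to polynomial rings (helper7)
-/

set_option autoImplicit false

open Polynomial TensorProduct

universe u

namespace Groth.Agent.Helper7.SepBC

open Groth.Agent.Helper7.SepAbs

section Equiv

/-- transfer along a linear map which is injective, for a fixed ring -/
theorem HProp.of_injective {C : Type*} [CommRing C] {ι : Type*}
    {M M' : Type*} [AddCommGroup M] [Module C M] [AddCommGroup M'] [Module C M']
    {N N' : ι → Type*} [∀ i, AddCommGroup (N i)] [∀ i, Module C (N i)]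
    [∀ i, AddCommGroup (N' i)] [∀ i, Module C (N' i)]
    (u : ∀ i, M →ₗ[C] N i) (u' : ∀ i, M' →ₗ[C] N' i)
    (e : M →ₗ[C] M') (he : Function.Injective e) (eN : ∀ i, N i →ₗ[C] N' i)
    (hcomm : ∀ i x, eN i (u i x) = u' i (e x)) (H : HProp u') : HProp u :=
  HProp.of_family (RingHom.id C) u (L := Unit) (M' := fun _ => M') (N' := fun _ i => N' i)
    (fun _ => u') (fun _ => e.toAddMonoidHom) (fun _ h x => e.map_smul h x)
    (fun x hx => he (by rw [map_zero]; exact hx ())) (fun _ i => (eN i).toAddMonoidHom)
    (fun _ i x => hcomm i x) (fun _ => H)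

end Equiv

/-- base change along `A → C` preserves `HProp` -/
def PresH (A C : Type u) [CommRing A] [CommRing C] [Algebra A C] : Prop :=
  ∀ (ι : Type u) (M : Type u) [AddCommGroup M] [Module A M] (N : ι → Type u)
    [∀ i, AddCommGroup (N i)] [∀ i, Module A (N i)] (u : ∀ i, M →ₗ[A] N i),
    HProp u → HProp (fun i => (u i).baseChange C)

section Basic

variable (A : Type u) [CommRing A]

theorem PresH.refl : PresH A A := by
  intro ι M _ _ N _ _ u H
  refine HProp.of_injective _ u (TensorProduct.lid A M).toLinearMap
    (TensorProduct.lid A M).injective (fun i => (TensorProduct.lid A (N i)).toLinearMap) ?_ H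
  intro i x
  induction x using TensorProduct.induction_on with
  | zero => simp
  | tmul a m => simp
  | add x y hx hy => simp only [map_add, hx, hy]

variable {A}

theorem PresH.trans {C D : Type u} [CommRing C] [CommRing D] [Algebra A C] [Algebra C D]
    [Algebra A D] [IsScalarTower A C D] (h1 : PresH A C) (h2 : PresH C D) : PresH A D := by
  intro ι M _ _ N _ _ u H
  have H2 := h2 ι (C ⊗[A] M) (fun i => C ⊗[A] N i) (fun i => (u i).baseChange C)
    (h1 ι M N u H)
  refine HProp.of_injective _ _
    (TensorProduct.AlgebraTensorModule.cancelBaseChange A C D D M).symm.toLinearMap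
    (TensorProduct.AlgebraTensorModule.cancelBaseChange A C D D M).symm.injective
    (fun i => (TensorProduct.AlgebraTensorModule.cancelBaseChange A C D D (N i)).symm.toLinearMap)
    ?_ H2
  intro i x
  induction x using TensorProduct.induction_on with
  | zero => simp
  | tmul d m =>
    simp only [LinearMap.baseChange_tmul, LinearEquiv.coe_coe,
      TensorProduct.AlgebraTensorModule.cancelBaseChange_symm_tmul]
  | add x y hx hy => simp only [map_add, hx, hy]

theorem PresH.of_algEquiv {C C' : Type u} [CommRing C] [CommRing C'] [Algebra A C] [Algebra A C']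
    (e : C ≃ₐ[A] C') (h : PresH A C) : PresH A C' := by
  intro ι M _ _ N _ _ u H
  have H1 := h ι M N u H
  refine HProp.of_family (e.symm : C' →+* C) _ (L := Unit)
    (M' := fun _ => C ⊗[A] M) (N' := fun _ i => C ⊗[A] N i)
    (fun _ i => (u i).baseChange C)
    (fun _ => (LinearMap.rTensor M e.symm.toLinearMap).toAddMonoidHom) ?_ ?_
    (fun _ i => (LinearMap.rTensor (N i) e.symm.toLinearMap).toAddMonoidHom) ?_ (fun _ => H1)
  · intro _ c x
    induction x using TensorProduct.induction_on with
    | zero => simp
    | tmul c' m =>
      simp only [LinearMap.toAddMonoidHom_coe, TensorProduct.smul_tmul', smul_eq_mul,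
        LinearMap.rTensor_tmul, AlgEquiv.toLinearMap_apply, map_mul]
      rfl
    | add x y hx hy => simp only [smul_add, map_add, hx, hy]
  · intro x hx
    have h0 := hx ()
    have hinj : Function.Injective (LinearMap.rTensor M e.symm.toLinearMap) :=
      (LinearEquiv.rTensor M e.symm.toLinearEquiv).injective
    exact hinj (by rw [map_zero]; exact h0)
  · intro _ i x
    induction x using TensorProduct.induction_on with
    | zero => simp
    | tmul c' m => simp
    | add x y hx hy => simp only [map_add, hx, hy]

end Basic

section Poly

variable (C : Type u) [CommRing C]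

theorem PresH.polynomial : PresH C C[X] := by
  intro ι M _ _ N _ _ u H
  have H1 := HProp.polynomial u H
  refine HProp.of_injective _ (polyMap u)
    (PolynomialModule.polynomialTensorProductLEquivPolynomialModule C M).toLinearMap
    (PolynomialModule.polynomialTensorProductLEquivPolynomialModule C M).injective
    (fun i => (PolynomialModule.polynomialTensorProductLEquivPolynomialModule C (N i)).toLinearMap)
    ?_ H1
  intro i x
  induction x using TensorProduct.induction_on with
  | zero => simp
  | tmul p m =>
    simp only [LinearMap.baseChange_tmul, LinearEquiv.coe_coe]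
    change (LinearMap.liftBaseChange C[X] (PolynomialModule.lsingle C 0)) (p ⊗ₜ[C] u i m) =
      polyMap u i ((LinearMap.liftBaseChange C[X] (PolynomialModule.lsingle C 0)) (p ⊗ₜ[C] m))
    rw [LinearMap.liftBaseChange_tmul, LinearMap.liftBaseChange_tmul, map_smul]
    congr 1
    exact (PolynomialModule.map_single C (u i) 0 m).symm
  | add x y hx hy => simp only [map_add, hx, hy]

theorem PresH.mvPolynomial (A : Type u) [CommRing A] (s : ℕ) :
    PresH A (MvPolynomial (Fin s) A) := by
  induction s with
  | zero =>
    exact PresH.of_algEquiv (MvPolynomial.isEmptyAlgEquiv A (Fin 0)).symm (PresH.refl A)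
  | succ s ih =>
    have h1 : PresH A (MvPolynomial (Fin s) A)[X] :=
      PresH.trans ih (PresH.polynomial (MvPolynomial (Fin s) A))
    exact PresH.of_algEquiv (MvPolynomial.finSuccEquiv A s).symm h1

theorem PresH.tensor_mvPolynomial (k A : Type u) [CommRing k] [CommRing A] [Algebra k A]
    (s : ℕ) : PresH A (A ⊗[k] MvPolynomial (Fin s) k) :=
  PresH.of_algEquiv (MvPolynomial.algebraTensorAlgEquiv k A).symm (PresH.mvPolynomial A s)

end Poly

end Groth.Agent.Helper7.SepBC
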