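import Mathlib
import Groth.Agent.Lib.Helper7.SepBC
import Groth.Agent.Lib.Helper3.TFEmbed

set_option autoImplicit false
set_option linter.style.haveILetI false

open Polynomial TensorProduct

universe u

namespace Groth.Agent.Helper7.SepField

open Groth.Agent.Helper7.SepAbs Groth.Agent.Helper7.SepBC

section Act

variable (k : Type u) [Field k] (A : Type u) [CommRing A] [Algebra k A]
  (B : Type u) [CommRing B] [Algebra k B]
  (M : Type u) [AddCommGroup M] [Module k M] [Module A M] [IsScalarTower k A M]
  (Q : Type u) [AddCommGroup Q] [Module k Q] [Module B Q] [IsScalarTower k B Q]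

/-- the action of `A ⊗ B` on `M ⊗ Q` -/
noncomputable def act : A ⊗[k] B →ₐ[k] Module.End k (M ⊗[k] Q) :=
  (Module.endTensorEndAlgHom (R := k) (S := k) (A := k) (M := M) (N := Q)).comp
    (Algebra.TensorProduct.map (Algebra.lsmul k k M) (Algebra.lsmul k k Q))

@[simp]
lemma act_tmul (a : A) (b : B) (m : M) (q : Q) :
    act k A B M Q (a ⊗ₜ b) (m ⊗ₜ q) = (a • m) ⊗ₜ (b • q) := by
  simp [act, Module.endTensorEndAlgHom_apply]

/-- the `A ⊗ B`-module structure on `M ⊗ Q` -/
@[reducible] noncomputable def actModule : Module (A ⊗[k] B) (M ⊗[k] Q) :=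
  Module.compHom (M ⊗[k] Q) (act k A B M Q).toRingHom

attribute [local instance] actModule

lemma smul_def (h : A ⊗[k] B) (x : M ⊗[k] Q) : h • x = act k A B M Q h x := rfl

variable {M}

/-- the map `u ⊗ Q`, which is `A ⊗ B`-linear -/
noncomputable def uT {N : Type u} [AddCommGroup N] [Module k N] [Module A N] [IsScalarTower k A N]
    (u : M →ₗ[A] N) : M ⊗[k] Q →ₗ[A ⊗[k] B] N ⊗[k] Q :=
  { toFun := TensorProduct.map (u.restrictScalars k) (LinearMap.id : Q →ₗ[k] Q)
    map_add' := map_add _
    map_smul' := fun h x => by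
      simp only [RingHom.id_apply, smul_def]
      induction h using TensorProduct.induction_on with
      | zero => simp
      | tmul a b =>
        induction x using TensorProduct.induction_on with
        | zero => simp
        | tmul m q => simp
        | add x y hx hy => simp only [map_add, hx, hy]
      | add h₁ h₂ e₁ e₂ => simp only [map_add, LinearMap.add_apply, e₁, e₂] }

@[simp]
lemma uT_tmul {N : Type u} [AddCommGroup N] [Module k N] [Module A N] [IsScalarTower k A N]
    (u : M →ₗ[A] N) (m : M) (q : Q) : uT k A B Q u (m ⊗ₜ q) = u m ⊗ₜ q := rfl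

variable (M) {Q}

/-- the map `M ⊗ g`, which is `A ⊗ B`-linear -/
noncomputable def gT {Q' : Type u} [AddCommGroup Q'] [Module k Q'] [Module B Q']
    [IsScalarTower k B Q'] (g : Q →ₗ[B] Q') : M ⊗[k] Q →ₗ[A ⊗[k] B] M ⊗[k] Q' :=
  { toFun := TensorProduct.map (LinearMap.id : M →ₗ[k] M) (g.restrictScalars k)
    map_add' := map_add _
    map_smul' := fun h x => by
      simp only [RingHom.id_apply, smul_def]
      induction h using TensorProduct.induction_on with
      | zero => simp
      | tmul a b =>
        induction x using TensorProduct.induction_on with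
        | zero => simp
        | tmul m q => simp
        | add x y hx hy => simp only [map_add, hx, hy]
      | add h₁ h₂ e₁ e₂ => simp only [map_add, LinearMap.add_apply, e₁, e₂] }

@[simp]
lemma gT_tmul {Q' : Type u} [AddCommGroup Q'] [Module k Q'] [Module B Q']
    [IsScalarTower k B Q'] (g : Q →ₗ[B] Q') (m : M) (q : Q) :
    gT k A B M g (m ⊗ₜ q) = m ⊗ₜ g q := rfl

lemma gT_uT {N : Type u} [AddCommGroup N] [Module k N] [Module A N] [IsScalarTower k A N]
    (u : M →ₗ[A] N) {Q' : Type u} [AddCommGroup Q'] [Module k Q'] [Module B Q']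
    [IsScalarTower k B Q'] (g : Q →ₗ[B] Q') (x : M ⊗[k] Q) :
    gT k A B N g (uT k A B Q u x) = uT k A B Q' u (gT k A B M g x) := by
  induction x using TensorProduct.induction_on with
  | zero => simp
  | tmul m q => simp
  | add x y hx hy => simp only [map_add, hx, hy]

variable (Q)

lemma act_map {B' : Type u} [CommRing B'] [Algebra k B'] (β : B →ₐ[k] B') [Module B' Q]
    [IsScalarTower k B' Q] (hβ : ∀ (b : B) (q : Q), b • q = β b • q) (h : A ⊗[k] B)
    (x : M ⊗[k] Q) :
    act k A B M Q h x = act k A B' M Q (Algebra.TensorProduct.map (AlgHom.id k A) β h) x := by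
  induction h using TensorProduct.induction_on with
  | zero => simp
  | tmul a b =>
    induction x using TensorProduct.induction_on with
    | zero => simp
    | tmul m q => simp [hβ]
    | add x y hx hy => simp only [map_add, hx, hy]
  | add h₁ h₂ e₁ e₂ => simp only [map_add, LinearMap.add_apply, e₁, e₂]

/-- the comparison `(A ⊗ B) ⊗_A M ≃ M ⊗ B` -/
noncomputable def bridge : (A ⊗[k] B) ⊗[A] M ≃ₗ[A] M ⊗[k] B :=
  (TensorProduct.comm A (A ⊗[k] B) M).trans
    (TensorProduct.AlgebraTensorModule.cancelBaseChange k A A M B)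

@[simp]
lemma bridge_tmul (a : A) (b : B) (m : M) :
    bridge k A B M ((a ⊗ₜ[k] b) ⊗ₜ[A] m) = (a • m) ⊗ₜ[k] b := by
  simp [bridge]

lemma bridge_smul (c : A ⊗[k] B) (y : (A ⊗[k] B) ⊗[A] M) :
    bridge k A B M (c • y) = c • bridge k A B M y := by
  rw [smul_def]
  induction y using TensorProduct.induction_on with
  | zero => simp
  | tmul c' m =>
    rw [TensorProduct.smul_tmul', smul_eq_mul]
    induction c using TensorProduct.induction_on with
    | zero => simp
    | tmul a b =>
      induction c' using TensorProduct.induction_on with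
      | zero => simp
      | tmul a' b' => simp [mul_smul]
      | add c₁ c₂ e₁ e₂ => simp only [mul_add, TensorProduct.add_tmul, map_add, e₁, e₂]
    | add c₁ c₂ e₁ e₂ => simp only [add_mul, TensorProduct.add_tmul, map_add, e₁, e₂,
        LinearMap.add_apply]
  | add y₁ y₂ e₁ e₂ => simp only [smul_add, map_add, e₁, e₂]

/-- the comparison as an `A ⊗ B`-linear equivalence -/
noncomputable def bridgeL : (A ⊗[k] B) ⊗[A] M ≃ₗ[A ⊗[k] B] M ⊗[k] B :=
  { (bridge k A B M) with
    map_smul' := fun c y => bridge_smul k A B M c y }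

lemma bridgeL_apply (y : (A ⊗[k] B) ⊗[A] M) : bridgeL k A B M y = bridge k A B M y := rfl

variable {M}

lemma bridge_natural {N : Type u} [AddCommGroup N] [Module k N] [Module A N]
    [IsScalarTower k A N] (u : M →ₗ[A] N) (y : (A ⊗[k] B) ⊗[A] M) :
    bridge k A B N (u.baseChange (A ⊗[k] B) y) = uT k A B B u (bridge k A B M y) := by
  induction y using TensorProduct.induction_on with
  | zero => simp
  | tmul c m =>
    induction c using TensorProduct.induction_on with
    | zero => simp
    | tmul a b => simp
    | add c₁ c₂ e₁ e₂ => simp only [TensorProduct.add_tmul, map_add, e₁, e₂]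
  | add y₁ y₂ e₁ e₂ => simp only [map_add, e₁, e₂]

end Act

section Iff

attribute [local instance] actModule

variable (k : Type u) [Field k] (A : Type u) [CommRing A] [Algebra k A]
  (B : Type u) [CommRing B] [Algebra k B]
  {ι : Type u} {M : Type u} [AddCommGroup M] [Module k M] [Module A M] [IsScalarTower k A M]
  {N : ι → Type u} [∀ i, AddCommGroup (N i)] [∀ i, Module k (N i)] [∀ i, Module A (N i)]
  [∀ i, IsScalarTower k A (N i)] (u : ∀ i, M →ₗ[A] N i)

theorem hprop_baseChange_of_uT (H : HProp (fun i => uT k A B B (u i))) :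
    HProp (fun i => (u i).baseChange (A ⊗[k] B)) :=
  HProp.of_injective _ _ (bridgeL k A B M).toLinearMap (bridgeL k A B M).injective
    (fun i => (bridgeL k A B (N i)).toLinearMap) (fun i x => bridge_natural k A B (u i) x) H

theorem hprop_uT_of_baseChange (H : HProp (fun i => (u i).baseChange (A ⊗[k] B))) :
    HProp (fun i => uT k A B B (u i)) :=
  HProp.of_injective _ _ (bridgeL k A B M).symm.toLinearMap (bridgeL k A B M).symm.injective
    (fun i => (bridgeL k A B (N i)).symm.toLinearMap) (fun i x => by
      apply (bridgeL k A B (N i)).injective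
      simp only [LinearEquiv.coe_coe, LinearEquiv.apply_symm_apply]
      rw [bridgeL_apply, bridge_natural, ← bridgeL_apply, LinearEquiv.apply_symm_apply]) H

end Iff

section Domain

attribute [local instance] actModule

variable (k : Type u) [Field k] (A : Type u) [CommRing A] [Algebra k A]
  {ι : Type u} {M : Type u} [AddCommGroup M] [Module k M] [Module A M] [IsScalarTower k A M]
  {N : ι → Type u} [∀ i, AddCommGroup (N i)] [∀ i, Module k (N i)] [∀ i, Module A (N i)]
  [∀ i, IsScalarTower k A (N i)] (u : ∀ i, M →ₗ[A] N i)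

/-- polynomial rings -/
theorem hprop_mvPolynomial (H : HProp u) (s : ℕ) :
    HProp (fun i => uT k A (MvPolynomial (Fin s) k) (MvPolynomial (Fin s) k) (u i)) :=
  hprop_uT_of_baseChange k A _ u (PresH.tensor_mvPolynomial k A s ι M N u H)

/-- integrality of `A ⊗ P → A ⊗ B` -/
theorem isIntegral_tensor_map {P B : Type u} [CommRing P] [Algebra k P] [CommRing B] [Algebra k B]
    (g : P →ₐ[k] B) (hg : g.IsIntegral) :
    (Algebra.TensorProduct.map (AlgHom.id k A) g).toRingHom.IsIntegral := by
  set φ := Algebra.TensorProduct.map (AlgHom.id k A) g with hφ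
  intro z
  induction z using TensorProduct.induction_on with
  | zero => exact φ.toRingHom.isIntegralElem_zero
  | tmul a b =>
    have h1 : a ⊗ₜ[k] b = φ.toRingHom (a ⊗ₜ 1) * ((1 : A) ⊗ₜ[k] b) := by simp [hφ]
    rw [h1]
    apply RingHom.IsIntegralElem.mul
    · exact φ.toRingHom.isIntegralElem_map
    · obtain ⟨p, hp, hpb⟩ := hg b
      refine ⟨p.map (Algebra.TensorProduct.includeRight : P →ₐ[k] A ⊗[k] P).toRingHom,
        hp.map _, ?_⟩
      rw [Polynomial.eval₂_map]
      have h2 : (φ.toRingHom.comp
          (Algebra.TensorProduct.includeRight : P →ₐ[k] A ⊗[k] P).toRingHom) =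
          (Algebra.TensorProduct.includeRight : B →ₐ[k] A ⊗[k] B).toRingHom.comp g.toRingHom := by
        ext x
        simp [hφ]
      have h3 : ((1 : A) ⊗ₜ[k] b) =
          (Algebra.TensorProduct.includeRight : B →ₐ[k] A ⊗[k] B).toRingHom b := rfl
      rw [h2, h3, ← Polynomial.hom_eval₂, hpb, map_zero]
  | add x y hx hy => exact RingHom.IsIntegralElem.add _ hx hy

set_option maxHeartbeats 1600000 in
set_option synthInstance.maxHeartbeats 200000 in
/-- the case of a finitely generated domain -/
theorem hprop_domain (H : HProp u) (B : Type u) [CommRing B] [Algebra k B] [IsDomain B]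
    [Algebra.FiniteType k B] : HProp (fun i => uT k A B B (u i)) := by
  classical
  obtain ⟨s, g, hginj, hgfin⟩ := exists_finite_inj_algHom_of_fg k B
  letI algPB : Algebra (MvPolynomial (Fin s) k) B := g.toRingHom.toAlgebra
  haveI : IsScalarTower k (MvPolynomial (Fin s) k) B :=
    IsScalarTower.of_algebraMap_eq (fun r => (g.commutes r).symm)
  haveI : Module.Finite (MvPolynomial (Fin s) k) B := hgfin
  have htf : ∀ (p : MvPolynomial (Fin s) k) (b : B), p • b = 0 → p = 0 ∨ b = 0 := by
    intro p b h
    rw [Algebra.smul_def] at h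
    rcases mul_eq_zero.mp h with h | h
    · left
      exact hginj (by rw [map_zero]; exact h)
    · right
      exact h
  obtain ⟨n, j, hj⟩ := Groth.Agent.Helper3.TFEmbed.exists_injective_to_free
    (P := MvPolynomial (Fin s) k) (B := B) htf
  have H1 := hprop_mvPolynomial k A u H s
  -- Step 2
  have H2 : HProp (fun i => uT k A (MvPolynomial (Fin s) k) B (u i)) := by
    refine HProp.of_family (RingHom.id _) _ (L := Fin n)
      (M' := fun _ => M ⊗[k] MvPolynomial (Fin s) k)
      (N' := fun _ i => N i ⊗[k] MvPolynomial (Fin s) k)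
      (fun _ i => uT k A (MvPolynomial (Fin s) k) (MvPolynomial (Fin s) k) (u i))
      (fun l => (gT k A (MvPolynomial (Fin s) k) M ((LinearMap.proj l).comp j)).toAddMonoidHom)
      (fun l h x => (gT k A (MvPolynomial (Fin s) k) M ((LinearMap.proj l).comp j)).map_smul h x)
      ?_
      (fun l i => (gT k A (MvPolynomial (Fin s) k) (N i)
        ((LinearMap.proj l).comp j)).toAddMonoidHom)
      (fun l i x => gT_uT k A (MvPolynomial (Fin s) k) M (u i) ((LinearMap.proj l).comp j) x)
      (fun _ => H1)
    intro x hx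
    have hinjM : Function.Injective ((j.restrictScalars k).lTensor M) :=
      Module.Flat.lTensor_preserves_injective_linearMap (M := M) (j.restrictScalars k) hj
    apply hinjM
    rw [map_zero]
    apply (TensorProduct.piRight k k M (fun _ : Fin n => MvPolynomial (Fin s) k)).injective
    rw [map_zero]
    funext l
    have key : ∀ y : M ⊗[k] B,
        (TensorProduct.piRight k k M (fun _ : Fin n => MvPolynomial (Fin s) k))
          ((j.restrictScalars k).lTensor M y) l =
        gT k A (MvPolynomial (Fin s) k) M ((LinearMap.proj l).comp j) y := by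
      intro y
      induction y using TensorProduct.induction_on with
      | zero => simp
      | tmul m b => simp [TensorProduct.piRight_apply]
      | add y₁ y₂ e₁ e₂ => simp only [map_add, Pi.add_apply, e₁, e₂]
    rw [key]
    exact hx l
  -- Step 3
  letI algCD : Algebra (A ⊗[k] MvPolynomial (Fin s) k) (A ⊗[k] B) :=
    (Algebra.TensorProduct.map (AlgHom.id k A) g).toRingHom.toAlgebra
  haveI : Algebra.IsIntegral (A ⊗[k] MvPolynomial (Fin s) k) (A ⊗[k] B) :=
    ⟨isIntegral_tensor_map k A g (RingHom.Finite.to_isIntegral hgfin)⟩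
  have hsmul : ∀ (P' : Type u) [AddCommGroup P'] [Module k P'] [Module A P']
      [IsScalarTower k A P'] (c : A ⊗[k] MvPolynomial (Fin s) k) (x : P' ⊗[k] B),
      c • x = (Algebra.TensorProduct.map (AlgHom.id k A) g c) • x := by
    intro P' _ _ _ _ c x
    rw [smul_def, smul_def]
    exact act_map k A (MvPolynomial (Fin s) k) P' B g (fun b q => Algebra.smul_def b q) c x
  haveI : IsScalarTower (A ⊗[k] MvPolynomial (Fin s) k) (A ⊗[k] B) (M ⊗[k] B) :=
    ⟨fun c d x => by
      rw [hsmul M c (d • x), Algebra.smul_def, mul_smul]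
      rfl⟩
  haveI : ∀ i, IsScalarTower (A ⊗[k] MvPolynomial (Fin s) k) (A ⊗[k] B) (N i ⊗[k] B) :=
    fun i => ⟨fun c d x => by
      rw [hsmul (N i) c (d • x), Algebra.smul_def, mul_smul]
      rfl⟩
  exact HProp.of_integral (C := A ⊗[k] MvPolynomial (Fin s) k) (D := A ⊗[k] B)
    (fun i => uT k A B B (u i)) (fun h x hx => H2 h x hx)

end Domain

section Devissage

attribute [local instance] actModule

variable (k : Type u) [Field k] (A : Type u) [CommRing A] [Algebra k A]
  {ι : Type u} {M : Type u} [AddCommGroup M] [Module k M] [Module A M] [IsScalarTower k A M]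
  {N : ι → Type u} [∀ i, AddCommGroup (N i)] [∀ i, Module k (N i)] [∀ i, Module A (N i)]
  [∀ i, IsScalarTower k A (N i)] (u : ∀ i, M →ₗ[A] N i)

/-- the case of a quotient by a prime -/
theorem hprop_quotient (H : HProp u) (B : Type u) [CommRing B] [Algebra k B]
    [Algebra.FiniteType k B] (p : Ideal B) [p.IsPrime] :
    HProp (fun i => uT k A B (B ⧸ p) (u i)) := by
  haveI : Algebra.FiniteType k (B ⧸ p) :=
    Algebra.FiniteType.of_surjective (Ideal.Quotient.mkₐ k p) (Ideal.Quotient.mkₐ_surjective k p)
  have H1 := hprop_domain k A u H (B ⧸ p)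
  refine HProp.of_family
    ((Algebra.TensorProduct.map (AlgHom.id k A) (Ideal.Quotient.mkₐ k p)).toRingHom) _
    (L := Unit) (M' := fun _ => M ⊗[k] (B ⧸ p)) (N' := fun _ i => N i ⊗[k] (B ⧸ p))
    (fun _ i => uT k A (B ⧸ p) (B ⧸ p) (u i))
    (fun _ => AddMonoidHom.id _) (fun _ h x => ?_) (fun x hx => hx ())
    (fun _ i => AddMonoidHom.id _) (fun _ i x => rfl) (fun _ => H1)
  simp only [AddMonoidHom.id_apply]
  rw [smul_def, smul_def]
  exact act_map k A B M (B ⧸ p) (Ideal.Quotient.mkₐ k p) (fun b q => Algebra.smul_def b q) h x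

set_option maxHeartbeats 1600000 in
/-- dévissage: all finite modules over a finitely generated algebra -/
theorem hprop_module (H : HProp u) (B : Type u) [CommRing B] [Algebra k B]
    [Algebra.FiniteType k B] (Q : Type u) [AddCommGroup Q] [Module B Q] [Module.Finite B Q]
    [Module k Q] [IsScalarTower k B Q] : HProp (fun i => uT k A B Q (u i)) := by
  haveI : IsNoetherianRing B := Algebra.FiniteType.isNoetherianRing k B
  have key : ∀ (_ : Module k Q) (_ : IsScalarTower k B Q), HProp (fun i => uT k A B Q (u i)) := by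
    refine IsNoetherianRing.induction_on_isQuotientEquivQuotientPrime B (M := Q) inferInstance
      (motive := fun Q' _ _ _ => ∀ (_ : Module k Q') (_ : IsScalarTower k B Q'),
        HProp (fun i => uT k A B Q' (u i))) ?_ ?_ ?_
    · intro Q' _ _ _ _ _ _ h x _
      have hx : ∀ y : M ⊗[k] Q', y = 0 := by
        intro y
        induction y using TensorProduct.induction_on with
        | zero => rfl
        | tmul m q => rw [Subsingleton.elim q 0, TensorProduct.tmul_zero]
        | add y₁ y₂ e₁ e₂ => rw [e₁, e₂, add_zero]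
      exact ⟨0, hx _⟩
    · intro Q' _ _ _ p e _ _
      haveI := p.2
      have H1 := hprop_quotient k A u H B p.1
      refine HProp.of_injective _ _ (gT k A B M e.toLinearMap) ?_
        (fun i => gT k A B (N i) e.toLinearMap)
        (fun i x => gT_uT k A B M (u i) e.toLinearMap x) H1
      exact Module.Flat.lTensor_preserves_injective_linearMap (M := M)
        (e.toLinearMap.restrictScalars k) e.injective
    · intro Q₁ _ _ _ Q₂ _ _ _ Q₃ _ _ _ f g hf hg hfg ih₁ ih₃ _ _
      letI : Module k Q₁ := Module.compHom Q₁ (algebraMap k B)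
      haveI : IsScalarTower k B Q₁ := IsScalarTower.of_algebraMap_smul (fun _ _ => rfl)
      letI : Module k Q₃ := Module.compHom Q₃ (algebraMap k B)
      haveI : IsScalarTower k B Q₃ := IsScalarTower.of_algebraMap_smul (fun _ _ => rfl)
      have H₁ := ih₁ inferInstance inferInstance
      have H₃ := ih₃ inferInstance inferInstance
      refine HProp.of_exact (fun i => uT k A B Q₁ (u i)) (fun i => uT k A B Q₂ (u i))
        (fun i => uT k A B Q₃ (u i)) (gT k A B M f) (gT k A B M g) ?_
        (fun i => gT k A B (N i) f) (fun i => gT k A B (N i) g) ?_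
        (fun i x => gT_uT k A B M (u i) f x) (fun i x => gT_uT k A B M (u i) g x) H₁ H₃
      · intro x hx
        have hex : Function.Exact ((f.restrictScalars k).lTensor M)
            ((g.restrictScalars k).lTensor M) :=
          lTensor_exact M (f := f.restrictScalars k) (g := g.restrictScalars k) hfg hg
        exact (hex x).mp hx
      · intro i
        exact Module.Flat.lTensor_preserves_injective_linearMap (M := N i)
          (f.restrictScalars k) hf
  exact key inferInstance inferInstance

/-- finitely generated algebras -/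
theorem hprop_fg (H : HProp u) (B : Type u) [CommRing B] [Algebra k B]
    [Algebra.FiniteType k B] : HProp (fun i => uT k A B B (u i)) :=
  hprop_module k A u H B B

end Devissage

section General

attribute [local instance] actModule

variable (k : Type u) [Field k] (A : Type u) [CommRing A] [Algebra k A]
  {ι : Type u} {M : Type u} [AddCommGroup M] [Module k M] [Module A M] [IsScalarTower k A M]
  {N : ι → Type u} [∀ i, AddCommGroup (N i)] [∀ i, Module k (N i)] [∀ i, Module A (N i)]
  [∀ i, IsScalarTower k A (N i)] (u : ∀ i, M →ₗ[A] N i)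

lemma exists_finset_range (B : Type u) [CommRing B] [Algebra k B] (M' : Type u) [AddCommGroup M']
    [Module k M'] (x : M' ⊗[k] B) :
    ∃ S : Finset B, ∀ B₀ : Subalgebra k B, (S : Set B) ⊆ B₀ →
      x ∈ LinearMap.range (B₀.val.toLinearMap.lTensor M') := by
  classical
  induction x using TensorProduct.induction_on with
  | zero => exact ⟨∅, fun B₀ _ => Submodule.zero_mem _⟩
  | tmul m b =>
    refine ⟨{b}, fun B₀ hB₀ => ⟨m ⊗ₜ ⟨b, hB₀ (by simp)⟩, ?_⟩⟩
    simp
  | add x y hx hy =>
    obtain ⟨S₁, h₁⟩ := hx
    obtain ⟨S₂, h₂⟩ := hy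
    refine ⟨S₁ ∪ S₂, fun B₀ hB₀ => Submodule.add_mem _ (h₁ B₀ ?_) (h₂ B₀ ?_)⟩
    · exact fun b hb => hB₀ (by simp [Finset.mem_coe.mp hb])
    · exact fun b hb => hB₀ (by simp [Finset.mem_coe.mp hb])

set_option maxHeartbeats 1600000 in
/-- arbitrary `k`-algebras -/
theorem hprop_all (H : HProp u) (B : Type u) [CommRing B] [Algebra k B] :
    HProp (fun i => uT k A B B (u i)) := by
  classical
  intro h x hx
  obtain ⟨S₁, h₁⟩ := exists_finset_range k B A h
  obtain ⟨S₂, h₂⟩ := exists_finset_range k B M x
  set B₀ : Subalgebra k B := Algebra.adjoin k ((S₁ ∪ S₂ : Finset B) : Set B) with hB₀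
  have hS₁ : (S₁ : Set B) ⊆ B₀ := fun b hb =>
    Algebra.subset_adjoin (by simp [Finset.mem_coe.mp hb])
  have hS₂ : (S₂ : Set B) ⊆ B₀ := fun b hb =>
    Algebra.subset_adjoin (by simp [Finset.mem_coe.mp hb])
  obtain ⟨h₀, hh₀⟩ := h₁ B₀ hS₁
  obtain ⟨x₀, hx₀⟩ := h₂ B₀ hS₂
  haveI : Algebra.FiniteType k B₀ :=
    (Subalgebra.fg_iff_finiteType B₀).mp (Subalgebra.fg_adjoin_finset _)
  have H₀ := hprop_fg k A u H B₀
  -- the inclusion
  have hact : ∀ (P' : Type u) [AddCommGroup P'] [Module k P'] [Module A P']
      [IsScalarTower k A P'] (c : A ⊗[k] B₀) (y : P' ⊗[k] B),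
      act k A B₀ P' B c y =
        act k A B P' B (Algebra.TensorProduct.map (AlgHom.id k A) B₀.val c) y := by
    intro P' _ _ _ _ c y
    exact act_map k A B₀ P' B B₀.val (fun b q => Algebra.smul_def b q) c y
  have hhφ : Algebra.TensorProduct.map (AlgHom.id k A) B₀.val h₀ = h := by
    rw [← hh₀]
    rfl
  have hinc : ∀ (n : ℕ), h ^ n • x =
      gT k A B₀ M (Algebra.linearMap B₀ B) (h₀ ^ n • x₀) := by
    intro n
    have e1 : Algebra.TensorProduct.map (AlgHom.id k A) B₀.val (h₀ ^ n) = h ^ n := by
      rw [map_pow, hhφ]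
    rw [map_smul, smul_def, smul_def, hact M, e1, ← hx₀]
    rfl
  have hyp₀ : Hyp (fun i => uT k A B₀ B₀ (u i)) h₀ x₀ := by
    intro i
    obtain ⟨n, hn⟩ := hx i
    refine ⟨n, ?_⟩
    have hinj : Function.Injective (gT k A B₀ (N i) (Algebra.linearMap B₀ B)) :=
      Module.Flat.lTensor_preserves_injective_linearMap (M := N i)
        ((Algebra.linearMap B₀ B).restrictScalars k) Subtype.val_injective
    apply hinj
    rw [map_zero, gT_uT]
    rw [hinc n] at hn
    exact hn
  obtain ⟨n, hn⟩ := H₀ h₀ x₀ hyp₀
  exact ⟨n, by rw [hinc n, hn, map_zero]⟩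

end General

section Final

/-- **Main algebraic theorem**: base change along `A → A ⊗[k] B` for a field `k` preserves the
property of being a separating family on all basic opens. -/
theorem presH_tensor (k : Type u) [Field k] (A : Type u) [CommRing A] [Algebra k A]
    (B : Type u) [CommRing B] [Algebra k B] : PresH A (A ⊗[k] B) := by
  intro ι M _ _ N _ _ u H
  letI : Module k M := Module.compHom M (algebraMap k A)
  haveI : IsScalarTower k A M := IsScalarTower.of_algebraMap_smul (fun _ _ => rfl)
  letI : ∀ i, Module k (N i) := fun i => Module.compHom (N i) (algebraMap k A)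
  haveI : ∀ i, IsScalarTower k A (N i) := fun i =>
    IsScalarTower.of_algebraMap_smul (fun _ _ => rfl)
  exact hprop_baseChange_of_uT k A B u (hprop_all k A u H B)

end Final

end Groth.Agent.Helper7.SepField
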