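import Mathlib
import Groth.Agent.Lib.Helper7.SepField

/-!
# Separating families: the interface theorem (helper7)
-/

set_option autoImplicit false
set_option linter.style.haveILetI false

open TensorProduct

universe u

namespace Groth.Agent.Helper7.SepCore

open Groth.Agent.Helper7.SepAbs Groth.Agent.Helper7.SepBC Groth.Agent.Helper7.SepField

theorem presH_of_isPushout {k A B C : Type u} [CommRing k] (hk : IsField k) [CommRing A]
    [CommRing B] [CommRing C] [Algebra k A] [Algebra k B] [Algebra A C] [Algebra B C] [Algebra k C]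
    [IsScalarTower k A C] [IsScalarTower k B C] [Algebra.IsPushout k A B C] : PresH A C := by
  letI := hk.toField
  exact PresH.of_algEquiv (Algebra.IsPushout.equiv k A B C) (presH_tensor k A B)

/-- `HProp` passes to base changes (in `IsBaseChange` form) -/
theorem hprop_of_isBaseChange {A C : Type u} [CommRing A] [CommRing C] [Algebra A C]
    (hAC : PresH A C) {ι : Type u}
    {M M' : Type u} [AddCommGroup M] [Module A M] [AddCommGroup M'] [Module C M'] [Module A M']
    [IsScalarTower A C M']
    {N N' : ι → Type u} [∀ i, AddCommGroup (N i)] [∀ i, Module A (N i)]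
    [∀ i, AddCommGroup (N' i)] [∀ i, Module C (N' i)] [∀ i, Module A (N' i)]
    [∀ i, IsScalarTower A C (N' i)]
    (j : M →ₗ[A] M') (hj : IsBaseChange C j) (jN : ∀ i, N i →ₗ[A] N' i)
    (hjN : ∀ i, IsBaseChange C (jN i))
    (u : ∀ i, M →ₗ[A] N i) (u' : ∀ i, M' →ₗ[C] N' i) (hcomm : ∀ i m, u' i (j m) = jN i (u i m))
    (H : HProp u) : HProp u' := by
  have H1 := hAC ι M N u H
  refine HProp.of_injective _ _ hj.equiv.symm.toLinearMap hj.equiv.symm.injective
    (fun i => (hjN i).equiv.symm.toLinearMap) (fun i x => ?_) H1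
  apply (hjN i).equiv.injective
  simp only [LinearEquiv.coe_coe, LinearEquiv.apply_symm_apply]
  obtain ⟨y, rfl⟩ := hj.equiv.surjective x
  rw [LinearEquiv.symm_apply_apply]
  induction y using TensorProduct.induction_on with
  | zero => simp
  | tmul c m =>
    rw [LinearMap.baseChange_tmul, IsBaseChange.equiv_tmul, IsBaseChange.equiv_tmul, map_smul,
      hcomm]
  | add y₁ y₂ e₁ e₂ => simp only [map_add, e₁, e₂]

end Groth.Agent.Helper7.SepCore
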