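import Mathlib

/-!
# Fibrewise injectivity of a linear map under base change (helper7)

* `baseChange_injective_iff_of_isBaseChange`: for a commutative square of linear maps whose
  vertical arrows are base changes along `R₀ → R`, tensoring the two rows with an `R`-algebra `k`
  gives maps which are simultaneously injective.
* `baseChange_injective_iff_of_faithfullyFlat`: passing from a field `k₀` to a larger field `k`.
* `baseChange_injective_iff_of_free_ker`: if kernel, image and cokernel of `φ` are free / flat,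
  then `k ⊗ φ` is injective iff `ker φ = 0` (for `k` nontrivial).
-/

set_option autoImplicit false
set_option linter.style.haveILetI false
set_option linter.unusedSectionVars false

universe u

open TensorProduct Function

namespace Groth.Agent.Helper7.FibreInj

section BC

variable {R₀ R k : Type*} [CommRing R₀] [CommRing R] [CommRing k] [Algebra R₀ R] [Algebra R k]
  [Algebra R₀ k] [IsScalarTower R₀ R k]
  {M₀ N₀ M N : Type*} [AddCommGroup M₀] [Module R₀ M₀] [AddCommGroup N₀] [Module R₀ N₀]
  [AddCommGroup M] [Module R M] [Module R₀ M] [IsScalarTower R₀ R M]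
  [AddCommGroup N] [Module R N] [Module R₀ N] [IsScalarTower R₀ R N]

/-- the comparison isomorphism `k ⊗[R₀] M₀ ≃ k ⊗[R] M` for a base change `M₀ → M`. -/
noncomputable def fibEquiv (α : M₀ →ₗ[R₀] M) (hα : IsBaseChange R α) :
    k ⊗[R₀] M₀ ≃ₗ[k] k ⊗[R] M :=
  (hα.comp (TensorProduct.isBaseChange R M k)).equiv

theorem fibEquiv_tmul (α : M₀ →ₗ[R₀] M) (hα : IsBaseChange R α) (a : k) (m : M₀) :
    fibEquiv (k := k) α hα (a ⊗ₜ m) = a ⊗ₜ[R] α m := by
  unfold fibEquiv
  rw [IsBaseChange.equiv_tmul]
  simp [TensorProduct.smul_tmul']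

theorem baseChange_injective_iff_of_isBaseChange
    (φ₀ : M₀ →ₗ[R₀] N₀) (φ : M →ₗ[R] N) (α : M₀ →ₗ[R₀] M) (β : N₀ →ₗ[R₀] N)
    (hα : IsBaseChange R α) (hβ : IsBaseChange R β) (h : ∀ x, β (φ₀ x) = φ (α x)) :
    Injective (φ.baseChange k) ↔ Injective (φ₀.baseChange k) := by
  have hsq : ∀ z, (φ.baseChange k) (fibEquiv (k := k) α hα z) =
      fibEquiv (k := k) β hβ ((φ₀.baseChange k) z) := by
    intro z
    induction z using TensorProduct.induction_on with
    | zero => simp
    | add a b ha hb => simp only [map_add, ha, hb]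
    | tmul a m =>
      rw [fibEquiv_tmul, LinearMap.baseChange_tmul, LinearMap.baseChange_tmul, fibEquiv_tmul, h]
  constructor
  · intro hinj x y hxy
    apply (fibEquiv (k := k) α hα).injective
    apply hinj
    rw [hsq, hsq, hxy]
  · intro hinj x y hxy
    obtain ⟨x', rfl⟩ := (fibEquiv (k := k) α hα).surjective x
    obtain ⟨y', rfl⟩ := (fibEquiv (k := k) α hα).surjective y
    rw [hsq, hsq] at hxy
    rw [hinj ((fibEquiv (k := k) β hβ).injective hxy)]

end BC

section FF

variable {R₀ k₀ k : Type*} [CommRing R₀] [CommRing k₀] [CommRing k] [Algebra R₀ k₀] [Algebra k₀ k]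
  [Algebra R₀ k] [IsScalarTower R₀ k₀ k] [Module.FaithfullyFlat k₀ k]
  {M₀ N₀ : Type*} [AddCommGroup M₀] [Module R₀ M₀] [AddCommGroup N₀] [Module R₀ N₀]

theorem baseChange_injective_iff_of_faithfullyFlat (φ₀ : M₀ →ₗ[R₀] N₀) :
    Injective (φ₀.baseChange k) ↔ Injective (φ₀.baseChange k₀) := by
  rw [← baseChange_injective_iff_of_isBaseChange (k := k) φ₀ (φ₀.baseChange k₀)
    (TensorProduct.mk R₀ k₀ M₀ 1) (TensorProduct.mk R₀ k₀ N₀ 1)
    (TensorProduct.isBaseChange R₀ M₀ k₀) (TensorProduct.isBaseChange R₀ N₀ k₀)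
    (fun x => by simp)]
  rw [LinearMap.baseChange_eq_ltensor]
  exact Module.FaithfullyFlat.lTensor_injective_iff_injective k₀ k _

end FF

section GP

variable {L κ : Type*} [CommRing L] [CommRing κ] [Algebra L κ] [Nontrivial κ]
  {K M I N C : Type*} [AddCommGroup K] [Module L K] [AddCommGroup M] [Module L M]
  [AddCommGroup I] [Module L I] [AddCommGroup N] [Module L N] [AddCommGroup C] [Module L C]

/-- If `φ = j ∘ ρ` with `0 → K → M → I → 0` and `0 → I → N → C → 0` exact, `I`, `C` flat and
`K` free, then `κ ⊗ φ` is injective iff `K = 0`. -/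
theorem baseChange_injective_iff_of_free_ker [Module.Flat L I] [Module.Flat L C] [Module.Free L K]
    (ι : K →ₗ[L] M) (ρ : M →ₗ[L] I) (j : I →ₗ[L] N) (c : N →ₗ[L] C)
    (hι : Injective ι) (hιρ : Exact ι ρ) (hρ : Surjective ρ)
    (hj : Injective j) (hjc : Exact j c) (hc : Surjective c) :
    Injective ((j ∘ₗ ρ).baseChange κ) ↔ Subsingleton K := by
  have hjκ : Injective (j.baseChange κ) := by
    rw [LinearMap.baseChange_eq_ltensor]
    exact LinearMap.lTensor_injective_of_exact_of_flat c hc j hj hjc κ
  have hικ : Injective (ι.baseChange κ) := by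
    rw [LinearMap.baseChange_eq_ltensor]
    exact LinearMap.lTensor_injective_of_exact_of_flat ρ hρ ι hι hιρ κ
  constructor
  · intro hinj
    have hz : ∀ z : κ ⊗[L] K, z = 0 := by
      intro z
      apply hικ
      apply hinj
      rw [map_zero, map_zero, ← LinearMap.comp_apply, ← LinearMap.baseChange_comp,
        LinearMap.comp_assoc, hιρ.linearMap_comp_eq_zero, LinearMap.comp_zero,
        LinearMap.baseChange_zero, LinearMap.zero_apply]
    by_contra hK
    rw [not_subsingleton_iff_nontrivial] at hK
    haveI : Module.Free κ (κ ⊗[L] K) := inferInstance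
    haveI : Nontrivial (κ ⊗[L] K) := by
      obtain ⟨⟨ιK, b⟩⟩ := Module.Free.exists_basis (R := L) (M := K)
      haveI : Nonempty ιK := by
        by_contra hne
        rw [not_nonempty_iff] at hne
        haveI := b.repr.toEquiv.subsingleton
        exact not_subsingleton K inferInstance
      let b' := Algebra.TensorProduct.basis κ b
      exact ⟨⟨b' (Classical.arbitrary ιK), 0, b'.ne_zero _⟩⟩
    obtain ⟨z, hz'⟩ := exists_ne (0 : κ ⊗[L] K)
    exact hz' (hz z)
  · intro hK
    have hρinj : Injective ρ := by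
      intro x y hxy
      have : ρ (x - y) = 0 := by rw [map_sub, hxy, sub_self]
      obtain ⟨z, hz⟩ := (hιρ (x - y)).mp this
      rw [Subsingleton.elim z 0, map_zero] at hz
      exact sub_eq_zero.mp hz.symm
    have hρb : Bijective ρ := ⟨hρinj, hρ⟩
    let e : M ≃ₗ[L] I := LinearEquiv.ofBijective ρ hρb
    have hρκ : Injective (ρ.baseChange κ) := by
      have : ρ.baseChange κ = (e.baseChange L κ M I : κ ⊗[L] M →ₗ[κ] κ ⊗[L] I) := by
        ext; simp [e]
      rw [this]
      exact (e.baseChange L κ M I).injective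
    rw [LinearMap.baseChange_comp]
    exact hjκ.comp hρκ

end GP

section Point

variable {R₀ k : Type*} [CommRing R₀] [Field k] [Algebra R₀ k]
  {M₀ N₀ : Type*} [AddCommGroup M₀] [Module R₀ M₀] [AddCommGroup N₀] [Module R₀ N₀]

/-- Fibrewise injectivity at a field-valued point only depends on the underlying prime. -/
theorem baseChange_injective_iff_residueField (q : Ideal R₀) [q.IsPrime]
    (hq : q = RingHom.ker (algebraMap R₀ k)) (φ₀ : M₀ →ₗ[R₀] N₀) :
    Injective (φ₀.baseChange k) ↔ Injective (φ₀.baseChange q.ResidueField) := by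
  have h1 : q ≤ RingHom.ker (algebraMap R₀ k) := hq ▸ le_rfl
  have h2 : q.primeCompl ≤ (IsUnit.submonoid k).comap (algebraMap R₀ k) := by
    intro x hx
    rw [Submonoid.mem_comap, IsUnit.mem_submonoid_iff, isUnit_iff_ne_zero]
    intro h0
    apply hx
    rw [hq]
    exact h0
  letI : Algebra q.ResidueField k := (Ideal.ResidueField.lift q (algebraMap R₀ k) h1 h2).toAlgebra
  haveI : IsScalarTower R₀ q.ResidueField k := IsScalarTower.of_algebraMap_eq fun r =>
    (Ideal.ResidueField.lift_algebraMap q (algebraMap R₀ k) h1 h2 r).symm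
  exact baseChange_injective_iff_of_faithfullyFlat (k₀ := q.ResidueField) (k := k) φ₀

end Point

end Groth.Agent.Helper7.FibreInj
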