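import Mathlib
import Groth.Agent.Lib.Helper7.FibreInj
import Groth.Agent.S0389

/-!
# Generic behaviour of fibrewise injectivity (helper7)

Over a domain `D`, for a linear map `φ'` of finite modules over a finite type Noetherian
`D`-algebra, there is `f ≠ 0` such that fibrewise injectivity of `φ'` is constant on `D(f)`.
-/

set_option autoImplicit false
set_option linter.style.haveILetI false
set_option linter.unusedSectionVars false

universe u

open TensorProduct Function

namespace Groth.Agent.Helper7.InjLocusGeneric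

open Groth.Agent.Helper7.FibreInj

section P

variable {R₀ R S₀ S : Type*} [CommRing R₀] [CommRing R] [CommRing S₀] [CommRing S]
  [Algebra R₀ R] [Algebra R₀ S₀] [Algebra R S] [Algebra S₀ S] [Algebra R₀ S]
  [IsScalarTower R₀ R S] [IsScalarTower R₀ S₀ S] [Algebra.IsPushout R₀ R S₀ S]
  {M₀ : Type*} [AddCommGroup M₀] [Module S₀ M₀] [Module R₀ M₀] [IsScalarTower R₀ S₀ M₀]
  {M : Type*} [AddCommGroup M] [Module S M] [Module R M] [IsScalarTower R S M] [Module S₀ M]
  [IsScalarTower S₀ S M] [Module R₀ M] [IsScalarTower R₀ R M] [IsScalarTower R₀ S₀ M]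

/-- A base change along `S₀ → S` is a base change along `R₀ → R` when `S = R ⊗ S₀`. -/
theorem isBaseChange_restrictScalars_of_isPushout (f : M₀ →ₗ[S₀] M) (hf : IsBaseChange S f) :
    IsBaseChange R (f.restrictScalars R₀) := by
  let e : R ⊗[R₀] M₀ ≃ₗ[R] M :=
    (Algebra.IsPushout.cancelBaseChange R₀ R S₀ S M₀).symm ≪≫ₗ (hf.equiv.restrictScalars R)
  refine IsBaseChange.of_equiv e fun m => ?_
  change hf.equiv ((Algebra.IsPushout.cancelBaseChange R₀ R S₀ S M₀).symm (1 ⊗ₜ m)) = f m
  rw [Algebra.IsPushout.cancelBaseChange_symm_tmul, map_one, IsBaseChange.equiv_tmul, one_smul]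

end P

section GD

variable {D B' : Type u} [CommRing D] [IsDomain D] [CommRing B'] [Algebra D B']
  [Algebra.FiniteType D B'] [IsNoetherianRing B']
  {M' N' : Type u} [AddCommGroup M'] [Module B' M'] [Module D M'] [IsScalarTower D B' M']
  [Module.Finite B' M']
  [AddCommGroup N'] [Module B' N'] [Module D N'] [IsScalarTower D B' N'] [Module.Finite B' N']

/-- Over `D_f` (for suitable `f ≠ 0`), fibrewise injectivity of `φ'` is equivalent to the
vanishing of the localized kernel. -/
theorem exists_forall_injective_iff (φ' : M' →ₗ[B'] N') :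
    ∃ f : D, f ≠ 0 ∧ ∀ (κ : Type u) [CommRing κ] [Nontrivial κ] [Algebra (Localization.Away f) κ],
      Injective (((φ'.restrictScalars D).baseChange (Localization.Away f)).baseChange κ) ↔
        Subsingleton (Localization.Away f ⊗[D] (LinearMap.ker φ')) := by
  classical
  haveI : IsNoetherian B' M' := isNoetherian_of_isNoetherianRing_of_finite B' M'
  obtain ⟨f₁, h10, h1⟩ := Groth.Agent.Helper2.GenericFree.exists_gfree (R := D) B'
    (LinearMap.ker φ')
  obtain ⟨f₂, h20, h2⟩ := Groth.Agent.Helper2.GenericFree.exists_gfree (R := D) B'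
    (LinearMap.range φ')
  obtain ⟨f₃, h30, h3⟩ := Groth.Agent.Helper2.GenericFree.exists_gfree (R := D) B'
    (N' ⧸ LinearMap.range φ')
  refine ⟨f₁ * f₂ * f₃, mul_ne_zero (mul_ne_zero h10 h20) h30, ?_⟩
  intro κ _ _ _
  set L := Localization.Away (f₁ * f₂ * f₃) with hL
  haveI g1 : Module.Free L (L ⊗[D] (LinearMap.ker φ')) :=
    Groth.Agent.S0389.free_tensor ((h1.mul h20).mul h30)
  haveI g2 : Module.Free L (L ⊗[D] (LinearMap.range φ')) :=
    Groth.Agent.S0389.free_tensor ((h2.mul' h10).mul h30)
  haveI g3 : Module.Free L (L ⊗[D] (N' ⧸ LinearMap.range φ')) :=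
    Groth.Agent.S0389.free_tensor (h3.mul' (mul_ne_zero h10 h20))
  let ι' : (LinearMap.ker φ') →ₗ[D] M' := (LinearMap.ker φ').subtype.restrictScalars D
  let ρ' : M' →ₗ[D] (LinearMap.range φ') := φ'.rangeRestrict.restrictScalars D
  let j' : (LinearMap.range φ') →ₗ[D] N' := (LinearMap.range φ').subtype.restrictScalars D
  let c' : N' →ₗ[D] (N' ⧸ LinearMap.range φ') := (LinearMap.range φ').mkQ.restrictScalars D
  have hι' : Injective ι' := Subtype.val_injective
  have hρ' : Surjective ρ' := φ'.surjective_rangeRestrict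
  have hj' : Injective j' := Subtype.val_injective
  have hc' : Surjective c' := Submodule.mkQ_surjective _
  have hιρ' : Exact ι' ρ' := by
    intro x
    constructor
    · intro hx
      refine ⟨⟨x, ?_⟩, rfl⟩
      rw [LinearMap.mem_ker]
      have : (ρ' x : N') = 0 := by rw [hx]; rfl
      exact this
    · rintro ⟨y, rfl⟩
      apply Subtype.ext
      exact y.2
  have hjc' : Exact j' c' := by
    intro x
    constructor
    · intro hx
      have : x ∈ LinearMap.range φ' := (Submodule.Quotient.mk_eq_zero _).mp hx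
      exact ⟨⟨x, this⟩, rfl⟩
    · rintro ⟨y, rfl⟩
      exact (Submodule.Quotient.mk_eq_zero _).mpr y.2
  have hφ' : φ'.restrictScalars D = j' ∘ₗ ρ' := by
    ext x
    rfl
  haveI : Module.Flat D L := IsLocalization.flat L (Submonoid.powers (f₁ * f₂ * f₃))
  have key := baseChange_injective_iff_of_free_ker (L := L) (κ := κ)
    (ι'.baseChange L) (ρ'.baseChange L) (j'.baseChange L) (c'.baseChange L)
    (by rw [LinearMap.baseChange_eq_ltensor]
        exact Module.Flat.lTensor_preserves_injective_linearMap _ hι')
    (by rw [LinearMap.baseChange_eq_ltensor, LinearMap.baseChange_eq_ltensor]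
        exact Module.Flat.lTensor_exact L hιρ')
    (by rw [LinearMap.baseChange_eq_ltensor]
        exact LinearMap.lTensor_surjective L hρ')
    (by rw [LinearMap.baseChange_eq_ltensor]
        exact Module.Flat.lTensor_preserves_injective_linearMap _ hj')
    (by rw [LinearMap.baseChange_eq_ltensor, LinearMap.baseChange_eq_ltensor]
        exact Module.Flat.lTensor_exact L hjc')
    (by rw [LinearMap.baseChange_eq_ltensor]
        exact LinearMap.lTensor_surjective L hc')
  rw [hφ', LinearMap.baseChange_comp]
  exact key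

end GD

end Groth.Agent.Helper7.InjLocusGeneric
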