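import Mathlib
import Groth.Prelude.Def_FlatMod2
import Groth.Agent.Lib.Helper18.PbCompat3
import Groth.Agent.Lib.Helper13.FlatOverAffine
import Groth.Agent.Lib.Helper7.InjLocusGeneric

/-!
# Sections of a pulled back module over the charts of a base change square (helper7)
-/

set_option autoImplicit false
set_option linter.style.haveILetI false
set_option linter.unusedSectionVars false
set_option maxRecDepth 8000

universe u

open CategoryTheory AlgebraicGeometry Limits Opposite TopologicalSpace TensorProduct Function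

namespace Groth.Agent.Helper7.ChartBC

open Groth.Agent.Helper13.Pullback Groth.Agent.Helper18.PbCompat OmegaSh
  Groth.Agent.Helper7.InjLocusGeneric

variable {X' Y' X Y : Scheme.{u}} {p : X' ⟶ X} {f' : X' ⟶ Y'} {f : X ⟶ Y} {q : Y' ⟶ Y}

section PullRes

variable (p) (F : X.Modules) {U : X.Opens} {U' : X'.Opens} (e1 : U' ≤ p ⁻¹ᵁ U)

/-- pull a section back and restrict it -/
noncomputable def pullRes (m : Γ(F, U)) : Γ((Scheme.Modules.pullback p).obj F, U') :=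
  ((Scheme.Modules.pullback p).obj F).presheaf.map (homOfLE e1).op (pullSect p F U m)

theorem map_app_pullRes {F G : X.Modules} (θ : F ⟶ G) (m : Γ(F, U)) :
    ((Scheme.Modules.pullback p).map θ).app U' (pullRes p F e1 m) =
      pullRes p G e1 (θ.app U m) := by
  unfold pullRes
  rw [hom_naturality, pullback_map_app]

end PullRes

section Chart

variable (H : IsPullback p f' f q) (F : X.Modules) [F.IsQuasicoherent]
  {V : Y.Opens} (hV : IsAffineOpen V) {U : X.Opens} (hU : IsAffineOpen U) (eUV : U ≤ f ⁻¹ᵁ V)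
  {V' : Y'.Opens} (hV' : IsAffineOpen V') (eV' : V' ≤ q ⁻¹ᵁ V)

include H hV hU eUV hV' eV' in
theorem isAffineOpen_chart : IsAffineOpen (p ⁻¹ᵁ U ⊓ f' ⁻¹ᵁ V') := by
  have : IsAffine _ := hV
  have : IsAffine _ := hV'
  have : IsAffine _ := hU
  exact .of_isIso (Scheme.Hom.isPullback_resLE H eV' eUV rfl).isoPullback.hom

include H hV hU hV' in
theorem isPushout_chart :
    IsPushout (f.appLE V U eUV) (q.appLE V V' eV')
      (p.appLE U (p ⁻¹ᵁ U ⊓ f' ⁻¹ᵁ V') inf_le_left)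
      (f'.appLE V' (p ⁻¹ᵁ U ⊓ f' ⁻¹ᵁ V') inf_le_right) :=
  (isIso_pushoutSection_iff H eV' eUV rfl).mp
    (isIso_pushoutSection_of_isAffineOpen H eV' eUV rfl hV hV' hU)

include H hV hU hV' in
set_option maxHeartbeats 3200000 in
set_option synthInstance.maxHeartbeats 400000 in
/-- **The chart lemma.** Over the affine chart `U' = p⁻¹ U ∩ f'⁻¹ V'` of a base change square,
the sections of `p^* F` are the base change of `Γ(F, U)` along `Γ(Y, V) → Γ(Y', V')`. -/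
theorem exists_isBaseChange_chart :
    letI := (q.appLE V V' eV').hom.toAlgebra
    letI : Module Γ(Y, V) Γ(F, U) := Module.compHom _ (f.appLE V U eUV).hom
    letI : Module Γ(Y', V') Γ((Scheme.Modules.pullback p).obj F, p ⁻¹ᵁ U ⊓ f' ⁻¹ᵁ V') :=
      Module.compHom _ (f'.appLE V' (p ⁻¹ᵁ U ⊓ f' ⁻¹ᵁ V') inf_le_right).hom
    letI : Module Γ(Y, V) Γ((Scheme.Modules.pullback p).obj F, p ⁻¹ᵁ U ⊓ f' ⁻¹ᵁ V') :=
      Module.compHom _ (algebraMap Γ(Y, V) Γ(Y', V'))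
    haveI : IsScalarTower Γ(Y, V) Γ(Y', V')
        Γ((Scheme.Modules.pullback p).obj F, p ⁻¹ᵁ U ⊓ f' ⁻¹ᵁ V') :=
      IsScalarTower.of_algebraMap_smul fun _ _ => rfl
    ∃ j : Γ(F, U) →ₗ[Γ(Y, V)] Γ((Scheme.Modules.pullback p).obj F, p ⁻¹ᵁ U ⊓ f' ⁻¹ᵁ V'),
      IsBaseChange Γ(Y', V') j ∧ ∀ m, j m = pullRes p F inf_le_left m := by
  have hU' := isAffineOpen_chart H hV hU eUV hV' eV'
  have hpoC := isPushout_chart H hV hU eUV hV' eV'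
  letI algVV' : Algebra Γ(Y, V) Γ(Y', V') := (q.appLE V V' eV').hom.toAlgebra
  letI algVU : Algebra Γ(Y, V) Γ(X, U) := (f.appLE V U eUV).hom.toAlgebra
  letI algUU' : Algebra Γ(X, U) Γ(X', p ⁻¹ᵁ U ⊓ f' ⁻¹ᵁ V') :=
    (p.appLE U (p ⁻¹ᵁ U ⊓ f' ⁻¹ᵁ V') inf_le_left).hom.toAlgebra
  letI algV'U' : Algebra Γ(Y', V') Γ(X', p ⁻¹ᵁ U ⊓ f' ⁻¹ᵁ V') :=
    (f'.appLE V' (p ⁻¹ᵁ U ⊓ f' ⁻¹ᵁ V') inf_le_right).hom.toAlgebra
  letI algVU' : Algebra Γ(Y, V) Γ(X', p ⁻¹ᵁ U ⊓ f' ⁻¹ᵁ V') :=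
    ((f'.appLE V' (p ⁻¹ᵁ U ⊓ f' ⁻¹ᵁ V') inf_le_right).hom.comp
      (algebraMap Γ(Y, V) Γ(Y', V'))).toAlgebra
  haveI tw1 : IsScalarTower Γ(Y, V) Γ(Y', V') Γ(X', p ⁻¹ᵁ U ⊓ f' ⁻¹ᵁ V') :=
    IsScalarTower.of_algebraMap_eq fun _ => rfl
  haveI tw2 : IsScalarTower Γ(Y, V) Γ(X, U) Γ(X', p ⁻¹ᵁ U ⊓ f' ⁻¹ᵁ V') :=
    IsScalarTower.of_algebraMap_eq fun r => by
      have := congrArg (fun ψ => ψ.hom r) hpoC.w
      exact this.symm
  have hpo1 : Algebra.IsPushout Γ(Y, V) Γ(X, U) Γ(Y', V') Γ(X', p ⁻¹ᵁ U ⊓ f' ⁻¹ᵁ V') :=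
    (CommRingCat.isPushout_iff_isPushout (R := Γ(Y, V)) (S := Γ(Y', V')) (R' := Γ(X, U))
      (S' := Γ(X', p ⁻¹ᵁ U ⊓ f' ⁻¹ᵁ V'))).mp hpoC
  haveI hpo : Algebra.IsPushout Γ(Y, V) Γ(Y', V') Γ(X, U) Γ(X', p ⁻¹ᵁ U ⊓ f' ⁻¹ᵁ V') := hpo1.symm
  letI modVF : Module Γ(Y, V) Γ(F, U) := Module.compHom _ (f.appLE V U eUV).hom
  haveI : IsScalarTower Γ(Y, V) Γ(X, U) Γ(F, U) := IsScalarTower.of_algebraMap_smul fun _ _ => rfl
  letI modV'L : Module Γ(Y', V') Γ((Scheme.Modules.pullback p).obj F, p ⁻¹ᵁ U ⊓ f' ⁻¹ᵁ V') :=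
    Module.compHom _ (f'.appLE V' (p ⁻¹ᵁ U ⊓ f' ⁻¹ᵁ V') inf_le_right).hom
  haveI : IsScalarTower Γ(Y', V') Γ(X', p ⁻¹ᵁ U ⊓ f' ⁻¹ᵁ V')
      Γ((Scheme.Modules.pullback p).obj F, p ⁻¹ᵁ U ⊓ f' ⁻¹ᵁ V') :=
    IsScalarTower.of_algebraMap_smul fun _ _ => rfl
  letI modUL : Module Γ(X, U) Γ((Scheme.Modules.pullback p).obj F, p ⁻¹ᵁ U ⊓ f' ⁻¹ᵁ V') :=
    Module.compHom _ (p.appLE U (p ⁻¹ᵁ U ⊓ f' ⁻¹ᵁ V') inf_le_left).hom
  haveI : IsScalarTower Γ(X, U) Γ(X', p ⁻¹ᵁ U ⊓ f' ⁻¹ᵁ V')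
      Γ((Scheme.Modules.pullback p).obj F, p ⁻¹ᵁ U ⊓ f' ⁻¹ᵁ V') :=
    IsScalarTower.of_algebraMap_smul fun _ _ => rfl
  letI modVL : Module Γ(Y, V) Γ((Scheme.Modules.pullback p).obj F, p ⁻¹ᵁ U ⊓ f' ⁻¹ᵁ V') :=
    Module.compHom _ (algebraMap Γ(Y, V) Γ(Y', V'))
  haveI : IsScalarTower Γ(Y, V) Γ(Y', V')
      Γ((Scheme.Modules.pullback p).obj F, p ⁻¹ᵁ U ⊓ f' ⁻¹ᵁ V') :=
    IsScalarTower.of_algebraMap_smul fun _ _ => rfl
  haveI : IsScalarTower Γ(Y, V) Γ(X, U)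
      Γ((Scheme.Modules.pullback p).obj F, p ⁻¹ᵁ U ⊓ f' ⁻¹ᵁ V') :=
    IsScalarTower.of_algebraMap_smul fun r m => by
      change (p.appLE U (p ⁻¹ᵁ U ⊓ f' ⁻¹ᵁ V') inf_le_left).hom ((f.appLE V U eUV).hom r) • m =
        (f'.appLE V' (p ⁻¹ᵁ U ⊓ f' ⁻¹ᵁ V') inf_le_right).hom ((q.appLE V V' eV').hom r) • m
      have := congrArg (fun ψ => ψ.hom r) hpoC.w
      exact congrArg (· • m) this
  let EF := sectionsPullbackEquiv p F hU' hU inf_le_left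
  let j₀ : Γ(F, U) →ₗ[Γ(X, U)] Γ((Scheme.Modules.pullback p).obj F, p ⁻¹ᵁ U ⊓ f' ⁻¹ᵁ V') :=
    (EF.symm.toLinearMap.restrictScalars Γ(X, U)) ∘ₗ
      (TensorProduct.mk Γ(X, U) Γ(X', p ⁻¹ᵁ U ⊓ f' ⁻¹ᵁ V') Γ(F, U) 1)
  have hj₀ : IsBaseChange Γ(X', p ⁻¹ᵁ U ⊓ f' ⁻¹ᵁ V') j₀ :=
    IsBaseChange.of_equiv EF.symm (fun _ => rfl)
  refine ⟨j₀.restrictScalars Γ(Y, V),
    isBaseChange_restrictScalars_of_isPushout (R₀ := Γ(Y, V)) (R := Γ(Y', V')) j₀ hj₀, fun m => ?_⟩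
  change EF.symm ((1 : Γ(X', p ⁻¹ᵁ U ⊓ f' ⁻¹ᵁ V')) ⊗ₜ[Γ(X, U)] m) = _
  rw [LinearEquiv.symm_apply_eq]
  exact (sectionsPullbackEquiv_pullSect p F hU' hU inf_le_left m).symm

end Chart

section Sections

variable (p) (F : X.Modules) [F.IsQuasicoherent] {U : X.Opens} (hU : IsAffineOpen U)
  {U' : X'.Opens} (hU' : IsAffineOpen U') (e1 : U' ≤ p ⁻¹ᵁ U)

include hU hU' in
/-- sections of a pulled back module over an affine open are the base change of the sections -/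
theorem exists_isBaseChange_sections :
    letI := (p.appLE U U' e1).hom.toAlgebra
    letI : Module Γ(X, U) Γ((Scheme.Modules.pullback p).obj F, U') :=
      Module.compHom _ (p.appLE U U' e1).hom
    haveI : IsScalarTower Γ(X, U) Γ(X', U') Γ((Scheme.Modules.pullback p).obj F, U') :=
      IsScalarTower.of_algebraMap_smul fun _ _ => rfl
    ∃ j : Γ(F, U) →ₗ[Γ(X, U)] Γ((Scheme.Modules.pullback p).obj F, U'),
      IsBaseChange Γ(X', U') j ∧ ∀ m, j m = pullRes p F e1 m := by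
  letI := (p.appLE U U' e1).hom.toAlgebra
  letI : Module Γ(X, U) Γ((Scheme.Modules.pullback p).obj F, U') :=
    Module.compHom _ (p.appLE U U' e1).hom
  haveI : IsScalarTower Γ(X, U) Γ(X', U') Γ((Scheme.Modules.pullback p).obj F, U') :=
    IsScalarTower.of_algebraMap_smul fun _ _ => rfl
  let EF := sectionsPullbackEquiv p F hU' hU e1
  let j₀ : Γ(F, U) →ₗ[Γ(X, U)] Γ((Scheme.Modules.pullback p).obj F, U') :=
    (EF.symm.toLinearMap.restrictScalars Γ(X, U)) ∘ₗ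
      (TensorProduct.mk Γ(X, U) Γ(X', U') Γ(F, U) 1)
  have hj₀ : IsBaseChange Γ(X', U') j₀ :=
    IsBaseChange.of_equiv EF.symm (fun _ => rfl)
  refine ⟨j₀, hj₀, fun m => ?_⟩
  change EF.symm ((1 : Γ(X', U')) ⊗ₜ[Γ(X, U)] m) = _
  rw [LinearEquiv.symm_apply_eq]
  exact (sectionsPullbackEquiv_pullSect p F hU' hU e1 m).symm

end Sections

end Groth.Agent.Helper7.ChartBC
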