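import Mathlib
import Groth.Prelude.Def_Coh
import Groth.Agent.Lib.Helper7.SepCore
import Groth.Agent.Lib.Helper7.ChartBC
import Groth.Agent.Lib.Helper13.QCoh
import Groth.Agent.Lib.Helper13.PullbackLocal

/-!
# Separating families of homomorphisms of quasi-coherent modules: base change over a field (helper7)
-/

set_option autoImplicit false
set_option linter.style.haveILetI false
set_option linter.unusedSectionVars false

open CategoryTheory AlgebraicGeometry Limits Opposite TopologicalSpace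

universe u

namespace Groth.Agent.Helper7.SepGeom

open Groth.Agent.Helper7.SepAbs Groth.Agent.Helper7.SepBC Groth.Agent.Helper7.SepCore
  Groth.Agent.Helper13.QCoh Groth.Agent.Helper18.PbCompat Groth.Agent.Helper7.ChartBC

variable {X : Scheme.{u}}

/-- the map on sections as a linear map -/
noncomputable def appLin {F G : X.Modules} (φ : F ⟶ G) (U : X.Opens) :
    Γ(F, U) →ₗ[Γ(X, U)] Γ(G, U) :=
  { toFun := fun m => φ.app U m
    map_add' := fun a b => map_add _ a b
    map_smul' := fun r m => Scheme.Modules.Hom.app_smul φ r m }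

lemma appLin_apply {F G : X.Modules} (φ : F ⟶ G) (U : X.Opens) (m : Γ(F, U)) :
    appLin φ U m = φ.app U m := rfl

section Local

variable (F : X.Modules) [F.IsQuasicoherent] {ι : Type u} (G : ι → X.Modules)
  [∀ i, (G i).IsQuasicoherent] (u : ∀ i, F ⟶ G i)

theorem eq_zero_of_hprop {U : X.Opens} (hU : IsAffineOpen U)
    (H : HProp (fun i => appLin (u i) U)) (f : Γ(X, U)) (t : Γ(F, X.basicOpen f))
    (ht : ∀ i, (u i).app (X.basicOpen f) t = 0) : t = 0 := by
  obtain ⟨n, c, hc⟩ := exists_pow_smul_eq_res F hU f t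
  have hyp : Hyp (fun i => appLin (u i) U) f c := fun i => by
    have h1 : (G i).presheaf.map (homOfLE (X.basicOpen_le f)).op ((u i).app U c) = 0 := by
      rw [← hom_naturality, hc, Scheme.Modules.Hom.app_smul, ht i, smul_zero]
    obtain ⟨m, hm⟩ := exists_pow_smul_eq_zero (G i) hU f _ h1
    refine ⟨m, ?_⟩
    change (u i).app U (f ^ m • c) = 0
    rw [Scheme.Modules.Hom.app_smul]
    exact hm
  obtain ⟨m, hm⟩ := H f c hyp
  have h2 : (X.presheaf.map (homOfLE (X.basicOpen_le f)).op f) ^ m •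
      F.presheaf.map (homOfLE (X.basicOpen_le f)).op c = 0 := by
    have h3 := congrArg (F.presheaf.map (homOfLE (X.basicOpen_le f)).op) hm
    rw [Scheme.Modules.map_smul, map_pow, map_zero] at h3
    exact h3
  rw [hc, smul_smul, ← pow_add] at h2
  have hunit : IsUnit (X.presheaf.map (homOfLE (X.basicOpen_le f)).op f) :=
    RingedSpace.isUnit_res_basicOpen _ f
  exact (hunit.pow (m + n)).smul_left_cancel.mp (h2.trans (smul_zero _).symm)

theorem isSep_of_hprop
    (H : ∀ x : X, ∃ U : X.Opens, IsAffineOpen U ∧ x ∈ U ∧ HProp (fun i => appLin (u i) U)) :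
    ∀ (V : X.Opens) (t : Γ(F, V)), (∀ i, (u i).app V t = 0) → t = 0 := by
  intro V t ht
  refine TopCat.Presheaf.section_ext (F := ⟨F.presheaf, F.isSheaf⟩) V t 0 (fun x hx => ?_)
  obtain ⟨U, hU, hxU, HU⟩ := H x
  obtain ⟨f, hfV, hxf⟩ := hU.exists_basicOpen_le (V := V) ⟨x, hx⟩ hxU
  have h1 : F.presheaf.map (homOfLE hfV).op t = 0 := by
    apply eq_zero_of_hprop F G u hU HU f
    intro i
    rw [hom_naturality, ht i, map_zero]
  have h2 := TopCat.Presheaf.germ_res_apply F.presheaf (homOfLE hfV) x hxf t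
  rw [map_zero]
  change F.presheaf.germ V x hx t = 0
  rw [← h2, h1, map_zero]

theorem hprop_of_isSep (h : ∀ (V : X.Opens) (t : Γ(F, V)), (∀ i, (u i).app V t = 0) → t = 0)
    {U : X.Opens} (hU : IsAffineOpen U) : HProp (fun i => appLin (u i) U) := by
  intro a x hx
  have h1 : F.presheaf.map (homOfLE (X.basicOpen_le a)).op x = 0 := by
    apply h (X.basicOpen a)
    intro i
    obtain ⟨n, hn⟩ := hx i
    have h2 : a ^ n • (u i).app U x = 0 := by
      rw [← Scheme.Modules.Hom.app_smul]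
      exact hn
    have h3 := congrArg ((G i).presheaf.map (homOfLE (X.basicOpen_le a)).op) h2
    rw [Scheme.Modules.map_smul, map_pow, map_zero] at h3
    have hunit : IsUnit (X.presheaf.map (homOfLE (X.basicOpen_le a)).op a) :=
      RingedSpace.isUnit_res_basicOpen _ a
    rw [hom_naturality]
    exact (hunit.pow n).smul_left_cancel.mp (h3.trans (smul_zero _).symm)
  exact exists_pow_smul_eq_zero F hU a x h1

end Local

section PullbackChart

variable {X' : Scheme.{u}} (pr : X' ⟶ X)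

set_option maxHeartbeats 3200000 in
set_option synthInstance.maxHeartbeats 400000 in
/-- the separation property passes to an affine chart of a pullback, provided the ring map
preserves `HProp` -/
theorem hprop_pullback_of_presH (F : X.Modules) [F.IsQuasicoherent] {ι : Type u}
    (G : ι → X.Modules) [∀ i, (G i).IsQuasicoherent] (u : ∀ i, F ⟶ G i)
    (h : ∀ (V : X.Opens) (t : Γ(F, V)), (∀ i, (u i).app V t = 0) → t = 0)
    {U : X.Opens} (hU : IsAffineOpen U) {U' : X'.Opens} (hU' : IsAffineOpen U')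
    (e1 : U' ≤ pr ⁻¹ᵁ U)
    (hP : letI := (pr.appLE U U' e1).hom.toAlgebra
      PresH Γ(X, U) Γ(X', U')) :
    HProp (fun i => appLin ((Scheme.Modules.pullback pr).map (u i)) U') := by
  letI algAC : Algebra Γ(X, U) Γ(X', U') := (pr.appLE U U' e1).hom.toAlgebra
  letI modF : Module Γ(X, U) Γ((Scheme.Modules.pullback pr).obj F, U') :=
    Module.compHom _ (pr.appLE U U' e1).hom
  haveI : IsScalarTower Γ(X, U) Γ(X', U') Γ((Scheme.Modules.pullback pr).obj F, U') :=
    IsScalarTower.of_algebraMap_smul fun _ _ => rfl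
  letI modG : ∀ i, Module Γ(X, U) Γ((Scheme.Modules.pullback pr).obj (G i), U') :=
    fun i => Module.compHom _ (pr.appLE U U' e1).hom
  haveI : ∀ i, IsScalarTower Γ(X, U) Γ(X', U') Γ((Scheme.Modules.pullback pr).obj (G i), U') :=
    fun i => IsScalarTower.of_algebraMap_smul fun _ _ => rfl
  obtain ⟨j, hj, hjm⟩ := exists_isBaseChange_sections pr F hU hU' e1
  have hG := fun i => exists_isBaseChange_sections pr (G i) hU hU' e1
  choose jN hjN hjNm using hG
  refine hprop_of_isBaseChange hP j hj jN hjN (fun i => appLin (u i) U) _ (fun i m => ?_)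
    (hprop_of_isSep F G u h hU)
  rw [hjm, hjNm, appLin_apply, appLin_apply, map_app_pullRes]

end PullbackChart

section Chart

variable {k : Type u} [Field k] {X S' : Scheme.{u}}
  (p : X ⟶ Spec (CommRingCat.of k)) (q : S' ⟶ Spec (CommRingCat.of k))

lemma isField_gammaSpec : IsField Γ(Spec (CommRingCat.of k), ⊤) :=
  MulEquiv.isField (Field.toIsField k)
    (Scheme.ΓSpecIso (CommRingCat.of k)).commRingCatIsoToRingEquiv.toMulEquiv

set_option maxHeartbeats 3200000 in
set_option synthInstance.maxHeartbeats 400000 in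
/-- `PresH` for the charts of a product over a field -/
theorem presH_chart {U : X.Opens} (hU : IsAffineOpen U) {W : S'.Opens} (hW : IsAffineOpen W) :
    letI := ((pullback.fst p q).appLE U ((pullback.fst p q) ⁻¹ᵁ U ⊓ (pullback.snd p q) ⁻¹ᵁ W)
      inf_le_left).hom.toAlgebra
    PresH Γ(X, U) Γ(pullback p q, (pullback.fst p q) ⁻¹ᵁ U ⊓ (pullback.snd p q) ⁻¹ᵁ W) := by
  have H : IsPullback (pullback.fst p q) (pullback.snd p q) p q := IsPullback.of_hasPullback p q
  have hV : IsAffineOpen (⊤ : (Spec (CommRingCat.of k)).Opens) := isAffineOpen_top _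
  have eUV : U ≤ p ⁻¹ᵁ ⊤ := le_top
  have eW : W ≤ q ⁻¹ᵁ ⊤ := le_top
  have hpo := isPushout_chart H hV hU eUV hW eW
  letI algkA : Algebra Γ(Spec (CommRingCat.of k), ⊤) Γ(X, U) := (p.appLE ⊤ U eUV).hom.toAlgebra
  letI algkB : Algebra Γ(Spec (CommRingCat.of k), ⊤) Γ(S', W) := (q.appLE ⊤ W eW).hom.toAlgebra
  letI algAC : Algebra Γ(X, U)
      Γ(pullback p q, (pullback.fst p q) ⁻¹ᵁ U ⊓ (pullback.snd p q) ⁻¹ᵁ W) :=
    ((pullback.fst p q).appLE U _ inf_le_left).hom.toAlgebra
  letI algBC : Algebra Γ(S', W)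
      Γ(pullback p q, (pullback.fst p q) ⁻¹ᵁ U ⊓ (pullback.snd p q) ⁻¹ᵁ W) :=
    ((pullback.snd p q).appLE W _ inf_le_right).hom.toAlgebra
  letI algkC : Algebra Γ(Spec (CommRingCat.of k), ⊤)
      Γ(pullback p q, (pullback.fst p q) ⁻¹ᵁ U ⊓ (pullback.snd p q) ⁻¹ᵁ W) :=
    ((algebraMap Γ(X, U) _).comp (algebraMap Γ(Spec (CommRingCat.of k), ⊤) Γ(X, U))).toAlgebra
  haveI : IsScalarTower Γ(Spec (CommRingCat.of k), ⊤) Γ(X, U)
      Γ(pullback p q, (pullback.fst p q) ⁻¹ᵁ U ⊓ (pullback.snd p q) ⁻¹ᵁ W) :=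
    IsScalarTower.of_algebraMap_eq (fun _ => rfl)
  haveI : IsScalarTower Γ(Spec (CommRingCat.of k), ⊤) Γ(S', W)
      Γ(pullback p q, (pullback.fst p q) ⁻¹ᵁ U ⊓ (pullback.snd p q) ⁻¹ᵁ W) := by
    refine IsScalarTower.of_algebraMap_eq (fun r => ?_)
    have hw := hpo.w
    exact congr($hw r)
  haveI : Algebra.IsPushout Γ(Spec (CommRingCat.of k), ⊤) Γ(X, U) Γ(S', W)
      Γ(pullback p q, (pullback.fst p q) ⁻¹ᵁ U ⊓ (pullback.snd p q) ⁻¹ᵁ W) :=
    CommRingCat.isPushout_iff_isPushout.mp hpo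
  exact presH_of_isPushout (k := Γ(Spec (CommRingCat.of k), ⊤)) (B := Γ(S', W)) isField_gammaSpec

set_option maxHeartbeats 3200000 in
set_option synthInstance.maxHeartbeats 400000 in
/-- the separation property on the charts of the product -/
theorem hprop_chart (F : X.Modules) [F.IsQuasicoherent] {ι : Type u} (G : ι → X.Modules)
    [∀ i, (G i).IsQuasicoherent] (u : ∀ i, F ⟶ G i)
    (h : ∀ (V : X.Opens) (t : Γ(F, V)), (∀ i, (u i).app V t = 0) → t = 0)
    {U : X.Opens} (hU : IsAffineOpen U) {W : S'.Opens} (hW : IsAffineOpen W) :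
    HProp (fun i => appLin ((Scheme.Modules.pullback (pullback.fst p q)).map (u i))
      ((pullback.fst p q) ⁻¹ᵁ U ⊓ (pullback.snd p q) ⁻¹ᵁ W)) := by
  have H : IsPullback (pullback.fst p q) (pullback.snd p q) p q := IsPullback.of_hasPullback p q
  have hV : IsAffineOpen (⊤ : (Spec (CommRingCat.of k)).Opens) := isAffineOpen_top _
  have eUV : U ≤ p ⁻¹ᵁ ⊤ := le_top
  have eW : W ≤ q ⁻¹ᵁ ⊤ := le_top
  have hU' : IsAffineOpen ((pullback.fst p q) ⁻¹ᵁ U ⊓ (pullback.snd p q) ⁻¹ᵁ W) :=
    isAffineOpen_chart H hV hU eUV hW eW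
  exact hprop_pullback_of_presH (pullback.fst p q) F G u h hU hU' inf_le_left
    (presH_chart p q hU hW)

/-- **Separating families are stable under base change over a field** (quasi-coherent case). -/
theorem isSep_pullback (F : X.Modules) [F.IsQuasicoherent] {ι : Type u} (G : ι → X.Modules)
    [∀ i, (G i).IsQuasicoherent] (u : ∀ i, F ⟶ G i)
    (h : ∀ (V : X.Opens) (t : Γ(F, V)), (∀ i, (u i).app V t = 0) → t = 0) :
    ∀ (V : (pullback p q).Opens)
      (t : Γ((Scheme.Modules.pullback (pullback.fst p q)).obj F, V)),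
      (∀ i, ((Scheme.Modules.pullback (pullback.fst p q)).map (u i)).app V t = 0) → t = 0 := by
  apply isSep_of_hprop
  intro x'
  obtain ⟨U, hU, hxU, -⟩ := TopologicalSpace.Opens.isBasis_iff_nbhd.mp X.isBasis_affineOpens
    (TopologicalSpace.Opens.mem_top ((pullback.fst p q) x'))
  obtain ⟨W, hW, hxW, -⟩ := TopologicalSpace.Opens.isBasis_iff_nbhd.mp S'.isBasis_affineOpens
    (TopologicalSpace.Opens.mem_top ((pullback.snd p q) x'))
  have H : IsPullback (pullback.fst p q) (pullback.snd p q) p q := IsPullback.of_hasPullback p q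
  refine ⟨(pullback.fst p q) ⁻¹ᵁ U ⊓ (pullback.snd p q) ⁻¹ᵁ W,
    isAffineOpen_chart H (isAffineOpen_top _) hU le_top hW le_top, ⟨hxU, hxW⟩,
    hprop_chart p q F G u h hU hW⟩

end Chart

end Groth.Agent.Helper7.SepGeom
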