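import Mathlib
import Groth.Agent.Lib.Helper7.SepCore
import Groth.Agent.Lib.Helper7.SepGeom

/-!
# Schematically dominant families: local criteria (helper7)
-/

set_option autoImplicit false
set_option linter.style.haveILetI false
set_option linter.unusedSectionVars false

open CategoryTheory AlgebraicGeometry Limits Opposite TopologicalSpace

universe u

namespace Groth.Agent.Helper7.SchDom

section Elem

variable {Z X : Scheme.{u}} (f : Z ⟶ X)

lemma appLE_res {U : X.Opens} {T₁ T₂ : Z.Opens} (e : T₁ ≤ f ⁻¹ᵁ U) (hT : T₂ ≤ T₁) (x : Γ(X, U)) :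
    Z.presheaf.map (homOfLE hT).op (f.appLE U T₁ e x) = f.appLE U T₂ (hT.trans e) x := by
  rw [← CommRingCat.comp_apply, Scheme.Hom.appLE_map]

lemma res_appLE {U₁ U₂ : X.Opens} (hU : U₂ ≤ U₁) {T : Z.Opens} (e : T ≤ f ⁻¹ᵁ U₂)
    (x : Γ(X, U₁)) :
    f.appLE U₂ T e (X.presheaf.map (homOfLE hU).op x) =
      f.appLE U₁ T (e.trans (f.preimage_mono hU)) x := by
  rw [← CommRingCat.comp_apply, Scheme.Hom.map_appLE]

lemma app_apply {U : X.Opens} (x : Γ(X, U)) : f.app U x = f.appLE U (f ⁻¹ᵁ U) le_rfl x := by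
  rw [Scheme.Hom.appLE_eq_app]

end Elem

variable {X : Scheme.{u}} {ι : Type u} {Z : ι → Scheme.{u}} (f : ∀ i, Z i ⟶ X)

/-- the separation property for the rings of sections over an open -/
def RingHProp (U : X.Opens) : Prop :=
  ∀ (a x : Γ(X, U)),
    (∀ (i : ι) (T : (Z i).Opens) (_ : IsAffineOpen T) (e : T ≤ f i ⁻¹ᵁ U),
      ∃ n : ℕ, (f i).appLE U T e (a ^ n * x) = 0) → ∃ n : ℕ, a ^ n * x = 0

/-- the family is schematically dominant -/
def IsSchDom : Prop := ∀ (V : X.Opens) (t : Γ(X, V)), (∀ i, (f i).app V t = 0) → t = 0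

theorem ringHProp_of_isSchDom (h : IsSchDom f) {U : X.Opens} (hU : IsAffineOpen U) :
    RingHProp f U := by
  intro a x hx
  have h1 : X.presheaf.map (homOfLE (X.basicOpen_le a)).op x = 0 := by
    apply h (X.basicOpen a)
    intro i
    refine TopCat.Presheaf.section_ext (Z i).sheaf _ _ 0 (fun z hz => ?_)
    obtain ⟨T, hT, hzT, eT⟩ := Opens.isBasis_iff_nbhd.mp (Z i).isBasis_affineOpens
      (show z ∈ f i ⁻¹ᵁ U from (f i).preimage_mono (X.basicOpen_le a) hz)
    obtain ⟨n, hn⟩ := hx i T hT eT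
    have hTa : (Z i).basicOpen ((f i).appLE U T eT a) = T ⊓ (f i) ⁻¹ᵁ (X.basicOpen a) :=
      Scheme.basicOpen_appLE (f i) T U eT a
    have hzTa : z ∈ (Z i).basicOpen ((f i).appLE U T eT a) := by
      rw [hTa]
      exact ⟨hzT, hz⟩
    have hle : (Z i).basicOpen ((f i).appLE U T eT a) ≤ (f i) ⁻¹ᵁ (X.basicOpen a) := by
      rw [hTa]
      exact inf_le_right
    have e1 : (Z i).presheaf.map (homOfLE hle).op ((f i).app (X.basicOpen a)
        (X.presheaf.map (homOfLE (X.basicOpen_le a)).op x)) =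
        (Z i).presheaf.map (homOfLE ((Z i).basicOpen_le ((f i).appLE U T eT a))).op
          ((f i).appLE U T eT x) := by
      rw [app_apply, appLE_res, res_appLE, appLE_res]
    have e2 : (Z i).presheaf.map (homOfLE ((Z i).basicOpen_le ((f i).appLE U T eT a))).op
        ((f i).appLE U T eT x) = 0 := by
      have hunit := RingedSpace.isUnit_res_basicOpen (Z i).toRingedSpace
        ((f i).appLE U T eT a)
      have h3 := congrArg
        ((Z i).presheaf.map (homOfLE ((Z i).basicOpen_le ((f i).appLE U T eT a))).op) hn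
      rw [map_mul, map_pow, map_mul, map_pow, map_zero] at h3
      exact (hunit.pow n).mul_left_cancel (h3.trans (mul_zero _).symm)
    have h4 := TopCat.Presheaf.germ_res_apply (Z i).presheaf (homOfLE hle) z hzTa
      ((f i).app (X.basicOpen a) (X.presheaf.map (homOfLE (X.basicOpen_le a)).op x))
    change (Z i).presheaf.germ (f i ⁻¹ᵁ X.basicOpen a) z hz ((f i).app (X.basicOpen a)
      (X.presheaf.map (homOfLE (X.basicOpen_le a)).op x)) =
      (Z i).presheaf.germ (f i ⁻¹ᵁ X.basicOpen a) z hz 0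
    rw [map_zero]
    refine h4.symm.trans ?_
    rw [e1, e2, map_zero]
  exact exists_pow_mul_eq_zero_of_res_basicOpen_eq_zero_of_isAffineOpen X hU x a h1

theorem isSchDom_of_ringHProp
    (H : ∀ x : X, ∃ U : X.Opens, IsAffineOpen U ∧ x ∈ U ∧ RingHProp f U) : IsSchDom f := by
  intro V t ht
  refine TopCat.Presheaf.section_ext X.sheaf V t 0 (fun x hx => ?_)
  obtain ⟨U, hU, hxU, HU⟩ := H x
  obtain ⟨g, hgV, hxg⟩ := hU.exists_basicOpen_le (V := V) ⟨x, hx⟩ hxU
  obtain ⟨n, c, hc⟩ := exists_eq_pow_mul_of_isAffineOpen X U hU g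
    (X.presheaf.map (homOfLE hgV).op t)
  have hc' : X.presheaf.map (homOfLE (X.basicOpen_le g)).op c =
      (X.presheaf.map (homOfLE (X.basicOpen_le g)).op g) ^ n *
        X.presheaf.map (homOfLE hgV).op t := hc
  have hyp : ∀ (i : ι) (T : (Z i).Opens) (_ : IsAffineOpen T) (e : T ≤ f i ⁻¹ᵁ U),
      ∃ m : ℕ, (f i).appLE U T e (g ^ m * c) = 0 := by
    intro i T hT e
    have hTg : (Z i).basicOpen ((f i).appLE U T e g) = T ⊓ (f i) ⁻¹ᵁ (X.basicOpen g) :=
      Scheme.basicOpen_appLE (f i) T U e g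
    have hle : (Z i).basicOpen ((f i).appLE U T e g) ≤ (f i) ⁻¹ᵁ (X.basicOpen g) := by
      rw [hTg]
      exact inf_le_right
    have e1 : (Z i).presheaf.map (homOfLE ((Z i).basicOpen_le ((f i).appLE U T e g))).op
        ((f i).appLE U T e c) =
        (f i).appLE (X.basicOpen g) ((Z i).basicOpen ((f i).appLE U T e g)) hle
          (X.presheaf.map (homOfLE (X.basicOpen_le g)).op c) := by
      rw [appLE_res, res_appLE]
    have e2 : (f i).appLE (X.basicOpen g) ((Z i).basicOpen ((f i).appLE U T e g)) hle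
        (X.presheaf.map (homOfLE hgV).op t) = 0 := by
      rw [res_appLE]
      have h5 := appLE_res (f i) (le_rfl : f i ⁻¹ᵁ V ≤ f i ⁻¹ᵁ V)
        (hle.trans ((f i).preimage_mono hgV)) t
      rw [← h5, ← app_apply, ht i, map_zero]
    have e3 : (Z i).presheaf.map (homOfLE ((Z i).basicOpen_le ((f i).appLE U T e g))).op
        ((f i).appLE U T e c) = 0 := by
      rw [e1, hc', map_mul, e2, mul_zero]
    obtain ⟨m, hm⟩ := exists_pow_mul_eq_zero_of_res_basicOpen_eq_zero_of_isAffineOpen (Z i) hT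
      ((f i).appLE U T e c) ((f i).appLE U T e g) e3
    exact ⟨m, by rw [map_mul, map_pow]; exact hm⟩
  obtain ⟨m, hm⟩ := HU g c hyp
  have h2 := congrArg (X.presheaf.map (homOfLE (X.basicOpen_le g)).op) hm
  rw [map_mul, map_pow, map_zero, hc', ← mul_assoc, ← pow_add] at h2
  have hunit := RingedSpace.isUnit_res_basicOpen X.toRingedSpace g
  have h3 : X.presheaf.map (homOfLE hgV).op t = 0 :=
    (hunit.pow (m + n)).mul_left_cancel (h2.trans (mul_zero _).symm)
  have h4 := TopCat.Presheaf.germ_res_apply X.presheaf (homOfLE hgV) x hxg t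
  change X.presheaf.germ V x hx t = X.presheaf.germ V x hx 0
  rw [map_zero]
  refine h4.symm.trans ?_
  rw [h3, map_zero]

end Groth.Agent.Helper7.SchDom
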