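import Mathlib
import Groth.Agent.Lib.Helper7.SchDom

/-!
# Schematically dominant families: charts of a base change (helper7)
-/

set_option autoImplicit false
set_option linter.style.haveILetI false
set_option linter.unusedSectionVars false

open CategoryTheory AlgebraicGeometry Limits Opposite TopologicalSpace

universe u

namespace Groth.Agent.Helper7.SchDom

open Groth.Agent.Helper7.SepAbs Groth.Agent.Helper7.SepBC Groth.Agent.Helper7.SepCore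
  Groth.Agent.Helper7.ChartBC

lemma appLE_congr_hom {Z X : Scheme.{u}} {g g' : Z ⟶ X} (h : g = g') (U : X.Opens) (T : Z.Opens)
    (e : T ≤ g ⁻¹ᵁ U) : g.appLE U T e = g'.appLE U T (h ▸ e) := by
  subst h
  rfl

section Paste

variable {X' Y' X Y : Scheme.{u}} {pr₁ : X' ⟶ X} {pr₂ : X' ⟶ Y'} {p : X ⟶ Y} {q : Y' ⟶ Y}
  (H : IsPullback pr₁ pr₂ p q)
  {Z Z' : Scheme.{u}} (f : Z ⟶ X) {pz₁ : Z' ⟶ Z} {pz₂ : Z' ⟶ Y'}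
  (HZ : IsPullback pz₁ pz₂ (f ≫ p) q) (f' : Z' ⟶ X') (hf₁ : f' ≫ pr₁ = pz₁ ≫ f)
  (hf₂ : f' ≫ pr₂ = pz₂)
  {V : Y.Opens} (hV : IsAffineOpen V) {U : X.Opens} (hU : IsAffineOpen U) (eUV : U ≤ p ⁻¹ᵁ V)
  {W : Y'.Opens} (hW : IsAffineOpen W) (eW : W ≤ q ⁻¹ᵁ V)
  {T : Z.Opens} (hT : IsAffineOpen T) (eT : T ≤ f ⁻¹ᵁ U)

include hf₁ hf₂ eT in
lemma chart_le : pz₁ ⁻¹ᵁ T ⊓ pz₂ ⁻¹ᵁ W ≤ f' ⁻¹ᵁ (pr₁ ⁻¹ᵁ U ⊓ pr₂ ⁻¹ᵁ W) := by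
  intro z hz
  refine ⟨?_, ?_⟩
  · change (f' ≫ pr₁) z ∈ U
    rw [hf₁]
    exact eT hz.1
  · change (f' ≫ pr₂) z ∈ W
    rw [hf₂]
    exact hz.2

include H HZ hV hU hW hT eUV eW in
set_option maxHeartbeats 1600000 in
theorem isPushout_chart_paste :
    IsPushout (f.appLE U T eT) (pr₁.appLE U (pr₁ ⁻¹ᵁ U ⊓ pr₂ ⁻¹ᵁ W) inf_le_left)
      (pz₁.appLE T (pz₁ ⁻¹ᵁ T ⊓ pz₂ ⁻¹ᵁ W) inf_le_left)
      (f'.appLE (pr₁ ⁻¹ᵁ U ⊓ pr₂ ⁻¹ᵁ W) (pz₁ ⁻¹ᵁ T ⊓ pz₂ ⁻¹ᵁ W)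
        (chart_le f f' hf₁ hf₂ eT)) := by
  have eTV : T ≤ (f ≫ p) ⁻¹ᵁ V := fun z hz => eUV (eT hz)
  have t := isPushout_chart H hV hU eUV hW eW
  have s := isPushout_chart HZ hV hT eTV hW eW
  have e1 : (f ≫ p).appLE V T eTV = p.appLE V U eUV ≫ f.appLE U T eT := by
    rw [Scheme.Hom.appLE_comp_appLE]
  have e2 : pz₂.appLE W (pz₁ ⁻¹ᵁ T ⊓ pz₂ ⁻¹ᵁ W) inf_le_right =
      pr₂.appLE W (pr₁ ⁻¹ᵁ U ⊓ pr₂ ⁻¹ᵁ W) inf_le_right ≫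
        f'.appLE (pr₁ ⁻¹ᵁ U ⊓ pr₂ ⁻¹ᵁ W) (pz₁ ⁻¹ᵁ T ⊓ pz₂ ⁻¹ᵁ W)
          (chart_le f f' hf₁ hf₂ eT) := by
    rw [Scheme.Hom.appLE_comp_appLE]
    exact appLE_congr_hom hf₂.symm _ _ _
  rw [e1, e2] at s
  refine IsPushout.of_left s ?_ t
  rw [Scheme.Hom.appLE_comp_appLE, Scheme.Hom.appLE_comp_appLE]
  exact appLE_congr_hom hf₁.symm _ _ _

end Paste

section Transfer

variable {X' Y' X Y : Scheme.{u}} {pr₁ : X' ⟶ X} {pr₂ : X' ⟶ Y'} {p : X ⟶ Y} {q : Y' ⟶ Y}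
  (H : IsPullback pr₁ pr₂ p q)
  {ι : Type u} {Z Z' : ι → Scheme.{u}} (f : ∀ i, Z i ⟶ X) {pz₁ : ∀ i, Z' i ⟶ Z i}
  {pz₂ : ∀ i, Z' i ⟶ Y'}
  (HZ : ∀ i, IsPullback (pz₁ i) (pz₂ i) (f i ≫ p) q) (f' : ∀ i, Z' i ⟶ X')
  (hf₁ : ∀ i, f' i ≫ pr₁ = pz₁ i ≫ f i) (hf₂ : ∀ i, f' i ≫ pr₂ = pz₂ i)
  {V : Y.Opens} (hV : IsAffineOpen V) {U : X.Opens} (hU : IsAffineOpen U) (eUV : U ≤ p ⁻¹ᵁ V)
  {W : Y'.Opens} (hW : IsAffineOpen W) (eW : W ≤ q ⁻¹ᵁ V)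

include H HZ hf₁ hf₂ hV hU eUV hW eW in
set_option maxHeartbeats 6400000 in
set_option synthInstance.maxHeartbeats 400000 in
/-- transfer of the separation property to a chart of the base change -/
theorem ringHProp_chart
    (hP : letI := (pr₁.appLE U (pr₁ ⁻¹ᵁ U ⊓ pr₂ ⁻¹ᵁ W) inf_le_left).hom.toAlgebra
      PresH Γ(X, U) Γ(X', pr₁ ⁻¹ᵁ U ⊓ pr₂ ⁻¹ᵁ W))
    (h : RingHProp f U) : RingHProp f' (pr₁ ⁻¹ᵁ U ⊓ pr₂ ⁻¹ᵁ W) := by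
  letI algAC : Algebra Γ(X, U) Γ(X', pr₁ ⁻¹ᵁ U ⊓ pr₂ ⁻¹ᵁ W) :=
    (pr₁.appLE U (pr₁ ⁻¹ᵁ U ⊓ pr₂ ⁻¹ᵁ W) inf_le_left).hom.toAlgebra
  let J := Σ i, {T : (Z i).Opens // IsAffineOpen T ∧ T ≤ f i ⁻¹ᵁ U}
  let T' : ∀ j : J, (Z' j.1).Opens := fun j => (pz₁ j.1) ⁻¹ᵁ j.2.1 ⊓ (pz₂ j.1) ⁻¹ᵁ W
  have hT'le : ∀ j : J, T' j ≤ f' j.1 ⁻¹ᵁ (pr₁ ⁻¹ᵁ U ⊓ pr₂ ⁻¹ᵁ W) := fun j =>
    chart_le (f j.1) (f' j.1) (hf₁ j.1) (hf₂ j.1) j.2.2.2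
  have hT'aff : ∀ j : J, IsAffineOpen (T' j) := fun j =>
    isAffineOpen_chart (HZ j.1) hV j.2.2.1 (fun z hz => eUV (j.2.2.2 hz)) hW eW
  let N : J → Type u := fun j => Γ(Z j.1, j.2.1)
  let N' : J → Type u := fun j => Γ(Z' j.1, T' j)
  letI algAN : ∀ j, Algebra Γ(X, U) (N j) := fun j =>
    ((f j.1).appLE U j.2.1 j.2.2.2).hom.toAlgebra
  letI algCN' : ∀ j, Algebra Γ(X', pr₁ ⁻¹ᵁ U ⊓ pr₂ ⁻¹ᵁ W) (N' j) := fun j =>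
    ((f' j.1).appLE (pr₁ ⁻¹ᵁ U ⊓ pr₂ ⁻¹ᵁ W) (T' j) (hT'le j)).hom.toAlgebra
  letI algNN' : ∀ j, Algebra (N j) (N' j) := fun j =>
    ((pz₁ j.1).appLE j.2.1 (T' j) inf_le_left).hom.toAlgebra
  letI algAN' : ∀ j, Algebra Γ(X, U) (N' j) := fun j =>
    ((algebraMap Γ(X', pr₁ ⁻¹ᵁ U ⊓ pr₂ ⁻¹ᵁ W) (N' j)).comp
      (algebraMap Γ(X, U) Γ(X', pr₁ ⁻¹ᵁ U ⊓ pr₂ ⁻¹ᵁ W))).toAlgebra
  haveI tACN' : ∀ j, IsScalarTower Γ(X, U) Γ(X', pr₁ ⁻¹ᵁ U ⊓ pr₂ ⁻¹ᵁ W) (N' j) := fun j =>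
    IsScalarTower.of_algebraMap_eq (fun _ => rfl)
  have hpo : ∀ j : J, IsPushout ((f j.1).appLE U j.2.1 j.2.2.2)
      (pr₁.appLE U (pr₁ ⁻¹ᵁ U ⊓ pr₂ ⁻¹ᵁ W) inf_le_left)
      ((pz₁ j.1).appLE j.2.1 (T' j) inf_le_left)
      ((f' j.1).appLE (pr₁ ⁻¹ᵁ U ⊓ pr₂ ⁻¹ᵁ W) (T' j) (hT'le j)) := fun j =>
    isPushout_chart_paste H (f j.1) (HZ j.1) (f' j.1) (hf₁ j.1) (hf₂ j.1) hV hU eUV hW eW
      j.2.2.1 j.2.2.2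
  haveI tANN' : ∀ j, IsScalarTower Γ(X, U) (N j) (N' j) := fun j => by
    refine IsScalarTower.of_algebraMap_eq (fun r => ?_)
    have hw := (hpo j).w
    exact (congr($hw r)).symm
  haveI hIP : ∀ j, Algebra.IsPushout Γ(X, U) (N j) Γ(X', pr₁ ⁻¹ᵁ U ⊓ pr₂ ⁻¹ᵁ W) (N' j) :=
    fun j => CommRingCat.isPushout_iff_isPushout.mp (hpo j)
  have hbc : ∀ j, IsBaseChange Γ(X', pr₁ ⁻¹ᵁ U ⊓ pr₂ ⁻¹ᵁ W)
      (IsScalarTower.toAlgHom Γ(X, U) (N j) (N' j)).toLinearMap := fun j =>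
    (Algebra.IsPushout.symm (hIP j)).out
  have H0 : HProp (fun j : J => Algebra.linearMap Γ(X, U) (N j)) := by
    intro a x hx
    exact h a x (fun i T hT e => hx ⟨i, T, hT, e⟩)
  have H1 : HProp (fun j : J =>
      Algebra.linearMap Γ(X', pr₁ ⁻¹ᵁ U ⊓ pr₂ ⁻¹ᵁ W) (N' j)) := by
    refine hprop_of_isBaseChange hP
      (Algebra.linearMap Γ(X, U) Γ(X', pr₁ ⁻¹ᵁ U ⊓ pr₂ ⁻¹ᵁ W)) (IsBaseChange.linearMap _ _)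
      (fun j => (IsScalarTower.toAlgHom Γ(X, U) (N j) (N' j)).toLinearMap) hbc
      (fun j => Algebra.linearMap Γ(X, U) (N j)) _ (fun j a => ?_) H0
    change algebraMap Γ(X', pr₁ ⁻¹ᵁ U ⊓ pr₂ ⁻¹ᵁ W) (N' j)
      (algebraMap Γ(X, U) Γ(X', pr₁ ⁻¹ᵁ U ⊓ pr₂ ⁻¹ᵁ W) a) =
      algebraMap (N j) (N' j) (algebraMap Γ(X, U) (N j) a)
    rw [← IsScalarTower.algebraMap_apply, ← IsScalarTower.algebraMap_apply]
  intro hh c hyp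
  exact H1 hh c (fun j => hyp j.1 (T' j) (hT'aff j) (hT'le j))

end Transfer

section Main

open Groth.Agent.Helper7.SepGeom

variable {k : Type u} [Field k] {X S' : Scheme.{u}}
  (p : X ⟶ Spec (CommRingCat.of k)) (q : S' ⟶ Spec (CommRingCat.of k))
  {ι : Type u} (Z : ι → Scheme.{u}) (f : ∀ i, Z i ⟶ X)

set_option maxHeartbeats 1600000 in
/-- **Schematically dominant families are stable under base change over a field.** -/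
theorem isSchDom_pullback (h : IsSchDom f) :
    IsSchDom (fun i => pullback.map (f i ≫ p) q p q (f i) (𝟙 S') (𝟙 _) (Category.comp_id _)
      ((Category.comp_id _).trans (Category.id_comp _).symm)) := by
  apply isSchDom_of_ringHProp
  intro x'
  obtain ⟨U, hU, hxU, -⟩ := TopologicalSpace.Opens.isBasis_iff_nbhd.mp X.isBasis_affineOpens
    (TopologicalSpace.Opens.mem_top ((pullback.fst p q) x'))
  obtain ⟨W, hW, hxW, -⟩ := TopologicalSpace.Opens.isBasis_iff_nbhd.mp S'.isBasis_affineOpens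
    (TopologicalSpace.Opens.mem_top ((pullback.snd p q) x'))
  have H : IsPullback (pullback.fst p q) (pullback.snd p q) p q := IsPullback.of_hasPullback p q
  have hV : IsAffineOpen (⊤ : (Spec (CommRingCat.of k)).Opens) := isAffineOpen_top _
  refine ⟨(pullback.fst p q) ⁻¹ᵁ U ⊓ (pullback.snd p q) ⁻¹ᵁ W,
    isAffineOpen_chart H hV hU le_top hW le_top, ⟨hxU, hxW⟩, ?_⟩
  refine ringHProp_chart H f (fun i => IsPullback.of_hasPullback (f i ≫ p) q) _ (fun i => ?_)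
    (fun i => ?_) hV hU le_top hW le_top (presH_chart p q hU hW) (ringHProp_of_isSchDom f h hU)
  · simp only [pullback.map]
    exact pullback.lift_fst _ _ _
  · simp only [pullback.map]
    exact (pullback.lift_snd _ _ _).trans (Category.comp_id _)

end Main

end Groth.Agent.Helper7.SchDom
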