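import Mathlib
import Groth.Agent.Lib.Helper7.SepBC

/-!
# Separating families: joint injectivity after base change, pushout transfer (helper7)
-/

set_option autoImplicit false
set_option linter.style.haveILetI false
set_option linter.unusedSectionVars false

open TensorProduct

universe u

namespace Groth.Agent.Helper7.SepFlat

open Groth.Agent.Helper7.SepAbs Groth.Agent.Helper7.SepBC

/-- base change along `A → C` turns families with `HProp` into jointly injective families -/
def JInj (A C : Type u) [CommRing A] [CommRing C] [Algebra A C] : Prop :=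
  ∀ (ι : Type u) (M : Type u) [AddCommGroup M] [Module A M] (N : ι → Type u)
    [∀ i, AddCommGroup (N i)] [∀ i, Module A (N i)] (u : ∀ i, M →ₗ[A] N i),
    HProp u → ∀ x : C ⊗[A] M, (∀ i, (u i).baseChange C x = 0) → x = 0

section PO

variable (A₁ A C₁ C : Type u) [CommRing A₁] [CommRing A] [CommRing C₁] [CommRing C]
  [Algebra A₁ A] [Algebra A₁ C₁] [Algebra A C] [Algebra C₁ C] [Algebra A₁ C]
  [IsScalarTower A₁ A C] [IsScalarTower A₁ C₁ C]
  (M : Type u) [AddCommGroup M] [Module A M] [Module A₁ M] [IsScalarTower A₁ A M]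

/-- the comparison map `C₁ ⊗[A₁] M → C ⊗[A] M` -/
noncomputable def poMap : C₁ ⊗[A₁] M →ₗ[A₁] C ⊗[A] M :=
  TensorProduct.lift
    (LinearMap.mk₂ A₁ (fun (c : C₁) (m : M) => algebraMap C₁ C c ⊗ₜ[A] m)
      (fun c c' m => by rw [map_add, add_tmul])
      (fun a c m => by
        rw [Algebra.smul_def, map_mul, ← IsScalarTower.algebraMap_apply, ← Algebra.smul_def,
          smul_tmul'])
      (fun c m m' => by rw [tmul_add])
      (fun a c m => by rw [tmul_smul]))

@[simp]
lemma poMap_tmul (c : C₁) (m : M) : poMap A₁ A C₁ C M (c ⊗ₜ m) = algebraMap C₁ C c ⊗ₜ[A] m := rfl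

variable [Algebra.IsPushout A₁ A C₁ C]

/-- the comparison map is an equivalence for a pushout square -/
noncomputable def poEquivAux : C ⊗[A] M ≃ₗ[A₁] C₁ ⊗[A₁] M :=
  ((LinearEquiv.rTensor M (Algebra.IsPushout.equiv A₁ A C₁ C).symm.toLinearEquiv).restrictScalars A₁)
    ≪≫ₗ ((TensorProduct.comm A (A ⊗[A₁] C₁) M).restrictScalars A₁)
    ≪≫ₗ ((TensorProduct.AlgebraTensorModule.cancelBaseChange A₁ A A M C₁).restrictScalars A₁)
    ≪≫ₗ (TensorProduct.comm A₁ M C₁)

lemma poEquivAux_poMap (z : C₁ ⊗[A₁] M) : poEquivAux A₁ A C₁ C M (poMap A₁ A C₁ C M z) = z := by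
  induction z using TensorProduct.induction_on with
  | zero => simp
  | tmul c m =>
    simp only [poMap_tmul, poEquivAux, LinearEquiv.trans_apply, LinearEquiv.restrictScalars_apply,
      LinearEquiv.rTensor_tmul, AlgEquiv.toLinearEquiv_apply,
      Algebra.IsPushout.equiv_symm_algebraMap_right, TensorProduct.comm_tmul,
      TensorProduct.AlgebraTensorModule.cancelBaseChange_tmul, one_smul]
  | add x y hx hy => simp only [map_add, hx, hy]

lemma poMap_bijective : Function.Bijective (poMap A₁ A C₁ C M) := by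
  have hinj : Function.Injective (poMap A₁ A C₁ C M) := fun a b hab => by
    rw [← poEquivAux_poMap A₁ A C₁ C M a, hab, poEquivAux_poMap]
  refine ⟨hinj, fun y => ⟨poEquivAux A₁ A C₁ C M y, ?_⟩⟩
  apply (poEquivAux A₁ A C₁ C M).injective
  rw [poEquivAux_poMap]

variable {M} in
lemma poMap_natural {N : Type u} [AddCommGroup N] [Module A N] [Module A₁ N] [IsScalarTower A₁ A N]
    (v : M →ₗ[A] N) (z : C₁ ⊗[A₁] M) :
    (v.baseChange C) (poMap A₁ A C₁ C M z) =
      poMap A₁ A C₁ C N (((v.restrictScalars A₁).baseChange C₁) z) := by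
  induction z using TensorProduct.induction_on with
  | zero => simp
  | tmul c m => simp
  | add x y hx hy => simp only [map_add, hx, hy]

lemma poMap_smul (c : C₁) (z : C₁ ⊗[A₁] M) :
    poMap A₁ A C₁ C M (c • z) = algebraMap C₁ C c • poMap A₁ A C₁ C M z := by
  induction z using TensorProduct.induction_on with
  | zero => simp
  | tmul c' m => simp [smul_tmul', map_mul, Algebra.smul_def]
  | add x y hx hy => simp only [smul_add, map_add, hx, hy]

end PO


section Loc

/-- joint injectivity for a principal localization -/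
theorem jinj_away {R : Type u} [CommRing R] (s : R) (L : Type u) [CommRing L] [Algebra R L]
    [IsLocalization.Away s L] : JInj R L := by
  intro ι Q _ _ Q' _ _ v H x hx
  obtain ⟨⟨q, t⟩, hq⟩ := IsLocalizedModule.surj (Submonoid.powers s) (TensorProduct.mk R L Q 1) x
  simp only [TensorProduct.mk_apply] at hq
  have hyp : Hyp v s q := by
    intro i
    have h1 : (TensorProduct.mk R L (Q' i) 1) (v i q) = 0 := by
      have h2 : (v i).baseChange L (t • x) = 0 := by
        rw [Submonoid.smul_def, ← algebraMap_smul L, map_smul, hx i, smul_zero]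
      rw [hq, LinearMap.baseChange_tmul] at h2
      exact h2
    obtain ⟨⟨_, n, rfl⟩, hn⟩ :=
      (IsLocalizedModule.eq_zero_iff (Submonoid.powers s) (TensorProduct.mk R L (Q' i) 1)).mp h1
    refine ⟨n, ?_⟩
    rw [map_smul]
    exact hn
  obtain ⟨n, hn⟩ := H s q hyp
  have h3 : (TensorProduct.mk R L Q 1) q = 0 :=
    (IsLocalizedModule.eq_zero_iff (Submonoid.powers s) (TensorProduct.mk R L Q 1)).mpr
      ⟨⟨s ^ n, n, rfl⟩, hn⟩
  simp only [TensorProduct.mk_apply] at h3
  rw [h3] at hq
  exact IsLocalizedModule.smul_injective (TensorProduct.mk R L Q 1) t (hq.trans (smul_zero _).symm)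

end Loc

end Groth.Agent.Helper7.SepFlat
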