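import Mathlib
import Groth.Agent.Lib.Helper7.SepFlat1
import Groth.Agent.Lib.Helper16.Alg.GenRF5

/-!
# Separating families: the generic step over a domain (helper7)
-/

set_option autoImplicit false
set_option linter.style.haveILetI false
set_option linter.unusedSectionVars false

open TensorProduct

universe u

namespace Groth.Agent.Helper7.SepFlat

open Groth.Agent.Helper7.SepAbs Groth.Agent.Helper7.SepBC

section Gam

variable {R : Type u} [CommRing R] (L D : Type u) [CommRing L] [Algebra R L] [CommRing D]
  [Algebra R D] (c : L ⊗[R] D →ₗ[R] L) (P : Type u) [AddCommGroup P] [Module R P]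

/-- coordinate map `D ⊗ P → L ⊗ P` attached to a linear form on `L ⊗ D` -/
noncomputable def gam : D ⊗[R] P →ₗ[R] L ⊗[R] P :=
  c.rTensor P ∘ₗ (TensorProduct.assoc R L D P).symm.toLinearMap ∘ₗ TensorProduct.mk R L (D ⊗[R] P) 1

variable {P}

@[simp]
lemma gam_tmul (d : D) (p : P) : gam L D c P (d ⊗ₜ p) = c (1 ⊗ₜ d) ⊗ₜ p := by
  simp [gam]

lemma gam_natural {P' : Type u} [AddCommGroup P'] [Module R P'] (v : P →ₗ[R] P')
    (z : D ⊗[R] P) : (v.baseChange L) (gam L D c P z) = gam L D c P' (v.baseChange D z) := by
  induction z using TensorProduct.induction_on with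
  | zero => simp
  | tmul d p => simp
  | add x y hx hy => simp only [map_add, hx, hy]

end Gam

section Dom

/-- **Generic step.** Over a domain, an element of `D ⊗ Q` killed by a separating family is killed
by a power of a nonzero element of the base. -/
theorem exists_pow_smul_eq_zero_of_domain {R : Type u} [CommRing R] [IsDomain R] (D : Type u)
    [CommRing D] [Algebra R D] [Algebra.FiniteType R D] {ι : Type u} {Q : Type u} [AddCommGroup Q]
    [Module R Q] {Q' : ι → Type u} [∀ i, AddCommGroup (Q' i)] [∀ i, Module R (Q' i)]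
    (v : ∀ i, Q →ₗ[R] Q' i) (H : HProp v) (y : D ⊗[R] Q)
    (hy : ∀ i, (v i).baseChange D y = 0) : ∃ s : R, s ≠ 0 ∧ ∃ n : ℕ, s ^ n • y = 0 := by
  classical
  obtain ⟨s, hs, hfree, -⟩ := Groth.Agent.Helper16.GenRF.exists_free_fp_away R D
  have hs0 : s ≠ 0 := fun h => hs (h ▸ IsNilpotent.zero)
  refine ⟨s, hs0, ?_⟩
  let b := Module.Free.chooseBasis (Localization.Away s) (Localization.Away s ⊗[R] D)
  let c : ∀ α, Localization.Away s ⊗[R] D →ₗ[R] Localization.Away s :=
    fun α => (b.coord α).restrictScalars R
  have hx : ∀ α, gam (Localization.Away s) D (c α) Q y = 0 := by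
    intro α
    apply jinj_away s (Localization.Away s) ι Q Q' v H
    intro i
    rw [gam_natural, hy i, map_zero]
  have hw : (TensorProduct.assoc R (Localization.Away s) D Q).symm
      ((TensorProduct.mk R (Localization.Away s) (D ⊗[R] Q) 1) y) = 0 := by
    let Ψ := (LinearEquiv.rTensor Q (b.repr.restrictScalars R)) ≪≫ₗ
      TensorProduct.finsuppLeft R R (Localization.Away s) Q _
    apply Ψ.injective
    rw [map_zero]
    ext α
    have h1 := hx α
    simp only [gam, LinearMap.coe_comp, LinearEquiv.coe_coe, Function.comp_apply] at h1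
    rw [Finsupp.zero_apply, ← h1]
    simp only [Ψ, LinearEquiv.trans_apply, TensorProduct.finsuppLeft_apply]
    rw [LinearEquiv.rTensor]
    generalize (TensorProduct.assoc R (Localization.Away s) D Q).symm
      ((TensorProduct.mk R (Localization.Away s) (D ⊗[R] Q) 1) y) = w
    induction w using TensorProduct.induction_on with
    | zero => simp
    | tmul e q =>
      simp only [TensorProduct.congr_tmul, LinearMap.rTensor_tmul, LinearEquiv.refl_apply]
      rfl
    | add x y hx hy => simp only [map_add, hx, hy]
  have h2 : (TensorProduct.mk R (Localization.Away s) (D ⊗[R] Q) 1) y = 0 := by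
    apply (TensorProduct.assoc R (Localization.Away s) D Q).symm.injective
    rw [hw, map_zero]
  obtain ⟨⟨_, n, rfl⟩, hn⟩ := (IsLocalizedModule.eq_zero_iff (Submonoid.powers s)
    (TensorProduct.mk R (Localization.Away s) (D ⊗[R] Q) 1)).mp h2
  exact ⟨n, hn⟩

end Dom

end Groth.Agent.Helper7.SepFlat
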