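import Mathlib
import Groth.Agent.Lib.Helper7.SepFlat2

/-!
# Separating families: flat algebras of finite type over a Noetherian ring (helper7)
-/

set_option autoImplicit false
set_option linter.style.haveILetI false
set_option linter.unusedSectionVars false

open TensorProduct

universe u

namespace Groth.Agent.Helper7.SepFlat

open Groth.Agent.Helper7.SepAbs Groth.Agent.Helper7.SepBC

section Tors

variable {A : Type u} [CommRing A] (p : Ideal A) (C : Type u) [CommRing C] [Algebra A C]
  [Module.Flat A C] (M : Type u) [AddCommGroup M] [Module A M]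

/-- flat base change commutes with the torsion by a finitely generated ideal -/
theorem exists_lTensor_torsionBySet (hp : p.FG) (y : C ⊗[A] M) (hy : ∀ a ∈ p, a • y = 0) :
    ∃ y' : C ⊗[A] (Submodule.torsionBySet A M p),
      (Submodule.torsionBySet A M p).subtype.lTensor C y' = y := by
  classical
  obtain ⟨S, hS⟩ := hp
  let Φ : M →ₗ[A] (S → M) := LinearMap.pi fun a => (a : A) • LinearMap.id
  have hex0 : Function.Exact (Submodule.torsionBySet A M p).subtype Φ := by
    intro m
    constructor
    · intro hm
      refine ⟨⟨m, ?_⟩, rfl⟩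
      rw [← hS, ← Submodule.torsionBySet_eq_torsionBySet_span, Submodule.mem_torsionBySet_iff]
      intro a
      have := congrFun hm ⟨a.1, a.2⟩
      simpa [Φ] using this
    · rintro ⟨⟨m, hm⟩, rfl⟩
      rw [← hS, ← Submodule.torsionBySet_eq_torsionBySet_span, Submodule.mem_torsionBySet_iff] at hm
      ext a
      simpa [Φ] using hm ⟨a.1, a.2⟩
  have hex : Function.Exact ((Submodule.torsionBySet A M p).subtype.lTensor C) (Φ.lTensor C) :=
    Module.Flat.lTensor_exact C hex0
  apply (hex y).mp
  apply (TensorProduct.piRight A A C (fun _ : S => M)).injective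
  rw [map_zero]
  ext a
  have key : ∀ z : C ⊗[A] M,
      TensorProduct.piRight A A C (fun _ : S => M) ((Φ.lTensor C) z) a = (a : A) • z := by
    intro z
    induction z using TensorProduct.induction_on with
    | zero => simp
    | tmul c m => simp [Φ]
    | add x y hx hy => simp only [map_add, Pi.add_apply, hx, hy, smul_add]
  rw [key]
  exact hy a (hS ▸ Ideal.subset_span a.2)

end Tors


section Core

attribute [local instance] Algebra.TensorProduct.rightAlgebra

/-- the step at a prime: an element of `C ⊗ Q`, `Q` killed by the prime `p`, which is killed by a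
separating family is killed by a power of an element outside `p`. -/
theorem exists_pow_smul_eq_zero_of_prime {A : Type u} [CommRing A] (p : Ideal A) [p.IsPrime]
    (C : Type u) [CommRing C] [Algebra A C] [Algebra.FiniteType A C]
    {ι : Type u} {Q : Type u} [AddCommGroup Q] [Module A Q] [Module (A ⧸ p) Q]
    [IsScalarTower A (A ⧸ p) Q]
    {Q' : ι → Type u} [∀ i, AddCommGroup (Q' i)] [∀ i, Module A (Q' i)]
    [∀ i, Module (A ⧸ p) (Q' i)] [∀ i, IsScalarTower A (A ⧸ p) (Q' i)]
    (v : ∀ i, Q →ₗ[A] Q' i) (H : HProp v) (y : C ⊗[A] Q)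
    (hy : ∀ i, (v i).baseChange C y = 0) : ∃ g : A, g ∉ p ∧ ∃ n : ℕ, g ^ n • y = 0 := by
  let vR : ∀ i, Q →ₗ[A ⧸ p] Q' i := fun i =>
    { toFun := v i
      map_add' := (v i).map_add
      map_smul' := fun r q => by
        obtain ⟨a, rfl⟩ := Ideal.Quotient.mk_surjective r
        simp only [RingHom.id_apply]
        rw [← Ideal.Quotient.algebraMap_eq, algebraMap_smul, algebraMap_smul, map_smul] }
  have HR : HProp vR := by
    intro s q hq
    obtain ⟨g, rfl⟩ := Ideal.Quotient.mk_surjective s
    have : Hyp v g q := fun i => by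
      obtain ⟨n, hn⟩ := hq i
      refine ⟨n, ?_⟩
      rw [← map_pow, ← Ideal.Quotient.algebraMap_eq, algebraMap_smul] at hn
      exact hn
    obtain ⟨n, hn⟩ := H g q this
    refine ⟨n, ?_⟩
    rw [← map_pow, ← Ideal.Quotient.algebraMap_eq, algebraMap_smul]
    exact hn
  have hk : ∀ i, (vR i).baseChange ((A ⧸ p) ⊗[A] C) (poMap A (A ⧸ p) C ((A ⧸ p) ⊗[A] C) Q y) = 0 := by
    intro i
    rw [poMap_natural]
    have : (vR i).restrictScalars A = v i := rfl
    rw [this, hy i, map_zero]
  obtain ⟨s, hs0, n, hn⟩ := exists_pow_smul_eq_zero_of_domain ((A ⧸ p) ⊗[A] C) vR HR _ hk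
  obtain ⟨g, rfl⟩ := Ideal.Quotient.mk_surjective s
  refine ⟨g, fun hg => hs0 (Ideal.Quotient.eq_zero_iff_mem.mpr hg), n, ?_⟩
  apply (poMap_bijective A (A ⧸ p) C ((A ⧸ p) ⊗[A] C) Q).1
  rw [map_smul, map_zero, ← hn, ← map_pow, ← Ideal.Quotient.algebraMap_eq, algebraMap_smul]

end Core


section Noeth

/-- **Noetherian case**: base change along a flat algebra of finite type over a Noetherian ring
turns separating families into jointly injective families. -/
theorem jinj_of_noetherian {A : Type u} [CommRing A] [IsNoetherianRing A] (C : Type u)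
    [CommRing C] [Algebra A C] [Module.Flat A C] [Algebra.FiniteType A C] : JInj A C := by
  intro ι M _ _ N _ _ u H x hx
  by_contra hne
  let K : Submodule A (C ⊗[A] M) := ⨅ i, LinearMap.ker (((u i).baseChange C).restrictScalars A)
  have hxK : x ∈ K := by
    simp only [K, Submodule.mem_iInf, LinearMap.mem_ker, LinearMap.restrictScalars_apply]
    exact hx
  have hne' : (⟨x, hxK⟩ : K) ≠ 0 := fun h => hne (congrArg Subtype.val h)
  obtain ⟨p, hp, -⟩ := exists_le_isAssociatedPrime_of_isNoetherianRing A (⟨x, hxK⟩ : K) hne'
  obtain ⟨hprime, ⟨y, hyK⟩, hpy⟩ := isAssociatedPrime_iff.mp hp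
  have hmem : ∀ a : A, a ∈ p ↔ a • y = 0 := by
    intro a
    rw [hpy, Submodule.mem_colon_singleton, Submodule.mem_bot]
    exact ⟨fun h => congrArg Subtype.val h, fun h => Subtype.ext h⟩
  have hyk : ∀ i, (u i).baseChange C y = 0 := by
    intro i
    have := (Submodule.mem_iInf _).mp hyK i
    exact this
  haveI := hprime
  obtain ⟨y', hy'⟩ := exists_lTensor_torsionBySet p C M (IsNoetherian.noetherian p) y
    (fun a ha => (hmem a).mp ha)
  let v : ∀ i, Submodule.torsionBySet A M p →ₗ[A] Submodule.torsionBySet A (N i) p := fun i =>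
    (u i).restrict (fun m hm => by
      rw [Submodule.mem_torsionBySet_iff] at hm ⊢
      intro a
      rw [← map_smul, hm a, map_zero])
  have Hv : HProp v := HProp.of_injective v u (Submodule.torsionBySet A M p).subtype
    Subtype.val_injective (fun i => (Submodule.torsionBySet A (N i) p).subtype) (fun i x => rfl) H
  have hvy : ∀ i, (v i).baseChange C y' = 0 := by
    intro i
    have hinj : Function.Injective ((Submodule.torsionBySet A (N i) p).subtype.lTensor C) :=
      Module.Flat.lTensor_preserves_injective_linearMap _ Subtype.val_injective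
    apply hinj
    rw [map_zero]
    have e1 : ∀ z : C ⊗[A] (Submodule.torsionBySet A M p),
        (Submodule.torsionBySet A (N i) p).subtype.lTensor C ((v i).baseChange C z) =
          (u i).baseChange C ((Submodule.torsionBySet A M p).subtype.lTensor C z) := by
      intro z
      induction z using TensorProduct.induction_on with
      | zero => simp
      | tmul c m => simp [v]
      | add x y hx hy => simp only [map_add, hx, hy]
    rw [e1, hy', hyk i]
  obtain ⟨g, hg, n, hn⟩ := exists_pow_smul_eq_zero_of_prime p C v Hv y' hvy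
  apply hg
  have : g ^ n ∈ p := by
    rw [hmem, ← hy', ← map_smul, hn, map_zero]
  exact hprime.mem_of_pow_mem n this

end Noeth

end Groth.Agent.Helper7.SepFlat
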