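import Mathlib
import Groth.Agent.Lib.Helper7.SepFlat3
import Groth.Agent.Lib.Helper16.Sch.FlatModel

/-!
# Separating families are preserved by flat base change of finite presentation (helper7)
-/

set_option autoImplicit false
set_option linter.style.haveILetI false
set_option linter.unusedSectionVars false

open TensorProduct

universe u

namespace Groth.Agent.Helper7.SepFlat

open Groth.Agent.Helper7.SepAbs Groth.Agent.Helper7.SepBC

section Transfer

/-- joint injectivity passes from a model to its base change -/
theorem jinj_of_isPushout (A₁ A C₁ C : Type u) [CommRing A₁] [CommRing A] [CommRing C₁]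
    [CommRing C] [Algebra A₁ A] [Algebra A₁ C₁] [Algebra A C] [Algebra C₁ C] [Algebra A₁ C]
    [IsScalarTower A₁ A C] [IsScalarTower A₁ C₁ C] [Algebra.IsPushout A₁ A C₁ C]
    (h : JInj A₁ C₁) : JInj A C := by
  intro ι M _ _ N _ _ u H x hx
  letI : Module A₁ M := Module.compHom M (algebraMap A₁ A)
  haveI : IsScalarTower A₁ A M := IsScalarTower.of_algebraMap_smul fun _ _ => rfl
  letI : ∀ i, Module A₁ (N i) := fun i => Module.compHom (N i) (algebraMap A₁ A)
  haveI : ∀ i, IsScalarTower A₁ A (N i) := fun i =>
    IsScalarTower.of_algebraMap_smul fun _ _ => rfl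
  have H1 : HProp (fun i => (u i).restrictScalars A₁) := by
    intro a m hm
    obtain ⟨n, hn⟩ := H (algebraMap A₁ A a) m (fun i => by
      obtain ⟨n, hn⟩ := hm i
      refine ⟨n, ?_⟩
      rw [← map_pow, algebraMap_smul]
      exact hn)
    refine ⟨n, ?_⟩
    rw [← algebraMap_smul A, map_pow]
    exact hn
  obtain ⟨z, rfl⟩ := (poMap_bijective A₁ A C₁ C M).2 x
  have hz : ∀ i, ((u i).restrictScalars A₁).baseChange C₁ z = 0 := by
    intro i
    apply (poMap_bijective A₁ A C₁ C (N i)).1
    rw [← poMap_natural, hx i, map_zero]
  rw [h ι M N _ H1 z hz, map_zero]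

end Transfer

section LocC

variable (A : Type u) [CommRing A] {C : Type u} [CommRing C] [Algebra A C] (f : C)
  (P : Type u) [AddCommGroup P] [Module A P]

/-- the localization map `C ⊗ P → C_f ⊗ P` -/
noncomputable def locMap : C ⊗[A] P →ₗ[C] Localization.Away f ⊗[A] P :=
  ((TensorProduct.AlgebraTensorModule.cancelBaseChange A C (Localization.Away f)
    (Localization.Away f) P).toLinearMap.restrictScalars C) ∘ₗ
    (TensorProduct.mk C (Localization.Away f) (C ⊗[A] P) 1)

variable {P}

@[simp]
lemma locMap_tmul (c : C) (m : P) :
    locMap A f P (c ⊗ₜ[A] m) = algebraMap C (Localization.Away f) c ⊗ₜ[A] m := by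
  simp [locMap, Algebra.smul_def]

lemma locMap_natural {P' : Type u} [AddCommGroup P'] [Module A P'] (v : P →ₗ[A] P')
    (z : C ⊗[A] P) :
    (v.baseChange (Localization.Away f)) (locMap A f P z) = locMap A f P' (v.baseChange C z) := by
  induction z using TensorProduct.induction_on with
  | zero => simp
  | tmul c m => simp
  | add x y hx hy => simp only [map_add, hx, hy]

lemma exists_pow_smul_eq_zero_of_locMap (z : C ⊗[A] P) (hz : locMap A f P z = 0) :
    ∃ n : ℕ, f ^ n • z = 0 := by
  have h1 : (TensorProduct.mk C (Localization.Away f) (C ⊗[A] P) 1) z = 0 := by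
    apply (TensorProduct.AlgebraTensorModule.cancelBaseChange A C (Localization.Away f)
      (Localization.Away f) P).injective
    rw [map_zero]
    exact hz
  obtain ⟨⟨_, n, rfl⟩, hn⟩ := (IsLocalizedModule.eq_zero_iff (Submonoid.powers f)
    (TensorProduct.mk C (Localization.Away f) (C ⊗[A] P) 1)).mp h1
  exact ⟨n, hn⟩

end LocC

section Main

/-- `PresH` follows from joint injectivity for all principal localizations -/
theorem presH_of_jinj_away (A C : Type u) [CommRing A] [CommRing C] [Algebra A C]
    (h : ∀ f : C, JInj A (Localization.Away f)) : PresH A C := by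
  intro ι M _ _ N _ _ u H f x hx
  apply exists_pow_smul_eq_zero_of_locMap A f x
  apply h f ι M N u H
  intro i
  rw [locMap_natural]
  obtain ⟨n, hn⟩ := hx i
  rw [map_smul] at hn
  have h2 := congrArg (locMap A f (N i)) hn
  rw [map_smul, map_zero, ← algebraMap_smul (Localization.Away f), map_pow] at h2
  have hu : IsUnit (algebraMap C (Localization.Away f) f) :=
    IsLocalization.Away.algebraMap_isUnit f
  exact (hu.pow n).smul_left_cancel.mp (h2.trans (smul_zero _).symm)

/-- **Flat base change of finite presentation preserves separating families.** -/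
theorem presH_of_flat_fp (A C : Type u) [CommRing A] [CommRing C] [Algebra A C] [Module.Flat A C]
    [Algebra.FinitePresentation A C] : PresH A C := by
  apply presH_of_jinj_away
  intro f
  haveI : Module.Flat A (Localization.Away f) := Module.Flat.trans A C (Localization.Away f)
  haveI : Algebra.FinitePresentation C (Localization.Away f) :=
    IsLocalization.Away.finitePresentation f
  haveI : Algebra.FinitePresentation A (Localization.Away f) :=
    Algebra.FinitePresentation.trans A C (Localization.Away f)
  obtain ⟨A₁, _, _, C₁, _, _, _, _, _, _, hN, hfp, hflat, hpo⟩ :=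
    Groth.Agent.Helper16.FlatModel.exists_flat_model A (Localization.Away f)
  haveI := hN
  haveI := hfp
  haveI := hflat
  haveI := hpo
  haveI : Algebra.FiniteType A₁ C₁ := inferInstance
  exact jinj_of_isPushout A₁ A C₁ (Localization.Away f) (jinj_of_noetherian C₁)

end Main

end Groth.Agent.Helper7.SepFlat
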