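import Mathlib
import Groth.Agent.Lib.Helper7.SepFlat4
import Groth.Agent.Lib.Helper7.SepGeom
import Groth.Agent.Lib.Helper7.SchDomChart

/-!
# Flat base change locally of finite presentation preserves separating families and
schematically dominant families (helper7)
-/

set_option autoImplicit false
set_option linter.style.haveILetI false
set_option linter.unusedSectionVars false

open CategoryTheory AlgebraicGeometry Limits Opposite TopologicalSpace

universe u

namespace Groth.Agent.Helper7.SepFlatGeom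

open Groth.Agent.Helper7.SepAbs Groth.Agent.Helper7.SepBC Groth.Agent.Helper7.SepFlat
  Groth.Agent.Helper7.SepGeom Groth.Agent.Helper7.SchDom Groth.Agent.Helper7.ChartBC

variable {X X' : Scheme.{u}} (g : X' ⟶ X) [Flat g] [LocallyOfFinitePresentation g]

theorem presH_appLE {U : X.Opens} (hU : IsAffineOpen U) {U' : X'.Opens} (hU' : IsAffineOpen U')
    (e : U' ≤ g ⁻¹ᵁ U) :
    letI := (g.appLE U U' e).hom.toAlgebra
    PresH Γ(X, U) Γ(X', U') := by
  letI := (g.appLE U U' e).hom.toAlgebra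
  have hflat : (g.appLE U U' e).hom.Flat :=
    HasRingHomProperty.appLE @Flat g inferInstance ⟨U, hU⟩ ⟨U', hU'⟩ e
  have hfp : (g.appLE U U' e).hom.FinitePresentation :=
    HasRingHomProperty.appLE @LocallyOfFinitePresentation g inferInstance ⟨U, hU⟩ ⟨U', hU'⟩ e
  haveI : Module.Flat Γ(X, U) Γ(X', U') := hflat
  haveI : Algebra.FinitePresentation Γ(X, U) Γ(X', U') := hfp
  exact presH_of_flat_fp _ _

/-- **Separating families are stable under flat base change locally of finite presentation.** -/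
theorem isSep_pullback_flat (F : X.Modules) [F.IsQuasicoherent] {ι : Type u} (G : ι → X.Modules)
    [∀ i, (G i).IsQuasicoherent] (u : ∀ i, F ⟶ G i)
    (h : ∀ (V : X.Opens) (t : Γ(F, V)), (∀ i, (u i).app V t = 0) → t = 0) :
    ∀ (V : X'.Opens) (t : Γ((Scheme.Modules.pullback g).obj F, V)),
      (∀ i, ((Scheme.Modules.pullback g).map (u i)).app V t = 0) → t = 0 := by
  apply isSep_of_hprop
  intro x'
  obtain ⟨U, hU, hxU, -⟩ := TopologicalSpace.Opens.isBasis_iff_nbhd.mp X.isBasis_affineOpens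
    (TopologicalSpace.Opens.mem_top (g x'))
  obtain ⟨U', hU', hxU', eU'⟩ := TopologicalSpace.Opens.isBasis_iff_nbhd.mp
    X'.isBasis_affineOpens (show x' ∈ g ⁻¹ᵁ U from hxU)
  exact ⟨U', hU', hxU', hprop_pullback_of_presH g F G u h hU hU' eU' (presH_appLE g hU hU' eU')⟩

/-- **Schematically dominant families are stable under flat base change locally of finite
presentation.** -/
theorem isSchDom_pullback_flat {ι : Type u} (Z : ι → Scheme.{u}) (f : ∀ i, Z i ⟶ X)
    (h : IsSchDom f) : IsSchDom (fun i => pullback.snd (f i) g) := by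
  apply isSchDom_of_ringHProp
  intro x'
  obtain ⟨U, hU, hxU, -⟩ := TopologicalSpace.Opens.isBasis_iff_nbhd.mp X.isBasis_affineOpens
    (TopologicalSpace.Opens.mem_top (g x'))
  obtain ⟨W, hW, hxW, eW⟩ := TopologicalSpace.Opens.isBasis_iff_nbhd.mp
    X'.isBasis_affineOpens (show x' ∈ g ⁻¹ᵁ U from hxU)
  have H : IsPullback g (𝟙 X') (𝟙 X) g := IsPullback.of_vert_isIso ⟨by simp⟩
  have eUV : U ≤ (𝟙 X) ⁻¹ᵁ U := le_rfl
  have hU' : IsAffineOpen (g ⁻¹ᵁ U ⊓ (𝟙 X') ⁻¹ᵁ W) := isAffineOpen_chart H hU hU eUV hW eW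
  refine ⟨g ⁻¹ᵁ U ⊓ (𝟙 X') ⁻¹ᵁ W, hU', ⟨hxU, hxW⟩, ?_⟩
  refine ringHProp_chart H f (pz₁ := fun i => pullback.fst (f i) g)
    (pz₂ := fun i => pullback.snd (f i) g) (fun i => ?_) (fun i => pullback.snd (f i) g)
    (fun i => ?_) (fun i => ?_) hU hU eUV hW eW (presH_appLE g hU hU' inf_le_left)
    (ringHProp_of_isSchDom f h hU)
  · rw [Category.comp_id]
    exact IsPullback.of_hasPullback (f i) g
  · exact pullback.condition.symm
  · exact Category.comp_id _

end Groth.Agent.Helper7.SepFlatGeom
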