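import Mathlib
import Groth.Agent.Lib.Helper21.FL7
import Groth.Agent.Lib.Helper21.EssFP1

/-!
# Injectivity with flat cokernel at a prime is preserved by base change (helper7)

For a pushout `S = R ⊗_{R₀} S₀`, a map `u₀ : M₀ → N₀` of `S₀`-modules with base change
`u : M → N`, and a prime `Q` of `S` over `Q₀`: if `u₀` is injective at `Q₀` and its cokernel is
flat over `R₀` at `Q₀`, then `u` is injective at `Q` and its cokernel is flat over `R` at `Q`.
-/

set_option autoImplicit false
set_option linter.style.haveILetI false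
set_option linter.unusedSectionVars false

universe u

open TensorProduct Function

namespace Groth.Agent.Helper7.InjFlatBC

open Groth.Agent.Helper21

variable {R₀ R S₀ S : Type u} [CommRing R₀] [CommRing R] [CommRing S₀] [CommRing S]
  [Algebra R₀ R] [Algebra R₀ S₀] [Algebra R S] [Algebra S₀ S] [Algebra R₀ S]
  [IsScalarTower R₀ R S] [IsScalarTower R₀ S₀ S] [Algebra.IsPushout R₀ R S₀ S]
  {M₀ : Type u} [AddCommGroup M₀] [Module S₀ M₀] [Module R₀ M₀] [IsScalarTower R₀ S₀ M₀]
  {M : Type u} [AddCommGroup M] [Module S M] [Module S₀ M] [IsScalarTower S₀ S M]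
  {N₀ : Type u} [AddCommGroup N₀] [Module S₀ N₀] [Module R₀ N₀] [IsScalarTower R₀ S₀ N₀]
  {N : Type u} [AddCommGroup N] [Module S N] [Module S₀ N] [IsScalarTower S₀ S N]
  [Module R N] [IsScalarTower R S N]
  (fM : M₀ →ₗ[S₀] M) (hfM : IsBaseChange S fM) (fN : N₀ →ₗ[S₀] N) (hfN : IsBaseChange S fN)
  (u₀ : M₀ →ₗ[S₀] N₀) (u : M →ₗ[S] N) (hcompat : ∀ x, fN (u₀ x) = u (fM x))

include hfM hfN hcompat in
/-- The cokernel of the base change is the base change of the cokernel. -/
theorem exists_isBaseChange_coker :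
    ∃ φ : (N₀ ⧸ LinearMap.range u₀) →ₗ[S₀] (N ⧸ LinearMap.range u), IsBaseChange S φ := by
  let π : N →ₗ[S₀] N ⧸ LinearMap.range u := (LinearMap.range u).mkQ.restrictScalars S₀
  have hle : LinearMap.range u₀ ≤ LinearMap.ker (π ∘ₗ fN) := by
    rintro _ ⟨x, rfl⟩
    rw [LinearMap.mem_ker, LinearMap.comp_apply, hcompat]
    exact (Submodule.Quotient.mk_eq_zero _).mpr ⟨fM x, rfl⟩
  let φ : (N₀ ⧸ LinearMap.range u₀) →ₗ[S₀] (N ⧸ LinearMap.range u) :=
    (LinearMap.range u₀).liftQ (π ∘ₗ fN) hle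
  refine ⟨φ, ?_⟩
  refine IsBaseChange.of_right_exact S fM fN φ (f := u₀) (g := (LinearMap.range u₀).mkQ)
    (f' := u) (g' := (LinearMap.range u).mkQ) ?_ ?_ hfM hfN
    (LinearMap.exact_map_mkQ_range u₀) (Submodule.mkQ_surjective _)
    (LinearMap.exact_map_mkQ_range u) (Submodule.mkQ_surjective _)
  · ext x
    exact hcompat x
  · ext x
    rfl

include hfM hfN hcompat in
/-- Flatness of the cokernel at a prime is preserved by base change. -/
theorem flat_coker (Q : Ideal S) [Q.IsPrime]
    [Module.Flat R₀ (LocalizedModule (Q.comap (algebraMap S₀ S)).primeCompl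
      (N₀ ⧸ LinearMap.range u₀))] :
    Module.Flat R (LocalizedModule Q.primeCompl (N ⧸ LinearMap.range u)) := by
  obtain ⟨φ, hφ⟩ := exists_isBaseChange_coker fM hfM fN hfN u₀ u hcompat
  exact FL.flat_localizedModule_of_isBaseChange (R₀ := R₀) (R := R) φ hφ Q

include R hfM hfN hcompat in
set_option maxHeartbeats 1600000 in
/-- Injectivity at a prime (with flat cokernel) is preserved by base change. -/
theorem locInj (Q : Ideal S) [Q.IsPrime]
    (hinj : ∀ x : M₀, u₀ x = 0 → ∃ t : S₀, t ∉ Q.comap (algebraMap S₀ S) ∧ t • x = 0)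
    [Module.Flat R₀ (LocalizedModule (Q.comap (algebraMap S₀ S)).primeCompl
      (N₀ ⧸ LinearMap.range u₀))] :
    ∀ x : M, u x = 0 → ∃ t : S, t ∉ Q ∧ t • x = 0 := by
  classical
  let Q₀ : Ideal S₀ := Q.comap (algebraMap S₀ S)
  let Y₀ := LocalizedModule Q₀.primeCompl M₀
  let Z₀ := LocalizedModule Q₀.primeCompl N₀
  let C₀ := LocalizedModule Q₀.primeCompl (N₀ ⧸ LinearMap.range u₀)
  let v : Y₀ →ₗ[S₀] Z₀ := IsLocalizedModule.map Q₀.primeCompl
    (LocalizedModule.mkLinearMap Q₀.primeCompl M₀) (LocalizedModule.mkLinearMap Q₀.primeCompl N₀) u₀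
  let w : Z₀ →ₗ[S₀] C₀ := IsLocalizedModule.map Q₀.primeCompl
    (LocalizedModule.mkLinearMap Q₀.primeCompl N₀)
    (LocalizedModule.mkLinearMap Q₀.primeCompl (N₀ ⧸ LinearMap.range u₀)) (LinearMap.range u₀).mkQ
  have hvw : Function.Exact v w :=
    LocalizedModule.map_exact Q₀.primeCompl u₀ (LinearMap.range u₀).mkQ
      (LinearMap.exact_map_mkQ_range u₀)
  have hw : Surjective w := IsLocalizedModule.map_surjective _ _ _ _ (Submodule.mkQ_surjective _)
  have hv : Injective v := by
    rw [injective_iff_map_eq_zero]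
    intro y hy
    induction y using LocalizedModule.induction_on with
    | h x s =>
      rw [IsLocalizedModule.map_LocalizedModules, ← LocalizedModule.zero_mk s,
        LocalizedModule.mk_eq] at hy
      obtain ⟨c, hc⟩ := hy
      rw [smul_zero, smul_zero] at hc
      have hc' : (c : S₀) • (s : S₀) • u₀ x = 0 := hc
      have h1 : u₀ (((c : S₀) * (s : S₀)) • x) = 0 := by
        rw [map_smul, mul_smul]
        exact hc'
      obtain ⟨t, ht, htx⟩ := hinj _ h1
      rw [← LocalizedModule.zero_mk s, LocalizedModule.mk_eq]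
      refine ⟨⟨t, ht⟩ * c, ?_⟩
      rw [smul_zero, smul_zero]
      change (t * (c : S₀)) • (s : S₀) • x = 0
      rw [mul_smul, smul_smul (c : S₀)]
      exact htx
  -- universal injectivity over `R₀`
  have hvR : Injective ((v.restrictScalars R₀).lTensor R) :=
    EssFP.lTensor_injective_of_exact_flat (v.restrictScalars R₀) (w.restrictScalars R₀) hv hw hvw R
  -- transfer to `S ⊗[S₀] -`
  have hvS : Injective (v.baseChange S) := by
    let eY : S ⊗[S₀] Y₀ ≃ₗ[R] R ⊗[R₀] Y₀ := Algebra.IsPushout.cancelBaseChange R₀ R S₀ S Y₀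
    let eZ : S ⊗[S₀] Z₀ ≃ₗ[R] R ⊗[R₀] Z₀ := Algebra.IsPushout.cancelBaseChange R₀ R S₀ S Z₀
    have hnat : ∀ z : R ⊗[R₀] Y₀, (v.baseChange S) (eY.symm z) =
        eZ.symm (((v.restrictScalars R₀).lTensor R) z) := by
      intro z
      induction z using TensorProduct.induction_on with
      | zero => simp
      | add a b ha hb => simp only [map_add, ha, hb]
      | tmul r y =>
        rw [Algebra.IsPushout.cancelBaseChange_symm_tmul, LinearMap.lTensor_tmul,
          Algebra.IsPushout.cancelBaseChange_symm_tmul, LinearMap.baseChange_tmul]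
        rfl
    intro a b hab
    apply eY.injective
    apply hvR
    apply eZ.symm.injective
    rw [← hnat, ← hnat, LinearEquiv.symm_apply_apply, LinearEquiv.symm_apply_apply, hab]
  -- the localization maps after base change
  let aM : S ⊗[S₀] M₀ →ₗ[S] S ⊗[S₀] Y₀ :=
    (LocalizedModule.mkLinearMap Q₀.primeCompl M₀).baseChange S
  let aN : S ⊗[S₀] N₀ →ₗ[S] S ⊗[S₀] Z₀ :=
    (LocalizedModule.mkLinearMap Q₀.primeCompl N₀).baseChange S
  haveI hloc : IsLocalizedModule (Algebra.algebraMapSubmonoid S Q₀.primeCompl) aM :=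
    FS.isLocalizedModule_baseChange Q₀.primeCompl (LocalizedModule.mkLinearMap Q₀.primeCompl M₀) S
  have hsq : ∀ ξ : S ⊗[S₀] M₀, (v.baseChange S) (aM ξ) = aN ((u₀.baseChange S) ξ) := by
    intro ξ
    induction ξ using TensorProduct.induction_on with
    | zero => simp
    | add a b ha hb => simp only [map_add, ha, hb]
    | tmul s x =>
      simp only [aM, aN, LinearMap.baseChange_tmul, v]
      rw [LocalizedModule.mkLinearMap_apply, IsLocalizedModule.map_LocalizedModules]
      rfl
  have hcomp : ∀ ξ : S ⊗[S₀] M₀, hfN.equiv ((u₀.baseChange S) ξ) = u (hfM.equiv ξ) := by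
    intro ξ
    induction ξ using TensorProduct.induction_on with
    | zero => simp
    | add a b ha hb => simp only [map_add, ha, hb]
    | tmul s x =>
      rw [LinearMap.baseChange_tmul, IsBaseChange.equiv_tmul, IsBaseChange.equiv_tmul, map_smul,
        hcompat]
  intro x hx
  let ξ := hfM.equiv.symm x
  have h1 : (u₀.baseChange S) ξ = 0 := by
    apply hfN.equiv.injective
    rw [hcomp, map_zero, LinearEquiv.apply_symm_apply, hx]
  have h2 : aM ξ = 0 := by
    apply hvS
    rw [hsq, h1, map_zero, map_zero]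
  obtain ⟨⟨t, ht⟩, htξ⟩ := (IsLocalizedModule.eq_zero_iff
    (Algebra.algebraMapSubmonoid S Q₀.primeCompl) aM).mp h2
  obtain ⟨t₀, ht₀, rfl⟩ := ht
  refine ⟨algebraMap S₀ S t₀, fun hmem => ht₀ (Ideal.mem_comap.mpr hmem), ?_⟩
  have h3 : algebraMap S₀ S t₀ • ξ = 0 := htξ
  have h4 := congrArg hfM.equiv h3
  rw [map_smul, LinearEquiv.apply_symm_apply, map_zero] at h4
  exact h4

end Groth.Agent.Helper7.InjFlatBC
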