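import Mathlib
import Groth.Agent.Lib.Helper7.InjFlatBC

/-!
# Kernels of base changes of maps with flat cokernel (helper7)

* `mem_range_lTensor_ker`: if `Coker u` is flat, the kernel of `T ⊗ u` is the image of `T ⊗ Ker u`.
* `injective_baseChange_of_tmul_eq_zero`: if moreover `Ker u` is generated (over a bigger ring)
  by finitely many elements which die in `T ⊗ -`, then `T ⊗ u` is injective.
* `injective_iff_of_isBaseChange`, `flat_coker_iff_of_isBaseChange`: two base changes of the same
  map along the same ring map have the same injectivity / flatness of the cokernel.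
-/

set_option autoImplicit false
set_option linter.style.haveILetI false
set_option linter.unusedSectionVars false

universe u

open TensorProduct Function

namespace Groth.Agent.Helper7.GD1

section E

variable {R : Type*} [CommRing R] {X Y : Type*} [AddCommGroup X] [Module R X] [AddCommGroup Y]
  [Module R Y] (u : X →ₗ[R] Y) (T : Type*) [AddCommGroup T] [Module R T]

/-- **Lemma E.** If `Coker u` is flat, then `Ker (T ⊗ u)` is the image of `T ⊗ Ker u`. -/
theorem mem_range_lTensor_ker [Module.Flat R (Y ⧸ LinearMap.range u)] (z : T ⊗[R] X)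
    (hz : u.lTensor T z = 0) : z ∈ LinearMap.range ((LinearMap.ker u).subtype.lTensor T) := by
  let v : X →ₗ[R] LinearMap.range u := u.rangeRestrict
  have hv : Surjective v := u.surjective_rangeRestrict
  have hι : Injective ((LinearMap.range u).subtype.lTensor T) :=
    LinearMap.lTensor_injective_of_exact_of_flat (LinearMap.range u).mkQ
      (Submodule.mkQ_surjective _) (LinearMap.range u).subtype (Submodule.injective_subtype _)
      (LinearMap.exact_subtype_mkQ _) T
  have hcomp : u.lTensor T = ((LinearMap.range u).subtype.lTensor T) ∘ₗ (v.lTensor T) := by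
    rw [← LinearMap.lTensor_comp]
    rfl
  have hvz : v.lTensor T z = 0 := by
    apply hι
    rw [map_zero, ← LinearMap.comp_apply, ← hcomp, hz]
  have hex : Exact ((LinearMap.ker v).subtype.lTensor T) (v.lTensor T) :=
    lTensor_exact T (LinearMap.exact_subtype_ker_map v) hv
  obtain ⟨y, hy⟩ := (hex z).mp hvz
  have hker : LinearMap.ker v = LinearMap.ker u := LinearMap.ker_rangeRestrict u
  have key : ∀ y : T ⊗[R] LinearMap.ker v, (LinearMap.ker v).subtype.lTensor T y ∈
      LinearMap.range ((LinearMap.ker u).subtype.lTensor T) := by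
    intro y
    induction y using TensorProduct.induction_on with
    | zero => rw [map_zero]; exact Submodule.zero_mem _
    | add a b ha hb => rw [map_add]; exact Submodule.add_mem _ ha hb
    | tmul t k =>
      refine ⟨t ⊗ₜ ⟨k.1, hker ▸ k.2⟩, ?_⟩
      rw [LinearMap.lTensor_tmul, LinearMap.lTensor_tmul]
      rfl
  rw [← hy]
  exact key y

end E

section F

variable {R' S' : Type*} [CommRing R'] [CommRing S'] [Algebra R' S']
  {Q' Q : Type*} [AddCommGroup Q'] [Module S' Q'] [Module R' Q'] [IsScalarTower R' S' Q']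
  [AddCommGroup Q] [Module S' Q] [Module R' Q] [IsScalarTower R' S' Q]
  (u' : Q' →ₗ[S'] Q) (T : Type*) [CommRing T] [Algebra R' T]

/-- **Lemma F.** If `Coker u'` is `R'`-flat and `Ker u'` is generated over `S'` by a set of
elements dying in `T ⊗ Q'`, then `T ⊗ u'` is injective. -/
theorem injective_baseChange_of_tmul_eq_zero [Module.Flat R' (Q ⧸ LinearMap.range u')]
    (s : Set Q') (hs : Submodule.span S' s = LinearMap.ker u')
    (h0 : ∀ k ∈ s, (1 : T) ⊗ₜ[R'] k = 0) :
    Injective ((u'.restrictScalars R').baseChange T) := by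
  have hP : ∀ k ∈ LinearMap.ker u', ∀ t : T, t ⊗ₜ[R'] k = 0 := by
    intro k hk
    rw [← hs] at hk
    induction hk using Submodule.span_induction with
    | mem k hk =>
      intro t
      have : t ⊗ₜ[R'] k = t • ((1 : T) ⊗ₜ[R'] k) := by
        rw [TensorProduct.smul_tmul', smul_eq_mul, mul_one]
      rw [this, h0 k hk, smul_zero]
    | zero => intro t; exact TensorProduct.tmul_zero _ t
    | add a b _ _ ha hb => intro t; rw [TensorProduct.tmul_add, ha t, hb t, add_zero]
    | smul σ a _ ha =>
      intro t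
      let ℓ : Q' →ₗ[R'] Q' :=
        { toFun := fun q => σ • q
          map_add' := smul_add σ
          map_smul' := fun r q => smul_comm σ r q }
      have : t ⊗ₜ[R'] (σ • a) = ℓ.lTensor T (t ⊗ₜ[R'] a) := rfl
      rw [this, ha t, map_zero]
  haveI : Module.Flat R' (Q ⧸ LinearMap.range (u'.restrictScalars R')) := by
    have : Module.Flat R' (Q ⧸ LinearMap.range u') := inferInstance
    exact this
  rw [injective_iff_map_eq_zero]
  intro z hz
  have hz' : (u'.restrictScalars R').lTensor T z = 0 := by
    rw [← LinearMap.baseChange_eq_ltensor]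
    exact hz
  obtain ⟨y, rfl⟩ := mem_range_lTensor_ker (u'.restrictScalars R') T z hz'
  clear hz hz'
  induction y using TensorProduct.induction_on with
  | zero => rw [map_zero]
  | add a b ha hb => rw [map_add, ha, hb, add_zero]
  | tmul t k =>
    rw [LinearMap.lTensor_tmul]
    exact hP k.1 k.2 t

end F

section J

variable {A T : Type*} [CommRing A] [CommRing T] [Algebra A T]
  {P' P : Type*} [AddCommGroup P'] [Module A P'] [AddCommGroup P] [Module A P]
  (u₁ : P' →ₗ[A] P)
  {X' X : Type*} [AddCommGroup X'] [Module A X'] [Module T X'] [IsScalarTower A T X']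
  [AddCommGroup X] [Module A X] [Module T X] [IsScalarTower A T X]
  {Y' Y : Type*} [AddCommGroup Y'] [Module A Y'] [Module T Y'] [IsScalarTower A T Y']
  [AddCommGroup Y] [Module A Y] [Module T Y] [IsScalarTower A T Y]
  (v : X' →ₗ[T] X) (w : Y' →ₗ[T] Y)
  (a' : P' →ₗ[A] X') (a : P →ₗ[A] X) (b' : P' →ₗ[A] Y') (b : P →ₗ[A] Y)
  (ha' : IsBaseChange T a') (ha : IsBaseChange T a) (hb' : IsBaseChange T b')
  (hb : IsBaseChange T b)
  (hv : ∀ p, v (a' p) = a (u₁ p)) (hw : ∀ p, w (b' p) = b (u₁ p))

include ha' ha hb' hb hv hw in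
/-- **Lemma J.** Two base changes of the same map are conjugate. -/
theorem exists_equiv_of_isBaseChange :
    ∃ (e' : X' ≃ₗ[T] Y') (e : X ≃ₗ[T] Y), (∀ x, w (e' x) = e (v x)) ∧
      (∀ p, e' (a' p) = b' p) ∧ (∀ p, e (a p) = b p) := by
  let e' : X' ≃ₗ[T] Y' := ha'.equiv.symm ≪≫ₗ hb'.equiv
  let e : X ≃ₗ[T] Y := ha.equiv.symm ≪≫ₗ hb.equiv
  have he' : ∀ p, e' (a' p) = b' p := by
    intro p
    change hb'.equiv (ha'.equiv.symm (a' p)) = b' p
    rw [IsBaseChange.equiv_symm_apply, IsBaseChange.equiv_tmul, one_smul]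
  have he : ∀ p, e (a p) = b p := by
    intro p
    change hb.equiv (ha.equiv.symm (a p)) = b p
    rw [IsBaseChange.equiv_symm_apply, IsBaseChange.equiv_tmul, one_smul]
  refine ⟨e', e, ?_, he', he⟩
  have : w ∘ₗ e'.toLinearMap = e.toLinearMap ∘ₗ v := by
    apply ha'.algHom_ext'
    ext p
    change w (e' (a' p)) = e (v (a' p))
    rw [he', hw, hv, he]
  intro x
  exact congrArg (fun ψ => ψ x) this

include ha' ha hb' hb hv hw in
theorem injective_iff_of_isBaseChange : Injective v ↔ Injective w := by
  obtain ⟨e', e, h, -, -⟩ := exists_equiv_of_isBaseChange u₁ v w a' a b' b ha' ha hb' hb hv hw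
  constructor
  · intro hinj y₁ y₂ hy
    obtain ⟨x₁, rfl⟩ := e'.surjective y₁
    obtain ⟨x₂, rfl⟩ := e'.surjective y₂
    rw [h, h] at hy
    rw [hinj (e.injective hy)]
  · intro hinj x₁ x₂ hx
    apply e'.injective
    apply hinj
    rw [h, h, hx]

include ha' ha hb' hb hv hw in
theorem flat_coker_iff_of_isBaseChange :
    Module.Flat T (X ⧸ LinearMap.range v) ↔ Module.Flat T (Y ⧸ LinearMap.range w) := by
  obtain ⟨e', e, h, -, -⟩ := exists_equiv_of_isBaseChange u₁ v w a' a b' b ha' ha hb' hb hv hw
  have hmap : (LinearMap.range v).map e.toLinearMap = LinearMap.range w := by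
    ext y
    constructor
    · rintro ⟨_, ⟨x, rfl⟩, rfl⟩
      exact ⟨e' x, h x⟩
    · rintro ⟨y', rfl⟩
      obtain ⟨x, rfl⟩ := e'.surjective y'
      exact ⟨v x, ⟨x, rfl⟩, (h x).symm⟩
  exact Module.Flat.equiv_iff (Submodule.Quotient.equiv _ _ e hmap)

end J

end Groth.Agent.Helper7.GD1
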