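import Mathlib
import Groth.Agent.Lib.Helper7.GD1
import Groth.Agent.Lib.Helper7.InjLocusGeneric

/-!
# The Noetherian step for injectivity at a finite stage (helper7)
-/

set_option autoImplicit false
set_option linter.style.haveILetI false
set_option linter.unusedSectionVars false

universe u

open TensorProduct Function

namespace Groth.Agent.Helper7.GD2

open Groth.Agent.Helper7.GD1 Groth.Agent.Helper7.InjLocusGeneric

section Abs

variable {A R' S₁ S' : Type u} [CommRing A] [CommRing R'] [CommRing S₁] [CommRing S']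
  [Algebra A R'] [Algebra A S₁] [Algebra R' S'] [Algebra S₁ S'] [Algebra A S']
  [IsScalarTower A R' S'] [IsScalarTower A S₁ S'] [Algebra.IsPushout A R' S₁ S']
  {P' : Type u} [AddCommGroup P'] [Module S₁ P'] [Module A P'] [IsScalarTower A S₁ P']
  {P : Type u} [AddCommGroup P] [Module S₁ P] [Module A P] [IsScalarTower A S₁ P]
  {Q' : Type u} [AddCommGroup Q'] [Module S' Q'] [Module R' Q'] [IsScalarTower R' S' Q']
  [Module S₁ Q'] [IsScalarTower S₁ S' Q'] [Module A Q'] [IsScalarTower A R' Q']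
  [IsScalarTower A S₁ Q']
  {Q : Type u} [AddCommGroup Q] [Module S' Q] [Module R' Q] [IsScalarTower R' S' Q]
  [Module S₁ Q] [IsScalarTower S₁ S' Q] [Module A Q] [IsScalarTower A R' Q]
  [IsScalarTower A S₁ Q]
  (φ' : P' →ₗ[S₁] Q') (hφ' : IsBaseChange S' φ') (φ : P →ₗ[S₁] Q) (hφ : IsBaseChange S' φ)
  (u₁ : P' →ₗ[S₁] P) (u' : Q' →ₗ[S'] Q) (hcompat : ∀ p, φ (u₁ p) = u' (φ' p))
  (T : Type u) [CommRing T] [Algebra A T] [Algebra R' T] [IsScalarTower A R' T]

variable (A) in
/-- the comparison `Q' ≃ R' ⊗[A] P'` -/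
noncomputable def cmp : Q' ≃ₗ[R'] R' ⊗[A] P' :=
  (isBaseChange_restrictScalars_of_isPushout (R₀ := A) (R := R') φ' hφ').equiv.symm

theorem cmp_symm_tmul (r : R') (p : P') : (cmp A (R' := R') φ' hφ').symm (r ⊗ₜ p) = r • φ' p := by
  change (isBaseChange_restrictScalars_of_isPushout (R₀ := A) (R := R') φ' hφ').equiv (r ⊗ₜ p) = _
  rw [IsBaseChange.equiv_tmul]
  rfl

include hcompat in
theorem baseChange_cmp (k : Q') :
    (u₁.restrictScalars A).baseChange R' (cmp A (R' := R') φ' hφ' k) = cmp A (R' := R') φ hφ (u' k) := by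
  obtain ⟨y, rfl⟩ := (cmp A (R' := R') φ' hφ').symm.surjective k
  rw [LinearEquiv.apply_symm_apply]
  induction y using TensorProduct.induction_on with
  | zero => simp
  | add a b ha hb => simp only [map_add, ha, hb]
  | tmul r p =>
    rw [LinearMap.baseChange_tmul, cmp_symm_tmul, ← LinearEquiv.symm_apply_eq, cmp_symm_tmul]
    have h1 : u' (r • φ' p) = r • u' (φ' p) := by
      rw [← algebraMap_smul S' r (φ' p), map_smul, algebraMap_smul]
    rw [h1, ← hcompat]
    rfl

omit [IsScalarTower A R' T] in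
theorem cancel_one_tmul [IsScalarTower A R' T] (y : R' ⊗[A] P') :
    AlgebraTensorModule.cancelBaseChange A R' T T P' ((1 : T) ⊗ₜ[R'] y) =
      LinearMap.rTensor P' (IsScalarTower.toAlgHom A R' T).toLinearMap y := by
  induction y using TensorProduct.induction_on with
  | zero => simp
  | add a b ha hb => rw [TensorProduct.tmul_add, map_add, map_add, ha, hb]
  | tmul r p =>
    rw [AlgebraTensorModule.cancelBaseChange_tmul, LinearMap.rTensor_tmul]
    congr 1
    rw [Algebra.smul_def, mul_one]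
    rfl

include hφ hcompat in
set_option maxHeartbeats 1600000 in
/-- **The Noetherian step, abstract form.** -/
theorem injective_baseChange_of_rTensor_eq_zero [Module.Flat R' (Q ⧸ LinearMap.range u')]
    (s₀ : Set Q') (hs₀ : Submodule.span S' s₀ = LinearMap.ker u')
    (h0 : ∀ k ∈ s₀, LinearMap.rTensor P' (IsScalarTower.toAlgHom A R' T).toLinearMap
      (cmp A (R' := R') φ' hφ' k) = 0) :
    Injective ((u₁.restrictScalars A).baseChange T) := by
  have h1 : ∀ k ∈ s₀, (1 : T) ⊗ₜ[R'] k = 0 := by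
    intro k hk
    let Ψ : T ⊗[R'] Q' ≃ₗ[T] T ⊗[A] P' :=
      (AlgebraTensorModule.congr (LinearEquiv.refl T T) (cmp A (R' := R') φ' hφ')) ≪≫ₗ
        AlgebraTensorModule.cancelBaseChange A R' T T P'
    apply Ψ.injective
    rw [map_zero]
    change AlgebraTensorModule.cancelBaseChange A R' T T P'
      ((1 : T) ⊗ₜ[R'] (cmp A (R' := R') φ' hφ' k)) = 0
    rw [cancel_one_tmul, h0 k hk]
  have h2 : Injective ((u'.restrictScalars R').baseChange T) :=
    injective_baseChange_of_tmul_eq_zero u' T s₀ hs₀ h1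
  have hα' : IsBaseChange R' (φ'.restrictScalars A) :=
    isBaseChange_restrictScalars_of_isPushout φ' hφ'
  have hα : IsBaseChange R' (φ.restrictScalars A) :=
    isBaseChange_restrictScalars_of_isPushout φ hφ
  have ha' := IsBaseChange.comp hα' (TensorProduct.isBaseChange R' Q' T)
  have ha := IsBaseChange.comp hα (TensorProduct.isBaseChange R' Q T)
  refine (injective_iff_of_isBaseChange (u₁.restrictScalars A)
    ((u'.restrictScalars R').baseChange T) ((u₁.restrictScalars A).baseChange T)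
    _ _ (TensorProduct.mk A T P' 1) (TensorProduct.mk A T P 1) ha' ha
    (TensorProduct.isBaseChange A P' T) (TensorProduct.isBaseChange A P T) ?_ ?_).mp h2
  · intro p
    change (u'.restrictScalars R').baseChange T ((1 : T) ⊗ₜ[R'] φ' p) = (1 : T) ⊗ₜ[R'] φ (u₁ p)
    rw [LinearMap.baseChange_tmul, hcompat]
    rfl
  · intro p
    change (u₁.restrictScalars A).baseChange T ((1 : T) ⊗ₜ[A] p) = (1 : T) ⊗ₜ[A] u₁ p
    rw [LinearMap.baseChange_tmul]
    rfl

end Abs

section Conc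

open Groth.Agent.Helper21

variable {A S₁ : Type u} [CommRing A] [CommRing S₁] [Algebra A S₁] [Algebra.FiniteType ℤ A]
  [Algebra.FiniteType A S₁]
  {P' P : Type u} [AddCommGroup P'] [Module S₁ P'] [Module A P'] [IsScalarTower A S₁ P']
  [Module.Finite S₁ P']
  [AddCommGroup P] [Module S₁ P] [Module A P] [IsScalarTower A S₁ P] [Module.Finite S₁ P]
  (u₁ : P' →ₗ[S₁] P) (R : Type u) [CommRing R] [Algebra A R]

attribute [local instance] Algebra.TensorProduct.rightAlgebra

set_option maxHeartbeats 1600000 in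
/-- The Noetherian step over a fixed finite type base `R'`. -/
theorem exists_finset_of_flat (R' : Type u) [CommRing R'] [Algebra A R']
    [Algebra.FiniteType A R'] [Module.Flat R' (R' ⊗[A] (P ⧸ LinearMap.range u₁))] :
    ∃ (s : Finset (R' ⊗[A] P')),
      (∀ k ∈ s, (u₁.restrictScalars A).baseChange R' k = 0) ∧
      ∀ (T : Type u) [CommRing T] [Algebra A T] [Algebra R' T] [IsScalarTower A R' T],
        (∀ k ∈ s, LinearMap.rTensor P' (IsScalarTower.toAlgHom A R' T).toLinearMap k = 0) →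
          Injective ((u₁.restrictScalars A).baseChange T) := by
  classical
  haveI : IsNoetherianRing A := Algebra.FiniteType.isNoetherianRing ℤ A
  haveI : IsNoetherianRing R' := Algebra.FiniteType.isNoetherianRing A R'
  haveI : IsNoetherianRing (R' ⊗[A] S₁) :=
    Algebra.FiniteType.isNoetherianRing R' (R' ⊗[A] S₁)
  have hφ' : IsBaseChange (R' ⊗[A] S₁) (TensorProduct.mk S₁ (R' ⊗[A] S₁) P' 1) :=
    TensorProduct.isBaseChange S₁ P' (R' ⊗[A] S₁)
  have hφ : IsBaseChange (R' ⊗[A] S₁) (TensorProduct.mk S₁ (R' ⊗[A] S₁) P 1) :=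
    TensorProduct.isBaseChange S₁ P (R' ⊗[A] S₁)
  have hcompat : ∀ p, (TensorProduct.mk S₁ (R' ⊗[A] S₁) P 1) (u₁ p) =
      u₁.baseChange (R' ⊗[A] S₁) ((TensorProduct.mk S₁ (R' ⊗[A] S₁) P' 1) p) := by
    intro p
    change (1 : R' ⊗[A] S₁) ⊗ₜ[S₁] u₁ p = u₁.baseChange (R' ⊗[A] S₁) ((1 : R' ⊗[A] S₁) ⊗ₜ[S₁] p)
    rw [LinearMap.baseChange_tmul]
  obtain ⟨ψ, hψ⟩ := Groth.Agent.Helper7.InjFlatBC.exists_isBaseChange_coker _ hφ' _ hφ u₁
    (u₁.baseChange (R' ⊗[A] S₁)) hcompat
  haveI : Module.Flat R' ((R' ⊗[A] S₁) ⊗[S₁] (P ⧸ LinearMap.range u₁)) :=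
    FS.stage_flat A S₁ R' (M₁ := P ⧸ LinearMap.range u₁)
  haveI hfl : Module.Flat R' (((R' ⊗[A] S₁) ⊗[S₁] P) ⧸
      LinearMap.range (u₁.baseChange (R' ⊗[A] S₁))) :=
    Module.Flat.of_linearEquiv (hψ.equiv.restrictScalars R').symm
  haveI : Module.Finite (R' ⊗[A] S₁) ((R' ⊗[A] S₁) ⊗[S₁] P') :=
    Module.Finite.base_change S₁ (R' ⊗[A] S₁) P'
  obtain ⟨s₀, hs₀⟩ : (LinearMap.ker (u₁.baseChange (R' ⊗[A] S₁))).FG := IsNoetherian.noetherian _
  refine ⟨s₀.image (cmp A (R' := R') _ hφ'), ?_, ?_⟩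
  · intro k hk
    obtain ⟨k₀, hk₀, rfl⟩ := Finset.mem_image.mp hk
    rw [baseChange_cmp _ hφ' _ hφ u₁ _ hcompat]
    have : k₀ ∈ LinearMap.ker (u₁.baseChange (R' ⊗[A] S₁)) := hs₀ ▸ Submodule.subset_span hk₀
    rw [LinearMap.mem_ker.mp this, map_zero]
  · intro T _ _ _ _ h0
    refine injective_baseChange_of_rTensor_eq_zero (A := A) (R' := R') _ hφ' _ hφ u₁ _ hcompat T
      (s₀ : Set ((R' ⊗[A] S₁) ⊗[S₁] P')) hs₀ ?_
    intro k hk
    exact h0 _ (Finset.mem_image_of_mem _ hk)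

/-- **The Noetherian step.** -/
theorem exists_subalgebra_finset [Module.Flat R (R ⊗[A] (P ⧸ LinearMap.range u₁))] :
    ∃ (R' : Subalgebra A R) (s : Finset (R' ⊗[A] P')),
      (∀ k ∈ s, (u₁.restrictScalars A).baseChange R' k = 0) ∧
      ∀ (T : Type u) [CommRing T] [Algebra A T] [Algebra R' T] [IsScalarTower A R' T],
        (∀ k ∈ s, LinearMap.rTensor P' (IsScalarTower.toAlgHom A R' T).toLinearMap k = 0) →
          Injective ((u₁.restrictScalars A).baseChange T) := by
  classical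
  haveI : IsNoetherianRing A := Algebra.FiniteType.isNoetherianRing ℤ A
  obtain ⟨T₀, hT₀⟩ := FS.exists_finset_forall_flat A S₁ (P ⧸ LinearMap.range u₁) R
  have hR'fg : (Algebra.adjoin A (T₀ : Set R)).FG := Subalgebra.fg_adjoin_finset T₀
  haveI : Module.Flat (Algebra.adjoin A (T₀ : Set R))
      ((Algebra.adjoin A (T₀ : Set R)) ⊗[A] (P ⧸ LinearMap.range u₁)) :=
    hT₀ _ Algebra.subset_adjoin hR'fg
  haveI : Algebra.FiniteType A (Algebra.adjoin A (T₀ : Set R)) :=
    (Subalgebra.fg_iff_finiteType _).mp hR'fg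
  obtain ⟨s, hs1, hs2⟩ := exists_finset_of_flat (A := A) u₁ (Algebra.adjoin A (T₀ : Set R))
  exact ⟨_, s, hs1, hs2⟩

end Conc

end Groth.Agent.Helper7.GD2
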