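import Mathlib
import Groth.Agent.Lib.Helper7.InjLocusGeneric
import Groth.Agent.Lib.Helper16.Sch.CMCons3
import Groth.Agent.Lib.Helper4.Constr

set_option autoImplicit false
set_option linter.style.haveILetI false
set_option linter.unusedSectionVars false

universe u

open TensorProduct Function Topology

namespace Groth.Agent.Helper7.InjLocus

open Groth.Agent.Helper7.FibreInj Groth.Agent.Helper7.InjLocusGeneric

/-- the locus of primes of `R` at which the fibre of `φ` is injective. -/
def injLocus (R : Type u) [CommRing R] {B : Type u} [CommRing B] [Algebra R B]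
    {M N : Type u} [AddCommGroup M] [Module B M] [Module R M] [IsScalarTower R B M]
    [AddCommGroup N] [Module B N] [Module R N] [IsScalarTower R B N] (φ : M →ₗ[B] N) :
    Set (PrimeSpectrum R) :=
  {q | Injective ((φ.restrictScalars R).baseChange q.asIdeal.ResidueField)}

section Q

variable {R D L B B' : Type*} [CommRing R] [CommRing D] [CommRing L] [CommRing B] [CommRing B']
  [Algebra R D] [Algebra D L] [Algebra R L] [IsScalarTower R D L] [Algebra R B] [Algebra D B']
  [Algebra B B'] [Algebra R B'] [IsScalarTower R D B'] [IsScalarTower R B B']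
  [Algebra.IsPushout R D B B']
  (X : Type*) [AddCommGroup X] [Module B X] [Module R X] [IsScalarTower R B X]

theorem isBaseChange_two_step :
    IsBaseChange L (((TensorProduct.mk D L (B' ⊗[B] X) 1).restrictScalars R) ∘ₗ
      ((TensorProduct.mk B B' X 1).restrictScalars R)) := by
  have h1 : IsBaseChange D ((TensorProduct.mk B B' X 1).restrictScalars R) :=
    isBaseChange_restrictScalars_of_isPushout (R₀ := R) (R := D) (S₀ := B)
      (S := B') _ (TensorProduct.isBaseChange B X B')
  exact h1.comp (TensorProduct.isBaseChange D (B' ⊗[B] X) L)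

end Q

section Noeth

variable {R B : Type u} [CommRing R] [CommRing B] [Algebra R B]
  {M N : Type u} [AddCommGroup M] [Module B M] [Module R M] [IsScalarTower R B M] [Module.Finite B M]
  [AddCommGroup N] [Module B N] [Module R N] [IsScalarTower R B N] [Module.Finite B N]

set_option maxHeartbeats 1600000 in
set_option synthInstance.maxHeartbeats 400000 in
theorem exists_generic_iff_aux (φ : M →ₗ[B] N) (p : Ideal R) [hp : p.IsPrime]
    (B' : Type u) [CommRing B'] [Algebra (R ⧸ p) B'] [Algebra B B'] [Algebra R B']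
    [IsScalarTower R (R ⧸ p) B'] [IsScalarTower R B B'] [Algebra.IsPushout R (R ⧸ p) B B']
    [Algebra.FiniteType (R ⧸ p) B'] [IsNoetherianRing B'] :
    ∃ (a : R) (P : Prop), a ∉ p ∧ ∀ q : PrimeSpectrum R, p ≤ q.asIdeal → a ∉ q.asIdeal →
      (q ∈ injLocus R φ ↔ P) := by
  obtain ⟨f, hf0, hf⟩ := exists_forall_injective_iff (D := R ⧸ p) (B' := B')
    (M' := B' ⊗[B] M) (N' := B' ⊗[B] N) (φ.baseChange B')
  obtain ⟨a, rfl⟩ := Ideal.Quotient.mk_surjective f
  have ha : a ∉ p := fun hmem => hf0 (Ideal.Quotient.eq_zero_iff_mem.mpr hmem)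
  refine ⟨a, Subsingleton (Localization.Away (Ideal.Quotient.mk p a) ⊗[R ⧸ p]
    (LinearMap.ker (φ.baseChange B'))), ha, fun q hpq haq => ?_⟩
  -- a point of `Spec L` above `q`
  have hqmem : q ∈ (PrimeSpectrum.zeroLocus (p : Set R) ∩
      (PrimeSpectrum.basicOpen a : Set (PrimeSpectrum R))) := ⟨hpq, haq⟩
  rw [← Groth.Agent.Helper16.CMCons.range_comap_quotient_away R p a] at hqmem
  obtain ⟨q', rfl⟩ := hqmem
  set L := Localization.Away (Ideal.Quotient.mk p a) with hL
  set κ := q'.asIdeal.ResidueField with hκ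
  haveI : IsScalarTower R L κ := inferInstance
  have hker : (PrimeSpectrum.comap (algebraMap R L) q').asIdeal =
      RingHom.ker (algebraMap R κ) := by
    ext x
    rw [RingHom.mem_ker, IsScalarTower.algebraMap_apply R L κ,
      Ideal.algebraMap_residueField_eq_zero]
    rfl
  unfold injLocus
  rw [Set.mem_ofPred_eq, ← baseChange_injective_iff_residueField (k := κ) _ hker,
    ← hf κ]
  exact (baseChange_injective_iff_of_isBaseChange (k := κ) (φ.restrictScalars R)
    (((φ.baseChange B').restrictScalars (R ⧸ p)).baseChange L) _ _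
    (isBaseChange_two_step (R := R) (D := R ⧸ p) (L := L) (B := B) (B' := B') M)
    (isBaseChange_two_step (R := R) (D := R ⧸ p) (L := L) (B := B) (B' := B') N)
    (fun x => by simp)).symm

end Noeth

section Noeth2

variable {R B : Type u} [CommRing R] [CommRing B] [Algebra R B] [IsNoetherianRing R]
  [Algebra.FiniteType R B]
  {M N : Type u} [AddCommGroup M] [Module B M] [Module R M] [IsScalarTower R B M] [Module.Finite B M]
  [AddCommGroup N] [Module B N] [Module R N] [IsScalarTower R B N] [Module.Finite B N]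

attribute [local instance] Algebra.TensorProduct.rightAlgebra

theorem exists_generic_iff (φ : M →ₗ[B] N) (p : Ideal R) [hp : p.IsPrime] :
    ∃ (a : R) (P : Prop), a ∉ p ∧ ∀ q : PrimeSpectrum R, p ≤ q.asIdeal → a ∉ q.asIdeal →
      (q ∈ injLocus R φ ↔ P) := by
  haveI : IsNoetherianRing B := Algebra.FiniteType.isNoetherianRing R B
  haveI : IsNoetherianRing ((R ⧸ p) ⊗[R] B) := Algebra.FiniteType.isNoetherianRing (R ⧸ p) _
  exact exists_generic_iff_aux φ p ((R ⧸ p) ⊗[R] B)

theorem exists_generic_piece (φ : M →ₗ[B] N) (p : Ideal R) [hp : p.IsPrime] :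
    ∃ a : R, a ∉ p ∧ IsConstructible (injLocus R φ ∩
      (PrimeSpectrum.zeroLocus (p : Set R) ∩ (PrimeSpectrum.basicOpen a : Set (PrimeSpectrum R)))) := by
  obtain ⟨a, P, ha, h⟩ := exists_generic_iff φ p
  refine ⟨a, ha, ?_⟩
  have hZ : IsConstructible (PrimeSpectrum.zeroLocus (p : Set R) ∩
      (PrimeSpectrum.basicOpen a : Set (PrimeSpectrum R))) :=
    (Groth.Agent.Helper4.Constr.isConstructible_of_isClosed
      (PrimeSpectrum.isClosed_zeroLocus _)).inter
      (Groth.Agent.Helper4.Constr.isConstructible_of_isOpen (PrimeSpectrum.basicOpen a).isOpen)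
  by_cases hP : P
  · have : injLocus R φ ∩ (PrimeSpectrum.zeroLocus (p : Set R) ∩
        (PrimeSpectrum.basicOpen a : Set (PrimeSpectrum R))) =
        PrimeSpectrum.zeroLocus (p : Set R) ∩ (PrimeSpectrum.basicOpen a : Set (PrimeSpectrum R)) := by
      ext q
      constructor
      · exact fun hq => hq.2
      · exact fun hq => ⟨(h q hq.1 hq.2).mpr hP, hq⟩
    rw [this]
    exact hZ
  · have : injLocus R φ ∩ (PrimeSpectrum.zeroLocus (p : Set R) ∩
        (PrimeSpectrum.basicOpen a : Set (PrimeSpectrum R))) = ∅ := by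
      ext q
      constructor
      · exact fun hq => (hP ((h q hq.2.1 hq.2.2).mp hq.1)).elim
      · exact fun hq => hq.elim
    rw [this]
    exact IsConstructible.empty

theorem isConstructible_inter (φ : M →ₗ[B] N) :
    ∀ Z : Set (PrimeSpectrum R), IsClosed Z → IsConstructible (injLocus R φ ∩ Z) := by
  apply Groth.Agent.Helper4.Constr.noeth_induction
  · intro Z hZcl hZirr ih
    have hp : (PrimeSpectrum.vanishingIdeal Z).IsPrime :=
      PrimeSpectrum.isIrreducible_iff_vanishingIdeal_isPrime.mp hZirr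
    obtain ⟨a, ha, hcons⟩ := exists_generic_piece φ (PrimeSpectrum.vanishingIdeal Z)
    obtain ⟨hZ'lt, hZeq⟩ := Groth.Agent.Helper16.CMCons.aux_split R Z hZcl hp a ha
    have hZ'cl : IsClosed (Z ∩ (PrimeSpectrum.zeroLocus {a} : Set (PrimeSpectrum R))) :=
      hZcl.inter (PrimeSpectrum.isClosed_zeroLocus _)
    have h1 := ih _ hZ'cl hZ'lt
    have hsplit : injLocus R φ ∩ Z =
        (injLocus R φ ∩ (Z ∩ (PrimeSpectrum.zeroLocus {a} : Set (PrimeSpectrum R)))) ∪
        (injLocus R φ ∩ ((PrimeSpectrum.zeroLocus (PrimeSpectrum.vanishingIdeal Z) ∩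
            PrimeSpectrum.basicOpen a : Set (PrimeSpectrum R)))) := by
      rw [← Set.inter_union_distrib_left]
      exact congrArg (fun W => injLocus R φ ∩ W) hZeq
    rw [hsplit]
    exact h1.union hcons
  · intro S hS hScl hSQ
    have : injLocus R φ ∩ (⋃₀ S) = ⋃ t ∈ S, injLocus R φ ∩ t := by
      ext x
      simp only [Set.mem_inter_iff, Set.mem_sUnion, Set.mem_iUnion, exists_prop]
      constructor
      · rintro ⟨h1, t, ht, h2⟩
        exact ⟨t, ht, h1, h2⟩
      · rintro ⟨t, ht, h1, h2⟩
        exact ⟨h1, t, ht, h2⟩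
    rw [this]
    exact IsConstructible.biUnion hS hSQ

theorem isConstructible_noeth (φ : M →ₗ[B] N) : IsConstructible (injLocus R φ) := by
  have := isConstructible_inter (R := R) φ Set.univ isClosed_univ
  simpa using this

end Noeth2

end Groth.Agent.Helper7.InjLocus
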