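import Mathlib
import Groth.Agent.Lib.Helper21.FL7

/-!
# Representing elements, vanishing and maps at finite stages (helper7)

For a pushout `S = R ⊗_A S₁` and the stages `R₁ ⊗_A S₁` (`R₁` a subalgebra of `R`):
* `exists_finset_rep`, `exists_finset_rep_mod`: elements of `S`, `N = S ⊗ N₁` come from every
  sufficiently large stage;
* `exists_finset_one_tmul_eq_zero`, `exists_finset_stage_tmul_eq_zero`: elements dying in the
  limit die at every sufficiently large stage;
* `exists_isBaseChange_cokerModel'`: cokernel models with the formula for the comparison map;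
* `exists_map_of_tmul_eq_zero`, `exists_finset_stage_map`: descent of a linear map from a finitely
  presented module to every sufficiently large stage.
-/

set_option autoImplicit false
set_option linter.style.haveILetI false
set_option linter.unusedSectionVars false

universe u

open TensorProduct Function

namespace Groth.Agent.Helper7.StageRep

open Groth.Agent.Helper21

section Vanish

variable {A R : Type u} [CommRing A] [CommRing R] [Algebra A R]

theorem exists_finset_one_tmul_eq_zero_aux {K Fr P : Type u} [AddCommGroup K] [Module A K]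
    [AddCommGroup Fr] [Module A Fr] [Module.Flat A Fr] [AddCommGroup P] [Module A P]
    (ι : K →ₗ[A] Fr) (π : Fr →ₗ[A] P) (hex : Function.Exact ι π) (hπ : Surjective π)
    (zt : Fr) (hz : (1 : R) ⊗ₜ[A] π zt = 0) :
    ∃ F : Finset R, ∀ R₁ : Subalgebra A R, (F : Set R) ⊆ R₁ → (1 : R₁) ⊗ₜ[A] π zt = 0 := by
  classical
  have h0 : (π.lTensor R) ((1 : R) ⊗ₜ[A] zt) = 0 := by
    rw [LinearMap.lTensor_tmul, hz]
  obtain ⟨y, hy⟩ := (lTensor_exact R hex hπ _).mp h0
  obtain ⟨J, hJ, y', hy'⟩ := Submodule.exists_fg_le_eq_rTensor_subtype y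
  obtain ⟨GJ, hGJ⟩ := hJ
  refine ⟨GJ, fun R₁ hR₁ => ?_⟩
  have hJR₁ : ∀ x ∈ J, x ∈ R₁ := by
    intro x hx
    rw [← hGJ] at hx
    have hle : Submodule.span A (GJ : Set R) ≤ Subalgebra.toSubmodule R₁ :=
      Submodule.span_le.mpr hR₁
    exact hle hx
  let incl : J →ₗ[A] R₁ :=
    { toFun := fun x => ⟨x.1, hJR₁ x.1 x.2⟩
      map_add' := fun _ _ => rfl
      map_smul' := fun _ _ => rfl }
  let v : R₁ →ₗ[A] R := R₁.val.toLinearMap
  have hvincl : v ∘ₗ incl = J.subtype := rfl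
  have hvinj : Injective (v.rTensor Fr) :=
    Module.Flat.rTensor_preserves_injective_linearMap v Subtype.val_injective
  have key : (ι.lTensor R₁) (incl.rTensor K y') = (1 : R₁) ⊗ₜ[A] zt := by
    apply hvinj
    have e1 : ∀ w : J ⊗[A] K, (v.rTensor Fr) ((ι.lTensor R₁) (incl.rTensor K w)) =
        (ι.lTensor R) ((v ∘ₗ incl).rTensor K w) := by
      intro w
      induction w using TensorProduct.induction_on with
      | zero => simp
      | add a b ha hb => simp only [map_add, ha, hb]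
      | tmul j k => rfl
    rw [e1, hvincl, ← hy', hy, LinearMap.rTensor_tmul]
    rfl
  have h1 : (π.lTensor R₁) ((ι.lTensor R₁) (incl.rTensor K y')) = 0 := by
    rw [← LinearMap.comp_apply, ← LinearMap.lTensor_comp, hex.linearMap_comp_eq_zero,
      LinearMap.lTensor_zero, LinearMap.zero_apply]
  rw [key, LinearMap.lTensor_tmul] at h1
  exact h1

/-- A tensor `1 ⊗ z` vanishing in `R ⊗ P` vanishes in `R₁ ⊗ P` for every sufficiently large
subalgebra `R₁` of `R`. -/
theorem exists_finset_one_tmul_eq_zero {P : Type u} [AddCommGroup P] [Module A P]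
    (z : P) (hz : (1 : R) ⊗ₜ[A] z = 0) :
    ∃ F : Finset R, ∀ R₁ : Subalgebra A R, (F : Set R) ⊆ R₁ → (1 : R₁) ⊗ₜ[A] z = 0 := by
  classical
  let π : (P →₀ A) →ₗ[A] P := Finsupp.linearCombination A id
  have hπ : Surjective π := Finsupp.linearCombination_id_surjective A P
  have hzt : π (Finsupp.single z 1) = z := by simp [π]
  have := exists_finset_one_tmul_eq_zero_aux (R := R) (K := ↥(LinearMap.ker π)) (LinearMap.ker π).subtype π
    (LinearMap.exact_subtype_ker_map π) hπ (Finsupp.single z 1) (by rw [hzt]; exact hz)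
  rw [hzt] at this
  exact this

end Vanish

section Rep

variable {A R S₁ S : Type u} [CommRing A] [CommRing R] [CommRing S₁] [CommRing S]
  [Algebra A R] [Algebra A S₁] [Algebra R S] [Algebra S₁ S] [Algebra A S]
  [IsScalarTower A R S] [IsScalarTower A S₁ S] [Algebra.IsPushout A R S₁ S]

attribute [local instance] FS.stageAlgebra Algebra.TensorProduct.rightAlgebra in
/-- Every element of `S = R ⊗ S₁` comes from every sufficiently large stage. -/
theorem exists_finset_rep (g : S) : ∃ F : Finset R, ∀ R₁ : Subalgebra A R, (F : Set R) ⊆ R₁ →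
    ∃ g₁ : R₁ ⊗[A] S₁, algebraMap (R₁ ⊗[A] S₁) S g₁ = g := by
  classical
  obtain ⟨J, hJ, y, hy⟩ := Submodule.exists_fg_le_eq_rTensor_subtype
    ((Algebra.IsPushout.equiv A R S₁ S).symm g)
  obtain ⟨GJ, hGJ⟩ := hJ
  refine ⟨GJ, fun R₁ hR₁ => ?_⟩
  have hJR₁ : ∀ x ∈ J, x ∈ R₁ := by
    intro x hx
    rw [← hGJ] at hx
    have hle : Submodule.span A (GJ : Set R) ≤ Subalgebra.toSubmodule R₁ :=
      Submodule.span_le.mpr hR₁
    exact hle hx
  let incl : J →ₗ[A] R₁ :=
    { toFun := fun x => ⟨x.1, hJR₁ x.1 x.2⟩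
      map_add' := fun _ _ => rfl
      map_smul' := fun _ _ => rfl }
  refine ⟨incl.rTensor S₁ y, ?_⟩
  have key : ∀ z : J ⊗[A] S₁, algebraMap (R₁ ⊗[A] S₁) S (incl.rTensor S₁ z) =
      Algebra.IsPushout.equiv A R S₁ S (J.subtype.rTensor S₁ z) := by
    intro z
    induction z using TensorProduct.induction_on with
    | zero => simp
    | add a b ha hb => simp only [map_add, ha, hb]
    | tmul j σ =>
      rw [LinearMap.rTensor_tmul, LinearMap.rTensor_tmul, FS.stageAlgebra_tmul,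
        Algebra.IsPushout.equiv_tmul]
      rfl
  rw [key, ← hy, AlgEquiv.apply_symm_apply]

end Rep

section Mod

variable {A R S₁ S : Type u} [CommRing A] [CommRing R] [CommRing S₁] [CommRing S]
  [Algebra A R] [Algebra A S₁] [Algebra R S] [Algebra S₁ S] [Algebra A S]
  [IsScalarTower A R S] [IsScalarTower A S₁ S] [Algebra.IsPushout A R S₁ S]
  {N₁ : Type u} [AddCommGroup N₁] [Module S₁ N₁] [Module A N₁] [IsScalarTower A S₁ N₁]
  {N : Type u} [AddCommGroup N] [Module S N] [Module S₁ N] [IsScalarTower S₁ S N]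

attribute [local instance] FS.stageAlgebra Algebra.TensorProduct.rightAlgebra

/-- Every element of `N = S ⊗ N₁` comes from every sufficiently large stage. -/
theorem exists_finset_rep_mod (hN : N₁ →ₗ[S₁] N) (hh : IsBaseChange S hN) (x : N) :
    ∃ F : Finset R, ∀ (R₁ : Subalgebra A R) [Module (R₁ ⊗[A] S₁) N]
      [IsScalarTower (R₁ ⊗[A] S₁) S N], (F : Set R) ⊆ R₁ →
      ∃ x₁ : (R₁ ⊗[A] S₁) ⊗[S₁] N₁, FS.stageMap A S₁ S R₁ hN x₁ = x := by
  classical
  induction x using hh.inductionOn with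
  | zero => exact ⟨∅, fun R₁ _ _ _ => ⟨0, map_zero _⟩⟩
  | tmul n =>
    refine ⟨∅, fun R₁ _ _ _ => ⟨1 ⊗ₜ n, ?_⟩⟩
    haveI := FS.stageModule_tower' A S₁ S R₁ (M := N)
    exact (TensorProduct.isBaseChange S₁ N₁ (R₁ ⊗[A] S₁)).lift_eq hN n
  | smul s y ih =>
    obtain ⟨F₁, h₁⟩ := ih
    obtain ⟨F₂, h₂⟩ := exists_finset_rep (A := A) (R := R) (S₁ := S₁) s
    refine ⟨F₁ ∪ F₂, fun R₁ _ _ hF => ?_⟩
    obtain ⟨y₁, hy₁⟩ := h₁ R₁ (fun a ha => hF (by simp [ha]))
    obtain ⟨s₁, hs₁⟩ := h₂ R₁ (fun a ha => hF (by simp [ha]))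
    refine ⟨s₁ • y₁, ?_⟩
    rw [map_smul, hy₁, ← hs₁, algebraMap_smul]
  | add y₁ y₂ ih₁ ih₂ =>
    obtain ⟨F₁, h₁⟩ := ih₁
    obtain ⟨F₂, h₂⟩ := ih₂
    refine ⟨F₁ ∪ F₂, fun R₁ _ _ hF => ?_⟩
    obtain ⟨z₁, hz₁⟩ := h₁ R₁ (fun a ha => hF (by simp [ha]))
    obtain ⟨z₂, hz₂⟩ := h₂ R₁ (fun a ha => hF (by simp [ha]))
    exact ⟨z₁ + z₂, by rw [map_add, hz₁, hz₂]⟩

/-- An element of `N₁` dying in `N = S ⊗ N₁` dies at every sufficiently large stage. -/
theorem exists_finset_stage_tmul_eq_zero (hN : N₁ →ₗ[S₁] N) (hh : IsBaseChange S hN) (z : N₁)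
    (hz : hN z = 0) :
    ∃ F : Finset R, ∀ R₁ : Subalgebra A R, (F : Set R) ⊆ R₁ →
      (1 : R₁ ⊗[A] S₁) ⊗ₜ[S₁] z = 0 := by
  classical
  have h1 : (1 : S) ⊗ₜ[S₁] z = 0 := by
    apply hh.equiv.injective
    rw [map_zero, IsBaseChange.equiv_tmul, hz, smul_zero]
  have h2 : (1 : R) ⊗ₜ[A] z = 0 := by
    rw [← Algebra.IsPushout.cancelBaseChange_tmul A R S₁ S N₁ z, h1, map_zero]
  obtain ⟨F, hF⟩ := exists_finset_one_tmul_eq_zero (A := A) (R := R) z h2
  refine ⟨F, fun R₁ hR₁ => ?_⟩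
  have h3 := hF R₁ hR₁
  apply (Algebra.IsPushout.cancelBaseChange A R₁ S₁ (R₁ ⊗[A] S₁) N₁).injective
  rw [Algebra.IsPushout.cancelBaseChange_tmul, h3, map_zero]

end Mod

section Coker

variable {S₁ S : Type u} [CommRing S₁] [CommRing S] [Algebra S₁ S]
  {M : Type u} [AddCommGroup M] [Module S M] [Module S₁ M] [IsScalarTower S₁ S M]
  {n m : ℕ} (c' : Fin m → Fin n → S₁) (f : (Fin n → S) →ₗ[S] M)
  (g : (Fin m → S) →ₗ[S] (Fin n → S))

/-- `FS.exists_isBaseChange_cokerModel` with the formula for the comparison map. -/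
theorem exists_isBaseChange_cokerModel' (hf : Surjective f) (hfg : Exact g f)
    (hc : ∀ k l, algebraMap S₁ S (c' k l) = g (Pi.single k 1) l) :
    ∃ h : FS.CokerModel c' →ₗ[S₁] M, IsBaseChange S h ∧
      ∀ v : Fin n → S₁, h (Submodule.Quotient.mk v) = f (fun l => algebraMap S₁ S (v l)) := by
  let h₁ : (Fin m → S₁) →ₗ[S₁] (Fin m → S) := (Algebra.linearMap S₁ S).compLeft (Fin m)
  let h₂ : (Fin n → S₁) →ₗ[S₁] (Fin n → S) := (Algebra.linearMap S₁ S).compLeft (Fin n)
  let g' : (Fin m → S₁) →ₗ[S₁] (Fin n → S₁) := Fintype.linearCombination S₁ c'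
  have comm₁ : h₂ ∘ₗ g' = (g.restrictScalars S₁) ∘ₗ h₁ := by
    apply LinearMap.pi_ext'
    intro k
    apply LinearMap.ext_ring
    ext l
    have e1 : h₁ (Pi.single k 1) = Pi.single k 1 := by
      ext j
      change algebraMap S₁ S ((Pi.single k 1 : Fin m → S₁) j) = (Pi.single k 1 : Fin m → S) j
      by_cases hjk : j = k
      · subst hjk
        rw [Pi.single_eq_same, Pi.single_eq_same, map_one]
      · rw [Pi.single_eq_of_ne hjk, Pi.single_eq_of_ne hjk, map_zero]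
    have e2 : g' (Pi.single k 1) = c' k := by
      simp [g']
    simp only [LinearMap.coe_comp, LinearMap.coe_single, Function.comp_apply,
      LinearMap.coe_restrictScalars]
    rw [e1, e2, ← hc]
    rfl
  have hle : LinearMap.range g' ≤ LinearMap.ker ((f.restrictScalars S₁) ∘ₗ h₂) := by
    rintro _ ⟨v, rfl⟩
    rw [LinearMap.mem_ker, ← LinearMap.comp_apply, LinearMap.comp_assoc, comm₁]
    exact hfg.apply_apply_eq_zero _
  let h₃ : FS.CokerModel c' →ₗ[S₁] M := (LinearMap.range g').liftQ _ hle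
  refine ⟨h₃, ?_, fun v => rfl⟩
  refine IsBaseChange.of_right_exact S h₁ h₂ h₃ (f := g') (g := (LinearMap.range g').mkQ)
    (f' := g) (g' := f) comm₁ ?_ ?_ ?_ ?_ (Submodule.mkQ_surjective _) hfg hf
  · exact Submodule.liftQ_mkQ _ _ hle
  · exact IsBaseChange.finitePow (Fin m) (IsBaseChange.linearMap S₁ S)
  · exact IsBaseChange.finitePow (Fin n) (IsBaseChange.linearMap S₁ S)
  · exact LinearMap.exact_map_mkQ_range g'

end Coker

section AbsMap

variable {S₁ S₂ S : Type u} [CommRing S₁] [CommRing S₂] [CommRing S]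
  [Algebra S₁ S₂] [Algebra S₂ S] [Algebra S₁ S] [IsScalarTower S₁ S₂ S]
  {N₁ : Type u} [AddCommGroup N₁] [Module S₁ N₁]
  {N : Type u} [AddCommGroup N] [Module S N] [Module S₁ N] [IsScalarTower S₁ S N]
  [Module S₂ N] [IsScalarTower S₂ S N] [IsScalarTower S₁ S₂ N]
  {M : Type u} [AddCommGroup M] [Module S M] [Module S₂ M] [IsScalarTower S₂ S M]

/-- Abstract form: if the relations of `M` are killed by the lifted values at the stage `S₂`,
the map descends to `S₂`. -/
theorem exists_map_of_tmul_eq_zero (hN : N₁ →ₗ[S₁] N) (u : M →ₗ[S] N)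
    {n m : ℕ} (f : (Fin n → S) →ₗ[S] M) (g : (Fin m → S) →ₗ[S] (Fin n → S))
    (hf : Surjective f) (hfg : Exact g f)
    (c' : Fin m → Fin n → S₁) (hc : ∀ k l, algebraMap S₁ S (c' k l) = g (Pi.single k 1) l)
    (ν : Fin n → N₁) (hν : ∀ l, hN (ν l) = u (f (Pi.single l 1)))
    (hzk : ∀ k, (1 : S₂) ⊗ₜ[S₁] (∑ l, c' k l • ν l) = 0) :
    ∃ (fM : FS.CokerModel (fun k l => algebraMap S₁ S₂ (c' k l)) →ₗ[S₂] M)
      (u₂ : FS.CokerModel (fun k l => algebraMap S₁ S₂ (c' k l)) →ₗ[S₂] S₂ ⊗[S₁] N₁),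
      IsBaseChange S fM ∧
        ∀ x, (TensorProduct.isBaseChange S₁ N₁ S₂).lift hN (u₂ x) = u (fM x) := by
  classical
  have hc'' : ∀ k l, algebraMap S₂ S (algebraMap S₁ S₂ (c' k l)) = g (Pi.single k 1) l :=
    fun k l => by rw [← IsScalarTower.algebraMap_apply S₁ S₂ S, hc]
  obtain ⟨fM, hfM, hfMv⟩ := exists_isBaseChange_cokerModel'
    (fun k l => algebraMap S₁ S₂ (c' k l)) f g hf hfg hc''
  let ut : (Fin n → S₂) →ₗ[S₂] S₂ ⊗[S₁] N₁ :=
    Fintype.linearCombination S₂ (fun l => (1 : S₂) ⊗ₜ[S₁] ν l)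
  have hk : ∀ k, ut (fun l => algebraMap S₁ S₂ (c' k l)) = 0 := by
    intro k
    have : ut (fun l => algebraMap S₁ S₂ (c' k l)) = (1 : S₂) ⊗ₜ[S₁] (∑ l, c' k l • ν l) := by
      simp only [ut, Fintype.linearCombination_apply, TensorProduct.tmul_sum]
      refine Finset.sum_congr rfl fun l _ => ?_
      rw [TensorProduct.tmul_smul, algebraMap_smul]
    rw [this, hzk]
  have hle : LinearMap.range (Fintype.linearCombination S₂
      (fun k l => algebraMap S₁ S₂ (c' k l))) ≤ LinearMap.ker ut := by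
    rintro _ ⟨v, rfl⟩
    rw [LinearMap.mem_ker]
    have hv : (Fintype.linearCombination S₂ (fun k l => algebraMap S₁ S₂ (c' k l))) v =
        ∑ k, v k • (fun l => algebraMap S₁ S₂ (c' k l)) :=
      Fintype.linearCombination_apply _ _ _
    rw [hv, map_sum]
    refine Finset.sum_eq_zero fun k _ => ?_
    rw [map_smul, hk, smul_zero]
  let u₂ : FS.CokerModel (fun k l => algebraMap S₁ S₂ (c' k l)) →ₗ[S₂] S₂ ⊗[S₁] N₁ :=
    (LinearMap.range (Fintype.linearCombination S₂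
      (fun k l => algebraMap S₁ S₂ (c' k l)))).liftQ ut hle
  refine ⟨fM, u₂, hfM, fun x => ?_⟩
  obtain ⟨v, rfl⟩ := Submodule.Quotient.mk_surjective _ x
  have hsm : ∀ n₁ : N₁, (TensorProduct.isBaseChange S₁ N₁ S₂).lift hN ((1 : S₂) ⊗ₜ[S₁] n₁) =
      hN n₁ := fun n₁ => (TensorProduct.isBaseChange S₁ N₁ S₂).lift_eq hN n₁
  have h1 : u₂ (Submodule.Quotient.mk v) = ut v := rfl
  rw [h1, hfMv]
  simp only [ut, Fintype.linearCombination_apply, map_sum, map_smul, hsm, hν]
  rw [pi_eq_sum_univ' (fun l => algebraMap S₂ S (v l))]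
  simp only [map_sum, map_smul]
  refine Finset.sum_congr rfl fun l _ => ?_
  rw [algebraMap_smul]

end AbsMap

section StageMap

variable {A R S₁ S : Type u} [CommRing A] [CommRing R] [CommRing S₁] [CommRing S]
  [Algebra A R] [Algebra A S₁] [Algebra R S] [Algebra S₁ S] [Algebra A S]
  [IsScalarTower A R S] [IsScalarTower A S₁ S] [Algebra.IsPushout A R S₁ S]
  {N₁ : Type u} [AddCommGroup N₁] [Module S₁ N₁] [Module A N₁] [IsScalarTower A S₁ N₁]
  {N : Type u} [AddCommGroup N] [Module S N] [Module S₁ N] [IsScalarTower S₁ S N]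
  {M : Type u} [AddCommGroup M] [Module S M]

attribute [local instance] FS.stageAlgebra Algebra.TensorProduct.rightAlgebra

/-- Given exact lifts of a presentation matrix of `M` and of the values of `u : M → N` on the
generators to the base stage, the map `u` descends to every sufficiently large stage. -/
theorem exists_finset_stage_map (hN : N₁ →ₗ[S₁] N) (hh : IsBaseChange S hN) (u : M →ₗ[S] N)
    {n m : ℕ} (f : (Fin n → S) →ₗ[S] M) (g : (Fin m → S) →ₗ[S] (Fin n → S))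
    (hf : Surjective f) (hfg : Exact g f)
    (c' : Fin m → Fin n → S₁) (hc : ∀ k l, algebraMap S₁ S (c' k l) = g (Pi.single k 1) l)
    (ν : Fin n → N₁) (hν : ∀ l, hN (ν l) = u (f (Pi.single l 1))) :
    ∃ F : Finset R, ∀ (R₂ : Subalgebra A R) [Module (R₂ ⊗[A] S₁) M]
      [IsScalarTower (R₂ ⊗[A] S₁) S M] [Module (R₂ ⊗[A] S₁) N] [IsScalarTower (R₂ ⊗[A] S₁) S N],
      (F : Set R) ⊆ R₂ →
      ∃ (fM : FS.CokerModel (fun k l => algebraMap S₁ (R₂ ⊗[A] S₁) (c' k l)) →ₗ[R₂ ⊗[A] S₁] M)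
        (u₂ : FS.CokerModel (fun k l => algebraMap S₁ (R₂ ⊗[A] S₁) (c' k l)) →ₗ[R₂ ⊗[A] S₁]
          (R₂ ⊗[A] S₁) ⊗[S₁] N₁),
        IsBaseChange S fM ∧ ∀ x, FS.stageMap A S₁ S R₂ hN (u₂ x) = u (fM x) := by
  classical
  have hz : ∀ k, hN (∑ l, c' k l • ν l) = 0 := by
    intro k
    have h1 : hN (∑ l, c' k l • ν l) =
        u (f (∑ l, g (Pi.single k 1) l • Pi.single (M := fun _ => S) l (1 : S))) := by
      simp only [map_sum, map_smul, hν]
      refine Finset.sum_congr rfl fun l _ => ?_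
      rw [← hc, algebraMap_smul]
    rw [h1, ← pi_eq_sum_univ', hfg.apply_apply_eq_zero, map_zero]
  choose Fk hFk using fun k =>
    exists_finset_stage_tmul_eq_zero (A := A) (R := R) hN hh (∑ l, c' k l • ν l) (hz k)
  refine ⟨Finset.univ.biUnion Fk, fun R₂ _ _ _ _ hF => ?_⟩
  have hzk : ∀ k, (1 : R₂ ⊗[A] S₁) ⊗ₜ[S₁] (∑ l, c' k l • ν l) = 0 := fun k =>
    hFk k R₂ (fun a ha => hF (by
      simp only [Finset.coe_biUnion, Finset.coe_univ, Set.mem_univ, Set.iUnion_true,
        Set.mem_iUnion]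
      exact ⟨k, ha⟩))
  haveI := FS.stageModule_tower' A S₁ S R₂ (M := N)
  exact exists_map_of_tmul_eq_zero (S₂ := R₂ ⊗[A] S₁) hN u f g hf hfg c' hc ν hν hzk

end StageMap

end Groth.Agent.Helper7.StageRep
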