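import Mathlib
import Groth.Agent.Lib.Helper7.InjLocusNoeth
import Groth.Agent.Lib.Helper7.MapDescent2
import Groth.Agent.Lib.Helper16.Alg.ModCons0

/-!
# Constructibility of the fibrewise injectivity locus (helper7)

For a finitely presented `R`-algebra `B` and a linear map `φ` of finitely presented `B`-modules,
the set of primes `q` of `R` such that `κ(q) ⊗ φ` is injective is constructible.
-/

set_option autoImplicit false
set_option linter.style.haveILetI false
set_option linter.unusedSectionVars false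

universe u

open TensorProduct Function Topology

namespace Groth.Agent.Helper7.InjLocus

open Groth.Agent.Helper7.FibreInj Groth.Agent.Helper7.InjLocusGeneric

section Transfer

variable {R₀ R S₀ S : Type u} [CommRing R₀] [CommRing R] [CommRing S₀] [CommRing S]
  [Algebra R₀ R] [Algebra R₀ S₀] [Algebra R S] [Algebra S₀ S] [Algebra R₀ S]
  [IsScalarTower R₀ R S] [IsScalarTower R₀ S₀ S] [Algebra.IsPushout R₀ R S₀ S]
  {M₀ : Type u} [AddCommGroup M₀] [Module S₀ M₀] [Module R₀ M₀] [IsScalarTower R₀ S₀ M₀]
  {M : Type u} [AddCommGroup M] [Module S M] [Module R M] [IsScalarTower R S M] [Module S₀ M]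
  [IsScalarTower S₀ S M]
  {N₀ : Type u} [AddCommGroup N₀] [Module S₀ N₀] [Module R₀ N₀] [IsScalarTower R₀ S₀ N₀]
  {N : Type u} [AddCommGroup N] [Module S N] [Module R N] [IsScalarTower R S N] [Module S₀ N]
  [IsScalarTower S₀ S N]

theorem tower_aux (X : Type u) [AddCommGroup X] [Module S X] [Module R X] [IsScalarTower R S X]
    [Module S₀ X] [IsScalarTower S₀ S X] :
    letI : Module R₀ X := Module.compHom X (algebraMap R₀ R)
    IsScalarTower R₀ S₀ X := by
  letI : Module R₀ X := Module.compHom X (algebraMap R₀ R)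
  refine ⟨fun r s x => ?_⟩
  change (r • s) • x = algebraMap R₀ R r • (s • x)
  rw [← algebraMap_smul S (r • s) x, ← algebraMap_smul S s x,
    ← algebraMap_smul S (algebraMap R₀ R r) (algebraMap S₀ S s • x), smul_smul,
    Algebra.smul_def, map_mul, ← IsScalarTower.algebraMap_apply R₀ S₀ S,
    ← IsScalarTower.algebraMap_apply R₀ R S]

set_option maxHeartbeats 1600000 in
theorem injLocus_eq_preimage (u₀ : M₀ →ₗ[S₀] N₀) (u : M →ₗ[S] N)
    (fM : M₀ →ₗ[S₀] M) (fN : N₀ →ₗ[S₀] N) (hfM : IsBaseChange S fM) (hfN : IsBaseChange S fN)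
    (h : ∀ x, fN (u₀ x) = u (fM x)) :
    injLocus R u = PrimeSpectrum.comap (algebraMap R₀ R) ⁻¹' injLocus R₀ u₀ := by
  letI : Module R₀ M := Module.compHom M (algebraMap R₀ R)
  haveI : IsScalarTower R₀ R M := IsScalarTower.of_algebraMap_smul fun _ _ => rfl
  haveI : IsScalarTower R₀ S₀ M := tower_aux (R₀ := R₀) (R := R) (S₀ := S₀) (S := S) M
  letI : Module R₀ N := Module.compHom N (algebraMap R₀ R)
  haveI : IsScalarTower R₀ R N := IsScalarTower.of_algebraMap_smul fun _ _ => rfl
  haveI : IsScalarTower R₀ S₀ N := tower_aux (R₀ := R₀) (R := R) (S₀ := S₀) (S := S) N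
  have hα : IsBaseChange R (fM.restrictScalars R₀) :=
    isBaseChange_restrictScalars_of_isPushout fM hfM
  have hβ : IsBaseChange R (fN.restrictScalars R₀) :=
    isBaseChange_restrictScalars_of_isPushout fN hfN
  ext q
  unfold injLocus
  rw [Set.mem_preimage, Set.mem_ofPred_eq, Set.mem_ofPred_eq]
  set κ := q.asIdeal.ResidueField with hκ
  haveI : IsScalarTower R₀ R κ := inferInstance
  have hker : (PrimeSpectrum.comap (algebraMap R₀ R) q).asIdeal =
      RingHom.ker (algebraMap R₀ κ) := by
    ext x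
    rw [RingHom.mem_ker, IsScalarTower.algebraMap_apply R₀ R κ,
      Ideal.algebraMap_residueField_eq_zero]
    rfl
  rw [← baseChange_injective_iff_residueField (k := κ) _ hker]
  exact baseChange_injective_iff_of_isBaseChange (k := κ) (u₀.restrictScalars R₀)
    (u.restrictScalars R) (fM.restrictScalars R₀) (fN.restrictScalars R₀) hα hβ h

end Transfer

section Main

variable {R B : Type u} [CommRing R] [CommRing B] [Algebra R B] [Algebra.FinitePresentation R B]
  {M N : Type u} [AddCommGroup M] [Module B M] [Module R M] [IsScalarTower R B M]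
  [Module.FinitePresentation B M]
  [AddCommGroup N] [Module B N] [Module R N] [IsScalarTower R B N] [Module.FinitePresentation B N]

set_option maxHeartbeats 1600000 in
/-- **Constructibility of the fibrewise injectivity locus.** -/
theorem isConstructible_injLocus (φ : M →ₗ[B] N) : IsConstructible (injLocus R φ) := by
  obtain ⟨A, _, _, S₁, _, _, _, _, _, _, N₁, _, _, _, _, hN, hA, hS₁, hN₁, hpo, hh⟩ :=
    Groth.Agent.Helper16.ModCons.exists_model_mod R B N
  haveI := hA
  haveI := hS₁
  haveI := hN₁
  haveI := hpo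
  letI : Module A N₁ := Module.compHom N₁ (algebraMap A S₁)
  haveI : IsScalarTower A S₁ N₁ := IsScalarTower.of_algebraMap_smul fun _ _ => rfl
  obtain ⟨R₀, _, _, S₀, _, _, _, _, _, _, M₀, _, _, _, _, N₀, _, _, _, _, _, _, fM, fN, u₀,
    hR₀, hS₀, hM₀, hpo₀, hfM, hfN, hcompat, hN₀⟩ :=
    Groth.Agent.Helper7.MapDescent2.exists_descent_map (A := A) (R := R) hN hh φ
  haveI := hR₀
  haveI := hS₀
  haveI := hM₀
  haveI := hpo₀
  haveI := hN₀
  letI : Module R₀ M₀ := Module.compHom M₀ (algebraMap R₀ S₀)
  haveI : IsScalarTower R₀ S₀ M₀ := IsScalarTower.of_algebraMap_smul fun _ _ => rfl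
  haveI : IsNoetherianRing R₀ := Algebra.FiniteType.isNoetherianRing ℤ R₀
  have hcons : IsConstructible (injLocus R₀ u₀) := isConstructible_noeth (R := R₀) u₀
  have hpre : IsConstructible ((AlgebraicGeometry.Spec.map
      (CommRingCat.ofHom (algebraMap R₀ R))) ⁻¹' (injLocus R₀ u₀ :
        Set (AlgebraicGeometry.Spec (CommRingCat.of R₀)))) :=
    (AlgebraicGeometry.Spec.map (CommRingCat.ofHom (algebraMap R₀ R))).isConstructible_preimage
      hcons
  rw [injLocus_eq_preimage (R₀ := R₀) (R := R) u₀ φ fM fN hfM hfN hcompat]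
  exact hpre

end Main

end Groth.Agent.Helper7.InjLocus
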