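import Mathlib
import Groth.Agent.Lib.Helper7.GD2
import Groth.Agent.Lib.Helper7.InjLocus
import Groth.Agent.Lib.Helper14.LimFlat

/-!
# Injectivity with flat cokernel descends to a stage of a directed colimit: global form (helper7)
-/

set_option autoImplicit false
set_option linter.style.haveILetI false
set_option linter.unusedSectionVars false

universe u

open TensorProduct Function

namespace Groth.Agent.Helper7.GD3

open Groth.Agent.Helper7.GD1 Groth.Agent.Helper7.GD2 Groth.Agent.Helper7.InjLocusGeneric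

section K

variable {C₀ B₀ : Type u} [CommRing C₀] [CommRing B₀] [Algebra C₀ B₀]
  {M' M : Type u} [AddCommGroup M'] [Module B₀ M'] [Module C₀ M'] [IsScalarTower C₀ B₀ M']
  [AddCommGroup M] [Module B₀ M] [Module C₀ M] [IsScalarTower C₀ B₀ M]
  (u : M' →ₗ[B₀] M) (T : Type u) [CommRing T] [Algebra C₀ T]

/-- the cokernel of the base change is the base change of the cokernel -/
theorem flat_tensor_coker_iff :
    Module.Flat T (T ⊗[C₀] (M ⧸ LinearMap.range u)) ↔
      Module.Flat T ((T ⊗[C₀] M) ⧸ LinearMap.range ((u.restrictScalars C₀).baseChange T)) := by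
  have hcompat : ∀ x, (TensorProduct.mk C₀ T M 1) ((u.restrictScalars C₀) x) =
      (u.restrictScalars C₀).baseChange T ((TensorProduct.mk C₀ T M' 1) x) := by
    intro x
    change (1 : T) ⊗ₜ[C₀] u x = (u.restrictScalars C₀).baseChange T ((1 : T) ⊗ₜ[C₀] x)
    rw [LinearMap.baseChange_tmul]
    rfl
  obtain ⟨ψ, hψ⟩ := Groth.Agent.Helper7.InjFlatBC.exists_isBaseChange_coker
    (TensorProduct.mk C₀ T M' 1) (TensorProduct.isBaseChange C₀ M' T)
    (TensorProduct.mk C₀ T M 1) (TensorProduct.isBaseChange C₀ M T)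
    (u.restrictScalars C₀) ((u.restrictScalars C₀).baseChange T) hcompat
  have hrange : LinearMap.range (u.restrictScalars C₀) = (LinearMap.range u).restrictScalars C₀ := by
    ext x
    rfl
  let e₀ : (M ⧸ LinearMap.range (u.restrictScalars C₀)) ≃ₗ[C₀] (M ⧸ LinearMap.range u) :=
    (Submodule.quotEquivOfEq _ _ hrange) ≪≫ₗ
      (Submodule.Quotient.restrictScalarsEquiv C₀ (LinearMap.range u))
  let e : T ⊗[C₀] (M ⧸ LinearMap.range u) ≃ₗ[T]
      (T ⊗[C₀] M) ⧸ LinearMap.range ((u.restrictScalars C₀).baseChange T) :=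
    (AlgebraTensorModule.congr (LinearEquiv.refl T T) e₀.symm) ≪≫ₗ hψ.equiv
  exact Module.Flat.equiv_iff e

end K

section M

variable {A C₀ S₁ B₀ : Type u} [CommRing A] [CommRing C₀] [CommRing S₁] [CommRing B₀]
  [Algebra A C₀] [Algebra A S₁] [Algebra C₀ B₀] [Algebra S₁ B₀] [Algebra A B₀]
  [IsScalarTower A C₀ B₀] [IsScalarTower A S₁ B₀] [Algebra.IsPushout A C₀ S₁ B₀]
  {P' : Type u} [AddCommGroup P'] [Module S₁ P'] [Module A P'] [IsScalarTower A S₁ P']
  {P : Type u} [AddCommGroup P] [Module S₁ P] [Module A P] [IsScalarTower A S₁ P]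
  {M' : Type u} [AddCommGroup M'] [Module B₀ M'] [Module C₀ M'] [IsScalarTower C₀ B₀ M']
  [Module S₁ M'] [IsScalarTower S₁ B₀ M'] [Module A M'] [IsScalarTower A C₀ M']
  [IsScalarTower A S₁ M'] [IsScalarTower A B₀ M']
  {M : Type u} [AddCommGroup M] [Module B₀ M] [Module C₀ M] [IsScalarTower C₀ B₀ M]
  [Module S₁ M] [IsScalarTower S₁ B₀ M] [Module A M] [IsScalarTower A C₀ M]
  [IsScalarTower A S₁ M] [IsScalarTower A B₀ M]
  (fM : P' →ₗ[S₁] M') (hfM : IsBaseChange B₀ fM) (fN : P →ₗ[S₁] M) (hfN : IsBaseChange B₀ fN)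
  (u₁ : P' →ₗ[S₁] P) (u : M' →ₗ[B₀] M) (hcompat : ∀ x, fN (u₁ x) = u (fM x))
  (T : Type u) [CommRing T] [Algebra C₀ T] [Algebra A T] [IsScalarTower A C₀ T]

include hfM hfN hcompat in
/-- injectivity of the base change, computed from a model -/
theorem injective_baseChange_iff_model :
    Injective ((u.restrictScalars C₀).baseChange T) ↔
      Injective ((u₁.restrictScalars A).baseChange T) := by
  have hα : IsBaseChange C₀ (fM.restrictScalars A) :=
    isBaseChange_restrictScalars_of_isPushout fM hfM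
  have hβ : IsBaseChange C₀ (fN.restrictScalars A) :=
    isBaseChange_restrictScalars_of_isPushout fN hfN
  have ha' := IsBaseChange.comp hα (TensorProduct.isBaseChange C₀ M' T)
  have ha := IsBaseChange.comp hβ (TensorProduct.isBaseChange C₀ M T)
  refine injective_iff_of_isBaseChange (u₁.restrictScalars A)
    ((u.restrictScalars C₀).baseChange T) ((u₁.restrictScalars A).baseChange T)
    _ _ (TensorProduct.mk A T P' 1) (TensorProduct.mk A T P 1) ha' ha
    (TensorProduct.isBaseChange A P' T) (TensorProduct.isBaseChange A P T) ?_ ?_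
  · intro p
    change (u.restrictScalars C₀).baseChange T ((1 : T) ⊗ₜ[C₀] fM p) = (1 : T) ⊗ₜ[C₀] fN (u₁ p)
    rw [LinearMap.baseChange_tmul, hcompat]
    rfl
  · intro p
    change (u₁.restrictScalars A).baseChange T ((1 : T) ⊗ₜ[A] p) = (1 : T) ⊗ₜ[A] u₁ p
    rw [LinearMap.baseChange_tmul]
    rfl

include hfM hfN hcompat in
/-- flatness of the base change of the cokernel, computed from a model -/
theorem flat_tensor_coker_iff_model :
    Module.Flat T (T ⊗[C₀] (M ⧸ LinearMap.range u)) ↔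
      Module.Flat T (T ⊗[A] (P ⧸ LinearMap.range u₁)) := by
  obtain ⟨ψ, hψ⟩ := Groth.Agent.Helper7.InjFlatBC.exists_isBaseChange_coker fM hfM fN hfN u₁ u
    hcompat
  have hψ' : IsBaseChange C₀ (ψ.restrictScalars A) :=
    isBaseChange_restrictScalars_of_isPushout ψ hψ
  let e : T ⊗[A] (P ⧸ LinearMap.range u₁) ≃ₗ[T] T ⊗[C₀] (M ⧸ LinearMap.range u) :=
    (AlgebraTensorModule.cancelBaseChange A C₀ T T (P ⧸ LinearMap.range u₁)).symm ≪≫ₗ
      AlgebraTensorModule.congr (LinearEquiv.refl T T) hψ'.equiv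
  exact (Module.Flat.equiv_iff e).symm

end M

section Main

open Groth.Agent.Helper29.ColimTensor

variable {ι : Type u} [Preorder ι] [IsDirected ι (· ≤ ·)] [Nonempty ι]
  {C₀ : Type u} [CommRing C₀] (G : ι → Type u) [∀ i, CommRing (G i)] [∀ i, Algebra C₀ (G i)]
  (f : ∀ i j, i ≤ j → (G i →ₐ[C₀] G j)) (C : Type u) [CommRing C] [Algebra C₀ C]
  (g : ∀ i, G i →ₐ[C₀] C)
  (hg : ∀ i j (h : i ≤ j), (g j).comp (f i j h) = g i)
  (hsurj : ∀ a : C, ∃ i, ∃ x : G i, g i x = a)
  (hker : ∀ i (x : G i), g i x = 0 → ∃ j, ∃ h : i ≤ j, f i j h x = 0)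
  {B₀ : Type u} [CommRing B₀] [Algebra C₀ B₀] [Algebra.FinitePresentation C₀ B₀]
  {M' M : Type u} [AddCommGroup M'] [Module B₀ M'] [Module C₀ M'] [IsScalarTower C₀ B₀ M']
  [Module.FinitePresentation B₀ M']
  [AddCommGroup M] [Module B₀ M] [Module C₀ M] [IsScalarTower C₀ B₀ M]
  [Module.FinitePresentation B₀ M]
  (u : M' →ₗ[B₀] M)

include hg hsurj hker in
set_option maxHeartbeats 3200000 in
/-- **Global form.** If `C ⊗ u` is injective with `C`-flat cokernel, the same holds at a stage. -/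
theorem globalD (hinj : Injective ((u.restrictScalars C₀).baseChange C))
    (hflat : Module.Flat C ((C ⊗[C₀] M) ⧸ LinearMap.range ((u.restrictScalars C₀).baseChange C))) :
    ∃ i, Injective ((u.restrictScalars C₀).baseChange (G i)) ∧
      Module.Flat (G i)
        ((G i ⊗[C₀] M) ⧸ LinearMap.range ((u.restrictScalars C₀).baseChange (G i))) := by
  classical
  -- the cokernel is finitely presented
  haveI hNfp : Module.FinitePresentation B₀ (M ⧸ LinearMap.range u) := by
    refine Module.finitePresentation_of_surjective (LinearMap.range u).mkQ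
      (Submodule.mkQ_surjective _) ?_
    rw [Submodule.ker_mkQ, LinearMap.range_eq_map]
    exact Submodule.FG.map _ (Module.Finite.fg_top)
  have hflat' : Module.Flat C (C ⊗[C₀] (M ⧸ LinearMap.range u)) :=
    (flat_tensor_coker_iff u C).mpr hflat
  obtain ⟨i₁, hi₁⟩ := Groth.Agent.Helper14.LimFlat.flat_descends G f C g hg hsurj hker
    (B₀ := B₀) (M ⧸ LinearMap.range u) hflat'
  -- a Noetherian model
  obtain ⟨A₀, _, _, S₀, _, _, _, _, _, _, N₀, _, _, _, _, hN, hA₀, hS₀, hN₀, hpo₀, hh⟩ :=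
    Groth.Agent.Helper16.ModCons.exists_model_mod C₀ B₀ M
  haveI := hA₀
  haveI := hS₀
  haveI := hN₀
  haveI := hpo₀
  letI : Module A₀ N₀ := Module.compHom N₀ (algebraMap A₀ S₀)
  haveI : IsScalarTower A₀ S₀ N₀ := IsScalarTower.of_algebraMap_smul fun _ _ => rfl
  obtain ⟨A, _, _, S₁, _, _, _, _, _, _, P', _, _, _, _, P, _, _, _, _, _, _, fM, fN, u₁,
    hA, hS₁, hP', hpo, hfM, hfN, hcompat, hP⟩ :=
    Groth.Agent.Helper7.MapDescent2.exists_descent_map (A := A₀) (R := C₀) hN hh u
  haveI := hA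
  haveI := hS₁
  haveI := hP'
  haveI := hpo
  haveI := hP
  letI : Module A P' := Module.compHom P' (algebraMap A S₁)
  haveI : IsScalarTower A S₁ P' := IsScalarTower.of_algebraMap_smul fun _ _ => rfl
  letI : Module A M' := Module.compHom M' (algebraMap A C₀)
  haveI : IsScalarTower A C₀ M' := IsScalarTower.of_algebraMap_smul fun _ _ => rfl
  haveI : IsScalarTower A S₁ M' :=
    Groth.Agent.Helper7.InjLocus.tower_aux (R₀ := A) (R := C₀) (S₀ := S₁) (S := B₀) M'
  haveI : IsScalarTower A B₀ M' := IsScalarTower.of_algebraMap_smul fun r x => by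
    rw [IsScalarTower.algebraMap_apply A C₀ B₀, algebraMap_smul]
    rfl
  letI : Module A M := Module.compHom M (algebraMap A C₀)
  haveI : IsScalarTower A C₀ M := IsScalarTower.of_algebraMap_smul fun _ _ => rfl
  haveI : IsScalarTower A S₁ M :=
    Groth.Agent.Helper7.InjLocus.tower_aux (R₀ := A) (R := C₀) (S₀ := S₁) (S := B₀) M
  haveI : IsScalarTower A B₀ M := IsScalarTower.of_algebraMap_smul fun r x => by
    rw [IsScalarTower.algebraMap_apply A C₀ B₀, algebraMap_smul]
    rfl
  -- the `A`-algebra structures on the system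
  letI algAG : ∀ i, Algebra A (G i) := fun i =>
    ((algebraMap C₀ (G i)).comp (algebraMap A C₀)).toAlgebra
  haveI towAG : ∀ i, IsScalarTower A C₀ (G i) := fun i =>
    IsScalarTower.of_algebraMap_eq fun _ => rfl
  letI algAC : Algebra A C := ((algebraMap C₀ C).comp (algebraMap A C₀)).toAlgebra
  haveI towAC : IsScalarTower A C₀ C := IsScalarTower.of_algebraMap_eq fun _ => rfl
  -- flatness of the model of the cokernel at the stage `i₁`
  haveI hfl₁ : Module.Flat (G i₁) (G i₁ ⊗[A] (P ⧸ LinearMap.range u₁)) :=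
    (flat_tensor_coker_iff_model fM hfM fN hfN u₁ u hcompat (G i₁)).mp hi₁
  obtain ⟨R', s, hs1, hs2⟩ := exists_subalgebra_finset (A := A) u₁ (G i₁)
  -- the colimit as an `R'`-algebra
  letI algR'C : Algebra R' C := ((g i₁).toRingHom.comp (algebraMap R' (G i₁))).toAlgebra
  haveI : IsScalarTower A R' C := IsScalarTower.of_algebraMap_eq fun a => by
    change algebraMap C₀ C (algebraMap A C₀ a) =
      g i₁ (algebraMap R' (G i₁) (algebraMap A R' a))
    rw [← IsScalarTower.algebraMap_apply A R' (G i₁), IsScalarTower.algebraMap_apply A C₀ (G i₁),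
      AlgHom.commutes]
  have hinjC : Injective ((u₁.restrictScalars A).baseChange C) :=
    (injective_baseChange_iff_model fM hfM fN hfN u₁ u hcompat C).mp hinj
  have hkC : ∀ k ∈ s, LinearMap.rTensor P' (IsScalarTower.toAlgHom A R' C).toLinearMap k = 0 := by
    intro k hk
    apply hinjC
    rw [map_zero, LinearMap.baseChange_eq_ltensor]
    have := lTensor_rTensor_comm (u₁.restrictScalars A) (IsScalarTower.toAlgHom A R' C).toLinearMap k
    rw [this, ← LinearMap.baseChange_eq_ltensor, hs1 k hk, map_zero]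
  -- the system over `A`
  let fA : ∀ i j, i ≤ j → (G i →ₐ[A] G j) := fun i j h => (f i j h).restrictScalars A
  let gA : ∀ i, G i →ₐ[A] C := fun i => (g i).restrictScalars A
  have hgA : ∀ i j (h : i ≤ j), (gA j).comp (fA i j h) = gA i := by
    intro i j h
    ext x
    exact congrArg (fun ψ => ψ x) (hg i j h)
  have hsurjA : ∀ a : C, ∃ i, ∃ x : G i, gA i x = a := hsurj
  have hkerA : ∀ i (x : G i), gA i x = 0 → ∃ j, ∃ h : i ≤ j, fA i j h x = 0 := hker
  -- the elements to kill
  let ιR : R' →ₗ[A] G i₁ := (IsScalarTower.toAlgHom A R' (G i₁)).toLinearMap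
  have hcomm : ∀ (T₁ T₂ : Type u) [CommRing T₁] [CommRing T₂] [Algebra A T₁] [Algebra A T₂]
      (γ : T₁ →ₗ[A] T₂) (w : T₁ ⊗[A] P'),
      LinearMap.lTensor P' γ (TensorProduct.comm A T₁ P' w) =
        TensorProduct.comm A T₂ P' (LinearMap.rTensor P' γ w) := by
    intro T₁ T₂ _ _ _ _ γ w
    induction w using TensorProduct.induction_on with
    | zero => simp
    | add a b ha hb => simp only [map_add, ha, hb]
    | tmul x p => rfl
  let Z : Finset (P' ⊗[A] G i₁) :=
    s.image (fun k => TensorProduct.comm A (G i₁) P' (LinearMap.rTensor P' ιR k))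
  have hZ : ∀ z ∈ Z, LinearMap.lTensor P' (gA i₁).toLinearMap z = 0 := by
    intro z hz
    obtain ⟨k, hk, rfl⟩ := Finset.mem_image.mp hz
    rw [hcomm, ← LinearMap.comp_apply, ← LinearMap.rTensor_comp]
    have h2 : (gA i₁).toLinearMap ∘ₗ ιR = (IsScalarTower.toAlgHom A R' C).toLinearMap := by
      ext r
      rfl
    rw [h2, hkC k hk, map_zero]
  obtain ⟨j, θ, hθ, hkill⟩ := kill_tensor_finset fA hgA hsurjA hkerA P' i₁ Z hZ
  -- the stage `j` as an `R'`-algebra
  letI algR'Gj : Algebra R' (G j) := (θ.toRingHom.comp (algebraMap R' (G i₁))).toAlgebra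
  haveI : IsScalarTower A R' (G j) := IsScalarTower.of_algebraMap_eq fun a => by
    change algebraMap A (G j) a = θ (algebraMap R' (G i₁) (algebraMap A R' a))
    rw [← IsScalarTower.algebraMap_apply A R' (G i₁), AlgHom.commutes]
  have hkj : ∀ k ∈ s,
      LinearMap.rTensor P' (IsScalarTower.toAlgHom A R' (G j)).toLinearMap k = 0 := by
    intro k hk
    have h3 := hkill _ (Finset.mem_image_of_mem _ hk)
    rw [hcomm, ← LinearMap.comp_apply, ← LinearMap.rTensor_comp] at h3
    have h2 : θ.toLinearMap ∘ₗ ιR = (IsScalarTower.toAlgHom A R' (G j)).toLinearMap := by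
      ext r
      rfl
    rw [h2] at h3
    exact (TensorProduct.comm A (G j) P').injective (h3.trans (map_zero _).symm)
  have hinjj := hs2 (G j) hkj
  refine ⟨j, (injective_baseChange_iff_model fM hfM fN hfN u₁ u hcompat (G j)).mpr hinjj, ?_⟩
  -- flatness
  rw [← flat_tensor_coker_iff]
  letI : Algebra (G i₁) (G j) := (f i₁ j hθ.1).toRingHom.toAlgebra
  haveI : IsScalarTower C₀ (G i₁) (G j) :=
    IsScalarTower.of_algebraMap_eq fun c => ((f i₁ j hθ.1).commutes c).symm
  exact Module.Flat.of_linearEquiv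
    (AlgebraTensorModule.cancelBaseChange C₀ (G i₁) (G j) (G j) (M ⧸ LinearMap.range u)).symm

end Main

end Groth.Agent.Helper7.GD3
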