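import Mathlib

/-!
# Sections over the preimages of an affine open in a cofiltered limit of schemes (helper7)

For a cofiltered diagram `E` of schemes with affine transition maps, limit cone `cE`, and an affine
open `W` of a stage `E k₁`, the ring of sections over the preimage of `W` in the limit is the
directed colimit of the rings of sections over the preimages of `W` in the later stages.
We give this in elementwise form over a directed index set.
-/

set_option autoImplicit false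
set_option linter.style.haveILetI false
set_option linter.unusedSectionVars false

open CategoryTheory AlgebraicGeometry Limits Opposite

universe u

namespace Groth.Agent.Helper7.SecColim

theorem resLE_appTop_topIso {X Y : Scheme.{u}} (f : X ⟶ Y) (U : Y.Opens) (V : X.Opens)
    (e : V ≤ f ⁻¹ᵁ U) :
    (f.resLE U V e).appTop ≫ V.topIso.hom = U.topIso.hom ≫ f.appLE U V e := by
  rw [Scheme.Hom.appTop, Scheme.Hom.app_eq_appLE, Scheme.Hom.resLE_appLE]
  have h1 := Scheme.Hom.appLE_map f (U := U.ι ''ᵁ ⊤) (V := V.ι ''ᵁ (f.resLE U V e ⁻¹ᵁ ⊤)) (V' := V)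
    (by simpa using e) (eqToHom (by simp))
  have h2 := Scheme.Hom.map_appLE f (U := U) (V := V) (U' := U.ι ''ᵁ ⊤) e (eqToHom (by simp))
  have hV : V.topIso.hom = X.presheaf.map
      (eqToHom (by simp) : op (V.ι ''ᵁ (f.resLE U V e ⁻¹ᵁ ⊤)) ⟶ op V) := by
    unfold Scheme.Opens.topIso
    exact congrArg X.presheaf.map (Subsingleton.elim _ _)
  have hU : U.topIso.hom = Y.presheaf.map (eqToHom (by simp) : op (U.ι ''ᵁ ⊤) ⟶ op U) := by
    unfold Scheme.Opens.topIso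
    exact congrArg Y.presheaf.map (Subsingleton.elim _ _)
  rw [hV, hU]
  exact h1.trans h2.symm

theorem resLE_appTop_topIso_apply {X Y : Scheme.{u}} (f : X ⟶ Y) (U : Y.Opens) (V : X.Opens)
    (e : V ≤ f ⁻¹ᵁ U) (y : Γ(↑U, ⊤)) :
    V.topIso.hom ((f.resLE U V e).appTop y) = f.appLE U V e (U.topIso.hom y) := by
  have := congrArg (fun ψ => ψ.hom y) (resLE_appTop_topIso f U V e)
  simpa using this

variable {K : Type u} [SmallCategory K] [IsCofiltered K] (E : K ⥤ Scheme.{u})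
  [∀ {i j} (f : i ⟶ j), IsAffineHom (E.map f)] (cE : Cone E) (hcE : IsLimit cE)

omit [IsCofiltered K] [∀ {i j} (f : i ⟶ j), IsAffineHom (E.map f)] in
theorem preimage_le_map (k₁ : K) (W : (E.obj k₁).Opens) {l l' : Over k₁} (φ : l' ⟶ l) :
    E.map l'.hom ⁻¹ᵁ W ≤ E.map φ.left ⁻¹ᵁ (E.map l.hom ⁻¹ᵁ W) := by
  rw [← Scheme.Hom.comp_preimage, ← E.map_comp, Over.w φ]

omit [IsCofiltered K] [∀ {i j} (f : i ⟶ j), IsAffineHom (E.map f)] in
theorem preimage_le_π (k₁ : K) (W : (E.obj k₁).Opens) (l : Over k₁) :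
    cE.π.app k₁ ⁻¹ᵁ W ≤ cE.π.app l.left ⁻¹ᵁ (E.map l.hom ⁻¹ᵁ W) := by
  rw [← Scheme.Hom.comp_preimage, cE.w]

include hcE in
set_option maxHeartbeats 1600000 in
theorem exists_directed_sections (k₁ : K) (W : (E.obj k₁).Opens) (hW : IsAffineOpen W) :
    ∃ (α : Type u) (_ : Preorder α) (_ : IsDirected α (· ≤ ·)) (_ : Nonempty α)
      (l : α → Over k₁) (m : ∀ a b, a ≤ b → (l b ⟶ l a)),
      (∀ a b c (h : a ≤ b) (h' : b ≤ c), m a c (h.trans h') = m b c h' ≫ m a b h) ∧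
      (∀ c : Γ(cE.pt, cE.π.app k₁ ⁻¹ᵁ W), ∃ (a : α)
        (x : Γ(E.obj (l a).left, E.map (l a).hom ⁻¹ᵁ W)),
        ((cE.π.app (l a).left).appLE _ _ (preimage_le_π E cE k₁ W (l a))).hom x = c) ∧
      (∀ (a : α) (x : Γ(E.obj (l a).left, E.map (l a).hom ⁻¹ᵁ W)),
        ((cE.π.app (l a).left).appLE _ _ (preimage_le_π E cE k₁ W (l a))).hom x = 0 →
        ∃ (b : α) (h : a ≤ b),
          ((E.map (m a b h).left).appLE _ _ (preimage_le_map E k₁ W (m a b h))).hom x = 0) := by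
  let EW := opensDiagram E k₁ W
  let cW := opensCone E cE k₁ W
  have hcW : IsLimit cW := isLimitOpensCone E cE hcE k₁ W
  have hEW : ∀ j, IsAffine (EW.obj j) := fun j => hW.preimage _
  have hEW' : ∀ j, IsAffine (EW.op.obj j).unop := fun j => hEW j.unop
  let Φ : (Over k₁)ᵒᵖ ⥤ CommRingCat.{u} := EW.op ⋙ Scheme.Γ
  let t : Cocone Φ := Scheme.Γ.mapCocone cW.op
  have ht : IsColimit t := isColimitOfPreserves Scheme.Γ hcW.op
  obtain ⟨α, _, _, _, F, hF⟩ := IsFiltered.exists_directed (Over k₁)ᵒᵖ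
  have ht' : IsColimit ((forget CommRingCat).mapCocone (t.whisker F)) :=
    isColimitOfPreserves (forget CommRingCat) ((Functor.Final.isColimitWhiskerEquiv F t).symm ht)
  refine ⟨α, inferInstance, inferInstance, inferInstance, fun a => (F.obj a).unop,
    fun a b h => (F.map (homOfLE h)).unop, ?_, ?_, ?_⟩
  · intro a b c h h'
    rw [← unop_comp, ← F.map_comp]
    rfl
  · intro c
    obtain ⟨a, y, hy⟩ := Types.jointly_surjective_of_isColimit ht'
      ((cE.π.app k₁ ⁻¹ᵁ W).topIso.inv c)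
    refine ⟨a, (E.map (F.obj a).unop.hom ⁻¹ᵁ W).topIso.hom y, ?_⟩
    have h1 := resLE_appTop_topIso_apply (cE.π.app (F.obj a).unop.left)
      (E.map (F.obj a).unop.hom ⁻¹ᵁ W) (cE.π.app k₁ ⁻¹ᵁ W)
      (preimage_le_π E cE k₁ W (F.obj a).unop) y
    change _ = c
    refine h1.symm.trans ?_
    have hy' : ((cE.π.app (F.obj a).unop.left).resLE (E.map (F.obj a).unop.hom ⁻¹ᵁ W)
        (cE.π.app k₁ ⁻¹ᵁ W) (preimage_le_π E cE k₁ W (F.obj a).unop)).appTop y =
        (cE.π.app k₁ ⁻¹ᵁ W).topIso.inv c := hy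
    rw [hy']
    exact congrArg (fun ψ => ψ.hom c) (cE.π.app k₁ ⁻¹ᵁ W).topIso.inv_hom_id
  · intro a x hx
    let y := (E.map (F.obj a).unop.hom ⁻¹ᵁ W).topIso.inv x
    have hxy : (E.map (F.obj a).unop.hom ⁻¹ᵁ W).topIso.hom y = x :=
      congrArg (fun ψ => ψ.hom x) (E.map (F.obj a).unop.hom ⁻¹ᵁ W).topIso.inv_hom_id
    have h1 := resLE_appTop_topIso_apply (cE.π.app (F.obj a).unop.left)
      (E.map (F.obj a).unop.hom ⁻¹ᵁ W) (cE.π.app k₁ ⁻¹ᵁ W)
      (preimage_le_π E cE k₁ W (F.obj a).unop) y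
    rw [hxy] at h1
    have h2 : ((cE.π.app (F.obj a).unop.left).resLE (E.map (F.obj a).unop.hom ⁻¹ᵁ W)
        (cE.π.app k₁ ⁻¹ᵁ W) (preimage_le_π E cE k₁ W (F.obj a).unop)).appTop y = 0 := by
      have hinj : Function.Injective (cE.π.app k₁ ⁻¹ᵁ W).topIso.hom :=
        ((ConcreteCategory.isIso_iff_bijective (cE.π.app k₁ ⁻¹ᵁ W).topIso.hom).mp
          inferInstance).1
      apply hinj
      rw [h1, map_zero]
      exact hx
    obtain ⟨b, φ, hφ⟩ := (Types.FilteredColimit.isColimit_eq_iff' ht' y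
      (0 : Φ.obj (F.obj a))).mp (h2.trans (map_zero (t.ι.app (F.obj a)).hom).symm)
    refine ⟨b, leOfHom φ, ?_⟩
    have h3 := resLE_appTop_topIso_apply (E.map (F.map (homOfLE (leOfHom φ))).unop.left)
      (E.map (F.obj a).unop.hom ⁻¹ᵁ W) (E.map (F.obj b).unop.hom ⁻¹ᵁ W)
      (preimage_le_map E k₁ W (F.map (homOfLE (leOfHom φ))).unop) y
    rw [hxy] at h3
    change (E.map (F.map (homOfLE (leOfHom φ))).unop.left).appLE _ _ _ x = 0
    rw [← h3]
    have h4 : ((E.map (F.map (homOfLE (leOfHom φ))).unop.left).resLE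
        (E.map (F.obj a).unop.hom ⁻¹ᵁ W) (E.map (F.obj b).unop.hom ⁻¹ᵁ W)
        (preimage_le_map E k₁ W (F.map (homOfLE (leOfHom φ))).unop)).appTop y = 0 := by
      have : (Φ.map (F.map φ)).hom y = (Φ.map (F.map φ)).hom 0 := hφ
      rw [map_zero] at this
      exact this
    rw [h4, map_zero]

theorem appLE_eq_of_eq {X Y : Scheme.{u}} {f g : X ⟶ Y} (h : f = g) (U : Y.Opens) (V : X.Opens)
    (e : V ≤ f ⁻¹ᵁ U) : f.appLE U V e = g.appLE U V (h ▸ e) := by
  subst h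
  rfl

omit [IsCofiltered K] [∀ {i j} (f : i ⟶ j), IsAffineHom (E.map f)] in
theorem appLE_map_comp (k₁ : K) (W : (E.obj k₁).Opens) {l l' : Over k₁} (φ : l' ⟶ l) :
    (E.map l.hom).appLE W (E.map l.hom ⁻¹ᵁ W) le_rfl ≫
      (E.map φ.left).appLE _ _ (preimage_le_map E k₁ W φ) =
      (E.map l'.hom).appLE W (E.map l'.hom ⁻¹ᵁ W) le_rfl := by
  rw [Scheme.Hom.appLE_comp_appLE]
  exact appLE_eq_of_eq (by rw [← E.map_comp, Over.w φ]) _ _ _

omit [IsCofiltered K] [∀ {i j} (f : i ⟶ j), IsAffineHom (E.map f)] in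
theorem appLE_π_comp (k₁ : K) (W : (E.obj k₁).Opens) (l : Over k₁) :
    (E.map l.hom).appLE W (E.map l.hom ⁻¹ᵁ W) le_rfl ≫
      (cE.π.app l.left).appLE _ _ (preimage_le_π E cE k₁ W l) =
      (cE.π.app k₁).appLE W (cE.π.app k₁ ⁻¹ᵁ W) le_rfl := by
  rw [Scheme.Hom.appLE_comp_appLE]
  exact appLE_eq_of_eq (cE.w l.hom) _ _ _

omit [IsCofiltered K] [∀ {i j} (f : i ⟶ j), IsAffineHom (E.map f)] in
theorem appLE_map_π (k₁ : K) (W : (E.obj k₁).Opens) {l l' : Over k₁} (φ : l' ⟶ l) :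
    (E.map φ.left).appLE _ _ (preimage_le_map E k₁ W φ) ≫
      (cE.π.app l'.left).appLE _ _ (preimage_le_π E cE k₁ W l') =
      (cE.π.app l.left).appLE _ _ (preimage_le_π E cE k₁ W l) := by
  rw [Scheme.Hom.appLE_comp_appLE]
  exact appLE_eq_of_eq (cE.w φ.left) _ _ _

end Groth.Agent.Helper7.SecColim
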