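import Mathlib
import Groth.Prelude
import Groth.Agent.S6361

/-!
# Countably generated flat Mittag-Leffler modules are projective (helper7)

`projective_of_countable_flat_ML`: a countably generated flat Mittag-Leffler module is projective.
Proof: by `S6361` and Lazard's factorization, every finitely generated submodule is fixed by an
endomorphism of `M` factoring through a finite free module; a telescoping argument then realizes
`M` as a direct summand of a countable direct sum of finite free modules.
-/

set_option autoImplicit false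

universe u

open TensorProduct

namespace Groth.Agent.Helper7.MLProj

variable {R : Type u} [CommRing R] {M : Type u} [AddCommGroup M] [Module R M]

/-- Every finitely generated submodule of a countably generated flat Mittag-Leffler module is
fixed pointwise by an endomorphism factoring through a finite free module. -/
theorem exists_free_factor [Module.Flat R M] (hML : CAlg.IsMittagLeffler R M)
    (hc : CAlg.IsCountablyGenerated R M) (P : Submodule R M) (hP : P.FG) :
    ∃ (k : ℕ) (b : M →ₗ[R] (Fin k →₀ R)) (c : (Fin k →₀ R) →ₗ[R] M), ∀ x ∈ P, c (b x) = x := by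
  have : Module.Finite R P := Module.Finite.iff_fg.mpr hP
  obtain ⟨Q, _, _, _, b, c, h⟩ := Groth.Agent.S6361.result R M hML hc P.subtype
  obtain ⟨k, h₂, h₃, e⟩ := Module.Flat.exists_factorization_of_finitePresentation c
  refine ⟨k, h₂ ∘ₗ b, h₃, fun x hx => ?_⟩
  have := congrArg (fun g => g ⟨x, hx⟩) h
  simp only [LinearMap.comp_apply, Submodule.subtype_apply] at this
  simp only [LinearMap.comp_apply]
  rw [← this]
  conv_rhs => rw [e]
  simp [this]


/-- A factorization datum: maps `M → R^k → M`. -/
structure Fac (R : Type u) [CommRing R] (M : Type u) [AddCommGroup M] [Module R M] where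
  k : ℕ
  b : M →ₗ[R] (Fin k →₀ R)
  c : (Fin k →₀ R) →ₗ[R] M

/-- The endomorphism of `M` attached to a factorization datum. -/
noncomputable def Fac.a (D : Fac R M) : M →ₗ[R] M := D.c ∘ₗ D.b

theorem exists_next [Module.Flat R M] (hML : CAlg.IsMittagLeffler R M)
    (hc : CAlg.IsCountablyGenerated R M) (D : Fac R M) (x : M) :
    ∃ D' : Fac R M, D'.a x = x ∧ D'.a ∘ₗ D.c = D.c := by
  have hfg : (LinearMap.range D.c ⊔ Submodule.span R {x}).FG := by
    refine Submodule.FG.sup ?_ (Submodule.fg_span_singleton x)
    rw [LinearMap.range_eq_map]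
    exact Submodule.FG.map _ Module.Finite.fg_top
  obtain ⟨k, b, c, h⟩ := exists_free_factor hML hc _ hfg
  refine ⟨⟨k, b, c⟩, ?_, ?_⟩
  · exact h x (Submodule.mem_sup_right (Submodule.mem_span_singleton_self x))
  · refine LinearMap.ext fun y => ?_
    exact h _ (Submodule.mem_sup_left ⟨y, rfl⟩)

/-- The sequence of factorization data. -/
noncomputable def seq [Module.Flat R M] (hML : CAlg.IsMittagLeffler R M)
    (hc : CAlg.IsCountablyGenerated R M) (x : ℕ → M) : ℕ → Fac R M
  | 0 => ⟨0, 0, 0⟩
  | n + 1 => Classical.choose (exists_next hML hc (seq hML hc x n) (x n))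

theorem seq_succ_spec [Module.Flat R M] (hML : CAlg.IsMittagLeffler R M)
    (hc : CAlg.IsCountablyGenerated R M) (x : ℕ → M) (n : ℕ) :
    (seq hML hc x (n + 1)).a (x n) = x n ∧
      (seq hML hc x (n + 1)).a ∘ₗ (seq hML hc x n).c = (seq hML hc x n).c :=
  Classical.choose_spec (exists_next hML hc (seq hML hc x n) (x n))

open Classical in
/-- A countably generated flat Mittag-Leffler module is projective. -/
theorem projective_of_countable_flat_ML [Module.Flat R M] (hML : CAlg.IsMittagLeffler R M)
    (hc : CAlg.IsCountablyGenerated R M) : Module.Projective R M := by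
  obtain ⟨s, hs, hspan⟩ := hc
  -- enumerate generators
  obtain ⟨x, hx⟩ : ∃ x : ℕ → M, Submodule.span R (Set.range x) = ⊤ := by
    have hs' : (s ∪ {0}).Countable := hs.union (Set.countable_singleton 0)
    obtain ⟨x, hx⟩ := hs'.exists_eq_range ⟨0, Or.inr rfl⟩
    refine ⟨x, ?_⟩
    rw [← hx, eq_top_iff, ← hspan]
    exact Submodule.span_mono Set.subset_union_left
  have hc' : CAlg.IsCountablyGenerated R M := ⟨s, hs, hspan⟩
  set D := seq hML hc' x with hD
  set a : ℕ → (M →ₗ[R] M) := fun n => (D n).a with ha
  have F1 : ∀ n, a (n + 1) (x n) = x n := fun n => (seq_succ_spec hML hc' x n).1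
  have F2 : ∀ n y, a (n + 1) (a n y) = a n y := fun n y => by
    have := (seq_succ_spec hML hc' x n).2
    have h2 := congrArg (fun g => g ((D n).b y)) this
    exact h2
  have F3 : a 0 = 0 := by
    change (0 : (Fin 0 →₀ R) →ₗ[R] M) ∘ₗ (0 : M →ₗ[R] (Fin 0 →₀ R)) = 0
    simp
  have F4gen : ∀ i n, i + 1 ≤ n → a n (x i) = x i := by
    intro i n hn
    induction n, hn using Nat.le_induction with
    | base => exact F1 i
    | succ n _ ih => rw [← ih, F2, ih]
  have F4 : ∀ y : M, ∃ K, ∀ n, K ≤ n → a n y = y := by
    intro y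
    have hy : y ∈ Submodule.span R (Set.range x) := by rw [hx]; trivial
    induction hy using Submodule.span_induction with
    | mem y hy =>
      obtain ⟨i, rfl⟩ := hy
      exact ⟨i + 1, F4gen i⟩
    | zero => exact ⟨0, fun n _ => map_zero _⟩
    | add y z _ _ hy hz =>
      obtain ⟨K₁, h₁⟩ := hy
      obtain ⟨K₂, h₂⟩ := hz
      exact ⟨max K₁ K₂, fun n hn => by
        rw [map_add, h₁ n (le_trans (le_max_left _ _) hn), h₂ n (le_trans (le_max_right _ _) hn)]⟩
    | smul r y _ hy =>
      obtain ⟨K, h⟩ := hy
      exact ⟨K, fun n hn => by rw [map_smul, h n hn]⟩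
  let G : ℕ → Type u := fun n => Fin (D (n + 1)).k →₀ R
  let β : ∀ n, M →ₗ[R] G n := fun n => (D (n + 1)).b ∘ₗ (LinearMap.id - a n)
  let γ : ∀ n, G n →ₗ[R] M := fun n => (D (n + 1)).c
  have F5 : ∀ n y, γ n (β n y) = a (n + 1) y - a n y := by
    intro n y
    change a (n + 1) (y - a n y) = _
    rw [map_sub, F2]
  have F6 : ∀ n y, a n y = y → β n y = 0 := by
    intro n y h
    change (D (n + 1)).b (y - a n y) = 0
    rw [h, sub_self, map_zero]
  have F7 : ∀ N y, ∑ n ∈ Finset.range N, γ n (β n y) = a N y := by
    intro N y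
    simp_rw [F5]
    rw [Finset.sum_range_sub (fun n => a n y), F3]
    simp
  choose K hK using F4
  let Φ₀ : M → Π₀ n, G n := fun y => ∑ n ∈ Finset.range (K y), DFinsupp.single n (β n y)
  have F8 : ∀ y m, Φ₀ y m = β m y := by
    intro y m
    change (∑ n ∈ Finset.range (K y), DFinsupp.single n (β n y)) m = _
    rw [DFinsupp.finsetSum_apply]
    by_cases hm : m < K y
    · rw [Finset.sum_eq_single m]
      · simp
      · intro n _ hnm
        rw [DFinsupp.single_apply, dif_neg hnm]
      · intro h
        exact absurd (Finset.mem_range.mpr hm) h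
    · rw [Finset.sum_eq_zero, F6 m y (hK y m (not_lt.mp hm))]
      intro n hn
      have : n ≠ m := fun h => hm (h ▸ Finset.mem_range.mp hn)
      rw [DFinsupp.single_apply, dif_neg this]
  let Φ : M →ₗ[R] Π₀ n, G n :=
    { toFun := Φ₀
      map_add' := fun y z => by
        ext1 m
        rw [DFinsupp.add_apply, F8, F8, F8, map_add]
      map_smul' := fun r y => by
        ext1 m
        rw [DFinsupp.smul_apply, F8, F8, map_smul, RingHom.id_apply] }
  let Ψ : (Π₀ n, G n) →ₗ[R] M := DFinsupp.lsum ℕ γ
  have hΨΦ : Ψ ∘ₗ Φ = LinearMap.id := by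
    ext1 y
    change Ψ (∑ n ∈ Finset.range (K y), DFinsupp.single n (β n y)) = y
    rw [map_sum]
    simp only [Ψ, DFinsupp.lsum_single]
    rw [F7, hK y (K y) le_rfl]
  exact Module.Projective.of_split Φ Ψ hΨΦ

end Groth.Agent.Helper7.MLProj
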