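import Mathlib
import Groth.Prelude
import Groth.Agent.Lib.Helper7.MLProj
import Groth.Agent.S6337
import Groth.Agent.S6338
import Groth.Agent.S0583

/-!
# Projective ⇔ flat + Mittag-Leffler + direct sum of countably generated (helper7)
-/

set_option autoImplicit false

universe u

open TensorProduct

namespace Groth.Agent.Helper7.MLProj

variable {R : Type u} [CommRing R]

/-- A retract of a Mittag-Leffler module is Mittag-Leffler. -/
theorem ml_of_split {M₁ M₂ : Type u} [AddCommGroup M₁] [Module R M₁] [AddCommGroup M₂]
    [Module R M₂] (i : M₁ →ₗ[R] M₂) (r : M₂ →ₗ[R] M₁) (h : r ∘ₗ i = LinearMap.id)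
    (h₂ : CAlg.IsMittagLeffler R M₂) : CAlg.IsMittagLeffler R M₁ := by
  refine Groth.Agent.S6338.result R i (fun Q _ _ => ?_) h₂
  have : (r.rTensor Q) ∘ₗ (i.rTensor Q) = LinearMap.id := by
    rw [← LinearMap.rTensor_comp, h, LinearMap.rTensor_id]
  exact Function.LeftInverse.injective (g := r.rTensor Q) fun x => by
    have := congrArg (fun g => g x) this
    simpa using this

theorem ml_of_equiv {M₁ M₂ : Type u} [AddCommGroup M₁] [Module R M₁] [AddCommGroup M₂]
    [Module R M₂] (e : M₁ ≃ₗ[R] M₂) (h₂ : CAlg.IsMittagLeffler R M₂) :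
    CAlg.IsMittagLeffler R M₁ :=
  ml_of_split e.toLinearMap e.symm.toLinearMap (by ext; simp) h₂

/-- The ring itself is Mittag-Leffler. -/
theorem ml_self : CAlg.IsMittagLeffler R R := by
  intro ι Q _ _
  have key : (LinearMap.pi fun i => (TensorProduct.lid R (Q i)).toLinearMap ∘ₗ LinearMap.proj i) ∘ₗ
      TensorProduct.piRightHom R R R Q = (TensorProduct.lid R (∀ i, Q i)).toLinearMap := by
    refine TensorProduct.ext' fun r q => ?_
    ext i
    simp [TensorProduct.piRightHom_tmul]
  intro x y hxy
  have := congrArg (fun g => g x) key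
  have h2 := congrArg (fun g => g y) key
  simp only [LinearMap.comp_apply] at this h2
  rw [hxy, h2] at this
  exact ((TensorProduct.lid R (∀ i, Q i)).injective this).symm

theorem ml_finsupp (ι : Type u) : CAlg.IsMittagLeffler R (ι →₀ R) := by
  classical
  refine ml_of_equiv (finsuppLEquivDirectSum R R ι) ?_
  exact (Groth.Agent.S6337.result R (fun _ : ι => R)).mpr fun _ => ml_self

theorem ctbl_of_surjective {M₁ M₂ : Type u} [AddCommGroup M₁] [Module R M₁] [AddCommGroup M₂]
    [Module R M₂] (f : M₁ →ₗ[R] M₂) (hf : Function.Surjective f)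
    (h : CAlg.IsCountablyGenerated R M₁) : CAlg.IsCountablyGenerated R M₂ := by
  obtain ⟨s, hs, hspan⟩ := h
  refine ⟨f '' s, hs.image f, ?_⟩
  rw [← Submodule.map_span, hspan, Submodule.map_top, LinearMap.range_eq_top.mpr hf]

open scoped Classical in
/-- Transport of an internal direct sum decomposition along a linear equivalence. -/
theorem isInternal_map_equiv {M₁ M₂ : Type u} [AddCommGroup M₁] [Module R M₁] [AddCommGroup M₂]
    [Module R M₂] (e : M₁ ≃ₗ[R] M₂) {κ : Type u} (L : κ → Submodule R M₁)
    (hL : DirectSum.IsInternal L) :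
    DirectSum.IsInternal (fun k => (L k).map e.toLinearMap) := by
  rw [DirectSum.isInternal_submodule_iff_iSupIndep_and_iSup_eq_top] at hL ⊢
  refine ⟨?_, ?_⟩
  · exact hL.1.map_orderIso (Submodule.orderIsoMapComap e)
  · have : (⨆ k, (L k).map e.toLinearMap) = (⨆ k, L k).map e.toLinearMap := by
      rw [Submodule.map_iSup]
    rw [this, hL.2, Submodule.map_top, LinearMap.range_eq_top.mpr e.surjective]


open scoped Classical in
theorem transport {F M : Type u} [AddCommGroup F] [Module R F] [AddCommGroup M] [Module R M]
    (P : Submodule R F) (e : P ≃ₗ[R] M) (κ : Type u) (L : κ → Submodule R P)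
    (hL : DirectSum.IsInternal L) (hLc : ∀ k, CAlg.IsCountablyGenerated R (L k)) :
    ∃ (ι : Type u) (N : ι → Submodule R M), DirectSum.IsInternal N ∧
        ∀ i, CAlg.IsCountablyGenerated R (N i) := by
  refine ⟨κ, fun k => (L k).map e.toLinearMap, isInternal_map_equiv e L hL, fun k => ?_⟩
  exact ctbl_of_surjective (e.toLinearMap.submoduleMap (L k))
    (LinearMap.submoduleMap_surjective _ _) (hLc k)

theorem ctbl_self : CAlg.IsCountablyGenerated R R :=
  ⟨{1}, Set.countable_singleton 1, Ideal.span_singleton_one⟩

open scoped Classical in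
theorem forward (M : Type u) [AddCommGroup M] [Module R M] [Module.Projective R M] :
    Module.Flat R M ∧ CAlg.IsMittagLeffler R M ∧
      ∃ (ι : Type u) (N : ι → Submodule R M), DirectSum.IsInternal N ∧
        ∀ i, CAlg.IsCountablyGenerated R (N i) := by
  obtain ⟨s, hs⟩ := Module.projective_def'.mp (inferInstance : Module.Projective R M)
  have hs' : ∀ m, Finsupp.linearCombination R id (s m) = m := fun m => by
    have := congrArg (fun g => g m) hs
    simpa using this
  have hinj : Function.Injective s := Function.LeftInverse.injective hs'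
  refine ⟨inferInstance, ml_of_split s _ hs (ml_finsupp M), ?_⟩
  -- the decomposition of the free module
  let N : M → Submodule R (M →₀ R) := fun i => LinearMap.range (Finsupp.lsingle (R := R) (M := R) i)
  have hN : DirectSum.IsInternal N :=
    DirectSum.isInternal_submodule_of_iSupIndep_of_iSup_eq_top
      (iSupIndep_range_lsingle M R R) Finsupp.iSup_lsingle_range
  have hNc : ∀ i, CAlg.IsCountablyGenerated R (N i) := fun i =>
    ctbl_of_surjective (Finsupp.lsingle (R := R) (M := R) i).rangeRestrict
      (LinearMap.surjective_rangeRestrict _) ctbl_self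
  obtain ⟨P, e, f, hf⟩ : ∃ (P : Submodule R (M →₀ R)) (_ : P ≃ₗ[R] M) (f : (M →₀ R) →ₗ[R] P),
      ∀ x : P, f x = x := by
    refine ⟨LinearMap.range s, (LinearEquiv.ofInjective s hinj).symm,
      s.rangeRestrict ∘ₗ Finsupp.linearCombination R id, ?_⟩
    rintro ⟨_, m, rfl⟩
    apply Subtype.ext
    change s (Finsupp.linearCombination R id (s m)) = s m
    rw [hs']
  have hPQ : IsCompl P (LinearMap.ker f) := LinearMap.isCompl_of_proj hf
  obtain ⟨κ, L, hL, hLc⟩ := Groth.Agent.S0583.result R (M →₀ R) M N hN hNc P (LinearMap.ker f) hPQ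
  exact transport P e κ L hL hLc

open scoped Classical in
theorem backward (M : Type u) [AddCommGroup M] [Module R M] [Module.Flat R M]
    (hML : CAlg.IsMittagLeffler R M) (ι : Type u) (N : ι → Submodule R M)
    (hN : DirectSum.IsInternal N) (hc : ∀ i, CAlg.IsCountablyGenerated R (N i)) :
    Module.Projective R M := by
  let E : (DirectSum ι fun i => N i) ≃ₗ[R] M := LinearEquiv.ofBijective (DirectSum.coeLinearMap N) hN
  have hproj : ∀ i, Module.Projective R (N i) := by
    intro i
    let r : M →ₗ[R] N i := (DirectSum.component R ι (fun i => N i) i) ∘ₗ E.symm.toLinearMap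
    have hr : r ∘ₗ (N i).subtype = LinearMap.id := by
      refine LinearMap.ext fun x => ?_
      have h1 : E.symm (x : M) = DirectSum.lof R ι (fun i => N i) i x := by
        rw [LinearEquiv.symm_apply_eq]
        exact (DirectSum.coeLinearMap_of N i x).symm
      change DirectSum.component R ι (fun i => N i) i (E.symm (x : M)) = x
      rw [h1]
      exact DirectSum.component.lof_self (M := fun i => N i) R i x
    have : Module.Flat R (N i) := Module.Flat.of_retract (N i).subtype r hr
    exact projective_of_countable_flat_ML (ml_of_split (N i).subtype r hr hML) (hc i)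
  have := hproj
  exact Module.Projective.of_equiv E

end Groth.Agent.Helper7.MLProj
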