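import Mathlib
import Groth.Prelude
import Groth.Agent.Lib.Helper7.MLProj2
import Groth.Agent.S0584
import Groth.Agent.S0586
import Groth.Agent.S6383

/-!
# Descent of projectivity along faithfully flat ring maps (helper7)
-/

set_option autoImplicit false
set_option linter.style.haveILetI false
set_option linter.unusedSectionVars false

universe u

open TensorProduct

namespace Groth.Agent.Helper7.ProjDescent

section Basic

variable {R : Type u} [CommRing R] {M : Type u} [AddCommGroup M] [Module R M]

/-- a submodule spanned by a countable set is countably generated as a module -/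
theorem ctbl_of_span_eq (C : Submodule R M) (h : ∃ s : Set M, s.Countable ∧ Submodule.span R s = C) :
    CAlg.IsCountablyGenerated R C := by
  obtain ⟨s, hs, hspan⟩ := h
  refine ⟨C.subtype ⁻¹' s, hs.preimage_of_injOn (Submodule.injective_subtype C).injOn, ?_⟩
  apply Submodule.map_injective_of_injective (Submodule.injective_subtype C)
  rw [Submodule.map_span, Submodule.map_top, Submodule.range_subtype,
    Set.image_preimage_eq_of_subset, hspan]
  rw [Submodule.coe_subtype, Subtype.range_coe]
  rw [← hspan]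
  exact Submodule.subset_span

theorem span_eq_of_ctbl (C : Submodule R M) (h : CAlg.IsCountablyGenerated R C) :
    ∃ s : Set M, s.Countable ∧ Submodule.span R s = C := by
  obtain ⟨s, hs, hspan⟩ := h
  refine ⟨C.subtype '' s, hs.image _, ?_⟩
  rw [← Submodule.map_span, hspan, Submodule.map_top, Submodule.range_subtype]

end Basic

section Desc

variable {R S : Type u} [CommRing R] [CommRing S] [Algebra R S] [Module.FaithfullyFlat R S]

/-- countably generated + projective after faithfully flat base change ⇒ projective -/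
theorem projective_of_ctbl (X : Type u) [AddCommGroup X] [Module R X]
    (hc : CAlg.IsCountablyGenerated R X) [Module.Projective S (S ⊗[R] X)] :
    Module.Projective R X := by
  haveI : Module.Flat R X := Module.Flat.of_flat_tensorProduct R X S
  have hML : CAlg.IsMittagLeffler R X :=
    Groth.Agent.S0586.result R S X ((Groth.Agent.S0584.result S (S ⊗[R] X)).mp inferInstance).2.1
  exact Groth.Agent.Helper7.MLProj.projective_of_countable_flat_ML hML hc

end Desc

section Ext

variable {R S : Type u} [CommRing R] [CommRing S] [Algebra R S] {M : Type u} [AddCommGroup M]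
  [Module R M]

variable (S) in
/-- the `S`-submodule of `S ⊗ M` generated by `1 ⊗ N` -/
def ext (N : Submodule R M) : Submodule S (S ⊗[R] M) :=
  Submodule.span S ((TensorProduct.mk R S M 1) '' (N : Set M))

theorem ext_mono {N N' : Submodule R M} (h : N ≤ N') : ext S N ≤ ext S N' :=
  Submodule.span_mono (Set.image_mono h)

theorem mk_mem_ext {N : Submodule R M} {x : M} (hx : x ∈ N) :
    TensorProduct.mk R S M 1 x ∈ ext S N :=
  Submodule.subset_span ⟨x, hx, rfl⟩

theorem ext_iSup {ι : Sort*} (p : ι → Submodule R M) : ext S (⨆ i, p i) = ⨆ i, ext S (p i) := by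
  apply le_antisymm
  · apply Submodule.span_le.mpr
    rintro _ ⟨x, hx, rfl⟩
    refine Submodule.iSup_induction p (motive := fun x => TensorProduct.mk R S M 1 x ∈
      ⨆ i, ext S (p i)) hx ?_ ?_ ?_
    · intro i x hx
      exact (le_iSup (fun i => ext S (p i)) i) (mk_mem_ext hx)
    · rw [map_zero]; exact zero_mem _
    · intro x y hx hy
      rw [map_add]; exact add_mem hx hy
  · exact iSup_le fun i => ext_mono (le_iSup p i)

theorem ext_sSup (Ps : Set (Submodule R M)) : ext S (sSup Ps) = ⨆ P ∈ Ps, ext S P := by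
  rw [sSup_eq_iSup, ext_iSup]
  congr 1
  ext P
  rw [ext_iSup]

theorem ext_sup (N N' : Submodule R M) : ext S (N ⊔ N') = ext S N ⊔ ext S N' := by
  rw [← sSup_pair, ext_sSup, iSup_pair]

theorem ext_bot : ext S (⊥ : Submodule R M) = ⊥ := by
  rw [← sSup_empty, ext_sSup]
  simp

theorem range_baseChange_subtype (N : Submodule R M) :
    LinearMap.range (N.subtype.baseChange S) = ext S N := by
  apply le_antisymm
  · rintro _ ⟨z, rfl⟩
    induction z using TensorProduct.induction_on with
    | zero => rw [map_zero]; exact zero_mem _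
    | add a b ha hb => rw [map_add]; exact add_mem ha hb
    | tmul s n =>
      rw [LinearMap.baseChange_tmul]
      have : s ⊗ₜ[R] (N.subtype n) = s • (TensorProduct.mk R S M 1 (n : M)) := by
        rw [TensorProduct.mk_apply, TensorProduct.smul_tmul', smul_eq_mul, mul_one]
        rfl
      rw [this]
      exact Submodule.smul_mem _ _ (mk_mem_ext n.2)
  · apply Submodule.span_le.mpr
    rintro _ ⟨x, hx, rfl⟩
    exact ⟨(1 : S) ⊗ₜ[R] (⟨x, hx⟩ : N), by rw [LinearMap.baseChange_tmul]; rfl⟩

end Ext

section Abs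

variable {S : Type*} [CommRing S] {A B T : Type*} [AddCommGroup A] [Module S A] [AddCommGroup B]
  [Module S B] [AddCommGroup T] [Module S T]

theorem projective_of_quotient_compl [Module.Projective S T] (ι₂ : A →ₗ[S] T) (q : A →ₗ[S] B)
    (hq : Function.Surjective q) (W W' : Submodule S T) (hcompl : IsCompl W W')
    (hW : W ≤ LinearMap.range ι₂) (hker : ∀ z, q z = 0 ↔ ι₂ z ∈ W') :
    Module.Projective S B := by
  let pr : T →ₗ[S] W := Submodule.projectionOnto W W' hcompl
  let g : A →ₗ[S] W := pr ∘ₗ ι₂
  have hg : Function.Surjective g := by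
    intro w
    obtain ⟨z, hz⟩ := hW w.2
    refine ⟨z, ?_⟩
    change pr (ι₂ z) = w
    rw [hz]
    exact Submodule.projectionOnto_apply_left hcompl w
  have hkerEq : LinearMap.ker q = LinearMap.ker g := by
    ext z
    rw [LinearMap.mem_ker, LinearMap.mem_ker, hker]
    change _ ↔ pr (ι₂ z) = 0
    rw [Submodule.projectionOnto_apply_eq_zero_iff]
  let e : B ≃ₗ[S] W :=
    (q.quotKerEquivOfSurjective hq).symm ≪≫ₗ (Submodule.quotEquivOfEq _ _ hkerEq) ≪≫ₗ
      (g.quotKerEquivOfSurjective hg)
  haveI : Module.Projective S W :=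
    Module.Projective.of_split W.subtype pr (Submodule.projectionOnto_comp_subtype hcompl)
  exact Module.Projective.of_equiv e.symm

end Abs

section Step

variable {R S : Type u} [CommRing R] [CommRing S] [Algebra R S] [Module.FaithfullyFlat R S]
  {M : Type u} [AddCommGroup M] [Module R M] {I : Type u} (Q : I → Submodule S (S ⊗[R] M))

open Classical in
/-- the base change of the successive quotient is projective -/
theorem projective_baseChange_quotient (hQ : DirectSum.IsInternal Q)
    [Module.Projective S (S ⊗[R] M)] (N C : Submodule R M) (I' J : Set I)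
    (hN : ext S N = ⨆ i ∈ I', Q i) (hC : ext S C = ⨆ i ∈ J, Q i) :
    Module.Projective S
      (S ⊗[R] (↥(N ⊔ C) ⧸ (N.comap (N ⊔ C).subtype))) := by
  set N₂ := N ⊔ C with hN₂
  set N' : Submodule R ↥N₂ := N.comap N₂.subtype with hN'
  let ι₂ : S ⊗[R] ↥N₂ →ₗ[S] S ⊗[R] M := N₂.subtype.baseChange S
  have hι₂inj : Function.Injective ι₂ :=
    Module.Flat.lTensor_preserves_injective_linearMap (M := S) N₂.subtype
      (Submodule.injective_subtype N₂)
  have hι₂range : LinearMap.range ι₂ = ext S N₂ := range_baseChange_subtype N₂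
  let W : Submodule S (S ⊗[R] M) := ⨆ i ∈ J \ I', Q i
  let W' : Submodule S (S ⊗[R] M) := ⨆ i ∈ (J \ I')ᶜ, Q i
  have hind := hQ.submodule_iSupIndep
  have hcompl : IsCompl W W' := by
    constructor
    · exact hind.disjoint_biSup_biSup disjoint_compl_right
    · rw [codisjoint_iff]
      change (⨆ i ∈ J \ I', Q i) ⊔ (⨆ i ∈ (J \ I')ᶜ, Q i) = ⊤
      rw [← iSup_union, Set.union_compl_self]
      simp only [Set.mem_univ, iSup_pos]
      exact hQ.submodule_iSup_eq_top
  have hextN₂ : ext S N₂ = (⨆ i ∈ I', Q i) ⊔ W := by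
    rw [hN₂, ext_sup, hN, hC]
    change _ = (⨆ i ∈ I', Q i) ⊔ (⨆ i ∈ J \ I', Q i)
    rw [← iSup_union, ← iSup_union, Set.union_sdiff_self]
  have hI'W' : (⨆ i ∈ I', Q i) ≤ W' := by
    apply biSup_mono
    intro i hi hi'
    exact hi'.2 hi
  have hmod : ext S N₂ ⊓ W' = ext S N := by
    rw [hextN₂, sup_inf_assoc_of_le _ hI'W', hcompl.inf_eq_bot, sup_bot_eq, hN]
  let q : S ⊗[R] ↥N₂ →ₗ[S] S ⊗[R] (↥N₂ ⧸ N') := N'.mkQ.baseChange S
  have hq : Function.Surjective q :=
    LinearMap.lTensor_surjective S (Submodule.mkQ_surjective N')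
  have hW : W ≤ LinearMap.range ι₂ := by
    rw [hι₂range, hextN₂]
    exact le_sup_right
  have hkey : ∀ z : S ⊗[R] ↥N₂, ι₂ z ∈ ext S N ↔ q z = 0 := by
    intro z
    constructor
    · intro hz
      rw [← range_baseChange_subtype] at hz
      obtain ⟨y, hy⟩ := hz
      let inclN : ↥N →ₗ[R] ↥N₂ := Submodule.inclusion le_sup_left
      have h1 : N.subtype.baseChange S = ι₂ ∘ₗ inclN.baseChange S := by
        rw [← LinearMap.baseChange_comp]
        rfl
      rw [h1] at hy
      have h2 : z = inclN.baseChange S y := (hι₂inj hy).symm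
      rw [h2]
      change (N'.mkQ.baseChange S ∘ₗ inclN.baseChange S) y = 0
      rw [← LinearMap.baseChange_comp]
      have h3 : N'.mkQ ∘ₗ inclN = 0 := by
        ext n
        simp only [LinearMap.comp_apply, Submodule.mkQ_apply, LinearMap.zero_apply]
        rw [Submodule.Quotient.mk_eq_zero]
        exact n.2
      rw [h3, LinearMap.baseChange_zero, LinearMap.zero_apply]
    · intro hz
      have hex : Function.Exact (N'.subtype.lTensor S) (N'.mkQ.lTensor S) :=
        lTensor_exact S (LinearMap.exact_subtype_mkQ N') (Submodule.mkQ_surjective N')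
      have hz' : N'.mkQ.lTensor S z = 0 := hz
      obtain ⟨y, hy⟩ := (hex z).mp hz'
      rw [← hy]
      have hall : ∀ y : S ⊗[R] ↥N', ι₂ (N'.subtype.lTensor S y) ∈ ext S N := by
        intro y
        induction y using TensorProduct.induction_on with
        | zero => simp
        | add a b ha hb =>
          rw [map_add, map_add]; exact add_mem ha hb
        | tmul s n =>
          rw [LinearMap.lTensor_tmul]
          change N₂.subtype.baseChange S (s ⊗ₜ[R] (N'.subtype n)) ∈ ext S N
          rw [LinearMap.baseChange_tmul]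
          have : s ⊗ₜ[R] (N₂.subtype (N'.subtype n)) =
              s • (TensorProduct.mk R S M 1 ((n : ↥N₂) : M)) := by
            rw [TensorProduct.mk_apply, TensorProduct.smul_tmul', smul_eq_mul, mul_one]
            rfl
          rw [this]
          exact Submodule.smul_mem _ _ (mk_mem_ext n.2)
      exact hall y
  have hker : ∀ z, q z = 0 ↔ ι₂ z ∈ W' := by
    intro z
    rw [← hkey, ← hmod, Submodule.mem_inf]
    constructor
    · intro h; exact h.2
    · intro h
      refine ⟨?_, h⟩
      rw [← hι₂range]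
      exact LinearMap.mem_range_self _ _
  exact projective_of_quotient_compl ι₂ q hq W W' hcompl hW hker

end Step

section Step2

variable {R S : Type u} [CommRing R] [CommRing S] [Algebra R S] [Module.FaithfullyFlat R S]
  {M : Type u} [AddCommGroup M] [Module R M] {I : Type u} (Q : I → Submodule S (S ⊗[R] M))

open Classical in
theorem exists_compl_step (hQ : DirectSum.IsInternal Q)
    [Module.Projective S (S ⊗[R] M)] (N C : Submodule R M) (I' J : Set I)
    (hN : ext S N = ⨆ i ∈ I', Q i) (hC : ext S C = ⨆ i ∈ J, Q i)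
    (hCc : ∃ s : Set M, s.Countable ∧ Submodule.span R s = C) :
    ∃ P : Submodule R M, Disjoint N P ∧ N ⊔ P = N ⊔ C ∧
      ∃ s : Set M, s.Countable ∧ Submodule.span R s = P := by
  set N₂ := N ⊔ C with hN₂
  set N' : Submodule R ↥N₂ := N.comap N₂.subtype with hN'
  haveI : Module.Projective S (S ⊗[R] (↥N₂ ⧸ N')) :=
    projective_baseChange_quotient Q hQ N C I' J hN hC
  -- the quotient is countably generated
  have hXc : CAlg.IsCountablyGenerated R (↥N₂ ⧸ N') := by
    have hCc' := ctbl_of_span_eq C hCc
    let inclC : ↥C →ₗ[R] ↥N₂ := Submodule.inclusion le_sup_right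
    refine Groth.Agent.Helper7.MLProj.ctbl_of_surjective (N'.mkQ ∘ₗ inclC) ?_ hCc'
    intro x
    obtain ⟨⟨z, hz⟩, rfl⟩ := Submodule.mkQ_surjective N' x
    obtain ⟨n, hn, c, hc, rfl⟩ := Submodule.mem_sup.mp hz
    refine ⟨⟨c, hc⟩, ?_⟩
    simp only [LinearMap.comp_apply, Submodule.mkQ_apply]
    rw [Submodule.Quotient.eq]
    change (⟨c, _⟩ : ↥N₂) - ⟨n + c, hz⟩ ∈ N.comap N₂.subtype
    rw [Submodule.mem_comap]
    simp only [Submodule.subtype_apply, AddSubgroupClass.coe_sub]
    have : c - (n + c) = -n := by abel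
    rw [this]
    exact N.neg_mem hn
  haveI : Module.Projective R (↥N₂ ⧸ N') := projective_of_ctbl (S := S) _ hXc
  obtain ⟨σ, hσ⟩ := Module.projective_lifting_property N'.mkQ LinearMap.id
    (Submodule.mkQ_surjective N')
  refine ⟨LinearMap.range (N₂.subtype ∘ₗ σ), ?_, ?_, ?_⟩
  · rw [Submodule.disjoint_def]
    rintro x hxN ⟨y, rfl⟩
    have h1 : N'.mkQ (σ y) = 0 := by
      rw [Submodule.mkQ_apply, Submodule.Quotient.mk_eq_zero]
      exact hxN
    have h2 : N'.mkQ (σ y) = y := by
      have := congrArg (fun f => f y) hσ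
      exact this
    rw [h2] at h1
    rw [h1, map_zero]
  · apply le_antisymm
    · apply sup_le le_sup_left
      rintro _ ⟨y, rfl⟩
      exact (σ y).2
    · intro z hz
      have hz' : z ∈ N₂ := hz
      set w : ↥N₂ := ⟨z, hz'⟩ with hw
      have h3 : w - σ (N'.mkQ w) ∈ N' := by
        rw [← Submodule.Quotient.mk_eq_zero, Submodule.Quotient.mk_sub, ← Submodule.mkQ_apply,
          ← Submodule.mkQ_apply]
        have := congrArg (fun f => f (N'.mkQ w)) hσ
        simp only [LinearMap.comp_apply, LinearMap.id_apply] at this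
        rw [this, sub_self]
      have h4 : z = ((w - σ (N'.mkQ w) : ↥N₂) : M) + (N₂.subtype ∘ₗ σ) (N'.mkQ w) := by
        simp [hw]
      rw [h4]
      exact Submodule.add_mem_sup h3 (LinearMap.mem_range_self _ _)
  · have hrc : CAlg.IsCountablyGenerated R (LinearMap.range (N₂.subtype ∘ₗ σ)) :=
      Groth.Agent.Helper7.MLProj.ctbl_of_surjective (N₂.subtype ∘ₗ σ).rangeRestrict
        (LinearMap.surjective_rangeRestrict _) hXc
    exact span_eq_of_ctbl _ hrc

end Step2

section Main

variable {R S : Type u} [CommRing R] [CommRing S] [Algebra R S] [Module.FaithfullyFlat R S]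
  {M : Type u} [AddCommGroup M] [Module R M]

theorem sSupIndep_insert {Ps : Set (Submodule R M)} (hind : sSupIndep Ps) (P : Submodule R M)
    (hP : Disjoint (sSup Ps) P) : sSupIndep (insert P Ps) := by
  intro a ha
  by_cases haP : a = P
  · subst haP
    refine hP.symm.mono_right (sSup_le_sSup ?_)
    rintro b ⟨hb, hba⟩
    rcases hb with rfl | hb
    · exact absurd rfl hba
    · exact hb
  · have haPs : a ∈ Ps := by
      rcases ha with rfl | ha
      · exact absurd rfl haP
      · exact ha
    have hset : insert P Ps \ {a} = insert P (Ps \ {a}) := by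
      ext b
      simp only [Set.mem_sdiff, Set.mem_insert_iff, Set.mem_singleton_iff]
      constructor
      · rintro ⟨hb | hb, hba⟩
        · exact Or.inl hb
        · exact Or.inr ⟨hb, hba⟩
      · rintro (hb | ⟨hb, hba⟩)
        · exact ⟨Or.inl hb, fun h => haP (h ▸ hb)⟩
        · exact ⟨Or.inr hb, hba⟩
    rw [hset, sSup_insert, Submodule.disjoint_def]
    intro x hxa hx
    obtain ⟨p, hp, b, hb, rfl⟩ := Submodule.mem_sup.mp hx
    have hBN : sSup (Ps \ {a}) ≤ sSup Ps := sSup_le_sSup Set.sdiff_subset
    have haN : a ≤ sSup Ps := le_sSup haPs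
    have hpN : p ∈ sSup Ps := by
      have : p = (p + b) - b := by abel
      rw [this]
      exact Submodule.sub_mem _ (haN hxa) (hBN hb)
    have hp0 : p = 0 := (Submodule.disjoint_def.mp hP) p hpN hp
    rw [hp0, zero_add] at hxa ⊢
    exact (Submodule.disjoint_def.mp (hind haPs)) b hxa hb

open Classical in
theorem exists_isInternal_ctbl [Module.Projective S (S ⊗[R] M)] :
    ∃ (ι : Type u) (N : ι → Submodule R M), DirectSum.IsInternal N ∧
      ∀ i, CAlg.IsCountablyGenerated R (N i) := by
  obtain ⟨-, -, I, Q, hQ, hQc⟩ := (Groth.Agent.S0584.result S (S ⊗[R] M)).mp inferInstance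
  have hQc' : ∀ i, ∃ t : Set (S ⊗[R] M), t.Countable ∧ Submodule.span S t = Q i :=
    fun i => span_eq_of_ctbl (Q i) (hQc i)
  let Z : Set (Set (Submodule R M)) := {Ps | sSupIndep Ps ∧
    (∀ P ∈ Ps, ∃ s : Set M, s.Countable ∧ Submodule.span R s = P) ∧
    ∃ I' : Set I, ext S (sSup Ps) = ⨆ i ∈ I', Q i}
  have hchain : ∀ c ⊆ Z, IsChain (· ⊆ ·) c → ∃ ub ∈ Z, ∀ s ∈ c, s ⊆ ub := by
    intro c hcZ hc
    refine ⟨⋃₀ c, ⟨?_, ?_, ?_⟩, fun s hs => Set.subset_sUnion_of_mem hs⟩
    · exact iSupIndep_sUnion_of_directed hc.directedOn (fun a ha => (hcZ ha).1)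
    · rintro P ⟨a, ha, hPa⟩
      exact (hcZ ha).2.1 P hPa
    · choose! I'f hI'f using fun a (ha : a ∈ c) => (hcZ ha).2.2
      refine ⟨⋃ a ∈ c, I'f a, ?_⟩
      rw [sSup_sUnion, ext_iSup]
      apply le_antisymm
      · apply iSup_le
        intro a
        rw [ext_iSup]
        apply iSup_le
        intro ha
        rw [hI'f a ha]
        apply biSup_mono
        intro i hi
        exact Set.mem_biUnion ha hi
      · apply iSup₂_le
        intro i hi
        obtain ⟨a, ha, hia⟩ := Set.mem_iUnion₂.mp hi
        refine le_trans ?_ (le_iSup _ a)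
        rw [ext_iSup]
        refine le_trans ?_ (le_iSup _ ha)
        rw [hI'f a ha]
        exact le_iSup₂ (f := fun i (_ : i ∈ I'f a) => Q i) i hia
  obtain ⟨Ps, hPs⟩ := zorn_subset Z hchain
  obtain ⟨hind, hctbl, I', hI'⟩ := hPs.prop
  have htop : sSup Ps = ⊤ := by
    by_contra hne
    obtain ⟨x, hx⟩ : ∃ x, x ∉ sSup Ps := by
      by_contra h
      push Not at h
      exact hne (eq_top_iff.mpr fun x _ => h x)
    obtain ⟨C, J, hxC, hCc, hCJ⟩ := Groth.Agent.S6383.result R S M Q hQ hQc'
      (Submodule.span R {x}) ⟨{x}, Set.countable_singleton x, rfl⟩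
    obtain ⟨P, hNP, hsup, hPc⟩ := exists_compl_step Q hQ (sSup Ps) C I' J hI' hCJ hCc
    have hins : insert P Ps ∈ Z := by
      refine ⟨sSupIndep_insert hind P hNP, ?_, I' ∪ J, ?_⟩
      · intro P' hP'
        rcases hP' with rfl | hP'
        · exact hPc
        · exact hctbl P' hP'
      · rw [sSup_insert, sup_comm, hsup, ext_sup, hI', iSup_union]
        congr 1
    have hP : P ∈ Ps := hPs.le_of_ge hins (Set.subset_insert P Ps) (Set.mem_insert P Ps)
    have hPN : P ≤ sSup Ps := le_sSup hP
    have h1 : sSup Ps ⊔ C = sSup Ps := by rw [← hsup]; exact sup_eq_left.mpr hPN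
    apply hx
    have hxC' : x ∈ C := hxC (Submodule.mem_span_singleton_self x)
    rw [← h1]
    exact Submodule.mem_sup_right hxC'
  refine ⟨↥Ps, fun P => P.1, ?_, fun P => ctbl_of_span_eq P.1 (hctbl P.1 P.2)⟩
  have key := @DirectSum.isInternal_submodule_iff_iSupIndep_and_iSup_eq_top R _ ↥Ps
    (fun a b => Classical.propDecidable (a = b)) M _ _ (fun P : ↥Ps => P.1)
  refine key.mpr ⟨(sSupIndep_iff Ps).mp hind, ?_⟩
  rw [← sSup_eq_iSup', htop]

theorem projective_of_baseChange [Module.Projective S (S ⊗[R] M)] : Module.Projective R M := by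
  obtain ⟨ι, N, hN, hc⟩ := exists_isInternal_ctbl (R := R) (S := S) (M := M)
  haveI : Module.Flat R M := Module.Flat.of_flat_tensorProduct R M S
  have hML : CAlg.IsMittagLeffler R M :=
    Groth.Agent.S0586.result R S M ((Groth.Agent.S0584.result S (S ⊗[R] M)).mp inferInstance).2.1
  exact Groth.Agent.Helper7.MLProj.backward M hML ι N hN hc

end Main




end Groth.Agent.Helper7.ProjDescent
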