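import Mathlib
import Groth.Agent.Lib.Helper7.ProjDescent

/-!
# Projectivity is Zariski local (arbitrary modules)

Consequence of Raynaud–Gruson descent of projectivity (`ProjDescent.projective_of_baseChange`):
if `f i` span the unit ideal and `A i ⊗ M` is projective over the localizations `A i = R[1/f i]`
then `M` is projective over `R`.
-/

set_option autoImplicit false
set_option linter.style.haveILetI false
set_option linter.unusedSectionVars false

universe u

open TensorProduct

namespace Groth.Agent.Helper7.ProjLocal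

section Pi

variable {R : Type u} [CommRing R] {ι : Type u} [Fintype ι] [DecidableEq ι]
  (A : ι → Type u) [∀ i, CommRing (A i)] [∀ i, Algebra R (A i)]
  (M : Type u) [AddCommGroup M] [Module R M]

/-- the inclusion of the `i`-th factor, tensored with `M`. -/
noncomputable def tau (i : ι) : A i ⊗[R] M →ₗ[R] (∀ i, A i) ⊗[R] M :=
  LinearMap.rTensor M (LinearMap.single R A i)

lemma tau_tmul (i : ι) (a : A i) (m : M) :
    tau A M i (a ⊗ₜ[R] m) = (Pi.single i a : ∀ i, A i) ⊗ₜ[R] m := rfl

lemma single_smul_tau (i : ι) (c : A i) (x : A i ⊗[R] M) :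
    (Pi.single i c : ∀ i, A i) • tau A M i x = tau A M i (c • x) := by
  induction x using TensorProduct.induction_on with
  | zero => simp
  | tmul a m =>
    rw [tau_tmul, TensorProduct.smul_tmul', TensorProduct.smul_tmul', tau_tmul, smul_eq_mul,
      smul_eq_mul, Pi.single_mul]
  | add x y hx hy => rw [map_add, smul_add, hx, hy, smul_add, map_add]

/-- the retraction `(X →₀ S) → S ⊗ M`. -/
noncomputable def T : ((Σ i, A i ⊗[R] M) →₀ (∀ i, A i)) →ₗ[∀ i, A i] (∀ i, A i) ⊗[R] M :=
  Finsupp.linearCombination (∀ i, A i) (fun x : (Σ i, A i ⊗[R] M) => tau A M x.1 x.2)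

/-- transport of a finitely supported function on the `i`-th factor. -/
noncomputable def rho (i : ι) :
    ((A i ⊗[R] M) →₀ A i) →ₗ[R] ((Σ i, A i ⊗[R] M) →₀ (∀ i, A i)) :=
  (Finsupp.mapRange.linearMap (LinearMap.single R A i)) ∘ₗ
    (Finsupp.lmapDomain (A i) R (fun x : A i ⊗[R] M => (⟨i, x⟩ : Σ j, A j ⊗[R] M)))

lemma rho_single (i : ι) (x : A i ⊗[R] M) (c : A i) :
    rho A M i (Finsupp.single x c) = Finsupp.single ⟨i, x⟩ (Pi.single i c : ∀ i, A i) := by
  simp [rho, Finsupp.lmapDomain_apply, Finsupp.mapDomain_single]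

lemma T_rho (i : ι) (φ : (A i ⊗[R] M) →₀ A i) :
    T A M (rho A M i φ) = tau A M i (Finsupp.linearCombination (A i) id φ) := by
  induction φ using Finsupp.induction_linear with
  | zero => simp
  | add φ ψ hφ hψ => rw [map_add, map_add, hφ, hψ, map_add, map_add]
  | single x c =>
    rw [rho_single, T, Finsupp.linearCombination_single, Finsupp.linearCombination_single]
    exact single_smul_tau A M i c x

theorem projective_pi_tensor (h : ∀ i, Module.Projective (A i) (A i ⊗[R] M)) :
    Module.Projective (∀ i, A i) ((∀ i, A i) ⊗[R] M) := by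
  classical
  have hs : ∀ i, ∃ s : (A i ⊗[R] M) →ₗ[A i] ((A i ⊗[R] M) →₀ A i),
      Finsupp.linearCombination (A i) id ∘ₗ s = LinearMap.id :=
    fun i => Module.projective_def'.mp (h i)
  choose σ hσ using hs
  let I₀ : M →ₗ[R] ((Σ i, A i ⊗[R] M) →₀ (∀ i, A i)) :=
    ∑ i, (rho A M i) ∘ₗ ((σ i).restrictScalars R) ∘ₗ (TensorProduct.mk R (A i) M 1)
  let I : (∀ i, A i) ⊗[R] M →ₗ[∀ i, A i] ((Σ i, A i ⊗[R] M) →₀ (∀ i, A i)) :=
    LinearMap.liftBaseChange (∀ i, A i) I₀
  refine Module.Projective.of_split I (T A M) ?_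
  apply TensorProduct.AlgebraTensorModule.ext
  intro s m
  have h1 : I ((1 : ∀ i, A i) ⊗ₜ[R] m) = I₀ m := LinearMap.liftBaseChange_one_tmul _ _ _
  have h2 : T A M (I₀ m) = (1 : ∀ i, A i) ⊗ₜ[R] m := by
    simp only [I₀, LinearMap.sum_apply, LinearMap.comp_apply, map_sum,
      LinearMap.coe_restrictScalars, TensorProduct.mk_apply]
    have h3 : ∀ i, T A M (rho A M i (σ i ((1 : A i) ⊗ₜ[R] m))) =
        (Pi.single i (1 : A i) : ∀ i, A i) ⊗ₜ[R] m := by
      intro i
      rw [T_rho]
      have := congrArg (fun φ => φ ((1 : A i) ⊗ₜ[R] m)) (hσ i)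
      simp only [LinearMap.comp_apply, LinearMap.id_apply] at this
      rw [this, tau_tmul]
    have h5 : (∑ a, (Pi.single a (1 : A a) : ∀ i, A i)) = 1 :=
      Finset.univ_sum_single (fun i => (1 : A i))
    rw [Finset.sum_congr rfl (fun i _ => h3 i), ← TensorProduct.sum_tmul, h5]
  have h4 : (s ⊗ₜ[R] m : (∀ i, A i) ⊗[R] M) = s • ((1 : ∀ i, A i) ⊗ₜ[R] m) := by
    rw [TensorProduct.smul_tmul', smul_eq_mul, mul_one]
  rw [h4, map_smul, LinearMap.comp_apply, h1, h2, LinearMap.id_apply]

end Pi

section Away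

variable {R : Type u} [CommRing R] {ι : Type u} [Finite ι]
  (A : ι → Type u) [∀ i, CommRing (A i)] [∀ i, Algebra R (A i)]
  (f : ι → R) [∀ i, IsLocalization.Away (f i) (A i)]

include f in
theorem faithfullyFlat_pi_away (hf : Ideal.span (Set.range f) = ⊤) :
    Module.FaithfullyFlat R (∀ i, A i) := by
  classical
  haveI := Fintype.ofFinite ι
  haveI : ∀ i, Module.Flat R (A i) := fun i => IsLocalization.flat (A i) (Submonoid.powers (f i))
  haveI : Module.Flat R (∀ i, A i) :=
    Module.Flat.of_linearEquiv (DirectSum.linearEquivFunOnFintype R ι A).symm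
  refine Module.FaithfullyFlat.of_comap_surjective (fun p => ?_)
  obtain ⟨i, hi⟩ : ∃ i, f i ∉ p.asIdeal := by
    by_contra hcon
    push Not at hcon
    have h5 : Ideal.span (Set.range f) ≤ p.asIdeal :=
      Ideal.span_le.mpr (by rintro _ ⟨i, rfl⟩; exact hcon i)
    rw [hf] at h5
    exact p.isPrime.ne_top (top_le_iff.mp h5)
  have hdisj : Disjoint (Submonoid.powers (f i) : Set R) (p.asIdeal : Set R) :=
    (Ideal.disjoint_powers_iff_notMem_of_isPrime (f i)).mpr hi
  have hprime : (p.asIdeal.map (algebraMap R (A i))).IsPrime :=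
    IsLocalization.isPrime_of_isPrime_disjoint (Submonoid.powers (f i)) (A i) p.asIdeal
      p.isPrime hdisj
  have hcomap : (p.asIdeal.map (algebraMap R (A i))).comap (algebraMap R (A i)) = p.asIdeal :=
    IsLocalization.under_map_of_isPrime_disjoint (Submonoid.powers (f i)) (A i) p.isPrime hdisj
  refine ⟨PrimeSpectrum.comap (Pi.evalRingHom A i) ⟨_, hprime⟩, ?_⟩
  apply PrimeSpectrum.ext
  change ((p.asIdeal.map (algebraMap R (A i))).comap (Pi.evalRingHom A i)).comap
    (algebraMap R (∀ i, A i)) = p.asIdeal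
  rw [Ideal.comap_comap]
  have : (Pi.evalRingHom A i).comp (algebraMap R (∀ i, A i)) = algebraMap R (A i) := by
    ext r
    rfl
  rw [this, hcomap]

variable (M : Type u) [AddCommGroup M] [Module R M]

include f in
/-- **Projectivity is Zariski local**, for arbitrary (not necessarily finite) modules. -/
theorem projective_of_away (hf : Ideal.span (Set.range f) = ⊤)
    (h : ∀ i, Module.Projective (A i) (A i ⊗[R] M)) : Module.Projective R M := by
  classical
  haveI := Fintype.ofFinite ι
  haveI := faithfullyFlat_pi_away A f hf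
  haveI := projective_pi_tensor A M h
  exact Groth.Agent.Helper7.ProjDescent.projective_of_baseChange (R := R) (S := ∀ i, A i) (M := M)

/-- Variant with arbitrary base-changed modules. -/
theorem projective_of_away' (hf : Ideal.span (Set.range f) = ⊤)
    (N : ι → Type u) [∀ i, AddCommGroup (N i)] [∀ i, Module R (N i)] [∀ i, Module (A i) (N i)]
    [∀ i, IsScalarTower R (A i) (N i)] (g : ∀ i, M →ₗ[R] N i) (hg : ∀ i, IsBaseChange (A i) (g i))
    (h : ∀ i, Module.Projective (A i) (N i)) : Module.Projective R M := by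
  refine projective_of_away A f M hf (fun i => ?_)
  haveI := h i
  exact Module.Projective.of_equiv (hg i).equiv.symm

end Away

end Groth.Agent.Helper7.ProjLocal
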