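import Mathlib
import Groth.Prelude.Def_CAlgX
import Groth.Agent.Lib.Helper14.AdicFSDer

/-!
Adic formal smoothness of a Noetherian local algebra is detected by small extensions
(Artinian local test rings, kernel of length one). The proof uses helper14's reduction to
kernels killed by the maximal ideal and the product trick for vector spaces. (helper7)
-/

universe u
namespace Groth.Agent.Helper7.SmallExt
open IsLocalRing

set_option linter.style.haveILetI false
set_option linter.unusedSectionVars false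
set_option linter.unusedVariables false

section Core

variable {R S A T : Type u} [CommRing R] [CommRing S] [CommRing A] [CommRing T]
  [Algebra R S] [Algebra R A] [Algebra R T]

/-- the hyperplane ideal attached to a functional on `V` -/
def hyp {V 𝔪 : Ideal A} (l : V →ₗ[A] (A ⧸ 𝔪)) : Ideal A :=
  (LinearMap.ker l).map (Submodule.subtype V)

theorem mem_hyp {V 𝔪 : Ideal A} (l : V →ₗ[A] (A ⧸ 𝔪)) (v : V) :
    (v : A) ∈ hyp l ↔ l v = 0 := by
  unfold hyp
  constructor
  · rintro ⟨w, hw, hwv⟩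
    have : w = v := Subtype.ext hwv
    rw [← this]; exact hw
  · intro h
    exact ⟨v, h, rfl⟩

theorem hyp_le {V 𝔪 : Ideal A} (l : V →ₗ[A] (A ⧸ 𝔪)) : hyp l ≤ V := by
  rintro _ ⟨w, _, rfl⟩
  exact w.2

theorem key (q : S →ₐ[R] T) (π : A →ₐ[R] T) (hπ : Function.Surjective π)
    (𝔪 : Ideal A) [h𝔪 : 𝔪.IsMaximal]
    (hV2 : ∀ v ∈ RingHom.ker π, ∀ w ∈ RingHom.ker π, v * w = 0)
    (hkill : ∀ a ∈ 𝔪, ∀ v ∈ RingHom.ker π, a * v = 0)
    (hlift : ∀ l : (RingHom.ker π : Ideal A) →ₗ[A] (A ⧸ 𝔪), Function.Surjective l →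
      ∃ χ : S →ₐ[R] A ⧸ hyp l, ∀ s, ∃ a, π a = q s ∧ Ideal.Quotient.mk (hyp l) a = χ s) :
    ∃ χ : S →ₐ[R] A, ∀ s, π (χ s) = q s := by
  classical
  set V : Ideal A := RingHom.ker π with hVdef
  letI : Field (A ⧸ 𝔪) := Ideal.Quotient.field 𝔪
  have hM : Module.IsTorsionBySet A V 𝔪 := fun v a => Subtype.ext (hkill a.1 a.2 v.1 v.2)
  letI : Module (A ⧸ 𝔪) V := hM.module
  haveI : IsScalarTower A (A ⧸ 𝔪) V := hM.isScalarTower
  -- index set
  let Λ := {l : V →ₗ[A] (A ⧸ 𝔪) // Function.Surjective l}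
  choose χ hχ using fun l : Λ => hlift l.1 l.2
  -- evaluation map
  let ev : V →ₗ[A ⧸ 𝔪] (Λ → A ⧸ 𝔪) :=
    { toFun := fun v l => l.1 v
      map_add' := fun v w => by funext l; simp
      map_smul' := fun k v => by
        funext l
        obtain ⟨a, rfl⟩ := Ideal.Quotient.mk_surjective k
        show l.1 (Ideal.Quotient.mk 𝔪 a • v) = Ideal.Quotient.mk 𝔪 a • l.1 v
        have h1 : (Ideal.Quotient.mk 𝔪 a) • v = a • v := rfl
        rw [h1, map_smul]
        rfl }
  have hev : LinearMap.ker ev = ⊥ := by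
    rw [LinearMap.ker_eq_bot']
    intro v hv
    by_contra hne
    obtain ⟨φ, hφ⟩ := Module.Projective.exists_dual_eq_one (A ⧸ 𝔪) hne
    let l : V →ₗ[A] (A ⧸ 𝔪) := φ.restrictScalars A
    have hl : Function.Surjective l := by
      intro y
      refine ⟨y • v, ?_⟩
      show φ (y • v) = y
      rw [map_smul, hφ, smul_eq_mul, mul_one]
    have : ev v ⟨l, hl⟩ = 0 := by rw [hv]; rfl
    have h1 : φ v = 0 := this
    rw [hφ] at h1
    exact one_ne_zero h1
  obtain ⟨ρ, hρ⟩ := LinearMap.exists_leftInverse_of_injective ev hev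
  have hρev : ∀ v : V, ρ (ev v) = v := fun v => by
    have := congrArg (fun f => f v) hρ
    simpa using this
  -- the lifting relation
  let Lifts : S → A → Prop := fun s z => ∃ (a : A) (c : Λ → A ⧸ 𝔪), π a = q s ∧
    (∀ l : Λ, ∃ v : V, Ideal.Quotient.mk (hyp l.1) (a + v) = χ l s ∧ l.1 v = c l) ∧
    z = a + (ρ c : A)
  have hex : ∀ s, ∃ z, Lifts s z := by
    intro s
    obtain ⟨a, ha⟩ := hπ (q s)
    have : ∀ l : Λ, ∃ v : V, Ideal.Quotient.mk (hyp l.1) (a + v) = χ l s := by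
      intro l
      obtain ⟨a', ha', hmk⟩ := hχ l s
      have hv : a' - a ∈ V := by
        rw [hVdef, RingHom.mem_ker, map_sub, ha, ha', sub_self]
      refine ⟨⟨a' - a, hv⟩, ?_⟩
      rw [← hmk]
      congr 1
      simp
    choose v hv using this
    exact ⟨_, a, fun l => l.1 (v l), ha, fun l => ⟨v l, hv l, rfl⟩, rfl⟩
  have huniq : ∀ s z z', Lifts s z → Lifts s z' → z = z' := by
    rintro s z z' ⟨a, c, ha, hc, rfl⟩ ⟨a', c', ha', hc', rfl⟩
    have hu : a' - a ∈ V := by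
      rw [hVdef, RingHom.mem_ker, map_sub, ha, ha', sub_self]
    let u : V := ⟨a' - a, hu⟩
    have hcc : c = c' + ev u := by
      funext l
      obtain ⟨v, hv, hvc⟩ := hc l
      obtain ⟨v', hv', hvc'⟩ := hc' l
      have h1 : Ideal.Quotient.mk (hyp l.1) (a + v) = Ideal.Quotient.mk (hyp l.1) (a' + v') := by
        rw [hv, hv']
      rw [Ideal.Quotient.eq] at h1
      have h2 : ((v - v' - u : V) : A) ∈ hyp l.1 := by
        have : ((v - v' - u : V) : A) = a + v - (a' + v') := by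
          simp [u]; ring
        rw [this]; exact h1
      rw [mem_hyp] at h2
      rw [map_sub, map_sub, hvc, hvc', sub_eq_zero] at h2
      show c l = c' l + l.1 u
      rw [← h2]; ring
    rw [hcc, map_add, hρev]
    simp only [Submodule.coe_add, u]
    ring
  choose f hf using hex
  have hfun : ∀ s z, Lifts s z → f s = z := fun s z hz => huniq s _ _ (hf s) hz
  have hπρ : ∀ c, π ((ρ c : V) : A) = 0 := fun c => (ρ c).2
  have hπf : ∀ s, π (f s) = q s := by
    intro s
    obtain ⟨a, c, ha, -, hz⟩ := hf s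
    rw [hz, map_add, hπρ, add_zero, ha]
  have hadd : ∀ s s', f (s + s') = f s + f s' := by
    intro s s'
    apply hfun
    obtain ⟨a, c, ha, hc, hz⟩ := hf s
    obtain ⟨a', c', ha', hc', hz'⟩ := hf s'
    refine ⟨a + a', c + c', by rw [map_add, map_add, ha, ha'], fun l => ?_, ?_⟩
    · obtain ⟨v, hv, hvc⟩ := hc l
      obtain ⟨v', hv', hvc'⟩ := hc' l
      refine ⟨v + v', ?_, by rw [map_add, hvc, hvc']; rfl⟩
      rw [map_add (χ l), ← hv, ← hv', ← map_add]
      congr 1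
      simp only [Submodule.coe_add]; ring
    · rw [hz, hz', map_add]
      simp; ring
  have hmul : ∀ s s', f (s * s') = f s * f s' := by
    intro s s'
    apply hfun
    obtain ⟨a, c, ha, hc, hz⟩ := hf s
    obtain ⟨a', c', ha', hc', hz'⟩ := hf s'
    refine ⟨a * a', Ideal.Quotient.mk 𝔪 a • c' + Ideal.Quotient.mk 𝔪 a' • c,
      by rw [map_mul, map_mul, ha, ha'], fun l => ?_, ?_⟩
    · obtain ⟨v, hv, hvc⟩ := hc l
      obtain ⟨v', hv', hvc'⟩ := hc' l
      refine ⟨a • v' + a' • v, ?_, ?_⟩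
      · rw [map_mul, ← hv, ← hv', ← map_mul]
        congr 1
        have : (v : A) * (v' : A) = 0 := hV2 _ v.2 _ v'.2
        simp only [Submodule.coe_add, Submodule.coe_smul, smul_eq_mul]
        linear_combination (-1 : A) * this
      · rw [map_add, map_smul, map_smul, hvc, hvc']
        rfl
    · rw [hz, hz', map_add, map_smul, map_smul]
      have h0 : ((ρ c : V) : A) * ((ρ c' : V) : A) = 0 := hV2 _ (ρ c).2 _ (ρ c').2
      have e1 : ((Ideal.Quotient.mk 𝔪 a • ρ c' : V) : A) = a * (ρ c' : A) := rfl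
      have e2 : ((Ideal.Quotient.mk 𝔪 a' • ρ c : V) : A) = a' * (ρ c : A) := rfl
      rw [Submodule.coe_add, e1, e2]
      linear_combination h0
  have hone : f 1 = 1 := by
    apply hfun
    refine ⟨1, 0, by rw [map_one, map_one], fun l => ⟨0, ?_, by simp⟩, by simp⟩
    simp
  have halg : ∀ r : R, f (algebraMap R S r) = algebraMap R A r := by
    intro r
    apply hfun
    refine ⟨algebraMap R A r, 0, by rw [AlgHom.commutes, AlgHom.commutes],
      fun l => ⟨0, ?_, by simp⟩, by simp⟩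
    rw [AlgHom.commutes]
    simp
  have hzero : f 0 = 0 := by
    have := halg 0
    simpa using this
  exact ⟨{ toFun := f, map_one' := hone, map_mul' := hmul, map_zero' := hzero,
           map_add' := hadd, commutes' := halg }, hπf⟩

theorem small_piece (π : A →ₐ[R] T) (hπ : Function.Surjective π)
    (𝔪 : Ideal A) [h𝔪 : 𝔪.IsMaximal]
    (hV2 : ∀ v ∈ RingHom.ker π, ∀ w ∈ RingHom.ker π, v * w = 0)
    (l : (RingHom.ker π : Ideal A) →ₗ[A] (A ⧸ 𝔪)) (hl : Function.Surjective l) :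
    let π' : (A ⧸ hyp l) →ₐ[R] T := Ideal.Quotient.liftₐ (hyp l) π
      (fun a ha => (RingHom.mem_ker).mp (hyp_le l ha))
    Function.Surjective π' ∧ (∀ x ∈ RingHom.ker π', ∀ y ∈ RingHom.ker π', x * y = 0) ∧
      Module.length (A ⧸ hyp l) (RingHom.ker π' : Ideal (A ⧸ hyp l)) = 1 := by
  classical
  intro π'
  letI : Field (A ⧸ 𝔪) := Ideal.Quotient.field 𝔪
  have hπ'mk : ∀ a, π' (Ideal.Quotient.mk (hyp l) a) = π a := fun a => rfl
  have hker : ∀ x ∈ RingHom.ker π', ∃ v : (RingHom.ker π : Ideal A), Ideal.Quotient.mk (hyp l) (v : A) = x := by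
    intro x hx
    obtain ⟨a, rfl⟩ := Ideal.Quotient.mk_surjective x
    rw [RingHom.mem_ker, hπ'mk] at hx
    exact ⟨⟨a, hx⟩, rfl⟩
  have hmem : ∀ v : (RingHom.ker π : Ideal A), Ideal.Quotient.mk (hyp l) (v : A) ∈ RingHom.ker π' := fun v => by
    rw [RingHom.mem_ker, hπ'mk]; exact v.2
  refine ⟨?_, ?_, ?_⟩
  · intro t
    obtain ⟨a, rfl⟩ := hπ t
    exact ⟨Ideal.Quotient.mk _ a, rfl⟩
  · intro x hx y hy
    obtain ⟨v, rfl⟩ := hker x hx
    obtain ⟨w, rfl⟩ := hker y hy
    rw [← map_mul, hV2 _ v.2 _ w.2, map_zero]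
  · rw [Module.length_eq_one_iff, isSimpleModule_iff_toSpanSingleton_surjective]
    constructor
    · obtain ⟨v, hv⟩ := hl 1
      refine ⟨⟨⟨Ideal.Quotient.mk _ (v : A), hmem v⟩, 0, fun h => ?_⟩⟩
      have h1 : Ideal.Quotient.mk (hyp l) (v : A) = 0 := congrArg Subtype.val h
      rw [Ideal.Quotient.eq_zero_iff_mem, mem_hyp, hv] at h1
      exact one_ne_zero h1
    · rintro ⟨x, hx⟩ hx0 ⟨y, hy⟩
      obtain ⟨v, rfl⟩ := hker x hx
      obtain ⟨w, rfl⟩ := hker y hy
      have hlv : l v ≠ 0 := by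
        intro h0
        apply hx0
        apply Subtype.ext
        show Ideal.Quotient.mk (hyp l) (v : A) = 0
        rw [Ideal.Quotient.eq_zero_iff_mem, mem_hyp]; exact h0
      obtain ⟨b, hb⟩ := Ideal.Quotient.mk_surjective (l w * (l v)⁻¹)
      refine ⟨Ideal.Quotient.mk (hyp l) b, ?_⟩
      apply Subtype.ext
      show Ideal.Quotient.mk (hyp l) b • Ideal.Quotient.mk (hyp l) (v : A) =
        Ideal.Quotient.mk (hyp l) (w : A)
      rw [smul_eq_mul, ← map_mul, eq_comm, Ideal.Quotient.eq]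
      have : (w : A) - b * (v : A) = ((w - b • v : (RingHom.ker π : Ideal A)) : A) := by simp
      rw [this, mem_hyp, map_sub, map_smul, sub_eq_zero]
      show l w = Ideal.Quotient.mk 𝔪 b * l v
      rw [hb, mul_assoc, inv_mul_cancel₀ hlv, mul_one]

end Core

section SE

variable (R S : Type u) [CommRing R] [CommRing S] [IsLocalRing R] [IsLocalRing S]
  [IsNoetherianRing S] [Algebra R S] [IsLocalHom (algebraMap R S)]

/-- lifting along small extensions -/
def SmallLift : Prop :=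
  ∀ (A : Type u) [CommRing A] [IsLocalRing A] [IsArtinianRing A] [Algebra R A]
    [IsLocalHom (algebraMap R A)] (J : Ideal A), J ^ 2 = ⊥ → Module.length A J = 1 →
    ∀ [IsLocalRing (A ⧸ J)] (ψ : S →ₐ[R] A ⧸ J) [IsLocalHom ψ.toRingHom],
      Function.Bijective (ResidueField.map ψ.toRingHom) →
      ∃ χ : S →ₐ[R] A, (Ideal.Quotient.mkₐ R J).comp χ = ψ

variable {R S}

theorem isLocalHom_of_sq_zero {A T : Type*} [CommRing A] [CommRing T] (f : A →+* T)
    (hf : Function.Surjective f) (h2 : ∀ x ∈ RingHom.ker f, ∀ y ∈ RingHom.ker f, x * y = 0) :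
    IsLocalHom f := by
  constructor
  intro a ha
  obtain ⟨t, ht⟩ := ha.exists_right_inv
  obtain ⟨b, rfl⟩ := hf t
  have hj : a * b - 1 ∈ RingHom.ker f := by
    rw [RingHom.mem_ker, map_sub, map_mul, ht, map_one, sub_self]
  have h0 := h2 _ hj _ hj
  refine IsUnit.of_mul_eq_one (b * (1 - (a * b - 1))) ?_
  linear_combination (-1 : A) * h0

theorem pow_ne_top (k : ℕ) (hk : k ≠ 0) : maximalIdeal S ^ k ≠ ⊤ := by
  intro h
  have : maximalIdeal S ^ k ≤ maximalIdeal S := Ideal.pow_le_self hk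
  rw [h] at this
  exact (maximalIdeal.isMaximal S).ne_top (top_le_iff.mp this)

theorem isLocalHom_mk_pow (k : ℕ) (hk : k ≠ 0) :
    IsLocalHom (Ideal.Quotient.mk (maximalIdeal S ^ k)) := by
  constructor
  intro a ha
  by_contra hna
  have ham : a ∈ maximalIdeal S := (mem_maximalIdeal a).mpr hna
  obtain ⟨t, ht⟩ := ha.exists_right_inv
  obtain ⟨b, rfl⟩ := Ideal.Quotient.mk_surjective t
  rw [← map_mul, ← map_one (Ideal.Quotient.mk (maximalIdeal S ^ k)), Ideal.Quotient.eq] at ht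
  have h1 : a * b - 1 ∈ maximalIdeal S := Ideal.pow_le_self hk ht
  have h2 : a * b ∈ maximalIdeal S := Ideal.mul_mem_right _ _ ham
  have h3 : (1 : S) ∈ maximalIdeal S := by
    have := Ideal.sub_mem _ h2 h1
    rwa [sub_sub_cancel] at this
  exact (maximalIdeal.isMaximal S).ne_top ((Ideal.eq_top_iff_one _).mpr h3)

theorem lift_of_small (H : SmallLift R S) (k : ℕ) (hk : k ≠ 0) (A' : Type u) [CommRing A']
    [Algebra R A'] (π' : A' →ₐ[R] S ⧸ maximalIdeal S ^ k) (hπ' : Function.Surjective π')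
    (hJ2 : ∀ x ∈ RingHom.ker π', ∀ y ∈ RingHom.ker π', x * y = 0)
    (hlen : Module.length A' (RingHom.ker π' : Ideal A') = 1) :
    ∃ χ : S →ₐ[R] A', ∀ s, π' (χ s) = Ideal.Quotient.mk _ s := by
  classical
  set T := S ⧸ maximalIdeal S ^ k with hT
  haveI : Nontrivial T := Ideal.Quotient.nontrivial_iff.mpr (pow_ne_top k hk)
  haveI : IsLocalRing T := IsLocalRing.of_surjective' (Ideal.Quotient.mk _) Ideal.Quotient.mk_surjective
  haveI hmk : IsLocalHom (Ideal.Quotient.mk (maximalIdeal S ^ k)) := isLocalHom_mk_pow k hk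
  -- T Artinian
  haveI : IsArtinianRing T := by
    rw [isArtinianRing_iff_isNilpotent_maximalIdeal]
    refine ⟨k, ?_⟩
    rw [← IsLocalRing.map_maximalIdeal_of_surjective (Ideal.Quotient.mk (maximalIdeal S ^ k))
      Ideal.Quotient.mk_surjective, ← Ideal.map_pow, Ideal.zero_eq_bot,
      Ideal.map_eq_bot_iff_le_ker, Ideal.mk_ker]
  -- A' local
  haveI hπloc : IsLocalHom π'.toRingHom := isLocalHom_of_sq_zero π'.toRingHom hπ' hJ2
  haveI : IsLocalRing A' := RingHom.domain_isLocalRing π'.toRingHom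
  set J : Ideal A' := RingHom.ker π' with hJ
  -- A' Artinian
  haveI : IsArtinianRing A' := by
    haveI : IsArtinian A' J := by
      have hs : IsSimpleModule A' J := Module.length_eq_one_iff.mp hlen
      infer_instance
    letI : Algebra A' T := π'.toRingHom.toAlgebra
    haveI : IsArtinian A' T := isArtinian_of_surjective_algebraMap (R := T) (S := A') hπ'
    let g : A' →ₗ[A'] T := Algebra.linearMap A' T
    exact isArtinian_of_range_eq_ker (Submodule.subtype J) g (by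
      rw [Submodule.range_subtype]
      ext x
      simp [g, hJ, RingHom.mem_ker]
      rfl)
  haveI : IsLocalHom (algebraMap R A') := by
    constructor
    intro r hr
    have h1 : IsUnit (π' (algebraMap R A' r)) := hr.map π'
    rw [AlgHom.commutes] at h1
    have h2 : IsUnit (Ideal.Quotient.mk (maximalIdeal S ^ k) (algebraMap R S r)) := h1
    have h3 : IsUnit (algebraMap R S r) := isUnit_of_map_unit _ _ h2
    exact isUnit_of_map_unit (algebraMap R S) r h3
  have hJtop : J ≠ ⊤ := by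
    intro h
    have : (1 : A') ∈ J := h ▸ Submodule.mem_top
    rw [hJ, RingHom.mem_ker, map_one] at this
    exact one_ne_zero this
  haveI : Nontrivial (A' ⧸ J) := Ideal.Quotient.nontrivial_iff.mpr hJtop
  haveI : IsLocalRing (A' ⧸ J) :=
    IsLocalRing.of_surjective' (Ideal.Quotient.mk J) Ideal.Quotient.mk_surjective
  let e : (A' ⧸ J) ≃ₐ[R] T := Ideal.quotientKerAlgEquivOfSurjective hπ'
  let ψ : S →ₐ[R] A' ⧸ J := (e.symm : T →ₐ[R] A' ⧸ J).comp (Ideal.Quotient.mkₐ R (maximalIdeal S ^ k))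
  have hψ : ∀ s, e (ψ s) = Ideal.Quotient.mk _ s := fun s => by simp [ψ]; rfl
  haveI : IsLocalHom ψ.toRingHom := by
    constructor
    intro s hs
    have h1 : IsUnit (e (ψ s)) := hs.map e
    rw [hψ] at h1
    exact isUnit_of_map_unit _ _ h1
  have hψsurj : Function.Surjective ψ := by
    intro y
    obtain ⟨s, hs⟩ := Ideal.Quotient.mk_surjective (e y)
    refine ⟨s, e.injective ?_⟩
    rw [hψ, hs]
  have hbij : Function.Bijective (ResidueField.map ψ.toRingHom) := by
    refine ⟨(ResidueField.map ψ.toRingHom).injective, ?_⟩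
    intro y
    obtain ⟨a, rfl⟩ := residue_surjective y
    obtain ⟨s, rfl⟩ := hψsurj a
    exact ⟨residue S s, ResidueField.map_residue _ _⟩
  have hJ2' : J ^ 2 = ⊥ := by
    rw [pow_two, eq_bot_iff, Ideal.mul_le]
    intro x hx y hy
    rw [Ideal.mem_bot]
    exact hJ2 x hx y hy
  obtain ⟨χ, hχ⟩ := H A' J hJ2' hlen ψ hbij
  refine ⟨χ, fun s => ?_⟩
  have h1 : Ideal.Quotient.mk J (χ s) = ψ s := congrArg (fun f => f s) hχ
  have h2 : e (Ideal.Quotient.mk J (χ s)) = π' (χ s) := rfl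
  rw [← h2, h1, hψ]

theorem lift_killed (H : SmallLift R S) (k : ℕ) (hk : k ≠ 0) (A : Type u) [CommRing A]
    [Algebra R A] (π : A →ₐ[R] S ⧸ maximalIdeal S ^ k) (hπ : Function.Surjective π)
    (hV2 : ∀ v ∈ RingHom.ker π, ∀ w ∈ RingHom.ker π, v * w = 0)
    (hkill : ∀ (a : A) (s : S), s ∈ maximalIdeal S → π a = Ideal.Quotient.mk _ s →
      ∀ v ∈ RingHom.ker π, a * v = 0) :
    ∃ χ : S →ₐ[R] A, ∀ s, π (χ s) = Ideal.Quotient.mk _ s := by
  classical
  set T := S ⧸ maximalIdeal S ^ k with hT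
  let 𝔫T : Ideal T := (maximalIdeal S).map (Ideal.Quotient.mk (maximalIdeal S ^ k))
  haveI h𝔫T : 𝔫T.IsMaximal := by
    refine Ideal.IsMaximal.map_of_surjective_of_ker_le Ideal.Quotient.mk_surjective ?_
    rw [Ideal.mk_ker]
    exact Ideal.pow_le_self hk
  let 𝔪 : Ideal A := 𝔫T.comap π.toRingHom
  haveI : 𝔪.IsMaximal := Ideal.comap_isMaximal_of_surjective π.toRingHom hπ
  have hkill' : ∀ a ∈ 𝔪, ∀ v ∈ RingHom.ker π, a * v = 0 := by
    intro a ha v hv
    have h1 : π a ∈ 𝔫T := ha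
    obtain ⟨s, hs, hsa⟩ := (Ideal.mem_map_iff_of_surjective _ Ideal.Quotient.mk_surjective).mp h1
    exact hkill a s hs hsa.symm v hv
  obtain ⟨χ, hχ⟩ := key (Ideal.Quotient.mkₐ R (maximalIdeal S ^ k)) π hπ 𝔪 hV2 hkill' (by
    intro l hl
    obtain ⟨h1, h2, h3⟩ := small_piece π hπ 𝔪 hV2 l hl
    obtain ⟨χ', hχ'⟩ := lift_of_small H k hk (A ⧸ hyp l) _ h1 h2 h3
    refine ⟨χ', fun s => ?_⟩
    obtain ⟨a, ha⟩ := Ideal.Quotient.mk_surjective (χ' s)
    refine ⟨a, ?_, ha⟩
    have := hχ' s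
    rw [← ha] at this
    exact this)
  exact ⟨χ, hχ⟩

theorem adicFS_of_smallLift (H : SmallLift R S) :
    CAlgX.IsAdicFormallySmooth R S (maximalIdeal S) := by
  classical
  apply Groth.Agent.Helper14.AdicFSDer.of_forall_killed
  intro C _ _ J hJ ψ hψ hkillC
  obtain ⟨k, hk⟩ := hψ
  have hk' : ∀ x ∈ maximalIdeal S ^ (k + 1), ψ x = 0 := fun x hx =>
    hk x (Ideal.pow_le_pow_right (Nat.le_succ k) hx)
  set T := S ⧸ maximalIdeal S ^ (k + 1) with hT
  let ψb : T →ₐ[R] C ⧸ J := Ideal.Quotient.liftₐ (maximalIdeal S ^ (k + 1)) ψ hk'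
  have hψb : ∀ s, ψb (Ideal.Quotient.mk _ s) = ψ s := fun s => rfl
  let A : Subalgebra R (T × C) :=
    AlgHom.equalizer (ψb.comp (AlgHom.fst R T C)) ((Ideal.Quotient.mkₐ R J).comp (AlgHom.snd R T C))
  have hA : ∀ x : T × C, x ∈ A ↔ ψb x.1 = Ideal.Quotient.mk J x.2 := fun x => Iff.rfl
  let π : A →ₐ[R] T := (AlgHom.fst R T C).comp A.val
  have hπ : Function.Surjective π := by
    intro t
    obtain ⟨c, hc⟩ := Ideal.Quotient.mk_surjective (ψb t)
    exact ⟨⟨(t, c), (hA _).mpr hc.symm⟩, rfl⟩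
  have hker : ∀ v ∈ RingHom.ker π, (v : T × C).1 = 0 ∧ (v : T × C).2 ∈ J := by
    intro v hv
    have h1 : (v : T × C).1 = 0 := hv
    refine ⟨h1, ?_⟩
    have h2 := (hA _).mp v.2
    rw [h1, map_zero] at h2
    exact Ideal.Quotient.eq_zero_iff_mem.mp h2.symm
  have hJ2 : ∀ x ∈ J, ∀ y ∈ J, x * y = 0 := by
    intro x hx y hy
    have : x * y ∈ J ^ 2 := by rw [pow_two]; exact Ideal.mul_mem_mul hx hy
    rw [hJ] at this
    exact this
  have hV2 : ∀ v ∈ RingHom.ker π, ∀ w ∈ RingHom.ker π, v * w = 0 := by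
    intro v hv w hw
    obtain ⟨hv1, hv2⟩ := hker v hv
    obtain ⟨hw1, hw2⟩ := hker w hw
    apply Subtype.ext
    apply Prod.ext
    · show (v : T × C).1 * (w : T × C).1 = 0
      rw [hv1, zero_mul]
    · show (v : T × C).2 * (w : T × C).2 = 0
      exact hJ2 _ hv2 _ hw2
  have hkill : ∀ (a : A) (s : S), s ∈ maximalIdeal S → π a = Ideal.Quotient.mk _ s →
      ∀ v ∈ RingHom.ker π, a * v = 0 := by
    intro a s hs has v hv
    obtain ⟨hv1, hv2⟩ := hker v hv
    have ha1 : (a : T × C).1 = Ideal.Quotient.mk _ s := has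
    have ha2 : Ideal.Quotient.mk J (a : T × C).2 = ψ s := by
      rw [← (hA _).mp a.2, ha1, hψb]
    apply Subtype.ext
    apply Prod.ext
    · show (a : T × C).1 * (v : T × C).1 = 0
      rw [hv1, mul_zero]
    · show (a : T × C).2 * (v : T × C).2 = 0
      exact hkillC s hs _ ha2 _ hv2
  obtain ⟨χA, hχA⟩ := lift_killed H (k + 1) (Nat.succ_ne_zero k) A π hπ hV2 hkill
  refine ⟨(AlgHom.snd R T C).comp (A.val.comp χA), ?_⟩
  ext s
  show Ideal.Quotient.mk J ((χA s : T × C).2) = ψ s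
  rw [← (hA _).mp (χA s).2]
  have : (χA s : T × C).1 = Ideal.Quotient.mk _ s := hχA s
  rw [this, hψb]

theorem exists_pow_map_eq_zero {B : Type u} [CommRing B] [IsLocalRing B] [IsArtinianRing B]
    (ψ : S →+* B) [IsLocalHom ψ] : ∃ k : ℕ, ∀ x ∈ maximalIdeal S ^ k, ψ x = 0 := by
  obtain ⟨k, hk⟩ := (isArtinianRing_iff_isNilpotent_maximalIdeal B).mp inferInstance
  refine ⟨k, fun x hx => ?_⟩
  have h1 : (maximalIdeal S).map ψ ≤ maximalIdeal B := map_maximalIdeal_le ψ
  have h2 := Ideal.pow_right_mono h1 k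
  rw [← Ideal.map_pow] at h2
  have h3 := h2 (Ideal.mem_map_of_mem _ hx)
  rw [hk] at h3
  exact h3

theorem smallLift_of_adicFS (h : CAlgX.IsAdicFormallySmooth R S (maximalIdeal S)) :
    SmallLift R S := by
  intro A _ _ _ _ _ J hJ hlen _ ψ _ hbij
  exact h A J hJ ψ (exists_pow_map_eq_zero ψ.toRingHom)

end SE

end Groth.Agent.Helper7.SmallExt
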