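import Mathlib
import Groth.Prelude.Def_CAlgX
import Groth.Agent.S9268
import Groth.Agent.Lib.Helper7.SmallExt

/-!
Smoothness at a prime via lifting along small extensions of Artinian local algebras (helper7).
-/

universe u
namespace Groth.Agent.Helper7.SmallExt
open IsLocalRing

set_option linter.style.haveILetI false
set_option linter.unusedSectionVars false
set_option linter.unusedVariables false

/-- a simple ideal of a local ring is principal and killed by the maximal ideal -/
theorem exists_generator_of_length_one {C : Type*} [CommRing C] [IsLocalRing C] (J : Ideal C)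
    (hlen : Module.length C J = 1) :
    ∃ t : C, J = Ideal.span {t} ∧ ∀ a ∈ maximalIdeal C, a * t = 0 := by
  have hs : IsSimpleModule C J := Module.length_eq_one_iff.mp hlen
  haveI : Nontrivial J := IsSimpleModule.nontrivial C J
  obtain ⟨⟨t, htJ⟩, ht0⟩ := exists_ne (0 : J)
  have ht0' : t ≠ 0 := fun h => ht0 (Subtype.ext h)
  have hspan : ∀ x : C, x ∈ J → x ≠ 0 → J = Ideal.span {x} := by
    intro x hx hx0
    have h1 : Function.Surjective (LinearMap.toSpanSingleton C J ⟨x, hx⟩) :=
      IsSimpleModule.toSpanSingleton_surjective C (fun h => hx0 (congrArg Subtype.val h))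
    apply le_antisymm
    · intro y hy
      obtain ⟨c, hc⟩ := h1 ⟨y, hy⟩
      have : c * x = y := congrArg Subtype.val hc
      rw [← this]
      exact Ideal.mul_mem_left _ _ (Ideal.subset_span rfl)
    · rw [Ideal.span_le]
      rintro _ rfl
      exact hx
  refine ⟨t, hspan t htJ ht0', fun a ha => ?_⟩
  by_contra hat
  have h1 := hspan (a * t) (Ideal.mul_mem_left _ _ htJ) hat
  have h2 : t ∈ Ideal.span {a * t} := h1 ▸ htJ
  obtain ⟨b, hb⟩ := Ideal.mem_span_singleton'.mp h2
  have h3 : (1 - b * a) * t = 0 := by rw [sub_mul, one_mul, mul_assoc, hb, sub_self]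
  have hu : IsUnit (1 - b * a) := by
    by_contra hnu
    have h4 : 1 - b * a ∈ maximalIdeal C := (mem_maximalIdeal _).mpr hnu
    have h5 : b * a ∈ maximalIdeal C := Ideal.mul_mem_left _ _ ha
    have h6 : (1 : C) ∈ maximalIdeal C := by
      have := Ideal.add_mem _ h4 h5
      rwa [sub_add_cancel] at this
    exact (maximalIdeal.isMaximal C).ne_top ((Ideal.eq_top_iff_one _).mpr h6)
  exact ht0' (hu.mul_right_eq_zero.mp h3)

theorem s2060_mp {R S : Type u} [CommRing R] [CommRing S] [Algebra R S] (q : Ideal S) [q.IsPrime]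
    (hsm : Algebra.IsSmoothAt R q)
    (B' B : Type u) [CommRing B'] [CommRing B] [IsLocalRing B'] [IsLocalRing B]
    [Algebra R B'] [Algebra R B] (π : B' →ₐ[R] B) (hπ : Function.Surjective π)
    (ht : ∃ t : B', RingHom.ker π.toRingHom = Ideal.span {t} ∧
          ∀ a ∈ IsLocalRing.maximalIdeal B', a * t = 0)
    (g : S →ₐ[R] B) (hg : (IsLocalRing.maximalIdeal B).comap g = q) :
    ∃ g' : S →ₐ[R] B', π.comp g' = g := by
  classical
  obtain ⟨t, hker, hkill⟩ := ht
  -- `t` is in the maximal ideal
  have htm : t ∈ maximalIdeal B' := by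
    by_contra hnm
    have hu : IsUnit t := by
      by_contra h; exact hnm ((mem_maximalIdeal _).mpr h)
    have h1 : π t = 0 := by
      have : t ∈ RingHom.ker π.toRingHom := hker ▸ Ideal.subset_span rfl
      exact this
    have h2 : IsUnit (π t) := hu.map π
    rw [h1] at h2
    exact not_isUnit_zero h2
  have hnil : IsNilpotent (RingHom.ker π.toRingHom) := by
    refine ⟨2, ?_⟩
    rw [hker, Ideal.span_singleton_pow, Ideal.zero_eq_bot, Ideal.span_singleton_eq_bot, pow_two]
    exact hkill t htm
  -- extend `g` to the local ring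
  have hunits : ∀ y : q.primeCompl, IsUnit (g.toRingHom y) := by
    intro y
    by_contra hnu
    have : (y : S) ∈ (maximalIdeal B).comap g := (mem_maximalIdeal _).mpr hnu
    rw [hg] at this
    exact y.2 this
  let gq₀ : Localization.AtPrime q →+* B := IsLocalization.lift (M := q.primeCompl) hunits
  let gq : Localization.AtPrime q →ₐ[R] B :=
    { gq₀ with
      commutes' := fun r => by
        show gq₀ (algebraMap R (Localization.AtPrime q) r) = algebraMap R B r
        rw [IsScalarTower.algebraMap_apply R S (Localization.AtPrime q), IsLocalization.lift_eq]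
        exact g.commutes r }
  haveI : Algebra.FormallySmooth R (Localization.AtPrime q) := hsm
  let l := Algebra.FormallySmooth.liftOfSurjective gq π hπ hnil
  have hl : π.comp l = gq := Algebra.FormallySmooth.comp_liftOfSurjective gq π hπ hnil
  refine ⟨l.comp (IsScalarTower.toAlgHom R S (Localization.AtPrime q)), ?_⟩
  ext s
  have := congrArg (fun f => f (algebraMap S (Localization.AtPrime q) s)) hl
  simp only [AlgHom.comp_apply] at this ⊢
  rw [IsScalarTower.coe_toAlgHom', this]
  show gq₀ (algebraMap S (Localization.AtPrime q) s) = g s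
  rw [IsLocalization.lift_eq]
  rfl

theorem s2060_mpr {R S : Type u} [CommRing R] [IsNoetherianRing R] [CommRing S] [Algebra R S]
    [Algebra.FiniteType R S] (q : Ideal S) [q.IsPrime]
    (H : ∀ (B' B : Type u) [CommRing B'] [CommRing B] [IsLocalRing B'] [IsLocalRing B]
        [IsArtinianRing B'] [IsArtinianRing B] [Algebra R B'] [Algebra R B] (π : B' →ₐ[R] B),
        Function.Surjective π →
        (∃ t : B', RingHom.ker π.toRingHom = Ideal.span {t} ∧
          ∀ a ∈ IsLocalRing.maximalIdeal B', a * t = 0) →
        ∀ g : S →ₐ[R] B, (IsLocalRing.maximalIdeal B).comap g = q →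
          ∃ g' : S →ₐ[R] B', π.comp g' = g) :
    Algebra.IsSmoothAt R q := by
  classical
  haveI : Algebra.FinitePresentation R S := Algebra.FinitePresentation.of_finiteType.mp inferInstance
  haveI : IsNoetherianRing S := Algebra.FiniteType.isNoetherianRing R S
  set p : Ideal R := Ideal.comap (algebraMap R S) q with hp
  let Ap := Localization.AtPrime p
  let Bq := Localization.AtPrime q
  letI alg : Algebra Ap Bq := (Localization.localRingHom p q (algebraMap R S) rfl).toAlgebra
  haveI : IsLocalHom (algebraMap Ap Bq) := Localization.isLocalHom_localRingHom p q (algebraMap R S) rfl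
  haveI : IsScalarTower R Ap Bq := IsScalarTower.of_algebraMap_eq (fun r => by
    show algebraMap R Bq r = Localization.localRingHom p q (algebraMap R S) rfl (algebraMap R Ap r)
    rw [Localization.localRingHom_to_map]
    exact IsScalarTower.algebraMap_apply R S Bq r)
  -- it suffices to prove adic formal smoothness
  suffices hfs : CAlgX.IsAdicFormallySmooth Ap Bq (maximalIdeal Bq) by
    obtain ⟨g, hgq, hsm⟩ := (Groth.Agent.S9268.result R S q).mpr hfs
    have h1 : ↑(PrimeSpectrum.basicOpen g) ⊆ Algebra.smoothLocus R S :=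
      Algebra.basicOpen_subset_smoothLocus_iff_smooth.mpr hsm
    exact h1 (show (⟨q, inferInstance⟩ : PrimeSpectrum S) ∈ PrimeSpectrum.basicOpen g from hgq)
  apply adicFS_of_smallLift
  intro C _ _ _ _ _ J hJ hlen _ ψ hψ hbij
  letI : Algebra R C := ((algebraMap Ap C).comp (algebraMap R Ap)).toAlgebra
  haveI : IsScalarTower R Ap C := IsScalarTower.of_algebraMap_eq (fun r => rfl)
  haveI : IsScalarTower R Ap (C ⧸ J) := IsScalarTower.of_algebraMap_eq (fun r => rfl)
  haveI : IsArtinianRing (C ⧸ J) := inferInstance
  obtain ⟨t, htJ, htk⟩ := exists_generator_of_length_one J hlen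
  let g : S →ₐ[R] C ⧸ J := (ψ.restrictScalars R).comp (IsScalarTower.toAlgHom R S Bq)
  have hgs : ∀ s, g s = ψ (algebraMap S Bq s) := fun s => rfl
  have hgq : (maximalIdeal (C ⧸ J)).comap g = q := by
    ext s
    rw [Ideal.mem_comap, mem_maximalIdeal, mem_nonunits_iff, hgs]
    constructor
    · intro h
      by_contra hs
      apply h
      exact (IsLocalization.map_units Bq (⟨s, hs⟩ : q.primeCompl)).map ψ
    · intro hs hu
      have h1 : IsUnit (algebraMap S Bq s) := isUnit_of_map_unit ψ.toRingHom _ hu
      exact ((IsLocalization.AtPrime.isUnit_to_map_iff Bq q s).mp h1) hs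
  obtain ⟨g', hg'⟩ := H C (C ⧸ J) (Ideal.Quotient.mkₐ R J) Ideal.Quotient.mk_surjective
    ⟨t, by rw [← htJ]; exact Ideal.mk_ker, htk⟩ g hgq
  have hg's : ∀ s, Ideal.Quotient.mk J (g' s) = g s := fun s => congrArg (fun f => f s) hg'
  -- units
  have hJ2 : ∀ x ∈ RingHom.ker (Ideal.Quotient.mk J), ∀ y ∈ RingHom.ker (Ideal.Quotient.mk J),
      x * y = 0 := by
    intro x hx y hy
    rw [Ideal.mk_ker] at hx hy
    have : x * y ∈ J ^ 2 := by rw [pow_two]; exact Ideal.mul_mem_mul hx hy
    rw [hJ] at this
    exact this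
  haveI hmkloc : IsLocalHom (Ideal.Quotient.mk J) :=
    isLocalHom_of_sq_zero _ Ideal.Quotient.mk_surjective hJ2
  have hunits : ∀ y : q.primeCompl, IsUnit (g'.toRingHom y) := by
    intro y
    have h1 : IsUnit (g (y : S)) := by
      rw [hgs]
      exact (IsLocalization.map_units Bq y).map ψ
    rw [← hg's] at h1
    exact isUnit_of_map_unit (Ideal.Quotient.mk J) _ h1
  let χ₀ : Bq →+* C := IsLocalization.lift (M := q.primeCompl) hunits
  have hχ₀ : ∀ s, χ₀ (algebraMap S Bq s) = g' s := fun s => IsLocalization.lift_eq _ _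
  have hcomm : ∀ x : Ap, χ₀ (algebraMap Ap Bq x) = algebraMap Ap C x := by
    have : χ₀.comp (algebraMap Ap Bq) = algebraMap Ap C := by
      apply IsLocalization.ringHom_ext p.primeCompl
      ext r
      simp only [RingHom.comp_apply]
      rw [← IsScalarTower.algebraMap_apply R Ap Bq, IsScalarTower.algebraMap_apply R S Bq, hχ₀,
        AlgHom.commutes]
      rfl
    exact fun x => congrArg (fun f => f x) this
  let χ : Bq →ₐ[Ap] C := { χ₀ with commutes' := hcomm }
  refine ⟨χ, ?_⟩
  have : ((Ideal.Quotient.mkₐ Ap J).comp χ).toRingHom = ψ.toRingHom := by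
    apply IsLocalization.ringHom_ext q.primeCompl
    ext s
    show Ideal.Quotient.mk J (χ₀ (algebraMap S Bq s)) = ψ (algebraMap S Bq s)
    rw [hχ₀, hg's, hgs]
  ext x
  exact congrArg (fun f => f x) this

end Groth.Agent.Helper7.SmallExt
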