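import Mathlib
import Groth.Agent.Lib.Helper7.LeftInv

/-!
# Formal smoothness of localizations of a quotient of a formally smooth algebra (helper7)

EGA 0_IV 22.6.4 / 22.6.5 (discrete topologies).
-/

open TensorProduct

namespace Groth.Agent.Helper7.SmoothQuot

universe u v w

variable {A : Type u} {C : Type v} [CommRing A] [CommRing C] [Algebra A C]

theorem mk_eq_zero_iff {R : Type*} [CommRing R] {M : Type*} [AddCommGroup M] [Module R M]
    (S : Submonoid R) (m : M) (s : S) :
    LocalizedModule.mk m s = 0 ↔ ∃ t : S, t • m = 0 := by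
  rw [IsLocalizedModule.mk_eq_mk', IsLocalizedModule.mk'_eq_zero']

set_option backward.isDefEq.respectTransparency false in
/-- For an extension `P` of `C` by a formally smooth `A`-algebra, `C_p` is formally smooth over `A`
iff the localization at `p` of the cotangent complex `I/I² → C ⊗ Ω` is left invertible. -/
theorem formallySmooth_localization_iff (P : Algebra.Extension.{w} A C)
    [Algebra.FormallySmooth A P.Ring] (p : Ideal C) [p.IsPrime] :
    Algebra.FormallySmooth A (Localization.AtPrime p) ↔
      ∃ w : LocalizedModule p.primeCompl P.CotangentSpace →ₗ[C]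
          LocalizedModule p.primeCompl P.Cotangent,
        w ∘ₗ (LocalizedModule.map p.primeCompl P.cotangentComplex).restrictScalars C =
          LinearMap.id := by
  set S := p.primeCompl with hS
  set Cp := Localization.AtPrime p with hCp
  let e1 : LocalizedModule S (Algebra.H1Cotangent A C) ≃ₗ[C] Algebra.H1Cotangent A Cp :=
    IsLocalizedModule.iso S (Algebra.H1Cotangent.map A A C Cp)
  let e2 : LocalizedModule S Ω[C⁄A] ≃ₗ[Cp] Ω[Cp⁄A] :=
    (IsLocalizedModule.iso S (KaehlerDifferential.map A A C Cp)).extendScalarsOfIsLocalization S Cp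
  let e3 : P.H1Cotangent ≃ₗ[C] Algebra.H1Cotangent A C := P.equivH1CotangentOfFormallySmooth
  -- vanishing of `H¹` of the localization in terms of the kernel
  have hK : Subsingleton (Algebra.H1Cotangent A Cp) ↔
      ∀ h ∈ LinearMap.ker P.cotangentComplex, ∃ t ∈ S, t • h = 0 := by
    rw [← e1.subsingleton_congr, LocalizedModule.subsingleton_iff]
    constructor
    · intro H h hh
      obtain ⟨t, htS, ht⟩ := H (e3 ⟨h, hh⟩)
      refine ⟨t, htS, ?_⟩
      rw [← map_smul, LinearEquiv.map_eq_zero_iff] at ht
      exact congrArg Subtype.val ht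
    · intro H m
      obtain ⟨⟨h, hh⟩, rfl⟩ := e3.surjective m
      obtain ⟨t, htS, ht⟩ := H h hh
      refine ⟨t, htS, ?_⟩
      rw [← map_smul, LinearEquiv.map_eq_zero_iff]
      exact Subtype.ext ht
  have hInj : (∀ h ∈ LinearMap.ker P.cotangentComplex, ∃ t ∈ S, t • h = 0) ↔
      Function.Injective (LocalizedModule.map S P.cotangentComplex) := by
    constructor
    · intro H
      rw [injective_iff_map_eq_zero]
      intro x hx
      induction x using LocalizedModule.induction_on with | _ m s
      rw [LocalizedModule.map_mk, mk_eq_zero_iff] at hx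
      obtain ⟨t, ht⟩ := hx
      have hmem : (t : C) • m ∈ LinearMap.ker P.cotangentComplex := by
        rw [LinearMap.mem_ker, map_smul]; exact ht
      obtain ⟨t', ht'S, ht'⟩ := H _ hmem
      rw [mk_eq_zero_iff]
      exact ⟨⟨t', ht'S⟩ * t, by rw [Submonoid.smul_def, Submonoid.coe_mul, mul_smul]; exact ht'⟩
    · intro H h hh
      have : LocalizedModule.mk h (1 : S) = 0 := by
        apply H
        rw [LocalizedModule.map_mk, map_zero, LinearMap.mem_ker.1 hh, LocalizedModule.zero_mk]
      rw [mk_eq_zero_iff] at this
      obtain ⟨t, ht⟩ := this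
      exact ⟨t, t.2, ht⟩
  have hex : Function.Exact (LocalizedModule.map S P.cotangentComplex)
      (LocalizedModule.map S P.toKaehler) :=
    LocalizedModule.map_exact S _ _ P.exact_cotangentComplex_toKaehler
  have hsurj : Function.Surjective (LocalizedModule.map S P.toKaehler) :=
    LocalizedModule.map_surjective S _ P.toKaehler_surjective
  rw [Algebra.formallySmooth_iff]
  constructor
  · rintro ⟨hproj, hsub⟩
    have hproj' : Module.Projective Cp (LocalizedModule S Ω[C⁄A]) :=
      Module.Projective.of_equiv e2.symm
    have hinj := hInj.1 (hK.1 hsub)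
    obtain ⟨l, hl⟩ := Module.projective_lifting_property (LocalizedModule.map S P.toKaehler)
      LinearMap.id hsurj
    have tfae := @Function.Exact.split_tfae' (Localization S) (LocalizedModule S P.Cotangent)
      (LocalizedModule S P.CotangentSpace) (LocalizedModule S Ω[C⁄A]) _ _ _ _ _ _ _
      (LocalizedModule.map S P.cotangentComplex) (LocalizedModule.map S P.toKaehler) hex
    have h01 := tfae.out 0 1 rfl rfl
    obtain ⟨-, w, hw⟩ := h01.1 ⟨hinj, l, hl⟩
    exact ⟨w.restrictScalars C, by ext x; exact LinearMap.congr_fun hw x⟩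
  · rintro ⟨w, hw⟩
    have hw' : (w.extendScalarsOfIsLocalization S Cp) ∘ₗ
        LocalizedModule.map S P.cotangentComplex = LinearMap.id := by
      ext x
      exact LinearMap.congr_fun hw x
    have tfae := @Function.Exact.split_tfae' (Localization S) (LocalizedModule S P.Cotangent)
      (LocalizedModule S P.CotangentSpace) (LocalizedModule S Ω[C⁄A]) _ _ _ _ _ _ _
      (LocalizedModule.map S P.cotangentComplex) (LocalizedModule.map S P.toKaehler) hex
    have h10 := tfae.out 1 0 rfl rfl
    obtain ⟨hinj, l, hl⟩ := h10.1 ⟨hsurj, _, hw'⟩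
    refine ⟨?_, hK.2 (hInj.2 hinj)⟩
    have : Module.Projective Cp (LocalizedModule S Ω[C⁄A]) :=
      Module.Projective.of_split l (LocalizedModule.map S P.toKaehler) hl
    exact Module.Projective.of_equiv e2

/-- the extension and its finiteness -/
theorem setup {A B C : Type u} [CommRing A] [CommRing B] [CommRing C]
    [Algebra A B] [Algebra B C] [Algebra A C] [IsScalarTower A B C] [Algebra.FormallySmooth A B]
    (hsurj : Function.Surjective (algebraMap B C))
    [Module.Finite B (RingHom.ker (algebraMap B C)).Cotangent] :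
    ∃ P : Algebra.Extension.{u} A C, Algebra.FormallySmooth A P.Ring ∧
      Module.Finite C P.Cotangent ∧ Module.Projective C P.CotangentSpace := by
  let P : Algebra.Extension.{u} A C := ⟨B, _, Function.surjInv_eq hsurj⟩
  have h1 : Algebra.FormallySmooth A P.Ring := ‹_›
  refine ⟨P, h1, ?_, inferInstance⟩
  have h2 : Module.Finite P.Ring P.ker.Cotangent := ‹_›
  have h3 : Module.Finite P.Ring P.Cotangent :=
    Module.Finite.equiv P.cotangentEquivCotangentKer.symm
  exact Module.Finite.of_restrictScalars_finite P.Ring C P.Cotangent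

theorem iff_localization {A B C : Type u} [CommRing A] [CommRing B] [CommRing C]
    [Algebra A B] [Algebra B C] [Algebra A C] [IsScalarTower A B C] [Algebra.FormallySmooth A B]
    (hsurj : Function.Surjective (algebraMap B C))
    [Module.Finite B (RingHom.ker (algebraMap B C)).Cotangent] :
    ∃ I : Ideal C, (Algebra.FormallySmooth A C ↔ I = ⊤) ∧
      ∀ (p : Ideal C) [p.IsPrime], Algebra.FormallySmooth A (Localization.AtPrime p) ↔ ¬ I ≤ p := by
  obtain ⟨P, h1, h2, h3⟩ := setup (A := A) hsurj
  refine ⟨Groth.Agent.Helper7.LeftInv.splitIdeal P.cotangentComplex, ?_, ?_⟩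
  · rw [P.formallySmooth_iff_split_injection, ← Groth.Agent.Helper7.LeftInv.one_mem_splitIdeal_iff,
      Ideal.eq_top_iff_one]
  · intro p hp
    rw [formallySmooth_localization_iff P p,
      Groth.Agent.Helper7.LeftInv.exists_leftInverse_localized_atPrime_iff]

end Groth.Agent.Helper7.SmoothQuot
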