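import Mathlib
import Groth.Agent.Lib.Helper18.MultToGa

/-!
# Group-like elements of a group algebra (helper7)

A group-like element `x` of `B[G]` (i.e. `Δ x = x ⊗ x`, written with the diagonal and the two
inclusions `G → G × G`) has pairwise orthogonal idempotent coefficients.
-/

set_option autoImplicit false
universe u

namespace Groth.Agent.Helper7.MTRig

open Groth.Agent.Helper18.MultToGa

variable {B : Type u} [CommRing B] {G : Type} [CommGroup G]

theorem coeff_j1_mul_j2 (x y : MonoidAlgebra B G) (g h : G) :
    (MonoidAlgebra.mapDomainRingHom B (i1 (G := G)) x *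
      MonoidAlgebra.mapDomainRingHom B (i2 (G := G)) y).coeff (g, h) = x.coeff g * y.coeff h := by
  classical
  induction x using MonoidAlgebra.induction_linear with
  | zero => simp
  | add x₁ x₂ h₁ h₂ =>
    rw [map_add, add_mul, MonoidAlgebra.coeff_add, Finsupp.add_apply, h₁, h₂,
      MonoidAlgebra.coeff_add, Finsupp.add_apply, add_mul]
  | single a r =>
    induction y using MonoidAlgebra.induction_linear with
    | zero => simp
    | add y₁ y₂ h₁ h₂ =>
      rw [map_add, mul_add, MonoidAlgebra.coeff_add, Finsupp.add_apply, h₁, h₂,
        MonoidAlgebra.coeff_add, Finsupp.add_apply, mul_add]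
    | single b s =>
      show (MonoidAlgebra.mapDomain (i1 (G := G)) (MonoidAlgebra.single a r) *
        MonoidAlgebra.mapDomain (i2 (G := G)) (MonoidAlgebra.single b s)).coeff (g, h) = _
      rw [MonoidAlgebra.mapDomain_single, MonoidAlgebra.mapDomain_single,
        MonoidAlgebra.single_mul_single, MonoidAlgebra.coeff_single, MonoidAlgebra.coeff_single,
        MonoidAlgebra.coeff_single]
      have hab : (i1 (G := G)) a * (i2 (G := G)) b = (a, b) := by
        simp [i1, i2]
      rw [hab]
      by_cases h1 : a = g
      · by_cases h2 : b = h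
        · subst h1 h2
          simp
        · have : (a, b) ≠ (g, h) := fun e => h2 (Prod.ext_iff.1 e).2
          rw [Finsupp.single_apply, if_neg this, Finsupp.single_apply (a := b), if_neg h2, mul_zero]
      · have : (a, b) ≠ (g, h) := fun e => h1 (Prod.ext_iff.1 e).1
        rw [Finsupp.single_apply, if_neg this, Finsupp.single_apply (a := a), if_neg h1, zero_mul]

open Classical in
theorem coeff_d (x : MonoidAlgebra B G) (g h : G) :
    (MonoidAlgebra.mapDomainRingHom B (dG (G := G)) x).coeff (g, h) =
      if g = h then x.coeff g else 0 := by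
  classical
  have hd : Function.Injective (dG (G := G)) := fun a b hab => (Prod.ext_iff.1 hab).1
  show (Finsupp.mapDomain (dG (G := G)) x.coeff) (g, h) = _
  by_cases hgh : g = h
  · subst hgh
    rw [if_pos rfl]
    exact Finsupp.mapDomain_apply hd x.coeff g
  · rw [if_neg hgh]
    apply Finsupp.mapDomain_notin_range
    rintro ⟨a, ha⟩
    exact hgh ((Prod.ext_iff.1 ha).1.symm.trans (Prod.ext_iff.1 ha).2)

open Classical in
/-- the coefficients of a group-like element are orthogonal idempotents -/
theorem coeff_mul_coeff_of_groupLike (x : MonoidAlgebra B G)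
    (hx : MonoidAlgebra.mapDomainRingHom B (dG (G := G)) x =
      MonoidAlgebra.mapDomainRingHom B (i1 (G := G)) x *
        MonoidAlgebra.mapDomainRingHom B (i2 (G := G)) x) (g h : G) :
    x.coeff g * x.coeff h = if g = h then x.coeff g else 0 := by
  rw [← coeff_j1_mul_j2, ← hx, coeff_d]

/-- evaluation of an element of the group algebra at a character, as a sum -/
theorem lift_apply_eq_sum (x : MonoidAlgebra B G) (ψ : G →* B) :
    MonoidAlgebra.lift B B G ψ x = x.coeff.sum fun g b => b * ψ g := by
  rw [MonoidAlgebra.lift_apply]
  rfl

end Groth.Agent.Helper7.MTRig
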