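import Mathlib
import Groth.Agent.Lib.Helper18.MultToGa
import Groth.Agent.Lib.Helper7.MTRigA

/-!
# Families of endomorphisms of a diagonalisable group (helper7)

For `c : P ⊗ D_U(M) ⟶ D_U(M)` multiplicative in the second variable we attach to every affine
point `t` of `P` over `Spec B` and every `m` a group-like element `X c τ t m` of `B[M]`
describing `ψ ↦ χ_m (c (t, ψ))`.
-/

set_option autoImplicit false
universe u
open CategoryTheory CategoryTheory.Limits MonoidalCategory CartesianMonoidalCategory MonObj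
  AlgebraicGeometry

noncomputable section

namespace Groth.Agent.Helper7.MTRig

open Groth.Agent.Helper18 Groth.Agent.Helper18.MultToGa

variable {U : Scheme.{u}} {M : Type} [AddCommGroup M] {P : Over U}
  (c : P ⊗ Red.DS U M ⟶ Red.DS U M)

/-- the character `m ↦ χ_m (c (t, ψ))` with values in `B` -/
def Phi {B : CommRingCat.{u}} (τ : Spec B ⟶ U) (t : Over.mk τ ⟶ P)
    (ψ : Multiplicative M →* B) : Multiplicative M →* B :=
  ((Scheme.ΓSpecIso B).hom.hom : Γ(Spec B, ⊤) →* B).comp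
    (DSPts.charOfPt (lift t (pt τ ψ) ≫ c))

theorem Phi_nat {B B' : CommRingCat.{u}} (h : B ⟶ B') (τ : Spec B ⟶ U) (τ' : Spec B' ⟶ U)
    (t : Over.mk τ ⟶ P) (t' : Over.mk τ' ⟶ P) (hτ : τ' = Spec.map h ≫ τ)
    (ht : t'.left = Spec.map h ≫ t.left) (ψ : Multiplicative M →* B) :
    Phi c τ' t' ((h.hom : B →* B').comp ψ) = (h.hom : B →* B').comp (Phi c τ t ψ) := by
  subst hτ
  have ht' : t' = (Over.homMk (Spec.map h) rfl : Over.mk (Spec.map h ≫ τ) ⟶ Over.mk τ) ≫ t := by
    apply Over.OverMorphism.ext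
    rw [ht]
    rfl
  subst ht'
  unfold Phi
  rw [← pt_comp, ← comp_lift, Category.assoc, DSPts.charOfPt_comp]
  ext m
  exact congrArg (fun k => k.hom (DSPts.charOfPt (lift t (pt τ ψ) ≫ c) m))
    (Scheme.ΓSpecIso_naturality h)

variable (hmul : ∀ (T : Over U) (k : T ⟶ P) (h h' : T ⟶ Red.DS U M),
  lift k (h * h') ≫ c = (lift k h ≫ c) * (lift k h' ≫ c))

include hmul in
theorem Phi_mul {B : CommRingCat.{u}} (τ : Spec B ⟶ U) (t : Over.mk τ ⟶ P)
    (ψ ψ' : Multiplicative M →* B) : Phi c τ t (ψ * ψ') = Phi c τ t ψ * Phi c τ t ψ' := by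
  unfold Phi
  have : pt τ (ψ * ψ') = pt τ ψ * pt τ ψ' := by
    unfold pt
    rw [← DSPts.ptOfChar_mul, MonoidHom.comp_mul]
  rw [this, hmul, DSPts.charOfPt_mul, MonoidHom.comp_mul]

include hmul in
theorem Phi_one {B : CommRingCat.{u}} (τ : Spec B ⟶ U) (t : Over.mk τ ⟶ P) :
    Phi c τ t 1 = 1 := by
  have h1 := Phi_mul c hmul τ t 1 1
  rw [_root_.mul_one] at h1
  apply MonoidHom.ext
  intro m
  have h2 := congrArg (fun f => f m) h1
  simp only [MonoidHom.mul_apply] at h2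
  have hu : IsUnit (Phi c τ t 1 m) := by
    refine ⟨⟨Phi c τ t 1 m, Phi c τ t 1 m⁻¹, ?_, ?_⟩, rfl⟩
    · rw [← map_mul, mul_inv_cancel, map_one]
    · rw [← map_mul, inv_mul_cancel, map_one]
  rw [MonoidHom.one_apply]
  have h3 : Phi c τ t 1 m * Phi c τ t 1 m = Phi c τ t 1 m * 1 := by
    rw [_root_.mul_one]; exact h2.symm
  exact hu.mul_left_cancel h3

theorem Phi_of_unit (σ : 𝟙_ (Over U) ⟶ P)
    (hunit : ∀ (T : Over U) (h : T ⟶ Red.DS U M), lift (toUnit T ≫ σ) h ≫ c = h)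
    {B : CommRingCat.{u}} (τ : Spec B ⟶ U) (t : Over.mk τ ⟶ P)
    (ht : t = toUnit (Over.mk τ) ≫ σ) (ψ : Multiplicative M →* B) : Phi c τ t ψ = ψ := by
  unfold Phi
  rw [ht, hunit]
  unfold pt
  rw [DSPts.charOfPt_ptOfChar]
  ext m
  show (Scheme.ΓSpecIso B).hom.hom ((Scheme.ΓSpecIso B).inv.hom (ψ m)) = ψ m
  exact congrArg (fun k => k.hom (ψ m)) (Scheme.ΓSpecIso B).inv_hom_id

/-! ### The universal character -/

/-- the inclusion `B → B[G]` -/
def ιA (B : CommRingCat.{u}) (G : Type) [CommGroup G] : B ⟶ CommRingCat.of (MonoidAlgebra B G) :=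
  CommRingCat.ofHom MonoidAlgebra.singleOneRingHom

/-- the group-like element attached to a point of `P` and `m` -/
def X {B : CommRingCat.{u}} (τ : Spec B ⟶ U) (t : Over.mk τ ⟶ P) (m : Multiplicative M) :
    MonoidAlgebra B (Multiplicative M) :=
  Phi c (Spec.map (ιA B (Multiplicative M)) ≫ τ)
    ((Over.homMk (Spec.map (ιA B (Multiplicative M))) rfl :
      Over.mk (Spec.map (ιA B (Multiplicative M)) ≫ τ) ⟶ Over.mk τ) ≫ t)
    (MonoidAlgebra.of B (Multiplicative M)) m

theorem X_eval {B : CommRingCat.{u}} (τ : Spec B ⟶ U) (t : Over.mk τ ⟶ P)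
    (ψ : Multiplicative M →* B) (m : Multiplicative M) :
    Phi c τ t ψ m = MonoidAlgebra.lift B B (Multiplicative M) ψ (X c τ t m) := by
  let G := Multiplicative M
  let ev : CommRingCat.of (MonoidAlgebra B G) ⟶ B :=
    CommRingCat.ofHom (MonoidAlgebra.lift B B G ψ).toRingHom
  have hev : ιA B G ≫ ev = 𝟙 B := by
    apply CommRingCat.hom_ext
    apply RingHom.ext
    intro b
    show MonoidAlgebra.lift B B G ψ (MonoidAlgebra.single 1 b) = b
    rw [MonoidAlgebra.lift_single, map_one, smul_eq_mul, _root_.mul_one]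
  have hτ : τ = Spec.map ev ≫ Spec.map (ιA B G) ≫ τ := by
    rw [← Spec.map_comp_assoc, hev, Spec.map_id, Category.id_comp]
  have ht : t.left = Spec.map ev ≫ ((Over.homMk (Spec.map (ιA B G)) rfl :
      Over.mk (Spec.map (ιA B G) ≫ τ) ⟶ Over.mk τ) ≫ t).left := by
    show t.left = Spec.map ev ≫ Spec.map (ιA B G) ≫ t.left
    rw [← Spec.map_comp_assoc, hev, Spec.map_id, Category.id_comp]
  have e3 := Phi_nat c ev (Spec.map (ιA B G) ≫ τ) τ _ t hτ ht (MonoidAlgebra.of B G)
  have hψ : (ev.hom : MonoidAlgebra B G →* B).comp (MonoidAlgebra.of B G) = ψ := by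
    apply MonoidHom.ext
    intro g
    show MonoidAlgebra.lift B B G ψ (MonoidAlgebra.of B G g) = ψ g
    rw [MonoidAlgebra.lift_of]
  rw [hψ] at e3
  rw [e3]
  rfl

theorem X_nat {B B' : CommRingCat.{u}} (h : B ⟶ B') (τ : Spec B ⟶ U) (τ' : Spec B' ⟶ U)
    (t : Over.mk τ ⟶ P) (t' : Over.mk τ' ⟶ P) (hτ : τ' = Spec.map h ≫ τ)
    (ht : t'.left = Spec.map h ≫ t.left) (m : Multiplicative M) :
    X c τ' t' m = MonoidAlgebra.mapRingHom (Multiplicative M) h.hom (X c τ t m) := by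
  let G := Multiplicative M
  let H : CommRingCat.of (MonoidAlgebra B G) ⟶ CommRingCat.of (MonoidAlgebra B' G) :=
    CommRingCat.ofHom (MonoidAlgebra.mapRingHom G h.hom)
  have hH : ιA B G ≫ H = h ≫ ιA B' G := by
    apply CommRingCat.hom_ext
    apply RingHom.ext
    intro b
    show MonoidAlgebra.mapRingHom G h.hom (MonoidAlgebra.single 1 b) =
      MonoidAlgebra.single 1 (h.hom b)
    simp
  have hτ2 : Spec.map (ιA B' G) ≫ τ' = Spec.map H ≫ Spec.map (ιA B G) ≫ τ := by
    rw [hτ, ← Spec.map_comp_assoc, ← Spec.map_comp_assoc, hH]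
  have ht2 : ((Over.homMk (Spec.map (ιA B' G)) rfl :
      Over.mk (Spec.map (ιA B' G) ≫ τ') ⟶ Over.mk τ') ≫ t').left =
      Spec.map H ≫ ((Over.homMk (Spec.map (ιA B G)) rfl :
        Over.mk (Spec.map (ιA B G) ≫ τ) ⟶ Over.mk τ) ≫ t).left := by
    show Spec.map (ιA B' G) ≫ t'.left = Spec.map H ≫ Spec.map (ιA B G) ≫ t.left
    rw [ht, ← Spec.map_comp_assoc, ← Spec.map_comp_assoc, hH]
  have e := Phi_nat c H _ _ _ _ hτ2 ht2 (MonoidAlgebra.of B G)
  have hof : (H.hom : MonoidAlgebra B G →* MonoidAlgebra B' G).comp (MonoidAlgebra.of B G) =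
      MonoidAlgebra.of B' G := by
    apply MonoidHom.ext
    intro g
    show MonoidAlgebra.mapRingHom G h.hom (MonoidAlgebra.single g 1) = MonoidAlgebra.single g 1
    simp
  rw [hof] at e
  exact congrArg (fun f => f m) e

include hmul in
theorem X_groupLike {B : CommRingCat.{u}} (τ : Spec B ⟶ U) (t : Over.mk τ ⟶ P)
    (m : Multiplicative M) :
    MonoidAlgebra.mapDomainRingHom B (dG (G := Multiplicative M)) (X c τ t m) =
      MonoidAlgebra.mapDomainRingHom B (i1 (G := Multiplicative M)) (X c τ t m) *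
        MonoidAlgebra.mapDomainRingHom B (i2 (G := Multiplicative M)) (X c τ t m) := by
  let G := Multiplicative M
  let A : CommRingCat.{u} := CommRingCat.of (MonoidAlgebra B G)
  let A₂ : CommRingCat.{u} := CommRingCat.of (MonoidAlgebra B (G × G))
  let ιA₂ : B ⟶ A₂ := CommRingCat.ofHom (MonoidAlgebra.singleOneRingHom)
  let ofA : G →* A := MonoidAlgebra.of B G
  let d : A ⟶ A₂ := CommRingCat.ofHom (MonoidAlgebra.mapDomainRingHom B (dG (G := G)))
  let j1 : A ⟶ A₂ := CommRingCat.ofHom (MonoidAlgebra.mapDomainRingHom B (i1 (G := G)))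
  let j2 : A ⟶ A₂ := CommRingCat.ofHom (MonoidAlgebra.mapDomainRingHom B (i2 (G := G)))
  have hι : ∀ f : G →* G × G,
      ιA B G ≫ CommRingCat.ofHom (MonoidAlgebra.mapDomainRingHom B f) = ιA₂ := by
    intro f
    apply CommRingCat.hom_ext
    apply RingHom.ext
    intro b
    show MonoidAlgebra.mapDomain f (MonoidAlgebra.single 1 b) = MonoidAlgebra.single 1 b
    rw [MonoidAlgebra.mapDomain_single, map_one]
  let t₁ : Over.mk (Spec.map (ιA B G) ≫ τ) ⟶ P :=
    (Over.homMk (Spec.map (ιA B G)) rfl : Over.mk (Spec.map (ιA B G) ≫ τ) ⟶ Over.mk τ) ≫ t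
  let t₂ : Over.mk (Spec.map ιA₂ ≫ τ) ⟶ P :=
    (Over.homMk (Spec.map ιA₂) rfl : Over.mk (Spec.map ιA₂ ≫ τ) ⟶ Over.mk τ) ≫ t
  have hτ : ∀ f : G →* G × G, Spec.map ιA₂ ≫ τ =
      Spec.map (CommRingCat.ofHom (MonoidAlgebra.mapDomainRingHom B f)) ≫
        Spec.map (ιA B G) ≫ τ := by
    intro f
    rw [← Spec.map_comp_assoc, hι f]
  have ht : ∀ f : G →* G × G, t₂.left =
      Spec.map (CommRingCat.ofHom (MonoidAlgebra.mapDomainRingHom B f)) ≫ t₁.left := by
    intro f
    show Spec.map ιA₂ ≫ t.left = _ ≫ Spec.map (ιA B G) ≫ t.left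
    rw [← Spec.map_comp_assoc, hι f]
  have e0 := Phi_nat c d _ _ t₁ t₂ (hτ _) (ht _) ofA
  have e1 := Phi_nat c j1 _ _ t₁ t₂ (hτ _) (ht _) ofA
  have e2 := Phi_nat c j2 _ _ t₁ t₂ (hτ _) (ht _) ofA
  have hm : (d.hom : A →* A₂).comp ofA =
      (j1.hom : A →* A₂).comp ofA * (j2.hom : A →* A₂).comp ofA := by
    apply MonoidHom.ext
    intro g
    show MonoidAlgebra.mapDomain (dG (G := G))
        (MonoidAlgebra.single g (1 : B) : MonoidAlgebra B G) =
      MonoidAlgebra.mapDomain (i1 (G := G)) (MonoidAlgebra.single g (1 : B) : MonoidAlgebra B G) *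
        MonoidAlgebra.mapDomain (i2 (G := G))
          (MonoidAlgebra.single g (1 : B) : MonoidAlgebra B G)
    rw [MonoidAlgebra.mapDomain_single, MonoidAlgebra.mapDomain_single,
      MonoidAlgebra.mapDomain_single, MonoidAlgebra.single_mul_single, dG_eq, _root_.mul_one]
  rw [hm, Phi_mul c hmul, e1, e2] at e0
  exact (congrArg (fun f => f m) e0).symm

include hmul in
open Classical in
/-- coefficients of `X` are orthogonal idempotents -/
theorem X_coeff_mul {B : CommRingCat.{u}} (τ : Spec B ⟶ U) (t : Over.mk τ ⟶ P)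
    (m g h : Multiplicative M) :
    (X c τ t m).coeff g * (X c τ t m).coeff h = if g = h then (X c τ t m).coeff g else 0 :=
  coeff_mul_coeff_of_groupLike _ (X_groupLike c hmul τ t m) g h

include hmul in
/-- if the coefficient of `X c τ t m` at `m` is one then `χ_m (c (t, ψ)) = ψ m` -/
theorem Phi_apply_of_coeff_eq_one {B : CommRingCat.{u}} (τ : Spec B ⟶ U) (t : Over.mk τ ⟶ P)
    (m : Multiplicative M) (h1 : (X c τ t m).coeff m = 1) (ψ : Multiplicative M →* B) :
    Phi c τ t ψ m = ψ m := by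
  classical
  have hX : X c τ t m = MonoidAlgebra.single m 1 := by
    apply MonoidAlgebra.coeff_injective
    ext g
    rw [MonoidAlgebra.coeff_single, Finsupp.single_apply]
    by_cases hg : m = g
    · subst hg
      rw [if_pos rfl, h1]
    · rw [if_neg hg]
      have := X_coeff_mul c hmul τ t m g m
      rw [h1, _root_.mul_one, if_neg (fun e : g = m => hg e.symm)] at this
      exact this
  rw [X_eval, hX, MonoidAlgebra.lift_single, one_smul]

end Groth.Agent.Helper7.MTRig
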