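import Mathlib
import Groth.Agent.Lib.Helper7.MTRigB

/-!
# Rigidity of diagonalisable groups (helper7)

A family `c : P ⊗ D_U(M) ⟶ D_U(M)` of endomorphisms of `D_U(M)` parametrised by a `U`-scheme `P`
with geometrically connected fibres, which is the identity along a section of `P`, is the second
projection.
-/

set_option autoImplicit false
universe u
open CategoryTheory CategoryTheory.Limits MonoidalCategory CartesianMonoidalCategory MonObj
  AlgebraicGeometry

noncomputable section

namespace Groth.Agent.Helper7.MTRig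

open Groth.Agent.Helper18 Groth.Agent.Helper18.MultToGa

variable {U : Scheme.{u}} {M : Type} [AddCommGroup M] {P : Over U}
  (c : P ⊗ Red.DS U M ⟶ Red.DS U M)

theorem X_congr {B : CommRingCat.{u}} (τ τ' : Spec B ⟶ U) (t : Over.mk τ ⟶ P)
    (t' : Over.mk τ' ⟶ P) (hτ : τ' = τ) (ht : t'.left = t.left) (m : Multiplicative M) :
    X c τ' t' m = X c τ t m := by
  subst hτ
  have : t' = t := Over.OverMorphism.ext ht
  subst this
  rfl

/-- the canonical point of `P` at `p` -/
def tPt (p : P.left) : Over.mk (P.left.fromSpecResidueField p ≫ P.hom) ⟶ P :=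
  Over.homMk (P.left.fromSpecResidueField p) rfl

/-- the locus where the coefficient of `X` at `m` is nonzero -/
def Zset (m : Multiplicative M) : Set P.left :=
  {p | (X c (P.left.fromSpecResidueField p ≫ P.hom) (tPt p) m).coeff m ≠ 0}

theorem mem_Zset_iff {B : CommRingCat.{u}} (τ : Spec B ⟶ U) (t : Over.mk τ ⟶ P)
    (m : Multiplicative M) (y : Spec B) :
    t.left y ∈ Zset c m ↔ (X c τ t m).coeff m ∉ y.asIdeal := by
  let κ : CommRingCat.{u} := CommRingCat.of y.asIdeal.ResidueField
  let h : B ⟶ κ := CommRingCat.ofHom (algebraMap B y.asIdeal.ResidueField)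
  let p : P.left := t.left y
  let φ : P.left.residueField p ⟶ κ :=
    t.left.residueFieldMap y ≫ (Scheme.Spec.residueFieldIso B y).hom
  have r1 : Spec.map (t.left.residueFieldMap y) ≫ P.left.fromSpecResidueField p =
      (Spec B).fromSpecResidueField y ≫ t.left :=
    Scheme.Hom.SpecMap_residueFieldMap_fromSpecResidueField (f := t.left) y
  have r2 : Spec.map (Scheme.Spec.residueFieldIso B y).inv ≫ Spec.map h =
      (Spec B).fromSpecResidueField y :=
    Scheme.Spec.map_residueFieldIso_inv_eq_fromSpecResidueField B y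
  have e2 : Spec.map h ≫ t.left = Spec.map φ ≫ P.left.fromSpecResidueField p := by
    calc Spec.map h ≫ t.left
        = (Spec.map (Scheme.Spec.residueFieldIso B y).hom ≫
            Spec.map (Scheme.Spec.residueFieldIso B y).inv) ≫ Spec.map h ≫ t.left := by
          rw [← Spec.map_comp, Iso.inv_hom_id, Spec.map_id, Category.id_comp]
      _ = Spec.map (Scheme.Spec.residueFieldIso B y).hom ≫
            (Spec.map (Scheme.Spec.residueFieldIso B y).inv ≫ Spec.map h) ≫ t.left := by
          simp only [Category.assoc]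
      _ = Spec.map (Scheme.Spec.residueFieldIso B y).hom ≫
            Spec.map (t.left.residueFieldMap y) ≫ P.left.fromSpecResidueField p := by
          rw [r2, r1]
      _ = Spec.map φ ≫ P.left.fromSpecResidueField p := by
          rw [← Category.assoc, ← Spec.map_comp]
  let t₁ : Over.mk (Spec.map h ≫ τ) ⟶ P :=
    (Over.homMk (Spec.map h) rfl : Over.mk (Spec.map h ≫ τ) ⟶ Over.mk τ) ≫ t
  have e1 := X_nat c h τ (Spec.map h ≫ τ) t t₁ rfl rfl m
  have hτ3 : Spec.map h ≫ τ = Spec.map φ ≫ P.left.fromSpecResidueField p ≫ P.hom := by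
    rw [← Category.assoc, ← e2, Category.assoc, Over.w t]
    rfl
  have e3 := X_nat c φ (P.left.fromSpecResidueField p ≫ P.hom) (Spec.map h ≫ τ) (tPt p) t₁
    hτ3 e2 m
  have e4 : h.hom ((X c τ t m).coeff m) = φ.hom ((X c _ (tPt p) m).coeff m) := by
    rw [← MonoidAlgebra.coeff_mapRingHom, ← MonoidAlgebra.coeff_mapRingHom, ← e1, ← e3]
  have hφ : Function.Injective φ.hom := RingHom.injective φ.hom
  show (X c _ (tPt p) m).coeff m ≠ 0 ↔ _
  rw [← (map_ne_zero_iff φ.hom hφ), ← e4]
  show algebraMap B y.asIdeal.ResidueField _ ≠ 0 ↔ _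
  rw [Ne, Ideal.algebraMap_residueField_eq_zero]

variable (hmul : ∀ (T : Over U) (k : T ⟶ P) (h h' : T ⟶ Red.DS U M),
  lift k (h * h') ≫ c = (lift k h ≫ c) * (lift k h' ≫ c))

include hmul in
theorem X_coeff_idem {B : CommRingCat.{u}} (τ : Spec B ⟶ U) (t : Over.mk τ ⟶ P)
    (m : Multiplicative M) :
    (X c τ t m).coeff m * (X c τ t m).coeff m = (X c τ t m).coeff m := by
  classical
  have := X_coeff_mul c hmul τ t m m m
  rw [if_pos rfl] at this
  exact this

include hmul in
theorem mem_Zset_compl_iff {B : CommRingCat.{u}} (τ : Spec B ⟶ U) (t : Over.mk τ ⟶ P)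
    (m : Multiplicative M) (y : Spec B) :
    t.left y ∉ Zset c m ↔ (1 - (X c τ t m).coeff m) ∉ y.asIdeal := by
  rw [mem_Zset_iff, not_not]
  have hprime : y.asIdeal.IsPrime := y.isPrime
  have h0 : (X c τ t m).coeff m * (1 - (X c τ t m).coeff m) = 0 := by
    rw [mul_sub, _root_.mul_one, X_coeff_idem c hmul, sub_self]
  constructor
  · intro h1 h2
    have : (1 : B) ∈ y.asIdeal := by
      have := y.asIdeal.add_mem h1 h2
      rwa [add_sub_cancel] at this
    exact hprime.ne_top ((Ideal.eq_top_iff_one _).2 this)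
  · intro h1
    have : (X c τ t m).coeff m * (1 - (X c τ t m).coeff m) ∈ y.asIdeal := by
      rw [h0]; exact y.asIdeal.zero_mem
    exact (hprime.mem_or_mem this).resolve_right h1

theorem isOpen_of_forall_affine (Z : Set P.left)
    (f : ∀ (W : P.left.Opens) (_ : IsAffineOpen W), Γ(P.left, W))
    (hf : ∀ (W : P.left.Opens) (hW : IsAffineOpen W) (y : Spec Γ(P.left, W)),
      hW.fromSpec y ∈ Z ↔ f W hW ∉ y.asIdeal) : IsOpen Z := by
  rw [isOpen_iff_forall_mem_open]
  intro p hp
  obtain ⟨W, hW, hpW⟩ : ∃ W : P.left.Opens, IsAffineOpen W ∧ p ∈ W := by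
    obtain ⟨W, hW, hpW, -⟩ := exists_isAffineOpen_mem_and_subset (x := p) (U := ⊤) trivial
    exact ⟨W, hW, hpW⟩
  refine ⟨hW.fromSpec '' {y : Spec Γ(P.left, W) | f W hW ∉ y.asIdeal}, ?_, ?_, ?_⟩
  · rintro _ ⟨y, hy, rfl⟩
    exact (hf W hW y).2 hy
  · apply hW.fromSpec.isOpenEmbedding.isOpenMap
    exact (PrimeSpectrum.basicOpen (f W hW)).isOpen
  · have : p ∈ Set.range hW.fromSpec := by rw [hW.range_fromSpec]; exact hpW
    obtain ⟨y, rfl⟩ := this
    exact ⟨y, (hf W hW y).1 hp, rfl⟩

include hmul in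
theorem isClopen_Zset (m : Multiplicative M) : IsClopen (Zset c m) := by
  constructor
  · rw [← isOpen_compl_iff]
    apply isOpen_of_forall_affine (Zset c m)ᶜ (fun W hW =>
      1 - (X c (hW.fromSpec ≫ P.hom) (Over.homMk hW.fromSpec rfl) m).coeff m)
    intro W hW y
    exact mem_Zset_compl_iff c hmul (hW.fromSpec ≫ P.hom) (Over.homMk hW.fromSpec rfl) m y
  · apply isOpen_of_forall_affine (Zset c m) (fun W hW =>
      (X c (hW.fromSpec ≫ P.hom) (Over.homMk hW.fromSpec rfl) m).coeff m)
    intro W hW y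
    exact mem_Zset_iff c (hW.fromSpec ≫ P.hom) (Over.homMk hW.fromSpec rfl) m y

variable (σ : 𝟙_ (Over U) ⟶ P)
  (hunit : ∀ (T : Over U) (h : T ⟶ Red.DS U M), lift (toUnit T ≫ σ) h ≫ c = h)

include hunit in
theorem section_mem_Zset (m : Multiplicative M) (u : U) : σ.left u ∈ Zset c m := by
  let τ : Spec (U.residueField u) ⟶ U := U.fromSpecResidueField u
  let t : Over.mk τ ⟶ P := toUnit (Over.mk τ) ≫ σ
  have hX : X c τ t m = MonoidAlgebra.single m 1 := by
    unfold X
    rw [Phi_of_unit c σ hunit _ _ ?_]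
    · rfl
    · rw [← Category.assoc]
      congr 1
  let y : Spec (U.residueField u) := default
  have h1 : t.left y ∈ Zset c m := by
    rw [mem_Zset_iff c τ t m y, hX, MonoidAlgebra.coeff_single, Finsupp.single_eq_same]
    exact fun h => y.isPrime.ne_top ((Ideal.eq_top_iff_one _).2 h)
  have hty : t.left y = σ.left u := by
    have h2 : t.left = τ ≫ σ.left := by
      show (toUnit (Over.mk τ) ≫ σ).left = _
      rw [Over.comp_left, Over.toUnit_left]
      rfl
    rw [h2, Scheme.Hom.comp_apply]
    congr 1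
    exact Scheme.fromSpecResidueField_apply u y
  rwa [hty] at h1

include hmul hunit in
theorem Zset_eq_univ [GeometricallyConnected P.hom] (m : Multiplicative M) :
    Zset c m = Set.univ := by
  rw [Set.eq_univ_iff_forall]
  intro p
  have hconn := Scheme.Hom.isConnected_preimage_singleton (f := P.hom) (P.hom p)
  have hσ : P.hom (σ.left (P.hom p)) = P.hom p := by
    have h1 : σ.left ≫ P.hom = 𝟙 U := Over.w σ
    rw [← Scheme.Hom.comp_apply, h1]
    rfl
  have hsub := hconn.isPreconnected.subset_isClopen (isClopen_Zset c hmul m)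
    ⟨σ.left (P.hom p), hσ, section_mem_Zset c σ hunit m (P.hom p)⟩
  exact hsub rfl

include hmul hunit in
theorem coeff_eq_one [GeometricallyConnected P.hom] {B : CommRingCat.{u}} (τ : Spec B ⟶ U)
    (t : Over.mk τ ⟶ P) (m : Multiplicative M) : (X c τ t m).coeff m = 1 := by
  have hu : IsUnit ((X c τ t m).coeff m) := by
    by_contra hnu
    obtain ⟨I, hI, hmem⟩ := exists_max_ideal_of_mem_nonunits hnu
    let y : Spec B := ⟨I, hI.isPrime⟩
    have h1 : t.left y ∈ Zset c m := by
      rw [Zset_eq_univ c hmul σ hunit m]; trivial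
    exact (mem_Zset_iff c τ t m y).1 h1 hmem
  have h2 := X_coeff_idem c hmul τ t m
  exact hu.mul_left_cancel (by rw [h2, _root_.mul_one])

include hmul hunit in
/-- **Rigidity**: a family of endomorphisms of `D_U(M)` parametrised by `P` with geometrically
connected fibres, trivial along a section, is trivial. -/
theorem eq_snd [GeometricallyConnected P.hom] : c = snd P (Red.DS U M) := by
  have key : ∀ {B : CommRingCat.{u}} (τ : Spec B ⟶ U) (q : Over.mk τ ⟶ P ⊗ Red.DS U M),
      q ≫ c = q ≫ snd _ _ := by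
    intro B τ q
    let t : Over.mk τ ⟶ P := q ≫ fst _ _
    let hq : Over.mk τ ⟶ Red.DS U M := q ≫ snd _ _
    let ψ : Multiplicative M →* B :=
      ((Scheme.ΓSpecIso B).hom.hom : Γ(Spec B, ⊤) →* B).comp (DSPts.charOfPt hq)
    have hpt : pt τ ψ = hq := by
      unfold pt
      have : ((Scheme.ΓSpecIso B).inv.hom : B →* Γ(Spec B, ⊤)).comp ψ = DSPts.charOfPt hq := by
        apply MonoidHom.ext
        intro m
        show (Scheme.ΓSpecIso B).inv.hom ((Scheme.ΓSpecIso B).hom.hom (DSPts.charOfPt hq m)) = _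
        exact congrArg (fun k => k.hom (DSPts.charOfPt hq m)) (Scheme.ΓSpecIso B).hom_inv_id
      rw [this, DSPts.ptOfChar_charOfPt]
    have hq' : q = lift t (pt τ ψ) := by
      rw [hpt]
      apply CartesianMonoidalCategory.hom_ext
      · rw [lift_fst]
      · rw [lift_snd]
    have hinj : Function.Injective (Scheme.ΓSpecIso B).hom.hom := by
      intro a b hab
      have := congrArg (Scheme.ΓSpecIso B).inv.hom hab
      have ha := congrArg (fun k => k.hom a) (Scheme.ΓSpecIso B).hom_inv_id
      have hb := congrArg (fun k => k.hom b) (Scheme.ΓSpecIso B).hom_inv_id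
      simp only [CommRingCat.hom_comp, RingHom.comp_apply, CommRingCat.hom_id, RingHom.id_apply]
        at ha hb
      rw [← ha, ← hb]
      exact this
    apply DSPts.charOfPt_injective
    apply MonoidHom.ext
    intro m
    apply hinj
    have h1 := Phi_apply_of_coeff_eq_one c hmul τ t m (coeff_eq_one c hmul σ hunit τ t m) ψ
    unfold Phi at h1
    rw [← hq'] at h1
    exact h1
  apply Over.OverMorphism.ext
  apply Scheme.Cover.hom_ext (P ⊗ Red.DS U M).left.affineOpenCover.openCover
  intro i
  have := key ((P ⊗ Red.DS U M).left.affineOpenCover.openCover.f i ≫ (P ⊗ Red.DS U M).hom)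
    (Over.homMk ((P ⊗ Red.DS U M).left.affineOpenCover.openCover.f i) rfl)
  exact congrArg (fun k => k.left) this

end Groth.Agent.Helper7.MTRig
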