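import Mathlib
import Groth.Agent.Lib.Helper7.MTRigC
import Groth.Agent.Lib.Helper18.BcPts
import Groth.Prelude.Def_SGA3x

/-!
# Rigidity of groups of multiplicative type (helper7)

`eq_snd_of_isMultTypeFT`: over any base `S`, a family `c : K ⊗ H ⟶ H` of endomorphisms of a group
`H` of multiplicative type (of finite type) parametrised by `K` with geometrically connected
fibres, trivial along a section of `K`, is the second projection.
-/

set_option autoImplicit false
set_option linter.style.haveILetI false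
universe u
open CategoryTheory CategoryTheory.Limits MonoidalCategory CartesianMonoidalCategory MonObj
  AlgebraicGeometry

noncomputable section

namespace Groth.Agent.Helper7.MTRig

open Groth.Agent.Helper18

section UpDn

variable {S U : Scheme.{u}} (g : U ⟶ S) (G : Over S)

/-- the `U`-point of the base change attached to an `S`-point -/
def up {T : Over U} (b : (Over.map g).obj T ⟶ G) : T ⟶ Red.bc g G :=
  Over.homMk (pullback.lift b.left T.hom (Over.w b)) (pullback.lift_snd _ _ _)

theorem dn_up {T : Over U} (b : (Over.map g).obj T ⟶ G) : BcPts.dn g G (up g G b) = b := by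
  apply Over.OverMorphism.ext
  rw [BcPts.dn_left]
  exact pullback.lift_fst _ _ _

theorem dn_injective {T : Over U} : Function.Injective (BcPts.dn g G (T := T)) := by
  intro a b hab
  apply Over.OverMorphism.ext
  apply pullback.hom_ext
  · have := congrArg (fun k => k.left) hab
    simpa [BcPts.dn_left] using this
  · have ha := Over.w a
    have hb := Over.w b
    change a.left ≫ pullback.snd G.hom g = T.hom at ha
    change b.left ≫ pullback.snd G.hom g = T.hom at hb
    rw [ha, hb]

theorem up_dn {T : Over U} (a : T ⟶ Red.bc g G) : up g G (BcPts.dn g G a) = a :=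
  dn_injective g G (dn_up g G _)

theorem up_comp {T T' : Over U} (c : T' ⟶ T) (b : (Over.map g).obj T ⟶ G) :
    c ≫ up g G b = up g G ((Over.map g).map c ≫ b) := by
  apply dn_injective g G
  rw [BcPts.dn_comp, dn_up, dn_up]

variable [GrpObj G]

theorem up_mul {T : Over U} (a b : (Over.map g).obj T ⟶ G) :
    up g G (a * b) = up g G a * up g G b := by
  apply dn_injective g G
  rw [BcPts.dn_mul, dn_up, dn_up, dn_up]

end UpDn

section Main

variable {S : Scheme.{u}} {K H : Over S} [GrpObj H] (c : K ⊗ H ⟶ H)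

section Local

variable {U : Scheme.{u}} (g : U ⟶ S) {M : Type} [AddCommGroup M]
  (φ : Red.bc g H ⟶ Red.DS U M) (φ' : Red.DS U M ⟶ Red.bc g H)

/-- the base-changed family, transported to `D_U(M)` -/
def cU : Red.bc g K ⊗ Red.DS U M ⟶ Red.DS U M :=
  up g H (lift (BcPts.dn g K (fst (Red.bc g K) (Red.DS U M)))
    (BcPts.dn g H (snd (Red.bc g K) (Red.DS U M) ≫ φ')) ≫ c) ≫ φ

theorem lift_cU {T : Over U} (t : T ⟶ Red.bc g K) (h : T ⟶ Red.DS U M) :
    lift t h ≫ cU c g φ φ' =
      up g H (lift (BcPts.dn g K t) (BcPts.dn g H (h ≫ φ')) ≫ c) ≫ φ := by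
  unfold cU
  rw [← Category.assoc, up_comp, ← Category.assoc, comp_lift, ← BcPts.dn_comp, ← BcPts.dn_comp,
    lift_fst, lift_snd_assoc]

variable (hmul : ∀ (T : Over S) (k : T ⟶ K) (h h' : T ⟶ H),
    lift k (h * h') ≫ c = (lift k h ≫ c) * (lift k h' ≫ c))
  (e : 𝟙_ (Over S) ⟶ K)
  (hunit : ∀ (T : Over S) (h : T ⟶ H), lift (toUnit T ≫ e) h ≫ c = h)

include hmul hunit in
theorem cU_eq_snd [GeometricallyConnected K.hom] [IsMonHom φ] [IsMonHom φ']
    (h1 : φ' ≫ φ = 𝟙 _) : cU c g φ φ' = snd _ _ := by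
  haveI : GeometricallyConnected (Red.bc g K).hom := by
    show GeometricallyConnected (pullback.snd K.hom g)
    infer_instance
  let σ : 𝟙_ (Over U) ⟶ Red.bc g K := up g K (toUnit _ ≫ e)
  apply eq_snd (cU c g φ φ') ?hmulU σ ?hunitU
  · intro T t h h'
    rw [lift_cU, lift_cU, lift_cU, MonObj.mul_comp h h' φ', BcPts.dn_mul, hmul, up_mul,
      MonObj.mul_comp _ _ φ]
  · intro T h
    rw [lift_cU]
    have : BcPts.dn g K (toUnit T ≫ σ) = toUnit _ ≫ e := by
      rw [BcPts.dn_comp, dn_up, ← Category.assoc]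
      congr 1
    rw [this, hunit, up_dn, Category.assoc, h1, Category.comp_id]

end Local

variable (hmul : ∀ (T : Over S) (k : T ⟶ K) (h h' : T ⟶ H),
    lift k (h * h') ≫ c = (lift k h ≫ c) * (lift k h' ≫ c))
  (e : 𝟙_ (Over S) ⟶ K)
  (hunit : ∀ (T : Over S) (h : T ⟶ H), lift (toUnit T ≫ e) h ≫ c = h)

include hmul hunit in
/-- **Rigidity of groups of multiplicative type.** -/
theorem eq_snd_of_isMultTypeFT [GeometricallyConnected K.hom] (hH : SGA3x.IsMultTypeFT H) :
    c = snd K H := by
  obtain ⟨S', f, hflat, hsurj, -, hloc⟩ := hH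
  haveI := hflat
  haveI := hsurj
  choose Uo hUo M instM hFG e' using hloc
  let gfun : ∀ s' : S', (Uo s' : Scheme.{u}) ⟶ S := fun s' => (Uo s').ι ≫ f
  have key : ∀ s' : S', pullback.fst (K ⊗ H).hom (gfun s') ≫ c.left =
      pullback.fst (K ⊗ H).hom (gfun s') ≫ (snd K H).left := by
    intro s'
    letI := instM s'
    let iso := (e' s').some
    let φ : Red.bc (gfun s') H ⟶ Red.DS (Uo s' : Scheme.{u}) (M s') := iso.hom.hom.hom
    let φ' : Red.DS (Uo s' : Scheme.{u}) (M s') ⟶ Red.bc (gfun s') H := iso.inv.hom.hom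
    have h1 : φ' ≫ φ = 𝟙 _ := by
      have := congrArg (fun k => k.hom.hom) iso.inv_hom_id
      exact this
    have h2 : φ ≫ φ' = 𝟙 _ := by
      have := congrArg (fun k => k.hom.hom) iso.hom_inv_id
      exact this
    have hc := cU_eq_snd c (gfun s') φ φ' hmul e hunit h1
    let T : Over (Uo s' : Scheme.{u}) := Red.bc (gfun s') (K ⊗ H)
    let w : (Over.map (gfun s')).obj T ⟶ K ⊗ H := BcPts.dn (gfun s') (K ⊗ H) (𝟙 T)
    let k : (Over.map (gfun s')).obj T ⟶ K := w ≫ fst K H
    let h : (Over.map (gfun s')).obj T ⟶ H := w ≫ snd K H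
    have h3 := lift_cU c (gfun s') φ φ' (up (gfun s') K k) (up (gfun s') H h ≫ φ)
    rw [hc, lift_snd, dn_up, Category.assoc, h2, Category.comp_id, dn_up] at h3
    have h4 : up (gfun s') H h = up (gfun s') H (lift k h ≫ c) := by
      have := congrArg (· ≫ φ') h3
      simpa only [Category.assoc, h2, Category.comp_id] using this
    have h5 := congrArg (BcPts.dn (gfun s') H) h4
    rw [dn_up, dn_up] at h5
    have hw : lift k h = w := by
      apply CartesianMonoidalCategory.hom_ext
      · rw [lift_fst]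
      · rw [lift_snd]
    rw [hw] at h5
    have h6 := congrArg (fun k => k.left) h5
    simp only [Over.comp_left] at h6
    have hwl : w.left = pullback.fst (K ⊗ H).hom (gfun s') := by
      show (BcPts.dn (gfun s') (K ⊗ H) (𝟙 T)).left = _
      rw [BcPts.dn_left, Over.id_left, Category.id_comp]
    rw [hwl] at h6
    exact h6.symm
  let Pi0 : (∐ fun s' : S' => pullback (K ⊗ H).hom (gfun s')) ⟶ (K ⊗ H).left :=
    Sigma.desc fun s' => pullback.fst (K ⊗ H).hom (gfun s')
  haveI : Flat Pi0 := inferInstance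
  haveI : Surjective Pi0 := by
    apply Surjective.sigmaDesc_of_union_range_eq_univ
    rw [Set.eq_univ_iff_forall]
    intro h
    obtain ⟨s', hs'⟩ := f.surjective ((K ⊗ H).hom h)
    let x : ((Uo s' : Scheme.{u})) := ⟨s', hUo s'⟩
    have hx : (K ⊗ H).hom h = (gfun s') x := by
      show (K ⊗ H).hom h = ((Uo s').ι ≫ f) x
      rw [Scheme.Hom.comp_apply]
      exact hs'.symm
    obtain ⟨z, hz, -⟩ := Scheme.Pullback.exists_preimage_pullback (f := (K ⊗ H).hom)
      (g := gfun s') h x hx
    exact Set.mem_iUnion.2 ⟨s', z, hz⟩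
  haveI : Epi Pi0 := Flat.epi_of_flat_of_surjective Pi0
  apply Over.OverMorphism.ext
  rw [← cancel_epi Pi0]
  apply Sigma.hom_ext
  intro s'
  rw [Sigma.ι_desc_assoc, Sigma.ι_desc_assoc, key]

end Main

end Groth.Agent.Helper7.MTRig
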