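import Mathlib
import Groth.Agent.Lib.Helper7.MTRigD

/-!
# Groups of multiplicative type are commutative; fpqc-local equality of morphisms (helper7)
-/

set_option autoImplicit false
set_option linter.style.haveILetI false
universe u
open CategoryTheory CategoryTheory.Limits MonoidalCategory CartesianMonoidalCategory MonObj
  AlgebraicGeometry

noncomputable section

namespace Groth.Agent.Helper7.MTRig

open Groth.Agent.Helper18

variable {S : Scheme.{u}}

/-- equality of morphisms can be checked on the members of a flat covering family -/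
theorem hom_ext_of_cover {S' : Scheme.{u}} (f : S' ⟶ S) [Flat f] [Surjective f]
    (Uo : S' → S'.Opens) (hUo : ∀ s', s' ∈ Uo s') {X Z : Over S} (m₁ m₂ : X ⟶ Z)
    (key : ∀ s' : S', pullback.fst X.hom ((Uo s').ι ≫ f) ≫ m₁.left =
      pullback.fst X.hom ((Uo s').ι ≫ f) ≫ m₂.left) : m₁ = m₂ := by
  let gfun : ∀ s' : S', (Uo s' : Scheme.{u}) ⟶ S := fun s' => (Uo s').ι ≫ f
  let Pi0 : (∐ fun s' : S' => pullback X.hom (gfun s')) ⟶ X.left :=
    Sigma.desc fun s' => pullback.fst X.hom (gfun s')
  haveI : Flat Pi0 := inferInstance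
  haveI : Surjective Pi0 := by
    apply Surjective.sigmaDesc_of_union_range_eq_univ
    rw [Set.eq_univ_iff_forall]
    intro h
    obtain ⟨s', hs'⟩ := f.surjective (X.hom h)
    let x : ((Uo s' : Scheme.{u})) := ⟨s', hUo s'⟩
    have hx : X.hom h = (gfun s') x := by
      show X.hom h = ((Uo s').ι ≫ f) x
      rw [Scheme.Hom.comp_apply]
      exact hs'.symm
    obtain ⟨z, hz, -⟩ := Scheme.Pullback.exists_preimage_pullback (f := X.hom)
      (g := gfun s') h x hx
    exact Set.mem_iUnion.2 ⟨s', z, hz⟩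
  haveI : Epi Pi0 := Flat.epi_of_flat_of_surjective Pi0
  apply Over.OverMorphism.ext
  rw [← cancel_epi Pi0]
  apply Sigma.hom_ext
  intro s'
  rw [Sigma.ι_desc_assoc, Sigma.ι_desc_assoc]
  exact key s'

theorem DS_comm {U : Scheme.{u}} {M : Type} [AddCommGroup M] {T : Over U}
    (x y : T ⟶ Red.DS U M) : x * y = y * x := by
  apply (DSPts.equiv (M := M) T).injective
  rw [map_mul, map_mul, _root_.mul_comm]

/-- a group of multiplicative type is commutative -/
theorem comm_of_isMultTypeFT {H : Over S} [GrpObj H] (hH : SGA3x.IsMultTypeFT H) (T : Over S)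
    (a b : T ⟶ H) : a * b = b * a := by
  have huniv : fst H H * snd H H = snd H H * fst H H := by
    obtain ⟨S', f, hflat, hsurj, -, hloc⟩ := hH
    haveI := hflat
    haveI := hsurj
    choose Uo hUo M instM hFG e' using hloc
    apply hom_ext_of_cover f Uo hUo
    intro s'
    letI := instM s'
    let iso := (e' s').some
    let φ : Red.bc ((Uo s').ι ≫ f) H ⟶ Red.DS (Uo s' : Scheme.{u}) (M s') := iso.hom.hom.hom
    let φ' : Red.DS (Uo s' : Scheme.{u}) (M s') ⟶ Red.bc ((Uo s').ι ≫ f) H := iso.inv.hom.hom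
    have h2 : φ ≫ φ' = 𝟙 _ := by
      have := congrArg (fun k => k.hom.hom) iso.hom_inv_id
      exact this
    let T' : Over (Uo s' : Scheme.{u}) := Red.bc ((Uo s').ι ≫ f) (H ⊗ H)
    let w : (Over.map ((Uo s').ι ≫ f)).obj T' ⟶ H ⊗ H :=
      BcPts.dn ((Uo s').ι ≫ f) (H ⊗ H) (𝟙 T')
    let x : T' ⟶ Red.bc ((Uo s').ι ≫ f) H := up _ H (w ≫ fst H H)
    let y : T' ⟶ Red.bc ((Uo s').ι ≫ f) H := up _ H (w ≫ snd H H)
    have hxy : x * y = y * x := by
      have h3 : (x * y) ≫ φ = (y * x) ≫ φ := by
        rw [MonObj.mul_comp x y φ, MonObj.mul_comp y x φ]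
        exact DS_comm _ _
      have h4 := congrArg (· ≫ φ') h3
      simpa only [Category.assoc, h2, Category.comp_id] using h4
    have h5 := congrArg (BcPts.dn ((Uo s').ι ≫ f) H) hxy
    rw [BcPts.dn_mul, BcPts.dn_mul, dn_up, dn_up, ← MonObj.comp_mul, ← MonObj.comp_mul] at h5
    have h6 := congrArg (fun k => k.left) h5
    simp only [Over.comp_left] at h6
    have hwl : w.left = pullback.fst (H ⊗ H).hom ((Uo s').ι ≫ f) := by
      show (BcPts.dn _ (H ⊗ H) (𝟙 T')).left = _
      rw [BcPts.dn_left, Over.id_left, Category.id_comp]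
    rw [hwl] at h6
    exact h6
  have := congrArg (fun m => lift a b ≫ m) huniv
  simpa only [MonObj.comp_mul, lift_fst, lift_snd] using this

end Groth.Agent.Helper7.MTRig
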