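import Mathlib
import Groth.Agent.Lib.Helper7.GeomRegFG
import Groth.Agent.Lib.Helper14.AdicFSJacobi
import Groth.Agent.Lib.Helper3.SmoothRegHom

/-!
# Smooth = flat with geometrically regular fibres, for finitely presented algebras (helper7)
-/

set_option autoImplicit false
set_option linter.unusedSectionVars false
set_option linter.style.haveILetI false
universe u

namespace Groth.Agent.Helper7.SmoothGeomReg

open TensorProduct IsLocalRing Function

/-- a finite type algebra over a field which is geometrically regular is smooth -/
theorem smooth_of_geomRegular (k F : Type u) [Field k] [CommRing F] [Algebra k F]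
    [Algebra.FiniteType k F] (h : CAlg.IsGeometricallyRegular k F) : Algebra.Smooth k F := by
  haveI : IsNoetherianRing F := Algebra.FiniteType.isNoetherianRing k F
  haveI hfp : Algebra.FinitePresentation k F :=
    Algebra.FinitePresentation.of_finiteType.mp inferInstance
  refine ⟨?_, hfp⟩
  rw [← Algebra.smoothLocus_eq_univ_iff, Set.eq_univ_iff_forall]
  intro Q
  show Algebra.FormallySmooth k (Localization.AtPrime Q.asIdeal)
  have h1 := Groth.Agent.Helper7.GeomRegFG.geomRegular_localization k F h Q.asIdeal
  have h2 := Groth.Agent.Helper7.GeomRegFG.adicFS_of_geomRegular k (Localization.AtPrime Q.asIdeal) h1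
  exact Groth.Agent.Helper14.AdicFSJacobi.formallySmooth_of_adicFS_of_essFiniteType h2

/-- **S4996** -/
theorem main (A B : Type u) [CommRing A] [CommRing B]
    [Algebra A B] [Algebra.FinitePresentation A B] :
    Algebra.Smooth A B ↔
      Module.Flat A B ∧ ∀ (p : Ideal A) [p.IsPrime],
        CAlg.IsGeometricallyRegular p.ResidueField (p.Fiber B) := by
  constructor
  · intro h
    have h1 := Groth.Agent.Helper3.SmoothRegHom.isRegularHom_of_smooth A B
    exact ⟨h1.1, fun p _ => (h1.2 p).2⟩
  · rintro ⟨hfl, h⟩
    refine Algebra.Smooth.of_formallySmooth_fiber (fun p _ => ?_)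
    haveI : Algebra.FiniteType p.ResidueField (p.Fiber B) := inferInstance
    have := smooth_of_geomRegular p.ResidueField (p.Fiber B) (h p)
    exact this.1

end Groth.Agent.Helper7.SmoothGeomReg
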