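import Mathlib
import Groth.Agent.Lib.Helper7.MTRigB

/-!
# Natural multiplicative families of maps between character groups (helper7)

A family `Φ τ : Hom(M, C) → Hom(M', C)` for the affine points `τ : Spec C ⟶ U`, natural in `C` and
multiplicative, is given by group-like elements `X τ m'` of `C[M]`.
-/

set_option autoImplicit false
universe u
open CategoryTheory CategoryTheory.Limits AlgebraicGeometry

noncomputable section

namespace Groth.Agent.Helper7.GL

open Groth.Agent.Helper18 Groth.Agent.Helper18.MultToGa Groth.Agent.Helper7.MTRig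

variable {U : Scheme.{u}} {M M' : Type} [AddCommGroup M] [AddCommGroup M']
  (Φ : ∀ {C : CommRingCat.{u}} (_ : Spec C ⟶ U), (Multiplicative M →* C) → (Multiplicative M' →* C))
  (hnat : ∀ {C C' : CommRingCat.{u}} (h : C ⟶ C') (τ : Spec C ⟶ U) (τ' : Spec C' ⟶ U)
    (_ : τ' = Spec.map h ≫ τ) (ψ : Multiplicative M →* C),
    Φ τ' ((h.hom : C →* C').comp ψ) = (h.hom : C →* C').comp (Φ τ ψ))
  (hmul : ∀ {C : CommRingCat.{u}} (τ : Spec C ⟶ U) (ψ ψ' : Multiplicative M →* C),
    Φ τ (ψ * ψ') = Φ τ ψ * Φ τ ψ')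

include hmul in
theorem Phi_one {C : CommRingCat.{u}} (τ : Spec C ⟶ U) : Φ τ 1 = 1 := by
  have h1 := hmul τ 1 1
  rw [_root_.mul_one] at h1
  apply MonoidHom.ext
  intro m
  have h2 := congrArg (fun f => f m) h1
  simp only [MonoidHom.mul_apply] at h2
  have hu : IsUnit (Φ τ 1 m) := by
    refine ⟨⟨Φ τ 1 m, Φ τ 1 m⁻¹, ?_, ?_⟩, rfl⟩
    · rw [← map_mul, mul_inv_cancel, map_one]
    · rw [← map_mul, inv_mul_cancel, map_one]
  rw [MonoidHom.one_apply]
  have h3 : Φ τ 1 m * Φ τ 1 m = Φ τ 1 m * 1 := by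
    rw [_root_.mul_one]; exact h2.symm
  exact hu.mul_left_cancel h3

/-- the group-like elements attached to the family -/
def X {C : CommRingCat.{u}} (τ : Spec C ⟶ U) :
    Multiplicative M' →* MonoidAlgebra C (Multiplicative M) :=
  Φ (C := CommRingCat.of (MonoidAlgebra C (Multiplicative M)))
    (Spec.map (ιA C (Multiplicative M)) ≫ τ) (MonoidAlgebra.of C (Multiplicative M))

include hnat in
theorem X_eval {C : CommRingCat.{u}} (τ : Spec C ⟶ U)
    (ψ : Multiplicative M →* C) (m : Multiplicative M') :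
    Φ τ ψ m = MonoidAlgebra.lift C C (Multiplicative M) ψ (X Φ τ m) := by
  let G := Multiplicative M
  let ev : CommRingCat.of (MonoidAlgebra C G) ⟶ C :=
    CommRingCat.ofHom (MonoidAlgebra.lift C C G ψ).toRingHom
  have hev : ιA C G ≫ ev = 𝟙 C := by
    apply CommRingCat.hom_ext
    apply RingHom.ext
    intro b
    show MonoidAlgebra.lift C C G ψ (MonoidAlgebra.single 1 b) = b
    rw [MonoidAlgebra.lift_single, map_one, smul_eq_mul, _root_.mul_one]
  have hτ : τ = Spec.map ev ≫ Spec.map (ιA C G) ≫ τ := by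
    rw [← Spec.map_comp_assoc, hev, Spec.map_id, Category.id_comp]
  have e3 := hnat ev (Spec.map (ιA C G) ≫ τ) τ hτ (MonoidAlgebra.of C G)
  have hψ : (ev.hom : MonoidAlgebra C G →* C).comp (MonoidAlgebra.of C G) = ψ := by
    apply MonoidHom.ext
    intro g
    show MonoidAlgebra.lift C C G ψ (MonoidAlgebra.of C G g) = ψ g
    rw [MonoidAlgebra.lift_of]
  rw [hψ] at e3
  rw [e3]
  rfl

include hnat in
theorem X_nat {C C' : CommRingCat.{u}} (h : C ⟶ C') (τ : Spec C ⟶ U) (τ' : Spec C' ⟶ U)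
    (hτ : τ' = Spec.map h ≫ τ) (m : Multiplicative M') :
    X Φ τ' m = MonoidAlgebra.mapRingHom (Multiplicative M) h.hom (X Φ τ m) := by
  let G := Multiplicative M
  let H : CommRingCat.of (MonoidAlgebra C G) ⟶ CommRingCat.of (MonoidAlgebra C' G) :=
    CommRingCat.ofHom (MonoidAlgebra.mapRingHom G h.hom)
  have hH : ιA C G ≫ H = h ≫ ιA C' G := by
    apply CommRingCat.hom_ext
    apply RingHom.ext
    intro b
    show MonoidAlgebra.mapRingHom G h.hom (MonoidAlgebra.single 1 b) =
      MonoidAlgebra.single 1 (h.hom b)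
    simp
  have hτ2 : Spec.map (ιA C' G) ≫ τ' = Spec.map H ≫ Spec.map (ιA C G) ≫ τ := by
    rw [hτ, ← Spec.map_comp_assoc, ← Spec.map_comp_assoc, hH]
  have e := hnat H _ _ hτ2 (MonoidAlgebra.of C G)
  have hof : (H.hom : MonoidAlgebra C G →* MonoidAlgebra C' G).comp (MonoidAlgebra.of C G) =
      MonoidAlgebra.of C' G := by
    apply MonoidHom.ext
    intro g
    show MonoidAlgebra.mapRingHom G h.hom (MonoidAlgebra.single g 1) = MonoidAlgebra.single g 1
    simp
  rw [hof] at e
  exact congrArg (fun f => f m) e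

include hnat hmul in
theorem X_groupLike {C : CommRingCat.{u}} (τ : Spec C ⟶ U) (m : Multiplicative M') :
    MonoidAlgebra.mapDomainRingHom C (dG (G := Multiplicative M)) (X Φ τ m) =
      MonoidAlgebra.mapDomainRingHom C (i1 (G := Multiplicative M)) (X Φ τ m) *
        MonoidAlgebra.mapDomainRingHom C (i2 (G := Multiplicative M)) (X Φ τ m) := by
  let G := Multiplicative M
  let A : CommRingCat.{u} := CommRingCat.of (MonoidAlgebra C G)
  let A₂ : CommRingCat.{u} := CommRingCat.of (MonoidAlgebra C (G × G))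
  let ιA₂ : C ⟶ A₂ := CommRingCat.ofHom (MonoidAlgebra.singleOneRingHom)
  let ofA : G →* A := MonoidAlgebra.of C G
  let d : A ⟶ A₂ := CommRingCat.ofHom (MonoidAlgebra.mapDomainRingHom C (dG (G := G)))
  let j1 : A ⟶ A₂ := CommRingCat.ofHom (MonoidAlgebra.mapDomainRingHom C (i1 (G := G)))
  let j2 : A ⟶ A₂ := CommRingCat.ofHom (MonoidAlgebra.mapDomainRingHom C (i2 (G := G)))
  have hι : ∀ f : G →* G × G,
      ιA C G ≫ CommRingCat.ofHom (MonoidAlgebra.mapDomainRingHom C f) = ιA₂ := by
    intro f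
    apply CommRingCat.hom_ext
    apply RingHom.ext
    intro b
    show MonoidAlgebra.mapDomain f (MonoidAlgebra.single 1 b) = MonoidAlgebra.single 1 b
    rw [MonoidAlgebra.mapDomain_single, map_one]
  have hτ : ∀ f : G →* G × G, Spec.map ιA₂ ≫ τ =
      Spec.map (CommRingCat.ofHom (MonoidAlgebra.mapDomainRingHom C f)) ≫
        Spec.map (ιA C G) ≫ τ := by
    intro f
    rw [← Spec.map_comp_assoc, hι f]
  have e0 := hnat d _ _ (hτ _) ofA
  have e1 := hnat j1 _ _ (hτ _) ofA
  have e2 := hnat j2 _ _ (hτ _) ofA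
  have hm : (d.hom : A →* A₂).comp ofA =
      (j1.hom : A →* A₂).comp ofA * (j2.hom : A →* A₂).comp ofA := by
    apply MonoidHom.ext
    intro g
    show MonoidAlgebra.mapDomain (dG (G := G))
        (MonoidAlgebra.single g (1 : C) : MonoidAlgebra C G) =
      MonoidAlgebra.mapDomain (i1 (G := G)) (MonoidAlgebra.single g (1 : C) : MonoidAlgebra C G) *
        MonoidAlgebra.mapDomain (i2 (G := G))
          (MonoidAlgebra.single g (1 : C) : MonoidAlgebra C G)
    rw [MonoidAlgebra.mapDomain_single, MonoidAlgebra.mapDomain_single,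
      MonoidAlgebra.mapDomain_single, MonoidAlgebra.single_mul_single, dG_eq, _root_.mul_one]
  rw [hm, hmul, e1, e2] at e0
  exact (congrArg (fun f => f m) e0).symm

include hnat hmul in
open Classical in
/-- coefficients of `X` are orthogonal idempotents -/
theorem X_coeff_mul {C : CommRingCat.{u}} (τ : Spec C ⟶ U) (m : Multiplicative M')
    (g h : Multiplicative M) :
    (X Φ τ m).coeff g * (X Φ τ m).coeff h = if g = h then (X Φ τ m).coeff g else 0 :=
  coeff_mul_coeff_of_groupLike _ (X_groupLike Φ hnat hmul τ m) g h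

include hnat hmul in
/-- the coefficients of `X` sum to one -/
theorem X_sum {C : CommRingCat.{u}} (τ : Spec C ⟶ U) (m : Multiplicative M') :
    ((X Φ τ m).coeff.sum fun _ b => b) = 1 := by
  have h1 := X_eval Φ hnat τ 1 m
  rw [Phi_one Φ hmul τ, MonoidHom.one_apply, lift_apply_eq_sum] at h1
  rw [h1]
  apply Finsupp.sum_congr
  intro g _
  rw [MonoidHom.one_apply, _root_.mul_one]

end Groth.Agent.Helper7.GL
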