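import Mathlib
import Groth.Agent.Lib.Helper7.GLA
import Groth.Agent.Lib.Helper7.TwoGrpA
import Groth.Agent.Lib.Helper1.GroupLikeLift

/-!
# Homomorphisms of diagonalisable groups from group-like elements (helper7)

Over `Spec B`, a multiplicative family `x : M' → B[M]` of elements with orthogonal idempotent
coefficients defines a homomorphism `D(M) ⟶ D(M')`.
-/

set_option autoImplicit false
universe u
open CategoryTheory CategoryTheory.Limits MonoidalCategory CartesianMonoidalCategory MonObj
  AlgebraicGeometry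

noncomputable section

namespace Groth.Agent.Helper7.GL

open Groth.Agent.Helper18 Groth.Agent.Helper18.MultToGa Groth.Agent.Helper7.MTRig

variable {B : CommRingCat.{u}} {M M' : Type} [AddCommGroup M] [AddCommGroup M']

/-- the structure ring map of a scheme over `Spec B` -/
def str (T : Over (Spec B)) : B →+* Γ(T.left, ⊤) :=
  (T.hom.appTop.hom).comp (Scheme.ΓSpecIso B).inv.hom

theorem str_comp {T T' : Over (Spec B)} (g : T' ⟶ T) :
    (g.left.appTop.hom).comp (str T) = str T' := by
  have hw : g.left ≫ T.hom = T'.hom := Over.w g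
  unfold str
  rw [← hw, Scheme.Hom.comp_appTop]
  rfl

/-- evaluation of elements of `B[M]` at a point of `D(M)` -/
def L {T : Over (Spec B)} (t : T ⟶ Red.DS (Spec B) M) :
    MonoidAlgebra B (Multiplicative M) →+* Γ(T.left, ⊤) :=
  MonoidAlgebra.liftNCRingHom (str T) (DSPts.charOfPt t) (fun _ _ => Commute.all _ _)

theorem L_comp {T T' : Over (Spec B)} (g : T' ⟶ T) (t : T ⟶ Red.DS (Spec B) M) :
    L (g ≫ t) = (g.left.appTop.hom).comp (L t) := by
  apply MonoidAlgebra.ringHom_ext
  · intro b
    show L (g ≫ t) (MonoidAlgebra.single 1 b) = g.left.appTop.hom (L t (MonoidAlgebra.single 1 b))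
    unfold L
    rw [MonoidAlgebra.liftNCRingHom_single, MonoidAlgebra.liftNCRingHom_single, map_one, map_one,
      _root_.mul_one, _root_.mul_one, ← str_comp g]
    rfl
  · intro m
    show L (g ≫ t) (MonoidAlgebra.single m 1) = g.left.appTop.hom (L t (MonoidAlgebra.single m 1))
    unfold L
    rw [MonoidAlgebra.liftNCRingHom_single, MonoidAlgebra.liftNCRingHom_single, map_one, map_one,
      _root_.one_mul, _root_.one_mul, DSPts.charOfPt_comp]
    rfl

variable (x : Multiplicative M' →* MonoidAlgebra B (Multiplicative M))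

/-- the morphism attached to `x` -/
def Psi : Red.DS (Spec B) M ⟶ Red.DS (Spec B) M' :=
  DSPts.ptOfChar (((L (𝟙 (Red.DS (Spec B) M))) :
    MonoidAlgebra B (Multiplicative M) →* Γ((Red.DS (Spec B) M).left, ⊤)).comp x)

theorem comp_Psi {T : Over (Spec B)} (t : T ⟶ Red.DS (Spec B) M) :
    t ≫ Psi x = DSPts.ptOfChar (((L t) :
      MonoidAlgebra B (Multiplicative M) →* Γ(T.left, ⊤)).comp x) := by
  unfold Psi
  rw [DSPts.ptOfChar_comp]
  congr 1
  apply MonoidHom.ext
  intro m
  show t.left.appTop.hom (L (𝟙 _) (x m)) = L t (x m)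
  have h := L_comp t (𝟙 (Red.DS (Spec B) M))
  rw [Category.comp_id] at h
  rw [h]
  rfl

theorem charOfPt_comp_Psi {T : Over (Spec B)} (t : T ⟶ Red.DS (Spec B) M) (m : Multiplicative M') :
    DSPts.charOfPt (t ≫ Psi x) m = L t (x m) := by
  rw [comp_Psi, DSPts.charOfPt_ptOfChar]
  rfl

open Classical in
theorem isMonHom_Psi
    (hx : ∀ (m : Multiplicative M') (g h : Multiplicative M),
      (x m).coeff g * (x m).coeff h = if g = h then (x m).coeff g else 0) :
    IsMonHom (Psi x) := by
  apply Groth.Agent.Helper7.TwoGrp.isMonHom_of_mul_points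
  intro T a b
  apply DSPts.charOfPt_injective
  apply MonoidHom.ext
  intro m
  rw [DSPts.charOfPt_mul, MonoidHom.mul_apply, charOfPt_comp_Psi, charOfPt_comp_Psi,
    charOfPt_comp_Psi]
  unfold L
  have h := Groth.Agent.Helper1.GroupLikeLift.groupLike_lift_mul (x m) (hx m) (str T)
    (DSPts.charOfPt a) (DSPts.charOfPt b)
  rw [← h]
  congr 2
  exact DSPts.charOfPt_mul a b

/-- the value on affine points -/
theorem Psi_pt {C : CommRingCat.{u}} (φ : B ⟶ C) (χ : Multiplicative M →* C)
    (m : Multiplicative M') :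
    (Scheme.ΓSpecIso C).hom.hom (DSPts.charOfPt (pt (Spec.map φ) χ ≫ Psi x) m) =
      MonoidAlgebra.liftNCRingHom φ.hom χ (fun _ _ => Commute.all _ _) (x m) := by
  rw [charOfPt_comp_Psi]
  have key : ((Scheme.ΓSpecIso C).hom.hom).comp (L (pt (Spec.map φ) χ)) =
      MonoidAlgebra.liftNCRingHom φ.hom χ (fun _ _ => Commute.all _ _) := by
    apply MonoidAlgebra.ringHom_ext
    · intro b
      show (Scheme.ΓSpecIso C).hom.hom (L (pt (Spec.map φ) χ) (MonoidAlgebra.single 1 b)) =
        MonoidAlgebra.liftNCRingHom φ.hom χ _ (MonoidAlgebra.single 1 b)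
      unfold L
      rw [MonoidAlgebra.liftNCRingHom_single, MonoidAlgebra.liftNCRingHom_single, map_one, map_one,
        _root_.mul_one, _root_.mul_one]
      show (Scheme.ΓSpecIso C).hom.hom ((Spec.map φ).appTop.hom ((Scheme.ΓSpecIso B).inv.hom b)) =
        φ.hom b
      have h1 := congrArg (fun k => k.hom b) (Scheme.ΓSpecIso_inv_naturality φ)
      simp only [CommRingCat.hom_comp, RingHom.comp_apply] at h1
      rw [← h1]
      exact congrArg (fun k => k.hom (φ.hom b)) (Scheme.ΓSpecIso C).inv_hom_id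
    · intro g
      show (Scheme.ΓSpecIso C).hom.hom (L (pt (Spec.map φ) χ) (MonoidAlgebra.single g 1)) =
        MonoidAlgebra.liftNCRingHom φ.hom χ _ (MonoidAlgebra.single g 1)
      unfold L
      rw [MonoidAlgebra.liftNCRingHom_single, MonoidAlgebra.liftNCRingHom_single, map_one, map_one,
        _root_.one_mul, _root_.one_mul]
      unfold pt
      rw [DSPts.charOfPt_ptOfChar]
      exact congrArg (fun k => k.hom (χ g)) (Scheme.ΓSpecIso C).inv_hom_id
  exact congrArg (fun k => k (x m)) key

end Groth.Agent.Helper7.GL
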