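import Mathlib

/-!
# Coactions of group algebras which are trivial modulo a nilpotent ideal of scalars (helper7)

Pure algebra.
-/

set_option autoImplicit false
set_option linter.unusedSectionVars false

universe u

namespace Groth.Agent.Helper7.Nil

section L1

variable {R C : Type*} [CommRing R] [CommRing C] (ρ : R →+* C) (I : Ideal R)
  (p : C →+ C) (hlin : ∀ r c, p (ρ r * c) = ρ r * p c) (hidem : ∀ c, p (p c) = p c)
  (hmem : ∀ c, p c ∈ Ideal.map ρ I)

include hlin hidem hmem in
theorem p_mem_pow (n : ℕ) (c : C) : p c ∈ Ideal.map ρ (I ^ n) := by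
  induction n generalizing c with
  | zero => rw [pow_zero, Ideal.one_eq_top, Ideal.map_top]; trivial
  | succ n ih =>
    rw [← hidem c]
    have h := ih c
    have key : ∀ y ∈ Ideal.map ρ (I ^ n), ∀ a : C, p (a * y) ∈ Ideal.map ρ (I ^ (n + 1)) := by
      intro y hy
      refine Submodule.span_induction (p := fun y _ => ∀ a : C, p (a * y) ∈ Ideal.map ρ (I ^ (n + 1)))
        ?_ ?_ ?_ ?_ hy
      · rintro _ ⟨r, hr, rfl⟩ a
        rw [mul_comm, hlin, pow_succ, Ideal.map_mul]
        exact Ideal.mul_mem_mul (Ideal.mem_map_of_mem ρ hr) (hmem a)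
      · intro a
        rw [mul_zero, map_zero]
        exact Ideal.zero_mem _
      · intro x y _ _ hx hy a
        rw [mul_add, map_add]
        exact Ideal.add_mem _ (hx a) (hy a)
      · intro b x _ hx a
        rw [smul_eq_mul, ← mul_assoc]
        exact hx (a * b)
    have := key _ h 1
    rwa [one_mul] at this

include hlin hidem hmem in
theorem p_eq_zero (hI : IsNilpotent I) (c : C) : p c = 0 := by
  obtain ⟨n, hn⟩ := hI
  have h := p_mem_pow ρ I p hlin hidem hmem n c
  rw [hn, Ideal.zero_eq_bot, Ideal.map_bot] at h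
  exact h

end L1

section L2

variable {C : Type u} [CommRing C] {G : Type} [Monoid G]

theorem coeff_mem_of_mem_map (K : Ideal C) (f : MonoidAlgebra C G)
    (hf : f ∈ Ideal.map (algebraMap C (MonoidAlgebra C G)) K) (g : G) : f.coeff g ∈ K := by
  have hle : Ideal.map (algebraMap C (MonoidAlgebra C G)) K ≤
      RingHom.ker (MonoidAlgebra.mapRingHom G (Ideal.Quotient.mk K)) := by
    rw [Ideal.map_le_iff_le_comap]
    intro k hk
    rw [Ideal.mem_comap, RingHom.mem_ker]
    show MonoidAlgebra.mapRingHom G (Ideal.Quotient.mk K) (MonoidAlgebra.single 1 k) = 0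
    rw [MonoidAlgebra.mapRingHom_single, Ideal.Quotient.eq_zero_iff_mem.mpr hk]
    simp
  have h0 := hle hf
  rw [RingHom.mem_ker] at h0
  have h1 := congrArg (fun x => x.coeff g) h0
  simp only [MonoidAlgebra.coeff_mapRingHom] at h1
  exact Ideal.Quotient.eq_zero_iff_mem.mp h1

end L2

section L3

variable {C : Type u} [CommRing C] {G : Type} [CommGroup G]

/-- the diagonal -/
noncomputable def diagHom : MonoidAlgebra C G →+* MonoidAlgebra C (G × G) :=
  MonoidAlgebra.mapDomainRingHom C ((MonoidHom.id G).prod (MonoidHom.id G))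

/-- the second inclusion -/
noncomputable def inrHom : MonoidAlgebra C G →+* MonoidAlgebra C (G × G) :=
  MonoidAlgebra.mapDomainRingHom C (MonoidHom.inr G G)

variable (ω : C →+* MonoidAlgebra C G)

/-- the twisted first inclusion -/
noncomputable def twHom : MonoidAlgebra C G →+* MonoidAlgebra C (G × G) :=
  MonoidAlgebra.liftNCRingHom ((inrHom (C := C) (G := G)).comp ω)
    ((MonoidAlgebra.of C (G × G)).comp (MonoidHom.inl G G)) (fun _ _ => Commute.all _ _)

theorem diagHom_coeff (f : MonoidAlgebra C G) (g : G) : (diagHom f).coeff (g, g) = f.coeff g := by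
  show (Finsupp.mapDomain ((MonoidHom.id G).prod (MonoidHom.id G)) f.coeff)
    (((MonoidHom.id G).prod (MonoidHom.id G)) g) = f.coeff g
  apply Finsupp.mapDomain_apply
  intro a b hab
  exact congrArg Prod.fst hab

theorem inrHom_coeff (f : MonoidAlgebra C G) (g : G) : (inrHom f).coeff (1, g) = f.coeff g := by
  show (Finsupp.mapDomain (MonoidHom.inr G G) f.coeff) ((MonoidHom.inr G G) g) = f.coeff g
  apply Finsupp.mapDomain_apply
  intro a b hab
  exact congrArg Prod.snd hab

theorem inrHom_coeff_ne (f : MonoidAlgebra C G) (a g : G) (ha : a ≠ 1) :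
    (inrHom f).coeff (a, g) = 0 := by
  classical
  show (Finsupp.mapDomain (MonoidHom.inr G G) f.coeff) (a, g) = 0
  rw [Finsupp.mapDomain, Finsupp.sum_apply]
  apply Finset.sum_eq_zero
  intro x _
  show (Finsupp.single ((MonoidHom.inr G G) x) (f.coeff x)) (a, g) = 0
  rw [Finsupp.single_apply, if_neg]
  intro h
  exact ha (congrArg Prod.fst h).symm

theorem twHom_coeff (f : MonoidAlgebra C G) (a b : G) :
    (twHom ω f).coeff (a, b) = (ω (f.coeff a)).coeff b := by
  classical
  induction f using MonoidAlgebra.induction_linear with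
  | zero => simp
  | add f g hf hg => rw [map_add, MonoidAlgebra.coeff_add, Finsupp.add_apply, hf, hg,
      MonoidAlgebra.coeff_add, Finsupp.add_apply, map_add, MonoidAlgebra.coeff_add,
      Finsupp.add_apply]
  | single m c =>
    rw [twHom, MonoidAlgebra.liftNCRingHom_single]
    show ((inrHom (ω c)) * (MonoidAlgebra.single ((m, 1) : G × G) (1 : C))).coeff (a, b) = _
    rw [MonoidAlgebra.coeff_mul_single_apply, mul_one]
    rw [MonoidAlgebra.coeff_single, Finsupp.single_apply]
    by_cases h : m = a
    · subst h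
      rw [if_pos rfl]
      have : ((m, b) : G × G) * ((m, 1) : G × G)⁻¹ = (1, b) := by
        ext <;> simp
      rw [this, inrHom_coeff]
    · rw [if_neg h, map_zero]
      have : ((a, b) : G × G) * ((m, 1) : G × G)⁻¹ = (a * m⁻¹, b) := by
        ext <;> simp
      rw [this, inrHom_coeff_ne]
      · simp
      · intro h'
        apply h
        rw [mul_inv_eq_one] at h'
        exact h'.symm

/-- coassociativity gives idempotence of the homogeneous components -/
theorem coeff_idem (hω : (diagHom (C := C) (G := G)).comp ω = (twHom ω).comp ω) (c : C) (g : G) :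
    (ω ((ω c).coeff g)).coeff g = (ω c).coeff g := by
  have h := congrArg (fun φ => (φ c).coeff (g, g)) hω
  simp only [RingHom.comp_apply] at h
  rw [diagHom_coeff, twHom_coeff] at h
  exact h.symm

end L3

end Groth.Agent.Helper7.Nil
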