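import Mathlib

/-!
# Closed immersions with nilpotent ideal and affine test schemes (helper7)
-/

set_option autoImplicit false
set_option linter.unusedSectionVars false
set_option linter.style.haveILetI false

universe u

open CategoryTheory CategoryTheory.Limits AlgebraicGeometry

namespace Groth.Agent.Helper7.Nil

variable {S : Scheme.{u}} (V : S.Opens)

theorem top_le_preimage_comp {D D' : CommRingCat.{u}} (ψ : D ⟶ D') (t : Spec D ⟶ S)
    (ht : ⊤ ≤ t ⁻¹ᵁ V) : ⊤ ≤ (Spec.map ψ ≫ t) ⁻¹ᵁ V := by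
  intro x _
  show (Spec.map ψ ≫ t) x ∈ V
  rw [Scheme.Hom.comp_apply]
  exact ht (by trivial : (Spec.map ψ) x ∈ (⊤ : (Spec D).Opens))

/-- the scalars coming from an open of the base containing the image of an affine test scheme -/
noncomputable def sc {D : CommRingCat.{u}} (t : Spec D ⟶ S) (ht : ⊤ ≤ t ⁻¹ᵁ V) : Γ(S, V) →+* D :=
  (t.appLE V ⊤ ht ≫ (Scheme.ΓSpecIso D).hom).hom

theorem sc_comp {D D' : CommRingCat.{u}} (ψ : D ⟶ D') (t : Spec D ⟶ S) (ht : ⊤ ≤ t ⁻¹ᵁ V) :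
    sc V (Spec.map ψ ≫ t) (top_le_preimage_comp V ψ t ht) = ψ.hom.comp (sc V t ht) := by
  have h1 : t.appLE V ⊤ ht ≫ (Spec.map ψ).appLE ⊤ ⊤ le_top =
      (Spec.map ψ ≫ t).appLE V ⊤ (top_le_preimage_comp V ψ t ht) :=
    Scheme.Hom.appLE_comp_appLE _ _ _ _ _ _ _
  have h2 : (Spec.map ψ).appLE ⊤ ⊤ le_top = (Spec.map ψ).appTop := by
    simp [Scheme.Hom.appLE, Scheme.Hom.appTop]
  have h3 := Scheme.ΓSpecIso_naturality ψ
  show ((Spec.map ψ ≫ t).appLE V ⊤ _ ≫ (Scheme.ΓSpecIso D').hom).hom =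
    ψ.hom.comp (t.appLE V ⊤ ht ≫ (Scheme.ΓSpecIso D).hom).hom
  rw [← h1, h2, Category.assoc, h3]
  rfl

theorem sc_congr {D : CommRingCat.{u}} {t t' : Spec D ⟶ S} (h : t = t') (ht : ⊤ ≤ t ⁻¹ᵁ V) :
    sc V t ht = sc V t' (h ▸ ht) := by
  subst h; rfl

variable {S₀ : Scheme.{u}} (i₀ : S₀ ⟶ S) [IsClosedImmersion i₀]

/-- a closed subscheme of an affine test scheme cut out by (at least) the scalars of the kernel
maps to the closed subscheme of the base -/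
theorem exists_lift (V : S.affineOpens) {D : CommRingCat.{u}} (t : Spec D ⟶ S)
    (ht : ⊤ ≤ t ⁻¹ᵁ V.1) (K : Ideal D) (hK : ∀ r ∈ i₀.ker.ideal V, sc V.1 t ht r ∈ K) :
    ∃ l : Spec (CommRingCat.of (D ⧸ K)) ⟶ S₀,
      l ≫ i₀ = Spec.map (CommRingCat.ofHom (Ideal.Quotient.mk K)) ≫ t := by
  let D' : CommRingCat.{u} := CommRingCat.of (D ⧸ K)
  let q : D ⟶ D' := CommRingCat.ofHom (Ideal.Quotient.mk K)
  let t' : Spec D' ⟶ S := Spec.map q ≫ t
  have ht' : ⊤ ≤ t' ⁻¹ᵁ V.1 := top_le_preimage_comp V.1 q t ht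
  let τ' : Γ(S, V.1) ⟶ Γ(Spec D', ⊤) := t'.appLE V.1 ⊤ ht'
  have hV₀ : IsAffineOpen (i₀ ⁻¹ᵁ V.1) := V.2.preimage i₀
  have hsurj : Function.Surjective (i₀.app V.1).hom := i₀.app_surjective V.1 V.2
  have hker : RingHom.ker (i₀.app V.1).hom ≤ RingHom.ker τ'.hom := by
    intro r hr
    have hr' : r ∈ i₀.ker.ideal V := by rw [Scheme.Hom.ker_apply]; exact hr
    have h1 : sc V.1 t' ht' r = 0 := by
      rw [sc_comp V.1 q t ht]
      show Ideal.Quotient.mk K (sc V.1 t ht r) = 0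
      exact Ideal.Quotient.eq_zero_iff_mem.mpr (hK r hr')
    rw [RingHom.mem_ker]
    have h2 : (Scheme.ΓSpecIso D').hom.hom (τ'.hom r) = 0 := h1
    have h3 := congrArg (Scheme.ΓSpecIso D').inv.hom h2
    rw [map_zero] at h3
    have h4 : (Scheme.ΓSpecIso D').inv.hom ((Scheme.ΓSpecIso D').hom.hom (τ'.hom r)) = τ'.hom r := by
      change ((Scheme.ΓSpecIso D').hom ≫ (Scheme.ΓSpecIso D').inv).hom (τ'.hom r) = _
      rw [Iso.hom_inv_id]
      rfl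
    rw [← h4, h3]
  let σ : Γ(S₀, i₀ ⁻¹ᵁ V.1) ⟶ Γ(Spec D', ⊤) :=
    CommRingCat.ofHom (RingHom.liftOfSurjective (i₀.app V.1).hom hsurj ⟨τ'.hom, hker⟩)
  have hσ : i₀.app V.1 ≫ σ = τ' := by
    ext r
    exact RingHom.liftOfSurjective_comp_apply _ hsurj ⟨τ'.hom, hker⟩ r
  refine ⟨(Spec D').isoSpec.hom ≫ Spec.map σ ≫ hV₀.fromSpec, ?_⟩
  have h1 : Spec.map (i₀.appLE V.1 (i₀ ⁻¹ᵁ V.1) le_rfl) ≫ V.2.fromSpec = hV₀.fromSpec ≫ i₀ :=
    IsAffineOpen.SpecMap_appLE_fromSpec i₀ V.2 hV₀ le_rfl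
  have h2 : Spec.map τ' ≫ V.2.fromSpec = (isAffineOpen_top (Spec D')).fromSpec ≫ t' :=
    IsAffineOpen.SpecMap_appLE_fromSpec t' V.2 (isAffineOpen_top _) ht'
  rw [Category.assoc, Category.assoc, ← h1, ← Spec.map_comp_assoc, ← Scheme.Hom.app_eq_appLE, hσ,
    h2, IsAffineOpen.fromSpec_top, Iso.hom_inv_id_assoc]

/-- the closed subscheme cut out by a nilpotent ideal has the same points -/
theorem surjective_specMap_mk {D : CommRingCat.{u}} (K : Ideal D) (hK : IsNilpotent K) :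
    Function.Surjective (Spec.map (CommRingCat.ofHom (Ideal.Quotient.mk K))) := by
  intro x
  let x' : PrimeSpectrum D := x
  have hx : K ≤ x'.asIdeal := by
    obtain ⟨n, hn⟩ := hK
    intro k hk
    have : k ^ n ∈ K ^ n := Ideal.pow_mem_pow hk n
    rw [hn] at this
    have h0 : k ^ n = 0 := this
    exact x'.isPrime.mem_of_pow_mem n (h0 ▸ x'.asIdeal.zero_mem)
  have hmem : x' ∈ Set.range (PrimeSpectrum.comap (Ideal.Quotient.mk K)) := by
    rw [range_comap_of_surjective _ _ Ideal.Quotient.mk_surjective]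
    show x' ∈ PrimeSpectrum.zeroLocus _
    rw [PrimeSpectrum.mem_zeroLocus, Ideal.mk_ker]
    exact hx
  obtain ⟨y, hy⟩ := hmem
  exact ⟨y, hy⟩

end Groth.Agent.Helper7.Nil
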