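import Mathlib

/-!
# Group algebras of lattices: the torsion quotients of coprime orders are jointly dense (helper7)
-/

set_option autoImplicit false
set_option linter.unusedSectionVars false

universe u

namespace Groth.Agent.Helper7.CE

section General

variable {A : Type u} [CommRing A] {N : Type} [AddCommGroup N] {ι : Type} (Ni : ι → Type)
  [∀ i, AddCommGroup (Ni i)] (π : ∀ i, N →+ Ni i)

theorem jointly_injective (hπ : ∀ F : Set N, F.Finite → ∃ i, Set.InjOn (π i) F)
    (f : MonoidAlgebra A (Multiplicative N))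
    (hf : ∀ i, MonoidAlgebra.mapDomainRingHom A (AddMonoidHom.toMultiplicative (π i)) f = 0) :
    f = 0 := by
  classical
  apply MonoidAlgebra.coeff_injective
  ext x
  let F' : Set (Multiplicative N) := insert x (↑f.coeff.support : Set (Multiplicative N))
  have hF' : F'.Finite := Set.Finite.insert x (Finset.finite_toSet _)
  obtain ⟨i, hi⟩ := hπ (Multiplicative.toAdd '' F') (hF'.image _)
  have hi' : Set.InjOn (AddMonoidHom.toMultiplicative (π i)) F' := by
    intro y hy z hz hyz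
    have h1 : π i (Multiplicative.toAdd y) = π i (Multiplicative.toAdd z) := hyz
    have h2 := hi (Set.mem_image_of_mem _ hy) (Set.mem_image_of_mem _ hz) h1
    exact Multiplicative.toAdd.injective h2
  have h1 := congrArg (fun g => g.coeff ((AddMonoidHom.toMultiplicative (π i)) x)) (hf i)
  have h2 : (MonoidAlgebra.mapDomainRingHom A (AddMonoidHom.toMultiplicative (π i)) f).coeff
      ((AddMonoidHom.toMultiplicative (π i)) x) = f.coeff x := by
    show (Finsupp.mapDomain (AddMonoidHom.toMultiplicative (π i)) f.coeff)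
      ((AddMonoidHom.toMultiplicative (π i)) x) = f.coeff x
    exact Finsupp.mapDomain_apply' F' f.coeff
      (by intro y hy; exact Set.mem_insert_of_mem _ hy) hi' (Set.mem_insert _ _)
  rw [← h2]
  exact h1

end General

variable (r : ℕ)

/-- a pair of lattice vectors -/
abbrev NN : Type := (Fin r → ℤ) × (Fin r → ℤ)

/-- its reduction modulo `2 ^ a` in the first and `3 ^ b` in the second variable -/
abbrev Nab (ab : ℕ × ℕ) : Type := (Fin r → ZMod (2 ^ ab.1)) × (Fin r → ZMod (3 ^ ab.2))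

/-- the reduction map -/
def red (ab : ℕ × ℕ) : NN r →+ Nab r ab :=
  AddMonoidHom.prodMap ((Int.castAddHom (ZMod (2 ^ ab.1))).compLeft (Fin r))
    ((Int.castAddHom (ZMod (3 ^ ab.2))).compLeft (Fin r))

theorem red_apply_fst (ab : ℕ × ℕ) (x : NN r) (j : Fin r) :
    (red r ab x).1 j = ((x.1 j : ℤ) : ZMod (2 ^ ab.1)) := rfl

theorem red_apply_snd (ab : ℕ × ℕ) (x : NN r) (j : Fin r) :
    (red r ab x).2 j = ((x.2 j : ℤ) : ZMod (3 ^ ab.2)) := rfl

theorem int_eq_of_cast_eq (n : ℕ) (B : ℤ) (hB : 2 * B < n) (u v : ℤ) (hu : |u| ≤ B) (hv : |v| ≤ B)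
    (h : (u : ZMod n) = (v : ZMod n)) : u = v := by
  rw [ZMod.intCast_eq_intCast_iff_dvd_sub] at h
  have h1 : |v - u| < (n : ℤ) := by
    have := abs_sub v u
    have h2 : |v - u| ≤ |v| + |u| := abs_sub v u
    omega
  have := Int.eq_zero_of_abs_lt_dvd h h1
  omega

theorem red_injOn (F₀ : Set (NN r)) (hF₀ : F₀.Finite) :
    ∃ ab : ℕ × ℕ, Set.InjOn (red r ab) F₀ := by
  classical
  let F : Finset (NN r) := hF₀.toFinset
  let B : ℤ := ∑ x ∈ F, ∑ j : Fin r, (|x.1 j| + |x.2 j|)
  have hB1 : ∀ x ∈ F, ∀ j, |x.1 j| ≤ B ∧ |x.2 j| ≤ B := by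
    intro x hx j
    have h1 : ∑ j : Fin r, (|x.1 j| + |x.2 j|) ≤ B :=
      Finset.single_le_sum (f := fun x : NN r => ∑ j : Fin r, (|x.1 j| + |x.2 j|))
        (fun y _ => Finset.sum_nonneg (fun j _ => by positivity)) hx
    have h2 : |x.1 j| + |x.2 j| ≤ ∑ j : Fin r, (|x.1 j| + |x.2 j|) :=
      Finset.single_le_sum (f := fun j : Fin r => |x.1 j| + |x.2 j|)
        (fun j _ => by positivity) (Finset.mem_univ j)
    have h3 : 0 ≤ |x.1 j| := abs_nonneg _
    have h4 : 0 ≤ |x.2 j| := abs_nonneg _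
    constructor <;> omega
  have hB0 : 0 ≤ B := Finset.sum_nonneg (fun x _ => Finset.sum_nonneg (fun j _ => by positivity))
  let c : ℕ := (2 * B).toNat
  have hc : 2 * B = (c : ℤ) := by
    rw [Int.toNat_of_nonneg]; omega
  have h2c : 2 * B < ((2 ^ c : ℕ) : ℤ) := by
    rw [hc]; exact_mod_cast Nat.lt_two_pow_self
  have h3c : 2 * B < ((3 ^ c : ℕ) : ℤ) := by
    rw [hc]; exact_mod_cast Nat.lt_pow_self (by norm_num : 1 < 3)
  refine ⟨(c, c), ?_⟩
  intro x hx y hy hxy
  have hx' := hB1 x (hF₀.mem_toFinset.mpr hx)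
  have hy' := hB1 y (hF₀.mem_toFinset.mpr hy)
  apply Prod.ext
  · funext j
    apply int_eq_of_cast_eq (2 ^ c) B h2c _ _ (hx' j).1 (hy' j).1
    have := congrArg (fun z => z.1 j) hxy
    exact this
  · funext j
    apply int_eq_of_cast_eq (3 ^ c) B h3c _ _ (hx' j).2 (hy' j).2
    have := congrArg (fun z => z.2 j) hxy
    exact this

theorem red_inl_torsion (ab : ℕ × ℕ) (m : Fin r → ℤ) : (2 ^ ab.1) • red r ab (m, 0) = 0 := by
  apply Prod.ext
  · funext j
    show (2 ^ ab.1) • (red r ab (m, 0)).1 j = 0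
    rw [nsmul_eq_mul, ZMod.natCast_self, zero_mul]
  · funext j
    show (2 ^ ab.1) • (red r ab (m, 0)).2 j = 0
    rw [red_apply_snd]
    simp

theorem red_inr_torsion (ab : ℕ × ℕ) (m : Fin r → ℤ) : (3 ^ ab.2) • red r ab (0, m) = 0 := by
  apply Prod.ext
  · funext j
    show (3 ^ ab.2) • (red r ab (0, m)).1 j = 0
    rw [red_apply_fst]
    simp
  · funext j
    show (3 ^ ab.2) • (red r ab (0, m)).2 j = 0
    rw [nsmul_eq_mul, ZMod.natCast_self, zero_mul]

variable (A : Type u) [CommRing A]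

/-- the universal ring -/
abbrev UC : Type u := MonoidAlgebra A (Multiplicative (NN r))

/-- its torsion quotients -/
abbrev UCab (ab : ℕ × ℕ) : Type u := MonoidAlgebra A (Multiplicative (Nab r ab))

/-- the reduction homomorphisms -/
noncomputable def redHom (ab : ℕ × ℕ) : UC r A →+* UCab r A ab :=
  MonoidAlgebra.mapDomainRingHom A (AddMonoidHom.toMultiplicative (red r ab))

theorem redHom_jointly_injective (f : UC r A) (hf : ∀ ab, redHom r A ab f = 0) : f = 0 :=
  jointly_injective (fun ab => Nab r ab) (fun ab => red r ab) (red_injOn r) f hf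

/-- the universal characters -/
noncomputable def tau1 : Multiplicative (Fin r → ℤ) →* UC r A :=
  (MonoidAlgebra.of A (Multiplicative (NN r))).comp
    (AddMonoidHom.toMultiplicative (AddMonoidHom.inl (Fin r → ℤ) (Fin r → ℤ)))

noncomputable def tau2 : Multiplicative (Fin r → ℤ) →* UC r A :=
  (MonoidAlgebra.of A (Multiplicative (NN r))).comp
    (AddMonoidHom.toMultiplicative (AddMonoidHom.inr (Fin r → ℤ) (Fin r → ℤ)))

theorem redHom_of (ab : ℕ × ℕ) (x : Multiplicative (NN r)) :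
    redHom r A ab (MonoidAlgebra.of A _ x) =
      MonoidAlgebra.of A _ (AddMonoidHom.toMultiplicative (red r ab) x) := by
  show MonoidAlgebra.mapDomain _ (MonoidAlgebra.single x 1) = MonoidAlgebra.single _ 1
  rw [MonoidAlgebra.mapDomain_single]

theorem redHom_tau1_pow (ab : ℕ × ℕ) (m : Multiplicative (Fin r → ℤ)) :
    (redHom r A ab (tau1 r A m)) ^ (2 ^ ab.1) = 1 := by
  show (redHom r A ab (MonoidAlgebra.of A _ _)) ^ (2 ^ ab.1) = 1
  rw [redHom_of, ← map_pow]
  have : (AddMonoidHom.toMultiplicative (red r ab))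
      ((AddMonoidHom.toMultiplicative (AddMonoidHom.inl (Fin r → ℤ) (Fin r → ℤ))) m) ^ (2 ^ ab.1)
      = 1 := by
    show Multiplicative.ofAdd ((2 ^ ab.1) • red r ab (Multiplicative.toAdd m, 0)) = 1
    rw [red_inl_torsion]
    rfl
  rw [this, map_one]

theorem redHom_tau2_pow (ab : ℕ × ℕ) (m : Multiplicative (Fin r → ℤ)) :
    (redHom r A ab (tau2 r A m)) ^ (3 ^ ab.2) = 1 := by
  show (redHom r A ab (MonoidAlgebra.of A _ _)) ^ (3 ^ ab.2) = 1
  rw [redHom_of, ← map_pow]
  have : (AddMonoidHom.toMultiplicative (red r ab))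
      ((AddMonoidHom.toMultiplicative (AddMonoidHom.inr (Fin r → ℤ) (Fin r → ℤ))) m) ^ (3 ^ ab.2)
      = 1 := by
    show Multiplicative.ofAdd ((3 ^ ab.2) • red r ab (0, Multiplicative.toAdd m)) = 1
    rw [red_inr_torsion]
    rfl
  rw [this, map_one]

variable {A}

/-- the specialization at a pair of characters -/
noncomputable def evHom (χ₁ χ₂ : Multiplicative (Fin r → ℤ) →* A) : UC r A →+* A :=
  (MonoidAlgebra.lift A A (Multiplicative (NN r))
    ((χ₁.comp (AddMonoidHom.toMultiplicative (AddMonoidHom.fst (Fin r → ℤ) (Fin r → ℤ)))) *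
      (χ₂.comp (AddMonoidHom.toMultiplicative (AddMonoidHom.snd (Fin r → ℤ) (Fin r → ℤ)))))).toRingHom

theorem evHom_algebraMap (χ₁ χ₂ : Multiplicative (Fin r → ℤ) →* A) (a : A) :
    evHom r χ₁ χ₂ (algebraMap A (UC r A) a) = a := by
  show (MonoidAlgebra.lift A A (Multiplicative (NN r)) _) (algebraMap A (UC r A) a) = a
  rw [AlgHom.commutes]
  rfl

theorem evHom_tau1 (χ₁ χ₂ : Multiplicative (Fin r → ℤ) →* A) (m : Multiplicative (Fin r → ℤ)) :
    evHom r χ₁ χ₂ (tau1 r A m) = χ₁ m := by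
  show (MonoidAlgebra.lift A A (Multiplicative (NN r)) _) (MonoidAlgebra.of A _ _) = χ₁ m
  rw [MonoidAlgebra.lift_of]
  show χ₁ (Multiplicative.ofAdd (Multiplicative.toAdd m)) * χ₂ (Multiplicative.ofAdd 0) = χ₁ m
  rw [ofAdd_zero, map_one, mul_one]
  rfl

theorem evHom_tau2 (χ₁ χ₂ : Multiplicative (Fin r → ℤ) →* A) (m : Multiplicative (Fin r → ℤ)) :
    evHom r χ₁ χ₂ (tau2 r A m) = χ₂ m := by
  show (MonoidAlgebra.lift A A (Multiplicative (NN r)) _) (MonoidAlgebra.of A _ _) = χ₂ m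
  rw [MonoidAlgebra.lift_of]
  show χ₁ (Multiplicative.ofAdd 0) * χ₂ (Multiplicative.ofAdd (Multiplicative.toAdd m)) = χ₂ m
  rw [ofAdd_zero, map_one, one_mul]
  rfl

end Groth.Agent.Helper7.CE
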