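import Mathlib

/-!
# Morphisms from an affine scheme to a separated scheme agreeing on a jointly dense family (helper7)
-/

set_option autoImplicit false
set_option linter.unusedSectionVars false
set_option linter.style.haveILetI false

universe u

open CategoryTheory CategoryTheory.Limits AlgebraicGeometry

namespace Groth.Agent.Helper7.CE

/-- two morphisms from `Spec C` to a separated `S`-scheme which agree on a family of
`Spec (Cᵢ) ⟶ Spec C` with `C ⟶ ∏ Cᵢ` injective are equal -/
theorem eq_of_jointly_injective {S : Scheme.{u}} {E : Over S} [IsSeparated E.hom]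
    {C : CommRingCat.{u}} {ι : Type*} (Ci : ι → CommRingCat.{u}) (φ : ∀ i, C ⟶ Ci i)
    (hφ : ∀ c : C, (∀ i, (φ i).hom c = 0) → c = 0) (f g : Spec C ⟶ E.left)
    (hfg : f ≫ E.hom = g ≫ E.hom) (h : ∀ i, Spec.map (φ i) ≫ f = Spec.map (φ i) ≫ g) : f = g := by
  let X' : Over S := Over.mk (f ≫ E.hom)
  let f' : X' ⟶ E := Over.homMk f rfl
  let g' : X' ⟶ E := Over.homMk g hfg.symm
  haveI : IsClosedImmersion (equalizer.ι f' g').left := inferInstance
  have hinj : Function.Injective (equalizer.ι f' g').left.appTop := by
    rw [injective_iff_map_eq_zero]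
    intro c hc
    have hc' : (Scheme.ΓSpecIso C).hom c = 0 := by
      apply hφ
      intro i
      let Zi : Over S := Over.mk (Spec.map (φ i) ≫ f ≫ E.hom)
      let zi : Zi ⟶ X' := Over.homMk (Spec.map (φ i)) rfl
      have hz : zi ≫ f' = zi ≫ g' := by
        apply Over.OverMorphism.ext
        exact h i
      let li : Zi ⟶ equalizer f' g' := equalizer.lift zi hz
      have hli : li.left ≫ (equalizer.ι f' g').left = Spec.map (φ i) := by
        rw [← Over.comp_left, equalizer.lift_ι]
        rfl
      have h1 : (Spec.map (φ i)).appTop c = 0 := by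
        rw [← hli, Scheme.Hom.comp_appTop]
        show li.left.appTop ((equalizer.ι f' g').left.appTop c) = 0
        rw [hc, map_zero]
      have h2 := congrArg (fun k => k.hom c) (Scheme.ΓSpecIso_naturality (φ i))
      simp only [CommRingCat.hom_comp, RingHom.coe_comp, Function.comp_apply] at h2
      rw [← h2, h1, map_zero]
    have := congrArg (Scheme.ΓSpecIso C).inv hc'
    simpa using this
  haveI : IsAffine X'.left := inferInstanceAs (IsAffine (Spec C))
  haveI : IsIso (equalizer.ι f' g').left :=
    IsClosedImmersion.isIso_of_injective_of_isAffine hinj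
  have hcond := congrArg (fun k => k.left) (equalizer.condition f' g')
  simp only [Over.comp_left] at hcond
  exact (cancel_epi (equalizer.ι f' g').left).mp hcond

end Groth.Agent.Helper7.CE
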