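import Mathlib

/-!
# Third isomorphism theorem for quotients by a class of covers, abstractly (helper7)
-/

set_option autoImplicit false
set_option linter.style.haveILetI false
set_option linter.unusedSectionVars false
universe v u

open CategoryTheory CategoryTheory.Limits MonoidalCategory CartesianMonoidalCategory MonObj

namespace Groth.Agent.Helper7.ThirdIso

variable {C : Type u} [Category.{v} C]

theorem isPullback_of_pts {P X Y Z : C} (a : P ⟶ X) (b : P ⟶ Y) (c : X ⟶ Z) (d : Y ⟶ Z)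
    (w : a ≫ c = b ≫ d)
    (hex : ∀ {T : C} (x : T ⟶ X) (y : T ⟶ Y), x ≫ c = y ≫ d →
      ∃ z : T ⟶ P, z ≫ a = x ∧ z ≫ b = y)
    (huniq : ∀ {T : C} (z z' : T ⟶ P), z ≫ a = z' ≫ a → z ≫ b = z' ≫ b → z = z') :
    IsPullback a b c d := by
  refine ⟨⟨w⟩, ⟨PullbackCone.IsLimit.mk _ (fun s => (hex s.fst s.snd s.condition).choose)
    (fun s => (hex s.fst s.snd s.condition).choose_spec.1)
    (fun s => (hex s.fst s.snd s.condition).choose_spec.2) (fun s m h1 h2 => ?_)⟩⟩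
  exact huniq _ _ (h1.trans (hex s.fst s.snd s.condition).choose_spec.1.symm)
    (h2.trans (hex s.fst s.snd s.condition).choose_spec.2.symm)

/-- a class of "covers" -/
structure CoverClass (E : MorphismProperty C) : Prop where
  bc : E.IsStableUnderBaseChange
  comp : E.IsStableUnderComposition
  of_iso : ∀ {X Y : C} (f : X ⟶ Y) [IsIso f], E f
  cancel : ∀ {X Y Z : C} (f : X ⟶ Y) (g : Y ⟶ Z), E f → E (f ≫ g) → E g
  epi : ∀ {X Y : C} (f : X ⟶ Y), E f → Epi f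
  iso : ∀ {X Y : C} (f : X ⟶ Y), E f → Mono f → IsIso f

variable [CartesianMonoidalCategory C]

theorem isPullback_whiskerLeft (A : C) {X Y : C} (f : X ⟶ Y) :
    IsPullback (A ◁ f) (snd A X) (snd A Y) f := by
  apply isPullback_of_pts
  · simp
  · intro T x y hxy
    refine ⟨lift (x ≫ fst A Y) y, ?_, by simp⟩
    apply CartesianMonoidalCategory.hom_ext <;> simp [hxy]
  · intro T z z' h1 h2
    apply CartesianMonoidalCategory.hom_ext
    · have := congrArg (· ≫ fst A Y) h1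
      simpa using this
    · exact h2

theorem isPullback_whiskerRight {X Y : C} (f : X ⟶ Y) (A : C) :
    IsPullback (f ▷ A) (fst X A) (fst Y A) f := by
  apply isPullback_of_pts
  · simp
  · intro T x y hxy
    refine ⟨lift y (x ≫ snd Y A), ?_, by simp⟩
    apply CartesianMonoidalCategory.hom_ext <;> simp [hxy]
  · intro T z z' h1 h2
    apply CartesianMonoidalCategory.hom_ext
    · exact h2
    · have := congrArg (· ≫ snd Y A) h1
      simpa using this

section Cover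

variable {E : MorphismProperty C} (hE : CoverClass E)
include hE

theorem E_whiskerLeft (A : C) {X Y : C} (f : X ⟶ Y) (hf : E f) : E (A ◁ f) := by
  haveI := hE.bc
  exact E.of_isPullback (isPullback_whiskerLeft A f).flip hf

theorem E_whiskerRight {X Y : C} (f : X ⟶ Y) (A : C) (hf : E f) : E (f ▷ A) := by
  haveI := hE.bc
  exact E.of_isPullback (isPullback_whiskerRight f A).flip hf

theorem E_tensorHom {X Y X' Y' : C} (f : X ⟶ Y) (g : X' ⟶ Y') (hf : E f) (hg : E g) :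
    E (f ⊗ₘ g) := by
  haveI := hE.comp
  rw [MonoidalCategory.tensorHom_def]
  exact E.comp_mem _ _ (E_whiskerRight hE f X' hf) (E_whiskerLeft hE Y g hg)

theorem exists_cover_lift [HasPullbacks C] {X Y T : C} (p : X ⟶ Y) (hp : E p) (b : T ⟶ Y) :
    ∃ (T' : C) (c : T' ⟶ T) (x : T' ⟶ X), E c ∧ x ≫ p = c ≫ b := by
  haveI := hE.bc
  exact ⟨pullback b p, pullback.fst b p, pullback.snd b p, E.pullback_fst b p hp,
    pullback.condition.symm⟩

end Cover

section Quot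

variable {H G Q : C} [GrpObj G] (i : H ⟶ G) (q : G ⟶ Q)

theorem shear_pt {T : C} (g : T ⟶ G) (e : T ⟶ H) :
    lift g e ≫ (G ◁ i) ≫ μ[G] = g * (e ≫ i) := by
  rw [Hom.mul_def, ← Category.assoc]
  congr 1
  apply CartesianMonoidalCategory.hom_ext <;> simp

theorem shear_pt' {T : C} (z : T ⟶ G ⊗ H) :
    z ≫ (G ◁ i) ≫ μ[G] = (z ≫ fst G H) * (z ≫ snd G H ≫ i) := by
  rw [Hom.mul_def, ← Category.assoc]
  congr 1
  apply CartesianMonoidalCategory.hom_ext <;> simp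

variable (hq : IsPullback (fst G H) ((G ◁ i) ≫ μ[G]) q q)
include hq

theorem quot_comm {T : C} (g : T ⟶ G) (e : T ⟶ H) : (g * (e ≫ i)) ≫ q = g ≫ q := by
  have h := lift g e ≫= hq.w
  rw [lift_fst_assoc] at h
  rw [h, ← shear_pt i g e]
  simp only [Category.assoc]

theorem quot_ex {T : C} (g1 g2 : T ⟶ G) (h : g1 ≫ q = g2 ≫ q) :
    ∃ e : T ⟶ H, g2 = g1 * (e ≫ i) := by
  refine ⟨hq.lift g1 g2 h ≫ snd G H, ?_⟩
  have h1 := hq.lift_fst g1 g2 h
  have h2 := hq.lift_snd g1 g2 h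
  have h3 : hq.lift g1 g2 h = lift g1 (hq.lift g1 g2 h ≫ snd G H) := by
    apply CartesianMonoidalCategory.hom_ext <;> simp [h1]
  rw [← shear_pt, ← h3, h2]

end Quot

section Main

variable [HasPullbacks C] {E : MorphismProperty C} (hE : CoverClass E)
  {H K G QH Kb : C} [GrpObj H] [GrpObj K] [GrpObj G]
  (h : H ⟶ K) (k : K ⟶ G) [Mono h] [Mono k] [IsMonHom h] [IsMonHom k]
  (qH : G ⟶ QH) (hEqH : E qH)
  (hqH : IsPullback (fst G H) ((G ◁ (h ≫ k)) ≫ μ[G]) qH qH)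
  (qKb : K ⟶ Kb) (hEqKb : E qKb)
  (hqKb : IsPullback (fst K H) ((K ◁ h) ≫ μ[K]) qKb qKb)
  (act : QH ⊗ Kb ⟶ QH) (hact : (qH ⊗ₘ qKb) ≫ act = (G ◁ k) ≫ μ[G] ≫ qH)

include hact in
theorem act_pt {T : C} (g : T ⟶ G) (x : T ⟶ K) :
    lift (g ≫ qH) (x ≫ qKb) ≫ act = (g * (x ≫ k)) ≫ qH := by
  have h1 : lift (g ≫ qH) (x ≫ qKb) = lift g x ≫ (qH ⊗ₘ qKb) := by
    apply CartesianMonoidalCategory.hom_ext <;> simp
  rw [h1, Category.assoc, hact, ← shear_pt k g x]
  simp only [Category.assoc]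

include hE hEqH hqH hEqKb hqKb hact in
theorem part1 {QK : C} (qK : G ⟶ QK) (hEqK : E qK)
    (hqK : IsPullback (fst G K) ((G ◁ k) ≫ μ[G]) qK qK)
    (qbar : QH ⟶ QK) (hbar : qH ≫ qbar = qK) :
    E qbar ∧ IsPullback (fst QH Kb) act qbar qbar := by
  haveI := hE.bc
  haveI := hE.comp
  have hEbar : E qbar := hE.cancel qH qbar hEqH (by rw [hbar]; exact hEqK)
  have hEt : E (qH ⊗ₘ qKb) := E_tensorHom hE qH qKb hEqH hEqKb
  haveI : Epi (qH ⊗ₘ qKb) := hE.epi _ hEt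
  have hw : fst QH Kb ≫ qbar = act ≫ qbar := by
    rw [← cancel_epi (qH ⊗ₘ qKb), tensorHom_fst_assoc, hbar, reassoc_of% hact, hbar]
    have := hqK.w
    simpa only [Category.assoc] using this
  let φ : QH ⊗ Kb ⟶ pullback qbar qbar := pullback.lift (fst QH Kb) act hw
  have hφ1 : φ ≫ pullback.fst qbar qbar = fst QH Kb := pullback.lift_fst _ _ _
  have hφ2 : φ ≫ pullback.snd qbar qbar = act := pullback.lift_snd _ _ _
  -- φ is a cover
  have hEφ : E φ := by
    have hmp : E (pullback.map qK qK qbar qbar qH qH (𝟙 QK)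
        ((Category.comp_id _).trans hbar.symm) ((Category.comp_id _).trans hbar.symm)) :=
      E.pullbackMap hEqH hEqH hbar.symm hbar.symm
    have hcomp : (qH ⊗ₘ qKb) ≫ φ = hqK.isoPullback.hom ≫
        pullback.map qK qK qbar qbar qH qH (𝟙 QK)
          ((Category.comp_id _).trans hbar.symm) ((Category.comp_id _).trans hbar.symm) := by
      apply pullback.hom_ext
      · simp only [Category.assoc, hφ1, pullback.lift_fst, tensorHom_fst]
        rw [← Category.assoc, hqK.isoPullback_hom_fst]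
      · simp only [Category.assoc, hφ2, pullback.lift_snd, hact]
        rw [hqK.isoPullback_hom_snd_assoc]
        simp only [Category.assoc]
    refine hE.cancel (qH ⊗ₘ qKb) φ hEt ?_
    rw [hcomp]
    exact E.comp_mem _ _ (hE.of_iso _) hmp
  -- φ is a monomorphism
  have hmono : Mono φ := by
    constructor
    intro T z1 z2 hz
    have h1 : z1 ≫ fst QH Kb = z2 ≫ fst QH Kb := by
      have := congrArg (· ≫ pullback.fst qbar qbar) hz
      simpa only [Category.assoc, hφ1] using this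
    have h2 : z1 ≫ act = z2 ≫ act := by
      have := congrArg (· ≫ pullback.snd qbar qbar) hz
      simpa only [Category.assoc, hφ2] using this
    obtain ⟨T1, c1, g, hc1, hg⟩ := exists_cover_lift hE qH hEqH (z1 ≫ fst QH Kb)
    obtain ⟨T2, c2, x1, hc2, hx1⟩ := exists_cover_lift hE qKb hEqKb (c1 ≫ z1 ≫ snd QH Kb)
    obtain ⟨T3, c3, x2, hc3, hx2⟩ :=
      exists_cover_lift hE qKb hEqKb (c2 ≫ c1 ≫ z2 ≫ snd QH Kb)
    haveI : Epi (c3 ≫ c2 ≫ c1) := hE.epi _ (E.comp_mem _ _ hc3 (E.comp_mem _ _ hc2 hc1))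
    have e1 : (c3 ≫ c2 ≫ c1) ≫ z1 = lift ((c3 ≫ c2 ≫ g) ≫ qH) ((c3 ≫ x1) ≫ qKb) := by
      apply CartesianMonoidalCategory.hom_ext
      · simp only [Category.assoc, lift_fst, hg]
      · simp only [Category.assoc, lift_snd, hx1]
    have e2 : (c3 ≫ c2 ≫ c1) ≫ z2 = lift ((c3 ≫ c2 ≫ g) ≫ qH) (x2 ≫ qKb) := by
      apply CartesianMonoidalCategory.hom_ext
      · simp only [Category.assoc, lift_fst, hg, ← h1]
      · simp only [Category.assoc, lift_snd, hx2]
    have e3 : ((c3 ≫ c2 ≫ g) * ((c3 ≫ x1) ≫ k)) ≫ qH = ((c3 ≫ c2 ≫ g) * (x2 ≫ k)) ≫ qH := by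
      rw [← act_pt k qH qKb act hact, ← act_pt k qH qKb act hact, ← e1, ← e2]
      simp only [Category.assoc, h2]
    obtain ⟨e, he⟩ := quot_ex (h ≫ k) qH hqH _ _ e3
    have e4 : x2 = (c3 ≫ x1) * (e ≫ h) := by
      rw [← cancel_mono k, MonObj.mul_comp]
      rw [_root_.mul_assoc] at he
      have := mul_left_cancel he
      simpa only [Category.assoc] using this
    have e5 : x2 ≫ qKb = (c3 ≫ x1) ≫ qKb := by
      rw [e4]
      exact quot_comm h qKb hqKb (c3 ≫ x1) e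
    rw [← cancel_epi (c3 ≫ c2 ≫ c1), e1, e2, e5]
  haveI : IsIso φ := hE.iso φ hEφ hmono
  exact ⟨hEbar, IsPullback.of_iso_pullback ⟨hw⟩ (asIso φ) hφ1 hφ2⟩

omit [HasPullbacks C] in
theorem shear2_pt {T : C} (z : T ⟶ G ⊗ (K ⊗ H)) :
    z ≫ (G ◁ ((K ◁ h) ≫ μ[K])) ≫ (G ◁ k) ≫ μ[G] =
      ((z ≫ fst G (K ⊗ H)) * ((z ≫ snd G (K ⊗ H) ≫ fst K H) ≫ k)) *
        ((z ≫ snd G (K ⊗ H) ≫ snd K H) ≫ h ≫ k) := by
  have h1 : z ≫ snd G (K ⊗ H) ≫ ((K ◁ h) ≫ μ[K]) ≫ k =
      ((z ≫ snd G (K ⊗ H) ≫ fst K H) ≫ k) * ((z ≫ snd G (K ⊗ H) ≫ snd K H) ≫ h ≫ k) := by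
    calc z ≫ snd G (K ⊗ H) ≫ ((K ◁ h) ≫ μ[K]) ≫ k
        = ((z ≫ snd G (K ⊗ H)) ≫ (K ◁ h) ≫ μ[K]) ≫ k := by simp only [Category.assoc]
      _ = (((z ≫ snd G (K ⊗ H)) ≫ fst K H) * ((z ≫ snd G (K ⊗ H)) ≫ snd K H ≫ h)) ≫ k := by
          rw [shear_pt']
      _ = _ := by rw [MonObj.mul_comp]; simp only [Category.assoc]
  rw [← Category.assoc, shear_pt']
  simp only [Category.assoc, whiskerLeft_fst, whiskerLeft_snd_assoc] at h1 ⊢
  rw [h1, _root_.mul_assoc]

include hE hEqH hqH hEqKb hqKb hact in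
theorem part2 {Y : C} (p : QH ⟶ Y) (hEp : E p) (hpp : IsPullback (fst QH Kb) act p p) :
    E (qH ≫ p) ∧ IsPullback (fst G K) ((G ◁ k) ≫ μ[G]) (qH ≫ p) (qH ≫ p) := by
  haveI := hE.bc
  haveI := hE.comp
  have hEc : E (qH ≫ p) := E.comp_mem _ _ hEqH hEp
  have hw : fst G K ≫ qH ≫ p = ((G ◁ k) ≫ μ[G]) ≫ qH ≫ p := by
    have h1 : ((G ◁ k) ≫ μ[G]) ≫ qH ≫ p = (qH ⊗ₘ qKb) ≫ act ≫ p := by
      rw [reassoc_of% hact]; simp only [Category.assoc]
    rw [h1, ← hpp.w, tensorHom_fst_assoc]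
  let ξ : G ⊗ K ⟶ pullback (qH ≫ p) (qH ≫ p) := pullback.lift (fst G K) ((G ◁ k) ≫ μ[G]) hw
  have hξ1 : ξ ≫ pullback.fst (qH ≫ p) (qH ≫ p) = fst G K := pullback.lift_fst _ _ _
  have hξ2 : ξ ≫ pullback.snd (qH ≫ p) (qH ≫ p) = (G ◁ k) ≫ μ[G] := pullback.lift_snd _ _ _
  have hmono : Mono ξ := by
    constructor
    intro T z1 z2 hz
    have h1 : z1 ≫ fst G K = z2 ≫ fst G K := by
      have := congrArg (· ≫ pullback.fst (qH ≫ p) (qH ≫ p)) hz
      simpa only [Category.assoc, hξ1] using this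
    have h2 : z1 ≫ (G ◁ k) ≫ μ[G] = z2 ≫ (G ◁ k) ≫ μ[G] := by
      have := congrArg (· ≫ pullback.snd (qH ≫ p) (qH ≫ p)) hz
      simpa only [Category.assoc, hξ2] using this
    rw [shear_pt', shear_pt', h1] at h2
    have h3 := mul_left_cancel h2
    have h4 : z1 ≫ snd G K = z2 ≫ snd G K := by
      rw [← cancel_mono k]
      simpa only [Category.assoc] using h3
    exact CartesianMonoidalCategory.hom_ext _ _ h1 h4
  have hl : (pullback.fst (qH ≫ p) (qH ≫ p) ≫ qH) ≫ p =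
      (pullback.snd (qH ≫ p) (qH ≫ p) ≫ qH) ≫ p := by
    simpa only [Category.assoc] using pullback.condition (f := qH ≫ p) (g := qH ≫ p)
  let l : pullback (qH ≫ p) (qH ≫ p) ⟶ QH ⊗ Kb := hpp.lift _ _ hl
  have hl1 : l ≫ fst QH Kb = pullback.fst (qH ≫ p) (qH ≫ p) ≫ qH := hpp.lift_fst _ _ _
  have hl2 : l ≫ act = pullback.snd (qH ≫ p) (qH ≫ p) ≫ qH := hpp.lift_snd _ _ _
  have hEm : E ((K ◁ h) ≫ μ[K]) := E.of_isPullback hqKb hEqKb
  have hEf : E (G ◁ ((K ◁ h) ≫ μ[K])) := E_whiskerLeft hE G _ hEm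
  have hsq : IsPullback ((G ◁ ((K ◁ h) ≫ μ[K])) ≫ ξ) (snd G (K ⊗ H) ≫ fst K H)
      (l ≫ snd QH Kb) qKb := by
    apply isPullback_of_pts
    · have h0 : ((G ◁ ((K ◁ h) ≫ μ[K])) ≫ ξ) ≫ l =
          lift (fst G (K ⊗ H) ≫ qH) ((snd G (K ⊗ H) ≫ fst K H) ≫ qKb) := by
        apply hpp.hom_ext
        · simp only [Category.assoc, hl1, lift_fst]
          rw [reassoc_of% hξ1, whiskerLeft_fst_assoc]
        · rw [act_pt k qH qKb act hact]
          simp only [Category.assoc, hl2]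
          rw [reassoc_of% hξ2]
          have h5 := shear2_pt h k (𝟙 (G ⊗ (K ⊗ H)))
          simp only [Category.id_comp] at h5
          have h6 : (G ◁ ((K ◁ h) ≫ μ[K])) ≫ (G ◁ k) ≫ μ[G] ≫ qH =
              ((G ◁ ((K ◁ h) ≫ μ[K])) ≫ (G ◁ k) ≫ μ[G]) ≫ qH := by
            simp only [Category.assoc]
          rw [h6, h5]
          have h7 := quot_comm (h ≫ k) qH hqH
            (fst G (K ⊗ H) * (snd G (K ⊗ H) ≫ fst K H) ≫ k) (snd G (K ⊗ H) ≫ snd K H)
          simpa only [Category.assoc] using h7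
      rw [← Category.assoc, h0, lift_snd]
    · intro T x y hxy
      have hx : x ≫ l = lift ((x ≫ pullback.fst (qH ≫ p) (qH ≫ p)) ≫ qH) (y ≫ qKb) := by
        apply CartesianMonoidalCategory.hom_ext
        · simp only [Category.assoc, hl1, lift_fst]
        · simp only [Category.assoc, lift_snd]
          simpa only [Category.assoc] using hxy
      have h3 : ((x ≫ pullback.fst (qH ≫ p) (qH ≫ p)) * (y ≫ k)) ≫ qH =
          (x ≫ pullback.snd (qH ≫ p) (qH ≫ p)) ≫ qH := by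
        rw [← act_pt k qH qKb act hact, ← hx, Category.assoc, hl2, Category.assoc]
      obtain ⟨e, he⟩ := quot_ex (h ≫ k) qH hqH _ _ h3
      refine ⟨lift (x ≫ pullback.fst (qH ≫ p) (qH ≫ p)) (lift y e), ?_, by simp⟩
      apply pullback.hom_ext
      · simp only [Category.assoc, hξ1, whiskerLeft_fst, lift_fst]
      · simp only [Category.assoc, hξ2]
        rw [shear2_pt, he]
        simp
    · intro T z z' h1 h2
      have a1 : z ≫ fst G (K ⊗ H) = z' ≫ fst G (K ⊗ H) := by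
        have := congrArg (· ≫ pullback.fst (qH ≫ p) (qH ≫ p)) h1
        simpa only [Category.assoc, hξ1, whiskerLeft_fst] using this
      have a2 : z ≫ (G ◁ ((K ◁ h) ≫ μ[K])) ≫ (G ◁ k) ≫ μ[G] =
          z' ≫ (G ◁ ((K ◁ h) ≫ μ[K])) ≫ (G ◁ k) ≫ μ[G] := by
        have := congrArg (· ≫ pullback.snd (qH ≫ p) (qH ≫ p)) h1
        simpa only [Category.assoc, hξ2] using this
      have a3 : z ≫ snd G (K ⊗ H) ≫ fst K H = z' ≫ snd G (K ⊗ H) ≫ fst K H := by
        simpa only [Category.assoc] using h2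
      rw [shear2_pt, shear2_pt, a1, a3] at a2
      have a4 := mul_left_cancel a2
      have a5 : z ≫ snd G (K ⊗ H) ≫ snd K H = z' ≫ snd G (K ⊗ H) ≫ snd K H := by
        rw [← cancel_mono (h ≫ k)]
        simpa only [Category.assoc] using a4
      apply CartesianMonoidalCategory.hom_ext _ _ a1
      apply CartesianMonoidalCategory.hom_ext
      · simpa only [Category.assoc] using a3
      · simpa only [Category.assoc] using a5
  have hEfξ : E ((G ◁ ((K ◁ h) ≫ μ[K])) ≫ ξ) := E.of_isPullback hsq.flip hEqKb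
  have hEξ : E ξ := hE.cancel _ _ hEf hEfξ
  haveI : IsIso ξ := hE.iso ξ hEξ hmono
  exact ⟨hEc, IsPullback.of_iso_pullback ⟨by simpa only [Category.assoc] using hw⟩ (asIso ξ)
    hξ1 hξ2⟩

end Main

end Groth.Agent.Helper7.ThirdIso
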