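import Mathlib
import Groth.Agent.Lib.Helper7.MTRigE
import Groth.Agent.Lib.Helper18.GrpFppf3
import Groth.Agent.Lib.Helper7.ThirdIsoA

/-!
# Extensions of a group with connected fibres by a group of multiplicative type are central
(helper7)
-/

set_option autoImplicit false
set_option linter.style.haveILetI false
set_option linter.unusedSectionVars false
universe u
open CategoryTheory CategoryTheory.Limits MonoidalCategory CartesianMonoidalCategory MonObj
  AlgebraicGeometry

noncomputable section

namespace Groth.Agent.Helper7.MTRig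

open Groth.Agent.Helper18

variable {S : Scheme.{u}} {E H U : Over S} [GrpObj E] [GrpObj H] [GrpObj U]
  (p : E ⟶ U) [IsMonHom p] (i : H ⟶ E) [IsMonHom i] (hker : AlgGrp.IsKernel i p)

include hker in
theorem mono_of_isKernel : Mono i := by
  constructor
  intro T a b hab
  exact hker.hom_ext hab (toUnit_unique _ _)

include hker in
theorem exists_of_comp_eq_one {T : Over S} (e : T ⟶ E) (he : e ≫ p = 1) :
    ∃ k : T ⟶ H, k ≫ i = e :=
  ⟨hker.lift e (toUnit T) (by rw [he]; rfl), hker.lift_fst _ _ _⟩

include hker in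
theorem comp_i_comp_p {T : Over S} (h : T ⟶ H) : (h ≫ i) ≫ p = 1 := by
  rw [Category.assoc, hker.w, ← Category.assoc]
  have : h ≫ toUnit H = toUnit T := toUnit_unique _ _
  rw [this]
  rfl

include hker in
theorem exists_conj {T : Over S} (e : T ⟶ E) (h : T ⟶ H) :
    ∃ h' : T ⟶ H, h' ≫ i = e * (h ≫ i) * e⁻¹ := by
  apply exists_of_comp_eq_one p i hker
  rw [MonObj.mul_comp _ _ p, MonObj.mul_comp _ _ p, comp_i_comp_p p i hker, _root_.mul_one,
    ← MonObj.mul_comp, mul_inv_cancel, MonObj.one_comp]

variable [Surjective p.left] [Flat p.left] [QuasiCompact p.left]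
  (hcomm : ∀ (T : Over S) (a b : T ⟶ H), a * b = b * a)
  (hrig : ∀ c : U ⊗ H ⟶ H,
    (∀ (T : Over S) (k : T ⟶ U) (h h' : T ⟶ H),
      lift k (h * h') ≫ c = (lift k h ≫ c) * (lift k h' ≫ c)) →
    (∀ (T : Over S) (h : T ⟶ H), lift (toUnit T ≫ η[U]) h ≫ c = h) → c = snd U H)

include hker hcomm hrig in
theorem central_of_extension (X : Over S) (h : X ⟶ H) (e : X ⟶ E) :
    (h ≫ i) * e = e * (h ≫ i) := by
  haveI : Mono i := mono_of_isKernel p i hker
  obtain ⟨cE, hcE⟩ := exists_conj p i hker (fst E H) (snd E H)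
  have hptE : ∀ (T : Over S) (e : T ⟶ E) (h : T ⟶ H),
      (lift e h ≫ cE) ≫ i = e * (h ≫ i) * e⁻¹ := by
    intro T e h
    rw [Category.assoc, hcE, MonObj.comp_mul, MonObj.comp_mul, GrpObj.comp_inv, lift_fst,
      lift_snd_assoc]
  -- the whiskered quotient map is an effective epimorphism
  have hsq : IsPullback (p ▷ H).left (fst E H).left (fst U H).left p.left :=
    (Groth.Agent.Helper7.ThirdIso.isPullback_whiskerRight p H).map (Over.forget S)
  haveI : Surjective (p ▷ H).left := MorphismProperty.of_isPullback (P := @Surjective) hsq.flip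
    inferInstance
  haveI : Flat (p ▷ H).left := MorphismProperty.of_isPullback (P := @Flat) hsq.flip inferInstance
  haveI : QuasiCompact (p ▷ H).left :=
    MorphismProperty.of_isPullback (P := @QuasiCompact) hsq.flip inferInstance
  haveI : EffectiveEpi (p ▷ H).left := inferInstance
  obtain ⟨cU, hcU⟩ := GrpFppf.exists_desc_of_cover (p ▷ H) cE (by
    intro T a b hab
    have ha : a = lift (a ≫ fst E H) (a ≫ snd E H) := by
      apply CartesianMonoidalCategory.hom_ext <;> simp
    have hb : b = lift (b ≫ fst E H) (b ≫ snd E H) := by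
      apply CartesianMonoidalCategory.hom_ext <;> simp
    have h1 : (a ≫ fst E H) ≫ p = (b ≫ fst E H) ≫ p := by
      have := congrArg (· ≫ fst U H) hab
      simpa only [Category.assoc, whiskerRight_fst] using this
    have h2 : a ≫ snd E H = b ≫ snd E H := by
      have := congrArg (· ≫ snd U H) hab
      simpa only [Category.assoc, whiskerRight_snd] using this
    set e₁ := a ≫ fst E H
    set e₂ := b ≫ fst E H
    set hh := a ≫ snd E H
    obtain ⟨k, hk⟩ := exists_of_comp_eq_one p i hker (e₁⁻¹ * e₂) (by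
      rw [MonObj.mul_comp _ _ p, ← h1, ← MonObj.mul_comp, inv_mul_cancel, MonObj.one_comp])
    rw [ha, hb, ← h2, ← cancel_mono i, hptE, hptE]
    have he₂ : e₂ = e₁ * (k ≫ i) := by rw [hk]; group
    have hkh : (k ≫ i) * (hh ≫ i) * (k ≫ i)⁻¹ = hh ≫ i := by
      rw [← MonObj.mul_comp, hcomm T k hh, MonObj.mul_comp]
      group
    rw [he₂]
    calc e₁ * (hh ≫ i) * e₁⁻¹ = e₁ * ((k ≫ i) * (hh ≫ i) * (k ≫ i)⁻¹) * e₁⁻¹ := by rw [hkh]
      _ = e₁ * (k ≫ i) * (hh ≫ i) * (e₁ * (k ≫ i))⁻¹ := by group)
  have hlift : ∀ (T : Over S) (e : T ⟶ E) (h : T ⟶ H),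
      lift (e ≫ p) h ≫ cU = lift e h ≫ cE := by
    intro T e h
    rw [← hcU, ← Category.assoc]
    congr 1
    apply CartesianMonoidalCategory.hom_ext
    · rw [lift_fst, Category.assoc, whiskerRight_fst, lift_fst_assoc]
    · rw [lift_snd, Category.assoc, whiskerRight_snd, lift_snd]
  have hcUs : cU = snd U H := by
    apply hrig
    · intro T k h h'
      -- lift `k` locally to `E`
      let T' : Over S := pullback k p
      let c : T' ⟶ T := pullback.fst k p
      let x : T' ⟶ E := pullback.snd k p
      have hx : x ≫ p = c ≫ k := pullback.condition.symm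
      have hsq' : IsPullback c.left x.left k.left p.left :=
        (IsPullback.of_hasPullback k p).map (Over.forget S)
      haveI : Surjective c.left := MorphismProperty.of_isPullback (P := @Surjective) hsq'.flip
        inferInstance
      haveI : Flat c.left := MorphismProperty.of_isPullback (P := @Flat) hsq'.flip inferInstance
      haveI : Epi c := GrpFppf.epi_of_flat_surjective c
      rw [← cancel_epi c, MonObj.comp_mul, ← Category.assoc, ← Category.assoc, ← Category.assoc,
        comp_lift, comp_lift, comp_lift, ← hx, hlift, hlift, hlift, MonObj.comp_mul,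
        ← cancel_mono i, hptE, MonObj.mul_comp (c ≫ h) (c ≫ h') i,
        MonObj.mul_comp (lift x (c ≫ h) ≫ cE) (lift x (c ≫ h') ≫ cE) i, hptE, hptE]
      group
    · intro T h
      have h1 : toUnit T ≫ η[U] = (1 : T ⟶ E) ≫ p := by
        rw [MonObj.one_comp]; rfl
      rw [h1, hlift, ← cancel_mono i, hptE]
      group
  have h3 := hptE X e h
  rw [← hlift, hcUs, lift_snd] at h3
  calc (h ≫ i) * e = (e * (h ≫ i) * e⁻¹) * e := by rw [← h3]
    _ = e * (h ≫ i) := by group

end Groth.Agent.Helper7.MTRig
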