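import Mathlib
import Groth.Agent.Lib.Helper7.MTRigF

/-!
# Central extensions: descent of the commutator pairing (helper7)

For a flat, surjective, quasi-compact homomorphism `q : E ⟶ T` with central kernel and commutative
target, the commutator of `E` descends to a pairing `β : T ⊗ T ⟶ E`; it is trivial on pairs of
points of coprime finite orders.
-/

set_option autoImplicit false
set_option linter.unusedSectionVars false
set_option linter.style.haveILetI false

universe u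

open CategoryTheory CategoryTheory.Limits MonoidalCategory CartesianMonoidalCategory MonObj GrpObj
  AlgebraicGeometry

namespace Groth.Agent.Helper7.CE

open Groth.Agent.Helper18

section GroupTheory

variable {Γ : Type*} [Group Γ]

theorem comm_central (x y a b : Γ) (ha : ∀ z, a * z = z * a) (hb : ∀ z, b * z = z * b) :
    (x * a) * (y * b) * (x * a)⁻¹ * (y * b)⁻¹ = x * y * x⁻¹ * y⁻¹ := by
  have h1 : a * (y * b) * a⁻¹ = y * b := by rw [ha, mul_inv_cancel_right]
  have h2 : b * x⁻¹ = x⁻¹ * b := hb _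
  calc (x * a) * (y * b) * (x * a)⁻¹ * (y * b)⁻¹
      = x * (a * (y * b) * a⁻¹) * x⁻¹ * (y * b)⁻¹ := by group
    _ = x * (y * b) * x⁻¹ * (y * b)⁻¹ := by rw [h1]
    _ = x * y * (b * x⁻¹) * b⁻¹ * y⁻¹ := by group
    _ = x * y * (x⁻¹ * b) * b⁻¹ * y⁻¹ := by rw [h2]
    _ = x * y * x⁻¹ * y⁻¹ := by group

/-- if the commutator `[x, y]` is central then `[x ^ m, y] = [x, y] ^ m` -/
theorem comm_pow_left (x y : Γ) (hc : ∀ z, (x * y * x⁻¹ * y⁻¹) * z = z * (x * y * x⁻¹ * y⁻¹))
    (m : ℕ) : x ^ m * y * (x ^ m)⁻¹ * y⁻¹ = (x * y * x⁻¹ * y⁻¹) ^ m := by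
  induction m with
  | zero => simp
  | succ m ih =>
    set c := x * y * x⁻¹ * y⁻¹ with hcdef
    have h1 : x * y * x⁻¹ = c * y := by rw [hcdef]; group
    calc x ^ (m + 1) * y * (x ^ (m + 1))⁻¹ * y⁻¹
        = x ^ m * (x * y * x⁻¹) * (x ^ m)⁻¹ * y⁻¹ := by rw [pow_succ]; group
      _ = x ^ m * (c * y) * (x ^ m)⁻¹ * y⁻¹ := by rw [h1]
      _ = x ^ m * c * y * (x ^ m)⁻¹ * y⁻¹ := by group
      _ = c * x ^ m * y * (x ^ m)⁻¹ * y⁻¹ := by rw [← hc (x ^ m)]
      _ = c * (x ^ m * y * (x ^ m)⁻¹ * y⁻¹) := by group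
      _ = c * c ^ m := by rw [ih]
      _ = c ^ (m + 1) := by rw [pow_succ']

/-- if the commutator `[x, y]` is central then `[x, y ^ n] = [x, y] ^ n` -/
theorem comm_pow_right (x y : Γ) (hc : ∀ z, (x * y * x⁻¹ * y⁻¹) * z = z * (x * y * x⁻¹ * y⁻¹))
    (n : ℕ) : x * y ^ n * x⁻¹ * (y ^ n)⁻¹ = (x * y * x⁻¹ * y⁻¹) ^ n := by
  induction n with
  | zero => simp
  | succ n ih =>
    set c := x * y * x⁻¹ * y⁻¹ with hcdef
    have h1 : x * y * x⁻¹ = c * y := by rw [hcdef]; group
    calc x * y ^ (n + 1) * x⁻¹ * (y ^ (n + 1))⁻¹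
        = (x * y ^ n * x⁻¹ * (y ^ n)⁻¹) * (y ^ n * (x * y * x⁻¹) * y⁻¹ * (y ^ n)⁻¹) := by
          rw [pow_succ]; group
      _ = c ^ n * (y ^ n * (c * y) * y⁻¹ * (y ^ n)⁻¹) := by rw [ih, h1]
      _ = c ^ n * (y ^ n * c * (y ^ n)⁻¹) := by group
      _ = c ^ n * (c * y ^ n * (y ^ n)⁻¹) := by rw [← hc (y ^ n)]
      _ = c ^ n * c := by group
      _ = c ^ (n + 1) := by rw [pow_succ]

theorem eq_one_of_pow_coprime (c : Γ) (m n : ℕ) (hmn : Nat.Coprime m n) (hm : c ^ m = 1)
    (hn : c ^ n = 1) : c = 1 := by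
  have h : c ^ Nat.gcd m n = 1 := pow_gcd_eq_one.mpr ⟨hm, hn⟩
  rw [Nat.Coprime] at hmn
  rwa [hmn, pow_one] at h

end GroupTheory

variable {S : Scheme.{u}} {E T : Over S} [GrpObj E] [GrpObj T] (q : E ⟶ T) [IsMonHom q]

theorem pow_comp {X : Over S} (x : X ⟶ E) (m : ℕ) : (x ^ m) ≫ q = (x ≫ q) ^ m := by
  induction m with
  | zero => rw [pow_zero, pow_zero, MonObj.one_comp]
  | succ m ih => rw [pow_succ, pow_succ, MonObj.mul_comp, ih]

theorem comp_pow {X Y : Over S} (c : Y ⟶ X) (x : X ⟶ E) (m : ℕ) : c ≫ (x ^ m) = (c ≫ x) ^ m := by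
  induction m with
  | zero => rw [pow_zero, pow_zero, MonObj.comp_one]
  | succ m ih => rw [pow_succ, pow_succ, MonObj.comp_mul, ih]

/-- `(x, y) ↦ x y x⁻¹ y⁻¹` -/
noncomputable def kmap : E ⊗ E ⟶ E := fst E E * snd E E * (fst E E)⁻¹ * (snd E E)⁻¹

theorem lift_kmap {X : Over S} (x y : X ⟶ E) :
    lift x y ≫ kmap (E := E) = x * y * x⁻¹ * y⁻¹ := by
  simp [kmap, MonObj.comp_mul, GrpObj.comp_inv]

variable [Surjective q.left] [Flat q.left] [QuasiCompact q.left]
  (hcen : ∀ (X : Over S) (z : X ⟶ E), z ≫ q = 1 → ∀ g : X ⟶ E, z * g = g * z)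
  (hT : ∀ (X : Over S) (a b : X ⟶ T), a * b = b * a)

theorem tensorHom_props :
    Surjective (q ⊗ₘ q).left ∧ Flat (q ⊗ₘ q).left ∧ QuasiCompact (q ⊗ₘ q).left := by
  have hsq : IsPullback (q ▷ E).left (fst E E).left (fst T E).left q.left :=
    (Groth.Agent.Helper7.ThirdIso.isPullback_whiskerRight q E).map (Over.forget S)
  have hsq' : IsPullback (T ◁ q).left (snd T E).left (snd T T).left q.left :=
    (Groth.Agent.Helper7.ThirdIso.isPullback_whiskerLeft T q).map (Over.forget S)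
  haveI : Surjective (q ▷ E).left := MorphismProperty.of_isPullback (P := @Surjective) hsq.flip
    inferInstance
  haveI : Flat (q ▷ E).left := MorphismProperty.of_isPullback (P := @Flat) hsq.flip inferInstance
  haveI : QuasiCompact (q ▷ E).left :=
    MorphismProperty.of_isPullback (P := @QuasiCompact) hsq.flip inferInstance
  haveI : Surjective (T ◁ q).left := MorphismProperty.of_isPullback (P := @Surjective) hsq'.flip
    inferInstance
  haveI : Flat (T ◁ q).left := MorphismProperty.of_isPullback (P := @Flat) hsq'.flip inferInstance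
  haveI : QuasiCompact (T ◁ q).left :=
    MorphismProperty.of_isPullback (P := @QuasiCompact) hsq'.flip inferInstance
  have e : (q ⊗ₘ q).left = (q ▷ E).left ≫ (T ◁ q).left := by
    rw [← Over.comp_left, ← MonoidalCategory.tensorHom_def]
  rw [e]
  exact ⟨inferInstance, inferInstance, inferInstance⟩

include hcen hT in
/-- values of the commutator are central -/
theorem comm_central_val {X : Over S} (x y : X ⟶ E) (z : X ⟶ E) :
    (x * y * x⁻¹ * y⁻¹) * z = z * (x * y * x⁻¹ * y⁻¹) := by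
  apply hcen
  rw [MonObj.mul_comp _ _ q, MonObj.mul_comp _ _ q, MonObj.mul_comp _ _ q, GrpObj.inv_comp,
    GrpObj.inv_comp, hT X (x ≫ q) (y ≫ q)]
  group

include hcen hT in
/-- the commutator descends to the quotient -/
theorem exists_beta : ∃ β : T ⊗ T ⟶ E, ∀ (X : Over S) (x y : X ⟶ E),
    lift (x ≫ q) (y ≫ q) ≫ β = x * y * x⁻¹ * y⁻¹ := by
  obtain ⟨h1, h2, h3⟩ := tensorHom_props q
  haveI := h1
  haveI := h2
  haveI := h3
  haveI : EffectiveEpi (q ⊗ₘ q).left := inferInstance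
  obtain ⟨β, hβ⟩ := GrpFppf.exists_desc_of_cover (q ⊗ₘ q) (kmap (E := E)) (by
    intro V a b hab
    have ha : a = lift (a ≫ fst E E) (a ≫ snd E E) := by
      apply CartesianMonoidalCategory.hom_ext <;> simp
    have hb : b = lift (b ≫ fst E E) (b ≫ snd E E) := by
      apply CartesianMonoidalCategory.hom_ext <;> simp
    have h1 : (a ≫ fst E E) ≫ q = (b ≫ fst E E) ≫ q := by
      have := congrArg (fun k => k ≫ fst T T) hab
      simpa using this
    have h2 : (a ≫ snd E E) ≫ q = (b ≫ snd E E) ≫ q := by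
      have := congrArg (fun k => k ≫ snd T T) hab
      simpa using this
    set x := a ≫ fst E E
    set y := a ≫ snd E E
    set x' := b ≫ fst E E
    set y' := b ≫ snd E E
    have hx : x' = x * (x⁻¹ * x') := by group
    have hy : y' = y * (y⁻¹ * y') := by group
    have hxc : ∀ z : V ⟶ E, (x⁻¹ * x') * z = z * (x⁻¹ * x') := by
      apply hcen
      rw [MonObj.mul_comp _ _ q, GrpObj.inv_comp, h1, inv_mul_cancel]
    have hyc : ∀ z : V ⟶ E, (y⁻¹ * y') * z = z * (y⁻¹ * y') := by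
      apply hcen
      rw [MonObj.mul_comp _ _ q, GrpObj.inv_comp, h2, inv_mul_cancel]
    rw [ha, hb, lift_kmap, lift_kmap, hx, hy]
    exact (comm_central x y _ _ hxc hyc).symm)
  refine ⟨β, fun X x y => ?_⟩
  rw [← lift_kmap, ← hβ, ← Category.assoc]
  congr 1
  apply CartesianMonoidalCategory.hom_ext <;> simp

include hcen hT in
/-- the descended commutator is trivial on pairs of points of coprime orders -/
theorem beta_eq_one_of_coprime (β : T ⊗ T ⟶ E)
    (hβ : ∀ (X : Over S) (x y : X ⟶ E), lift (x ≫ q) (y ≫ q) ≫ β = x * y * x⁻¹ * y⁻¹)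
    {X : Over S} (t s : X ⟶ T) (m n : ℕ) (hmn : Nat.Coprime m n) (ht : t ^ m = 1)
    (hs : s ^ n = 1) : lift t s ≫ β = 1 := by
  obtain ⟨h1, h2, h3⟩ := tensorHom_props q
  haveI := h1
  haveI := h2
  let X' : Over S := pullback (lift t s) (q ⊗ₘ q)
  let c : X' ⟶ X := pullback.fst (lift t s) (q ⊗ₘ q)
  let w : X' ⟶ E ⊗ E := pullback.snd (lift t s) (q ⊗ₘ q)
  have hw : w ≫ (q ⊗ₘ q) = c ≫ lift t s := pullback.condition.symm
  have hsq' : IsPullback c.left w.left (lift t s).left (q ⊗ₘ q).left :=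
    (IsPullback.of_hasPullback (lift t s) (q ⊗ₘ q)).map (Over.forget S)
  haveI : Surjective c.left := MorphismProperty.of_isPullback (P := @Surjective) hsq'.flip
    inferInstance
  haveI : Flat c.left := MorphismProperty.of_isPullback (P := @Flat) hsq'.flip inferInstance
  haveI : Epi c := GrpFppf.epi_of_flat_surjective c
  set x : X' ⟶ E := w ≫ fst E E
  set y : X' ⟶ E := w ≫ snd E E
  have hxq : x ≫ q = c ≫ t := by
    have := congrArg (fun k => k ≫ fst T T) hw
    simpa [x] using this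
  have hyq : y ≫ q = c ≫ s := by
    have := congrArg (fun k => k ≫ snd T T) hw
    simpa [y] using this
  rw [← cancel_epi c, MonObj.comp_one, ← Category.assoc, comp_lift, ← hxq, ← hyq, hβ]
  have hc := comm_central_val q hcen hT x y
  apply eq_one_of_pow_coprime _ m n hmn
  · rw [← comm_pow_left x y hc m]
    have hz : ∀ g : X' ⟶ E, (x ^ m) * g = g * (x ^ m) := by
      apply hcen
      rw [pow_comp, hxq, ← comp_pow, ht, MonObj.comp_one]
    rw [hz y]
    group
  · rw [← comm_pow_right x y hc n]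
    have hz : ∀ g : X' ⟶ E, (y ^ n) * g = g * (y ^ n) := by
      apply hcen
      rw [pow_comp, hyq, ← comp_pow, hs, MonObj.comp_one]
    rw [← hz x]
    group

include hcen hT in
theorem comm_of_beta_eq_one
    (hβ1 : ∀ β : T ⊗ T ⟶ E, (∀ (X : Over S) (t s : X ⟶ T) (m n : ℕ), Nat.Coprime m n →
      t ^ m = 1 → s ^ n = 1 → lift t s ≫ β = 1) → β = 1)
    (X : Over S) (x y : X ⟶ E) : x * y = y * x := by
  obtain ⟨β, hβ⟩ := exists_beta q hcen hT
  have h1 : β = 1 := hβ1 β (fun X t s m n hmn ht hs =>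
    beta_eq_one_of_coprime q hcen hT β hβ t s m n hmn ht hs)
  have h2 := hβ X x y
  rw [h1, MonObj.comp_one] at h2
  have h3 : x * y * x⁻¹ * y⁻¹ = 1 := h2.symm
  rw [mul_inv_eq_one, mul_inv_eq_iff_eq_mul] at h3
  exact h3

end Groth.Agent.Helper7.CE
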