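import Mathlib
import Groth.Agent.Lib.Helper7.CEA
import Groth.Agent.Lib.Helper7.CEB
import Groth.Agent.Lib.Helper7.CED

/-!
# A pairing on a torus trivial on coprime torsion is trivial (helper7)
-/

set_option autoImplicit false
set_option linter.unusedSectionVars false
set_option linter.style.haveILetI false

universe u

open CategoryTheory CategoryTheory.Limits MonoidalCategory CartesianMonoidalCategory MonObj GrpObj
  AlgebraicGeometry

namespace Groth.Agent.Helper7.CE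

open Groth.Agent.Helper18 Groth.Agent.Helper7.MTRig

section DnLemmas

variable {S U : Scheme.{u}} (g : U ⟶ S) (G : Over S) [GrpObj G]

theorem dn_one {X : Over U} : BcPts.dn g G (1 : X ⟶ Red.bc g G) = 1 := by
  have h := BcPts.dn_mul g G (1 : X ⟶ Red.bc g G) 1
  rw [_root_.mul_one] at h
  have h' : BcPts.dn g G (1 : X ⟶ Red.bc g G) * BcPts.dn g G 1 = BcPts.dn g G 1 * 1 := by
    rw [← h, _root_.mul_one]
  exact mul_left_cancel h'

theorem dn_pow {X : Over U} (a : X ⟶ Red.bc g G) (m : ℕ) :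
    BcPts.dn g G (a ^ m) = (BcPts.dn g G a) ^ m := by
  induction m with
  | zero => rw [pow_zero, pow_zero, dn_one]
  | succ m ih => rw [pow_succ, pow_succ, BcPts.dn_mul, ih]

end DnLemmas

section Split

variable {S U : Scheme.{u}} (g : U ⟶ S) {T E : Over S} [GrpObj T] [GrpObj E] [IsSeparated E.hom]
  (r : ℕ) (φ : Red.bc g T ⟶ Red.DS U (Fin r → ℤ)) (φ' : Red.DS U (Fin r → ℤ) ⟶ Red.bc g T)
  [IsMonHom φ] [IsMonHom φ'] (h12 : φ ≫ φ' = 𝟙 _)
  (β : T ⊗ T ⟶ E)
  (hβ : ∀ (X : Over S) (t s : X ⟶ T) (m n : ℕ), Nat.Coprime m n → t ^ m = 1 → s ^ n = 1 →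
    lift t s ≫ β = 1)

include h12 hβ in
theorem beta_affine_pt (A : CommRingCat.{u}) (a : Spec A ⟶ U)
    (t s : (Over.map g).obj (Over.mk a) ⟶ T) : lift t s ≫ β = 1 := by
  let X₀ : Over U := Over.mk a
  let gam : Γ(Spec A, ⊤) →* A := ((Scheme.ΓSpecIso A).hom.hom : Γ(Spec A, ⊤) →+* A)
  let χt : Multiplicative (Fin r → ℤ) →* A := gam.comp (DSPts.charOfPt (up g T t ≫ φ))
  let χs : Multiplicative (Fin r → ℤ) →* A := gam.comp (DSPts.charOfPt (up g T s ≫ φ))
  let C : CommRingCat.{u} := CommRingCat.of (UC r A)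
  let ιC : A ⟶ C := CommRingCat.ofHom (algebraMap A (UC r A))
  let X₁ : Over U := Over.mk (Spec.map ιC ≫ a)
  let ev : C ⟶ A := CommRingCat.ofHom (evHom r χt χs)
  have hev : ιC ≫ ev = 𝟙 A := by
    ext x
    exact evHom_algebraMap r χt χs x
  let σ : X₀ ⟶ X₁ := Over.homMk (Spec.map ev) (by
    show Spec.map ev ≫ Spec.map ιC ≫ a = a
    rw [← Category.assoc, ← Spec.map_comp, hev, Spec.map_id, Category.id_comp])
  let gamC : (UC r A) →* Γ(Spec C, ⊤) := ((Scheme.ΓSpecIso C).inv.hom : C →+* Γ(Spec C, ⊤))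
  let P₁ : X₁ ⟶ Red.DS U (Fin r → ℤ) := DSPts.ptOfChar (T := X₁) (gamC.comp (tau1 r A))
  let P₂ : X₁ ⟶ Red.DS U (Fin r → ℤ) := DSPts.ptOfChar (T := X₁) (gamC.comp (tau2 r A))
  -- naturality of the global sections isomorphism
  have hnat : ∀ {C₁ C₂ : CommRingCat.{u}} (ψ : C₁ ⟶ C₂) (c : C₁),
      (Spec.map ψ).appTop.hom ((Scheme.ΓSpecIso C₁).inv.hom c) =
        (Scheme.ΓSpecIso C₂).inv.hom (ψ.hom c) := by
    intro C₁ C₂ ψ c
    have := congrArg (fun k => k.hom c) (Scheme.ΓSpecIso_inv_naturality ψ)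
    simp only [CommRingCat.hom_comp, RingHom.coe_comp, Function.comp_apply] at this
    exact this.symm
  have hgam : ∀ x : Γ(Spec A, ⊤), (Scheme.ΓSpecIso A).inv.hom (gam x) = x := by
    intro x
    change ((Scheme.ΓSpecIso A).hom ≫ (Scheme.ΓSpecIso A).inv).hom x = x
    rw [Iso.hom_inv_id]
    rfl
  have hσ1 : σ ≫ P₁ = up g T t ≫ φ := by
    apply DSPts.charOfPt_injective
    rw [DSPts.charOfPt_comp, DSPts.charOfPt_ptOfChar]
    apply MonoidHom.ext
    intro m
    show (Spec.map ev).appTop.hom ((Scheme.ΓSpecIso C).inv.hom (tau1 r A m)) = _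
    rw [hnat ev]
    show (Scheme.ΓSpecIso A).inv.hom (evHom r χt χs (tau1 r A m)) = _
    rw [evHom_tau1]
    exact hgam _
  have hσ2 : σ ≫ P₂ = up g T s ≫ φ := by
    apply DSPts.charOfPt_injective
    rw [DSPts.charOfPt_comp, DSPts.charOfPt_ptOfChar]
    apply MonoidHom.ext
    intro m
    show (Spec.map ev).appTop.hom ((Scheme.ΓSpecIso C).inv.hom (tau2 r A m)) = _
    rw [hnat ev]
    show (Scheme.ΓSpecIso A).inv.hom (evHom r χt χs (tau2 r A m)) = _
    rw [evHom_tau2]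
    exact hgam _
  let t₁ : (Over.map g).obj X₁ ⟶ T := BcPts.dn g T (P₁ ≫ φ')
  let s₁ : (Over.map g).obj X₁ ⟶ T := BcPts.dn g T (P₂ ≫ φ')
  have ht₁ : (Over.map g).map σ ≫ t₁ = t := by
    rw [← BcPts.dn_comp, ← Category.assoc, hσ1, Category.assoc, h12, Category.comp_id, dn_up]
  have hs₁ : (Over.map g).map σ ≫ s₁ = s := by
    rw [← BcPts.dn_comp, ← Category.assoc, hσ2, Category.assoc, h12, Category.comp_id, dn_up]
  -- the universal pair is killed
  have huniv : lift t₁ s₁ ≫ β = 1 := by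
    apply Over.OverMorphism.ext
    apply eq_of_jointly_injective (E := E) (C := C) (fun ab : ℕ × ℕ => CommRingCat.of (UCab r A ab))
      (fun ab => CommRingCat.ofHom (redHom r A ab))
      (fun c hc => redHom_jointly_injective r A c hc) (lift t₁ s₁ ≫ β).left
      (1 : (Over.map g).obj X₁ ⟶ E).left (by rw [Over.w, Over.w])
    intro ab
    let ψ : C ⟶ CommRingCat.of (UCab r A ab) := CommRingCat.ofHom (redHom r A ab)
    let X₂ : Over U := Over.mk (Spec.map ψ ≫ Spec.map ιC ≫ a)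
    let j : X₂ ⟶ X₁ := Over.homMk (Spec.map ψ) rfl
    have hP₁ : (j ≫ P₁) ^ (2 ^ ab.1) = 1 := by
      apply DSPts.charOfPt_injective
      rw [DSPts.charOfPt_one]
      have : DSPts.charOfPt ((j ≫ P₁) ^ (2 ^ ab.1)) = (DSPts.charOfPt (j ≫ P₁)) ^ (2 ^ ab.1) :=
        map_pow (DSPts.equiv (M := Fin r → ℤ) X₂) _ _
      rw [this, DSPts.charOfPt_comp, DSPts.charOfPt_ptOfChar]
      apply MonoidHom.ext
      intro m
      show ((Spec.map ψ).appTop.hom ((Scheme.ΓSpecIso C).inv.hom (tau1 r A m))) ^ (2 ^ ab.1) = 1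
      rw [hnat ψ, ← map_pow]
      show (Scheme.ΓSpecIso _).inv.hom ((redHom r A ab (tau1 r A m)) ^ (2 ^ ab.1)) = 1
      rw [redHom_tau1_pow, map_one]
    have hP₂ : (j ≫ P₂) ^ (3 ^ ab.2) = 1 := by
      apply DSPts.charOfPt_injective
      rw [DSPts.charOfPt_one]
      have : DSPts.charOfPt ((j ≫ P₂) ^ (3 ^ ab.2)) = (DSPts.charOfPt (j ≫ P₂)) ^ (3 ^ ab.2) :=
        map_pow (DSPts.equiv (M := Fin r → ℤ) X₂) _ _
      rw [this, DSPts.charOfPt_comp, DSPts.charOfPt_ptOfChar]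
      apply MonoidHom.ext
      intro m
      show ((Spec.map ψ).appTop.hom ((Scheme.ΓSpecIso C).inv.hom (tau2 r A m))) ^ (3 ^ ab.2) = 1
      rw [hnat ψ, ← map_pow]
      show (Scheme.ΓSpecIso _).inv.hom ((redHom r A ab (tau2 r A m)) ^ (3 ^ ab.2)) = 1
      rw [redHom_tau2_pow, map_one]
    have ht₂ : ((Over.map g).map j ≫ t₁) ^ (2 ^ ab.1) = 1 := by
      rw [← BcPts.dn_comp, ← dn_pow, ← Category.assoc, ← pow_comp φ', hP₁, MonObj.one_comp, dn_one]
    have hs₂ : ((Over.map g).map j ≫ s₁) ^ (3 ^ ab.2) = 1 := by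
      rw [← BcPts.dn_comp, ← dn_pow, ← Category.assoc, ← pow_comp φ', hP₂, MonObj.one_comp, dn_one]
    have hcop : Nat.Coprime (2 ^ ab.1) (3 ^ ab.2) := Nat.Coprime.pow _ _ (by norm_num)
    have h1 := hβ _ _ _ _ _ hcop ht₂ hs₂
    rw [← comp_lift, Category.assoc] at h1
    have h3 : ((Over.map g).map j ≫ (1 : (Over.map g).obj X₁ ⟶ E)) = 1 := MonObj.comp_one _
    have h5 : (Over.map g).map j ≫ (lift t₁ s₁ ≫ β) = (Over.map g).map j ≫ 1 := h1.trans h3.symm
    exact congrArg (fun k => k.left) h5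
  rw [← ht₁, ← hs₁, ← comp_lift, Category.assoc, huniv, MonObj.comp_one]

end Split

section Main

variable {S : Scheme.{u}} {T E : Over S} [GrpObj T] [GrpObj E] [IsSeparated E.hom]

/-- a pairing on a torus with values in a separated group which kills pairs of points of coprime
orders is trivial -/
theorem beta_eq_one_of_isTorus (hT : Red.IsTorus T) (β : T ⊗ T ⟶ E)
    (hβ : ∀ (X : Over S) (t s : X ⟶ T) (m n : ℕ), Nat.Coprime m n → t ^ m = 1 → s ^ n = 1 →
      lift t s ≫ β = 1) : β = 1 := by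
  obtain ⟨S', f, hflat, hsurj, -, hloc⟩ := hT
  haveI := hflat
  haveI := hsurj
  choose Uo hUo r e' using hloc
  apply hom_ext_of_cover f Uo hUo
  intro s'
  let g : (Uo s' : Scheme.{u}) ⟶ S := (Uo s').ι ≫ f
  let iso := (e' s').some
  let φ : Red.bc g T ⟶ Red.DS (Uo s' : Scheme.{u}) (Fin (r s') → ℤ) := iso.hom.hom.hom
  let φ' : Red.DS (Uo s' : Scheme.{u}) (Fin (r s') → ℤ) ⟶ Red.bc g T := iso.inv.hom.hom
  have h2 : φ ≫ φ' = 𝟙 _ := by
    have := congrArg (fun k => k.hom.hom) iso.hom_inv_id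
    exact this
  let W : Scheme.{u} := pullback (T ⊗ T).hom g
  apply Scheme.Cover.hom_ext W.affineCover
  intro i
  let a : W.affineCover.X i ⟶ (Uo s' : Scheme.{u}) := W.affineCover.f i ≫ pullback.snd (T ⊗ T).hom g
  let p : (Over.map g).obj (Over.mk a) ⟶ T ⊗ T :=
    Over.homMk (W.affineCover.f i ≫ pullback.fst (T ⊗ T).hom g) (by
      show (W.affineCover.f i ≫ pullback.fst (T ⊗ T).hom g) ≫ (T ⊗ T).hom =
        (W.affineCover.f i ≫ pullback.snd (T ⊗ T).hom g) ≫ g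
      rw [Category.assoc, Category.assoc, pullback.condition])
  have hp : p = lift (p ≫ fst T T) (p ≫ snd T T) := by
    apply CartesianMonoidalCategory.hom_ext <;> simp
  have key : p ≫ β = p ≫ 1 := by
    rw [MonObj.comp_one, hp]
    exact beta_affine_pt g (r s') φ φ' h2 β hβ _ a _ _
  have := congrArg (fun k => k.left) key
  simp only [Over.comp_left] at this
  simpa [p] using this

end Main

end Groth.Agent.Helper7.CE
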