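import Mathlib
import Groth.Agent.Lib.Helper7.CEE
import Groth.Agent.Lib.Helper17.AC1

/-!
# The action of a split diagonalisable group on points over a base change (helper7)
-/

set_option autoImplicit false
set_option linter.unusedSectionVars false
set_option linter.style.haveILetI false

universe u

open CategoryTheory CategoryTheory.Limits MonoidalCategory CartesianMonoidalCategory MonObj GrpObj
  AlgebraicGeometry

namespace Groth.Agent.Helper7.Nil

open Groth.Agent.Helper18 Groth.Agent.Helper7.MTRig Groth.Agent.Helper7.CE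

variable {S : Scheme.{u}} {G X : Over S} [GrpObj G] (a : AlgGrp.Action G X)
  {U : Scheme.{u}} (g₀ : U ⟶ S) {M : Type} [AddCommGroup M]
  (φ' : Red.DS U M ⟶ Red.bc g₀ G) [IsMonHom φ']

/-- the action on points over `U`, through the splitting -/
noncomputable def act' {Y : Over U} (gm : Y ⟶ Red.DS U M) (x : Y ⟶ Red.bc g₀ X) : Y ⟶ Red.bc g₀ X :=
  up g₀ X (lift (BcPts.dn g₀ G (gm ≫ φ')) (BcPts.dn g₀ X x) ≫ a.act)

theorem act'_comp {Y Y' : Over U} (f : Y' ⟶ Y) (gm : Y ⟶ Red.DS U M) (x : Y ⟶ Red.bc g₀ X) :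
    f ≫ act' a g₀ φ' gm x = act' a g₀ φ' (f ≫ gm) (f ≫ x) := by
  rw [act', act', up_comp, ← Category.assoc, comp_lift, ← BcPts.dn_comp, ← BcPts.dn_comp,
    Category.assoc]

theorem act'_one {Y : Over U} (x : Y ⟶ Red.bc g₀ X) :
    act' a g₀ φ' (1 : Y ⟶ Red.DS U M) x = x := by
  rw [act', MonObj.one_comp, dn_one]
  have h := Groth.Agent.Helper17.AC1.act_one a (BcPts.dn g₀ X x)
  have h1 : (1 : (Over.map g₀).obj Y ⟶ G) = toUnit _ ≫ η[G] := rfl
  rw [h1, h, up_dn]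

theorem act'_mul {Y : Over U} (gm gm' : Y ⟶ Red.DS U M) (x : Y ⟶ Red.bc g₀ X) :
    act' a g₀ φ' (gm * gm') x = act' a g₀ φ' gm (act' a g₀ φ' gm' x) := by
  rw [act', act', act', MonObj.mul_comp gm gm' φ', BcPts.dn_mul, Groth.Agent.Helper17.AC1.act_mul,
    dn_up]

/-- triviality over the closed subscheme -/
theorem act'_thin {S₀ : Scheme.{u}} (i₀ : S₀ ⟶ S)
    (h0 : ∀ (Y : Over S) (_ : Y ⟶ Over.mk i₀) (g : Y ⟶ G) (x : Y ⟶ X), lift g x ≫ a.act = x)
    {Y : Over U} (l : Y.left ⟶ S₀) (hl : l ≫ i₀ = Y.hom ≫ g₀)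
    (gm : Y ⟶ Red.DS U M) (x : Y ⟶ Red.bc g₀ X) : act' a g₀ φ' gm x = x := by
  rw [act', h0 _ (Over.homMk l hl), up_dn]

end Groth.Agent.Helper7.Nil
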