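import Mathlib
import Groth.Agent.Lib.Helper7.NilA
import Groth.Agent.Lib.Helper7.NilB
import Groth.Agent.Lib.Helper7.NilC

/-!
# Points of a split diagonalisable group over affine test schemes (helper7)
-/

set_option autoImplicit false
set_option linter.unusedSectionVars false
set_option linter.style.haveILetI false

universe u

open CategoryTheory CategoryTheory.Limits MonoidalCategory CartesianMonoidalCategory MonObj GrpObj
  AlgebraicGeometry

namespace Groth.Agent.Helper7.Nil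

open Groth.Agent.Helper18 Groth.Agent.Helper7.MTRig Groth.Agent.Helper7.CE

theorem gamInv_nat {C₁ C₂ : CommRingCat.{u}} (ψ : C₁ ⟶ C₂) (c : C₁) :
    (Spec.map ψ).appTop.hom ((Scheme.ΓSpecIso C₁).inv.hom c) =
      (Scheme.ΓSpecIso C₂).inv.hom (ψ.hom c) := by
  have := congrArg (fun k => k.hom c) (Scheme.ΓSpecIso_inv_naturality ψ)
  simp only [CommRingCat.hom_comp, RingHom.coe_comp, Function.comp_apply] at this
  exact this.symm

variable {U : Scheme.{u}} {M : Type} [AddCommGroup M]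

/-- the point of `D_U(M)` over an affine test scheme given by a character -/
noncomputable def gpt {D : CommRingCat.{u}} (d : Spec D ⟶ U) (χ : Multiplicative M →* D) :
    Over.mk d ⟶ Red.DS U M :=
  DSPts.ptOfChar (T := Over.mk d)
    ((((Scheme.ΓSpecIso D).inv.hom : D →+* Γ(Spec D, ⊤)) : D →* Γ(Spec D, ⊤)).comp χ)

/-- the morphism of affine test schemes given by a ring homomorphism -/
noncomputable def pb {D D' : CommRingCat.{u}} (ψ : D ⟶ D') {d : Spec D ⟶ U} {d' : Spec D' ⟶ U}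
    (h : Spec.map ψ ≫ d = d') : Over.mk d' ⟶ Over.mk d :=
  Over.homMk (Spec.map ψ) h

theorem pb_left {D D' : CommRingCat.{u}} (ψ : D ⟶ D') {d : Spec D ⟶ U} {d' : Spec D' ⟶ U}
    (h : Spec.map ψ ≫ d = d') : (pb ψ h).left = Spec.map ψ := rfl

theorem pb_comp {D D' D'' : CommRingCat.{u}} (ψ : D ⟶ D') (ψ' : D' ⟶ D'') {d : Spec D ⟶ U}
    {d' : Spec D' ⟶ U} {d'' : Spec D'' ⟶ U} (h : Spec.map ψ ≫ d = d')
    (h' : Spec.map ψ' ≫ d' = d'') :
    pb ψ' h' ≫ pb ψ h = pb (ψ ≫ ψ') (by rw [Spec.map_comp, Category.assoc, h, h']) := by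
  apply Over.OverMorphism.ext
  show Spec.map ψ' ≫ Spec.map ψ = Spec.map (ψ ≫ ψ')
  rw [Spec.map_comp]

theorem gpt_pb {D D' : CommRingCat.{u}} (ψ : D ⟶ D') {d : Spec D ⟶ U} {d' : Spec D' ⟶ U}
    (h : Spec.map ψ ≫ d = d') (χ : Multiplicative M →* D) :
    pb ψ h ≫ gpt d χ = gpt d' ((ψ.hom : D →* D').comp χ) := by
  rw [gpt, gpt, DSPts.ptOfChar_comp]
  congr 1
  apply MonoidHom.ext
  intro m
  exact gamInv_nat ψ (χ m)

theorem gpt_mul {D : CommRingCat.{u}} (d : Spec D ⟶ U) (χ χ' : Multiplicative M →* D) :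
    gpt d (χ * χ') = gpt d χ * gpt d χ' := by
  rw [gpt, MonoidHom.comp_mul, DSPts.ptOfChar_mul]
  rfl

theorem gpt_one {D : CommRingCat.{u}} (d : Spec D ⟶ U) :
    gpt d (1 : Multiplicative M →* D) = 1 := by
  rw [gpt, MonoidHom.comp_one, DSPts.ptOfChar_one]

/-- every point is given by a character -/
theorem exists_gpt {D : CommRingCat.{u}} (d : Spec D ⟶ U) (gm : Over.mk d ⟶ Red.DS U M) :
    ∃ χ : Multiplicative M →* D, gm = gpt d χ := by
  refine ⟨(((Scheme.ΓSpecIso D).hom.hom : Γ(Spec D, ⊤) →+* D) : Γ(Spec D, ⊤) →* D).comp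
    (DSPts.charOfPt gm), ?_⟩
  rw [gpt]
  apply DSPts.charOfPt_injective
  rw [DSPts.charOfPt_ptOfChar]
  apply MonoidHom.ext
  intro m
  show _ = (Scheme.ΓSpecIso D).inv.hom ((Scheme.ΓSpecIso D).hom.hom (DSPts.charOfPt gm m))
  change _ = ((Scheme.ΓSpecIso D).hom ≫ (Scheme.ΓSpecIso D).inv).hom (DSPts.charOfPt gm m)
  rw [Iso.hom_inv_id]
  rfl

section Chart

variable {S : Scheme.{u}} {X : Over S} (g₀ : U ⟶ S) {C : CommRingCat.{u}} {w : Spec C ⟶ U}
  (j : Over.mk w ⟶ Red.bc g₀ X) [IsOpenImmersion j.left]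

/-- a chart is a monomorphism -/
theorem pb_chart_injective {D : CommRingCat.{u}} {d : Spec D ⟶ U} (ψ₁ ψ₂ : C ⟶ D)
    (h₁ : Spec.map ψ₁ ≫ w = d) (h₂ : Spec.map ψ₂ ≫ w = d) (h : pb ψ₁ h₁ ≫ j = pb ψ₂ h₂ ≫ j) :
    ψ₁ = ψ₂ := by
  have h' := congrArg (fun k => k.left) h
  simp only [Over.comp_left, pb_left] at h'
  exact Spec.map_injective ((cancel_mono j.left).mp h')

/-- a point with the same underlying map as a point of the chart lies in the chart -/
theorem exists_pb_of_range {D : CommRingCat.{u}} {d : Spec D ⟶ U} (o : Over.mk d ⟶ Red.bc g₀ X)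
    (H : Set.range o.left ⊆ Set.range j.left) :
    ∃ (ω : C ⟶ D) (hω : Spec.map ω ≫ w = d), o = pb ω hω ≫ j := by
  let l : Spec D ⟶ Spec C := IsOpenImmersion.lift j.left o.left H
  have hl : l ≫ j.left = o.left := IsOpenImmersion.lift_fac _ _ _
  have hω : Spec.map (Spec.preimage l) ≫ w = d := by
    rw [Spec.map_preimage]
    have h1 : j.left ≫ (Red.bc g₀ X).hom = w := Over.w j
    have h2 : o.left ≫ (Red.bc g₀ X).hom = d := Over.w o
    rw [← h1, ← Category.assoc, hl, h2]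
  refine ⟨Spec.preimage l, hω, ?_⟩
  apply Over.OverMorphism.ext
  show o.left = Spec.map (Spec.preimage l) ≫ j.left
  rw [Spec.map_preimage, hl]

end Chart

end Groth.Agent.Helper7.Nil
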