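import Mathlib
import Groth.Agent.Lib.Helper7.NilD

/-!
# A diagonalisable group acting trivially modulo a nilpotent ideal acts trivially: charts (helper7)
-/

set_option autoImplicit false
set_option linter.unusedSectionVars false
set_option linter.style.haveILetI false

universe u

open CategoryTheory CategoryTheory.Limits MonoidalCategory CartesianMonoidalCategory MonObj GrpObj
  AlgebraicGeometry

namespace Groth.Agent.Helper7.Nil

open Groth.Agent.Helper18 Groth.Agent.Helper7.MTRig Groth.Agent.Helper7.CE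

theorem pb_congr {U : Scheme.{u}} {D D' : CommRingCat.{u}} {ψ ψ' : D ⟶ D'} (e : ψ = ψ')
    {d : Spec D ⟶ U} {d' : Spec D' ⟶ U} (h : Spec.map ψ ≫ d = d') (h' : Spec.map ψ' ≫ d = d') :
    pb ψ h = pb ψ' h' := by
  subst e; rfl

theorem isNilpotent_map {R D : Type*} [CommRing R] [CommRing D] (f : R →+* D) (I : Ideal R)
    (hI : IsNilpotent I) : IsNilpotent (Ideal.map f I) := by
  obtain ⟨n, hn⟩ := hI
  refine ⟨n, ?_⟩
  rw [← Ideal.map_pow, hn, Ideal.zero_eq_bot, Ideal.map_bot]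
  rfl

theorem range_subset_of_mod {U : Scheme.{u}} {D : CommRingCat.{u}} {d : Spec D ⟶ U} {Y : Over U}
    (K : Ideal D) (hK : IsNilpotent K) (o x : Over.mk d ⟶ Y)
    (h : pb (CommRingCat.ofHom (Ideal.Quotient.mk K)) (rfl : _ = Spec.map _ ≫ d) ≫ o =
      pb (CommRingCat.ofHom (Ideal.Quotient.mk K)) rfl ≫ x) :
    Set.range o.left ⊆ Set.range x.left := by
  rintro _ ⟨p, rfl⟩
  obtain ⟨p₀, rfl⟩ := surjective_specMap_mk K hK p
  have h1 := congrArg (fun k => k.left) h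
  simp only [Over.comp_left, pb_left] at h1
  refine ⟨(Spec.map (CommRingCat.ofHom (Ideal.Quotient.mk K))) p₀, ?_⟩
  have h3 : (Spec.map (CommRingCat.ofHom (Ideal.Quotient.mk K)) ≫ o.left) p₀ =
      (Spec.map (CommRingCat.ofHom (Ideal.Quotient.mk K)) ≫ x.left) p₀ := by rw [h1]
  rw [Scheme.Hom.comp_apply, Scheme.Hom.comp_apply] at h3
  exact h3.symm

section Main

variable {S S₀ : Scheme.{u}} (i₀ : S₀ ⟶ S) [IsClosedImmersion i₀] {G X : Over S} [GrpObj G]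
  (a : AlgGrp.Action G X)
  (h0 : ∀ (Y : Over S) (_ : Y ⟶ Over.mk i₀) (g : Y ⟶ G) (x : Y ⟶ X), lift g x ≫ a.act = x)
  {U : Scheme.{u}} (g₀ : U ⟶ S) {M : Type} [AddCommGroup M]
  (φ' : Red.DS U M ⟶ Red.bc g₀ G) [IsMonHom φ']
  (V : S.affineOpens)

include h0 in
theorem act'_mod {D : CommRingCat.{u}} (d : Spec D ⟶ U) (hd : ⊤ ≤ (d ≫ g₀) ⁻¹ᵁ V.1)
    (gm : Over.mk d ⟶ Red.DS U M) (x : Over.mk d ⟶ Red.bc g₀ X) :
    pb (CommRingCat.ofHom (Ideal.Quotient.mk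
        (Ideal.map (sc V.1 (d ≫ g₀) hd) (i₀.ker.ideal V)))) (rfl : _ = Spec.map _ ≫ d) ≫
      act' a g₀ φ' gm x =
    pb (CommRingCat.ofHom (Ideal.Quotient.mk
        (Ideal.map (sc V.1 (d ≫ g₀) hd) (i₀.ker.ideal V)))) rfl ≫ x := by
  obtain ⟨l, hl⟩ := exists_lift i₀ V (d ≫ g₀) hd
    (Ideal.map (sc V.1 (d ≫ g₀) hd) (i₀.ker.ideal V)) (fun r hr => Ideal.mem_map_of_mem _ hr)
  rw [act'_comp]
  exact act'_thin a g₀ φ' i₀ h0 l (by rw [hl]; exact (Category.assoc _ _ _).symm) _ _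

end Main

end Groth.Agent.Helper7.Nil
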