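import Mathlib
import Groth.Agent.Lib.Helper7.NilE

/-!
# A diagonalisable group acting trivially modulo a nilpotent ideal acts trivially on a chart
(helper7)
-/

set_option autoImplicit false
set_option linter.unusedSectionVars false
set_option linter.style.haveILetI false

universe u

open CategoryTheory CategoryTheory.Limits MonoidalCategory CartesianMonoidalCategory MonObj GrpObj
  AlgebraicGeometry

namespace Groth.Agent.Helper7.Nil

open Groth.Agent.Helper18 Groth.Agent.Helper7.MTRig Groth.Agent.Helper7.CE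

theorem pb_comp_assoc {U : Scheme.{u}} {D D' D'' : CommRingCat.{u}} (ψ : D ⟶ D') (ψ' : D' ⟶ D'')
    {d : Spec D ⟶ U} {d' : Spec D' ⟶ U} {d'' : Spec D'' ⟶ U} (h : Spec.map ψ ≫ d = d')
    (h' : Spec.map ψ' ≫ d' = d'') {Y : Over U} (k : Over.mk d ⟶ Y) :
    pb ψ' h' ≫ pb ψ h ≫ k = pb (ψ ≫ ψ') (by rw [Spec.map_comp, Category.assoc, h, h']) ≫ k := by
  rw [← Category.assoc, pb_comp]

variable {S S₀ : Scheme.{u}} (i₀ : S₀ ⟶ S) [IsClosedImmersion i₀] {G X : Over S} [GrpObj G]
  (a : AlgGrp.Action G X)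
  (h0 : ∀ (Y : Over S) (_ : Y ⟶ Over.mk i₀) (g : Y ⟶ G) (x : Y ⟶ X), lift g x ≫ a.act = x)
  {U : Scheme.{u}} (g₀ : U ⟶ S) {M : Type} [AddCommGroup M]
  (φ' : Red.DS U M ⟶ Red.bc g₀ G) [IsMonHom φ']
  (V : S.affineOpens) (hV : IsNilpotent (i₀.ker.ideal V))
  {C : CommRingCat.{u}} {w : Spec C ⟶ U} (hw : ⊤ ≤ (w ≫ g₀) ⁻¹ᵁ V.1)
  (j : Over.mk w ⟶ Red.bc g₀ X) [IsOpenImmersion j.left]

include h0 hV hw in
/-- the universal orbit over a chart is constant -/
theorem act'_universal :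
    act' a g₀ φ'
      (gpt (Spec.map (CommRingCat.ofHom (algebraMap C (MonoidAlgebra C (Multiplicative M)))) ≫ w)
        (MonoidAlgebra.of C (Multiplicative M)))
      (pb (CommRingCat.ofHom (algebraMap C (MonoidAlgebra C (Multiplicative M)))) rfl ≫ j) =
    pb (CommRingCat.ofHom (algebraMap C (MonoidAlgebra C (Multiplicative M)))) rfl ≫ j := by
  classical
  let Mm := Multiplicative M
  let A : CommRingCat.{u} := CommRingCat.of (MonoidAlgebra C Mm)
  let io : C ⟶ A := CommRingCat.ofHom (algebraMap C (MonoidAlgebra C Mm))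
  let z : Spec A ⟶ U := Spec.map io ≫ w
  let χu : Mm →* A := MonoidAlgebra.of C Mm
  let xu : Over.mk z ⟶ Red.bc g₀ X := pb io rfl ≫ j
  let o : Over.mk z ⟶ Red.bc g₀ X := act' a g₀ φ' (gpt z χu) xu
  show o = xu
  -- the scalars
  have hz : ⊤ ≤ (z ≫ g₀) ⁻¹ᵁ V.1 := by
    have := top_le_preimage_comp V.1 io (w ≫ g₀) hw
    rwa [← Category.assoc] at this
  let ρC : Γ(S, V.1) →+* C := sc V.1 (w ≫ g₀) hw
  let KC : Ideal C := Ideal.map ρC (i₀.ker.ideal V)
  let KA : Ideal A := Ideal.map (sc V.1 (z ≫ g₀) hz) (i₀.ker.ideal V)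
  have hscz : sc V.1 (z ≫ g₀) hz = io.hom.comp ρC := by
    rw [← sc_comp V.1 io (w ≫ g₀) hw]
    exact sc_congr V.1 (Category.assoc _ _ _) hz
  have hKA : KA = Ideal.map io.hom KC := by
    show Ideal.map (sc V.1 (z ≫ g₀) hz) _ = Ideal.map io.hom (Ideal.map ρC _)
    rw [hscz, Ideal.map_map]
  have hKAnil : IsNilpotent KA := isNilpotent_map _ _ hV
  -- Step 1: the orbit lies in the chart
  have hmod : pb (CommRingCat.ofHom (Ideal.Quotient.mk KA)) (rfl : _ = Spec.map _ ≫ z) ≫ o =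
      pb (CommRingCat.ofHom (Ideal.Quotient.mk KA)) rfl ≫ xu :=
    act'_mod i₀ a h0 g₀ φ' V z hz (gpt z χu) xu
  have hrange : Set.range o.left ⊆ Set.range j.left := by
    refine (range_subset_of_mod KA hKAnil o xu hmod).trans ?_
    rintro _ ⟨p, rfl⟩
    exact ⟨(Spec.map io) p, by
      show j.left ((Spec.map io) p) = (Spec.map io ≫ j.left) p
      rw [Scheme.Hom.comp_apply]⟩
  obtain ⟨ω, hω, ho⟩ := exists_pb_of_range g₀ j o hrange
  -- Step 3: triviality modulo the ideal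
  have hmodω : ∀ c : C, ω.hom c - io.hom c ∈ KA := by
    intro c
    have hmod' : pb (CommRingCat.ofHom (Ideal.Quotient.mk KA)) (rfl : _ = Spec.map _ ≫ z) ≫
        pb ω hω ≫ j = pb (CommRingCat.ofHom (Ideal.Quotient.mk KA)) rfl ≫ pb io rfl ≫ j := by
      rw [← ho]; exact hmod
    rw [pb_comp_assoc, pb_comp_assoc] at hmod'
    have h3 := pb_chart_injective g₀ j _ _ _ _ hmod'
    have h4 := congrArg (fun k => k.hom c) h3
    simp only [CommRingCat.hom_comp, RingHom.coe_comp, Function.comp_apply,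
      CommRingCat.hom_ofHom] at h4
    rw [← Ideal.Quotient.eq]
    exact h4
  -- Step 4: linearity over the scalars
  have hlinω : ∀ r, ω.hom (ρC r) = io.hom (ρC r) := by
    intro r
    have e1 : Spec.map ω ≫ (w ≫ g₀) = Spec.map io ≫ (w ≫ g₀) := by
      rw [← Category.assoc, hω, ← Category.assoc]
    have h1 := sc_comp V.1 ω (w ≫ g₀) hw
    have h2 := sc_comp V.1 io (w ≫ g₀) hw
    have h3 := sc_congr V.1 e1 (top_le_preimage_comp V.1 ω (w ≫ g₀) hw)
    rw [h1, h2] at h3
    exact congrArg (fun f => f r) h3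
  -- Step 2: coassociativity
  let A₂ : CommRingCat.{u} := CommRingCat.of (MonoidAlgebra C (Mm × Mm))
  let io₂ : C ⟶ A₂ := CommRingCat.ofHom (algebraMap C (MonoidAlgebra C (Mm × Mm)))
  let z₂ : Spec A₂ ⟶ U := Spec.map io₂ ≫ w
  let dl : A ⟶ A₂ := CommRingCat.ofHom (diagHom (C := C) (G := Mm))
  let j2 : A ⟶ A₂ := CommRingCat.ofHom (inrHom (C := C) (G := Mm))
  let Th : A ⟶ A₂ := CommRingCat.ofHom (twHom (C := C) (G := Mm) ω.hom)
  have hdlio : io ≫ dl = io₂ := by
    apply CommRingCat.hom_ext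
    apply RingHom.ext
    intro c
    show diagHom (MonoidAlgebra.single (1 : Mm) c) = MonoidAlgebra.single (1 : Mm × Mm) c
    show MonoidAlgebra.mapDomain _ (MonoidAlgebra.single (1 : Mm) c) = _
    rw [MonoidAlgebra.mapDomain_single]
    rfl
  have hj2io : io ≫ j2 = io₂ := by
    apply CommRingCat.hom_ext
    apply RingHom.ext
    intro c
    show MonoidAlgebra.mapDomain _ (MonoidAlgebra.single (1 : Mm) c) =
      MonoidAlgebra.single (1 : Mm × Mm) c
    rw [MonoidAlgebra.mapDomain_single]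
    rfl
  have hThio : io ≫ Th = ω ≫ j2 := by
    apply CommRingCat.hom_ext
    apply RingHom.ext
    intro c
    show twHom ω.hom (MonoidAlgebra.single (1 : Mm) c) = inrHom (ω.hom c)
    rw [twHom, MonoidAlgebra.liftNCRingHom_single]
    show inrHom (ω.hom c) * (MonoidAlgebra.of C (Mm × Mm)) ((MonoidHom.inl Mm Mm) 1) = _
    rw [map_one, map_one, _root_.mul_one]
  let χ₁ : Mm →* A₂ := (MonoidAlgebra.of C (Mm × Mm)).comp (MonoidHom.inl Mm Mm)
  let χ₂ : Mm →* A₂ := (MonoidAlgebra.of C (Mm × Mm)).comp (MonoidHom.inr Mm Mm)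
  have hdlχ : (dl.hom : A →* A₂).comp χu = χ₁ * χ₂ := by
    apply MonoidHom.ext
    intro m
    show MonoidAlgebra.mapDomain _ (MonoidAlgebra.single m (1 : C)) =
      MonoidAlgebra.single ((m, 1) : Mm × Mm) (1 : C) * MonoidAlgebra.single ((1, m) : Mm × Mm) 1
    rw [MonoidAlgebra.mapDomain_single, MonoidAlgebra.single_mul_single]
    simp
  have hj2χ : (j2.hom : A →* A₂).comp χu = χ₂ := by
    apply MonoidHom.ext
    intro m
    show MonoidAlgebra.mapDomain _ (MonoidAlgebra.single m (1 : C)) =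
      MonoidAlgebra.single ((1, m) : Mm × Mm) (1 : C)
    rw [MonoidAlgebra.mapDomain_single]
    rfl
  have hThχ : (Th.hom : A →* A₂).comp χu = χ₁ := by
    apply MonoidHom.ext
    intro m
    show twHom ω.hom (MonoidAlgebra.single m (1 : C)) = MonoidAlgebra.single ((m, 1) : Mm × Mm) 1
    rw [twHom, MonoidAlgebra.liftNCRingHom_single]
    simp
  have edl : Spec.map dl ≫ z = z₂ := by
    show Spec.map dl ≫ Spec.map io ≫ w = Spec.map io₂ ≫ w
    rw [← Category.assoc, ← Spec.map_comp, hdlio]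
  have ej2 : Spec.map j2 ≫ z = z₂ := by
    show Spec.map j2 ≫ Spec.map io ≫ w = Spec.map io₂ ≫ w
    rw [← Category.assoc, ← Spec.map_comp, hj2io]
  have eTh : Spec.map Th ≫ z = z₂ := by
    rw [← ej2]
    show Spec.map Th ≫ Spec.map io ≫ w = Spec.map j2 ≫ z
    rw [← Category.assoc, ← Spec.map_comp, hThio, Spec.map_comp, Category.assoc, hω]
  let x₂ : Over.mk z₂ ⟶ Red.bc g₀ X := pb io₂ rfl ≫ j
  have P1 : pb dl edl ≫ xu = x₂ := by
    show pb dl edl ≫ pb io rfl ≫ j = pb io₂ rfl ≫ j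
    rw [pb_comp_assoc]
    congr 1
    exact pb_congr hdlio _ _
  have P2 : pb j2 ej2 ≫ xu = x₂ := by
    show pb j2 ej2 ≫ pb io rfl ≫ j = pb io₂ rfl ≫ j
    rw [pb_comp_assoc]
    congr 1
    exact pb_congr hj2io _ _
  have hωj2 : Spec.map (ω ≫ j2) ≫ w = z₂ := by
    rw [Spec.map_comp, Category.assoc, hω, ej2]
  have P3 : pb Th eTh ≫ xu = pb (ω ≫ j2) hωj2 ≫ j := by
    show pb Th eTh ≫ pb io rfl ≫ j = _
    rw [pb_comp_assoc]
    congr 1
    exact pb_congr hThio _ _
  have E1 : pb dl edl ≫ o = act' a g₀ φ' (gpt z₂ χ₁) (act' a g₀ φ' (gpt z₂ χ₂) x₂) := by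
    show pb dl edl ≫ act' a g₀ φ' (gpt z χu) xu = _
    rw [act'_comp, gpt_pb, hdlχ, P1, gpt_mul, act'_mul]
  have E2 : act' a g₀ φ' (gpt z₂ χ₂) x₂ = pb (ω ≫ j2) hωj2 ≫ j := by
    have : pb j2 ej2 ≫ o = act' a g₀ φ' (gpt z₂ χ₂) x₂ := by
      show pb j2 ej2 ≫ act' a g₀ φ' (gpt z χu) xu = _
      rw [act'_comp, gpt_pb, hj2χ, P2]
    rw [← this, ho, pb_comp_assoc]
  have E3 : pb Th eTh ≫ o = act' a g₀ φ' (gpt z₂ χ₁) (pb (ω ≫ j2) hωj2 ≫ j) := by
    show pb Th eTh ≫ act' a g₀ φ' (gpt z χu) xu = _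
    rw [act'_comp, gpt_pb, hThχ, P3]
  have E4 : pb dl edl ≫ o = pb Th eTh ≫ o := by rw [E1, E2, E3]
  have hcoass : (diagHom (C := C) (G := Mm)).comp ω.hom = (twHom ω.hom).comp ω.hom := by
    rw [ho, pb_comp_assoc, pb_comp_assoc] at E4
    have h3 := pb_chart_injective g₀ j _ _ _ _ E4
    have h4 := congrArg (fun k => k.hom) h3
    exact h4
  -- the homogeneous components
  have hcomp : ∀ (m : Mm), m ≠ 1 → ∀ c : C, (ω.hom c).coeff m = 0 := by
    intro m hm
    let p : C →+ C :=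
      { toFun := fun c => (ω.hom c).coeff m
        map_zero' := by simp
        map_add' := fun c c' => by rw [map_add, MonoidAlgebra.coeff_add, Finsupp.add_apply] }
    have hp : ∀ c, p c = (ω.hom c).coeff m := fun _ => rfl
    apply p_eq_zero ρC (i₀.ker.ideal V) p
    · intro r c
      rw [hp, hp, map_mul, hlinω]
      show ((MonoidAlgebra.single (1 : Mm) (ρC r)) * ω.hom c).coeff m = _
      rw [MonoidAlgebra.coeff_single_mul_apply]
      simp
    · intro c
      rw [hp, hp]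
      exact coeff_idem ω.hom hcoass c m
    · intro c
      rw [hp]
      have h1 := hmodω c
      rw [hKA] at h1
      have h2 := coeff_mem_of_mem_map KC _ h1 m
      have h3 : (io.hom c).coeff m = 0 := by
        show (MonoidAlgebra.single (1 : Mm) c).coeff m = 0
        rw [MonoidAlgebra.coeff_single, Finsupp.single_apply, if_neg (Ne.symm hm)]
      rw [MonoidAlgebra.coeff_sub, Finsupp.sub_apply, h3, sub_zero] at h2
      exact h2
    · exact hV
  -- the counit
  let ep : A ⟶ C := CommRingCat.ofHom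
    ((MonoidAlgebra.lift C C Mm (1 : Mm →* C)) : MonoidAlgebra C Mm →+* C)
  have hioep : io ≫ ep = 𝟙 C := by
    apply CommRingCat.hom_ext
    apply RingHom.ext
    intro c
    show (MonoidAlgebra.lift C C Mm (1 : Mm →* C)) (MonoidAlgebra.single (1 : Mm) c) = c
    rw [MonoidAlgebra.lift_single]
    simp
  have eep : Spec.map ep ≫ z = w := by
    show Spec.map ep ≫ Spec.map io ≫ w = w
    rw [← Category.assoc, ← Spec.map_comp, hioep, Spec.map_id, Category.id_comp]
  have hepχ : (ep.hom : A →* C).comp χu = 1 := by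
    apply MonoidHom.ext
    intro m
    show (MonoidAlgebra.lift C C Mm (1 : Mm →* C)) (MonoidAlgebra.single m (1 : C)) = 1
    rw [MonoidAlgebra.lift_single]
    simp
  have hid : pb (𝟙 C) (by rw [Spec.map_id, Category.id_comp]) ≫ j = j := by
    apply Over.OverMorphism.ext
    show Spec.map (𝟙 C) ≫ j.left = j.left
    rw [Spec.map_id, Category.id_comp]
  have E5 : pb ep eep ≫ o = j := by
    show pb ep eep ≫ act' a g₀ φ' (gpt z χu) xu = _
    rw [act'_comp, gpt_pb, hepχ, gpt_one, act'_one]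
    show pb ep eep ≫ pb io rfl ≫ j = j
    rw [pb_comp_assoc]
    refine Eq.trans ?_ hid
    congr 1
    exact pb_congr hioep _ _
  have hωep : ω ≫ ep = 𝟙 C := by
    rw [ho, pb_comp_assoc] at E5
    exact pb_chart_injective g₀ j _ _ _ _ (E5.trans hid.symm)
  -- conclusion
  have hωio : ω = io := by
    apply CommRingCat.hom_ext
    apply RingHom.ext
    intro c
    have h1 : ω.hom c = MonoidAlgebra.single (1 : Mm) ((ω.hom c).coeff 1) := by
      apply MonoidAlgebra.coeff_injective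
      ext m
      rw [MonoidAlgebra.coeff_single, Finsupp.single_apply]
      by_cases hm : (1 : Mm) = m
      · rw [if_pos hm, hm]
      · rw [if_neg hm]
        exact hcomp m (Ne.symm hm) c
    have h2 := congrArg (fun k => k.hom c) hωep
    simp only [CommRingCat.hom_comp, RingHom.coe_comp, Function.comp_apply, CommRingCat.hom_id,
      RingHom.id_apply] at h2
    have h3 : ep.hom (ω.hom c) = (ω.hom c).coeff 1 := by
      rw [h1]
      show (MonoidAlgebra.lift C C Mm (1 : Mm →* C)) (MonoidAlgebra.single (1 : Mm) _) = _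
      rw [MonoidAlgebra.lift_single]
      simp
    rw [h3] at h2
    rw [h1, h2]
    rfl
  rw [ho]
  show pb ω hω ≫ j = pb io rfl ≫ j
  congr 1
  exact pb_congr hωio _ _

end Groth.Agent.Helper7.Nil
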