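import Mathlib
import Groth.Agent.Lib.Helper7.NilF

/-!
# A group of multiplicative type acting trivially modulo a locally nilpotent ideal acts trivially
(helper7)
-/

set_option autoImplicit false
set_option linter.unusedSectionVars false
set_option linter.style.haveILetI false

universe u

open CategoryTheory CategoryTheory.Limits MonoidalCategory CartesianMonoidalCategory MonObj GrpObj
  AlgebraicGeometry

namespace Groth.Agent.Helper7.Nil

open Groth.Agent.Helper18 Groth.Agent.Helper7.MTRig Groth.Agent.Helper7.CE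

/-- two morphisms agreeing on affine open neighbourhoods of all points are equal -/
theorem hom_ext_of_local {W Y : Scheme.{u}} (F₁ F₂ : W ⟶ Y)
    (h : ∀ p : W, ∃ (R : CommRingCat.{u}) (f : Spec R ⟶ W), IsOpenImmersion f ∧ p ∈ Set.range f ∧
      f ≫ F₁ = f ≫ F₂) : F₁ = F₂ := by
  choose R f hf hp he using h
  let 𝒰 : W.OpenCover :=
    { I₀ := W
      X := fun p => Spec (R p)
      f := f
      mem₀ := by
        rw [Scheme.presieve₀_mem_precoverage_iff]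
        exact ⟨fun x => ⟨x, hp x⟩, hf⟩ }
  exact Scheme.Cover.hom_ext 𝒰 _ _ he

variable {S S₀ : Scheme.{u}} (i₀ : S₀ ⟶ S) [IsClosedImmersion i₀] {G X : Over S} [GrpObj G]
  (a : AlgGrp.Action G X)
  (h0 : ∀ (Y : Over S) (_ : Y ⟶ Over.mk i₀) (g : Y ⟶ G) (x : Y ⟶ X), lift g x ≫ a.act = x)
  {U : Scheme.{u}} (g₀ : U ⟶ S) {M : Type} [AddCommGroup M]
  (φ' : Red.DS U M ⟶ Red.bc g₀ G) [IsMonHom φ']

section ChartPt

variable (V : S.affineOpens) (hV : IsNilpotent (i₀.ker.ideal V))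
  {C : CommRingCat.{u}} {w : Spec C ⟶ U} (hw : ⊤ ≤ (w ≫ g₀) ⁻¹ᵁ V.1)
  (j : Over.mk w ⟶ Red.bc g₀ X) [IsOpenImmersion j.left]

include h0 hV hw in
theorem act'_chart_pt {D : CommRingCat.{u}} {d : Spec D ⟶ U} (θ : C ⟶ D)
    (hθ : Spec.map θ ≫ w = d) (χ : Multiplicative M →* D) :
    act' a g₀ φ' (gpt d χ) (pb θ hθ ≫ j) = pb θ hθ ≫ j := by
  let Mm := Multiplicative M
  let A : CommRingCat.{u} := CommRingCat.of (MonoidAlgebra C Mm)
  let io : C ⟶ A := CommRingCat.ofHom (algebraMap C (MonoidAlgebra C Mm))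
  let z : Spec A ⟶ U := Spec.map io ≫ w
  have hcomm : ∀ (x : C) (y : Mm), Commute (θ.hom x) (χ y) := fun _ _ => Commute.all _ _
  let Ps : A ⟶ D := CommRingCat.ofHom (MonoidAlgebra.liftNCRingHom θ.hom χ hcomm)
  have hioPs : io ≫ Ps = θ := by
    apply CommRingCat.hom_ext
    apply RingHom.ext
    intro c
    show MonoidAlgebra.liftNCRingHom θ.hom χ hcomm (MonoidAlgebra.single (1 : Mm) c) = θ.hom c
    rw [MonoidAlgebra.liftNCRingHom_single, map_one, _root_.mul_one]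
  have hPsχ : (Ps.hom : A →* D).comp (MonoidAlgebra.of C Mm) = χ := by
    apply MonoidHom.ext
    intro m
    show MonoidAlgebra.liftNCRingHom θ.hom χ hcomm (MonoidAlgebra.single m (1 : C)) = χ m
    rw [MonoidAlgebra.liftNCRingHom_single, map_one, _root_.one_mul]
  have ePs : Spec.map Ps ≫ z = d := by
    show Spec.map Ps ≫ Spec.map io ≫ w = d
    rw [← Category.assoc, ← Spec.map_comp, hioPs, hθ]
  have huniv := act'_universal i₀ a h0 g₀ φ' V hV hw j
  have h1 := congrArg (fun k => pb Ps ePs ≫ k) huniv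
  rw [act'_comp, gpt_pb, hPsχ, pb_comp_assoc] at h1
  have h2 : pb (io ≫ Ps) (by rw [hioPs, hθ]) ≫ j = pb θ hθ ≫ j := by
    congr 1
    exact pb_congr hioPs _ _
  rw [h2] at h1
  exact h1

end ChartPt

variable (hnil : ∀ x : S, ∃ V : S.affineOpens, x ∈ (V : S.Opens) ∧ IsNilpotent (i₀.ker.ideal V))
  (φ : Red.bc g₀ G ⟶ Red.DS U M) (h12 : φ ≫ φ' = 𝟙 _)

include h0 hnil h12 in
/-- the local form of the theorem: over a member of the covering on which the group splits -/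
theorem act_eq_snd_local :
    pullback.fst (G ⊗ X).hom g₀ ≫ a.act.left = pullback.fst (G ⊗ X).hom g₀ ≫ (snd G X).left := by
  let W : Scheme.{u} := pullback (G ⊗ X).hom g₀
  let W₀ : Over U := Over.mk (pullback.snd (G ⊗ X).hom g₀)
  let wpt : (Over.map g₀).obj W₀ ⟶ G ⊗ X := Over.homMk (pullback.fst (G ⊗ X).hom g₀) (by
    show pullback.fst (G ⊗ X).hom g₀ ≫ (G ⊗ X).hom = pullback.snd (G ⊗ X).hom g₀ ≫ g₀
    exact pullback.condition)
  let gW : (Over.map g₀).obj W₀ ⟶ G := wpt ≫ fst G X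
  let xW : (Over.map g₀).obj W₀ ⟶ X := wpt ≫ snd G X
  let xW' : W₀ ⟶ Red.bc g₀ X := up g₀ X xW
  let gmW : W₀ ⟶ Red.DS U M := up g₀ G gW ≫ φ
  apply hom_ext_of_local
  intro p
  -- a chart of the base change of `X` around the image of `p`
  let X' : Scheme.{u} := (Red.bc g₀ X).left
  let p' : X' := xW'.left p
  obtain ⟨V, hsV, hVnil⟩ := hnil (((Red.bc g₀ X).hom ≫ g₀) p')
  have hp'V : p' ∈ ((Red.bc g₀ X).hom ≫ g₀) ⁻¹ᵁ V.1 := hsV
  obtain ⟨C, jc, hjc, hp'jc, hjcV⟩ := Scheme.exists_affine_mem_range_and_range_subset hp'V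
  haveI := hjc
  let w : Spec C ⟶ U := jc ≫ (Red.bc g₀ X).hom
  let j : Over.mk w ⟶ Red.bc g₀ X := Over.homMk jc rfl
  haveI : IsOpenImmersion j.left := hjc
  have hw : ⊤ ≤ (w ≫ g₀) ⁻¹ᵁ V.1 := by
    intro y _
    show (w ≫ g₀) y ∈ V.1
    have : jc y ∈ ((Red.bc g₀ X).hom ≫ g₀) ⁻¹ᵁ V.1 := hjcV ⟨y, rfl⟩
    have h2 : (w ≫ g₀) y = ((Red.bc g₀ X).hom ≫ g₀) (jc y) := by
      show ((jc ≫ (Red.bc g₀ X).hom) ≫ g₀) y = _
      rw [Category.assoc, Scheme.Hom.comp_apply]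
    rw [h2]
    exact this
  -- an affine neighbourhood of `p` mapping into the chart
  have hpU : p ∈ xW'.left ⁻¹ᵁ jc.opensRange := hp'jc
  obtain ⟨D, dsp, hdsp, hpdsp, hdspU⟩ := Scheme.exists_affine_mem_range_and_range_subset hpU
  refine ⟨D, dsp, hdsp, hpdsp, ?_⟩
  let d : Spec D ⟶ U := dsp ≫ pullback.snd (G ⊗ X).hom g₀
  let r : Over.mk d ⟶ W₀ := Over.homMk dsp rfl
  have hrange : Set.range (r ≫ xW').left ⊆ Set.range j.left := by
    rintro _ ⟨y, rfl⟩
    have : dsp y ∈ xW'.left ⁻¹ᵁ jc.opensRange := hdspU ⟨y, rfl⟩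
    have h2 : (r ≫ xW').left y = xW'.left (dsp y) := by
      show (dsp ≫ xW'.left) y = _
      rw [Scheme.Hom.comp_apply]
    rw [h2]
    exact this
  obtain ⟨θ, hθ, hx⟩ := exists_pb_of_range g₀ j (r ≫ xW') hrange
  obtain ⟨χ, hχ⟩ := exists_gpt d (r ≫ gmW)
  have hkey := act'_chart_pt i₀ a h0 g₀ φ' V hVnil hw j θ hθ χ
  rw [← hx, ← hχ] at hkey
  -- unfold
  have h1 := congrArg (BcPts.dn g₀ X) hkey
  rw [act', dn_up] at h1
  have e1 : BcPts.dn g₀ G ((r ≫ gmW) ≫ φ') = (Over.map g₀).map r ≫ gW := by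
    show BcPts.dn g₀ G ((r ≫ up g₀ G gW ≫ φ) ≫ φ') = _
    rw [Category.assoc, Category.assoc, h12, Category.comp_id, BcPts.dn_comp, dn_up]
  have e2 : BcPts.dn g₀ X (r ≫ xW') = (Over.map g₀).map r ≫ xW := by
    rw [BcPts.dn_comp, dn_up]
  rw [e1, e2, ← comp_lift] at h1
  have hw' : lift gW xW = wpt := by
    apply CartesianMonoidalCategory.hom_ext
    · rw [lift_fst]
    · rw [lift_snd]
  rw [hw', Category.assoc] at h1
  have h2 := congrArg (fun k => k.left) h1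
  exact h2

end Groth.Agent.Helper7.Nil
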