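import Mathlib
import Groth.Agent.Lib.Helper7.NilG
import Groth.Prelude.Def_TwC

/-!
# Groups of multiplicative type acting trivially modulo a locally nilpotent ideal (helper7)
-/

set_option autoImplicit false
set_option linter.unusedSectionVars false
set_option linter.style.haveILetI false

universe u

open CategoryTheory CategoryTheory.Limits MonoidalCategory CartesianMonoidalCategory MonObj GrpObj
  AlgebraicGeometry

namespace Groth.Agent.Helper7.Nil

/-- an action of a group of multiplicative type which is trivial over a closed subscheme defined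
by a locally nilpotent ideal is trivial -/
theorem act_trivial {S S₀ : Scheme.{u}} (i₀ : S₀ ⟶ S) [IsClosedImmersion i₀]
    (hnil : ∀ x : S, ∃ U : S.affineOpens, x ∈ (U : S.Opens) ∧ IsNilpotent (i₀.ker.ideal U))
    (G X : Over S) [GrpObj G]
    (hG : TwC.Locally S TwC.Topology.fpqc (fun S' f => ∃ (M : Type) (_ : AddCommGroup M),
      Nonempty (Grp.mk (Red.bc f G) ≅ Grp.mk (Red.DS S' M))))
    (a : AlgGrp.Action G X)
    (h0 : ∀ (Y : Over S) (_ : Y ⟶ Over.mk i₀) (g : Y ⟶ G) (x : Y ⟶ X), lift g x ≫ a.act = x) :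
    ∀ (Y : Over S) (g : Y ⟶ G) (x : Y ⟶ X), lift g x ≫ a.act = x := by
  have hact : a.act = snd G X := by
    obtain ⟨S', f, hflat, hsurj, -, hloc⟩ := hG
    haveI := hflat
    haveI := hsurj
    choose Uo hUo M instM e' using hloc
    apply Groth.Agent.Helper7.MTRig.hom_ext_of_cover f Uo hUo
    intro s'
    letI := instM s'
    let iso := (e' s').some
    let φ : Red.bc ((Uo s').ι ≫ f) G ⟶ Red.DS (Uo s' : Scheme.{u}) (M s') := iso.hom.hom.hom
    let φ' : Red.DS (Uo s' : Scheme.{u}) (M s') ⟶ Red.bc ((Uo s').ι ≫ f) G := iso.inv.hom.hom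
    have h2 : φ ≫ φ' = 𝟙 _ := by
      have := congrArg (fun k => k.hom.hom) iso.hom_inv_id
      exact this
    exact act_eq_snd_local i₀ a h0 ((Uo s').ι ≫ f) φ' hnil φ h2
  intro Y g x
  rw [hact, lift_snd]

/-- a homomorphism from a group of multiplicative type which is central over a closed subscheme
defined by a locally nilpotent ideal is central -/
theorem central_of_central_mod {S S₀ : Scheme.{u}} (i₀ : S₀ ⟶ S) [IsClosedImmersion i₀]
    (hnil : ∀ x : S, ∃ U : S.affineOpens, x ∈ (U : S.Opens) ∧ IsNilpotent (i₀.ker.ideal U))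
    (G H : Over S) [GrpObj G] [GrpObj H]
    (hG : TwC.Locally S TwC.Topology.fpqc (fun S' f => ∃ (M : Type) (_ : AddCommGroup M),
      Nonempty (Grp.mk (Red.bc f G) ≅ Grp.mk (Red.DS S' M))))
    (u : G ⟶ H) [IsMonHom u]
    (h0 : ∀ (Y : Over S) (_ : Y ⟶ Over.mk i₀) (g : Y ⟶ G) (h : Y ⟶ H),
      (g ≫ u) * h = h * (g ≫ u)) :
    ∀ (Y : Over S) (g : Y ⟶ G) (h : Y ⟶ H), (g ≫ u) * h = h * (g ≫ u) := by
  let actm : G ⊗ H ⟶ H := ((fst G H ≫ u) * snd G H) * (fst G H ≫ u)⁻¹
  have hpt : ∀ (T : Over S) (g : T ⟶ G) (h : T ⟶ H),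
      lift g h ≫ actm = (g ≫ u) * h * (g ≫ u)⁻¹ := by
    intro T g h
    show lift g h ≫ (((fst G H ≫ u) * snd G H) * (fst G H ≫ u)⁻¹) = _
    rw [MonObj.comp_mul, MonObj.comp_mul, GrpObj.comp_inv, lift_fst_assoc, lift_snd]
  let a : AlgGrp.Action G H := Groth.Agent.Helper17.AC1.mk' actm
    (by
      intro T h
      rw [hpt]
      have h1 : (toUnit T ≫ η[G]) ≫ u = (1 : T ⟶ H) := by
        have : (toUnit T ≫ η[G]) = (1 : T ⟶ G) := rfl
        rw [this, MonObj.one_comp]
      rw [h1]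
      group)
    (by
      intro T g h x
      rw [hpt, hpt, hpt, MonObj.mul_comp g h u]
      group)
  have hact : a.act = actm := rfl
  have h0' : ∀ (Y : Over S) (_ : Y ⟶ Over.mk i₀) (g : Y ⟶ G) (x : Y ⟶ H),
      lift g x ≫ a.act = x := by
    intro Y p g x
    rw [hact, hpt, h0 Y p g x]
    group
  intro Y g h
  have h1 := act_trivial i₀ hnil G H hG a h0' Y g h
  rw [hact, hpt] at h1
  calc (g ≫ u) * h = ((g ≫ u) * h * (g ≫ u)⁻¹) * (g ≫ u) := by group
    _ = h * (g ≫ u) := by rw [h1]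

end Groth.Agent.Helper7.Nil
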