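import Groth.Agent.Lib.Helper7.DiagPts
import Groth.Agent.Lib.Helper7.NilH
import Groth.Agent.Lib.Helper17.AC1

/-!
# Homomorphisms out of `D_R(M)` trivial modulo a nilpotent ideal are trivial (helper7)
-/

set_option autoImplicit false
set_option linter.style.haveILetI false
universe u
open CategoryTheory CategoryTheory.Limits MonoidalCategory CartesianMonoidalCategory MonObj GrpObj
  AlgebraicGeometry

noncomputable section

namespace Groth.Agent.Helper7.DiagNil

open Groth.Agent.Helper18 Groth.Agent.Helper7.DiagPts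

section Translation

variable {S : Scheme.{u}} {G X : Over S} [GrpObj G] [GrpObj X] (f : G ⟶ X) [IsMonHom f]

/-- the translation morphism `(g, x) ↦ f(g) x` -/
def trAct : G ⊗ X ⟶ X := lift (fst G X ≫ f) (snd G X) ≫ μ[X]

omit [GrpObj G] [IsMonHom f] in
theorem lift_trAct {T : Over S} (g : T ⟶ G) (x : T ⟶ X) : lift g x ≫ trAct f = (g ≫ f) * x := by
  unfold trAct
  rw [← Category.assoc, comp_lift, lift_fst_assoc, lift_snd]
  rfl

/-- the translation action of `G` on `X` through `f` -/
def trAction : AlgGrp.Action G X :=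
  Groth.Agent.Helper17.AC1.mk' (trAct f)
    (fun T u => by
      rw [lift_trAct, Category.assoc, IsMonHom.one_hom]
      exact _root_.one_mul u)
    (fun T g h u => by
      rw [lift_trAct, lift_trAct, lift_trAct, MonObj.mul_comp g h f, _root_.mul_assoc])

theorem trAction_act : (trAction f).act = trAct f := rfl

end Translation

section Pull

variable {R : Type u} [CommRing R] {S₀ : Scheme.{u}} (i : S₀ ⟶ Spec (CommRingCat.of R))
  {G X : Over (Spec (CommRingCat.of R))} [GrpObj G] [GrpObj X] (f : G ⟶ X)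

omit [GrpObj G] [GrpObj X] in
theorem dn_map {T : Over S₀} (a : T ⟶ Red.bc i G) :
    BcPts.dn i X (a ≫ (Over.pullback i).map f) = BcPts.dn i G a ≫ f := by
  apply Over.OverMorphism.ext
  have hmap : ((Over.pullback i).map f).left ≫ pullback.fst X.hom i =
      pullback.fst G.hom i ≫ f.left := by
    simp only [Over.pullback, Over.homMk_left]
    exact pullback.lift_fst _ _ _
  rw [BcPts.dn_left, Over.comp_left, Over.comp_left, BcPts.dn_left, Category.assoc, hmap,
    Category.assoc]

theorem dn_one' {T : Over S₀} : BcPts.dn i X (1 : T ⟶ Red.bc i X) = 1 := by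
  have h := BcPts.dn_mul i X (1 : T ⟶ Red.bc i X) 1
  rw [_root_.mul_one] at h
  have h' : BcPts.dn i X (1 : T ⟶ Red.bc i X) * BcPts.dn i X 1 = BcPts.dn i X 1 * 1 := by
    rw [← h, _root_.mul_one]
  exact mul_left_cancel h'

omit [GrpObj G] in
theorem comp_eq_one_of_map_eq_one (h : (Over.pullback i).map f = 1)
    (Y : Over (Spec (CommRingCat.of R))) (p : Y ⟶ Over.mk i) (g : Y ⟶ G) : g ≫ f = 1 := by
  let Y₀ : Over S₀ := Over.mk p.left
  have hw : p.left ≫ i = Y.hom := Over.w p
  let e : (Over.map i).obj Y₀ ≅ Y := Over.isoMk (Iso.refl _) (by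
    show 𝟙 _ ≫ Y.hom = p.left ≫ i
    rw [Category.id_comp, hw])
  let g' : Y₀ ⟶ Red.bc i G := up i (e.hom ≫ g)
  have h1 : BcPts.dn i X (g' ≫ (Over.pullback i).map f) = (e.hom ≫ g) ≫ f := by
    rw [dn_map, dn_up]
  have h2 : g' ≫ (Over.pullback i).map f = 1 := by
    rw [h]
    exact MonObj.comp_one g'
  rw [h2, dn_one'] at h1
  have h3 : g ≫ f = e.inv ≫ (e.hom ≫ g) ≫ f := by
    rw [Category.assoc, Iso.inv_hom_id_assoc]
  rw [h3, ← h1]
  exact MonObj.comp_one e.inv

end Pull

section Main

variable (R : Type u) [CommRing R] (I : Ideal R)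

theorem hnil (hI : IsNilpotent I) :
    ∀ x : (Spec (CommRingCat.of R) : Scheme.{u}), ∃ U : (Spec (CommRingCat.of R)).affineOpens,
      x ∈ (U : (Spec (CommRingCat.of R)).Opens) ∧
      IsNilpotent ((Spec.map (CommRingCat.ofHom (Ideal.Quotient.mk I))).ker.ideal U) := by
  intro x
  refine ⟨⟨⊤, isAffineOpen_top _⟩, trivial, ?_⟩
  rw [Scheme.Hom.ker_apply]
  set J := RingHom.ker ((Spec.map (CommRingCat.ofHom (Ideal.Quotient.mk I))).app
    (⟨⊤, isAffineOpen_top _⟩ : (Spec (CommRingCat.of R)).affineOpens).1).hom with hJ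
  have hK := Groth.Agent.Helper7.Nil.isNilpotent_map
    (Scheme.ΓSpecIso (CommRingCat.of R)).inv.hom I hI
  have hle : J ≤ I.map (Scheme.ΓSpecIso (CommRingCat.of R)).inv.hom := by
    intro y hy
    have hy' : (Spec.map (CommRingCat.ofHom (Ideal.Quotient.mk I))).appTop y = 0 := hy
    have hnat := congrArg (fun k => k.hom y)
      (Scheme.ΓSpecIso_naturality (CommRingCat.ofHom (Ideal.Quotient.mk I)))
    have h1 : (Ideal.Quotient.mk I) ((Scheme.ΓSpecIso (CommRingCat.of R)).hom y) = 0 := by
      have h2 : (Scheme.ΓSpecIso (CommRingCat.of (R ⧸ I))).hom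
          ((Spec.map (CommRingCat.ofHom (Ideal.Quotient.mk I))).appTop y) =
          (Ideal.Quotient.mk I) ((Scheme.ΓSpecIso (CommRingCat.of R)).hom y) := hnat
      rw [← h2, hy', map_zero]
    have h3 : (Scheme.ΓSpecIso (CommRingCat.of R)).hom y ∈ I := Ideal.Quotient.eq_zero_iff_mem.mp h1
    have e : y = (Scheme.ΓSpecIso (CommRingCat.of R)).inv
        ((Scheme.ΓSpecIso (CommRingCat.of R)).hom y) :=
      (congrArg (fun k => k.hom y) (Scheme.ΓSpecIso (CommRingCat.of R)).hom_inv_id).symm
    rw [e]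
    exact Ideal.mem_map_of_mem _ h3
  obtain ⟨n, hn⟩ := hK
  refine ⟨n, ?_⟩
  have := Ideal.pow_right_mono hle n
  rw [hn] at this
  exact le_bot_iff.mp this

variable (M : Type) [AddCommGroup M]

theorem hG : TwC.Locally (Spec (CommRingCat.of R)) TwC.Topology.fpqc
    (fun S' f => ∃ (M' : Type) (_ : AddCommGroup M'),
      Nonempty (Grp.mk (Red.bc f (Red.diag R M)) ≅ Grp.mk (Red.DS S' M'))) := by
  refine ⟨Spec (CommRingCat.of R), 𝟙 _, inferInstance, inferInstance, ?_, ?_⟩
  · intro V hV
    refine ⟨V, hV.isCompact, ?_⟩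
    simp
  · intro s'
    exact ⟨⊤, trivial, M, inferInstance, nonempty_grpIso M _⟩

theorem main (hI : IsNilpotent I) (X : Over (Spec (CommRingCat.of R))) [GrpObj X]
    (f : Red.diag R M ⟶ X) [IsMonHom f]
    (h : (Over.pullback (Spec.map (CommRingCat.ofHom (Ideal.Quotient.mk I)))).map f = 1) :
    f = 1 := by
  haveI : IsClosedImmersion (Spec.map (CommRingCat.ofHom (Ideal.Quotient.mk I))) :=
    IsClosedImmersion.spec_of_surjective _ Ideal.Quotient.mk_surjective
  have key := Groth.Agent.Helper7.Nil.act_trivial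
    (Spec.map (CommRingCat.ofHom (Ideal.Quotient.mk I))) (hnil R I hI) (Red.diag R M) X
    (hG R M) (trAction f)
    (fun Y p g x => by
      rw [trAction_act, lift_trAct,
        comp_eq_one_of_map_eq_one (Spec.map (CommRingCat.ofHom (Ideal.Quotient.mk I))) f h Y p g]
      exact _root_.one_mul x)
  have k1 := key (Red.diag R M) (𝟙 _) 1
  rw [trAction_act, lift_trAct, Category.id_comp, _root_.mul_one] at k1
  exact k1

end Main

end Groth.Agent.Helper7.DiagNil
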