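import Mathlib
import Groth.Agent.Lib.Helper7.TwoGrpB
import Groth.Agent.Lib.Helper7.DiagNil

/-!
# Base change of `D_U(M)`, and homomorphisms from groups of multiplicative type trivial modulo a
nilpotent ideal (helper7)
-/

set_option autoImplicit false
set_option linter.style.haveILetI false
universe u
open CategoryTheory CategoryTheory.Limits MonoidalCategory CartesianMonoidalCategory MonObj GrpObj
  AlgebraicGeometry

noncomputable section

namespace Groth.Agent.Helper7.GL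

open Groth.Agent.Helper18 Groth.Agent.Helper7.MTRig Groth.Agent.Helper7.TwoGrp

section BcDS

variable {U U' : Scheme.{u}} (π : U' ⟶ U) (M : Type) [AddCommGroup M]

/-- `D_U(M) ×_U U' ⟶ D_{U'}(M)` -/
def bcDS : Red.bc π (Red.DS U M) ⟶ Red.DS U' M := q π M (BcPts.dn π (Red.DS U M) (𝟙 _))

/-- its inverse -/
def bcDS' : Red.DS U' M ⟶ Red.bc π (Red.DS U M) := up π (Red.DS U M) (q' π M (𝟙 _))

theorem comp_bcDS {T : Over U'} (t : T ⟶ Red.bc π (Red.DS U M)) :
    t ≫ bcDS π M = q π M (BcPts.dn π (Red.DS U M) t) := by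
  unfold bcDS
  rw [← q_comp, ← BcPts.dn_comp, Category.comp_id]

theorem comp_bcDS' {T : Over U'} (z : T ⟶ Red.DS U' M) :
    z ≫ bcDS' π M = up π (Red.DS U M) (q' π M z) := by
  unfold bcDS'
  rw [up_comp, ← q'_comp, Category.comp_id]

theorem bcDS_bcDS' : bcDS π M ≫ bcDS' π M = 𝟙 _ := by
  rw [comp_bcDS']
  unfold bcDS
  rw [q'_q, up_dn]

theorem bcDS'_bcDS : bcDS' π M ≫ bcDS π M = 𝟙 _ := by
  rw [comp_bcDS]
  unfold bcDS'
  rw [dn_up, q_q']

theorem isMonHom_bcDS : IsMonHom (bcDS π M) := by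
  refine @isMonHom_of_mul_points U' (Red.bc π (Red.DS U M)) (Red.DS U' M) inferInstance inferInstance
    (bcDS π M) ?_
  intro T a b
  rw [comp_bcDS, comp_bcDS, comp_bcDS]
  exact (congrArg (q π M) (BcPts.dn_mul π (Red.DS U M) a b)).trans (q_mul π M _ _)

theorem nonempty_bc_DS :
    Nonempty (Grp.mk (Red.bc π (Red.DS U M)) ≅ Grp.mk (Red.DS U' M)) := by
  let i : Red.bc π (Red.DS U M) ≅ Red.DS U' M :=
    ⟨bcDS π M, bcDS' π M, bcDS_bcDS' π M, bcDS'_bcDS π M⟩
  haveI : IsMonHom i.hom := isMonHom_bcDS π M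
  exact ⟨Grp.mkIso' i⟩

/-- `D_A(M)` is of multiplicative type -/
theorem DS_locally (A : Scheme.{u}) : TwC.Locally A TwC.Topology.fpqc
    (fun S' f => ∃ (M' : Type) (_ : AddCommGroup M'),
      Nonempty (Grp.mk (Red.bc f (Red.DS A M)) ≅ Grp.mk (Red.DS S' M'))) := by
  refine ⟨A, 𝟙 _, inferInstance, inferInstance, ?_, ?_⟩
  · intro V hV
    refine ⟨V, hV.isCompact, ?_⟩
    simp
  · intro s'
    exact ⟨⊤, trivial, M, inferInstance, nonempty_bc_DS _ M⟩

end BcDS

section Triv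

/-- a homomorphism from a group of multiplicative type which is trivial on the points over a
closed subscheme defined by a locally nilpotent ideal is trivial -/
theorem hom_trivial {S S₀ : Scheme.{u}} (i₀ : S₀ ⟶ S) [IsClosedImmersion i₀]
    (hnil : ∀ x : S, ∃ V : S.affineOpens, x ∈ (V : S.Opens) ∧ IsNilpotent (i₀.ker.ideal V))
    (G X : Over S) [GrpObj G] [GrpObj X]
    (hG : TwC.Locally S TwC.Topology.fpqc (fun S' f => ∃ (M : Type) (_ : AddCommGroup M),
      Nonempty (Grp.mk (Red.bc f G) ≅ Grp.mk (Red.DS S' M))))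
    (f : G ⟶ X) [IsMonHom f]
    (h0 : ∀ (Y : Over S) (_ : Y ⟶ Over.mk i₀) (g : Y ⟶ G), g ≫ f = 1) : f = 1 := by
  have key := Groth.Agent.Helper7.Nil.act_trivial i₀ hnil G X hG
    (Groth.Agent.Helper7.DiagNil.trAction f)
    (fun Y p g x => by
      rw [Groth.Agent.Helper7.DiagNil.trAction_act, Groth.Agent.Helper7.DiagNil.lift_trAct,
        h0 Y p g]
      exact _root_.one_mul x)
  have k1 := key G (𝟙 _) 1
  rw [Groth.Agent.Helper7.DiagNil.trAction_act, Groth.Agent.Helper7.DiagNil.lift_trAct,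
    Category.id_comp, _root_.mul_one] at k1
  exact k1

end Triv

end Groth.Agent.Helper7.GL
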