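import Mathlib
import Groth.Agent.Lib.Helper7.GLB
import Groth.Agent.Lib.Helper7.GLC

/-!
# Lifting homomorphisms between diagonalisable groups modulo a nilpotent ideal (helper7)
-/

set_option autoImplicit false
set_option linter.style.haveILetI false
set_option linter.unusedSectionVars false
universe u
open CategoryTheory CategoryTheory.Limits MonoidalCategory CartesianMonoidalCategory MonObj GrpObj
  AlgebraicGeometry

noncomputable section

namespace Groth.Agent.Helper7.GL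

open Groth.Agent.Helper18 Groth.Agent.Helper18.MultToGa Groth.Agent.Helper7.MTRig

section Pt

variable {U : Scheme.{u}} {M : Type} [AddCommGroup M]

theorem pt_mul {C : CommRingCat.{u}} (τ : Spec C ⟶ U) (ψ ψ' : Multiplicative M →* C) :
    pt τ (ψ * ψ') = pt τ ψ * pt τ ψ' := by
  unfold pt
  rw [← DSPts.ptOfChar_mul, MonoidHom.comp_mul]

theorem pt_char {C : CommRingCat.{u}} (τ : Spec C ⟶ U) (g : Over.mk τ ⟶ Red.DS U M) :
    pt τ (((Scheme.ΓSpecIso C).hom.hom : Γ(Spec C, ⊤) →* C).comp (DSPts.charOfPt g)) = g := by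
  unfold pt
  have : ((Scheme.ΓSpecIso C).inv.hom : C →* Γ(Spec C, ⊤)).comp
      (((Scheme.ΓSpecIso C).hom.hom : Γ(Spec C, ⊤) →* C).comp (DSPts.charOfPt g)) =
      DSPts.charOfPt g := by
    apply MonoidHom.ext
    intro m
    exact congrArg (fun k => k.hom (DSPts.charOfPt g m)) (Scheme.ΓSpecIso C).hom_inv_id
  rw [this, DSPts.ptOfChar_charOfPt]

theorem pt_injective {C : CommRingCat.{u}} (τ : Spec C ⟶ U) {ψ ψ' : Multiplicative M →* C}
    (h : pt τ ψ = pt τ ψ') : ψ = ψ' := by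
  unfold pt at h
  have h1 := congrArg DSPts.charOfPt h
  rw [DSPts.charOfPt_ptOfChar, DSPts.charOfPt_ptOfChar] at h1
  apply MonoidHom.ext
  intro m
  have h2 := congrArg (fun k => (Scheme.ΓSpecIso C).hom.hom (k m)) h1
  have e : ∀ c : C, (Scheme.ΓSpecIso C).hom.hom ((Scheme.ΓSpecIso C).inv.hom c) = c := fun c =>
    congrArg (fun k => k.hom c) (Scheme.ΓSpecIso C).inv_hom_id
  simp only [MonoidHom.comp_apply] at h2
  exact (e _).symm.trans (h2.trans (e _))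

theorem pt_comp' {C C' : CommRingCat.{u}} (h : C ⟶ C') (τ : Spec C ⟶ U) (τ' : Spec C' ⟶ U)
    (hτ : Spec.map h ≫ τ = τ') (ψ : Multiplicative M →* C) :
    (Over.homMk (Spec.map h) hτ : Over.mk τ' ⟶ Over.mk τ) ≫ pt τ ψ =
      pt τ' ((h.hom : C →* C').comp ψ) := by
  subst hτ
  exact pt_comp h τ ψ

end Pt

section Local

variable {B : CommRingCat.{u}} (I : Ideal B) {M M' : Type} [AddCommGroup M] [AddCommGroup M']
  {𝒢 : Over (Spec B)} [GrpObj 𝒢]
  (u : Red.DS (Spec B) M ⟶ 𝒢) [IsMonHom u] (u' : Red.DS (Spec B) M' ⟶ 𝒢) [IsMonHom u'] [Mono u']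

/-- the quotient ring -/
abbrev B0 : CommRingCat.{u} := CommRingCat.of (B ⧸ I)
/-- the quotient map -/
abbrev qm : B ⟶ B0 I := CommRingCat.ofHom (Ideal.Quotient.mk I)
/-- the closed immersion -/
abbrev i0 : Spec (B0 I) ⟶ Spec B := Spec.map (qm I)

variable (h0 : ∀ (Y : Over (Spec B)) (_ : Y ⟶ Over.mk (i0 I)) (g : Y ⟶ Red.DS (Spec B) M),
  ∃ g' : Y ⟶ Red.DS (Spec B) M', g' ≫ u' = g ≫ u)

/-- the family of maps on characters modulo `I` -/
def Phi0 {C : CommRingCat.{u}} (τ₀ : Spec C ⟶ Spec (B0 I)) (χ : Multiplicative M →* C) :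
    Multiplicative M' →* C :=
  ((Scheme.ΓSpecIso C).hom.hom : Γ(Spec C, ⊤) →* C).comp
    (DSPts.charOfPt (h0 (Over.mk (τ₀ ≫ i0 I)) (Over.homMk τ₀ rfl) (pt (τ₀ ≫ i0 I) χ)).choose)

theorem Phi0_spec {C : CommRingCat.{u}} (τ₀ : Spec C ⟶ Spec (B0 I)) (χ : Multiplicative M →* C) :
    pt (τ₀ ≫ i0 I) (Phi0 I u u' h0 τ₀ χ) ≫ u' = pt (τ₀ ≫ i0 I) χ ≫ u := by
  unfold Phi0
  rw [pt_char]
  exact (h0 (Over.mk (τ₀ ≫ i0 I)) (Over.homMk τ₀ rfl) (pt (τ₀ ≫ i0 I) χ)).choose_spec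

theorem Phi0_unique {C : CommRingCat.{u}} (τ₀ : Spec C ⟶ Spec (B0 I)) (χ : Multiplicative M →* C)
    (χ' : Multiplicative M' →* C) (h : pt (τ₀ ≫ i0 I) χ' ≫ u' = pt (τ₀ ≫ i0 I) χ ≫ u) :
    χ' = Phi0 I u u' h0 τ₀ χ :=
  pt_injective _ ((cancel_mono u').1 (h.trans (Phi0_spec I u u' h0 τ₀ χ).symm))

theorem Phi0_nat {C C' : CommRingCat.{u}} (h : C ⟶ C') (τ : Spec C ⟶ Spec (B0 I))
    (τ' : Spec C' ⟶ Spec (B0 I)) (hτ : τ' = Spec.map h ≫ τ) (ψ : Multiplicative M →* C) :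
    Phi0 I u u' h0 τ' ((h.hom : C →* C').comp ψ) =
      (h.hom : C →* C').comp (Phi0 I u u' h0 τ ψ) := by
  symm
  apply Phi0_unique
  have hτ2 : Spec.map h ≫ (τ ≫ i0 I) = τ' ≫ i0 I := by rw [hτ, Category.assoc]
  rw [← pt_comp' h (τ ≫ i0 I) (τ' ≫ i0 I) hτ2, ← pt_comp' h (τ ≫ i0 I) (τ' ≫ i0 I) hτ2,
    Category.assoc, Category.assoc, Phi0_spec]

theorem Phi0_mul {C : CommRingCat.{u}} (τ : Spec C ⟶ Spec (B0 I)) (ψ ψ' : Multiplicative M →* C) :
    Phi0 I u u' h0 τ (ψ * ψ') = Phi0 I u u' h0 τ ψ * Phi0 I u u' h0 τ ψ' := by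
  symm
  apply Phi0_unique
  rw [pt_mul, pt_mul, MonObj.mul_comp _ _ u', MonObj.mul_comp _ _ u, Phi0_spec, Phi0_spec]

/-- the group-like elements modulo `I` -/
def X0 : Multiplicative M' →* MonoidAlgebra (B ⧸ I) (Multiplicative M) :=
  X (U := Spec (B0 I)) (fun {C} τ χ => Phi0 I u u' h0 τ χ) (C := B0 I) (𝟙 (Spec (B0 I)))

open Classical in
theorem X0_coeff (m : Multiplicative M') (g h : Multiplicative M) :
    (X0 I u u' h0 m).coeff g * (X0 I u u' h0 m).coeff h =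
      if g = h then (X0 I u u' h0 m).coeff g else 0 :=
  X_coeff_mul (U := Spec (B0 I)) (fun {C} τ χ => Phi0 I u u' h0 τ χ)
    (fun h τ τ' hτ ψ => Phi0_nat I u u' h0 h τ τ' hτ ψ)
    (fun τ ψ ψ' => Phi0_mul I u u' h0 τ ψ ψ') (C := B0 I) (𝟙 _) m g h

theorem X0_sum (m : Multiplicative M') : ((X0 I u u' h0 m).coeff.sum fun _ b => b) = 1 :=
  X_sum (U := Spec (B0 I)) (fun {C} τ χ => Phi0 I u u' h0 τ χ)
    (fun h τ τ' hτ ψ => Phi0_nat I u u' h0 h τ τ' hτ ψ)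
    (fun τ ψ ψ' => Phi0_mul I u u' h0 τ ψ ψ') (C := B0 I) (𝟙 _) m

theorem liftNC_eq {C : CommRingCat.{u}} (φ : B ⟶ C) (χ : Multiplicative M →* C)
    (y : MonoidAlgebra B (Multiplicative M)) :
    MonoidAlgebra.liftNCRingHom φ.hom χ (fun _ _ => Commute.all _ _) y =
      MonoidAlgebra.lift C C (Multiplicative M) χ
        (MonoidAlgebra.mapRingHom (Multiplicative M) φ.hom y) := by
  have key : MonoidAlgebra.liftNCRingHom φ.hom χ (fun _ _ => Commute.all _ _) =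
      ((MonoidAlgebra.lift C C (Multiplicative M) χ).toRingHom).comp
        (MonoidAlgebra.mapRingHom (Multiplicative M) φ.hom) := by
    apply MonoidAlgebra.ringHom_ext
    · intro b
      simp [MonoidAlgebra.liftNCRingHom_single]
    · intro g
      simp [MonoidAlgebra.liftNCRingHom_single]
  rw [key]
  rfl

/-- on affine points killed by `I` the family is given by `X0` -/
theorem Phi0_eq {C : CommRingCat.{u}} (τ₀ : Spec C ⟶ Spec (B0 I)) (χ : Multiplicative M →* C)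
    (m : Multiplicative M') :
    Phi0 I u u' h0 τ₀ χ m = MonoidAlgebra.lift C C (Multiplicative M) χ
      (MonoidAlgebra.mapRingHom (Multiplicative M) (Spec.preimage τ₀).hom (X0 I u u' h0 m)) := by
  have h1 := X_eval (U := Spec (B0 I)) (fun {C} τ χ => Phi0 I u u' h0 τ χ)
    (fun h τ τ' hτ ψ => Phi0_nat I u u' h0 h τ τ' hτ ψ) τ₀ χ m
  have h2 := X_nat (U := Spec (B0 I)) (fun {C} τ χ => Phi0 I u u' h0 τ χ)
    (fun h τ τ' hτ ψ => Phi0_nat I u u' h0 h τ τ' hτ ψ) (Spec.preimage τ₀) (𝟙 _) τ₀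
    (by rw [Spec.map_preimage, Category.comp_id]) m
  rw [h1, h2]
  rfl

theorem Psi_pt' (x : Multiplicative M' →* MonoidAlgebra B (Multiplicative M))
    {C : CommRingCat.{u}} (τ : Spec C ⟶ Spec B) (φ : B ⟶ C) (hτ : τ = Spec.map φ)
    (χ : Multiplicative M →* C) (m : Multiplicative M') :
    (Scheme.ΓSpecIso C).hom.hom (DSPts.charOfPt (pt τ χ ≫ Psi x) m) =
      MonoidAlgebra.liftNCRingHom φ.hom χ (fun _ _ => Commute.all _ _) (x m) := by
  subst hτ
  exact Psi_pt x φ χ m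

variable (hI : IsNilpotent I)

include hI in
open Classical in
theorem exists_x : ∃ x : Multiplicative M' →* MonoidAlgebra B (Multiplicative M),
    (∀ (m : Multiplicative M') (g h : Multiplicative M),
      (x m).coeff g * (x m).coeff h = if g = h then (x m).coeff g else 0) ∧
    (∀ m : Multiplicative M', MonoidAlgebra.mapRingHom (Multiplicative M) (Ideal.Quotient.mk I) (x m) =
      X0 I u u' h0 m) := by
  have hex := fun m => Groth.Agent.Helper1.GroupLikeLift.exists_groupLike_lift I hI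
    (X0 I u u' h0 m) (X0_coeff I u u' h0 m) (X0_sum I u u' h0 m)
  choose xf hxf1 hxf2 hxf3 using hex
  have h1 : xf 1 = 1 := by
    apply Groth.Agent.Helper1.GroupLikeLift.groupLike_lift_unique I hI _ _ (hxf1 1) ?_ ?_
    · intro g h
      rw [MonoidAlgebra.one_def, MonoidAlgebra.coeff_single, Finsupp.single_apply,
        Finsupp.single_apply]
      split_ifs <;> simp_all
    · rw [hxf3, map_one, map_one]
  have hm : ∀ a b, xf (a * b) = xf a * xf b := by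
    intro a b
    have hp := Groth.Agent.Helper1.GroupLikeLift.groupLike_mul (xf a) (xf b) (hxf1 a) (hxf2 a)
      (hxf1 b) (hxf2 b)
    apply Groth.Agent.Helper1.GroupLikeLift.groupLike_lift_unique I hI _ _ (hxf1 _) hp.1
    rw [hxf3, map_mul, map_mul, hxf3, hxf3]
  exact ⟨⟨⟨xf, h1⟩, hm⟩, fun m => hxf1 m, fun m => hxf3 m⟩

include hI h0 in
/-- **Lifting**: two homomorphisms `u, u'` from diagonalisable groups over `Spec B` to a group
`𝒢`, with commuting images and `u'` a monomorphism; if modulo the nilpotent ideal `I` every point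
of `u` comes from a point of `u'`, then `u` factors through `u'`. -/
theorem exists_lift
    (hcomm : ∀ (Y : Over (Spec B)) (g : Y ⟶ Red.DS (Spec B) M) (g' : Y ⟶ Red.DS (Spec B) M'),
      (g ≫ u) * (g' ≫ u') = (g' ≫ u') * (g ≫ u)) :
    ∃ ψ : Red.DS (Spec B) M ⟶ Red.DS (Spec B) M', ψ ≫ u' = u := by
  obtain ⟨x, hx, hx0⟩ := exists_x I u u' h0 hI
  haveI : IsMonHom (Psi x) := isMonHom_Psi x hx
  refine ⟨Psi x, ?_⟩
  -- affine points
  have haff : ∀ {C : CommRingCat.{u}} (τ₀ : Spec C ⟶ Spec (B0 I)) (χ : Multiplicative M →* C),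
      pt (τ₀ ≫ i0 I) χ ≫ Psi x = pt (τ₀ ≫ i0 I) (Phi0 I u u' h0 τ₀ χ) := by
    intro C τ₀ χ
    rw [← pt_char (τ₀ ≫ i0 I) (pt (τ₀ ≫ i0 I) χ ≫ Psi x)]
    congr 1
    apply MonoidHom.ext
    intro m
    have hτ : τ₀ ≫ i0 I = Spec.map (qm I ≫ Spec.preimage τ₀) := by
      rw [Spec.map_comp, Spec.map_preimage]
    show (Scheme.ΓSpecIso C).hom.hom (DSPts.charOfPt (pt (τ₀ ≫ i0 I) χ ≫ Psi x) m) = _
    rw [Psi_pt' x _ _ hτ, liftNC_eq, Phi0_eq, ← hx0]
    congr 1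
    apply MonoidAlgebra.coeff_injective
    ext g
    simp [MonoidAlgebra.coeff_mapRingHom]
  -- all points over the closed subscheme
  have hpts : ∀ (Y : Over (Spec B)) (p : Y ⟶ Over.mk (i0 I)) (g : Y ⟶ Red.DS (Spec B) M),
      (g ≫ Psi x) ≫ u' = g ≫ u := by
    intro Y p g
    obtain ⟨g', hg'⟩ := h0 Y p g
    rw [← hg']
    congr 1
    apply Over.OverMorphism.ext
    apply Groth.Agent.Helper7.Nil.hom_ext_of_local
    intro y
    obtain ⟨R, f, hf, hy, -⟩ :=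
      Scheme.exists_affine_mem_range_and_range_subset (U := (⊤ : Y.left.Opens)) (x := y) trivial
    refine ⟨R, f, hf, hy, ?_⟩
    obtain ⟨τ₀, hτ₀⟩ : ∃ τ₀ : Spec R ⟶ Spec (B0 I), τ₀ = f ≫ p.left := ⟨_, rfl⟩
    have hw : f ≫ Y.hom = τ₀ ≫ i0 I := by
      rw [hτ₀, Category.assoc]
      congr 1
      exact (Over.w p).symm
    let r : Over.mk (τ₀ ≫ i0 I) ⟶ Y := Over.homMk f hw
    show (r ≫ g ≫ Psi x).left = (r ≫ g').left
    congr 1
    have e1 : r ≫ g = pt (τ₀ ≫ i0 I) _ := (pt_char (τ₀ ≫ i0 I) (r ≫ g)).symm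
    have e2 : (r ≫ g') ≫ u' = (r ≫ g) ≫ u :=
      (Category.assoc _ _ _).trans ((congrArg (fun k => r ≫ k) hg').trans
        (Category.assoc _ _ _).symm)
    have e3 : r ≫ g ≫ Psi x = (r ≫ g) ≫ Psi x := (Category.assoc _ _ _).symm
    rw [e3, e1, haff]
    apply (cancel_mono u').1
    exact (Phi0_spec I u u' h0 τ₀ _).trans ((congrArg (fun k => k ≫ u) e1.symm).trans e2.symm)
  -- the difference
  let w : Red.DS (Spec B) M ⟶ 𝒢 := (Psi x ≫ u') * u⁻¹
  have hwpt : ∀ (T : Over (Spec B)) (a : T ⟶ Red.DS (Spec B) M),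
      a ≫ w = ((a ≫ Psi x) ≫ u') * (a ≫ u)⁻¹ := by
    intro T a
    show a ≫ ((Psi x ≫ u') * u⁻¹) = _
    rw [MonObj.comp_mul, GrpObj.comp_inv, Category.assoc]
  haveI : IsMonHom w := by
    refine @Groth.Agent.Helper7.TwoGrp.isMonHom_of_mul_points (Spec B) (Red.DS (Spec B) M) 𝒢
      inferInstance inferInstance w ?_
    intro T a b
    rw [hwpt, hwpt, hwpt, MonObj.mul_comp a b (Psi x), MonObj.mul_comp _ _ u', MonObj.mul_comp a b u]
    have c1 : Commute (a ≫ u) ((b ≫ Psi x) ≫ u') := hcomm T a (b ≫ Psi x)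
    have c2 : Commute (a ≫ u) (b ≫ u) := by
      show (a ≫ u) * (b ≫ u) = (b ≫ u) * (a ≫ u)
      rw [← MonObj.mul_comp a b u, ← MonObj.mul_comp b a u, DS_comm a b]
    have c3 : Commute (a ≫ u)⁻¹ (((b ≫ Psi x) ≫ u') * (b ≫ u)⁻¹) :=
      (c1.mul_right c2.inv_right).inv_left
    rw [_root_.mul_inv_rev, _root_.mul_assoc, ← _root_.mul_assoc ((b ≫ Psi x) ≫ u'), ← c3.eq,
      _root_.mul_assoc]
  haveI : IsClosedImmersion (i0 I) :=
    IsClosedImmersion.spec_of_surjective _ Ideal.Quotient.mk_surjective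
  have hw1 : w = 1 := by
    apply hom_trivial (i0 I) (Groth.Agent.Helper7.DiagNil.hnil (↑B) I hI) (Red.DS (Spec B) M) 𝒢
      (DS_locally M (Spec B)) w
    intro Y p g
    rw [hwpt, hpts Y p g, mul_inv_cancel]
  have hfin : (Psi x ≫ u') * u⁻¹ = 1 := hw1
  exact mul_inv_eq_one.mp hfin

end Local

end Groth.Agent.Helper7.GL
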