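import Mathlib
import Groth.Agent.Lib.Helper7.GLD
import Groth.Agent.Lib.Helper14.FacDescent

/-!
# Central subgroups of multiplicative type equal modulo a nilpotent ideal: the local step (helper7)
-/

set_option autoImplicit false
set_option linter.style.haveILetI false
set_option linter.unusedSectionVars false
universe u
open CategoryTheory CategoryTheory.Limits MonoidalCategory CartesianMonoidalCategory MonObj GrpObj
  AlgebraicGeometry

noncomputable section

namespace Groth.Agent.Helper7.GL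

open Groth.Agent.Helper18 Groth.Agent.Helper18.MultToGa Groth.Agent.Helper7.MTRig

section General

variable {S U : Scheme.{u}} (g : U ⟶ S) {G X : Over S} (f : G ⟶ X)

theorem dn_map' {T : Over U} (a : T ⟶ Red.bc g G) :
    BcPts.dn g X (a ≫ (Over.pullback g).map f) = BcPts.dn g G a ≫ f := by
  apply Over.OverMorphism.ext
  have hmap : ((Over.pullback g).map f).left ≫ pullback.fst X.hom g =
      pullback.fst G.hom g ≫ f.left := by
    simp only [Over.pullback, Over.homMk_left]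
    exact pullback.lift_fst _ _ _
  rw [BcPts.dn_left, Over.comp_left, Over.comp_left, BcPts.dn_left, Category.assoc, hmap,
    Category.assoc]

theorem mono_map [Mono f] : Mono ((Over.pullback g).map f) := by
  constructor
  intro T k₁ k₂ h
  apply dn_injective g G
  have h1 := congrArg (BcPts.dn g X) h
  rw [dn_map', dn_map'] at h1
  exact (cancel_mono f).1 h1

/-- points over a closed subscheme: transport of a pointwise factorisation along an isomorphism
of the base changes -/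
theorem exists_of_iso {S₀ : Scheme.{u}} (j : S₀ ⟶ S) {H H' : Over S} (i : H ⟶ X) (i' : H' ⟶ X)
    (ψ : Red.bc j H ⟶ Red.bc j H')
    (hψ : ψ ≫ (Over.pullback j).map i' = (Over.pullback j).map i)
    (Y : Over S) (p : Y ⟶ Over.mk j) (h : Y ⟶ H) : ∃ h' : Y ⟶ H', h' ≫ i' = h ≫ i := by
  let Y₀ : Over S₀ := Over.mk p.left
  have hw : p.left ≫ j = Y.hom := Over.w p
  let e : (Over.map j).obj Y₀ ≅ Y := Over.isoMk (Iso.refl _) (by
    show 𝟙 _ ≫ Y.hom = p.left ≫ j
    rw [Category.id_comp, hw])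
  let g₀ : Y₀ ⟶ Red.bc j H := up j H (e.hom ≫ h)
  refine ⟨e.inv ≫ BcPts.dn j H' (g₀ ≫ ψ), ?_⟩
  rw [Category.assoc, ← dn_map', Category.assoc, hψ, dn_map', dn_up, Category.assoc,
    Iso.inv_hom_id_assoc]

end General

section Loc

variable {R : Type u} [CommRing R] (J : Ideal R)
  {G H H' : Over (Spec (CommRingCat.of R))} [GrpObj G] [GrpObj H] [GrpObj H']
  (i : H ⟶ G) [IsMonHom i] (i' : H' ⟶ G) [IsMonHom i'] [Mono i']

/-- the closed immersion defined by `J` -/
abbrev jj : Spec (CommRingCat.of (R ⧸ J)) ⟶ Spec (CommRingCat.of R) :=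
  Spec.map (CommRingCat.ofHom (Ideal.Quotient.mk J))

theorem isNilpotent_map (hJ : IsNilpotent J) {C : Type u} [CommRing C] (φ : R →+* C) :
    IsNilpotent (Ideal.map φ J) := by
  obtain ⟨n, hn⟩ := hJ
  refine ⟨n, ?_⟩
  rw [← Ideal.map_pow, hn]
  exact Ideal.map_bot

/-- the local step: over an affine scheme on which both groups are diagonalisable, the points of
`H` come from points of `H'` -/
theorem locpt (hJ : IsNilpotent J)
    (hcomm : ∀ (X : Over (Spec (CommRingCat.of R))) (h : X ⟶ H) (h' : X ⟶ H'),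
      (h ≫ i) * (h' ≫ i') = (h' ≫ i') * (h ≫ i))
    (hP0 : ∀ (Y : Over (Spec (CommRingCat.of R))) (_ : Y ⟶ Over.mk (jj J)) (h : Y ⟶ H),
      ∃ h' : Y ⟶ H', h' ≫ i' = h ≫ i)
    {C : CommRingCat.{u}} (v : Spec C ⟶ Spec (CommRingCat.of R)) {M M' : Type}
    [AddCommGroup M] [AddCommGroup M']
    (e : Nonempty (Grp.mk (Red.bc v H) ≅ Grp.mk (Red.DS (Spec C) M)))
    (e' : Nonempty (Grp.mk (Red.bc v H') ≅ Grp.mk (Red.DS (Spec C) M')))
    (hC : Spec C ⟶ H.left) (hv : hC ≫ H.hom = v) :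
    ∃ a : Spec C ⟶ H'.left, a ≫ i'.left = hC ≫ i.left := by
  obtain ⟨iso⟩ := e
  obtain ⟨iso'⟩ := e'
  let ε : Red.bc v H ⟶ Red.DS (Spec C) M := iso.hom.hom.hom
  let εi : Red.DS (Spec C) M ⟶ Red.bc v H := iso.inv.hom.hom
  let ε' : Red.bc v H' ⟶ Red.DS (Spec C) M' := iso'.hom.hom.hom
  let εi' : Red.DS (Spec C) M' ⟶ Red.bc v H' := iso'.inv.hom.hom
  have h12 : ε ≫ εi = 𝟙 _ := by
    have := congrArg (fun k => k.hom.hom) iso.hom_inv_id
    exact this
  have h21' : εi' ≫ ε' = 𝟙 _ := by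
    have := congrArg (fun k => k.hom.hom) iso'.inv_hom_id
    exact this
  have h12' : ε' ≫ εi' = 𝟙 _ := by
    have := congrArg (fun k => k.hom.hom) iso'.hom_inv_id
    exact this
  let mi : Red.bc v H ⟶ Red.bc v G := (Over.pullback v).map i
  let mi' : Red.bc v H' ⟶ Red.bc v G := (Over.pullback v).map i'
  haveI : IsMonHom mi := by
    refine @Groth.Agent.Helper7.TwoGrp.isMonHom_of_mul_points _ _ _ inferInstance inferInstance mi ?_
    intro T a b
    apply dn_injective v G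
    rw [BcPts.dn_mul, dn_map', dn_map', dn_map', BcPts.dn_mul, MonObj.mul_comp _ _ i]
  haveI : IsMonHom mi' := by
    refine @Groth.Agent.Helper7.TwoGrp.isMonHom_of_mul_points _ _ _ inferInstance inferInstance mi' ?_
    intro T a b
    apply dn_injective v G
    rw [BcPts.dn_mul, dn_map', dn_map', dn_map', BcPts.dn_mul, MonObj.mul_comp _ _ i']
  haveI : Mono mi' := mono_map v i'
  haveI : Mono εi' := mono_of_mono_fac h21'
  let u : Red.DS (Spec C) M ⟶ Red.bc v G := εi ≫ mi
  let u' : Red.DS (Spec C) M' ⟶ Red.bc v G := εi' ≫ mi'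
  haveI : IsMonHom εi := inferInstance
  haveI : IsMonHom εi' := inferInstance
  haveI : IsMonHom u := inferInstance
  haveI : IsMonHom u' := inferInstance
  haveI : Mono u' := mono_comp _ _
  -- the ring map and the ideal
  let φ : CommRingCat.of R ⟶ C := Spec.preimage v
  have hφ : Spec.map φ = v := Spec.map_preimage v
  let I : Ideal C := Ideal.map φ.hom J
  have hI : IsNilpotent I := isNilpotent_map J hJ φ.hom
  -- the induced map on quotients
  let κ : CommRingCat.of (R ⧸ J) ⟶ B0 I :=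
    CommRingCat.ofHom (Ideal.quotientMap I φ.hom Ideal.le_comap_map)
  have hκ : Spec.map κ ≫ jj J = i0 I ≫ v := by
    rw [← hφ]
    show Spec.map κ ≫ Spec.map _ = Spec.map _ ≫ Spec.map φ
    rw [← Spec.map_comp, ← Spec.map_comp]
    congr 1
  have dnu : ∀ (Y : Over (Spec C)) (g : Y ⟶ Red.DS (Spec C) M),
      BcPts.dn v G (g ≫ u) = BcPts.dn v H (g ≫ εi) ≫ i := by
    intro Y g
    show BcPts.dn v G (g ≫ εi ≫ mi) = _
    rw [← Category.assoc, dn_map']
  have dnu' : ∀ (Y : Over (Spec C)) (g : Y ⟶ Red.DS (Spec C) M'),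
      BcPts.dn v G (g ≫ u') = BcPts.dn v H' (g ≫ εi') ≫ i' := by
    intro Y g
    show BcPts.dn v G (g ≫ εi' ≫ mi') = _
    rw [← Category.assoc, dn_map']
  have h0 : ∀ (Y : Over (Spec C)) (_ : Y ⟶ Over.mk (i0 I)) (g : Y ⟶ Red.DS (Spec C) M),
      ∃ g' : Y ⟶ Red.DS (Spec C) M', g' ≫ u' = g ≫ u := by
    intro Y p g
    have hw : p.left ≫ i0 I = Y.hom := Over.w p
    let q : (Over.map v).obj Y ⟶ Over.mk (jj J) := Over.homMk (p.left ≫ Spec.map κ) (by
      show (p.left ≫ Spec.map κ) ≫ jj J = Y.hom ≫ v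
      rw [Category.assoc, hκ, ← Category.assoc, hw])
    obtain ⟨h', hh'⟩ := hP0 _ q (BcPts.dn v H (g ≫ εi))
    refine ⟨up v H' h' ≫ ε', ?_⟩
    apply dn_injective v G
    rw [dnu, dnu', Category.assoc, h12', Category.comp_id, dn_up, hh']
  have hcomm' : ∀ (Y : Over (Spec C)) (g : Y ⟶ Red.DS (Spec C) M)
      (g' : Y ⟶ Red.DS (Spec C) M'), (g ≫ u) * (g' ≫ u') = (g' ≫ u') * (g ≫ u) := by
    intro Y g g'
    apply dn_injective v G
    rw [BcPts.dn_mul, BcPts.dn_mul, dnu, dnu']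
    exact hcomm _ _ _
  obtain ⟨ψ, hψ⟩ := exists_lift I u u' h0 hI hcomm'
  -- the point
  let Y : Over (Spec C) := Over.mk (𝟙 (Spec C))
  let b : (Over.map v).obj Y ⟶ H := Over.homMk hC (by
    show hC ≫ H.hom = 𝟙 _ ≫ v
    rw [hv, Category.id_comp])
  let k : Y ⟶ Red.bc v H := up v H b
  let k' : Y ⟶ Red.bc v H' := k ≫ ε ≫ ψ ≫ εi'
  refine ⟨(BcPts.dn v H' k').left, ?_⟩
  have e1 : k' ≫ mi' = k ≫ mi := by
    show (k ≫ ε ≫ ψ ≫ εi') ≫ mi' = k ≫ mi
    have : ψ ≫ εi' ≫ mi' = εi ≫ mi := hψ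
    rw [Category.assoc, Category.assoc, Category.assoc, this, ← Category.assoc ε, h12,
      Category.id_comp]
  have e2 := congrArg (BcPts.dn v G) e1
  rw [dn_map', dn_map', dn_up] at e2
  have e3 := congrArg (fun m => m.left) e2
  exact e3

end Loc

end Groth.Agent.Helper7.GL
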