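import Mathlib
import Groth.Agent.Lib.Helper7.GLE
import Groth.Agent.Lib.Helper18.GrpFppf3

/-!
# Injectivity of a morphism on affine points (helper7)

`MonoOver u t`: the morphism `u : G ⟶ H` of `S`-schemes is injective on the affine points lying
over `t : T ⟶ S`; equivalent to the base change of `u` along `t` being a monomorphism.
-/

set_option autoImplicit false
set_option linter.style.haveILetI false
set_option linter.unusedSectionVars false
universe u
open CategoryTheory CategoryTheory.Limits MonoidalCategory CartesianMonoidalCategory MonObj GrpObj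
  AlgebraicGeometry

noncomputable section

namespace Groth.Agent.Helper7.ML

open Groth.Agent.Helper18 Groth.Agent.Helper7.MTRig Groth.Agent.Helper7.GL

variable {S : Scheme.{u}} {G H : Over S} (u : G ⟶ H)

/-- injectivity on the points over `σ` -/
def InjAt {C : CommRingCat.{u}} (σ : Spec C ⟶ S) : Prop :=
  ∀ g₁ g₂ : Over.mk σ ⟶ G, g₁ ≫ u = g₂ ≫ u → g₁ = g₂

/-- injectivity on all affine points over `t` -/
def MonoOver {T : Scheme.{u}} (t : T ⟶ S) : Prop :=
  ∀ (C : CommRingCat.{u}) (σ : Spec C ⟶ S), (∃ τ : Spec C ⟶ T, τ ≫ t = σ) → InjAt u σ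

theorem MonoOver.comp {T T' : Scheme.{u}} {t : T ⟶ S} (h : MonoOver u t) (π : T' ⟶ T) :
    MonoOver u (π ≫ t) := by
  intro C σ ⟨τ, hτ⟩
  exact h C σ ⟨τ ≫ π, by rw [Category.assoc, hτ]⟩

theorem MonoOver.of_eq {T T' : Scheme.{u}} {t : T ⟶ S} (h : MonoOver u t) (π : T' ⟶ T)
    (t' : T' ⟶ S) (ht : π ≫ t = t') : MonoOver u t' := by
  subst ht
  exact h.comp u π

/-- base change of `u` is a monomorphism iff `u` is injective on affine points -/
theorem mono_iff_monoOver {T : Scheme.{u}} (t : T ⟶ S) :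
    Mono ((Over.pullback t).map u).left ↔ MonoOver u t := by
  constructor
  · intro hm C σ ⟨τ, hτ⟩ g₁ g₂ hg
    subst hτ
    haveI : Mono ((Over.pullback t).map u) := Over.mono_of_mono_left _
    let k₁ : Over.mk τ ⟶ Red.bc t G := up t G (T := Over.mk τ) g₁
    let k₂ : Over.mk τ ⟶ Red.bc t G := up t G (T := Over.mk τ) g₂
    have hk : k₁ ≫ (Over.pullback t).map u = k₂ ≫ (Over.pullback t).map u := by
      apply dn_injective t H
      rw [dn_map', dn_map', dn_up, dn_up]
      exact hg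
    have h2 := (cancel_mono _).1 hk
    have h3 := congrArg (BcPts.dn t G) h2
    rw [dn_up, dn_up] at h3
    exact h3
  · intro h
    haveI : Mono ((Over.pullback t).map u) := by
      constructor
      intro Y k₁ k₂ hk
      apply Over.OverMorphism.ext
      apply Groth.Agent.Helper7.Nil.hom_ext_of_local
      intro y
      obtain ⟨C, f, hf, hy, -⟩ :=
        Scheme.exists_affine_mem_range_and_range_subset (U := (⊤ : Y.left.Opens)) (x := y) trivial
      refine ⟨C, f, hf, hy, ?_⟩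
      let τ : Spec C ⟶ T := f ≫ Y.hom
      let r : Over.mk τ ⟶ Y := Over.homMk f rfl
      show (r ≫ k₁).left = (r ≫ k₂).left
      congr 1
      apply dn_injective t G
      apply h C (τ ≫ t) ⟨τ, rfl⟩
      have e1 : (r ≫ k₁) ≫ (Over.pullback t).map u = (r ≫ k₂) ≫ (Over.pullback t).map u :=
        (Category.assoc _ _ _).trans ((congrArg (fun k => r ≫ k) hk).trans
          (Category.assoc _ _ _).symm)
      exact (dn_map' t u (r ≫ k₁)).symm.trans ((congrArg (BcPts.dn t H) e1).trans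
        (dn_map' t u (r ≫ k₂)))
    infer_instance

/-- descent along a flat surjective morphism -/
theorem MonoOver.descend {T T' : Scheme.{u}} (t : T ⟶ S) (q : T' ⟶ T) [Flat q] [Surjective q]
    (h : MonoOver u (q ≫ t)) : MonoOver u t := by
  intro C σ ⟨τ, hτ⟩ g₁ g₂ hg
  subst hτ
  let p₁ : pullback τ q ⟶ Spec C := pullback.fst τ q
  haveI : Epi p₁ := Flat.epi_of_flat_of_surjective p₁
  apply Over.OverMorphism.ext
  rw [← cancel_epi p₁]
  apply Groth.Agent.Helper7.Nil.hom_ext_of_local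
  intro y
  obtain ⟨D, f, hf, hy, -⟩ :=
    Scheme.exists_affine_mem_range_and_range_subset (U := (⊤ : (pullback τ q).Opens)) (x := y)
      trivial
  refine ⟨D, f, hf, hy, ?_⟩
  let r : Over.mk ((f ≫ p₁) ≫ τ ≫ t) ⟶ Over.mk (τ ≫ t) := Over.homMk (f ≫ p₁) rfl
  have key : r ≫ g₁ = r ≫ g₂ := by
    apply h D ((f ≫ p₁) ≫ τ ≫ t) ⟨f ≫ pullback.snd τ q, ?_⟩
    · exact (Category.assoc _ _ _).trans ((congrArg (fun k => r ≫ k) hg).trans
        (Category.assoc _ _ _).symm)
    · show (f ≫ pullback.snd τ q) ≫ q ≫ t = (f ≫ pullback.fst τ q) ≫ τ ≫ t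
      have hc := pullback.condition (f := τ) (g := q)
      calc (f ≫ pullback.snd τ q) ≫ q ≫ t = f ≫ (pullback.snd τ q ≫ q) ≫ t := by
            simp only [Category.assoc]
        _ = f ≫ (pullback.fst τ q ≫ τ) ≫ t := by rw [hc]
        _ = (f ≫ pullback.fst τ q) ≫ τ ≫ t := by simp only [Category.assoc]
  have key2 : (f ≫ p₁) ≫ g₁.left = (f ≫ p₁) ≫ g₂.left := congrArg (fun k => k.left) key
  exact (Category.assoc _ _ _).symm.trans (key2.trans (Category.assoc _ _ _))

/-- Zariski locality -/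
theorem MonoOver.of_local {T : Scheme.{u}} (t : T ⟶ S)
    (h : ∀ x : T, ∃ W : T.Opens, x ∈ W ∧ MonoOver u (W.ι ≫ t)) : MonoOver u t := by
  intro C σ ⟨τ, hτ⟩ g₁ g₂ hg
  subst hτ
  apply Over.OverMorphism.ext
  apply Groth.Agent.Helper7.Nil.hom_ext_of_local
  intro c
  obtain ⟨W, hxW, hW⟩ := h (τ c)
  have hc : c ∈ τ ⁻¹ᵁ W := hxW
  obtain ⟨D, f, hf, hy, hfW⟩ := Scheme.exists_affine_mem_range_and_range_subset hc
  refine ⟨D, f, hf, hy, ?_⟩
  have hrange : Set.range (f ≫ τ).base ⊆ Set.range W.ι.base := by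
    rintro _ ⟨d, rfl⟩
    have : f d ∈ τ ⁻¹ᵁ W := hfW ⟨d, rfl⟩
    rw [Scheme.Opens.range_ι]
    simpa using this
  let τW : Spec D ⟶ (W : Scheme.{u}) := IsOpenImmersion.lift W.ι (f ≫ τ) hrange
  have hτW : τW ≫ W.ι = f ≫ τ := IsOpenImmersion.lift_fac _ _ _
  let r : Over.mk (f ≫ τ ≫ t) ⟶ Over.mk (τ ≫ t) := Over.homMk f rfl
  have key : r ≫ g₁ = r ≫ g₂ := by
    apply hW D (f ≫ τ ≫ t) ⟨τW, ?_⟩
    · exact (Category.assoc _ _ _).trans ((congrArg (fun k => r ≫ k) hg).trans
        (Category.assoc _ _ _).symm)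
    · rw [← Category.assoc, hτW, Category.assoc]
  have key2 : f ≫ g₁.left = f ≫ g₂.left := congrArg (fun k => k.left) key
  exact key2

end Groth.Agent.Helper7.ML
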