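import Mathlib
import Groth.Agent.Lib.Helper7.MLA

/-!
# Homomorphisms `D(M) ⟶ D(N)` over an affine base: standard form and injectivity (helper7)
-/

set_option autoImplicit false
set_option linter.style.haveILetI false
set_option linter.unusedSectionVars false
universe u
open CategoryTheory CategoryTheory.Limits MonoidalCategory CartesianMonoidalCategory MonObj GrpObj
  AlgebraicGeometry

noncomputable section

namespace Groth.Agent.Helper7.ML

open Groth.Agent.Helper18 Groth.Agent.Helper18.MultToGa Groth.Agent.Helper7.MTRig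
  Groth.Agent.Helper7.GL

variable {B : CommRingCat.{u}} {M N : Type} [AddCommGroup M] [AddCommGroup N]
  (ψ : Red.DS (Spec B) M ⟶ Red.DS (Spec B) N) [IsMonHom ψ]

/-- the map on characters induced by `ψ` on affine points -/
def PhiPsi {C : CommRingCat.{u}} (τ : Spec C ⟶ Spec B) (χ : Multiplicative M →* C) :
    Multiplicative N →* C :=
  ((Scheme.ΓSpecIso C).hom.hom : Γ(Spec C, ⊤) →* C).comp (DSPts.charOfPt (pt τ χ ≫ ψ))

omit [IsMonHom ψ] in
theorem pt_comp_psi {C : CommRingCat.{u}} (τ : Spec C ⟶ Spec B) (χ : Multiplicative M →* C) :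
    pt τ χ ≫ ψ = pt τ (PhiPsi ψ τ χ) := by
  unfold PhiPsi
  rw [pt_char]

omit [IsMonHom ψ] in
theorem PhiPsi_nat {C C' : CommRingCat.{u}} (h : C ⟶ C') (τ : Spec C ⟶ Spec B)
    (τ' : Spec C' ⟶ Spec B) (hτ : τ' = Spec.map h ≫ τ) (χ : Multiplicative M →* C) :
    PhiPsi ψ τ' ((h.hom : C →* C').comp χ) = (h.hom : C →* C').comp (PhiPsi ψ τ χ) := by
  apply pt_injective τ'
  rw [← pt_comp_psi, ← pt_comp' h τ τ' hτ.symm, ← pt_comp' h τ τ' hτ.symm, Category.assoc,
    pt_comp_psi]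

theorem PhiPsi_mul {C : CommRingCat.{u}} (τ : Spec C ⟶ Spec B) (χ χ' : Multiplicative M →* C) :
    PhiPsi ψ τ (χ * χ') = PhiPsi ψ τ χ * PhiPsi ψ τ χ' := by
  apply pt_injective τ
  rw [← pt_comp_psi, pt_mul, pt_mul, MonObj.mul_comp _ _ ψ, pt_comp_psi, pt_comp_psi]

/-- the group-like elements of `ψ` -/
def XX : Multiplicative N →* MonoidAlgebra B (Multiplicative M) :=
  X (U := Spec B) (fun {C} τ χ => PhiPsi ψ τ χ) (C := B) (𝟙 (Spec B))

open Classical in
theorem XX_coeff (n : Multiplicative N) (g h : Multiplicative M) :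
    (XX ψ n).coeff g * (XX ψ n).coeff h = if g = h then (XX ψ n).coeff g else 0 :=
  X_coeff_mul (U := Spec B) (fun {C} τ χ => PhiPsi ψ τ χ)
    (fun h τ τ' hτ χ => PhiPsi_nat ψ h τ τ' hτ χ)
    (fun τ χ χ' => PhiPsi_mul ψ τ χ χ') (C := B) (𝟙 _) n g h

theorem XX_sum (n : Multiplicative N) : ((XX ψ n).coeff.sum fun _ b => b) = 1 :=
  X_sum (U := Spec B) (fun {C} τ χ => PhiPsi ψ τ χ)
    (fun h τ τ' hτ χ => PhiPsi_nat ψ h τ τ' hτ χ)
    (fun τ χ χ' => PhiPsi_mul ψ τ χ χ') (C := B) (𝟙 _) n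

omit [IsMonHom ψ] in
theorem PhiPsi_eq {C : CommRingCat.{u}} (θ : B ⟶ C) (χ : Multiplicative M →* C)
    (n : Multiplicative N) :
    PhiPsi ψ (Spec.map θ) χ n = MonoidAlgebra.lift C C (Multiplicative M) χ
      (MonoidAlgebra.mapRingHom (Multiplicative M) θ.hom (XX ψ n)) := by
  have h1 := X_eval (U := Spec B) (fun {C} τ χ => PhiPsi ψ τ χ)
    (fun h τ τ' hτ χ => PhiPsi_nat ψ h τ τ' hτ χ) (Spec.map θ) χ n
  have h2 := X_nat (U := Spec B) (fun {C} τ χ => PhiPsi ψ τ χ)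
    (fun h τ τ' hτ χ => PhiPsi_nat ψ h τ τ' hτ χ) θ (𝟙 _) (Spec.map θ)
    (by rw [Category.comp_id]) n
  rw [h1, h2]
  rfl

/-- `ψ` is given by the homomorphism `φ` after the base change `θ` -/
def Std {C : CommRingCat.{u}} (θ : B ⟶ C) (φ : Multiplicative N →* Multiplicative M) : Prop :=
  ∀ n : Multiplicative N, MonoidAlgebra.mapRingHom (Multiplicative M) θ.hom (XX ψ n) =
    MonoidAlgebra.single (φ n) 1

omit [IsMonHom ψ] in
theorem PhiPsi_of_std {C D : CommRingCat.{u}} (θ : B ⟶ C) (φ : Multiplicative N →* Multiplicative M)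
    (h : Std ψ θ φ) (ρ : C ⟶ D) (χ : Multiplicative M →* D) :
    PhiPsi ψ (Spec.map (θ ≫ ρ)) χ = χ.comp φ := by
  apply MonoidHom.ext
  intro n
  rw [PhiPsi_eq]
  have e : MonoidAlgebra.mapRingHom (Multiplicative M) (θ ≫ ρ).hom (XX ψ n) =
      MonoidAlgebra.mapRingHom (Multiplicative M) ρ.hom
        (MonoidAlgebra.mapRingHom (Multiplicative M) θ.hom (XX ψ n)) := by
    apply MonoidAlgebra.coeff_injective
    ext g
    simp [MonoidAlgebra.coeff_mapRingHom]
  rw [e, h n]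
  simp

omit [IsMonHom ψ] in
/-- in standard form with `φ` surjective, `ψ` is injective on affine points -/
theorem monoOver_of_std {C : CommRingCat.{u}} (θ : B ⟶ C)
    (φ : Multiplicative N →* Multiplicative M) (h : Std ψ θ φ) (hφ : Function.Surjective φ) :
    MonoOver ψ (Spec.map θ) := by
  intro D σ ⟨τ, hτ⟩ k₁ k₂ hk
  have hσ : σ = Spec.map (θ ≫ Spec.preimage τ) := by
    rw [Spec.map_comp, Spec.map_preimage, hτ]
  subst hσ
  rw [← pt_char _ k₁, ← pt_char _ k₂] at hk ⊢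
  rw [pt_comp_psi, pt_comp_psi, PhiPsi_of_std ψ θ φ h, PhiPsi_of_std ψ θ φ h] at hk
  have h2 := pt_injective _ hk
  congr 1
  apply MonoidHom.ext
  intro m
  obtain ⟨n, rfl⟩ := hφ m
  exact congrArg (fun k => k n) h2

omit [IsMonHom ψ] in
/-- conversely over a nontrivial ring -/
theorem surjective_of_std {C : CommRingCat.{u}} [Nontrivial C] (θ : B ⟶ C)
    (φ : Multiplicative N →* Multiplicative M) (h : Std ψ θ φ)
    (hm : MonoOver ψ (Spec.map θ)) : Function.Surjective φ := by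
  let Q := Multiplicative M ⧸ φ.range
  let D : CommRingCat.{u} := CommRingCat.of (MonoidAlgebra C Q)
  let ρ : C ⟶ D := ιA C Q
  let χ₁ : Multiplicative M →* D := (MonoidAlgebra.of C Q).comp (QuotientGroup.mk' φ.range)
  let χ₂ : Multiplicative M →* D := 1
  have hχ : χ₁.comp φ = χ₂.comp φ := by
    apply MonoidHom.ext
    intro n
    show MonoidAlgebra.of C Q (QuotientGroup.mk' φ.range (φ n)) = 1
    have : QuotientGroup.mk' φ.range (φ n) = 1 :=
      (QuotientGroup.eq_one_iff _).2 ⟨n, rfl⟩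
    rw [this, map_one]
  have hinj := hm D (Spec.map (θ ≫ ρ)) ⟨Spec.map ρ, by rw [← Spec.map_comp]⟩
    (pt (Spec.map (θ ≫ ρ)) χ₁) (pt (Spec.map (θ ≫ ρ)) χ₂) (by
      rw [pt_comp_psi, pt_comp_psi, PhiPsi_of_std ψ θ φ h, PhiPsi_of_std ψ θ φ h, hχ])
  have h12 : χ₁ = χ₂ := pt_injective _ hinj
  intro m
  have h3 : MonoidAlgebra.of C Q (QuotientGroup.mk' φ.range m) = MonoidAlgebra.of C Q 1 := by
    have := congrArg (fun k => k m) h12
    rw [map_one]
    exact this
  have h4 := MonoidAlgebra.of_injective h3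
  exact (QuotientGroup.eq_one_iff m).1 h4

end Groth.Agent.Helper7.ML
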