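import Mathlib
import Groth.Agent.Lib.Helper7.MLB
import Groth.Agent.Lib.Helper16.Sch.CoverTriv

/-!
# The locus where a homomorphism of groups of multiplicative type is a monomorphism (helper7)
-/

set_option autoImplicit false
set_option linter.style.haveILetI false
set_option linter.unusedSectionVars false
universe u
open CategoryTheory CategoryTheory.Limits MonoidalCategory CartesianMonoidalCategory MonObj GrpObj
  AlgebraicGeometry

noncomputable section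

namespace Groth.Agent.Helper7.ML

open Groth.Agent.Helper18 Groth.Agent.Helper18.MultToGa Groth.Agent.Helper7.MTRig
  Groth.Agent.Helper7.GL

section A4

variable {S : Scheme.{u}} {G H : Over S} (u : G ⟶ H)
  {B : CommRingCat.{u}} (v : Spec B ⟶ S) {M N : Type} [AddCommGroup M] [AddCommGroup N]
  (εG : Red.bc v G ⟶ Red.DS (Spec B) M) (εGi : Red.DS (Spec B) M ⟶ Red.bc v G)
  (εH : Red.bc v H ⟶ Red.DS (Spec B) N) (εHi : Red.DS (Spec B) N ⟶ Red.bc v H)

/-- the homomorphism of diagonalisable groups attached to `u` and trivialisations -/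
def psiOf : Red.DS (Spec B) M ⟶ Red.DS (Spec B) N := εGi ≫ (Over.pullback v).map u ≫ εH

theorem up_map {T : Over (Spec B)} (g : (Over.map v).obj T ⟶ G) :
    up v H (g ≫ u) = up v G g ≫ (Over.pullback v).map u := by
  apply dn_injective v H
  rw [dn_map', dn_up, dn_up]

variable (hG1 : εG ≫ εGi = 𝟙 _) (hG2 : εGi ≫ εG = 𝟙 _) (hH1 : εH ≫ εHi = 𝟙 _)

include hH1 hG2 in
theorem monoOver_psi_of_monoOver {T : Scheme.{u}} (τ : T ⟶ Spec B) (h : MonoOver u (τ ≫ v)) :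
    MonoOver (psiOf u v εGi εH) τ := by
  intro D σ ⟨τ', hτ'⟩ k₁ k₂ hk
  have e1 : ∀ k : Over.mk σ ⟶ Red.DS (Spec B) M,
      (k ≫ psiOf u v εGi εH) ≫ εHi = (k ≫ εGi) ≫ (Over.pullback v).map u := by
    intro k
    unfold psiOf
    rw [Category.assoc, Category.assoc, Category.assoc, hH1, Category.comp_id, Category.assoc]
  have e2 : (k₁ ≫ εGi) ≫ (Over.pullback v).map u = (k₂ ≫ εGi) ≫ (Over.pullback v).map u := by
    rw [← e1, ← e1, hk]
  let g₁ : Over.mk (σ ≫ v) ⟶ G := BcPts.dn v G (T := Over.mk σ) (k₁ ≫ εGi)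
  let g₂ : Over.mk (σ ≫ v) ⟶ G := BcPts.dn v G (T := Over.mk σ) (k₂ ≫ εGi)
  have hg : g₁ ≫ u = g₂ ≫ u := by
    have := congrArg (BcPts.dn v H) e2
    rw [dn_map', dn_map'] at this
    exact this
  have h12 : g₁ = g₂ := h D (σ ≫ v) ⟨τ', by rw [← hτ', Category.assoc]⟩ g₁ g₂ hg
  have h3 : k₁ ≫ εGi = k₂ ≫ εGi := dn_injective v G h12
  have h4 := congrArg (fun k => k ≫ εG) h3
  simp only [Category.assoc, hG2, Category.comp_id] at h4
  exact h4

include hG1 in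
theorem monoOver_of_monoOver_psi {T : Scheme.{u}} (τ : T ⟶ Spec B)
    (h : MonoOver (psiOf u v εGi εH) τ) : MonoOver u (τ ≫ v) := by
  intro D σ ⟨τ', hτ'⟩ g₁ g₂ hg
  have hσ : σ = (τ' ≫ τ) ≫ v := by rw [← hτ', Category.assoc]
  subst hσ
  let k₁ : Over.mk (τ' ≫ τ) ⟶ Red.DS (Spec B) M := up v G (T := Over.mk (τ' ≫ τ)) g₁ ≫ εG
  let k₂ : Over.mk (τ' ≫ τ) ⟶ Red.DS (Spec B) M := up v G (T := Over.mk (τ' ≫ τ)) g₂ ≫ εG
  have e1 : ∀ g : Over.mk ((τ' ≫ τ) ≫ v) ⟶ G,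
      (up v G (T := Over.mk (τ' ≫ τ)) g ≫ εG) ≫ psiOf u v εGi εH =
        up v H (T := Over.mk (τ' ≫ τ)) (g ≫ u) ≫ εH := by
    intro g
    unfold psiOf
    rw [up_map, Category.assoc, ← Category.assoc εG, hG1, Category.id_comp, Category.assoc]
  have hk : k₁ ≫ psiOf u v εGi εH = k₂ ≫ psiOf u v εGi εH := by
    show (up v G (T := Over.mk (τ' ≫ τ)) g₁ ≫ εG) ≫ _ = (up v G (T := Over.mk (τ' ≫ τ)) g₂ ≫ εG) ≫ _
    rw [e1, e1, hg]
  have h12 : k₁ = k₂ := h D (τ' ≫ τ) ⟨τ', rfl⟩ k₁ k₂ hk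
  have h3 := congrArg (fun k => k ≫ εGi) h12
  simp only [k₁, k₂, Category.assoc, hG1, Category.comp_id] at h3
  have h4 := congrArg (BcPts.dn v G) h3
  rw [dn_up, dn_up] at h4
  exact h4

end A4

end Groth.Agent.Helper7.ML
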