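import Mathlib
import Groth.Agent.Lib.Helper7.MLC
import Groth.Agent.Lib.Helper17.FieldPt
import Groth.Agent.Lib.Helper29.StdAlg
import Groth.Agent.Lib.Helper10.FpqcOpen

/-!
# The locus where a homomorphism of groups of multiplicative type is a monomorphism, II (helper7)
-/

set_option autoImplicit false
set_option linter.style.haveILetI false
set_option linter.unusedSectionVars false
universe u
open CategoryTheory CategoryTheory.Limits MonoidalCategory CartesianMonoidalCategory MonObj GrpObj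
  AlgebraicGeometry

noncomputable section

namespace Groth.Agent.Helper7.ML

open Groth.Agent.Helper18 Groth.Agent.Helper18.MultToGa Groth.Agent.Helper7.MTRig
  Groth.Agent.Helper7.GL Groth.Agent.Helper17.FieldPt

variable {S : Scheme.{u}} {G H : Over S} [GrpObj G] [GrpObj H] (u : G ⟶ H) [IsMonHom u]

theorem isMonHom_map {T : Scheme.{u}} (v : T ⟶ S) : IsMonHom ((Over.pullback v).map u) := by
  refine @Groth.Agent.Helper7.TwoGrp.isMonHom_of_mul_points _ _ _ inferInstance inferInstance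
    ((Over.pullback v).map u) ?_
  intro T a b
  apply dn_injective v H
  rw [BcPts.dn_mul, dn_map', dn_map', dn_map', BcPts.dn_mul, MonObj.mul_comp _ _ u]

/-- the set of points over which `u` is a monomorphism -/
def Zset : Set S := {s | MonoOver u (S.fromSpecResidueField s)}

omit [GrpObj G] [GrpObj H] [IsMonHom u] in
theorem exists_idem_std {B : CommRingCat.{u}} {M N : Type} [AddCommGroup M] [AddCommGroup N]
    (ψ : Red.DS (Spec B) M ⟶ Red.DS (Spec B) N) [IsMonHom ψ] (hN : AddGroup.FG N) (y : Spec B) :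
    ∃ (e : B) (φ : Multiplicative N →* Multiplicative M), IsIdempotentElem e ∧ e ∉ y.asIdeal ∧
      ∀ (C : CommRingCat.{u}) (θ : B ⟶ C), θ.hom e = 1 → Std ψ θ φ := by
  have hNfg : Group.FG (Multiplicative N) := AddGroup.fg_iff_mul_fg.1 hN
  have h1 := XX_coeff ψ
  have h2 := XX_sum ψ
  have h3 := @Groth.Agent.Helper29.StdAlg.exists_std_alg B _ (Multiplicative M) (Multiplicative N)
    _ _ hNfg (XX ψ)
  obtain ⟨e, φ, he, he1, hstd⟩ := @h3 h1 h2 y.asIdeal.ResidueField _ inferInstance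
    (algebraMap B y.asIdeal.ResidueField)
  refine ⟨e, φ, he, ?_, ?_⟩
  · intro h
    have h0 : algebraMap B y.asIdeal.ResidueField e = 0 :=
      Ideal.algebraMap_residueField_eq_zero.2 h
    rw [he1] at h0
    exact one_ne_zero h0
  · intro C θ hθ
    exact hstd θ.hom hθ

theorem local_alt0 {B : CommRingCat.{u}} (v : Spec B ⟶ S) {M N : Type} [AddCommGroup M]
    [AddCommGroup N] (hN : AddGroup.FG N)
    (εG : Red.bc v G ⟶ Red.DS (Spec B) M) (εGi : Red.DS (Spec B) M ⟶ Red.bc v G)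
    (εH : Red.bc v H ⟶ Red.DS (Spec B) N) (εHi : Red.DS (Spec B) N ⟶ Red.bc v H)
    (hG1 : εG ≫ εGi = 𝟙 _) (hG2 : εGi ≫ εG = 𝟙 _) (hH1 : εH ≫ εHi = 𝟙 _)
    [IsMonHom (psiOf u v εGi εH)] (y : Spec B) :
    ∃ (C : CommRingCat.{u}) (θ : B ⟶ C), IsOpenImmersion (Spec.map θ) ∧
      y ∈ Set.range (Spec.map θ).base ∧
      (((∀ y' : Spec C, v ((Spec.map θ) y') ∈ Zset u) ∧ MonoOver u (Spec.map θ ≫ v)) ∨
        (∀ y' : Spec C, v ((Spec.map θ) y') ∉ Zset u)) := by
  obtain ⟨e, φ, he, hey, hstd⟩ := exists_idem_std (psiOf u v εGi εH) hN y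
  obtain ⟨C, θ, hoi, hyr, hθe⟩ := exists_openImm_of_idem e he y hey
  refine ⟨C, θ, hoi, hyr, ?_⟩
  -- the key claim
  have key : ∀ y'' : Spec B, e ∉ y''.asIdeal → (v y'' ∈ Zset u ↔ Function.Surjective φ) := by
    intro y'' hy''
    let θ'' : B ⟶ CommRingCat.of y''.asIdeal.ResidueField :=
      CommRingCat.ofHom (algebraMap B y''.asIdeal.ResidueField)
    have h1 : θ''.hom e = 1 := by
      have hid : IsIdempotentElem (algebraMap B y''.asIdeal.ResidueField e) :=
        he.map (algebraMap B y''.asIdeal.ResidueField)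
      rcases (IsIdempotentElem.iff_eq_zero_or_one).1 hid with h0 | h1
      · exact absurd (Ideal.algebraMap_residueField_eq_zero.1 h0) hy''
      · exact h1
    have hstd'' : Std (psiOf u v εGi εH) θ'' φ := hstd _ θ'' h1
    obtain ⟨q, hqf, hqs, hq⟩ := exists_flat_surj_fac v y''
    constructor
    · intro hz
      have hz' : MonoOver u (S.fromSpecResidueField (v y'')) := hz
      have h2 : MonoOver u (Spec.map θ'' ≫ v) := hz'.of_eq u q _ hq
      have h3 : MonoOver (psiOf u v εGi εH) (Spec.map θ'') :=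
        monoOver_psi_of_monoOver u v εG εGi εH εHi hG2 hH1 (Spec.map θ'') h2
      haveI : Nontrivial (CommRingCat.of y''.asIdeal.ResidueField) :=
        inferInstanceAs (Nontrivial y''.asIdeal.ResidueField)
      exact surjective_of_std (psiOf u v εGi εH) θ'' φ hstd'' h3
    · intro hφ
      have h3 : MonoOver (psiOf u v εGi εH) (Spec.map θ'') :=
        monoOver_of_std (psiOf u v εGi εH) θ'' φ hstd'' hφ
      have h2 : MonoOver u (Spec.map θ'' ≫ v) :=
        monoOver_of_monoOver_psi u v εG εGi εH hG1 (Spec.map θ'') h3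
      have h4 : MonoOver u (q ≫ S.fromSpecResidueField (v y'')) := by
        rw [hq]; exact h2
      exact MonoOver.descend u _ q h4
  have hnot : ∀ y' : Spec C, e ∉ ((Spec.map θ) y').asIdeal := by
    intro y' h
    have h' : θ.hom e ∈ y'.asIdeal := h
    rw [hθe] at h'
    exact y'.isPrime.ne_top ((Ideal.eq_top_iff_one _).2 h')
  by_cases hφ : Function.Surjective φ
  · left
    constructor
    · intro y'
      exact (key _ (hnot y')).2 hφ
    · exact monoOver_of_monoOver_psi u v εG εGi εH hG1 (Spec.map θ)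
        (monoOver_of_std (psiOf u v εGi εH) θ φ (hstd _ θ hθe) hφ)
  · right
    intro y' h
    exact hφ ((key _ (hnot y')).1 h)

theorem local_alt {B : CommRingCat.{u}} (v : Spec B ⟶ S) {M N : Type} [AddCommGroup M]
    [AddCommGroup N] (hN : AddGroup.FG N)
    (isoG : Grp.mk (Red.bc v G) ≅ Grp.mk (Red.DS (Spec B) M))
    (isoH : Grp.mk (Red.bc v H) ≅ Grp.mk (Red.DS (Spec B) N)) (y : Spec B) :
    ∃ (C : CommRingCat.{u}) (θ : B ⟶ C), IsOpenImmersion (Spec.map θ) ∧
      y ∈ Set.range (Spec.map θ).base ∧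
      (((∀ y' : Spec C, v ((Spec.map θ) y') ∈ Zset u) ∧ MonoOver u (Spec.map θ ≫ v)) ∨
        (∀ y' : Spec C, v ((Spec.map θ) y') ∉ Zset u)) := by
  have hG1 : isoG.hom.hom.hom ≫ isoG.inv.hom.hom = 𝟙 _ := by
    have := congrArg (fun k => k.hom.hom) isoG.hom_inv_id
    exact this
  have hG2 : isoG.inv.hom.hom ≫ isoG.hom.hom.hom = 𝟙 _ := by
    have := congrArg (fun k => k.hom.hom) isoG.inv_hom_id
    exact this
  have hH1 : isoH.hom.hom.hom ≫ isoH.inv.hom.hom = 𝟙 _ := by
    have := congrArg (fun k => k.hom.hom) isoH.hom_inv_id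
    exact this
  haveI : IsMonHom ((Over.pullback v).map u) := isMonHom_map u v
  haveI : IsMonHom isoG.inv.hom.hom := inferInstance
  haveI : IsMonHom isoH.hom.hom.hom := inferInstance
  haveI : IsMonHom (psiOf u v isoG.inv.hom.hom isoH.hom.hom.hom) := by
    show IsMonHom (isoG.inv.hom.hom ≫ (Over.pullback v).map u ≫ isoH.hom.hom.hom)
    infer_instance
  exact local_alt0 u v hN isoG.hom.hom.hom isoG.inv.hom.hom isoH.hom.hom.hom isoH.inv.hom.hom
    hG1 hG2 hH1 y

omit [GrpObj G] [GrpObj H] [IsMonHom u] in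
/-- injectivity on affine points can be checked on a flat cover, locally on the cover -/
theorem cover_lemma {T P : Scheme.{u}} (t : T ⟶ S) (p : P ⟶ S) [Flat p]
    (hsurj : ∀ x : T, t x ∈ Set.range p.base)
    (h : ∀ x' : P, (∃ x : T, t x = p x') → ∃ (Y : Scheme.{u}) (w : Y ⟶ P),
      IsOpenImmersion w ∧ x' ∈ Set.range w.base ∧ MonoOver u (w ≫ p)) : MonoOver u t := by
  let q : pullback t p ⟶ T := pullback.fst t p
  haveI : Flat q := inferInstance
  haveI : Surjective q := by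
    constructor
    intro x
    obtain ⟨x', hx'⟩ := hsurj x
    obtain ⟨z, hz1, -⟩ := Scheme.Pullback.exists_preimage_pullback (f := t) (g := p) x x' hx'.symm
    exact ⟨z, hz1⟩
  apply MonoOver.descend u t q
  have hc : q ≫ t = pullback.snd t p ≫ p := pullback.condition
  rw [hc]
  apply MonoOver.of_local
  intro z
  have hz : ∃ x : T, t x = p ((pullback.snd t p) z) := by
    refine ⟨(pullback.fst t p) z, ?_⟩
    have := congrArg (fun k => k.base z) (pullback.condition (f := t) (g := p))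
    exact this
  obtain ⟨Y, w, hw, hzw, hm⟩ := h _ hz
  let W' : (pullback t p).Opens := pullback.snd t p ⁻¹ᵁ w.opensRange
  refine ⟨W', hzw, ?_⟩
  have hrange : Set.range (W'.ι ≫ pullback.snd t p).base ⊆ Set.range w.base := by
    rintro _ ⟨d, rfl⟩
    exact d.2
  let l : (W' : Scheme.{u}) ⟶ Y := IsOpenImmersion.lift w (W'.ι ≫ pullback.snd t p) hrange
  have hl : l ≫ w = W'.ι ≫ pullback.snd t p := IsOpenImmersion.lift_fac _ _ _
  refine hm.of_eq u l _ ?_
  rw [← Category.assoc, hl, Category.assoc]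

/-- a trivialising fpqc cover over an affine open on which the alternative holds locally -/
theorem exists_cover (hG : SGA3x.IsMultTypeFT G) (hH : SGA3x.IsMultTypeFT H) (V : S.Opens)
    (hV : IsAffineOpen V) :
    ∃ (P : Scheme.{u}) (p : P ⟶ S), Flat p ∧ Set.range p.base = (V : Set S) ∧ CompactSpace P ∧
      ∀ x : P, ∃ (C : CommRingCat.{u}) (w : Spec C ⟶ P), IsOpenImmersion w ∧
        x ∈ Set.range w.base ∧
        (((∀ y' : Spec C, p (w y') ∈ Zset u) ∧ MonoOver u (w ≫ p)) ∨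
          (∀ y' : Spec C, p (w y') ∉ Zset u)) := by
  obtain ⟨P, p, hfl, hrange, hcomp, hloc⟩ :=
    Groth.Agent.Helper16.CoverTriv.exists_cover_triv G H hG hH V hV
  refine ⟨P, p, hfl, hrange, hcomp, ?_⟩
  intro x
  obtain ⟨B, j, hj, ⟨y, hy⟩, ⟨M, iM, -, ⟨isoG⟩⟩, ⟨N, iN, hN, ⟨isoH⟩⟩⟩ := hloc x
  obtain ⟨C, θ, hoi, ⟨y₀, hy₀⟩, alt⟩ := local_alt u (j ≫ p) hN isoG isoH y
  haveI := hoi
  haveI := hj
  refine ⟨C, Spec.map θ ≫ j, inferInstance, ⟨y₀, ?_⟩, ?_⟩
  · show j ((Spec.map θ) y₀) = x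
    rw [hy₀, hy]
  · rcases alt with ⟨h1, h2⟩ | h1
    · left
      refine ⟨fun y' => h1 y', ?_⟩
      rw [Category.assoc]
      exact h2
    · right
      exact fun y' => h1 y'

theorem isOpen_preimage (hG : SGA3x.IsMultTypeFT G) (hH : SGA3x.IsMultTypeFT H) :
    IsOpen (Zset u) ∧ IsOpen (Zset u)ᶜ := by
  constructor
  · apply Groth.Agent.Helper10.FpqcOpen.isOpen_of_fpqc_cover
    intro V hV
    obtain ⟨P, p, hfl, hrange, hcomp, hloc⟩ := exists_cover u hG hH V hV
    refine ⟨P, p, hfl, hrange, hcomp, ?_⟩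
    rw [isOpen_iff_forall_mem_open]
    intro x hx
    obtain ⟨C, w, hw, ⟨y, hy⟩, alt⟩ := hloc x
    refine ⟨Set.range w.base, ?_, hw.base_open.isOpen_range, ⟨y, hy⟩⟩
    rintro _ ⟨y', rfl⟩
    rcases alt with ⟨h1, -⟩ | h1
    · exact h1 y'
    · exfalso
      apply h1 y
      rw [hy]
      exact hx
  · apply Groth.Agent.Helper10.FpqcOpen.isOpen_of_fpqc_cover
    intro V hV
    obtain ⟨P, p, hfl, hrange, hcomp, hloc⟩ := exists_cover u hG hH V hV
    refine ⟨P, p, hfl, hrange, hcomp, ?_⟩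
    rw [isOpen_iff_forall_mem_open]
    intro x hx
    obtain ⟨C, w, hw, ⟨y, hy⟩, alt⟩ := hloc x
    refine ⟨Set.range w.base, ?_, hw.base_open.isOpen_range, ⟨y, hy⟩⟩
    rintro _ ⟨y', rfl⟩
    rcases alt with ⟨h1, -⟩ | h1
    · exfalso
      apply hx
      have := h1 y
      rw [hy] at this
      exact this
    · exact h1 y'

theorem main (hG : SGA3x.IsMultTypeFT G) (hH : SGA3x.IsMultTypeFT H) :
    ∃ U : S.Opens, IsClosed (U : Set S) ∧
      (∀ s : S, s ∈ U ↔ Mono ((Over.pullback (S.fromSpecResidueField s)).map u).left) ∧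
      Mono ((Over.pullback U.ι).map u).left := by
  obtain ⟨ho, hc⟩ := isOpen_preimage u hG hH
  refine ⟨⟨Zset u, ho⟩, isOpen_compl_iff.1 hc, ?_, ?_⟩
  · intro s
    exact (mono_iff_monoOver u _).symm
  · rw [mono_iff_monoOver]
    apply MonoOver.of_local
    intro x
    obtain ⟨V, hV, hxV, -⟩ := exists_isAffineOpen_mem_and_subset
      (x := (Scheme.Opens.ι ⟨Zset u, ho⟩) x) (U := ⊤) trivial
    refine ⟨(Scheme.Opens.ι ⟨Zset u, ho⟩) ⁻¹ᵁ V, hxV, ?_⟩
    obtain ⟨P, p, hfl, hrange, hcomp, hloc⟩ := exists_cover u hG hH V hV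
    haveI := hfl
    apply cover_lemma u _ p
    · intro x₁
      rw [hrange]
      exact x₁.2
    · rintro x' ⟨x₁, hx₁⟩
      obtain ⟨C, w, hw, ⟨y, hy⟩, alt⟩ := hloc x'
      refine ⟨Spec C, w, hw, ⟨y, hy⟩, ?_⟩
      rcases alt with ⟨-, h2⟩ | h1
      · exact h2
      · exfalso
        apply h1 y
        rw [hy, ← hx₁]
        exact (x₁.1).2

end Groth.Agent.Helper7.ML
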