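import Mathlib
open Topology TopologicalSpace

namespace Groth.Agent.Helper7.ProCons1

variable {W : Type*} [TopologicalSpace W]

/-- compactness of the constructible topology, unwrapped -/
theorem compactSpace_constructibleTopology [CompactSpace W] [QuasiSober W] [PrespectralSpace W]
    [QuasiSeparatedSpace W] : @CompactSpace W (constructibleTopology W) :=
  @Function.Surjective.compactSpace (WithConstructibleTopology W) W _ (constructibleTopology W)
    WithTopology.ofTopology (WithTopology.continuous_ofTopology _) inferInstance
    (WithTopology.ofTopology_surjective _)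

theorem isClopen_of_isCompact_isOpen {U : Set W} (hU : IsOpen U) (hc : IsCompact U) :
    @IsClopen W (constructibleTopology W) U := by
  refine ⟨?_, hc.isOpen_constructibleTopology_of_isOpen hU⟩
  rw [← @isOpen_compl_iff _ _ (constructibleTopology W)]
  exact IsCompact.isOpen_constructibleTopology_of_isClosed (by rwa [compl_compl])
    hU.isClosed_compl

theorem isClopen_of_isConstructible [CompactSpace W] {T : Set W} (hT : IsConstructible T) :
    @IsClopen W (constructibleTopology W) T := by
  induction T, hT using BooleanSubalgebra.closure_sdiff_sup_induction with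
  | isSublattice =>
    exact ⟨fun s hs t ht ↦ ⟨hs.1.union ht.1, hs.2.union ht.2⟩,
      fun s hs t ht ↦ ⟨hs.1.inter ht.1, hs.2.inter_isOpen ht.2 ht.1⟩⟩
  | bot_mem => exact ⟨isOpen_empty, .empty⟩
  | top_mem => exact ⟨isOpen_univ, .univ⟩
  | sdiff U hU V hV =>
    have hUc : IsCompact U := by simpa using hU.2 isCompact_univ isOpen_univ
    have hVc : IsCompact V := by simpa using hV.2 isCompact_univ isOpen_univ
    exact @IsClopen.diff _ (constructibleTopology W) _ _ (isClopen_of_isCompact_isOpen hU.1 hUc)
      (isClopen_of_isCompact_isOpen hV.1 hVc)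
  | sup s _ t _ hs ht => exact @IsClopen.union _ (constructibleTopology W) _ _ hs ht

theorem exists_finset_biInter_eq_empty [CompactSpace W] [QuasiSober W] [PrespectralSpace W]
    [QuasiSeparatedSpace W] {ι : Type*} (E : ι → Set W)
    (hE : ∀ i, IsClosed[constructibleTopology W] (E i)) (h : ⋂ i, E i = ∅) :
    ∃ s : Finset ι, ⋂ i ∈ s, E i = ∅ := by
  have hc := compactSpace_constructibleTopology (W := W)
  have := @IsCompact.elim_finite_subfamily_closed W (constructibleTopology W) Set.univ ι
    (@isCompact_univ W (constructibleTopology W) hc) E hE (by rw [h, Set.inter_empty])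
  obtain ⟨s, hs⟩ := this
  exact ⟨s, by rwa [Set.univ_inter] at hs⟩

/-- the closure of a pro-constructible subset of a spectral space consists of specializations -/
theorem exists_specializes_of_mem_closure [CompactSpace W] [QuasiSober W] [PrespectralSpace W]
    [QuasiSeparatedSpace W] {E : Set W} (hE : IsClosed[constructibleTopology W] E) {x : W}
    (hx : x ∈ closure E) : ∃ e ∈ E, e ⤳ x := by
  classical
  let ι := {V : Set W // IsOpen V ∧ IsCompact V ∧ x ∈ V}
  let F : Option ι → Set W := fun o => o.elim E (fun V => V.1)
  have hF : ∀ o, IsClosed[constructibleTopology W] (F o) := by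
    rintro (_ | V)
    · exact hE
    · exact (isClopen_of_isCompact_isOpen V.2.1 V.2.2.1).1
  have hne : (⋂ o, F o).Nonempty := by
    by_contra hem
    rw [Set.not_nonempty_iff_eq_empty] at hem
    obtain ⟨s, hs⟩ := exists_finset_biInter_eq_empty F hF hem
    -- the finite intersection of the neighbourhoods
    let V₀ : Set W := ⋂ o ∈ s, (o.elim Set.univ (fun V : ι => V.1))
    have hV₀ : IsOpen V₀ := by
      apply isOpen_biInter_finset
      rintro (_ | V) _
      · exact isOpen_univ
      · exact V.2.1
    have hxV₀ : x ∈ V₀ := by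
      simp only [V₀, Set.mem_iInter]
      rintro (_ | V) _
      · trivial
      · exact V.2.2.2
    obtain ⟨e, heV, heE⟩ := mem_closure_iff.1 hx V₀ hV₀ hxV₀
    have : e ∈ ⋂ o ∈ s, F o := by
      simp only [Set.mem_iInter]
      rintro (_ | V) ho
      · exact heE
      · have := heV
        simp only [V₀, Set.mem_iInter] at this
        exact this (some V) ho
    rw [hs] at this
    exact this
  obtain ⟨e, he⟩ := hne
  rw [Set.mem_iInter] at he
  refine ⟨e, he none, ?_⟩
  rw [specializes_iff_forall_open]
  intro U hU hxU
  obtain ⟨V, ⟨hVo, hVc⟩, hxV, hVU⟩ :=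
    PrespectralSpace.isTopologicalBasis.exists_subset_of_mem_open hxU hU
  exact hVU (he (some ⟨V, hVo, hVc, hxV⟩))

/-- a set closed in the constructible topology is an intersection of constructible sets -/
theorem exists_eq_sInter_of_isClosed [CompactSpace W] [QuasiSeparatedSpace W] {E : Set W}
    (hE : IsClosed[constructibleTopology W] E) :
    ∃ S : Set (Set W), (∀ T ∈ S, IsConstructible T) ∧ E = ⋂₀ S := by
  have hb := TopologicalSpace.isTopologicalBasis_of_subbasis
    (t := constructibleTopology W) (s := constructibleTopologySubbasis W) rfl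
  have hopen : IsOpen[constructibleTopology W] Eᶜ := by
    rw [@isOpen_compl_iff _ _ (constructibleTopology W)]; exact hE
  have h1 := @IsTopologicalBasis.open_eq_sUnion' W (constructibleTopology W) _ hb _ hopen
  have hsub : ∀ T ∈ constructibleTopologySubbasis W, IsConstructible T := by
    rintro T (⟨hTo, hTc⟩ | ⟨hTcl, hTc⟩)
    · exact hTc.isConstructible hTo
    · have := hTc.isConstructible hTcl.isOpen_compl
      rwa [isConstructible_compl] at this
  set B' : Set (Set W) := {b | b ∈ (fun f : Set (Set W) => ⋂₀ f) ''
    {f : Set (Set W) | f.Finite ∧ f ⊆ constructibleTopologySubbasis W} ∧ b ⊆ Eᶜ} with hB'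
  refine ⟨compl '' B', ?_, ?_⟩
  · rintro _ ⟨b, ⟨⟨f, ⟨hf1, hf2⟩, rfl⟩, -⟩, rfl⟩
    rw [isConstructible_compl]
    exact IsConstructible.sInter hf1 fun T hT => hsub T (hf2 hT)
  · have h2 : E = (⋃₀ B')ᶜ := by rw [← h1, compl_compl]
    rw [h2, Set.compl_sUnion]

end Groth.Agent.Helper7.ProCons1
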