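import Mathlib
import Groth.Prelude.Def_ProCons
import Groth.Agent.Lib.Helper7.ProCons1
import Groth.Agent.Lib.Helper7.LimCons
universe u
open AlgebraicGeometry CategoryTheory Topology TopologicalSpace

namespace Groth.Agent.Helper7.ProCons2
open Groth.Agent.Helper7.ProCons1

/-- `E` is closed for the constructible topology on every affine open chart. -/
def CC {X : Scheme.{u}} (E : Set X) : Prop :=
  ∀ (V : Scheme.{u}) [IsAffine V] (j : V ⟶ X) [IsOpenImmersion j],
    IsClosed[constructibleTopology V] (j ⁻¹' E)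

theorem CC.inter {X : Scheme.{u}} {E F : Set X} (hE : CC E) (hF : CC F) : CC (E ∩ F) := by
  intro V _ j _
  rw [Set.preimage_inter]
  exact @IsClosed.inter _ _ _ (constructibleTopology V) (hE V j) (hF V j)

theorem CC.of_isConstructible {X : Scheme.{u}} {E : Set X} (hE : IsConstructible E) : CC E := by
  intro V _ j _
  exact (isClopen_of_isConstructible (j.isConstructible_preimage hE)).1

/-- pro-constructible (in the sense of the Prelude) implies `CC` -/
theorem CC.of_isProConstructible {X : Scheme.{u}} {E : Set X}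
    (hE : ProCons.IsProConstructible E) : CC E := by
  intro V _ j _
  -- local statement
  have key : ∀ v : V, ∃ N : Set V, N ∈ nhds v ∧ IsClosed[constructibleTopology V] (j ⁻¹' E ∩ N) := by
    intro v
    obtain ⟨U, hUo, hxU, S, hS, hES⟩ := hE (j v)
    obtain ⟨N, ⟨hNo, hNc⟩, hvN, hNU⟩ :=
      PrespectralSpace.isTopologicalBasis.exists_subset_of_mem_open
        (show v ∈ j ⁻¹' U from hxU) (hUo.preimage j.continuous)
    refine ⟨N, hNo.mem_nhds hvN, ?_⟩
    let φ : N → U := fun n => ⟨j n.1, hNU n.2⟩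
    have hφ : IsOpenEmbedding φ := by
      refine IsOpenEmbedding.of_comp φ hUo.isOpenEmbedding_subtypeVal ?_
      exact j.isOpenEmbedding.comp hNo.isOpenEmbedding_subtypeVal
    have : CompactSpace N := isCompact_iff_compactSpace.mp hNc
    have : QuasiSeparatedSpace N :=
      (isQuasiSeparated_iff_quasiSeparatedSpace N hNo).1
        ((isQuasiSeparated_univ (α := V)).of_subset (Set.subset_univ N))
    have : PrespectralSpace N := hNo.isOpenEmbedding_subtypeVal.prespectralSpace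
    have hretro : IsRetrocompact (Set.range (Subtype.val : N → V)) := by
      rw [Subtype.range_coe]; exact hNc.isRetrocompact hNo
    have hT' : ∀ T ∈ S, IsConstructible ((Subtype.val : N → V) '' (φ ⁻¹' T)) := fun T hT =>
      ((hS T hT).preimage_of_isOpenEmbedding hφ).isConstructible.image_of_isOpenEmbedding
        hNo.isOpenEmbedding_subtypeVal hretro
    have heq : j ⁻¹' E ∩ N = N ∩ ⋂ T ∈ S, (Subtype.val : N → V) '' (φ ⁻¹' T) := by
      ext n
      simp only [Set.mem_inter_iff, Set.mem_preimage, Set.mem_iInter, Set.mem_image,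
        Subtype.exists, exists_and_right, exists_eq_right]
      constructor
      · rintro ⟨hnE, hnN⟩
        refine ⟨hnN, fun T hT => ⟨hnN, ?_⟩⟩
        have : (⟨j n, hNU hnN⟩ : U) ∈ (Subtype.val ⁻¹' E : Set U) := hnE
        rw [hES] at this
        exact this T hT
      · rintro ⟨hnN, h⟩
        refine ⟨?_, hnN⟩
        have : (⟨j n, hNU hnN⟩ : U) ∈ (Subtype.val ⁻¹' E : Set U) := by
          rw [hES]
          intro T hT
          obtain ⟨_, h'⟩ := h T hT
          exact h'
        exact this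
    rw [heq]
    refine @IsClosed.inter _ _ _ (constructibleTopology V)
      (isClopen_of_isCompact_isOpen hNo hNc).1 ?_
    refine @isClosed_biInter _ _ (constructibleTopology V) _ _ fun T hT => ?_
    exact (isClopen_of_isConstructible (hT' T hT)).1
  choose N hN hNcl using key
  obtain ⟨t, ht⟩ := CompactSpace.elim_nhds_subcover N hN
  have : j ⁻¹' E = ⋃ v ∈ t, (j ⁻¹' E ∩ N v) := by
    rw [← Set.inter_iUnion₂, ht, Set.top_eq_univ, Set.inter_univ]
  rw [this]
  exact @Set.Finite.isClosed_biUnion _ _ (constructibleTopology V) _ _ t.finite_toSet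
    fun v _ => hNcl v

theorem CC.of_isIndConstructible_compl {X : Scheme.{u}} {F : Set X}
    (hF : ProCons.IsIndConstructible F) : CC Fᶜ := by
  apply CC.of_isProConstructible
  intro x
  obtain ⟨U, hUo, hxU, S, hS, hFS⟩ := hF x
  refine ⟨U, hUo, hxU, compl '' S, ?_, ?_⟩
  · rintro _ ⟨T, hT, rfl⟩
    intro y
    obtain ⟨W, hyW, hW, H⟩ := hS T hT y
    exact ⟨W, hyW, hW, by rw [Set.preimage_compl]; exact isConstructible_compl.2 H⟩
  · rw [Set.preimage_compl, hFS, Set.compl_sUnion]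

/-- the closure of a `CC` set consists of specializations of its points -/
theorem exists_specializes_of_mem_closure {X : Scheme.{u}} {E : Set X} (hE : CC E) {x : X}
    (hx : x ∈ closure E) : ∃ e ∈ E, e ⤳ x := by
  obtain ⟨_, ⟨(V : X.Opens), hV : IsAffineOpen V, rfl⟩, hxV, -⟩ :=
    X.isBasis_affineOpens.exists_subset_of_mem_open (Set.mem_univ x) isOpen_univ
  have : IsAffine (V : Scheme.{u}) := hV
  have h1 := hE (V : Scheme.{u}) V.ι
  let x' : (V : Scheme.{u}) := ⟨x, hxV⟩
  have hx' : x' ∈ closure (V.ι ⁻¹' E) := by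
    rw [← V.ι.isOpenEmbedding.isOpenMap.preimage_closure_eq_closure_preimage V.ι.continuous]
    exact hx
  obtain ⟨e', he', hspec⟩ := ProCons1.exists_specializes_of_mem_closure h1 hx'
  exact ⟨V.ι e', he', hspec.map V.ι.continuous⟩

theorem preimage_closure_subset {Y' Y : Scheme.{u}} (v : Y' ⟶ Y) (hv : GeneralizingMap v)
    {E : Set Y} (hE : CC E) : v ⁻¹' closure E ⊆ closure (v ⁻¹' E) := by
  intro y' hy'
  obtain ⟨e, heE, hspec⟩ := exists_specializes_of_mem_closure hE hy'
  obtain ⟨y'', hy''1, hy''2⟩ := hv hspec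
  exact hy''1.mem_closed isClosed_closure (subset_closure (by rw [Set.mem_preimage, hy''2]; exact heE))

theorem isClosed_preimage_of_isAffine {V' V : Scheme.{u}} [IsAffine V'] [IsAffine V]
    (g : V' ⟶ V) {A : Set V} (hA : IsClosed[constructibleTopology V] A) :
    IsClosed[constructibleTopology V'] (g ⁻¹' A) := by
  obtain ⟨S, hS, rfl⟩ := exists_eq_sInter_of_isClosed hA
  rw [Set.sInter_eq_biInter, Set.preimage_iInter₂]
  refine @isClosed_biInter _ _ (constructibleTopology V') _ _ fun T hT => ?_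
  exact (isClopen_of_isConstructible (g.isConstructible_preimage (hS T hT))).1

end Groth.Agent.Helper7.ProCons2

namespace Groth.Agent.Helper7.LimBC
open Groth.Agent.Helper7.ProCons1 Groth.Agent.Helper7.ProCons2 CategoryTheory.Limits

variable {I : Type u} [Category.{u} I] (D : I ⥤ Scheme.{u}) (c : Cone D) (hc : IsLimit c)

set_option backward.isDefEq.respectTransparency false in
include hc in
/-- emptiness descent for `CC` sets, one affine open piece -/
theorem exists_preimage_inter_eq_empty_of_CC [IsCofiltered I]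
    [∀ {i j} (f : i ⟶ j), IsAffineHom (D.map f)] (i₁ : I)
    (G : Set (D.obj i₁)) (hG : CC G) (U : (D.obj i₁).Opens) (hU : IsAffineOpen U)
    (hem : c.π.app i₁ ⁻¹' G = ∅) :
    ∃ (j : I) (φ : j ⟶ i₁), D.map φ ⁻¹' (G ∩ U) = ∅ := by
  let E := opensDiagram D i₁ U
  let cE := opensCone D c i₁ U
  have hE : IsLimit cE := isLimitOpensCone D c hc i₁ U
  let k₀ : Over i₁ := Over.mk (𝟙 i₁)
  have haff : IsAffine (E.obj k₀) := hU.preimage (D.map (𝟙 i₁))
  have haffE : ∀ k, IsAffine (E.obj k) := fun k => hU.preimage (D.map k.hom)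
  let ι₀ : E.obj k₀ ⟶ D.obj i₁ := (D.map k₀.hom ⁻¹ᵁ U).ι
  let G₀ : Set (E.obj k₀) := ι₀ ⁻¹' G
  have hG₀ : IsClosed[constructibleTopology (E.obj k₀)] G₀ := hG (E.obj k₀) ι₀
  obtain ⟨S, hS, hGS⟩ := exists_eq_sInter_of_isClosed hG₀
  have hcomp : cE.π.app k₀ ≫ ι₀ = (c.π.app i₁ ⁻¹ᵁ U).ι ≫ c.π.app i₁ := by
    simp [cE, ι₀, k₀]
  have := isAffineHom_π_app D c hc i₁
  have haffpt : IsAffine cE.pt := hU.preimage (c.π.app i₁)
  have hcpt : CompactSpace cE.pt := inferInstance
  have hF : ∀ T : S, IsClosed[constructibleTopology cE.pt] (cE.π.app k₀ ⁻¹' T.1) := fun T =>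
    (isClopen_of_isConstructible (W := cE.pt)
      ((cE.π.app k₀).isConstructible_preimage (hS T.1 T.2))).1
  have hFem : ⋂ T : S, cE.π.app k₀ ⁻¹' T.1 = (∅ : Set cE.pt) := by
    rw [Set.eq_empty_iff_forall_notMem]
    intro x hx
    rw [Set.mem_iInter] at hx
    have h1 : cE.π.app k₀ x ∈ G₀ := by
      rw [hGS]
      intro T hT
      exact hx ⟨T, hT⟩
    have h2 : (cE.π.app k₀ ≫ ι₀) x ∈ G := h1
    rw [hcomp] at h2
    have h3 : (c.π.app i₁ ⁻¹ᵁ U).ι x ∈ c.π.app i₁ ⁻¹' G := h2
    rw [hem] at h3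
    exact h3
  obtain ⟨s, hs⟩ := exists_finset_biInter_eq_empty (W := cE.pt) _ hF hFem
  let T₀ : Set (E.obj k₀) := ⋂ T ∈ s, T.1
  have hT₀ : IsConstructible T₀ :=
    IsConstructible.biInter s.finite_toSet (fun T _ => hS T.1 T.2)
  have hT₀em : cE.π.app k₀ ⁻¹' (T₀ ∩ Set.univ ∩ Set.univ) = ∅ := by
    rw [Set.inter_univ, Set.inter_univ]
    simp only [T₀, Set.preimage_iInter]
    exact hs
  have : CompactSpace (E.obj k₀) := inferInstance
  obtain ⟨l, ψ, hl⟩ := exists_preimage_inter_eq_empty E cE hE (k := k₀) hT₀ Set.univ isOpen_univ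
    isCompact_univ Set.univ isClosed_univ hT₀em
  have hl' := hl l (𝟙 l)
  rw [Category.id_comp, Set.inter_univ, Set.inter_univ] at hl'
  refine ⟨l.left, l.hom, ?_⟩
  have hGT : G₀ ⊆ T₀ := by
    rw [hGS]
    intro x hx
    simp only [T₀, Set.mem_iInter]
    intro T _
    exact hx T.1 T.2
  have hcomp2 : E.map ψ ≫ ι₀ = (D.map l.hom ⁻¹ᵁ U).ι ≫ D.map l.hom := by
    have : ψ.left = l.hom := by
      have := Over.w ψ
      simpa [k₀] using this
    simp [E, ι₀, k₀, this]
  rw [Set.eq_empty_iff_forall_notMem]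
  rintro y ⟨hyG, hyU⟩
  let y' : E.obj l := ⟨y, hyU⟩
  have h1 : (E.map ψ ≫ ι₀) y' ∈ G := by
    rw [hcomp2]
    exact hyG
  have h2 : E.map ψ y' ∈ G₀ := h1
  have h3 : y' ∈ E.map ψ ⁻¹' T₀ := hGT h2
  rw [hl'] at h3
  exact h3

include hc in
/-- **emptiness descent** for `CC` (pro-constructible) subsets of a quasi-compact stage -/
theorem exists_preimage_eq_empty_of_CC [IsCofiltered I]
    [∀ {i j} (f : i ⟶ j), IsAffineHom (D.map f)] (i₁ : I) [CompactSpace (D.obj i₁)]
    (G : Set (D.obj i₁)) (hG : CC G) (hem : c.π.app i₁ ⁻¹' G = ∅) :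
    ∃ (j : I) (φ : j ⟶ i₁), D.map φ ⁻¹' G = ∅ := by
  let 𝒰 := (D.obj i₁).affineCover.finiteSubcover
  have hfin : Finite 𝒰.I₀ := inferInstance
  have key : ∀ a : 𝒰.I₀, ∃ (j : I) (φ : j ⟶ i₁),
      D.map φ ⁻¹' (G ∩ ((𝒰.f a).opensRange : Set (D.obj i₁))) = ∅ := by
    intro a
    have : IsAffine (𝒰.X a) := by dsimp [𝒰]; infer_instance
    exact exists_preimage_inter_eq_empty_of_CC D c hc i₁ G hG _
      (isAffineOpen_opensRange (𝒰.f a)) hem
  choose j φ hj using key
  obtain ⟨k, fk, g, hg⟩ := IsCofiltered.wideCospan φ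
  refine ⟨k, fk, ?_⟩
  have hcov : G = ⋃ a, G ∩ ((𝒰.f a).opensRange : Set (D.obj i₁)) := by
    rw [← Set.inter_iUnion]
    have : (⋃ a, ((𝒰.f a).opensRange : Set (D.obj i₁))) = Set.univ := 𝒰.iUnion_range
    rw [this, Set.inter_univ]
  rw [hcov, Set.preimage_iUnion, Set.iUnion_eq_empty]
  intro a
  have : D.map fk ⁻¹' (G ∩ ((𝒰.f a).opensRange : Set (D.obj i₁))) =
      D.map (g a) ⁻¹' (D.map (φ a) ⁻¹' (G ∩ ((𝒰.f a).opensRange : Set (D.obj i₁)))) := by
    rw [← hg a, D.map_comp]
    rfl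
  rw [this, hj a, Set.preimage_empty]

end Groth.Agent.Helper7.LimBC
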