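import Mathlib
import Groth.Agent.Lib.Helper8.Goldman

/-!
# Locally closed points of locally Noetherian schemes (helper7)
-/

open AlgebraicGeometry CategoryTheory Topology

universe u

namespace Groth.Agent.Helper7.LocClosedPt

/-- In a Noetherian ring, if the point `p` is locally closed in `Spec A` then every prime strictly
containing `p` is maximal. -/
theorem isMaximal_of_lt_of_isLocallyClosed {A : Type u} [CommRing A] [IsNoetherianRing A]
    (p q : PrimeSpectrum A) (hlt : p.asIdeal < q.asIdeal)
    (hp : IsLocallyClosed ({p} : Set (PrimeSpectrum A))) : q.asIdeal.IsMaximal := by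
  let π := Ideal.Quotient.mk p.asIdeal
  have hπ : Function.Surjective π := Ideal.Quotient.mk_surjective
  let c := PrimeSpectrum.comap π
  have hc : Continuous c := PrimeSpectrum.continuous_comap π
  let g : PrimeSpectrum (A ⧸ p.asIdeal) := ⟨⊥, Ideal.isPrime_bot⟩
  have hpre : c ⁻¹' {p} = {g} := by
    ext Q
    rw [Set.mem_preimage, Set.mem_singleton_iff, Set.mem_singleton_iff]
    constructor
    · intro h
      have h1 : Q.asIdeal.comap π = p.asIdeal := congrArg PrimeSpectrum.asIdeal h
      have h2 : (Q.asIdeal.comap π).map π = Q.asIdeal := Ideal.map_comap_of_surjective π hπ _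
      apply PrimeSpectrum.ext
      change Q.asIdeal = ⊥
      rw [← h2, h1, Ideal.map_quotient_self]
    · rintro rfl
      apply PrimeSpectrum.ext
      change Ideal.comap π ⊥ = p.asIdeal
      rw [← RingHom.ker_eq_comap_bot, Ideal.mk_ker]
  have hlc : IsLocallyClosed ({g} : Set (PrimeSpectrum (A ⧸ p.asIdeal))) := by
    rw [← hpre]; exact hp.preimage hc
  have hopen : IsOpen ({g} : Set (PrimeSpectrum (A ⧸ p.asIdeal))) := by
    obtain ⟨U, Z, hU, hZ, hUZ⟩ := hlc
    have hgZ : g ∈ Z := by
      have : g ∈ U ∩ Z := by rw [← hUZ]; rfl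
      exact this.2
    have hZuniv : Z = Set.univ := by
      rw [Set.eq_univ_iff_forall]
      intro Q
      have h1 : g ⤳ Q := (PrimeSpectrum.le_iff_specializes g Q).1 (bot_le (a := Q.asIdeal))
      exact h1.mem_closed hZ hgZ
    rw [hUZ, hZuniv, Set.inter_univ]
    exact hU
  obtain ⟨f, hf, h⟩ := Groth.Agent.Helper8.Goldman.isOpen_generic_iff.1 hopen
  have hdim : ringKrullDim (A ⧸ p.asIdeal) ≤ 1 :=
    Groth.Agent.Helper8.Goldman.ringKrullDim_le_one_of hf h
  have hK : Ring.KrullDimLE 1 (A ⧸ p.asIdeal) := (Ring.krullDimLE_iff (n := 1)).2 hdim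
  have hker : RingHom.ker π ≤ q.asIdeal := by rw [Ideal.mk_ker]; exact hlt.le
  have hQ'prime : (q.asIdeal.map π).IsPrime := Ideal.map_isPrime_of_surjective hπ hker
  have hQ'ne : q.asIdeal.map π ≠ ⊥ := by
    intro h0
    have h1 : q.asIdeal ≤ RingHom.ker π := by
      rw [RingHom.ker_eq_comap_bot, ← h0]
      exact Ideal.le_comap_map
    rw [Ideal.mk_ker] at h1
    exact not_le_of_gt hlt h1
  have hmax : (q.asIdeal.map π).IsMaximal :=
    Ring.krullDimLE_one_iff_of_noZeroDivisors.1 hK _ hQ'ne hQ'prime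
  have hcomap : (q.asIdeal.map π).comap π = q.asIdeal := by
    rw [Ideal.comap_map_of_surjective π hπ, ← RingHom.ker_eq_comap_bot, sup_eq_left.2 hker]
  rw [← hcomap]
  exact Ideal.comap_isMaximal_of_surjective π hπ

/-- In a locally Noetherian scheme, the specializations of a locally closed point (other than the
point itself) are closed points. -/
theorem isClosed_singleton_of_specializes {X : Scheme.{u}} [IsLocallyNoetherian X] {x y : X}
    (hx : IsLocallyClosed ({x} : Set X)) (hxy : x ⤳ y) (hne : y ≠ x) :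
    IsClosed ({y} : Set X) := by
  -- claim: in every affine open containing `y`, `y` is closed
  have claim : ∀ (U : X.Opens), IsAffineOpen U → y ∈ U → closure {y} ∩ (U : Set X) ⊆ {y} := by
    intro U hU hyU
    have hxU : x ∈ U := hxy.mem_open U.2 hyU
    have hN : IsNoetherianRing Γ(X, U) := IsLocallyNoetherian.component_noetherian ⟨U, hU⟩
    let ι := hU.fromSpec
    have hι : IsOpenEmbedding ι := hU.fromSpec.isOpenEmbedding
    let p : Spec Γ(X, U) := hU.primeIdealOf ⟨x, hxU⟩
    let q : Spec Γ(X, U) := hU.primeIdealOf ⟨y, hyU⟩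
    have hp : ι p = x := hU.fromSpec_primeIdealOf ⟨x, hxU⟩
    have hq : ι q = y := hU.fromSpec_primeIdealOf ⟨y, hyU⟩
    have hplc : IsLocallyClosed ({p} : Set (Spec Γ(X, U))) := by
      have h1 : ι ⁻¹' {x} = {p} := by
        ext r
        rw [Set.mem_preimage, Set.mem_singleton_iff, Set.mem_singleton_iff, ← hp]
        exact hι.injective.eq_iff
      rw [← h1]
      exact hx.preimage ι.continuous
    have hpq : p ⤳ q := by
      rw [← hι.isInducing.specializes_iff, hp, hq]; exact hxy
    have hle : p.asIdeal ≤ q.asIdeal :=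
      (PrimeSpectrum.le_iff_specializes (p : PrimeSpectrum Γ(X, U)) q).2 hpq
    have hlt : p.asIdeal < q.asIdeal := by
      refine lt_of_le_of_ne hle ?_
      intro h
      apply hne
      rw [← hp, ← hq, PrimeSpectrum.ext h]
    have hqmax := isMaximal_of_lt_of_isLocallyClosed (A := Γ(X, U)) p q hlt hplc
    have hqcl : IsClosed ({q} : Set (Spec Γ(X, U))) :=
      (PrimeSpectrum.isClosed_singleton_iff_isMaximal (q : PrimeSpectrum Γ(X, U))).2 hqmax
    rintro z ⟨hz1, hz2⟩
    have hzr : z ∈ Set.range ι := by rw [hU.range_fromSpec]; exact hz2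
    obtain ⟨r, rfl⟩ := hzr
    have hqr : q ⤳ r := by
      rw [← hι.isInducing.specializes_iff, hq]
      exact specializes_iff_mem_closure.2 hz1
    have : r ∈ ({q} : Set _) := hqr.mem_closed hqcl rfl
    rw [Set.mem_singleton_iff] at this
    rw [Set.mem_singleton_iff, this, hq]
  rw [← closure_subset_iff_isClosed]
  intro z hz
  obtain ⟨_, ⟨(U' : X.Opens), hU' : IsAffineOpen U', rfl⟩, hzU', -⟩ :=
    X.isBasis_affineOpens.exists_subset_of_mem_open (Set.mem_univ z) isOpen_univ
  have hyz : y ⤳ z := specializes_iff_mem_closure.2 hz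
  have hyU' : y ∈ U' := hyz.mem_open U'.2 hzU'
  exact claim U' hU' hyU' ⟨hz, hzU'⟩

end Groth.Agent.Helper7.LocClosedPt
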