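import Mathlib
import Groth.Agent.Lib.Helper7.GeomPBase2

/-!
# Base change of regular homomorphisms along finite type maps, no Noetherian hypotheses (helper7)
-/

set_option autoImplicit false
set_option linter.unusedSectionVars false
set_option linter.style.haveILetI false
universe u

namespace Groth.Agent.Helper7.GeomPBase

open TensorProduct IsLocalRing Function
open Groth.Agent.Helper7.GeomRed Groth.Agent.Helper7.GeomRegFG

section

variable (A B A' : Type u) [CommRing A] [CommRing B] [CommRing A'] [Algebra A B] [Algebra A A']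

/-- `L ⊗[A] B` is Noetherian and regular for field points `L` essentially of finite type over `A` -/
theorem tensor_field_of_isRegularHom (h : CAlg.IsRegularHom A B)
    (L : Type u) [Field L] [Algebra A L] [Algebra.EssFiniteType A L] :
    IsRegularRing (L ⊗[A] B) := by
  let p := kerPrime A L
  let _ : Algebra p.ResidueField L := (kerLift A L).toAlgebra
  have ht : IsScalarTower A p.ResidueField L := IsScalarTower.of_algebraMap_eq (fun b => by
    rw [RingHom.algebraMap_toAlgebra, kerLift_algebraMap])
  let e : L ⊗[p.ResidueField] (p.ResidueField ⊗[A] B) ≃+* L ⊗[A] B :=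
    (Algebra.TensorProduct.cancelBaseChange A p.ResidueField p.ResidueField L B).toRingEquiv
  have hN1 : IsNoetherianRing (p.ResidueField ⊗[A] B) := (h.2 p).1
  have hess : Algebra.EssFiniteType p.ResidueField L := Algebra.EssFiniteType.of_comp A p.ResidueField L
  have hN2 : IsNoetherianRing (L ⊗[p.ResidueField] (p.ResidueField ⊗[A] B)) :=
    isNoetherianRing_tensor_of_essFiniteType p.ResidueField (p.ResidueField ⊗[A] B) L
  have h1 : IsRegularRing (L ⊗[p.ResidueField] (p.ResidueField ⊗[A] B)) :=
    isRegularRing_tensor_of_geomRegular p.ResidueField (p.ResidueField ⊗[A] B) (h.2 p).2 L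
  exact @IsRegularRing.of_ringEquiv _ _ _ _ e h1

theorem isRegularHom_baseChange_of_finiteType [Algebra.FiniteType A A']
    (h : CAlg.IsRegularHom A B) : CAlg.IsRegularHom A' (A' ⊗[A] B) := by
  have hfl : Module.Flat A B := h.1
  have key : ∀ (p' : Ideal A') [p'.IsPrime] (K' : Type u) [Field K'] [Algebra p'.ResidueField K'],
      Module.Finite p'.ResidueField K' →
      IsRegularRing (K' ⊗[p'.ResidueField] (p'.ResidueField ⊗[A'] (A' ⊗[A] B))) := by
    intro p' _ K' _ _ hK'
    let k := p'.ResidueField
    let _ : Algebra A' K' := ((algebraMap k K').comp (algebraMap A' k)).toAlgebra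
    have ht1 : IsScalarTower A' k K' := IsScalarTower.of_algebraMap_eq (fun a => rfl)
    let _ : Algebra A K' := ((algebraMap A' K').comp (algebraMap A A')).toAlgebra
    have ht2 : IsScalarTower A A' K' := IsScalarTower.of_algebraMap_eq (fun a => rfl)
    let e : K' ⊗[k] (k ⊗[A'] (A' ⊗[A] B)) ≃+* K' ⊗[A] B :=
      (Algebra.TensorProduct.cancelBaseChange A' k k K' (A' ⊗[A] B)).toRingEquiv.trans
        (Algebra.TensorProduct.cancelBaseChange A A' A' K' B).toRingEquiv
    have h1 : Algebra.EssFiniteType A' K' := Algebra.EssFiniteType.comp A' k K'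
    have h2 : Algebra.EssFiniteType A K' := Algebra.EssFiniteType.comp A A' K'
    have h3 : IsRegularRing (K' ⊗[A] B) := tensor_field_of_isRegularHom A B h K'
    exact @IsRegularRing.of_ringEquiv _ _ _ _ e.symm h3
  refine ⟨inferInstance, fun p' _ => ⟨?_, fun K' _ _ hK' => key p' K' hK'⟩⟩
  have h1 := key p' p'.ResidueField inferInstance
  have h2 : IsRegularRing (p'.ResidueField ⊗[A'] (A' ⊗[A] B)) :=
    @IsRegularRing.of_ringEquiv _ _ _ _ (Algebra.TensorProduct.lid p'.ResidueField _).toRingEquiv h1
  exact @IsRegularRing.toIsNoetherian _ _ h2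

end

end Groth.Agent.Helper7.GeomPBase
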