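import Mathlib
import Groth.Prelude
import Groth.Agent.Lib.Helper4.LimSm2
import Groth.Agent.Lib.Helper14.LimFlat
import Groth.Agent.Lib.Helper2.CIFib2
import Groth.Agent.S9379
import Groth.Agent.S2846
import Groth.Agent.S9699

/-!
# Syntomic morphisms descend to a stage of a cofiltered limit
-/

set_option autoImplicit false
set_option linter.style.haveILetI false
set_option linter.unusedSectionVars false

universe u

open AlgebraicGeometry CategoryTheory CategoryTheory.Limits

namespace Groth.Agent.Helper7.LimSynt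

open Groth.Agent.Helper4.LimSm Groth.Agent.Helper4.LimSmRing Groth.Agent.Helper7.LimBC
  Groth.Agent.Helper7.LimSep Groth.Agent.Helper2.CIFib Groth.Agent.Helper2.CIPi1
  Groth.Agent.Helper2.CIPi2

/-- the morphism property of being syntomic -/
def SyntP : MorphismProperty Scheme.{u} := fun _ _ f => Synt.IsSyntomicMor f

section BC

/-- complete intersection fibre local rings are compatible with base change -/
theorem isCI_fiberStalk_iff_of_isPullback {X S X' S' : Scheme.{u}} (f : X ⟶ S)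
    [LocallyOfFiniteType f] (g : S' ⟶ S) (g' : X' ⟶ X) (f' : X' ⟶ S')
    (hsq : IsPullback g' f' f g) (x' : X') :
    Pi1.IsCompleteIntersection (CInt.fiberStalk f' x') ↔
      Pi1.IsCompleteIntersection (CInt.fiberStalk f (g'.base x')) := by
  haveI : LocallyOfFiniteType f' := MorphismProperty.of_isPullback hsq inferInstance
  haveI : LocallyOfFiniteType (f'.fiberToSpecResidueField (f'.base x')) :=
    MorphismProperty.pullback_snd _ _ inferInstance
  haveI : LocallyOfFiniteType (f.fiberToSpecResidueField (f.base (g'.base x'))) :=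
    MorphismProperty.pullback_snd _ _ inferInstance
  have hL := Groth.Agent.S9379.isCIOver_stalk_iff_isCI (S'.residueField (f'.base x'))
    (f'.fiber (f'.base x')) (f'.fiberToSpecResidueField (f'.base x')) (f'.asFiber x')
  have hR := Groth.Agent.S9379.isCIOver_stalk_iff_isCI (S.residueField (f.base (g'.base x')))
    (f.fiber (f.base (g'.base x'))) (f.fiberToSpecResidueField (f.base (g'.base x')))
    (f.asFiber (g'.base x'))
  exact hL.symm.trans ((Groth.Agent.S9379.pointwise f g g' f' hsq x').trans hR)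

/-- for flat morphisms locally of finite presentation, being syntomic at a point is compatible
with base change -/
theorem isSyntomicAt_iff_of_isPullback {X S X' S' : Scheme.{u}} (f : X ⟶ S) [Flat f]
    [LocallyOfFinitePresentation f] (g : S' ⟶ S) (g' : X' ⟶ X) (f' : X' ⟶ S')
    (hsq : IsPullback g' f' f g) (x' : X') :
    Synt.IsSyntomicAt f' x' ↔ Synt.IsSyntomicAt f (g'.base x') := by
  haveI : Flat f' := MorphismProperty.of_isPullback hsq inferInstance
  haveI : LocallyOfFinitePresentation f' := MorphismProperty.of_isPullback hsq inferInstance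
  rw [← isCI_fiberStalk_iff_isSyntomicAt, ← isCI_fiberStalk_iff_isSyntomicAt]
  exact isCI_fiberStalk_iff_of_isPullback f g g' f' hsq x'

end BC

section NiceSynt

instance syntP_bc : (SyntP.{u}).IsStableUnderBaseChange where
  of_isPullback := by
    intro X Y Y' S f g f' g' sq hg
    exact Groth.Agent.Helper2.CIPi2.isSyntomicMor_of_isPullback g f f' g' sq hg

instance syntP_comp : (SyntP.{u}).IsStableUnderComposition where
  comp_mem f g hf hg :=
    (isCIMorphism_iff_isSyntomicMor _).mp (Groth.Agent.S2846.result f g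
      ((isCIMorphism_iff_isSyntomicMor f).mpr hf) ((isCIMorphism_iff_isSyntomicMor g).mpr hg))

theorem syntP_oi {X Y : Scheme.{u}} (f : X ⟶ Y) [IsOpenImmersion f] : SyntP f :=
  Groth.Agent.S9699.result f

/-- a flat, locally finitely presented morphism is syntomic on an open all of whose points are
syntomic points -/
theorem syntP_restrict_of_forall {X S : Scheme.{u}} (f : X ⟶ S) [Flat f]
    [LocallyOfFinitePresentation f] (V : X.Opens)
    (h : ∀ v : V, Synt.IsSyntomicAt f v.1) : SyntP (V.ι ≫ f) := by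
  apply isSyntomicMor_of_isCIMorphism
  refine ⟨inferInstance, inferInstance, fun y' => ?_⟩
  obtain ⟨E⟩ := nonempty_fiberStalk_comp_equiv f V.ι y'
  exact isCI_of_ringEquiv E ((isCI_fiberStalk_iff_isSyntomicAt f _).mpr (h y'))

instance syntP_src : IsZariskiLocalAtSource (SyntP.{u}) := by
  apply IsZariskiLocalAtSource.mk'
  · intro X Y f U hf
    exact MorphismProperty.comp_mem _ _ _ (syntP_oi U.ι) hf
  · intro X Y f ι U hU H
    have hci : ∀ i, CInt.IsCIMorphism ((U i).ι ≫ f) := fun i =>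
      isCIMorphism_of_isSyntomicMor _ (H i)
    haveI : Flat f := IsZariskiLocalAtSource.of_iSup_eq_top (P := @Flat) U hU
      (fun i => (hci i).1)
    haveI : LocallyOfFinitePresentation f :=
      IsZariskiLocalAtSource.of_iSup_eq_top (P := @LocallyOfFinitePresentation) U hU
        (fun i => (hci i).2.1)
    apply isSyntomicMor_of_isCIMorphism
    refine ⟨inferInstance, inferInstance, fun x => ?_⟩
    have hx : x ∈ (iSup U : X.Opens) := by rw [hU]; trivial
    obtain ⟨i, hxi⟩ := TopologicalSpace.Opens.mem_iSup.mp hx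
    obtain ⟨E⟩ := nonempty_fiberStalk_comp_equiv f (U i).ι ⟨x, hxi⟩
    exact isCI_of_ringEquiv E.symm ((hci i).2.2 ⟨x, hxi⟩)

theorem nice_syntP : Nice (SyntP.{u}) :=
  ⟨inferInstance, inferInstance, fun f _ => syntP_oi f, inferInstance⟩

end NiceSynt

section global

variable {P : MorphismProperty Scheme.{u}}
variable {K : Type u} [SmallCategory K] [IsCofiltered K] (E : K ⥤ Scheme.{u})
  [∀ {i j} (f : i ⟶ j), IsAffineHom (E.map f)] (cE : Cone E) (hcE : IsLimit cE)
  (k₀ : K) {X₀ : Scheme.{u}} (f₀ : X₀ ⟶ E.obj k₀)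

set_option backward.isDefEq.respectTransparency false in
include hcE in
/-- the global version, with the pointwise statement as a hypothesis -/
theorem exists_fst_stage' (hP : Nice P) [CompactSpace X₀]
    (hpt : ∀ x : (pbCone E cE k₀ f₀).pt, ∃ (j : Over k₀) (V : (pullback (E.map j.hom) f₀).Opens),
      (pbCone E cE k₀ f₀).π.app j x ∈ V ∧ P (V.ι ≫ pullback.fst (E.map j.hom) f₀)) :
    ∃ j : Over k₀, P (pullback.fst (E.map j.hom) f₀) := by
  have := hP.respectsIso
  have := hP.src
  let F := pbDiagram E k₀ f₀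
  let cF := pbCone E cE k₀ f₀
  have hcF : IsLimit cF := isLimitPbCone E cE hcE k₀ f₀
  have hFc : ∀ j, CompactSpace (F.obj j) := fun j => inferInstance
  have hXc : CompactSpace cF.pt := Scheme.compactSpace_of_isLimit F cF hcF
  let L : ∀ j : Over k₀, (F.obj j).Opens := fun j => locus P (pullback.fst (E.map j.hom) f₀)
  have hLmap : ∀ {j j' : Over k₀} (φ : j' ⟶ j), F.map φ ⁻¹ᵁ L j ≤ L j' :=
    fun φ => preimage_locus_le E k₀ f₀ hP φ
  let U : Over k₀ → Set cF.pt := fun j => ((cF.π.app j ⁻¹ᵁ L j : cF.pt.Opens) : Set cF.pt)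
  have hUmono : ∀ {j j' : Over k₀} (φ : j' ⟶ j), U j ⊆ U j' := by
    intro j j' φ y hy
    have h1 : (F.map φ) (cF.π.app j' y) ∈ L j := by
      rw [← Scheme.Hom.comp_apply, cF.w]
      exact hy
    exact hLmap φ h1
  have hcov : (Set.univ : Set cF.pt) ⊆ ⋃ j, U j := by
    intro x _
    obtain ⟨j, V, hxV, hV⟩ := hpt x
    exact Set.mem_iUnion.mpr ⟨j, le_locus _ hV hxV⟩
  have hdir : Directed (· ⊆ ·) U := fun j₁ j₂ =>
    ⟨IsCofiltered.min j₁ j₂, hUmono (IsCofiltered.minToLeft _ _),
      hUmono (IsCofiltered.minToRight _ _)⟩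
  haveI : Nonempty (Over k₀) := ⟨Over.mk (𝟙 k₀)⟩
  obtain ⟨j, hj⟩ := isCompact_univ.elim_directed_cover U
    (fun j => (cF.π.app j ⁻¹ᵁ L j).2) hcov hdir
  have hj' : cF.π.app j ⁻¹ᵁ L j = ⊤ := by
    rw [eq_top_iff]
    exact fun y _ => hj (Set.mem_univ y)
  obtain ⟨j', φ, hφ⟩ := exists_map_eq_top F cF hcF (L j) hj'
  refine ⟨j', (locus_eq_top_iff hP _).1 ?_⟩
  rw [eq_top_iff, ← hφ]
  exact hLmap φ

set_option backward.isDefEq.respectTransparency false in
include hcE in
/-- syntomic morphisms descend to a stage: canonical form over the system `E` -/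
theorem exists_fst_stage_synt [LocallyOfFinitePresentation f₀] [CompactSpace X₀]
    (h : Synt.IsSyntomicMor (pullback.fst (cE.π.app k₀) f₀)) :
    ∃ j : Over k₀, Synt.IsSyntomicMor (pullback.fst (E.map j.hom) f₀) := by
  obtain ⟨hfl, hlfp, -⟩ := isCIMorphism_of_isSyntomicMor _ h
  obtain ⟨j₁, hj₁⟩ := exists_fst_stage E cE hcE k₀ f₀ Groth.Agent.Helper14.LimFlat.nice_flat
    Groth.Agent.Helper14.LimFlat.tensorDescends_flat hfl
  haveI : Flat (pullback.fst (E.map j₁.hom) f₀) := hj₁
  haveI : LocallyOfFinitePresentation (pullback.fst (E.map j₁.hom) f₀) := inferInstance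
  let V : (pullback (E.map j₁.hom) f₀).Opens :=
    ⟨{x | Synt.IsSyntomicAt (pullback.fst (E.map j₁.hom) f₀) x}, isOpen_setOf_isSyntomicAt _⟩
  refine exists_fst_stage' (P := SyntP) E cE hcE k₀ f₀ nice_syntP (fun x => ⟨j₁, V, ?_, ?_⟩)
  · exact (isSyntomicAt_iff_of_isPullback _ _ _ _ (isPullback_π E cE k₀ f₀ j₁) x).mp (h x)
  · exact syntP_restrict_of_forall _ V (fun v => v.2)

end global

section main

variable {I : Type u} [SmallCategory I] [IsCofiltered I] (D : I ⥤ Scheme.{u})
  [∀ {i j} (f : i ⟶ j), IsAffineHom (D.map f)] (c : Cone D) (hc : IsLimit c)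

set_option backward.isDefEq.respectTransparency false in
include hc in
/-- descent of syntomic morphisms to a stage, canonical pullback form -/
theorem exists_snd_snd_stage_synt
    (i₀ : I) {X₀ Y₀ : Scheme.{u}} (f₀ : X₀ ⟶ Y₀) (g₀ : Y₀ ⟶ D.obj i₀)
    [LocallyOfFinitePresentation f₀] [CompactSpace X₀]
    (h : SyntP (pullback.snd f₀ (pullback.snd (c.π.app i₀) g₀))) :
    ∃ (j : I) (φ : j ⟶ i₀), SyntP (pullback.snd f₀ (pullback.snd (D.map φ) g₀)) := by
  have := (nice_syntP.{u}).respectsIso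
  let E := pbDiagram D i₀ g₀
  let cE := pbCone D c i₀ g₀
  have hcE : IsLimit cE := isLimitPbCone D c hc i₀ g₀
  let k₀ : Over i₀ := Over.mk (𝟙 i₀)
  have hiso : IsIso (D.map k₀.hom) := inferInstanceAs (IsIso (D.map (𝟙 i₀)))
  let p₀ : E.obj k₀ ⟶ Y₀ := pullback.snd (D.map k₀.hom) g₀
  have hp₀ : IsIso p₀ := inferInstance
  let ι₀ : X₀ ⟶ E.obj k₀ := f₀ ≫ inv p₀
  have hB : IsPullback (𝟙 X₀) ι₀ f₀ p₀ := IsPullback.of_horiz_isIso ⟨by simp [ι₀]⟩
  have hι₀ : LocallyOfFinitePresentation ι₀ := inferInstance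
  have key : ∀ {T : Scheme.{u}} (u : T ⟶ E.obj k₀),
      SyntP (pullback.fst u ι₀) ↔ SyntP (pullback.snd f₀ (u ≫ p₀)) := by
    intro T u
    have := (IsPullback.of_hasPullback u ι₀).flip.paste_horiz hB
    rw [Category.comp_id] at this
    exact snd_iff_of_isPullback SyntP this
  have e1 : cE.π.app k₀ ≫ p₀ = pullback.snd (c.π.app i₀) g₀ := by simp [cE, p₀]
  have h' : SyntP (pullback.fst (cE.π.app k₀) ι₀) := by
    rw [key, e1]; exact h
  obtain ⟨j, hj⟩ := exists_fst_stage_synt E cE hcE k₀ ι₀ h'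
  refine ⟨j.left.left, j.left.hom, ?_⟩
  have e2 : E.map j.hom ≫ p₀ = pullback.snd (D.map j.left.hom) g₀ := by simp [E, p₀]
  have hj' : SyntP (pullback.fst (E.map j.hom) ι₀) := hj
  rw [key, e2] at hj'
  exact hj'

include hc in
/-- descent of syntomic morphisms to a stage, existential form -/
theorem exists_stage_synt
    (i₀ : I) {X₀ Y₀ : Scheme.{u}} (f₀ : X₀ ⟶ Y₀) (g₀ : Y₀ ⟶ D.obj i₀)
    [LocallyOfFinitePresentation f₀] [CompactSpace X₀]
    {X Y : Scheme.{u}} (f : X ⟶ Y) (g : Y ⟶ c.pt) (qY : Y ⟶ Y₀) (qX : X ⟶ X₀)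
    (hY : IsPullback qY g g₀ (c.π.app i₀)) (hX : IsPullback qX f f₀ qY)
    (h : Synt.IsSyntomicMor f) :
    ∃ (i : I) (φ : i ⟶ i₀) (Xi Yi : Scheme.{u}) (fi : Xi ⟶ Yi) (gi : Yi ⟶ D.obj i) (pY : Yi ⟶ Y₀)
      (pX : Xi ⟶ X₀), IsPullback pY gi g₀ (D.map φ) ∧ IsPullback pX fi f₀ pY ∧
        Synt.IsSyntomicMor fi := by
  have := (nice_syntP.{u}).respectsIso
  exact Groth.Agent.Helper4.LimStage.stage_form D SyntP i₀ f₀ g₀
    (exists_snd_snd_stage_synt D c hc i₀ f₀ g₀
      (canonical_of_limit D c SyntP i₀ f₀ g₀ f g qY qX hY hX h))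

end main

end Groth.Agent.Helper7.LimSynt
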