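import Mathlib
import Groth.Prelude
import Groth.Agent.Lib.Helper7.LimSynt
import Groth.Agent.Lib.Helper16.Sch.ConsFD5
import Groth.Agent.Lib.Helper6.LciBCB
import Groth.Agent.Lib.Helper2.LCIDesc1
import Groth.Agent.S9287
import Groth.Agent.S9363

/-!
# Syntomic ring maps: base change, transport, the `Spec` dictionary, and descent to a stage of a
weak directed system of algebras
-/

set_option autoImplicit false
set_option linter.style.haveILetI false
set_option linter.unusedSectionVars false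
universe u
open TensorProduct

noncomputable section

namespace Groth.Agent.Helper7.SyntStage

section RingLevel

/-- syntomic ring maps are stable under base change -/
theorem isSyntomic_baseChange (R S : Type u) [CommRing R] [CommRing S] [Algebra R S]
    (h : Synt.IsSyntomic R S) (T : Type u) [CommRing T] [Algebra R T] :
    Synt.IsSyntomic T (T ⊗[R] S) := by
  obtain ⟨hfl, hlci⟩ := (Groth.Agent.S9287.result R S).mp h
  haveI := hfl
  exact (Groth.Agent.S9287.result T (T ⊗[R] S)).mpr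
    ⟨inferInstance, Groth.Agent.Helper6.LciBC.isLCI_baseChange R S hlci T⟩

/-- syntomic ring maps transport along isomorphisms of the target -/
theorem isSyntomic_of_algEquiv {R S S' : Type u} [CommRing R] [CommRing S] [CommRing S']
    [Algebra R S] [Algebra R S'] (e : S ≃ₐ[R] S') (h : Synt.IsSyntomic R S) :
    Synt.IsSyntomic R S' := by
  obtain ⟨hfl, hlci⟩ := (Groth.Agent.S9287.result R S).mp h
  haveI := hfl
  exact (Groth.Agent.S9287.result R S').mpr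
    ⟨Module.Flat.of_linearEquiv e.symm.toLinearEquiv,
      Groth.Agent.Helper2.LCIDesc.isLCI_of_algEquiv e hlci⟩

/-- syntomic ring maps transport along compatible ring isomorphisms -/
theorem isSyntomic_of_ringEquiv {R S R' S' : Type u} [CommRing R] [CommRing S] [CommRing R']
    [CommRing S'] [Algebra R S] [Algebra R' S'] (e : R ≃+* R') (e' : S ≃+* S')
    (he : ∀ r, e' (algebraMap R S r) = algebraMap R' S' (e r)) (h : Synt.IsSyntomic R S) :
    Synt.IsSyntomic R' S' := by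
  letI : Algebra R R' := e.toRingHom.toAlgebra
  have h1 := isSyntomic_baseChange R S h R'
  letI : Algebra R S' := ((algebraMap R' S').comp e.toRingHom).toAlgebra
  haveI : IsScalarTower R R' S' := IsScalarTower.of_algebraMap_eq fun r => rfl
  let φ : S →ₐ[R] S' :=
    { e'.toRingHom with
      commutes' := fun r => he r }
  let F : R' ⊗[R] S →ₐ[R'] S' :=
    Algebra.TensorProduct.lift (Algebra.ofId R' S') φ (fun _ _ => Commute.all _ _)
  have hF : ∀ (r' : R') (s : S), F (r' ⊗ₜ s) = algebraMap R' S' r' * e' s := fun r' s => by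
    simp [F, φ, Algebra.ofId_apply]
  let g : S' → R' ⊗[R] S := fun s' => (1 : R') ⊗ₜ[R] e'.symm s'
  have hgF : ∀ z, g (F z) = z := by
    intro z
    induction z using TensorProduct.induction_on with
    | zero => simp [g]
    | tmul r' s =>
      rw [hF]
      change (1 : R') ⊗ₜ[R] e'.symm (algebraMap R' S' r' * e' s) = r' ⊗ₜ s
      have h2 : algebraMap R' S' r' = e' (algebraMap R S (e.symm r')) := by
        rw [he, RingEquiv.apply_symm_apply]
      rw [h2, ← map_mul, RingEquiv.symm_apply_apply, ← Algebra.smul_def, ← TensorProduct.smul_tmul,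
        Algebra.smul_def, mul_one]
      change e (e.symm r') ⊗ₜ[R] s = r' ⊗ₜ s
      rw [RingEquiv.apply_symm_apply]
    | add x y hx hy =>
      have hadd : ∀ a b : S', g (a + b) = g a + g b := fun a b => by
        simp only [g, map_add, TensorProduct.tmul_add]
      rw [map_add, hadd, hx, hy]
  have hFg : ∀ s', F (g s') = s' := fun s' => by
    change F ((1 : R') ⊗ₜ[R] e'.symm s') = s'
    rw [hF, map_one, one_mul, RingEquiv.apply_symm_apply]
  have hbij : Function.Bijective F :=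
    ⟨Function.LeftInverse.injective hgF, Function.RightInverse.surjective hFg⟩
  exact isSyntomic_of_algEquiv (AlgEquiv.ofBijective F hbij) h1

end RingLevel


section Dict

open AlgebraicGeometry CategoryTheory

variable (R S : Type u) [CommRing R] [CommRing S] [Algebra R S]

/-- the dictionary between syntomic ring maps and syntomic morphisms of affine schemes -/
theorem isSyntomicMor_Spec_iff :
    Synt.IsSyntomicMor (Spec.map (CommRingCat.ofHom (algebraMap R S))) ↔ Synt.IsSyntomic R S := by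
  set f := Spec.map (CommRingCat.ofHom (algebraMap R S)) with hf
  let U : (Spec (CommRingCat.of S)).affineOpens := ⟨⊤, isAffineOpen_top _⟩
  let V : (Spec (CommRingCat.of R)).affineOpens := ⟨⊤, isAffineOpen_top _⟩
  have e : U.1 ≤ f ⁻¹ᵁ V.1 := fun _ _ => trivial
  let eR : R ≃+* Γ(Spec (CommRingCat.of R), ⊤) :=
    (Scheme.ΓSpecIso (CommRingCat.of R)).symm.commRingCatIsoToRingEquiv
  let eS : S ≃+* Γ(Spec (CommRingCat.of S), ⊤) :=
    (Scheme.ΓSpecIso (CommRingCat.of S)).symm.commRingCatIsoToRingEquiv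
  have hcompat : ∀ r, eS (algebraMap R S r) = (f.appLE V.1 U.1 e).hom (eR r) := by
    intro r
    have h1 : f.appLE V.1 U.1 e = f.appTop := by
      simp [Scheme.Hom.appLE, Scheme.Hom.appTop, U, V]
    have h2 := Scheme.ΓSpecIso_inv_naturality (CommRingCat.ofHom (algebraMap R S))
    rw [h1]
    exact congrArg (fun t => t.hom r) h2
  constructor
  · intro h
    have h3 := (Groth.Agent.S9363.result f).mp h U V e
    letI := (f.appLE V.1 U.1 e).hom.toAlgebra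
    refine isSyntomic_of_ringEquiv eR.symm eS.symm (fun x => ?_) h3
    rw [RingEquiv.symm_apply_eq, hcompat, RingEquiv.apply_symm_apply]
    rfl
  · intro h x
    refine ⟨U, V, e, trivial, ?_⟩
    letI := (f.appLE V.1 U.1 e).hom.toAlgebra
    exact isSyntomic_of_ringEquiv eR eS hcompat h

end Dict


section Lift

open Groth.Agent.Helper29.ColimTensor

variable {ι : Type u} [Preorder ι] [IsDirected ι (· ≤ ·)] [Nonempty ι]
    {A₀ : Type u} [CommRing A₀] {G : ι → Type u} [∀ i, CommRing (G i)] [∀ i, Algebra A₀ (G i)]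
    (f : ∀ i j, i ≤ j → (G i →ₐ[A₀] G j)) {A : Type u} [CommRing A] [Algebra A₀ A]
    {g : ∀ i, G i →ₐ[A₀] A}
    (hg : ∀ i j (h : i ≤ j), (g j).comp (f i j h) = g i)
    (hsurj : ∀ a : A, ∃ i, ∃ x : G i, g i x = a)
    (hker : ∀ i (x : G i), g i x = 0 → ∃ j, ∃ h : i ≤ j, f i j h x = 0)
    (B₀ : Type u) [CommRing B₀] [Algebra A₀ B₀]

include hg hsurj hker in
/-- a ring map from a polynomial ring over a Noetherian ring to `B₀ ⊗ A` lifts to a stage,
keeping its kernel -/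
theorem exists_stage_ringHom {𝔸 : Type u} [CommRing 𝔸] [IsNoetherianRing 𝔸] (α : 𝔸 →+* B₀)
    (n : ℕ) (ψ : MvPolynomial (Fin n) 𝔸 →+* B₀ ⊗[A₀] A)
    (hψ : ∀ a, ψ (MvPolynomial.C a) = α a ⊗ₜ[A₀] (1 : A)) :
    ∃ (j : ι) (ψj : MvPolynomial (Fin n) 𝔸 →+* B₀ ⊗[A₀] G j),
      (∀ a, ψj (MvPolynomial.C a) = α a ⊗ₜ[A₀] (1 : G j)) ∧
      (∀ p, Rmap B₀ (g j) (ψj p) = ψ p) ∧ RingHom.ker ψ ≤ RingHom.ker ψj := by
  classical
  obtain ⟨i₀, t, ht⟩ := lift_R f hg hsurj B₀ (fun k : Fin n => ψ (MvPolynomial.X k))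
  let c₀ : 𝔸 →+* B₀ ⊗[A₀] G i₀ :=
    (Algebra.TensorProduct.includeLeftRingHom : B₀ →+* B₀ ⊗[A₀] G i₀).comp α
  let ψ₀ : MvPolynomial (Fin n) 𝔸 →+* B₀ ⊗[A₀] G i₀ := MvPolynomial.eval₂Hom c₀ t
  have h0 : ∀ p, Rmap B₀ (g i₀) (ψ₀ p) = ψ p := by
    intro p
    have h1 : ((Rmap B₀ (g i₀)).toRingHom.comp ψ₀) = ψ := by
      apply MvPolynomial.ringHom_ext
      · intro a
        simp [ψ₀, c₀, hψ]
      · intro k
        simp [ψ₀, ht]
    exact congrArg (fun q => q p) h1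
  obtain ⟨F, hF⟩ := (isNoetherianRing_iff_ideal_fg _).mp inferInstance (RingHom.ker ψ)
  obtain ⟨j, θ, hθ, hkill⟩ := kill_R f hg hsurj hker B₀ i₀ (F.image ψ₀) (by
    intro z hz
    obtain ⟨p, hp, rfl⟩ := Finset.mem_image.mp hz
    rw [h0]
    have h2 : p ∈ RingHom.ker ψ := hF ▸ Ideal.subset_span hp
    exact h2)
  refine ⟨j, (Rmap B₀ θ).toRingHom.comp ψ₀, fun a => ?_, fun p => ?_, ?_⟩
  · simp [ψ₀, c₀]
  · change Rmap B₀ (g j) (Rmap B₀ θ (ψ₀ p)) = ψ p
    rw [Rmap_adm (B₀ := B₀) hθ, h0]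
  · rw [← hF, Ideal.span_le]
    intro p hp
    exact hkill _ (Finset.mem_image_of_mem _ hp)

end Lift


section Core

open AlgebraicGeometry CategoryTheory PrimeSpectrum Topology
open Groth.Agent.Helper16.ConsFD Groth.Agent.Helper7.LimSynt

attribute [local instance] Algebra.TensorProduct.rightAlgebra

section bc

variable (R₁ S₁ : Type u) [CommRing R₁] [CommRing S₁] [Algebra R₁ S₁]

/-- the image in `Spec R₁` of the locus of non-syntomic points of `Spec S₁` -/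
def badSet : Set (PrimeSpectrum R₁) :=
  (Spec.map (CommRingCat.ofHom (algebraMap R₁ S₁))).base ''
    {z | ¬ Synt.IsSyntomicAt (Spec.map (CommRingCat.ofHom (algebraMap R₁ S₁))) z}

theorem isOpen_syntomicAt {X S : Scheme.{u}} (f : X ⟶ S) :
    IsOpen {x : X | Synt.IsSyntomicAt f x} := by
  rw [isOpen_iff_forall_mem_open]
  rintro x ⟨U, V, e, hx, hUV⟩
  exact ⟨U.1, fun y hy => ⟨U, V, e, hy, hUV⟩, U.1.isOpen, hx⟩

theorem isConstructible_badSet [IsNoetherianRing S₁] [Algebra.FinitePresentation R₁ S₁] :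
    IsConstructible (badSet R₁ S₁) := by
  have hfp : (algebraMap R₁ S₁).FinitePresentation :=
    RingHom.finitePresentation_algebraMap.mpr inferInstance
  let Z : Set (PrimeSpectrum S₁) :=
    {z | ¬ Synt.IsSyntomicAt (Spec.map (CommRingCat.ofHom (algebraMap R₁ S₁))) z}
  have hZc : IsClosed Z := by
    rw [← isOpen_compl_iff]
    have h1 : Zᶜ = {z | Synt.IsSyntomicAt (Spec.map (CommRingCat.ofHom (algebraMap R₁ S₁))) z} := by
      ext z
      simp only [Z, Set.mem_compl_iff, Set.mem_ofPred_eq, not_not]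
      exact Iff.rfl
    rw [h1]
    exact isOpen_syntomicAt _
  have hZ : IsConstructible Z := by
    have h2 : Z = zeroLocus (vanishingIdeal Z : Set S₁) := by
      rw [zeroLocus_vanishingIdeal_eq_closure, hZc.closure_eq]
    have hfg : (vanishingIdeal Z).FG := (isNoetherianRing_iff_ideal_fg S₁).mp inferInstance _
    have h3 := (isRetrocompact_zeroLocus_compl_of_fg hfg).isConstructible
      (isClosed_zeroLocus _).isOpen_compl
    rw [h2]
    simpa using h3.compl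
  exact isConstructible_comap_image hfp hZ

variable [Module.Flat R₁ S₁] [Algebra.FinitePresentation R₁ S₁]
  (R' : Type u) [CommRing R'] [Algebra R₁ R']

theorem flat_spec : Flat (Spec.map (CommRingCat.ofHom (algebraMap R₁ S₁))) := by
  rw [HasRingHomProperty.Spec_iff (P := @Flat)]
  exact RingHom.flat_algebraMap_iff.mpr inferInstance

theorem lfp_spec : LocallyOfFinitePresentation (Spec.map (CommRingCat.ofHom (algebraMap R₁ S₁))) := by
  rw [HasRingHomProperty.Spec_iff (P := @LocallyOfFinitePresentation)]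
  exact RingHom.finitePresentation_algebraMap.mpr inferInstance

theorem isPullback_tensor :
    IsPullback (Spec.map (CommRingCat.ofHom (algebraMap S₁ (R' ⊗[R₁] S₁))))
      (Spec.map (CommRingCat.ofHom (algebraMap R' (R' ⊗[R₁] S₁))))
      (Spec.map (CommRingCat.ofHom (algebraMap R₁ S₁)))
      (Spec.map (CommRingCat.ofHom (algebraMap R₁ R'))) :=
  isPullback_of_isPushout R₁ R' S₁ (R' ⊗[R₁] S₁) inferInstance

/-- if the base change to `R'` is syntomic then `Spec R'` misses the bad set -/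
theorem notMem_badSet_of_isSyntomic (h : Synt.IsSyntomic R' (R' ⊗[R₁] S₁)) (q : PrimeSpectrum R') :
    comap (algebraMap R₁ R') q ∉ badSet R₁ S₁ := by
  haveI := flat_spec R₁ S₁
  haveI := lfp_spec R₁ S₁
  have hsq := isPullback_tensor R₁ S₁ R'
  rintro ⟨z, hz, hzq⟩
  have hzq' : (Spec.map (CommRingCat.ofHom (algebraMap R₁ S₁))).base z =
      (Spec.map (CommRingCat.ofHom (algebraMap R₁ R'))).base q := hzq
  obtain ⟨w, hw1, hw2⟩ := Scheme.Pullback.exists_preimage_pullback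
    (f := Spec.map (CommRingCat.ofHom (algebraMap R₁ S₁)))
    (g := Spec.map (CommRingCat.ofHom (algebraMap R₁ R'))) z q hzq'
  let x' := hsq.isoPullback.inv.base w
  have hx1 : (Spec.map (CommRingCat.ofHom (algebraMap S₁ (R' ⊗[R₁] S₁)))).base x' = z := by
    have h1 := congrArg (fun t => t.base w) hsq.isoPullback_inv_fst
    exact h1.trans hw1
  have hsy : Synt.IsSyntomicAt
      (Spec.map (CommRingCat.ofHom (algebraMap R' (R' ⊗[R₁] S₁)))) x' :=
    (isSyntomicMor_Spec_iff R' (R' ⊗[R₁] S₁)).mpr h x'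
  have h2 := (isSyntomicAt_iff_of_isPullback _ _ _ _ hsq x').mp hsy
  rw [hx1] at h2
  exact hz h2

/-- if `Spec R'` misses the bad set then the base change to `R'` is syntomic -/
theorem isSyntomic_of_forall_notMem_badSet
    (hq : ∀ q : PrimeSpectrum R', comap (algebraMap R₁ R') q ∉ badSet R₁ S₁) :
    Synt.IsSyntomic R' (R' ⊗[R₁] S₁) := by
  haveI := flat_spec R₁ S₁
  haveI := lfp_spec R₁ S₁
  have hsq := isPullback_tensor R₁ S₁ R'
  apply (isSyntomicMor_Spec_iff R' (R' ⊗[R₁] S₁)).mp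
  intro x'
  rw [isSyntomicAt_iff_of_isPullback _ _ _ _ hsq x']
  by_contra hns
  refine hq ((Spec.map (CommRingCat.ofHom (algebraMap R' (R' ⊗[R₁] S₁)))).base x')
    ⟨(Spec.map (CommRingCat.ofHom (algebraMap S₁ (R' ⊗[R₁] S₁)))).base x', hns, ?_⟩
  exact congrArg (fun t => t.base x') hsq.w

end bc


section Model

variable (𝔸 : Type u) [CommRing 𝔸] [IsNoetherianRing 𝔸] (C₁ : Type u) [CommRing C₁] [Algebra 𝔸 C₁]
  [Algebra.FiniteType 𝔸 C₁]

/-- Noetherian approximation of a syntomic base change of a finite type algebra -/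
theorem exists_finiteType_model (R : Type u) [CommRing R] [Algebra 𝔸 R]
    (h : Synt.IsSyntomic R (R ⊗[𝔸] C₁)) :
    ∃ (R₂ : Type u) (_ : CommRing R₂) (_ : Algebra 𝔸 R₂) (_ : Algebra.FiniteType 𝔸 R₂)
      (_ : R₂ →ₐ[𝔸] R), Synt.IsSyntomic R₂ (R₂ ⊗[𝔸] C₁) := by
  classical
  haveI : Module.Flat R (R ⊗[𝔸] C₁) := h.1
  obtain ⟨T₁, hT₁⟩ := Groth.Agent.Helper21.FS.exists_finset_forall_flat 𝔸 C₁ C₁ R
  let R₁ : Subalgebra 𝔸 R := Algebra.adjoin 𝔸 (T₁ : Set R)
  have hfg₁ : R₁.FG := Subalgebra.fg_adjoin_finset T₁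
  haveI : Module.Flat R₁ (R₁ ⊗[𝔸] C₁) := hT₁ R₁ Algebra.subset_adjoin hfg₁
  haveI : Algebra.FiniteType 𝔸 R₁ := (Subalgebra.fg_iff_finiteType R₁).mp hfg₁
  haveI : IsNoetherianRing R₁ := Algebra.FiniteType.isNoetherianRing 𝔸 R₁
  haveI : Algebra.FiniteType R₁ (R₁ ⊗[𝔸] C₁) := inferInstance
  haveI : Algebra.FinitePresentation R₁ (R₁ ⊗[𝔸] C₁) :=
    Algebra.FinitePresentation.of_finiteType.mp inferInstance
  haveI : IsNoetherianRing (R₁ ⊗[𝔸] C₁) := Algebra.FiniteType.isNoetherianRing R₁ _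
  have hR : Synt.IsSyntomic R (R ⊗[R₁] (R₁ ⊗[𝔸] C₁)) :=
    isSyntomic_of_algEquiv (Algebra.TensorProduct.cancelBaseChange 𝔸 R₁ R R C₁).symm h
  have hE := isConstructible_badSet R₁ (R₁ ⊗[𝔸] C₁)
  obtain ⟨C, hC⟩ := PrimeSpectrum.exists_constructibleSetData_iff.mpr hE
  have hempty : PrimeSpectrum.comap (algebraMap R₁ R) ⁻¹' C.toSet = ∅ := by
    rw [Set.eq_empty_iff_forall_notMem]
    intro q hq
    rw [Set.mem_preimage, hC] at hq
    exact notMem_badSet_of_isSyntomic R₁ (R₁ ⊗[𝔸] C₁) R hR q hq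
  obtain ⟨T₂, hT₂⟩ := exists_finset_preimage_eq_empty C hempty
  let R₂ : Subalgebra R₁ R := Algebra.adjoin R₁ (T₂ : Set R)
  have h2 := hT₂ R₂ Algebra.subset_adjoin
  have hS₂ : Synt.IsSyntomic R₂ (R₂ ⊗[R₁] (R₁ ⊗[𝔸] C₁)) := by
    apply isSyntomic_of_forall_notMem_badSet
    intro q hq
    have h3 : q ∈ PrimeSpectrum.comap (algebraMap R₁ R₂) ⁻¹' C.toSet := by
      rw [Set.mem_preimage, hC]
      exact hq
    rw [h2] at h3
    exact h3
  haveI : Algebra.FiniteType R₁ R₂ :=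
    (Subalgebra.fg_iff_finiteType R₂).mp (Subalgebra.fg_adjoin_finset T₂)
  haveI : Algebra.FiniteType 𝔸 R₂ :=
    Algebra.FiniteType.trans (inferInstance : Algebra.FiniteType 𝔸 R₁) inferInstance
  refine ⟨R₂, inferInstance, inferInstance, inferInstance, (R₂.val).restrictScalars 𝔸, ?_⟩
  exact isSyntomic_of_algEquiv (Algebra.TensorProduct.cancelBaseChange 𝔸 R₁ R₂ R₂ C₁) hS₂

end Model

end Core


section Final

open Groth.Agent.Helper29.ColimTensor

variable {ι : Type u} [Preorder ι] [IsDirected ι (· ≤ ·)] [Nonempty ι]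
    {A₀ : Type u} [CommRing A₀] {G : ι → Type u} [∀ i, CommRing (G i)] [∀ i, Algebra A₀ (G i)]
    (f : ∀ i j, i ≤ j → (G i →ₐ[A₀] G j)) {A : Type u} [CommRing A] [Algebra A₀ A]
    {g : ∀ i, G i →ₐ[A₀] A}
    (hg : ∀ i j (h : i ≤ j), (g j).comp (f i j h) = g i)
    (hsurj : ∀ a : A, ∃ i, ∃ x : G i, g i x = a)
    (hker : ∀ i (x : G i), g i x = 0 → ∃ j, ∃ h : i ≤ j, f i j h x = 0)
    (B₀ : Type u) [CommRing B₀] [Algebra A₀ B₀] (C₀ : Type u) [CommRing C₀] [Algebra B₀ C₀]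

section ModelEquiv

variable {𝔸 : Type u} [CommRing 𝔸] [Algebra 𝔸 B₀]
  (C₁ : Type u) [CommRing C₁] [Algebra 𝔸 C₁] [Algebra C₁ C₀] [Algebra 𝔸 C₀]
  [IsScalarTower 𝔸 B₀ C₀] [IsScalarTower 𝔸 C₁ C₀] [Algebra.IsPushout 𝔸 B₀ C₁ C₀]
  (R' : Type u) [CommRing R'] [Algebra B₀ R'] [Algebra 𝔸 R'] [IsScalarTower 𝔸 B₀ R']

/-- `R' ⊗[B₀] C₀ ≃ R' ⊗[𝔸] C₁` for a model `C₁` of `C₀` over `𝔸` -/
def modelEquiv : R' ⊗[B₀] C₀ ≃ₐ[R'] R' ⊗[𝔸] C₁ :=
  (Algebra.TensorProduct.congr (AlgEquiv.refl : R' ≃ₐ[R'] R')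
    (Algebra.IsPushout.equiv 𝔸 B₀ C₁ C₀).symm).trans
    (Algebra.TensorProduct.cancelBaseChange 𝔸 B₀ R' R' C₁)

end ModelEquiv

include hg hsurj hker in
/-- descent of syntomicity to a stage, given a Noetherian model of `B₀ → C₀` -/
theorem exists_stage_syntomic_of_model (𝔸 : Type u) [CommRing 𝔸] [IsNoetherianRing 𝔸]
    [Algebra 𝔸 B₀] (C₁ : Type u) [CommRing C₁] [Algebra 𝔸 C₁] [Algebra.FiniteType 𝔸 C₁]
    [Algebra C₁ C₀] [Algebra 𝔸 C₀] [IsScalarTower 𝔸 B₀ C₀] [IsScalarTower 𝔸 C₁ C₀]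
    [Algebra.IsPushout 𝔸 B₀ C₁ C₀]
    (h : Synt.IsSyntomic (B₀ ⊗[A₀] A) ((B₀ ⊗[A₀] A) ⊗[B₀] C₀)) :
    ∃ i, Synt.IsSyntomic (B₀ ⊗[A₀] G i) ((B₀ ⊗[A₀] G i) ⊗[B₀] C₀) := by
  classical
  have h' : Synt.IsSyntomic (B₀ ⊗[A₀] A) ((B₀ ⊗[A₀] A) ⊗[𝔸] C₁) :=
    isSyntomic_of_algEquiv (modelEquiv B₀ C₀ C₁ (B₀ ⊗[A₀] A)) h
  obtain ⟨R₂, _, _, hft, ψ, hS₂⟩ := exists_finiteType_model 𝔸 C₁ (B₀ ⊗[A₀] A) h'
  obtain ⟨n, π, hπ⟩ := Algebra.FiniteType.iff_quotient_mvPolynomial''.mp hft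
  obtain ⟨j, ψj, hC, hcomp, hkerj⟩ := exists_stage_ringHom f hg hsurj hker B₀ (algebraMap 𝔸 B₀) n
    ((ψ : R₂ →+* B₀ ⊗[A₀] A).comp (π : MvPolynomial (Fin n) 𝔸 →+* R₂)) (fun a => by
      change ψ (π (MvPolynomial.C a)) = _
      rw [← MvPolynomial.algebraMap_eq, π.commutes, ψ.commutes]
      rfl)
  have hkerπ : RingHom.ker (π : MvPolynomial (Fin n) 𝔸 →+* R₂) ≤ RingHom.ker ψj := by
    refine le_trans (fun p hp => ?_) hkerj
    rw [RingHom.mem_ker] at hp ⊢
    change ψ ((π : MvPolynomial (Fin n) 𝔸 →+* R₂) p) = 0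
    rw [hp, map_zero]
  let φ : R₂ →+* B₀ ⊗[A₀] G j :=
    RingHom.liftOfSurjective (π : MvPolynomial (Fin n) 𝔸 →+* R₂) hπ ⟨ψj, hkerπ⟩
  have hφ : ∀ p, φ (π p) = ψj p :=
    RingHom.liftOfSurjective_comp_apply (π : MvPolynomial (Fin n) 𝔸 →+* R₂) hπ ⟨ψj, hkerπ⟩
  letI : Algebra R₂ (B₀ ⊗[A₀] G j) := φ.toAlgebra
  haveI : IsScalarTower 𝔸 R₂ (B₀ ⊗[A₀] G j) := IsScalarTower.of_algebraMap_eq fun a => by
    change _ = φ (algebraMap 𝔸 R₂ a)
    rw [← π.commutes, MvPolynomial.algebraMap_eq, hφ, hC]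
    rfl
  have h3 := isSyntomic_baseChange R₂ (R₂ ⊗[𝔸] C₁) hS₂ (B₀ ⊗[A₀] G j)
  have h4 := isSyntomic_of_algEquiv (Algebra.TensorProduct.cancelBaseChange 𝔸 R₂
    (B₀ ⊗[A₀] G j) (B₀ ⊗[A₀] G j) C₁) h3
  exact ⟨j, isSyntomic_of_algEquiv (modelEquiv B₀ C₀ C₁ (B₀ ⊗[A₀] G j)).symm h4⟩

include hg hsurj hker in
/-- descent of syntomicity to a stage of a weak directed system -/
theorem exists_stage_syntomic [Algebra.FinitePresentation B₀ C₀]
    (h : Synt.IsSyntomic (B₀ ⊗[A₀] A) ((B₀ ⊗[A₀] A) ⊗[B₀] C₀)) :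
    ∃ i, Synt.IsSyntomic (B₀ ⊗[A₀] G i) ((B₀ ⊗[A₀] G i) ⊗[B₀] C₀) := by
  classical
  let P := Algebra.Presentation.ofFinitePresentation B₀ C₀
  let 𝔸 : Subalgebra ℤ B₀ := Algebra.adjoin ℤ P.coeffs
  haveI : P.HasCoeffs 𝔸 := ⟨fun x hx => ⟨⟨x, Algebra.subset_adjoin hx⟩, rfl⟩⟩
  haveI : Algebra.FiniteType ℤ 𝔸 := Algebra.FiniteType.adjoin_of_finite P.finite_coeffs
  haveI : IsNoetherianRing 𝔸 := Algebra.FiniteType.isNoetherianRing ℤ 𝔸
  let C₁ := P.ModelOfHasCoeffs 𝔸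
  letI : Algebra C₁ C₀ := Groth.Agent.Helper21.FS.modelAlgebra P 𝔸
  haveI : IsScalarTower 𝔸 C₁ C₀ := Groth.Agent.Helper21.FS.model_isScalarTower P 𝔸
  haveI : Algebra.IsPushout 𝔸 B₀ C₁ C₀ := Groth.Agent.Helper21.FS.model_isPushout P 𝔸
  exact exists_stage_syntomic_of_model f hg hsurj hker B₀ C₀ 𝔸 C₁ h

end Final

end Groth.Agent.Helper7.SyntStage
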