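import Groth.Agent.Lib.Helper7.FanTop
import Groth.Agent.Lib.Helper6.FanMax

/-!
# Formal fans: rational points and quasi-separated fans (helper7)
-/

set_option autoImplicit false
set_option linter.unusedSectionVars false
set_option linter.style.haveILetI false

universe u

open CategoryTheory Opposite Instab
open Instab Instab.Fan

namespace Groth.Agent.Helper7.FanTop2

open Groth.Agent.Helper7.FanBasic Groth.Agent.Helper7.FanMaps Groth.Agent.Helper7.FanPullback
  Groth.Agent.Helper7.FanRep Groth.Agent.Helper7.FanTop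
open Groth.Agent.Lib.Helper6.FanMax (approxOrth tendsto_approxOrth isRational_mk_approx)

variable {F G : Fan.{u}}

/-- a closed set of the orthant containing the rational approximations of `w` contains `w` -/
theorem mem_of_approx {n : ICone} (A : Set (Orth n)) (hA : IsClosed A) (w : Orth n)
    (h : ∀ N : ℕ, approxOrth w N ∈ A) : w ∈ A :=
  hA.mem_of_tendsto (tendsto_approxOrth w) (Filter.Eventually.of_forall h)

/-- statement of S19364 -/
theorem surjective_iff_rational (ψ : F ⟶ G) (hψ : IsBoundedMap ψ) :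
    Function.Surjective (P.map ψ) ↔
      ∀ y : P G, y.IsRational → y ∈ Set.range (P.map ψ) := by
  constructor
  · intro h y _
    exact h y
  · intro h y₀
    obtain ⟨n, ξ, v, rfl⟩ := exists_rep y₀
    have hcl : IsClosed (Set.range (P.map ψ)) := by
      rw [← Set.image_univ]
      exact (bounded_map_props ψ hψ).1 _ isClosed_univ
    have hA : IsClosed {w : Orth n | P.mk ξ w ∈ Set.range (P.map ψ)} :=
      (isClosed_iff _).mp hcl n ξ
    exact mem_of_approx _ hA v (fun N => h _ (isRational_mk_approx ξ v N))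

/-- images of closed scaling-stable subsets of a rational simplex are closed in a quasi-separated fan -/
theorem isClosed_mk_image (hF : F.IsQuasiSeparated) {n : ICone} (ξ : F.obj (op n))
    (S : Set (Orth n)) (hS : IsClosed S)
    (hSs : ∀ v w : Orth n, v ∈ S → ∀ c : ℝ, 0 < c → w.1 = c • v.1 → w ∈ S) :
    IsClosed (P.mk ξ '' S) := by
  rw [isClosed_iff]
  intro n' ξ'
  obtain ⟨s, -, hs⟩ := exists_finset_pairs hF ξ ξ'
  have heq : {w : Orth n' | P.mk ξ' w ∈ P.mk ξ '' S} =
      ⋃ e ∈ s, {w : Orth n' | ∃ y ∈ {y : Orth e.1 | pushOrth e.2.1 y ∈ S}, ∃ c : ℝ, 0 < c ∧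
        w.1 = c • e.2.2.realMap y.1} := by
    ext w
    simp only [Set.mem_iUnion, Set.mem_ofPred_eq, exists_prop, Set.mem_image]
    constructor
    · rintro ⟨v, hvS, hvw⟩
      obtain ⟨e, he, y, c, c', hc, hc', h1, h2⟩ := (hs v w).mp hvw
      refine ⟨e, he, y, ?_, c', hc', h2⟩
      refine hSs v _ hvS c⁻¹ (inv_pos.mpr hc) ?_
      rw [pushOrth_val, h1, smul_smul, inv_mul_cancel₀ hc.ne', one_smul]
    · rintro ⟨e, he, y, hyS, c', hc', h2⟩
      refine ⟨pushOrth e.2.1 y, hyS, ?_⟩
      exact (hs _ w).mpr ⟨e, he, y, 1, c', one_pos, hc', by rw [one_smul, pushOrth_val], h2⟩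
  rw [heq]
  refine Set.Finite.isClosed_biUnion s.finite_toSet (fun e _ => ?_)
  apply isClosed_cone_image
  · exact hS.preimage (continuous_pushOrth _)
  · intro v w hv c hc hw
    refine hSs _ _ hv c hc ?_
    rw [pushOrth_val, pushOrth_val, hw, realMap_smul]

/-- statement of S19366 -/
theorem quasiSeparated_topology (hF : F.IsQuasiSeparated) :
    (∀ (n : ICone) (ξ : F.obj (op n)) (S : Set (Orth n)), IsClosed S →
      (∀ v w : Orth n, v ∈ S → ∀ c : ℝ, 0 < c → w.1 = c • v.1 → w ∈ S) →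
        IsClosed (P.mk ξ '' S)) ∧
    ∀ S : Set (P F), IsClosed S ↔ ∀ (n : ICone) (ξ : F.obj (op n)), IsClosed (S ∩ P.cell ξ) := by
  refine ⟨fun n ξ S hS hSs => isClosed_mk_image hF ξ S hS hSs, fun S => ?_⟩
  constructor
  · intro hS n ξ
    refine hS.inter ?_
    have : P.cell ξ = P.mk ξ '' Set.univ := by
      unfold P.cell
      rw [Set.image_univ]
    rw [this]
    exact isClosed_mk_image hF ξ _ isClosed_univ (fun _ _ _ _ _ _ => Set.mem_univ _)
  · intro h
    rw [isClosed_iff]
    intro n ξ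
    have heq : {v : Orth n | P.mk ξ v ∈ S} = (fun v => P.mk ξ v) ⁻¹' (S ∩ P.cell ξ) := by
      ext v
      simp only [Set.mem_ofPred_eq, Set.mem_preimage, Set.mem_inter_iff]
      exact ⟨fun hv => ⟨hv, v, rfl⟩, fun hv => hv.1⟩
    rw [heq]
    exact (h n ξ).preimage (continuous_mk ξ)

/-- the locus where two cones of a quasi-separated fan give the same points is closed -/
theorem isClosed_eqLocus (hF : F.IsQuasiSeparated) {k : ICone} (τ τ' : F.obj (op k)) :
    IsClosed {w : Orth k | P.mk τ w = P.mk τ' w} := by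
  obtain ⟨s, -, hs⟩ := exists_finset_pairs hF τ τ'
  have heq : {w : Orth k | P.mk τ w = P.mk τ' w} =
      ⋃ e ∈ s, {w : Orth k | ∃ y ∈ {y : Orth e.1 | nu (pushOrth e.2.1 y) = nu (pushOrth e.2.2 y) ∧
          nu (pushOrth e.2.1 y) = nu (pushOrth e.2.2 y)}, ∃ c : ℝ, 0 < c ∧
        w.1 = c • e.2.1.realMap y.1} := by
    ext w
    simp only [Set.mem_iUnion, Set.mem_ofPred_eq, exists_prop, and_self]
    rw [hs w w]
    constructor
    · rintro ⟨e, he, y, c, c', hc, hc', h1, h2⟩
      refine ⟨e, he, y, ?_, c, hc, h1⟩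
      -- `φ' y = (c / c') • φ y`
      have h3 : (pushOrth e.2.2 y).1 = (c'⁻¹ * c) • (pushOrth e.2.1 y).1 := by
        rw [pushOrth_val, pushOrth_val]
        have h4 : c' • e.2.2.realMap y.1 = c • e.2.1.realMap y.1 := by rw [← h1, ← h2]
        have h5 : e.2.2.realMap y.1 = c'⁻¹ • (c' • e.2.2.realMap y.1) := by
          rw [smul_smul, inv_mul_cancel₀ hc'.ne', one_smul]
        rw [h5, h4, smul_smul]
      exact (nu_eq_of_smul _ _ _ (mul_pos (inv_pos.mpr hc') hc) h3).symm
    · rintro ⟨e, he, y, hy, c, hc, h1⟩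
      obtain ⟨t, ht, h2⟩ := exists_smul_of_nu_eq _ _ hy
      rw [pushOrth_val, pushOrth_val] at h2
      refine ⟨e, he, y, c, c * t, hc, mul_pos hc ht, h1, ?_⟩
      rw [h1, h2, smul_smul]
  rw [heq]
  refine Set.Finite.isClosed_biUnion s.finite_toSet (fun e _ => ?_)
  apply isClosed_cone_image
  · simp only [and_self]
    exact isClosed_eq ((continuous_nu _).comp (continuous_pushOrth _))
      ((continuous_nu _).comp (continuous_pushOrth _))
  · intro v w hv c hc hw
    simp only [Set.mem_ofPred_eq, and_self] at hv ⊢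
    have h1 : ∀ φ : e.1 ⟶ k, nu (pushOrth φ w) = nu (pushOrth φ v) := by
      intro φ
      refine nu_eq_of_smul _ _ c hc ?_
      rw [pushOrth_val, pushOrth_val, hw, realMap_smul]
    rw [h1, h1, hv]

/-- statement of S19367 -/
theorem injective_iff_rational (ψ : F ⟶ G) (hF : F.IsQuasiSeparated) :
    Function.Injective (P.map ψ) ↔
      ∀ x y : P F, x.IsRational → y.IsRational → P.map ψ x = P.map ψ y → x = y := by
  constructor
  · intro h x y _ _ hxy
    exact h hxy
  · intro h x x' hxx'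
    obtain ⟨n, σ, v, rfl⟩ := exists_rep x
    obtain ⟨n', σ', v', rfl⟩ := exists_rep x'
    rw [map_mk, map_mk, mk_eq_mk_iff] at hxx'
    obtain ⟨k, φ₁, φ₂, y, c₁, c₂, h1, hc₁, hc₂, h2, h3⟩ := hxx'
    have e1 : P.mk (F.map φ₁.op σ) y = P.mk σ v := mk_glue φ₁ σ y v c₁ hc₁ h2
    have e2 : P.mk (F.map φ₂.op σ') y = P.mk σ' v' := mk_glue φ₂ σ' y v' c₂ hc₂ h3
    rw [← e1, ← e2]
    have hψτ : ψ.app _ (F.map φ₁.op σ) = ψ.app _ (F.map φ₂.op σ') := by
      rw [naturality', naturality', h1]
    have hE := isClosed_eqLocus hF (F.map φ₁.op σ) (F.map φ₂.op σ')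
    refine mem_of_approx _ hE y (fun N => ?_)
    refine h _ _ (isRational_mk_approx _ y N) (isRational_mk_approx _ y N) ?_
    rw [map_mk, map_mk, hψτ]

end Groth.Agent.Helper7.FanTop2
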