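import Mathlib
import Groth.Agent.Lib.Helper12.GorRefl
import Groth.Agent.Lib.Helper21.IntDim

/-!
# Torsionless and reflexive modules over reduced finite free algebras over a PID (helper7)
-/

set_option autoImplicit false
set_option linter.unusedSectionVars false
set_option linter.style.haveILetI false
universe u

namespace Groth.Agent.Helper7.TorsionlessPID

open CategoryTheory Abelian Groth.Agent.Helper8.LC

section ExtLemmas

variable {S : Type u} [CommRing S]

/-- extension of a linear form along the injection of a short exact sequence whose cokernel has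
vanishing `Ext¹(-, S)` -/
theorem exists_extension_of_ext_one {N G M : Type u} [AddCommGroup N] [Module S N]
    [AddCommGroup G] [Module S G] [AddCommGroup M] [Module S M]
    {f : N →ₗ[S] G} {g : G →ₗ[S] M} (h : IsSES f g)
    (hE : Subsingleton (Ext (ModuleCat.of S M) (ModuleCat.of S S) 1)) (φ : N →ₗ[S] S) :
    ∃ ψ : G →ₗ[S] S, ψ ∘ₗ f = φ := by
  have hS := h.shortExact
  let x₁ : Ext h.sc.X₁ (ModuleCat.of S S) 0 := Ext.mk₀ (ModuleCat.ofHom φ)
  obtain ⟨x₂, hx₂⟩ := Ext.contravariant_sequence_exact₁ hS (ModuleCat.of S S) x₁
    (n₁ := 1) (by norm_num) (Subsingleton.elim (α := Ext (ModuleCat.of S M) (ModuleCat.of S S) 1) _ _)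
  refine ⟨(Ext.homEquiv₀ x₂).hom, ?_⟩
  have h1 : (Ext.mk₀ h.sc.f).comp (Ext.mk₀ (Ext.homEquiv₀ x₂)) (zero_add 0) = x₁ := by
    rw [Ext.mk₀_homEquiv₀_apply]; exact hx₂
  rw [Ext.mk₀_comp_mk₀] at h1
  have h2 := (Ext.mk₀_bijective _ _).1 h1
  have h3 := congrArg ModuleCat.Hom.hom h2
  exact h3

/-- `Ext¹(Q, S) = 0` for a submodule of a finite free module over a Gorenstein ring of
dimension at most one -/
theorem ext_one_subsingleton_of_embedding [LocCoh.IsGorensteinRing S]
    (hdim : ringKrullDim S ≤ 1) (Q : Type u) [AddCommGroup Q] [Module S Q]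
    (m : ℕ) (ι : Q →ₗ[S] (Fin m → S)) (hι : Function.Injective ι) :
    Subsingleton (Ext (ModuleCat.of S Q) (ModuleCat.of S S) 1) := by
  have hS := isSES_of_injective hι
  have hproj : Projective (ModuleCat.of S (Fin m → S)) :=
    (IsProjective.iff_projective (R := S) (P := (Fin m → S))).1 inferInstance
  have h2 : Subsingleton (Ext (ModuleCat.of S ((Fin m → S) ⧸ LinearMap.range ι))
      (ModuleCat.of S S) 2) :=
    Groth.Agent.Helper12.GorRefl.ext_subsingleton_of_gorenstein 1 hdim _ 2 (by omega)
  refine ⟨fun a b => ?_⟩
  have key : ∀ x : Ext (ModuleCat.of S Q) (ModuleCat.of S S) 1, x = 0 := by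
    intro x
    obtain ⟨y, hy⟩ := (Groth.Agent.Helper12.ExtChi.exact_pre_dl hS.shortExact
      (ModuleCat.of S S) 1 x).mp (Subsingleton.elim _ _)
    have hy0 : y = 0 := Ext.eq_zero_of_projective y
    rw [← hy, hy0, map_zero]
  rw [key a, key b]

/-- over a Gorenstein ring of dimension at most one, a finite torsionless module is reflexive -/
theorem eval_surjective_of_injective [LocCoh.IsGorensteinRing S]
    (hdim : ringKrullDim S ≤ 1) (M : Type u) [AddCommGroup M] [Module S M] [Module.Finite S M]
    (hinj : Function.Injective (Module.Dual.eval S M)) :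
    Function.Surjective (Module.Dual.eval S M) := by
  -- a presentation of `M`
  obtain ⟨n, π, hπ⟩ := Module.Finite.exists_fin' S M
  have hπinj : Function.Injective π.dualMap := LinearMap.dualMap_injective_of_surjective hπ
  haveI : Module.Finite S (Module.Dual S (Fin n → S)) := inferInstance
  haveI : Module.Finite S (Module.Dual S M) := Module.Finite.of_injective π.dualMap hπinj
  -- `M` embeds in a finite free module
  obtain ⟨m, ρ, hρ⟩ := Module.Finite.exists_fin' S (Module.Dual S M)
  have hρinj : Function.Injective ρ.dualMap := LinearMap.dualMap_injective_of_surjective hρ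
  have hEM : Subsingleton (Ext (ModuleCat.of S M) (ModuleCat.of S S) 1) :=
    ext_one_subsingleton_of_embedding hdim M m
      ((Module.piEquiv (Fin m) S S).symm.toLinearMap ∘ₗ ρ.dualMap ∘ₗ Module.Dual.eval S M)
      ((Module.piEquiv (Fin m) S S).symm.injective.comp (hρinj.comp hinj))
  -- the kernel of the presentation
  set N : Submodule S (Fin n → S) := LinearMap.ker π with hN
  have hses : IsSES N.subtype π := isSES_of_surjective hπ
  -- the dual of `N` embeds in a finite free module
  haveI : Module.Finite S N := Module.Finite.of_fg (IsNoetherian.noetherian N)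
  obtain ⟨k, σ, hσ⟩ := Module.Finite.exists_fin' S N
  have hσinj : Function.Injective σ.dualMap := LinearMap.dualMap_injective_of_surjective hσ
  have hEN : Subsingleton (Ext (ModuleCat.of S (Module.Dual S N)) (ModuleCat.of S S) 1) :=
    ext_one_subsingleton_of_embedding hdim (Module.Dual S N) k
      ((Module.piEquiv (Fin k) S S).symm.toLinearMap ∘ₗ σ.dualMap)
      ((Module.piEquiv (Fin k) S S).symm.injective.comp hσinj)
  -- the dual sequence is short exact
  have hses' : IsSES π.dualMap N.subtype.dualMap := by
    refine ⟨hπinj, ?_, ?_⟩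
    · intro μ
      constructor
      · intro hμ
        have hker : LinearMap.ker π ≤ LinearMap.ker μ := by
          intro x hx
          have h1 := LinearMap.congr_fun hμ ⟨x, hx⟩
          simpa using h1
        refine ⟨(LinearMap.ker π).liftQ μ hker ∘ₗ
          (LinearMap.quotKerEquivOfSurjective π hπ).symm.toLinearMap, ?_⟩
        refine LinearMap.ext fun x => ?_
        simp only [LinearMap.dualMap_apply, LinearMap.coe_comp, LinearEquiv.coe_coe,
          Function.comp_apply]
        have h2 : (LinearMap.quotKerEquivOfSurjective π hπ).symm (π x) =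
            Submodule.Quotient.mk x := by
          rw [LinearEquiv.symm_apply_eq]
          rfl
        rw [h2]
        rfl
      · rintro ⟨ν, rfl⟩
        ext ⟨x, hx⟩
        simp only [LinearMap.dualMap_apply, Submodule.subtype_apply, LinearMap.zero_apply]
        rw [LinearMap.mem_ker.mp hx, map_zero]
    · intro φ
      obtain ⟨ψ, hψ⟩ := exists_extension_of_ext_one hses hEM φ
      exact ⟨ψ, hψ⟩
  -- conclude
  intro Φ
  obtain ⟨Ψ, hΨ⟩ := exists_extension_of_ext_one hses' hEN Φ
  obtain ⟨g, hg⟩ := (Module.bijective_dual_eval S (Fin n → S)).2 Ψ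
  refine ⟨π g, ?_⟩
  ext μ
  have h1 := LinearMap.congr_fun hΨ μ
  have h2 := LinearMap.congr_fun hg (π.dualMap μ)
  simp only [LinearMap.coe_comp, Function.comp_apply] at h1
  rw [← h1, ← h2]
  rfl

end ExtLemmas

section PID

open nonZeroDivisors

variable (Λ : Type u) [CommRing Λ] [IsDomain Λ] [IsPrincipalIdealRing Λ]
    (S : Type u) [CommRing S] [Algebra Λ S] [Module.Finite Λ S] [Module.Free Λ S] [IsReduced S]
    (M : Type u) [AddCommGroup M] [Module S M] [Module Λ M] [IsScalarTower Λ S M]
    [Module.Finite S M]

theorem free_of_eval_injective (h : Function.Injective (Module.Dual.eval S M)) :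
    Module.Free Λ M := by
  haveI : Module.Finite Λ M := Module.Finite.trans S M
  haveI : Module.IsTorsionFree Λ M := by
    refine ⟨fun r hr m₁ m₂ hm => ?_⟩
    apply h
    ext μ
    simp only [Module.Dual.eval_apply]
    have h1 : r • μ m₁ = r • μ m₂ := by
      rw [← LinearMap.map_smul_of_tower, ← LinearMap.map_smul_of_tower]
      exact congrArg μ hm
    exact hr.isSMulRegular h1
  exact Module.free_of_finite_type_torsion_free'

theorem eval_injective_of_free [Module.Free Λ M] :
    Function.Injective (Module.Dual.eval S M) := by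
  rw [injective_iff_map_eq_zero]
  intro m hm
  by_contra hne
  haveI : IsNoetherianRing S := IsNoetherianRing.of_finite Λ S
  set T : Submonoid S := Algebra.algebraMapSubmonoid S Λ⁰ with hT
  let P := Localization T
  let M' := LocalizedModule T M
  haveI : IsArtinianRing P := IsArtinianRing.of_finite (FractionRing Λ) P
  haveI : IsSemisimpleRing P := IsArtinianRing.isSemisimpleRing_of_isReduced P
  haveI : Module.Projective P M' := Module.projective_of_isSemisimpleRing P M'
  -- the image of `m` is nonzero
  have hm' : LocalizedModule.mkLinearMap T M m ≠ 0 := by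
    intro h0
    obtain ⟨c, hc⟩ := (IsLocalizedModule.eq_zero_iff T (LocalizedModule.mkLinearMap T M)).mp h0
    obtain ⟨l, hl, hlc⟩ := c.2
    have hl0 : l ≠ 0 := nonZeroDivisors.ne_zero hl
    have h1 : l • m = 0 := by
      rw [← algebraMap_smul S l m, hlc]
      exact hc
    exact hne ((smul_eq_zero_iff_right hl0).mp h1)
  -- a linear form not vanishing on it
  obtain ⟨f, hf⟩ : ∃ f : M' →ₗ[P] P, f (LocalizedModule.mkLinearMap T M m) ≠ 0 := by
    obtain ⟨sec, hsec⟩ := (Module.projective_def' (R := P) (P := M')).mp inferInstance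
    by_contra hall
    push Not at hall
    apply hm'
    have h0 : sec (LocalizedModule.mkLinearMap T M m) = 0 := by
      ext i
      exact hall (Finsupp.lapply i ∘ₗ sec)
    have := LinearMap.congr_fun hsec (LocalizedModule.mkLinearMap T M m)
    simp only [LinearMap.coe_comp, Function.comp_apply, h0, map_zero, LinearMap.id_coe,
      id_eq] at this
    exact this.symm
  let g : M →ₗ[S] P := (f.restrictScalars S) ∘ₗ LocalizedModule.mkLinearMap T M
  haveI : IsLocalizedModule T (Algebra.linearMap S P) :=
    (isLocalizedModule_iff_isLocalization).mpr inferInstance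
  haveI : Module.FinitePresentation S M := Module.finitePresentation_of_finite S M
  obtain ⟨h, s, hs⟩ := Module.FinitePresentation.exists_lift_of_isLocalizedModule T
    (Algebra.linearMap S P) g
  have h1 : h m = 0 := LinearMap.congr_fun hm h
  have h2 := LinearMap.congr_fun hs m
  simp only [LinearMap.coe_comp, Function.comp_apply, h1, map_zero, LinearMap.smul_apply] at h2
  have h3 : g m = 0 := by
    have hu : IsUnit (algebraMap S P (s : S)) := IsLocalization.map_units P s
    have h4 : algebraMap S P (s : S) * g m = 0 := by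
      rw [← Algebra.smul_def]
      exact h2.symm
    exact (hu.mul_right_eq_zero).mp h4
  exact hf h3

include Λ in
theorem ringKrullDim_le_one : ringKrullDim S ≤ 1 := by
  have h1 : ringKrullDim S ≤ ringKrullDim Λ :=
    Groth.Agent.Helper21.ID.ringKrullDim_le_of_isIntegral (algebraMap Λ S)
      (algebraMap_isIntegral_iff.mpr inferInstance)
  have h2 : ringKrullDim Λ ≤ 1 := by
    have : Ring.KrullDimLE 1 Λ := inferInstance
    exact Ring.krullDimLE_iff.mp this
  exact h1.trans h2

/-- **S17988** -/
theorem main :
    (Function.Injective (Module.Dual.eval S M) ↔ Module.Free Λ M) ∧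
      (LocCoh.IsGorensteinRing S → (Module.IsReflexive S M ↔ Module.Free Λ M)) := by
  refine ⟨⟨free_of_eval_injective Λ S M, fun h => eval_injective_of_free Λ S M⟩, fun hG => ?_⟩
  constructor
  · intro hR
    exact free_of_eval_injective Λ S M (Module.bijective_dual_eval S M).1
  · intro hF
    have hinj := eval_injective_of_free Λ S M
    exact ⟨⟨hinj, eval_surjective_of_injective (ringKrullDim_le_one Λ S) M hinj⟩⟩

end PID

end Groth.Agent.Helper7.TorsionlessPID
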