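import Mathlib
import Groth.Agent.Lib.Helper7.StageRep

/-!
# Descent of a linear map to a finite stage, keeping flatness at a prime (helper7)
-/

set_option autoImplicit false
set_option linter.style.haveILetI false
set_option linter.unusedSectionVars false

universe u

open TensorProduct Function

namespace Groth.Agent.Helper7.MapDescent

open Groth.Agent.Helper21 Groth.Agent.Helper7.StageRep

theorem flat_of_ideal_eq {A S₁ : Type u} [CommRing A] [CommRing S₁] [Algebra A S₁]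
    {N₁ : Type u} [AddCommGroup N₁] [Module S₁ N₁] [Module A N₁] [IsScalarTower A S₁ N₁]
    {P P' : Ideal S₁} [P.IsPrime] [P'.IsPrime] (h : P = P')
    [hf : Module.Flat A (LocalizedModule P.primeCompl N₁)] :
    Module.Flat A (LocalizedModule P'.primeCompl N₁) := by
  subst h
  exact hf

/-- Flatness at a prime passes to a base-changed stage (abstract form). -/
theorem flat_stage_abs {A R' S₁ S' : Type u} [CommRing A] [CommRing R'] [CommRing S₁]
    [CommRing S'] [Algebra A R'] [Algebra A S₁] [Algebra R' S'] [Algebra S₁ S'] [Algebra A S']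
    [IsScalarTower A R' S'] [IsScalarTower A S₁ S'] [Algebra.IsPushout A R' S₁ S']
    {N₁ : Type u} [AddCommGroup N₁] [Module S₁ N₁] [Module A N₁] [IsScalarTower A S₁ N₁]
    (P : Ideal S') [P.IsPrime]
    [Module.Flat A (LocalizedModule (P.comap (algebraMap S₁ S')).primeCompl N₁)] :
    Module.Flat R' (LocalizedModule P.primeCompl (S' ⊗[S₁] N₁)) :=
  FL.flat_localizedModule_of_isBaseChange (R₀ := A) (R := R') (S₀ := S₁)
    (S := S') (M₀ := N₁) (M := S' ⊗[S₁] N₁) (TensorProduct.mk S₁ S' N₁ 1)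
    (TensorProduct.isBaseChange S₁ N₁ S') P

section Step

variable {A R S₁ S : Type u} [CommRing A] [CommRing R] [CommRing S₁] [CommRing S]
  [Algebra A R] [Algebra A S₁] [Algebra R S] [Algebra S₁ S] [Algebra A S]
  [IsScalarTower A R S] [IsScalarTower A S₁ S] [Algebra.IsPushout A R S₁ S]
  {N₁ : Type u} [AddCommGroup N₁] [Module S₁ N₁] [Module A N₁] [IsScalarTower A S₁ N₁]
  {N : Type u} [AddCommGroup N] [Module S N] [Module S₁ N] [IsScalarTower S₁ S N]

attribute [local instance] FS.stageAlgebra Algebra.TensorProduct.rightAlgebra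

/-- Flatness at a prime passes from the base to a stage. -/
theorem flat_stage (R₁ : Subalgebra A R) (Q : Ideal S) [Q.IsPrime]
    [Module.Flat A (LocalizedModule (Q.comap (algebraMap S₁ S)).primeCompl N₁)] :
    Module.Flat R₁ (LocalizedModule (Q.comap (algebraMap (R₁ ⊗[A] S₁) S)).primeCompl
      ((R₁ ⊗[A] S₁) ⊗[S₁] N₁)) := by
  have hcomap : (Q.comap (algebraMap (R₁ ⊗[A] S₁) S)).comap (algebraMap S₁ (R₁ ⊗[A] S₁)) =
      Q.comap (algebraMap S₁ S) := by
    rw [Ideal.comap_comap, ← IsScalarTower.algebraMap_eq]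
  haveI : Module.Flat A (LocalizedModule
      ((Q.comap (algebraMap (R₁ ⊗[A] S₁) S)).comap (algebraMap S₁ (R₁ ⊗[A] S₁))).primeCompl N₁) :=
    flat_of_ideal_eq hcomap.symm
  haveI : Algebra.IsPushout A R₁ S₁ (R₁ ⊗[A] S₁) := TensorProduct.isPushout
  exact flat_stage_abs (A := A) (R' := R₁) (S₁ := S₁) (S' := R₁ ⊗[A] S₁)
    (Q.comap (algebraMap (R₁ ⊗[A] S₁) S))

end Step

section Abs

variable {A R S₁ S : Type u} [CommRing A] [CommRing R] [CommRing S₁] [CommRing S]
  [Algebra A R] [Algebra A S₁] [Algebra R S] [Algebra S₁ S] [Algebra A S]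
  [IsScalarTower A R S] [IsScalarTower A S₁ S] [Algebra.IsPushout A R S₁ S]
  [Algebra.FiniteType ℤ A] [Algebra.FiniteType A S₁]
  {N₁ : Type u} [AddCommGroup N₁] [Module S₁ N₁] [Module A N₁] [IsScalarTower A S₁ N₁]
  [Module.Finite S₁ N₁]
  {N : Type u} [AddCommGroup N] [Module S N] [Module S₁ N] [IsScalarTower S₁ S N]
  {M : Type u} [AddCommGroup M] [Module S M]

attribute [local instance] FS.stageAlgebra Algebra.TensorProduct.rightAlgebra

set_option maxHeartbeats 1600000 in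
/-- Second step of the descent: the lifts are given at the base stage. -/
theorem exists_descent_map_of_lifts (hN : N₁ →ₗ[S₁] N) (hh : IsBaseChange S hN) (u : M →ₗ[S] N)
    {n m : ℕ} (f : (Fin n → S) →ₗ[S] M) (g : (Fin m → S) →ₗ[S] (Fin n → S))
    (hf : Surjective f) (hfg : Exact g f)
    (c' : Fin m → Fin n → S₁) (hc : ∀ k l, algebraMap S₁ S (c' k l) = g (Pi.single k 1) l)
    (ν : Fin n → N₁) (hν : ∀ l, hN (ν l) = u (f (Pi.single l 1)))
    (Q : Ideal S) [Q.IsPrime]
    [Module.Flat A (LocalizedModule (Q.comap (algebraMap S₁ S)).primeCompl N₁)] :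
    ∃ (R₀ : Type u) (_ : CommRing R₀) (_ : Algebra R₀ R) (S₀ : Type u) (_ : CommRing S₀)
      (_ : Algebra R₀ S₀) (_ : Algebra S₀ S) (_ : Algebra R₀ S) (_ : IsScalarTower R₀ R S)
      (_ : IsScalarTower R₀ S₀ S)
      (M₀ : Type u) (_ : AddCommGroup M₀) (_ : Module S₀ M₀) (_ : Module S₀ M)
      (_ : IsScalarTower S₀ S M)
      (N₀ : Type u) (_ : AddCommGroup N₀) (_ : Module S₀ N₀) (_ : Module R₀ N₀)
      (_ : IsScalarTower R₀ S₀ N₀) (_ : Module S₀ N) (_ : IsScalarTower S₀ S N)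
      (fM : M₀ →ₗ[S₀] M) (fN : N₀ →ₗ[S₀] N) (u₀ : M₀ →ₗ[S₀] N₀),
      Algebra.FiniteType ℤ R₀ ∧ Algebra.FiniteType R₀ S₀ ∧ Module.Finite S₀ M₀ ∧
        Algebra.IsPushout R₀ R S₀ S ∧ IsBaseChange S fM ∧ IsBaseChange S fN ∧
        (∀ x, fN (u₀ x) = u (fM x)) ∧
        Module.Flat R₀ (LocalizedModule (Q.comap (algebraMap S₀ S)).primeCompl N₀) ∧
        Module.Finite S₀ N₀ := by
  classical
  obtain ⟨F₃, hF₃⟩ := exists_finset_stage_map (A := A) (R := R) hN hh u f g hf hfg c' hc ν hν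
  let R₂ : Subalgebra A R := Algebra.adjoin A (F₃ : Set R)
  have hR₂fg : R₂.FG := Subalgebra.fg_adjoin_finset F₃
  haveI : Algebra.FiniteType A R₂ := (Subalgebra.fg_iff_finiteType R₂).mp hR₂fg
  haveI : Algebra.FiniteType ℤ R₂ :=
    Algebra.FiniteType.trans (inferInstance : Algebra.FiniteType ℤ A) inferInstance
  letI mM₂ : Module (R₂ ⊗[A] S₁) M := Module.compHom M (algebraMap (R₂ ⊗[A] S₁) S)
  haveI tM₂ : IsScalarTower (R₂ ⊗[A] S₁) S M := IsScalarTower.of_algebraMap_smul fun _ _ => rfl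
  letI mN₂ : Module (R₂ ⊗[A] S₁) N := Module.compHom N (algebraMap (R₂ ⊗[A] S₁) S)
  haveI tN₂ : IsScalarTower (R₂ ⊗[A] S₁) S N := IsScalarTower.of_algebraMap_smul fun _ _ => rfl
  obtain ⟨fM, u₂, hfM, hcompat⟩ := hF₃ R₂ Algebra.subset_adjoin
  haveI fl₂ := flat_stage (A := A) (S₁ := S₁) (N₁ := N₁) R₂ Q
  refine ⟨R₂, inferInstance, inferInstance, R₂ ⊗[A] S₁, inferInstance, inferInstance,
    inferInstance, inferInstance, inferInstance, inferInstance,
    _, inferInstance, inferInstance, mM₂, tM₂,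
    (R₂ ⊗[A] S₁) ⊗[S₁] N₁, inferInstance, inferInstance,
    inferInstance, inferInstance, mN₂, tN₂, fM,
    FS.stageMap A S₁ S R₂ hN, u₂, ?_, ?_, ?_, ?_, hfM, ?_, hcompat, fl₂, ?_⟩
  · infer_instance
  · infer_instance
  · exact Module.Finite.quotient _ _
  · exact FS.stage_isPushout A S₁ S R₂
  · exact FS.stageMap_isBaseChange A S₁ S R₂ hN hh
  · infer_instance

end Abs

section Main

variable {A R S₁ S : Type u} [CommRing A] [CommRing R] [CommRing S₁] [CommRing S]
  [Algebra A R] [Algebra A S₁] [Algebra R S] [Algebra S₁ S] [Algebra A S]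
  [IsScalarTower A R S] [IsScalarTower A S₁ S] [Algebra.IsPushout A R S₁ S]
  [Algebra.FiniteType ℤ A] [Algebra.FiniteType A S₁]
  {N₁ : Type u} [AddCommGroup N₁] [Module S₁ N₁] [Module A N₁] [IsScalarTower A S₁ N₁]
  [Module.Finite S₁ N₁]
  {N : Type u} [AddCommGroup N] [Module S N] [Module S₁ N] [IsScalarTower S₁ S N]
  {M : Type u} [AddCommGroup M] [Module S M] [Module.FinitePresentation S M]

attribute [local instance] FS.stageAlgebra Algebra.TensorProduct.rightAlgebra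

set_option maxHeartbeats 1600000 in
/-- **Descent of a linear map.** Given a base stage `(A, S₁, N₁)` of `(R, S, N)` with `N₁` flat
over `A` at the prime below `Q`, a finitely presented `S`-module `M` and a linear map
`u : M → N`, there is a later (Noetherian) stage over which `M`, `N` and `u` are all defined,
with the model of `N` still flat at the prime below `Q`. -/
theorem exists_descent_map (hN : N₁ →ₗ[S₁] N) (hh : IsBaseChange S hN) (u : M →ₗ[S] N)
    (Q : Ideal S) [Q.IsPrime]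
    [Module.Flat A (LocalizedModule (Q.comap (algebraMap S₁ S)).primeCompl N₁)] :
    ∃ (R₀ : Type u) (_ : CommRing R₀) (_ : Algebra R₀ R) (S₀ : Type u) (_ : CommRing S₀)
      (_ : Algebra R₀ S₀) (_ : Algebra S₀ S) (_ : Algebra R₀ S) (_ : IsScalarTower R₀ R S)
      (_ : IsScalarTower R₀ S₀ S)
      (M₀ : Type u) (_ : AddCommGroup M₀) (_ : Module S₀ M₀) (_ : Module S₀ M)
      (_ : IsScalarTower S₀ S M)
      (N₀ : Type u) (_ : AddCommGroup N₀) (_ : Module S₀ N₀) (_ : Module R₀ N₀)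
      (_ : IsScalarTower R₀ S₀ N₀) (_ : Module S₀ N) (_ : IsScalarTower S₀ S N)
      (fM : M₀ →ₗ[S₀] M) (fN : N₀ →ₗ[S₀] N) (u₀ : M₀ →ₗ[S₀] N₀),
      Algebra.FiniteType ℤ R₀ ∧ Algebra.FiniteType R₀ S₀ ∧ Module.Finite S₀ M₀ ∧
        Algebra.IsPushout R₀ R S₀ S ∧ IsBaseChange S fM ∧ IsBaseChange S fN ∧
        (∀ x, fN (u₀ x) = u (fM x)) ∧
        Module.Flat R₀ (LocalizedModule (Q.comap (algebraMap S₀ S)).primeCompl N₀) ∧
        Module.Finite S₀ N₀ := by
  classical
  obtain ⟨n, m, f, g, hf, hfg⟩ := Module.FinitePresentation.exists_fin' S M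
  -- level 1: lifting the presentation matrix and the values of `u`
  choose F₁ hF₁ using fun (kl : Fin m × Fin n) =>
    exists_finset_rep (A := A) (R := R) (S₁ := S₁) (g (Pi.single kl.1 1) kl.2)
  choose F₂ hF₂ using fun l =>
    exists_finset_rep_mod (A := A) (R := R) hN hh (u (f (Pi.single l 1)))
  let FF : Finset R := (Finset.univ.biUnion F₁) ∪ (Finset.univ.biUnion F₂)
  let R₁ : Subalgebra A R := Algebra.adjoin A (FF : Set R)
  have hR₁fg : R₁.FG := Subalgebra.fg_adjoin_finset FF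
  have hsub₁ : ∀ kl, (F₁ kl : Set R) ⊆ R₁ := fun kl a ha =>
    Algebra.subset_adjoin (by
      simp only [FF, Finset.coe_union, Finset.coe_biUnion, Finset.coe_univ, Set.mem_univ,
        Set.iUnion_true, Set.mem_union, Set.mem_iUnion]
      exact Or.inl ⟨kl, ha⟩)
  have hsub₂ : ∀ l, (F₂ l : Set R) ⊆ R₁ := fun l a ha =>
    Algebra.subset_adjoin (by
      simp only [FF, Finset.coe_union, Finset.coe_biUnion, Finset.coe_univ, Set.mem_univ,
        Set.iUnion_true, Set.mem_union, Set.mem_iUnion]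
      exact Or.inr ⟨l, ha⟩)
  letI mN₁ : Module (R₁ ⊗[A] S₁) N := Module.compHom N (algebraMap (R₁ ⊗[A] S₁) S)
  haveI tN₁ : IsScalarTower (R₁ ⊗[A] S₁) S N := IsScalarTower.of_algebraMap_smul fun _ _ => rfl
  choose c₁ hc₁ using fun k l => hF₁ (k, l) R₁ (hsub₁ (k, l))
  choose ν₁ hν₁ using fun l => hF₂ l R₁ (hsub₂ l)
  haveI : Algebra.FiniteType A R₁ := (Subalgebra.fg_iff_finiteType R₁).mp hR₁fg
  haveI : Algebra.FiniteType ℤ R₁ :=
    Algebra.FiniteType.trans (inferInstance : Algebra.FiniteType ℤ A) inferInstance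
  -- level 2: base `R₁`
  haveI po₁ : Algebra.IsPushout R₁ R (R₁ ⊗[A] S₁) S := FS.stage_isPushout A S₁ S R₁
  have hh₁ : IsBaseChange S (FS.stageMap A S₁ S R₁ hN) := FS.stageMap_isBaseChange A S₁ S R₁ hN hh
  haveI fl₁ := flat_stage (A := A) (S₁ := S₁) (N₁ := N₁) R₁ Q
  exact exists_descent_map_of_lifts (A := R₁) (R := R) (S₁ := R₁ ⊗[A] S₁) (S := S)
    (FS.stageMap A S₁ S R₁ hN) hh₁ u f g hf hfg c₁ hc₁ ν₁ hν₁ Q

end Main

end Groth.Agent.Helper7.MapDescent
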