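import Mathlib
import Groth.Agent.Lib.Helper21.MCPF1
import Groth.Agent.Lib.Helper1.TorFree

/-!
# Descent of fibrewise injectivity along a pushout (helper7)

* `exists_smul_eq_zero_of_flat`: if `U_P` is flat over `U'`, an element of a `U'`-module `X'`
  dying at `P` in the base change `U ⊗ X'` already dies at the prime below `P`.
* `mem_map_smul_top_iff`, `exists_smul_mem_of_map_mem`, `map_mem_of_smul_mem`: the submodule
  `𝔭 X` and localization.
* `fibre_descent`: for a pushout `S = R ⊗_{R₀} S₀` and `M = S ⊗_{S₀} M₀`, an element of `M₀`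
  which lies in `𝔭 M` at `Q` lies in `𝔭₀ M₀` at `Q₀`.
* `fibInj_descent`: fibrewise injectivity at `Q` descends along a pushout.
-/

set_option autoImplicit false
set_option linter.style.haveILetI false
set_option linter.unusedSectionVars false

universe u

open TensorProduct Function

namespace Groth.Agent.Helper7.FibInj

open Groth.Agent.Helper21 Groth.Agent.Helper21.CPF Groth.Agent.Helper21.MCPF

theorem exists_smul_eq_zero_of_flat {U' U : Type u} [CommRing U'] [CommRing U] [Algebra U' U]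
    (P : Ideal U) [P.IsPrime] [Module.Flat U' (Localization.AtPrime P)]
    {X' X : Type u} [AddCommGroup X'] [Module U' X'] [AddCommGroup X] [Module U X] [Module U' X]
    [IsScalarTower U' U X] (ψ : X' →ₗ[U'] X) (hψ : IsBaseChange U ψ) (x' : X')
    (t : U) (ht : t ∉ P) (htx : t • ψ x' = 0) :
    ∃ t' : U', t' ∉ P.comap (algebraMap U' U) ∧ t' • x' = 0 := by
  classical
  let F := Localization.AtPrime P
  -- step 1: (1 : F) ⊗[U'] x' = 0
  have h1 : (1 : F) ⊗ₜ[U'] x' = 0 := by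
    have h2 : (1 : U) ⊗ₜ[U'] x' = hψ.equiv.symm (ψ x') := by
      rw [LinearEquiv.eq_symm_apply, IsBaseChange.equiv_tmul, one_smul]
    have h3 : t • ((1 : U) ⊗ₜ[U'] x') = 0 := by
      rw [h2, ← map_smul, htx, map_zero]
    have h4 : (1 : F) ⊗ₜ[U] ((1 : U) ⊗ₜ[U'] x') = 0 := by
      have : (1 : F) = t • IsLocalization.mk' F (1 : U) (⟨t, ht⟩ : P.primeCompl) := by
        rw [Algebra.smul_def, IsLocalization.mk'_spec'_mk]
        simp
      rw [this, TensorProduct.smul_tmul, h3, tmul_zero]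
    have h5 := congrArg (AlgebraTensorModule.cancelBaseChange U' U U F X') h4
    rw [AlgebraTensorModule.cancelBaseChange_tmul, one_smul, map_zero] at h5
    exact h5
  -- step 2: exactness
  let a : Ideal U' := LinearMap.ker (LinearMap.toSpanSingleton U' X' x')
  have hex : Function.Exact a.subtype (LinearMap.toSpanSingleton U' X' x') :=
    LinearMap.exact_subtype_ker_map _
  have hex' := Module.Flat.lTensor_exact F hex
  have h6 : (LinearMap.toSpanSingleton U' X' x').lTensor F ((1 : F) ⊗ₜ[U'] (1 : U')) = 0 := by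
    rw [LinearMap.lTensor_tmul, LinearMap.toSpanSingleton_apply, one_smul, h1]
  obtain ⟨z, hz⟩ := (hex' _).mp h6
  have h7 : ∀ z : F ⊗[U'] a, TensorProduct.rid U' F (a.subtype.lTensor F z) ∈
      a • (⊤ : Submodule U' F) := by
    intro z
    induction z using TensorProduct.induction_on with
    | zero => simp
    | add x y hx hy => rw [map_add, map_add]; exact Submodule.add_mem _ hx hy
    | tmul f r =>
      rw [LinearMap.lTensor_tmul, TensorProduct.rid_tmul]
      exact Submodule.smul_mem_smul r.2 Submodule.mem_top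
  have h8 : (1 : F) ∈ a • (⊤ : Submodule U' F) := by
    have := h7 z
    rw [hz, TensorProduct.rid_tmul, one_smul] at this
    exact this
  by_contra hcon
  push Not at hcon
  have hle : a • (⊤ : Submodule U' F) ≤ (IsLocalRing.maximalIdeal F).restrictScalars U' := by
    rw [Submodule.smul_le]
    intro r hr f _
    have hrP : algebraMap U' U r ∈ P := by
      by_contra hrP
      exact hcon r (fun h => hrP h) (by simpa [a, LinearMap.toSpanSingleton_apply] using hr)
    rw [Submodule.restrictScalars_mem, Algebra.smul_def]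
    apply Ideal.mul_mem_right
    rw [IsScalarTower.algebraMap_apply U' U F]
    exact (IsLocalization.AtPrime.to_map_mem_maximal_iff F P _).mpr hrP
  exact (Ideal.ne_top_iff_one _).mp (IsLocalRing.maximalIdeal.isMaximal F).ne_top (hle h8)

theorem mem_map_smul_top_iff {R S X : Type*} [CommRing R] [CommRing S] [Algebra R S]
    [AddCommGroup X] [Module S X] [Module R X] [IsScalarTower R S X] (p : Ideal R) (x : X) :
    x ∈ (p.map (algebraMap R S)) • (⊤ : Submodule S X) ↔ x ∈ p • (⊤ : Submodule R X) := by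
  have h2 : ((p.map (algebraMap R S)) • (⊤ : Submodule S X)).restrictScalars R =
      p • (⊤ : Submodule R X) := by
    rw [Ideal.smul_restrictScalars, Submodule.restrictScalars_top]
  rw [← h2, Submodule.restrictScalars_mem]

section Loc

variable {R B : Type*} [CommRing R] [CommRing B] [Algebra R B] (W : Submonoid B)
  {X Y : Type*} [AddCommGroup X] [Module B X] [Module R X] [IsScalarTower R B X]
  [AddCommGroup Y] [Module B Y] [Module R Y] [IsScalarTower R B Y]
  (f : X →ₗ[B] Y) [IsLocalizedModule W f] (p : Ideal R)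

include W in
theorem exists_smul_eq_map_of_mem_smul_top (y : Y) (hy : y ∈ p • (⊤ : Submodule R Y)) :
    ∃ t ∈ W, ∃ z ∈ p • (⊤ : Submodule R X), t • y = f z := by
  refine Submodule.smul_induction_on hy ?_ ?_
  · intro r hr y _
    obtain ⟨⟨z, t⟩, hz⟩ := IsLocalizedModule.surj W f y
    refine ⟨t, t.2, r • z, Submodule.smul_mem_smul hr Submodule.mem_top, ?_⟩
    have hz' : (t : B) • y = f z := hz
    rw [smul_comm, hz', ← IsScalarTower.algebraMap_smul B r (f z), ← map_smul,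
      IsScalarTower.algebraMap_smul]
  · rintro y₁ y₂ ⟨t₁, ht₁, z₁, hz₁, h₁⟩ ⟨t₂, ht₂, z₂, hz₂, h₂⟩
    refine ⟨t₁ * t₂, W.mul_mem ht₁ ht₂, t₂ • z₁ + t₁ • z₂, ?_, ?_⟩
    · refine Submodule.add_mem _ ?_ ?_
      · have : t₂ • z₁ ∈ ((p.map (algebraMap R B)) • (⊤ : Submodule B X)) :=
          Submodule.smul_mem _ _ ((mem_map_smul_top_iff p z₁).mpr hz₁)
        exact (mem_map_smul_top_iff p _).mp this
      · have : t₁ • z₂ ∈ ((p.map (algebraMap R B)) • (⊤ : Submodule B X)) :=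
          Submodule.smul_mem _ _ ((mem_map_smul_top_iff p z₂).mpr hz₂)
        exact (mem_map_smul_top_iff p _).mp this
    · rw [smul_add, map_add, map_smul, map_smul, ← h₁, ← h₂, mul_smul, mul_smul,
        smul_comm t₂ t₁ y₁]

include W in
/-- If `f x ∈ 𝔭 Y` for a localization `f : X → Y`, then `t x ∈ 𝔭 X` for some `t ∈ W`. -/
theorem exists_smul_mem_of_map_mem (x : X) (hx : f x ∈ p • (⊤ : Submodule R Y)) :
    ∃ t ∈ W, t • x ∈ p • (⊤ : Submodule R X) := by
  obtain ⟨t, ht, z, hz, htz⟩ := exists_smul_eq_map_of_mem_smul_top W f p (f x) hx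
  rw [← map_smul] at htz
  obtain ⟨c, hc⟩ := (IsLocalizedModule.eq_iff_exists W f).mp htz
  refine ⟨c * t, W.mul_mem c.2 ht, ?_⟩
  have hc' : (c : B) • t • x = (c : B) • z := hc
  rw [mul_smul, hc']
  have : (c : B) • z ∈ ((p.map (algebraMap R B)) • (⊤ : Submodule B X)) :=
    Submodule.smul_mem _ _ ((mem_map_smul_top_iff p z).mpr hz)
  exact (mem_map_smul_top_iff p _).mp this

include W in
/-- If `t x ∈ 𝔭 X` for some `t ∈ W`, then `f x ∈ 𝔭 Y` for a localization `f : X → Y`. -/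
theorem map_mem_of_smul_mem (x : X) (t : B) (ht : t ∈ W)
    (hx : t • x ∈ p • (⊤ : Submodule R X)) : f x ∈ p • (⊤ : Submodule R Y) := by
  have h1 : f (t • x) ∈ p • (⊤ : Submodule R Y) := by
    have : (p • (⊤ : Submodule R X)).map (f.restrictScalars R) ≤ p • (⊤ : Submodule R Y) := by
      rw [Submodule.map_smul'']
      exact Submodule.smul_mono le_rfl le_top
    exact this ⟨_, hx, rfl⟩
  rw [map_smul] at h1
  have hu := IsLocalizedModule.map_units f (⟨t, ht⟩ : W)
  obtain ⟨e, he⟩ := hu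
  have h2 : f x = (e⁻¹ : (Module.End B Y)ˣ).1 (t • f x) := by
    have : e.1 (f x) = t • f x := by rw [he]; rfl
    rw [← this]
    exact (show ((e⁻¹ : (Module.End B Y)ˣ).1 * e.1) (f x) = f x by rw [Units.inv_mul]; rfl).symm
  rw [h2]
  have : (p • (⊤ : Submodule R Y)).map (((e⁻¹ : (Module.End B Y)ˣ).1).restrictScalars R) ≤
      p • (⊤ : Submodule R Y) := by
    rw [Submodule.map_smul'']
    exact Submodule.smul_mono le_rfl le_top
  exact this ⟨_, h1, rfl⟩

end Loc

section E2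

variable {R₀ R S₀ S : Type u} [CommRing R₀] [CommRing R] [CommRing S₀] [CommRing S]
  [Algebra R₀ R] [Algebra R₀ S₀] [Algebra R S] [Algebra S₀ S] [Algebra R₀ S]
  [IsScalarTower R₀ R S] [IsScalarTower R₀ S₀ S] [Algebra.IsPushout R₀ R S₀ S]
  {M₀ : Type u} [AddCommGroup M₀] [Module S₀ M₀]
  {M : Type u} [AddCommGroup M] [Module S M] [Module S₀ M] [IsScalarTower S₀ S M]
  (fM : M₀ →ₗ[S₀] M) (hfM : IsBaseChange S fM)
  (Q : Ideal S) [Q.IsPrime] (p : Ideal R) [p.IsPrime]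

local notation "pp" => Ideal.comap (algebraMap R₀ R) p
local notation "JC'" => Ideal.map (algebraMap R₀ S₀) (Ideal.comap (algebraMap R₀ R) p)
local notation "JC" => Ideal.map (algebraMap R S) p

include hfM in
set_option maxHeartbeats 3200000 in
set_option synthInstance.maxHeartbeats 400000 in
/-- An element of `M₀` lying in `𝔭 M` at `Q` lies in `𝔭₀ M₀` at `Q₀`. -/
theorem fibre_descent (hp : p = Q.comap (algebraMap R S)) (x' : M₀)
    (hx : ∃ t : S, t ∉ Q ∧ t • fM x' ∈ JC • (⊤ : Submodule S M)) :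
    ∃ t' : S₀, t' ∉ Q.comap (algebraMap S₀ S) ∧ t' • x' ∈ JC' • (⊤ : Submodule S₀ M₀) := by
  haveI ta : IsScalarTower R₀ (R₀ ⧸ pp) (R ⧸ p) := IsScalarTower.of_algebraMap_eq fun _ => rfl
  letI id1 : Algebra (S₀ ⧸ JC') (S ⧸ JC) :=
    Ideal.Quotient.algebraQuotientOfLEComap (map_comap_le_comap_map p)
  haveI td1 : IsScalarTower S₀ (S₀ ⧸ JC') (S ⧸ JC) := IsScalarTower.of_algebraMap_eq fun _ => rfl
  letI id2 : Algebra (R₀ ⧸ pp) (S ⧸ JC) :=
    Ideal.Quotient.algebraQuotientOfLEComap (comap_le_comap_map p)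
  haveI td2 : IsScalarTower R₀ (R₀ ⧸ pp) (S ⧸ JC) := IsScalarTower.of_algebraMap_eq fun _ => rfl
  haveI td3 : IsScalarTower (R₀ ⧸ pp) (R ⧸ p) (S ⧸ JC) := quot_tower pp p JC
  haveI td4 : IsScalarTower (R₀ ⧸ pp) (S₀ ⧸ JC') (S ⧸ JC) := quot_tower pp JC' JC
  haveI poC : Algebra.IsPushout (R₀ ⧸ pp) (R ⧸ p) (S₀ ⧸ JC') (S ⧸ JC) :=
    isPushout_quot (E' := S₀) (E := S) pp p
  have hJCQ : JC ≤ Q := by
    rw [hp]
    exact Ideal.map_comap_le
  let Qb : Ideal (S ⧸ JC) := Q.map (Ideal.Quotient.mk JC)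
  haveI hQbp : Qb.IsPrime :=
    Ideal.map_isPrime_of_surjective Ideal.Quotient.mk_surjective (by rw [Ideal.mk_ker]; exact hJCQ)
  have hQb : Qb.comap (Ideal.Quotient.mk JC) = Q := Ideal.comap_map_mk hJCQ
  have hQ : ∀ d : R₀ ⧸ pp, d ≠ 0 → algebraMap (R₀ ⧸ pp) (S ⧸ JC) d ∉ Qb := by
    intro d hd hmem
    obtain ⟨a, rfl⟩ := Ideal.Quotient.mk_surjective d
    apply hd
    rw [Ideal.Quotient.eq_zero_iff_mem, Ideal.mem_comap, hp, Ideal.mem_comap,
      ← IsScalarTower.algebraMap_apply R₀ R S]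
    have h3 : algebraMap R₀ S a ∈ Qb.comap (Ideal.Quotient.mk JC) := hmem
    rwa [hQb] at h3
  have hk' : IsBaseChange (S₀ ⧸ JC') (TensorProduct.mk S₀ (S₀ ⧸ JC') M₀ 1) :=
    TensorProduct.isBaseChange S₀ M₀ (S₀ ⧸ JC')
  have hk : IsBaseChange (S ⧸ JC) (TensorProduct.mk S (S ⧸ JC) M 1) :=
    TensorProduct.isBaseChange S M (S ⧸ JC)
  obtain ⟨ψ, hψ, hψc⟩ := exists_isBaseChange_of_square (U' := S₀) (U := S) (V' := S₀ ⧸ JC')
    (V := S ⧸ JC) fM hfM (TensorProduct.mk S₀ (S₀ ⧸ JC') M₀ 1) hk'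
    (TensorProduct.mk S (S ⧸ JC) M 1) hk
  haveI : Module.Flat (S₀ ⧸ JC') (Localization.AtPrime Qb) := CPF.step_flat (R ⧸ p) Qb hQ
  obtain ⟨t, ht, htx⟩ := hx
  have h1 : (Ideal.Quotient.mk JC t) • ψ ((1 : S₀ ⧸ JC') ⊗ₜ[S₀] x') = 0 := by
    have e1 : ψ ((1 : S₀ ⧸ JC') ⊗ₜ[S₀] x') = (1 : S ⧸ JC) ⊗ₜ[S] fM x' := hψc x'
    rw [e1, TensorProduct.smul_tmul', smul_eq_mul, mul_one]
    have e2 : (Ideal.Quotient.mk JC t) ⊗ₜ[S] fM x' = (1 : S ⧸ JC) ⊗ₜ[S] (t • fM x') := by
      rw [← TensorProduct.smul_tmul, Algebra.smul_def, mul_one]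
      rfl
    rw [e2]
    exact (Groth.Agent.Helper1.one_tmul_eq_zero_iff JC _).mpr htx
  have htb : Ideal.Quotient.mk JC t ∉ Qb := fun h => ht (by rw [← hQb]; exact h)
  obtain ⟨t'b, ht'b, ht'x⟩ := exists_smul_eq_zero_of_flat Qb ψ hψ _ _ htb h1
  obtain ⟨t', rfl⟩ := Ideal.Quotient.mk_surjective t'b
  refine ⟨t', ?_, ?_⟩
  · intro hmem
    apply ht'b
    rw [Ideal.mem_comap]
    have e3 : algebraMap (S₀ ⧸ JC') (S ⧸ JC) (Ideal.Quotient.mk JC' t') =
        Ideal.Quotient.mk JC (algebraMap S₀ S t') := rfl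
    rw [e3]
    exact Ideal.mem_map_of_mem _ hmem
  · rw [← Groth.Agent.Helper1.one_tmul_eq_zero_iff]
    rw [TensorProduct.smul_tmul', smul_eq_mul, mul_one] at ht'x
    have e4 : (Ideal.Quotient.mk JC' t') ⊗ₜ[S₀] x' = (1 : S₀ ⧸ JC') ⊗ₜ[S₀] (t' • x') := by
      rw [← TensorProduct.smul_tmul, Algebra.smul_def, mul_one]
      rfl
    rw [← e4]
    exact ht'x

end E2

section E

variable {R₀ R S₀ S : Type u} [CommRing R₀] [CommRing R] [CommRing S₀] [CommRing S]
  [Algebra R₀ R] [Algebra R₀ S₀] [Algebra R S] [Algebra S₀ S] [Algebra R₀ S]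
  [IsScalarTower R₀ R S] [IsScalarTower R₀ S₀ S] [Algebra.IsPushout R₀ R S₀ S]
  {M₀ : Type u} [AddCommGroup M₀] [Module S₀ M₀]
  {M : Type u} [AddCommGroup M] [Module S M] [Module S₀ M] [IsScalarTower S₀ S M]
  {N₀ : Type u} [AddCommGroup N₀] [Module S₀ N₀]
  {N : Type u} [AddCommGroup N] [Module S N] [Module S₀ N] [IsScalarTower S₀ S N]
  (fM : M₀ →ₗ[S₀] M) (hfM : IsBaseChange S fM) (fN : N₀ →ₗ[S₀] N)
  (u₀ : M₀ →ₗ[S₀] N₀) (u : M →ₗ[S] N) (hcompat : ∀ x, fN (u₀ x) = u (fM x))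
  (Q : Ideal S) [Q.IsPrime] (p : Ideal R) [p.IsPrime]

local notation "JC'" => Ideal.map (algebraMap R₀ S₀) (Ideal.comap (algebraMap R₀ R) p)
local notation "JC" => Ideal.map (algebraMap R S) p

include hfM hcompat in
/-- **Fibrewise injectivity at a prime descends along a pushout.** -/
theorem fibInj_descent (hp : p = Q.comap (algebraMap R S))
    (hfib : ∀ x : M, (∃ t : S, t ∉ Q ∧ t • u x ∈ JC • (⊤ : Submodule S N)) →
      ∃ t' : S, t' ∉ Q ∧ t' • x ∈ JC • (⊤ : Submodule S M)) :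
    ∀ x : M₀, (∃ t : S₀, t ∉ Q.comap (algebraMap S₀ S) ∧
        t • u₀ x ∈ JC' • (⊤ : Submodule S₀ N₀)) →
      ∃ t' : S₀, t' ∉ Q.comap (algebraMap S₀ S) ∧ t' • x ∈ JC' • (⊤ : Submodule S₀ M₀) := by
  rintro x ⟨t, ht, htx⟩
  apply fibre_descent fM hfM Q p hp x
  apply hfib (fM x)
  refine ⟨algebraMap S₀ S t, ht, ?_⟩
  have h1 : algebraMap S₀ S t • u (fM x) = fN (t • u₀ x) := by
    rw [map_smul, hcompat, algebraMap_smul]
  rw [h1]
  have h2 : ∀ n ∈ JC' • (⊤ : Submodule S₀ N₀), fN n ∈ JC • (⊤ : Submodule S N) := by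
    intro n hn
    refine Submodule.smul_induction_on hn ?_ ?_
    · intro j hj n _
      rw [map_smul, ← algebraMap_smul S j (fN n)]
      have hj' : algebraMap S₀ S j ∈ JC :=
        (map_comap_le_comap_map (A' := R₀) (R := R) (E' := S₀) (E := S) p) hj
      exact Submodule.smul_mem_smul hj' Submodule.mem_top
    · intro a b ha hb
      rw [map_add]
      exact Submodule.add_mem _ ha hb
  exact h2 _ htx

end E

end Groth.Agent.Helper7.FibInj
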