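import Mathlib
import Groth.Agent.Lib.Helper7.FibInj
import Groth.Agent.Lib.Helper1.LocalFlat

/-!
# The Noetherian stage of EGA IV 11.3.7 (helper7)

For a Noetherian `R₀`-algebra `S₀`, a finite `S₀`-module `M₀`, an `S₀`-module `N₀` flat over
`R₀` at a prime `Q₀`, and `u₀ : M₀ → N₀` which is fibrewise injective at `Q₀`: `u₀` is injective
at `Q₀` and its cokernel is flat over `R₀` at `Q₀`.
-/

set_option autoImplicit false
set_option linter.style.haveILetI false
set_option linter.unusedSectionVars false

universe u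

open TensorProduct Function

namespace Groth.Agent.Helper7.NoethStage

open Groth.Agent.Helper7.FibInj

theorem smul_mem_smul_top {R S X : Type*} [CommRing R] [CommRing S] [Algebra R S]
    [AddCommGroup X] [Module S X] [Module R X] [IsScalarTower R S X] (p : Ideal R) (c : S) {x : X}
    (h : x ∈ p • (⊤ : Submodule R X)) : c • x ∈ p • (⊤ : Submodule R X) :=
  (mem_map_smul_top_iff (S := S) p _).mp
    (Submodule.smul_mem _ c ((mem_map_smul_top_iff (S := S) p _).mpr h))

variable {R₀ S₀ : Type u} [CommRing R₀] [CommRing S₀] [Algebra R₀ S₀] [IsNoetherianRing S₀]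
  {M₀ N₀ : Type u} [AddCommGroup M₀] [Module S₀ M₀] [Module R₀ M₀] [IsScalarTower R₀ S₀ M₀]
  [Module.Finite S₀ M₀]
  [AddCommGroup N₀] [Module S₀ N₀] [Module R₀ N₀] [IsScalarTower R₀ S₀ N₀]
  (u₀ : M₀ →ₗ[S₀] N₀) (Q₀ : Ideal S₀) [Q₀.IsPrime]

local notation "p₀" => Ideal.comap (algebraMap R₀ S₀) Q₀
local notation "A" => Localization.AtPrime (Ideal.comap (algebraMap R₀ S₀) Q₀)
local notation "B" => Localization.AtPrime Q₀
local notation "W" => Ideal.primeCompl Q₀
local notation "Y" => LocalizedModule (Ideal.primeCompl Q₀) M₀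
local notation "Z" => LocalizedModule (Ideal.primeCompl Q₀) N₀

set_option maxHeartbeats 3200000 in
set_option synthInstance.maxHeartbeats 400000 in
theorem noeth_stage [Module.Flat R₀ (LocalizedModule Q₀.primeCompl N₀)]
    (hfib : ∀ x : M₀, (∃ t : S₀, t ∉ Q₀ ∧ t • u₀ x ∈
        ((Q₀.comap (algebraMap R₀ S₀)).map (algebraMap R₀ S₀)) • (⊤ : Submodule S₀ N₀)) →
      ∃ t' : S₀, t' ∉ Q₀ ∧ t' • x ∈
        ((Q₀.comap (algebraMap R₀ S₀)).map (algebraMap R₀ S₀)) • (⊤ : Submodule S₀ M₀)) :
    (∀ x : M₀, u₀ x = 0 → ∃ t : S₀, t ∉ Q₀ ∧ t • x = 0) ∧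
      Module.Flat R₀ (LocalizedModule Q₀.primeCompl (N₀ ⧸ LinearMap.range u₀)) := by
  classical
  haveI hp₀ : (p₀).IsPrime := Ideal.comap_isPrime _ _
  letI algAB : Algebra A B :=
    (Localization.localRingHom p₀ Q₀ (algebraMap R₀ S₀) rfl).toAlgebra
  haveI : IsLocalHom (algebraMap A B) :=
    Localization.isLocalHom_localRingHom p₀ Q₀ (algebraMap R₀ S₀) rfl
  haveI : IsNoetherianRing B :=
    IsLocalization.isNoetherianRing Q₀.primeCompl B inferInstance
  haveI tRAB : IsScalarTower R₀ A B := IsScalarTower.of_algebraMap_eq fun r => by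
    rw [RingHom.algebraMap_toAlgebra, Localization.localRingHom_to_map,
      ← IsScalarTower.algebraMap_apply R₀ S₀ B]
  -- module structures over `A`
  letI mAY : Module A Y := Module.compHom Y (algebraMap A B)
  haveI tABY : IsScalarTower A B Y := IsScalarTower.of_algebraMap_smul fun _ _ => rfl
  haveI tRAY : IsScalarTower R₀ A Y := IsScalarTower.of_algebraMap_smul fun r y => by
    change algebraMap A B (algebraMap R₀ A r) • y = r • y
    rw [← IsScalarTower.algebraMap_apply R₀ A B, algebraMap_smul]
  letI mAZ : Module A Z := Module.compHom Z (algebraMap A B)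
  haveI tABZ : IsScalarTower A B Z := IsScalarTower.of_algebraMap_smul fun _ _ => rfl
  haveI tRAZ : IsScalarTower R₀ A Z := IsScalarTower.of_algebraMap_smul fun r y => by
    change algebraMap A B (algebraMap R₀ A r) • y = r • y
    rw [← IsScalarTower.algebraMap_apply R₀ A B, algebraMap_smul]
  haveI fAZ : Module.Flat A Z :=
    (Module.flat_iff_of_isLocalization A (p₀).primeCompl Z).mpr inferInstance
  haveI finY : Module.Finite B Y :=
    Module.Finite.of_isLocalizedModule Q₀.primeCompl (LocalizedModule.mkLinearMap Q₀.primeCompl M₀)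
  let v : Y →ₗ[B] Z := LocalizedModule.map Q₀.primeCompl u₀
  have hmax : IsLocalRing.maximalIdeal A = (p₀).map (algebraMap R₀ A) :=
    (Localization.AtPrime.map_eq_maximalIdeal).symm
  have hres : ∀ y : Y, v y ∈ (IsLocalRing.maximalIdeal A) • (⊤ : Submodule A Z) →
      y ∈ (IsLocalRing.maximalIdeal A) • (⊤ : Submodule A Y) := by
    intro y
    induction y using LocalizedModule.induction_on with
    | h x s =>
      intro hy
      rw [LocalizedModule.map_mk, hmax, mem_map_smul_top_iff] at hy
      have h1 : LocalizedModule.mkLinearMap Q₀.primeCompl N₀ (u₀ x) ∈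
          p₀ • (⊤ : Submodule R₀ Z) := by
        have e : LocalizedModule.mkLinearMap Q₀.primeCompl N₀ (u₀ x) =
            (s : S₀) • LocalizedModule.mk (u₀ x) s := by
          rw [LocalizedModule.mkLinearMap_apply, LocalizedModule.smul'_mk]
          exact (LocalizedModule.mk_cancel s (u₀ x)).symm
        rw [e]
        exact smul_mem_smul_top p₀ (s : S₀) hy
      obtain ⟨t, ht, htx⟩ := exists_smul_mem_of_map_mem Q₀.primeCompl
        (LocalizedModule.mkLinearMap Q₀.primeCompl N₀) p₀ (u₀ x) h1
      obtain ⟨t', ht', ht'x⟩ := hfib x ⟨t, ht, (mem_map_smul_top_iff p₀ _).mpr htx⟩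
      have h2 : LocalizedModule.mkLinearMap Q₀.primeCompl M₀ x ∈ p₀ • (⊤ : Submodule R₀ Y) :=
        map_mem_of_smul_mem Q₀.primeCompl _ p₀ x t' ht' ((mem_map_smul_top_iff p₀ _).mp ht'x)
      rw [hmax, mem_map_smul_top_iff]
      have e : LocalizedModule.mk x s = (Localization.mk (1 : S₀) s : B) •
          LocalizedModule.mkLinearMap Q₀.primeCompl M₀ x := by
        rw [LocalizedModule.mkLinearMap_apply, LocalizedModule.mk_smul_mk, one_smul, mul_one]
      rw [e]
      exact smul_mem_smul_top p₀ _ h2
  have hlT : Injective ((v.restrictScalars A).lTensor (IsLocalRing.ResidueField A)) :=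
    (Groth.Agent.Helper1.lTensor_quotient_injective_iff (v.restrictScalars A)
      (IsLocalRing.maximalIdeal A)).mpr hres
  have hvinj : Injective (v.restrictScalars A) :=
    Groth.Agent.Helper1.injective_of_injective_residueField B (v.restrictScalars A) hlT
  haveI hflat : Module.Flat A (Z ⧸ LinearMap.range (v.restrictScalars A)) :=
    Groth.Agent.Helper1.flat_quotient_range_of_injective_residueField B (v.restrictScalars A) hlT
  refine ⟨?_, ?_⟩
  · intro x hx
    have h0 : v (LocalizedModule.mk x 1) = 0 := by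
      rw [LocalizedModule.map_mk, hx, LocalizedModule.zero_mk]
    have h1 : LocalizedModule.mk x (1 : W) = 0 := hvinj (by rw [map_zero]; exact h0)
    rw [← LocalizedModule.zero_mk (1 : W), LocalizedModule.mk_eq] at h1
    obtain ⟨c, hc⟩ := h1
    refine ⟨c, c.2, ?_⟩
    rw [one_smul, smul_zero, smul_zero] at hc
    exact hc
  · let w : Z →ₗ[B] LocalizedModule W (N₀ ⧸ LinearMap.range u₀) :=
      LocalizedModule.map W (LinearMap.range u₀).mkQ
    have hex : Function.Exact v w := by
      have h := LocalizedModule.map_exact W u₀ (LinearMap.range u₀).mkQ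
        (LinearMap.exact_map_mkQ_range u₀)
      exact h
    have hw : Surjective w := LocalizedModule.map_surjective W _ (Submodule.mkQ_surjective _)
    letI mAC : Module A (LocalizedModule W (N₀ ⧸ LinearMap.range u₀)) :=
      Module.compHom _ (algebraMap A B)
    haveI tABC : IsScalarTower A B (LocalizedModule W (N₀ ⧸ LinearMap.range u₀)) :=
      IsScalarTower.of_algebraMap_smul fun _ _ => rfl
    haveI tRAC : IsScalarTower R₀ A (LocalizedModule W (N₀ ⧸ LinearMap.range u₀)) :=
      IsScalarTower.of_algebraMap_smul fun r y => by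
        change algebraMap A B (algebraMap R₀ A r) • y = r • y
        rw [← IsScalarTower.algebraMap_apply R₀ A B, algebraMap_smul]
    have hrk : LinearMap.range (v.restrictScalars A) = LinearMap.ker (w.restrictScalars A) := by
      ext z
      rw [LinearMap.mem_ker]
      exact (hex z).symm
    let e : (Z ⧸ LinearMap.range (v.restrictScalars A)) ≃ₗ[A]
        LocalizedModule W (N₀ ⧸ LinearMap.range u₀) :=
      (Submodule.quotEquivOfEq _ _ hrk).trans
        ((w.restrictScalars A).quotKerEquivOfSurjective hw)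
    haveI : Module.Flat A (LocalizedModule W (N₀ ⧸ LinearMap.range u₀)) :=
      Module.Flat.of_linearEquiv e.symm
    haveI : Module.Flat R₀ A := IsLocalization.flat A (p₀).primeCompl
    exact Module.Flat.trans R₀ A _

end Groth.Agent.Helper7.NoethStage
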