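import Mathlib
import Groth.Agent.Lib.Helper21.FL8
import Groth.Agent.Lib.Helper7.MapDescent
import Groth.Agent.Lib.Helper7.InjFlatBC
import Groth.Agent.Lib.Helper7.NoethStage

/-!
# EGA IV 11.3.7, global form for finitely presented data (helper7)

`R → B` of finite presentation, `M`, `N` finitely presented `B`-modules, `Q` a prime of `B` such
that `N_Q` is flat over `R`, and `u : M → N` fibrewise injective at `Q`. Then `u` is injective
at `Q` and its cokernel is flat over `R` at `Q`.
-/

set_option autoImplicit false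
set_option linter.style.haveILetI false
set_option linter.unusedSectionVars false

universe u

open TensorProduct Function

namespace Groth.Agent.Helper7.InjFlatGlobal

open Groth.Agent.Helper21 Groth.Agent.Helper21.FL

set_option maxHeartbeats 3200000 in
set_option synthInstance.maxHeartbeats 400000 in
theorem global_inj_flat {R B M N : Type u} [CommRing R] [CommRing B] [Algebra R B]
    [Algebra.FinitePresentation R B]
    [AddCommGroup M] [Module B M] [Module.FinitePresentation B M]
    [AddCommGroup N] [Module B N] [Module R N] [IsScalarTower R B N]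
    [Module.FinitePresentation B N]
    (u : M →ₗ[B] N) (Q : Ideal B) [Q.IsPrime]
    [Module.Flat R (LocalizedModule Q.primeCompl N)]
    (hfib : ∀ x : M, (∃ t : B, t ∉ Q ∧ t • u x ∈
        ((Q.comap (algebraMap R B)).map (algebraMap R B)) • (⊤ : Submodule B N)) →
      ∃ t' : B, t' ∉ Q ∧ t' • x ∈
        ((Q.comap (algebraMap R B)).map (algebraMap R B)) • (⊤ : Submodule B M)) :
    (∀ x : M, u x = 0 → ∃ t : B, t ∉ Q ∧ t • x = 0) ∧
      Module.Flat R (LocalizedModule Q.primeCompl (N ⧸ LinearMap.range u)) := by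
  classical
  -- presentation of `B`
  let P := Algebra.Presentation.ofFinitePresentation R B
  -- presentation of `N`
  obtain ⟨n, m, f, g, hf, hfg⟩ := Module.FinitePresentation.exists_fin' B N
  have hsurj : ∀ (k : Fin m) (l : Fin n), ∃ w : MvPolynomial _ R,
      MvPolynomial.aeval P.val w = g (Pi.single k 1) l := fun k l => by
    obtain ⟨w, hw⟩ := P.algebraMap_surjective (g (Pi.single k 1) l)
    exact ⟨w, by rw [← hw, Algebra.Generators.algebraMap_apply]⟩
  choose w hw using hsurj
  let s : Set R := P.coeffs ∪ ⋃ k, ⋃ l, ((w k l).coeffs : Set R)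
  have hsfin : s.Finite := by
    refine Set.Finite.union P.finite_coeffs ?_
    exact Set.finite_iUnion fun k => Set.finite_iUnion fun l => Finset.finite_toSet _
  let A : Subalgebra ℤ R := Algebra.adjoin ℤ s
  haveI : P.HasCoeffs A := ⟨fun x hx => ⟨⟨x, Algebra.subset_adjoin (Or.inl hx)⟩, rfl⟩⟩
  haveI : Algebra.FiniteType ℤ A := Algebra.FiniteType.adjoin_of_finite hsfin
  haveI : IsNoetherianRing A := Algebra.FiniteType.isNoetherianRing ℤ A
  let S₁ := P.ModelOfHasCoeffs A
  letI : Algebra S₁ B := Groth.Agent.Helper21.FS.modelAlgebra P A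
  haveI : IsScalarTower A S₁ B := Groth.Agent.Helper21.FS.model_isScalarTower P A
  haveI : Algebra.IsPushout A R S₁ B := Groth.Agent.Helper21.FS.model_isPushout P A
  have hw' : ∀ k l, ∃ w' : MvPolynomial _ A, MvPolynomial.map (algebraMap A R) w' = w k l := by
    intro k l
    have : w k l ∈ Set.range (MvPolynomial.map (algebraMap A R)) := by
      rw [MvPolynomial.mem_range_map_iff_coeffs_subset]
      intro x hx
      exact ⟨⟨x, Algebra.subset_adjoin (Or.inr (Set.mem_iUnion₂.mpr ⟨k, l, hx⟩))⟩, rfl⟩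
    exact this
  choose w' hw' using hw'
  let c' : Fin m → Fin n → S₁ := fun k l => Ideal.Quotient.mk _ (w' k l)
  letI : Module S₁ N := Module.compHom N (algebraMap S₁ B)
  haveI : IsScalarTower S₁ B N := IsScalarTower.of_algebraMap_smul fun _ _ => rfl
  have hc : ∀ k l, algebraMap S₁ B (c' k l) = g (Pi.single k 1) l := by
    intro k l
    rw [Groth.Agent.Helper21.FS.modelAlgebra_mk, ← hw, ← hw', MvPolynomial.aeval_map_algebraMap]
  obtain ⟨h, hh⟩ := Groth.Agent.Helper21.FS.exists_isBaseChange_cokerModel c' f g hf hfg hc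
  haveI : Module.Finite S₁ (Groth.Agent.Helper21.FS.CokerModel c') := Module.Finite.quotient S₁ _
  obtain ⟨R₀, _, _, S₀, _, _, _, _, _, _, N₀, _, _, _, _, _, _, f₀, hR₀, hS₀, hN₀, hpo, hf₀,
    hflat⟩ := exists_stage_flat_at (R := R) A h hh Q
  haveI := hR₀
  haveI := hS₀
  haveI := hN₀
  haveI := hpo
  haveI := hflat
  -- descent of the map
  obtain ⟨R₂, _, _, S₂, _, _, _, _, _, _, M₂, _, _, _, _, N₂, _, _, _, _, _, _, fM, fN, u₂,
    hR₂, hS₂, hM₂, hpo₂, hfM, hfN, hcompat, hflat₂, -⟩ :=
    Groth.Agent.Helper7.MapDescent.exists_descent_map (A := R₀) (R := R) (S₁ := S₀) (S := B)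
      f₀ hf₀ u Q
  haveI := hR₂
  haveI := hS₂
  haveI := hM₂
  haveI := hpo₂
  haveI := hflat₂
  haveI : IsNoetherianRing R₂ := Algebra.FiniteType.isNoetherianRing ℤ R₂
  haveI : IsNoetherianRing S₂ := Algebra.FiniteType.isNoetherianRing R₂ S₂
  letI : Module R₂ M₂ := Module.compHom M₂ (algebraMap R₂ S₂)
  haveI : IsScalarTower R₂ S₂ M₂ := IsScalarTower.of_algebraMap_smul fun _ _ => rfl
  haveI hpp : (Q.comap (algebraMap R B)).IsPrime := Ideal.comap_isPrime _ _
  have hid : (Q.comap (algebraMap R B)).comap (algebraMap R₂ R) =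
      (Q.comap (algebraMap S₂ B)).comap (algebraMap R₂ S₂) := by
    rw [Ideal.comap_comap, Ideal.comap_comap, ← IsScalarTower.algebraMap_eq,
      ← IsScalarTower.algebraMap_eq]
  have hfib₂ := Groth.Agent.Helper7.FibInj.fibInj_descent (R₀ := R₂) (R := R) fM hfM fN u₂ u
    hcompat Q
    (Q.comap (algebraMap R B)) rfl hfib
  rw [hid] at hfib₂
  obtain ⟨hinj₂, hfl₂⟩ := Groth.Agent.Helper7.NoethStage.noeth_stage u₂
    (Q.comap (algebraMap S₂ B)) hfib₂
  haveI := hfl₂
  exact ⟨Groth.Agent.Helper7.InjFlatBC.locInj (R₀ := R₂) (R := R) fM hfM fN hfN u₂ u hcompat Q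
    hinj₂,
    Groth.Agent.Helper7.InjFlatBC.flat_coker (R₀ := R₂) (R := R) fM hfM fN hfN u₂ u hcompat Q⟩

end Groth.Agent.Helper7.InjFlatGlobal
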