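import Mathlib
import Groth.Prelude.Def_AnPts

/-!
# Basic facts on the space of ℂ-points with the complex topology (helper7)
-/

set_option autoImplicit false
open CategoryTheory AlgebraicGeometry Topology TopologicalSpace
open An

namespace Groth.Agent.Helper7.AnPts

theorem closedPoint_eq_cpt : IsLocalRing.closedPoint ℂ = An.cpt :=
  Subsingleton.elim (α := PrimeSpectrum ℂ) _ _

/-- a ℂ-point is determined by its underlying point -/
theorem pt_injective (X : Scheme.{0}) [X.Over An.SC] [LocallyOfFiniteType (X ↘ An.SC)] :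
    Function.Injective (An.Pts.pt : An.Pts X → X) := by
  intro x₁ x₂ h
  apply Subtype.ext
  refine ext_of_apply_closedPoint_eq (X ↘ An.SC) x₁.2 x₂.2 ?_
  rw [closedPoint_eq_cpt]
  exact h

/-- the underlying point of a ℂ-point is closed -/
theorem isClosed_singleton_pt {X : Scheme.{0}} [X.Over An.SC] [LocallyOfFiniteType (X ↘ An.SC)]
    (x : An.Pts X) : IsClosed ({x.pt} : Set X) := by
  have := (pointEquivClosedPoint (X ↘ An.SC) ⟨x.1, x.2⟩).2
  rw [mem_closedPoints_iff] at this
  convert this using 2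
  change x.1 An.cpt = x.1 (IsLocalRing.closedPoint ℂ)
  rw [closedPoint_eq_cpt]

/-- every closed point underlies a ℂ-point -/
theorem exists_pt_eq {X : Scheme.{0}} [X.Over An.SC] [LocallyOfFiniteType (X ↘ An.SC)]
    (p : X) (hp : IsClosed ({p} : Set X)) : ∃ x : An.Pts X, x.pt = p :=
  ⟨⟨pointOfClosedPoint (X ↘ An.SC) p hp, pointOfClosedPoint_comp _ p hp⟩,
    pointOfClosedPoint_apply _ p hp _⟩

theorem range_pt (X : Scheme.{0}) [X.Over An.SC] [LocallyOfFiniteType (X ↘ An.SC)] :
    Set.range (An.Pts.pt : An.Pts X → X) = closedPoints X := by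
  ext p
  constructor
  · rintro ⟨x, rfl⟩
    exact isClosed_singleton_pt x
  · intro hp
    exact exists_pt_eq p hp

instance jacobsonSpace (X : Scheme.{0}) [X.Over An.SC] [LocallyOfFiniteType (X ↘ An.SC)] :
    JacobsonSpace X := LocallyOfFiniteType.jacobsonSpace (X ↘ An.SC)

/-- a nonempty locally closed subset contains the underlying point of a ℂ-point -/
theorem exists_pt_mem {X : Scheme.{0}} [X.Over An.SC] [LocallyOfFiniteType (X ↘ An.SC)]
    {S : Set X} (hS : S.Nonempty) (hS' : IsLocallyClosed S) : ∃ x : An.Pts X, x.pt ∈ S := by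
  obtain ⟨p, hpS, hp⟩ := nonempty_inter_closedPoints hS hS'
  obtain ⟨x, rfl⟩ := exists_pt_eq p hp
  exact ⟨x, hpS⟩

end Groth.Agent.Helper7.AnPts
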