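import Mathlib
import Groth.Prelude.Def_AnPts
import Groth.Agent.Lib.Helper7.AnPts1

set_option autoImplicit false
open CategoryTheory AlgebraicGeometry Topology TopologicalSpace Opposite
open An

namespace Groth.Agent.Helper7.AnPts

variable {X : Scheme.{0}} [X.Over An.SC]

/-- evaluation at a ℂ-point as a ring homomorphism -/
noncomputable def evHom (x : An.Pts X) (U : X.Opens) (h : x.pt ∈ U) : Γ(X, U) →+* ℂ :=
  ((x.1.appLE U ⊤ (An.Pts.top_le_preimage x h)) ≫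
    (Scheme.ΓSpecIso (CommRingCat.of ℂ)).hom).hom

theorem ev_eq_evHom (x : An.Pts X) (U : X.Opens) (h : x.pt ∈ U) (f : Γ(X, U)) :
    x.ev U h f = evHom x U h f := rfl

theorem evHom_res (x : An.Pts X) {U W : X.Opens} (hWU : W ≤ U) (hW : x.pt ∈ W) (f : Γ(X, U)) :
    evHom x W hW (X.presheaf.map (homOfLE hWU).op f) = evHom x U (hWU hW) f := by
  have := Scheme.Hom.map_appLE x.1 (An.Pts.top_le_preimage x hW) (homOfLE hWU).op
  have h2 := congrArg (fun g => (Scheme.ΓSpecIso (CommRingCat.of ℂ)).hom.hom (g.hom f)) this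
  exact h2

/-- the structure map `ℂ → Γ(X, U)` -/
noncomputable def strU (U : X.Opens) : ℂ →+* Γ(X, U) :=
  ((Scheme.ΓSpecIso (CommRingCat.of ℂ)).inv ≫ (X ↘ An.SC).appLE ⊤ U le_top).hom

theorem appLE_top_of_eq_id {Y : Scheme.{0}} (g : Y ⟶ Y) (hg : g = 𝟙 Y) (e : (⊤ : Y.Opens) ≤ g ⁻¹ᵁ ⊤) :
    g.appLE ⊤ ⊤ e = 𝟙 _ := by
  subst hg
  simp [Scheme.Hom.appLE]

theorem evHom_strU (x : An.Pts X) (U : X.Opens) (h : x.pt ∈ U) (c : ℂ) :
    evHom x U h (strU U c) = c := by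
  have h1 := Scheme.Hom.appLE_comp_appLE x.1 (X ↘ An.SC) ⊤ U ⊤ le_top
    (An.Pts.top_le_preimage x h)
  rw [appLE_top_of_eq_id _ x.2] at h1
  have h2 := congrArg (fun g => (Scheme.ΓSpecIso (CommRingCat.of ℂ)).hom.hom
    (g.hom ((Scheme.ΓSpecIso (CommRingCat.of ℂ)).inv.hom c))) h1
  simp only [CommRingCat.hom_id, RingHom.id_apply] at h2
  refine h2.trans ?_
  exact congrArg (fun g => g.hom c) (Scheme.ΓSpecIso (CommRingCat.of ℂ)).inv_hom_id

theorem pt_mem_basicOpen_iff (x : An.Pts X) (U : X.Opens) (h : x.pt ∈ U) (g : Γ(X, U)) :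
    x.pt ∈ X.basicOpen g ↔ evHom x U h g ≠ 0 := by
  have h1 : x.pt ∈ X.basicOpen g ↔ An.cpt ∈ x.1 ⁻¹ᵁ X.basicOpen g := Iff.rfl
  rw [h1, Scheme.Hom.preimage_basicOpen]
  have h2 : An.SC.basicOpen (x.1.appLE U ⊤ (An.Pts.top_le_preimage x h) g) =
      An.SC.basicOpen (x.1.app U g) := by
    have : x.1.appLE U ⊤ (An.Pts.top_le_preimage x h) g =
        An.SC.presheaf.map (homOfLE (An.Pts.top_le_preimage x h)).op (x.1.app U g) := rfl
    rw [this, Scheme.basicOpen_res, top_inf_eq]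
  rw [← h2, basicOpen_eq_of_affine']
  change evHom x U h g ∉ (⊥ : Ideal ℂ) ↔ _
  rw [Ideal.mem_bot]

/-- the ℂ-points lying over an open -/
def ptsIn (U : X.Opens) : Set (An.Pts X) := An.Pts.pt ⁻¹' (U : Set X)

theorem isOpen_ptsIn (U : X.Opens) : IsOpen (ptsIn U) := An.Pts.isOpen_preimage_pt U

theorem mem_ptsIn {U : X.Opens} {x : An.Pts X} : x ∈ ptsIn U ↔ x.pt ∈ U := Iff.rfl

/-- the evaluation map on the points over `U` -/
noncomputable def evU (U : X.Opens) : ptsIn U → (Γ(X, U) → ℂ) := fun y a => evHom y.1 U y.2 a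

theorem continuous_evU (U : X.Opens) : Continuous (evU U) := by
  refine continuous_pi fun a => ?_
  refine continuous_def.2 fun V hV => ?_
  have : (fun y : ptsIn U => evU U y a) ⁻¹' V = Subtype.val ⁻¹' (An.Pts.basicSet U a V) := by
    ext y
    constructor
    · intro hy
      exact ⟨y.2, hy⟩
    · rintro ⟨_, hy⟩
      exact hy
  rw [this]
  exact (An.Pts.isOpen_basicSet U a hV).preimage continuous_subtype_val

theorem isOpen_quot_set (n : ℕ) {V : Set ℂ} (hV : IsOpen V) :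
    IsOpen {p : ℂ × ℂ | p.1 ≠ 0 ∧ p.2 / p.1 ^ n ∈ V} := by
  have h1 : IsOpen {p : ℂ × ℂ | p.1 ≠ 0} := isOpen_ne_fun continuous_fst continuous_const
  have h2 : ContinuousOn (fun p : ℂ × ℂ => p.2 / p.1 ^ n) {p : ℂ × ℂ | p.1 ≠ 0} := by
    refine ContinuousOn.div continuous_snd.continuousOn (continuous_fst.pow n).continuousOn ?_
    intro p hp
    exact pow_ne_zero n hp
  exact h2.isOpen_inter_preimage h1 hV

theorem isInducing_evU {U : X.Opens} (hU : IsAffineOpen U) : IsInducing (evU U) := by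
  refine ⟨le_antisymm (continuous_iff_le_induced.1 (continuous_evU U)) ?_⟩
  change _ ≤ induced Subtype.val (generateFrom _)
  rw [induced_generateFrom_eq]
  refine le_generateFrom ?_
  rintro _ ⟨_, ⟨W, f, V, hV, rfl⟩, rfl⟩
  refine (@isOpen_iff_forall_mem_open _ (induced (evU U) Pi.topologicalSpace) _).2 ?_
  rintro y ⟨hyW, hyV⟩
  -- a basic open around `y.pt` inside `W ⊓ U`
  obtain ⟨g, hgWU, hyg⟩ := hU.exists_basicOpen_le (V := W ⊓ U) ⟨y.1.pt, hyW, y.2⟩ y.2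
  have hgW : X.basicOpen g ≤ W := hgWU.trans inf_le_left
  have hgU : X.basicOpen g ≤ U := X.basicOpen_le g
  have hloc := hU.isLocalization_basicOpen g
  obtain ⟨n, a, hna⟩ := IsLocalization.Away.surj g (X.presheaf.map (homOfLE hgW).op f)
  -- the formula for `f` on points over `D(g)`
  have key : ∀ (z : An.Pts X) (hzU : z.pt ∈ U), evHom z U hzU g ≠ 0 →
      ∃ hzW : z.pt ∈ W, evHom z W hzW f = evHom z U hzU a / evHom z U hzU g ^ n := by
    intro z hzU hz
    have hzg : z.pt ∈ X.basicOpen g := (pt_mem_basicOpen_iff z U hzU g).2 hz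
    refine ⟨hgW hzg, ?_⟩
    have e1 := congrArg (evHom z (X.basicOpen g) hzg) hna
    rw [map_mul, map_pow] at e1
    have e2 : evHom z (X.basicOpen g) hzg (algebraMap Γ(X, U) Γ(X, X.basicOpen g) g) =
        evHom z U hzU g := evHom_res z hgU hzg g
    have e3 : evHom z (X.basicOpen g) hzg (algebraMap Γ(X, U) Γ(X, X.basicOpen g) a) =
        evHom z U hzU a := evHom_res z hgU hzg a
    rw [e2, e3, evHom_res z hgW hzg f] at e1
    rw [← e1, mul_div_assoc, div_self (pow_ne_zero n hz), mul_one]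
  let O : Set (Γ(X, U) → ℂ) := {φ | φ g ≠ 0 ∧ φ a / φ g ^ n ∈ V}
  have hO : IsOpen O := by
    have hc : Continuous (fun φ : Γ(X, U) → ℂ => (φ g, φ a)) :=
      (continuous_apply g).prodMk (continuous_apply a)
    exact (isOpen_quot_set n hV).preimage hc
  refine ⟨evU U ⁻¹' O, ?_, isOpen_induced_iff.2 ⟨O, hO, rfl⟩, ?_⟩
  · rintro z ⟨hz1, hz2⟩
    obtain ⟨hzW, hzf⟩ := key z.1 z.2 hz1
    refine ⟨hzW, ?_⟩
    rw [ev_eq_evHom, hzf]
    exact hz2
  · have hyg' : evHom y.1 U y.2 g ≠ 0 := (pt_mem_basicOpen_iff y.1 U y.2 g).1 hyg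
    obtain ⟨hyW', hyf⟩ := key y.1 y.2 hyg'
    refine ⟨hyg', ?_⟩
    change evHom y.1 U y.2 a / evHom y.1 U y.2 g ^ n ∈ V
    rw [← hyf]
    exact hyV

end Groth.Agent.Helper7.AnPts
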