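import Mathlib
import Groth.Prelude.Def_AnPts
import Groth.Agent.Lib.Helper7.AnPts2

set_option autoImplicit false
open CategoryTheory AlgebraicGeometry Topology TopologicalSpace Opposite
open An

namespace Groth.Agent.Helper7.AnPts

variable {X : Scheme.{0}} [X.Over An.SC]

theorem fromSpec_top_SC :
    (isAffineOpen_top An.SC).fromSpec = Spec.map (Scheme.ΓSpecIso (CommRingCat.of ℂ)).inv := by
  rw [IsAffineOpen.fromSpec_top, Scheme.isoSpec_Spec_inv]

/-- a ℂ-point over an affine open is recovered from its evaluation homomorphism -/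
theorem eq_SpecMap_evHom (y : An.Pts X) {U : X.Opens} (hU : IsAffineOpen U) (h : y.pt ∈ U) :
    y.1 = Spec.map (CommRingCat.ofHom (evHom y U h)) ≫ hU.fromSpec := by
  have h1 := IsAffineOpen.SpecMap_appLE_fromSpec y.1 hU (isAffineOpen_top An.SC)
    (An.Pts.top_le_preimage y h)
  rw [fromSpec_top_SC] at h1
  have h2 : Spec.map (CommRingCat.ofHom (evHom y U h)) =
      Spec.map (Scheme.ΓSpecIso (CommRingCat.of ℂ)).hom ≫
        Spec.map (y.1.appLE U ⊤ (An.Pts.top_le_preimage y h)) := by
    rw [← Spec.map_comp]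
    rfl
  rw [h2, Category.assoc, h1, ← Category.assoc, ← Spec.map_comp, Iso.inv_hom_id, Spec.map_id,
    Category.id_comp]

theorem ext_of_evHom {y y' : An.Pts X} {U : X.Opens} (hU : IsAffineOpen U) (h : y.pt ∈ U)
    (h' : y'.pt ∈ U) (H : evHom y U h = evHom y' U h') : y = y' := by
  apply Subtype.ext
  rw [eq_SpecMap_evHom y hU h, eq_SpecMap_evHom y' hU h', H]

theorem fromSpec_comp_over {U : X.Opens} (hU : IsAffineOpen U) :
    hU.fromSpec ≫ (X ↘ An.SC) = Spec.map (CommRingCat.ofHom (strU U)) := by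
  have h1 := IsAffineOpen.SpecMap_appLE_fromSpec (X ↘ An.SC) (isAffineOpen_top An.SC) hU le_top
  rw [fromSpec_top_SC] at h1
  rw [← h1, ← Spec.map_comp]
  rfl

/-- construct a ℂ-point over an affine open from a ℂ-algebra homomorphism -/
theorem exists_evHom_eq {U : X.Opens} (hU : IsAffineOpen U) (φ : Γ(X, U) →+* ℂ)
    (hφ : φ.comp (strU U) = RingHom.id ℂ) :
    ∃ (y : An.Pts X) (h : y.pt ∈ U), evHom y U h = φ := by
  have hsec : (Spec.map (CommRingCat.ofHom φ) ≫ hU.fromSpec) ≫ (X ↘ An.SC) = 𝟙 An.SC := by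
    rw [Category.assoc, fromSpec_comp_over, ← Spec.map_comp, ← CommRingCat.ofHom_comp, hφ]
    exact Spec.map_id _
  let y : An.Pts X := ⟨Spec.map (CommRingCat.ofHom φ) ≫ hU.fromSpec, hsec⟩
  have hy : y.pt ∈ U := by
    have : y.pt ∈ Set.range hU.fromSpec := by
      change (Spec.map (CommRingCat.ofHom φ) ≫ hU.fromSpec) An.cpt ∈ _
      rw [Scheme.Hom.comp_apply]
      exact ⟨_, rfl⟩
    rw [hU.range_fromSpec] at this
    exact this
  refine ⟨y, hy, ?_⟩
  have h1 := eq_SpecMap_evHom y hU hy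
  change Spec.map (CommRingCat.ofHom φ) ≫ hU.fromSpec = _ at h1
  rw [cancel_mono] at h1
  have h2 := Spec.map_injective h1
  exact (congrArg CommRingCat.Hom.hom h2).symm

theorem evHom_eval₂Hom (y : An.Pts X) {U : X.Opens} (h : y.pt ∈ U) {n : ℕ}
    (s : Fin n → Γ(X, U)) (P : MvPolynomial (Fin n) ℂ) :
    evHom y U h (MvPolynomial.eval₂Hom (strU U) s P) =
      MvPolynomial.eval (fun i => evHom y U h (s i)) P := by
  have hc : (evHom y U h).comp (strU U) = RingHom.id ℂ := by
    ext c
    exact evHom_strU y U h c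
  change evHom y U h (MvPolynomial.eval₂ (strU U) s P) = _
  rw [MvPolynomial.hom_eval₂, hc]
  rfl

/-- the coordinates attached to generators over an affine open -/
noncomputable def evS (U : X.Opens) {n : ℕ} (s : Fin n → Γ(X, U)) : ptsIn U → (Fin n → ℂ) :=
  fun y i => evHom y.1 U y.2 (s i)

theorem continuous_evS (U : X.Opens) {n : ℕ} (s : Fin n → Γ(X, U)) : Continuous (evS U s) :=
  continuous_pi fun i => (continuous_apply (s i)).comp (continuous_evU U)

theorem range_evS {U : X.Opens} (hU : IsAffineOpen U) {n : ℕ} (s : Fin n → Γ(X, U))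
    (hs : Function.Surjective (MvPolynomial.eval₂Hom (strU U) s)) :
    Set.range (evS U s) =
      {c | ∀ P ∈ RingHom.ker (MvPolynomial.eval₂Hom (strU U) s), MvPolynomial.eval c P = 0} := by
  ext c
  constructor
  · rintro ⟨y, rfl⟩ P hP
    have := evHom_eval₂Hom y.1 y.2 s P
    rw [RingHom.mem_ker.1 hP, map_zero] at this
    exact this.symm
  · intro hc
    let φ : Γ(X, U) →+* ℂ := RingHom.liftOfSurjective (MvPolynomial.eval₂Hom (strU U) s) hs
      ⟨MvPolynomial.eval c, fun P hP => RingHom.mem_ker.2 (hc P hP)⟩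
    have hφ : ∀ P, φ (MvPolynomial.eval₂Hom (strU U) s P) = MvPolynomial.eval c P := fun P =>
      RingHom.liftOfRightInverse_comp_apply _ _ _ _ P
    have hφ1 : φ.comp (strU U) = RingHom.id ℂ := by
      ext a
      have := hφ (MvPolynomial.C a)
      simpa using this
    obtain ⟨y, hy, hyφ⟩ := exists_evHom_eq hU φ hφ1
    refine ⟨⟨y, hy⟩, ?_⟩
    ext i
    change evHom y U hy (s i) = c i
    rw [hyφ]
    have := hφ (MvPolynomial.X i)
    simpa using this

theorem isClosedEmbedding_evS {U : X.Opens} (hU : IsAffineOpen U) {n : ℕ} (s : Fin n → Γ(X, U))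
    (hs : Function.Surjective (MvPolynomial.eval₂Hom (strU U) s)) :
    IsClosedEmbedding (evS U s) := by
  let P : Γ(X, U) → MvPolynomial (Fin n) ℂ := Function.surjInv hs
  have hP : ∀ a, MvPolynomial.eval₂Hom (strU U) s (P a) = a := Function.surjInv_eq hs
  let Ψ : (Fin n → ℂ) → (Γ(X, U) → ℂ) := fun c a => MvPolynomial.eval c (P a)
  have hΨ : Continuous Ψ := continuous_pi fun a => MvPolynomial.continuous_eval (P a)
  have hcomp : Ψ ∘ evS U s = evU U := by
    ext y a
    change MvPolynomial.eval (fun i => evHom y.1 U y.2 (s i)) (P a) = evHom y.1 U y.2 a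
    rw [← evHom_eval₂Hom, hP]
  have hind : IsInducing (evS U s) := by
    refine IsInducing.of_comp (continuous_evS U s) hΨ ?_
    rw [hcomp]
    exact isInducing_evU hU
  have hinj : Function.Injective (evS U s) := by
    intro y y' hyy'
    apply Subtype.ext
    refine ext_of_evHom hU y.2 y'.2 ?_
    ext a
    have : Ψ (evS U s y) a = Ψ (evS U s y') a := by rw [hyy']
    have e1 : Ψ (evS U s y) a = evU U y a := congrFun (congrFun hcomp y) a
    have e2 : Ψ (evS U s y') a = evU U y' a := congrFun (congrFun hcomp y') a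
    rw [e1, e2] at this
    exact this
  refine ⟨⟨hind, hinj⟩, ?_⟩
  rw [range_evS hU s hs]
  have : {c : Fin n → ℂ | ∀ P ∈ RingHom.ker (MvPolynomial.eval₂Hom (strU U) s),
      MvPolynomial.eval c P = 0} =
      ⋂ P ∈ RingHom.ker (MvPolynomial.eval₂Hom (strU U) s),
        {c : Fin n → ℂ | MvPolynomial.eval c P = 0} := by
    ext c
    simp
  rw [this]
  exact isClosed_biInter fun P _ => isClosed_eq (MvPolynomial.continuous_eval P) continuous_const

theorem strU_top : strU (⊤ : X.Opens) = An.strHom X := by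
  have h : (X ↘ An.SC).appLE ⊤ ⊤ le_top = (X ↘ An.SC).appTop := by
    rw [Scheme.Hom.appTop, Scheme.Hom.app_eq_appLE]
    rfl
  unfold strU An.strHom
  rw [h]
  rfl

/-- the canonical identification of all points with the points over `⊤` -/
theorem isClosedEmbedding_toTop :
    IsClosedEmbedding (fun x : An.Pts X => (⟨x, trivial⟩ : ptsIn (⊤ : X.Opens))) := by
  refine ⟨IsEmbedding.id.codRestrict (ptsIn (⊤ : X.Opens)) (fun _ => trivial), ?_⟩
  have : Set.range (fun x : An.Pts X => (⟨x, trivial⟩ : ptsIn (⊤ : X.Opens))) = Set.univ := by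
    rw [Set.range_eq_univ]
    rintro ⟨x, hx⟩
    exact ⟨x, rfl⟩
  rw [this]
  exact isClosed_univ

theorem isClosedEmbedding_evTop [IsAffine X] (n : ℕ) (s : Fin n → Γ(X, ⊤))
    (hs : Function.Surjective (MvPolynomial.eval₂Hom (An.strHom X) s)) :
    Topology.IsClosedEmbedding (fun (x : An.Pts X) (i : Fin n) => x.evTop (s i)) := by
  rw [← strU_top] at hs
  have h1 := (isClosedEmbedding_evS (isAffineOpen_top X) s hs).comp
    (isClosedEmbedding_toTop (X := X))
  have h2 : (fun (x : An.Pts X) (i : Fin n) => x.evTop (s i)) =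
      evS ⊤ s ∘ (fun x : An.Pts X => (⟨x, trivial⟩ : ptsIn (⊤ : X.Opens))) := by
    funext x i
    exact ev_eq_evHom x ⊤ trivial (s i)
  rw [h2]
  exact h1

end Groth.Agent.Helper7.AnPts
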