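import Mathlib
import Groth.Prelude.Def_AnPts
import Groth.Agent.Lib.Helper7.AnPts3

set_option autoImplicit false
open CategoryTheory AlgebraicGeometry Topology TopologicalSpace Opposite
open An

namespace Groth.Agent.Helper7.AnPts

variable {X : Scheme.{0}} [X.Over An.SC]

theorem range_evTop [IsAffine X] (n : ℕ) (s : Fin n → Γ(X, ⊤))
    (hs : Function.Surjective (MvPolynomial.eval₂Hom (An.strHom X) s)) :
    Set.range (fun (x : An.Pts X) (i : Fin n) => x.evTop (s i)) =
      {c | ∀ P ∈ RingHom.ker (MvPolynomial.eval₂Hom (An.strHom X) s), MvPolynomial.eval c P = 0} := by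
  rw [← strU_top] at hs ⊢
  rw [← range_evS (isAffineOpen_top X) s hs]
  have h2 : (fun (x : An.Pts X) (i : Fin n) => x.evTop (s i)) =
      evS ⊤ s ∘ (fun x : An.Pts X => (⟨x, trivial⟩ : ptsIn (⊤ : X.Opens))) := by
    funext x i
    exact ev_eq_evHom x ⊤ trivial (s i)
  rw [h2, Set.range_comp]
  have : Set.range (fun x : An.Pts X => (⟨x, trivial⟩ : ptsIn (⊤ : X.Opens))) = Set.univ := by
    rw [Set.range_eq_univ]
    rintro ⟨x, hx⟩
    exact ⟨x, rfl⟩
  rw [this, Set.image_univ]

theorem bijective_eval₂Hom_coord (n : ℕ) :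
    Function.Bijective (MvPolynomial.eval₂Hom (An.strHom (𝔸(Fin n; An.SC))) (AffineSpace.coord An.SC)) := by
  have h1 : Function.Bijective (MvPolynomial.eval₂Hom ((𝔸(Fin n; An.SC) ↘ An.SC).appTop).hom
      (AffineSpace.coord An.SC)) := by
    have h := AffineSpace.isoOfIsAffine_hom_appTop (n := Fin n) An.SC
    have hiso : IsIso (CommRingCat.ofHom (MvPolynomial.eval₂Hom ((𝔸(Fin n; An.SC) ↘ An.SC).appTop).hom
      (AffineSpace.coord An.SC))) := by
      have : CommRingCat.ofHom (MvPolynomial.eval₂Hom ((𝔸(Fin n; An.SC) ↘ An.SC).appTop).hom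
          (AffineSpace.coord An.SC)) = (Scheme.ΓSpecIso _).inv ≫ (AffineSpace.isoOfIsAffine (Fin n) An.SC).hom.appTop := by
        rw [h, Iso.inv_hom_id_assoc]
      rw [this]
      have : IsIso (AffineSpace.isoOfIsAffine (Fin n) An.SC).hom.appTop :=
        Scheme.Hom.instIsIsoCommRingCatApp (AffineSpace.isoOfIsAffine (Fin n) An.SC).hom ⊤
      infer_instance
    exact ConcreteCategory.bijective_of_isIso (CommRingCat.ofHom (MvPolynomial.eval₂Hom ((𝔸(Fin n; An.SC) ↘ An.SC).appTop).hom
      (AffineSpace.coord An.SC)))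
  have h2 : MvPolynomial.eval₂Hom (An.strHom (𝔸(Fin n; An.SC))) (AffineSpace.coord An.SC) =
      (MvPolynomial.eval₂Hom ((𝔸(Fin n; An.SC) ↘ An.SC).appTop).hom
      (AffineSpace.coord An.SC)).comp (MvPolynomial.map (Scheme.ΓSpecIso (CommRingCat.of ℂ)).inv.hom) := by
    apply MvPolynomial.ringHom_ext
    · intro c
      simp [An.strHom]
    · intro i
      simp
  rw [h2]
  refine h1.comp ?_
  have h3 : Function.Bijective (Scheme.ΓSpecIso (CommRingCat.of ℂ)).inv.hom :=
    ConcreteCategory.bijective_of_isIso _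
  exact ⟨MvPolynomial.map_injective _ h3.1, MvPolynomial.map_surjective _ h3.2⟩

theorem isHomeomorph_affineSpace (n : ℕ) :
    IsHomeomorph (fun (x : An.Pts (𝔸(Fin n; An.SC))) (i : Fin n) =>
      x.evTop (AffineSpace.coord An.SC i)) := by
  have hb := bijective_eval₂Hom_coord n
  have hce := isClosedEmbedding_evTop (X := 𝔸(Fin n; An.SC)) n (AffineSpace.coord An.SC) hb.2
  have hr := range_evTop (X := 𝔸(Fin n; An.SC)) n (AffineSpace.coord An.SC) hb.2
  have hsurj : Function.Surjective (fun (x : An.Pts (𝔸(Fin n; An.SC))) (i : Fin n) =>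
      x.evTop (AffineSpace.coord An.SC i)) := by
    rw [← Set.range_eq_univ, hr]
    ext c
    simp only [Set.mem_ofPred_eq, Set.mem_univ, iff_true]
    intro P hP
    have : P = 0 := hb.1 (by rw [RingHom.mem_ker.1 hP, map_zero])
    rw [this, map_zero]
  exact (hce.isEmbedding.toHomeomorphOfSurjective hsurj).isHomeomorph

end Groth.Agent.Helper7.AnPts
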