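import Mathlib
import Groth.Prelude.Def_ProCons
import Groth.Agent.Lib.Helper7.ProCons2
import Groth.Agent.Lib.Helper7.LimCons2
universe u
open AlgebraicGeometry CategoryTheory Topology TopologicalSpace

namespace Groth.Agent.Helper7.LimBC
open Groth.Agent.Helper7.ProCons1 Groth.Agent.Helper7.ProCons2 CategoryTheory.Limits

variable {I : Type u} [Category.{u} I] (D : I ⥤ Scheme.{u}) (c : Cone D) (hc : IsLimit c)

set_option backward.isDefEq.respectTransparency false in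
include hc in
/-- emptiness descent for a compatible family of `CC` sets, one affine open piece -/
theorem exists_over_preimage_inter_eq_empty_of_CC [IsCofiltered I]
    [∀ {i j} (f : i ⟶ j), IsAffineHom (D.map f)] (i₀ : I)
    (G : ∀ i, Set (D.obj i)) (hG : ∀ i, CC (G i))
    (hGm : ∀ (i j : I) (φ : i ⟶ j), G i ⊆ D.map φ ⁻¹' G j)
    (U : (D.obj i₀).Opens) (hU : IsAffineOpen U)
    (hem : (⋂ i, ⇑(c.π.app i) ⁻¹' G i : Set c.pt) = ∅) :
    ∃ k : Over i₀, ∀ (l : Over i₀) (_ : l ⟶ k),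
      (⇑(c.π.app l.left) ⁻¹' G l.left ∩ ((c.π.app i₀ ⁻¹ᵁ U : c.pt.Opens) : Set c.pt) : Set c.pt) = ∅ := by
  let E := opensDiagram D i₀ U
  let cE := opensCone D c i₀ U
  have haffE : ∀ k, IsAffine (E.obj k) := fun k => hU.preimage (D.map k.hom)
  have := isAffineHom_π_app D c hc i₀
  have haffpt : IsAffine cE.pt := hU.preimage (c.π.app i₀)
  have hcomp : ∀ k : Over i₀,
      cE.π.app k ≫ (D.map k.hom ⁻¹ᵁ U).ι = (c.π.app i₀ ⁻¹ᵁ U).ι ≫ c.π.app k.left := by
    intro k; simp [cE]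
  let H : Over i₀ → Set cE.pt := fun k => cE.π.app k ⁻¹' ((D.map k.hom ⁻¹ᵁ U).ι ⁻¹' G k.left)
  have hH : ∀ k, IsClosed[constructibleTopology cE.pt] (H k) := fun k =>
    isClosed_preimage_of_isAffine (V' := cE.pt) (V := E.obj k) (cE.π.app k)
      (hG k.left (E.obj k) (D.map k.hom ⁻¹ᵁ U).ι)
  have hHmem : ∀ (k : Over i₀) (x : cE.pt),
      x ∈ H k ↔ c.π.app k.left ((c.π.app i₀ ⁻¹ᵁ U).ι x) ∈ G k.left := by
    intro k x
    change (cE.π.app k ≫ (D.map k.hom ⁻¹ᵁ U).ι) x ∈ G k.left ↔ _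
    rw [hcomp k]
    rfl
  have hHem : ⋂ k, H k = ∅ := by
    rw [Set.eq_empty_iff_forall_notMem]
    intro x hx
    rw [Set.mem_iInter] at hx
    have : (c.π.app i₀ ⁻¹ᵁ U).ι x ∈ (⋂ i, ⇑(c.π.app i) ⁻¹' G i : Set c.pt) := by
      rw [Set.mem_iInter]
      intro i
      let k : Over i₀ := Over.mk (IsCofiltered.minToLeft i₀ i)
      have h1 := hGm _ _ (IsCofiltered.minToRight i₀ i) ((hHmem k x).1 (hx k))
      change (c.π.app (IsCofiltered.min i₀ i) ≫ D.map (IsCofiltered.minToRight i₀ i)) _ ∈ G i at h1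
      rw [c.w] at h1
      exact h1
    rw [hem] at this
    exact this
  obtain ⟨s, hs⟩ := exists_finset_biInter_eq_empty (W := cE.pt) H hH hHem
  obtain ⟨k, hk⟩ := IsCofiltered.inf_objs_exists s
  refine ⟨k, fun l ψ => ?_⟩
  rw [Set.eq_empty_iff_forall_notMem]
  rintro x ⟨hx1, hx2⟩
  let x' : cE.pt := ⟨x, hx2⟩
  have : x' ∈ ⋂ k ∈ s, H k := by
    rw [Set.mem_iInter₂]
    intro m hm
    obtain ⟨ψ'⟩ := hk hm
    rw [hHmem]
    have h1 := hGm _ _ (ψ ≫ ψ').left hx1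
    change (c.π.app l.left ≫ D.map (ψ ≫ ψ').left) x ∈ G m.left at h1
    rw [c.w] at h1
    exact h1
  rw [hs] at this
  exact this

include hc in
/-- **emptiness descent** for a compatible family of `CC` (pro-constructible) subsets -/
theorem exists_eq_empty_of_CC [IsCofiltered I]
    [∀ {i j} (f : i ⟶ j), IsAffineHom (D.map f)] (i₀ : I) [CompactSpace (D.obj i₀)]
    (G : ∀ i, Set (D.obj i)) (hG : ∀ i, CC (G i))
    (hGm : ∀ (i j : I) (φ : i ⟶ j), G i ⊆ D.map φ ⁻¹' G j)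
    (hem : (⋂ i, ⇑(c.π.app i) ⁻¹' G i : Set c.pt) = ∅) :
    ∃ (l : I) (_ : l ⟶ i₀), G l = ∅ := by
  let 𝒰 := (D.obj i₀).affineCover.finiteSubcover
  have hfin : Finite 𝒰.I₀ := inferInstance
  have key : ∀ a : 𝒰.I₀, ∃ k : Over i₀, ∀ (l : Over i₀) (_ : l ⟶ k),
      (⇑(c.π.app l.left) ⁻¹' G l.left ∩ ((c.π.app i₀ ⁻¹ᵁ (𝒰.f a).opensRange : c.pt.Opens) : Set c.pt) : Set c.pt) = ∅ := by
    intro a
    have : IsAffine (𝒰.X a) := by dsimp [𝒰]; infer_instance
    exact exists_over_preimage_inter_eq_empty_of_CC D c hc i₀ G hG hGm _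
      (isAffineOpen_opensRange (𝒰.f a)) hem
  choose k hk using key
  classical
  have : Fintype 𝒰.I₀ := Fintype.ofFinite _
  obtain ⟨m, hm⟩ := IsCofiltered.inf_objs_exists (Finset.univ.image k)
  have hmem : (⇑(c.π.app m.left) ⁻¹' G m.left : Set c.pt) = ∅ := by
    rw [Set.eq_empty_iff_forall_notMem]
    intro x hx
    obtain ⟨a, ha⟩ : ∃ a, c.π.app i₀ x ∈ (𝒰.f a).opensRange := by
      have : c.π.app i₀ x ∈ (⋃ a, ((𝒰.f a).opensRange : Set (D.obj i₀))) := by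
        rw [show (⋃ a, ((𝒰.f a).opensRange : Set (D.obj i₀))) = Set.univ from 𝒰.iUnion_range]
        trivial
      simpa using this
    obtain ⟨ψ⟩ := hm (Finset.mem_image_of_mem k (Finset.mem_univ a))
    have := hk a m ψ
    rw [Set.eq_empty_iff_forall_notMem] at this
    exact this x ⟨hx, ha⟩
  have : CompactSpace (D.obj m.left) := compactSpace_of_hom D m.hom
  obtain ⟨j, φ, hj⟩ := exists_preimage_eq_empty_of_CC D c hc m.left _ (hG _) hmem
  refine ⟨j, φ ≫ m.hom, ?_⟩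
  rw [Set.eq_empty_iff_forall_notMem]
  intro y hy
  have := hGm _ _ φ hy
  rw [hj] at this
  exact this

end Groth.Agent.Helper7.LimBC
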