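import Mathlib
open AlgebraicGeometry CategoryTheory TopologicalSpace Opposite
universe u
namespace Groth.Agent.Helper7

set_option backward.isDefEq.respectTransparency.types false in
theorem spread_out_unique_of_locallyOfFiniteType
    {X Y S : Scheme.{u}} (sX : X ⟶ S) (sY : Y ⟶ S) [LocallyOfFiniteType sY]
    (f g : X ⟶ Y) (hf : f ≫ sY = sX) (hg : g ≫ sY = sX) {x : X} (e : f x = g x)
    (H : f.stalkMap x =
      Y.presheaf.stalkSpecializes (Inseparable.of_eq e.symm).specializes ≫ g.stalkMap x) :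
    ∃ U : X.Opens, x ∈ U ∧ U.ι ≫ f = U.ι ≫ g := by
  obtain ⟨_, ⟨W : S.Opens, hW, rfl⟩, hxW, -⟩ :=
    S.isBasis_affineOpens.exists_subset_of_mem_open (Set.mem_univ (sY (f x))) isOpen_univ
  obtain ⟨_, ⟨V : Y.Opens, hV, rfl⟩, hxV, hVW⟩ :=
    Y.isBasis_affineOpens.exists_subset_of_mem_open (show f x ∈ sY ⁻¹ᵁ W from hxW)
      (sY ⁻¹ᵁ W).isOpen
  have hxV' : g x ∈ V := e ▸ hxV
  have hft : (sY.appLE W V hVW).hom.FiniteType := sY.finiteType_appLE hW hV hVW
  -- key: germs agree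
  have key : ∀ (U : X.Opens) (hxU : x ∈ U) (hUf : U ≤ f ⁻¹ᵁ V) (hUg : U ≤ g ⁻¹ᵁ V),
      f.appLE V U hUf ≫ X.presheaf.germ U x hxU = g.appLE V U hUg ≫ X.presheaf.germ U x hxU := by
    intro U hxU hUf hUg
    simp only [Scheme.Hom.appLE, Category.assoc, X.presheaf.germ_res', ← Scheme.Hom.germ_stalkMap, H]
    simp only [TopCat.Presheaf.germ_stalkSpecializes_assoc, Scheme.Hom.germ_stalkMap]
  -- finite sets of sections
  have fin : ∀ t : Finset Γ(Y, V), ∃ (U : X.Opens) (_ : x ∈ U) (hUf : U ≤ f ⁻¹ᵁ V)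
      (hUg : U ≤ g ⁻¹ᵁ V), ∀ b ∈ t, f.appLE V U hUf b = g.appLE V U hUg b := by
    intro t
    classical
    induction t using Finset.induction_on with
    | empty =>
      exact ⟨f ⁻¹ᵁ V ⊓ g ⁻¹ᵁ V, ⟨hxV, hxV'⟩, inf_le_left, inf_le_right, by simp⟩
    | insert b t _ ih =>
      obtain ⟨U, hxU, hUf, hUg, hU⟩ := ih
      have h1 : X.presheaf.germ U x hxU (f.appLE V U hUf b) =
          X.presheaf.germ U x hxU (g.appLE V U hUg b) := by
        have := key U hxU hUf hUg
        exact congr($this b)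
      obtain ⟨U', hxU', i1, i2, h2⟩ := X.presheaf.germ_eq x hxU hxU _ _ h1
      refine ⟨U', hxU', i1.le.trans hUf, i1.le.trans hUg, ?_⟩
      intro c hc
      rw [Finset.mem_insert] at hc
      have e1 : ∀ c, f.appLE V U' (i1.le.trans hUf) c = X.presheaf.map i1.op (f.appLE V U hUf c) := by
        intro c
        rw [← Scheme.Hom.appLE_map f hUf i1.op]
        rfl
      have e2 : ∀ c, g.appLE V U' (i1.le.trans hUg) c = X.presheaf.map i1.op (g.appLE V U hUg c) := by
        intro c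
        rw [← Scheme.Hom.appLE_map g hUg i1.op]
        rfl
      rw [e1, e2]
      rcases hc with rfl | hc
      · have : i2 = i1 := Subsingleton.elim _ _
        rw [this] at h2
        exact h2
      · rw [hU c hc]
  algebraize [(sY.appLE W V hVW).hom]
  obtain ⟨t, ht⟩ := (Algebra.FiniteType.out : (⊤ : Subalgebra Γ(S, W) Γ(Y, V)).FG)
  obtain ⟨U, hxU, hUf, hUg, hU⟩ := fin t
  have hρ : sY.appLE W V hVW ≫ f.appLE V U hUf = sY.appLE W V hVW ≫ g.appLE V U hUg := by
    rw [Scheme.Hom.appLE_comp_appLE, Scheme.Hom.appLE_comp_appLE]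
    have : ∀ (F G : X ⟶ S) (hFG : F = G) (h1) (h2), F.appLE W U h1 = G.appLE W U h2 := by
      rintro F _ rfl _ _; rfl
    exact this _ _ (hf.trans hg.symm) _ _
  have heq : f.appLE V U hUf = g.appLE V U hUg := by
    ext b
    have hb : b ∈ Algebra.adjoin Γ(S, W) (t : Set Γ(Y, V)) := by rw [ht]; trivial
    induction hb using Algebra.adjoin_induction with
    | mem c hc => exact hU c hc
    | algebraMap r => exact congr($hρ r)
    | add a b _ _ ha hb => rw [map_add, map_add, ha, hb]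
    | mul a b _ _ ha hb => rw [map_mul, map_mul, ha, hb]
  refine ⟨U, hxU, ?_⟩
  rw [← Scheme.Hom.resLE_comp_ι _ hUf, ← Scheme.Hom.resLE_comp_ι _ hUg]
  congr 1
  have : IsAffine V := hV
  suffices ∀ (U₀ V₀) (eU : U = U₀) (eV : V = V₀),
      f.appLE V₀ U₀ (eU ▸ eV ▸ hUf) =
        g.appLE V₀ U₀ (eU ▸ eV ▸ hUg) by
    rw [← cancel_mono V.toScheme.isoSpec.hom]
    simp only [Scheme.isoSpec, asIso_hom, Scheme.toSpecΓ_naturality,
      Scheme.Hom.app_eq_appLE, Scheme.Hom.resLE_appLE]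
    congr 2
    apply this <;> simp
  rintro U V rfl rfl
  exact heq

set_option backward.isDefEq.respectTransparency.types false in
theorem spread_out_unique_of_locallyOfFiniteType'
    {X Y S : Scheme.{u}} (sX : X ⟶ S) (sY : Y ⟶ S) [LocallyOfFiniteType sY]
    (f g : X ⟶ Y) (hf : f ≫ sY = sX) (hg : g ≫ sY = sX) {x : X}
    (e : X.fromSpecStalk x ≫ f = X.fromSpecStalk x ≫ g) :
    ∃ U : X.Opens, x ∈ U ∧ U.ι ≫ f = U.ι ≫ g := by
  fapply spread_out_unique_of_locallyOfFiniteType sX sY f g hf hg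
  · simpa using congr($e (IsLocalRing.closedPoint _))
  · apply Spec.map_injective
    rw [← cancel_mono (Y.fromSpecStalk _)]
    simpa [Scheme.SpecMap_stalkSpecializes_fromSpecStalk]

set_option backward.defeqAttrib.useBackward true in
set_option backward.isDefEq.respectTransparency false in
theorem partialMap_equiv_of_fromSpecStalkOfMem_eq_of_locallyOfFiniteType
    {X Y S : Scheme.{u}} [X.Over S] [Y.Over S] [IrreducibleSpace X] [LocallyOfFiniteType (Y ↘ S)]
    {x : X} (f g : X.PartialMap Y) [f.IsOver S] [g.IsOver S]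
    (hxf : x ∈ f.domain) (hxg : x ∈ g.domain)
    (H : f.fromSpecStalkOfMem hxf = g.fromSpecStalkOfMem hxg) : f.equiv g := by
  have hdense : Dense ((f.domain ⊓ g.domain) : Set X) :=
    f.dense_domain.inter_of_isOpen_left g.dense_domain f.domain.2
  have := spread_out_unique_of_locallyOfFiniteType' (X := (f.domain ⊓ g.domain).toScheme)
    ((f.domain ⊓ g.domain).ι ≫ (X ↘ S)) (Y ↘ S)
    (X.homOfLE inf_le_left ≫ f.hom) (X.homOfLE inf_le_right ≫ g.hom) ?_ ?_ (x := ⟨x, hxf, hxg⟩) ?_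
  · obtain ⟨U, hxU, e⟩ := this
    refine ⟨(f.domain ⊓ g.domain).ι ''ᵁ U, ((f.domain ⊓ g.domain).ι ''ᵁ U).2.dense
      ⟨_, ⟨_, hxU, rfl⟩⟩,
      ((Set.image_subset_range _ _).trans_eq (Subtype.range_val)).trans inf_le_left,
      ((Set.image_subset_range _ _).trans_eq (Subtype.range_val)).trans inf_le_right, ?_⟩
    rw [← cancel_epi (Scheme.Hom.isoImage _ _).hom]
    simp only [Scheme.PartialMap.restrict_hom, ← Category.assoc] at e ⊢
    convert! e using 2 <;> rw [← cancel_mono (Scheme.Opens.ι _)] <;> simp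
  · rw [Category.assoc]
    have h1 : f.hom ≫ (Y ↘ S) = f.domain.ι ≫ (X ↘ S) := CategoryTheory.comp_over f.hom S
    rw [h1, ← Category.assoc, Scheme.homOfLE_ι]
  · rw [Category.assoc]
    have h1 : g.hom ≫ (Y ↘ S) = g.domain.ι ≫ (X ↘ S) := CategoryTheory.comp_over g.hom S
    rw [h1, ← Category.assoc, Scheme.homOfLE_ι]
  · rw [← f.fromSpecStalkOfMem_restrict hdense inf_le_left ⟨hxf, hxg⟩,
      ← g.fromSpecStalkOfMem_restrict hdense inf_le_right ⟨hxf, hxg⟩] at H
    simpa only [Scheme.PartialMap.fromSpecStalkOfMem, Scheme.PartialMap.restrict_domain, Scheme.Opens.fromSpecStalkOfMem, Spec.map_inv,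
      Scheme.PartialMap.restrict_hom, Category.assoc, IsIso.eq_inv_comp, IsIso.hom_inv_id_assoc] using H


theorem rationalMap_eq_of_fromFunctionField_eq_of_locallyOfFiniteType
    (S X Y : Scheme.{u}) [X.Over S] [Y.Over S] [IrreducibleSpace X]
    [LocallyOfFiniteType (Y ↘ S)] (f g : X ⤏ Y) [f.IsOver S] [g.IsOver S]
    (h : f.fromFunctionField = g.fromFunctionField) : f = g := by
  obtain ⟨f', hf1, rfl⟩ := f.exists_partialMap_over (S := S)
  obtain ⟨g', hg1, rfl⟩ := g.exists_partialMap_over (S := S)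
  refine Scheme.PartialMap.toRationalMap_eq_iff.mpr ?_
  exact partialMap_equiv_of_fromSpecStalkOfMem_eq_of_locallyOfFiniteType (S := S) f' g' _ _ h

end Groth.Agent.Helper7
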