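import Mathlib

open CategoryTheory Limits

universe u

namespace Groth.Agent.Helper7.FPColim

/-- Lifting property along directed colimits in `Under A`. -/
def LiftsDirected {A : CommRingCat.{u}} (B : Under A) : Prop :=
  ∀ (J : Type u) [Preorder J] [IsDirected J (· ≤ ·)] [Nonempty J] (F : J ⥤ Under A)
    (c : Cocone F) (_ : IsColimit c) (ψ : B ⟶ c.pt),
    ∃ (j : J) (χ : B ⟶ F.obj j), χ ≫ c.ι.app j = ψ

section Recognize

variable {A : CommRingCat.{u}} {J : Type u} [Preorder J] [IsDirected J (· ≤ ·)] [Nonempty J]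

/-- Recognition of directed colimits in `Under A` on underlying sets. -/
noncomputable def isColimitOfUnder (F : J ⥤ Under A) (c : Cocone F)
    (hsurj : ∀ x : c.pt.right, ∃ (i : J) (xi : (F.obj i).right), x = (c.ι.app i).right.hom xi)
    (hinj : ∀ (i : J) (x y : (F.obj i).right),
      (c.ι.app i).right.hom x = (c.ι.app i).right.hom y →
        ∃ (k : J) (f : i ⟶ k), (F.map f).right.hom x = (F.map f).right.hom y) :
    IsColimit c := by
  have : IsFiltered J := inferInstance
  have : IsConnected J := IsFiltered.isConnected J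
  apply isColimitOfReflects (Under.forget A)
  have : ReflectsColimit (F ⋙ Under.forget A) (forget CommRingCat.{u}) :=
    reflectsColimit_of_reflectsIsomorphisms _ _
  apply isColimitOfReflects (forget CommRingCat.{u})
  refine Types.FilteredColimit.isColimitOf' _ _ ?_ ?_
  · intro x
    obtain ⟨i, xi, h⟩ := hsurj x
    exact ⟨i, xi, h⟩
  · intro i x y h
    obtain ⟨k, f, hk⟩ := hinj i x y h
    exact ⟨k, f, hk⟩

end Recognize

section Sys1

variable (A B : Type u) [CommRing A] [CommRing B] [Algebra A B]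

/-- finitely generated subalgebras -/
abbrev J₁ : Type u := {S : Subalgebra A B // S.FG}

instance : IsDirected (J₁ A B) (· ≤ ·) :=
  ⟨fun S T => ⟨⟨S.1 ⊔ T.1, S.2.sup T.2⟩, le_sup_left (a := S.1), le_sup_right (a := S.1)⟩⟩

instance : Nonempty (J₁ A B) := ⟨⟨⊥, Subalgebra.fg_bot⟩⟩

/-- the system of finitely generated subalgebras -/
noncomputable def F₁ : J₁ A B ⥤ Under (CommRingCat.of A) where
  obj S := Under.mk (CommRingCat.ofHom (algebraMap A S.1))
  map {S T} h := Under.homMk (CommRingCat.ofHom (Subalgebra.inclusion (leOfHom h)).toRingHom)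
    (by ext; rfl)
  map_id S := by ext; rfl
  map_comp f g := by ext; rfl

/-- the cocone -/
noncomputable def c₁ : Cocone (F₁ A B) where
  pt := Under.mk (CommRingCat.ofHom (algebraMap A B))
  ι :=
    { app S := Under.homMk (CommRingCat.ofHom S.1.val.toRingHom) (by ext; rfl)
      naturality S T h := by ext; rfl }

noncomputable def hc₁ : IsColimit (c₁ A B) := by
  refine isColimitOfUnder _ _ ?_ ?_
  · intro x
    change B at x
    have hfg : (Algebra.adjoin A {x}).FG := by
      have := Subalgebra.fg_adjoin_finset (R := A) ({x} : Finset B)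
      simpa using this
    exact ⟨⟨Algebra.adjoin A {x}, hfg⟩, ⟨x, Algebra.self_mem_adjoin_singleton A x⟩, rfl⟩
  · intro S x y h
    refine ⟨S, 𝟙 S, ?_⟩
    change S.1 at x y
    have : (x : B) = y := h
    have h2 : x = y := Subtype.ext this
    rw [h2]

theorem finiteType_of_liftsDirected
    (h : LiftsDirected (Under.mk (CommRingCat.ofHom (algebraMap A B)))) :
    Algebra.FiniteType A B := by
  obtain ⟨S, χ, hχ⟩ := h (J₁ A B) (F₁ A B) (c₁ A B) (hc₁ A B) (𝟙 _)
  refine ⟨?_⟩
  have : S.1 = ⊤ := by
    rw [eq_top_iff]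
    intro b _
    have h1 := congrArg (fun g => g.right.hom b) hχ
    let z : S.1 := χ.right.hom b
    have h2 : (z : B) = b := h1
    rw [← h2]
    exact z.2
  rw [← this]
  exact S.2

end Sys1


section Sys2

variable {A B : Type u} [CommRing A] [CommRing B] [Algebra A B] {n : ℕ}
  (π : MvPolynomial (Fin n) A →ₐ[A] B)

/-- finitely generated ideals in the kernel -/
abbrev J₂ : Type u := {I : Ideal (MvPolynomial (Fin n) A) // I.FG ∧ I ≤ RingHom.ker π}

instance : IsDirected (J₂ π) (· ≤ ·) :=
  ⟨fun S T => ⟨⟨S.1 ⊔ T.1, Submodule.FG.sup S.2.1 T.2.1, sup_le S.2.2 T.2.2⟩,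
    le_sup_left (a := S.1), le_sup_right (a := S.1)⟩⟩

instance : Nonempty (J₂ π) := ⟨⟨⊥, Submodule.fg_bot, bot_le⟩⟩

/-- the system of quotients by finitely generated ideals -/
noncomputable def F₂ : J₂ π ⥤ Under (CommRingCat.of A) where
  obj I := Under.mk (CommRingCat.ofHom (algebraMap A (MvPolynomial (Fin n) A ⧸ I.1)))
  map {S T} h := Under.homMk (CommRingCat.ofHom (Ideal.Quotient.factor (leOfHom h))) (by ext; rfl)
  map_id S := by
    ext x
    obtain ⟨x, rfl⟩ := Ideal.Quotient.mk_surjective x
    rfl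
  map_comp f g := by
    ext x
    obtain ⟨x, rfl⟩ := Ideal.Quotient.mk_surjective x
    rfl

/-- the cocone -/
noncomputable def c₂ : Cocone (F₂ π) where
  pt := Under.mk (CommRingCat.ofHom (algebraMap A B))
  ι :=
    { app I := Under.homMk (CommRingCat.ofHom (Ideal.Quotient.lift I.1 π.toRingHom
        (fun a ha => I.2.2 ha))) (by
          ext a
          change π (algebraMap A _ a) = algebraMap A B a
          exact π.commutes a)
      naturality S T h := by
        ext x
        obtain ⟨x, rfl⟩ := Ideal.Quotient.mk_surjective x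
        rfl }

noncomputable def hc₂ (hπ : Function.Surjective π) : IsColimit (c₂ π) := by
  refine isColimitOfUnder _ _ ?_ ?_
  · intro x
    change B at x
    obtain ⟨p, rfl⟩ := hπ x
    exact ⟨⟨⊥, Submodule.fg_bot, bot_le⟩, Ideal.Quotient.mk _ p, rfl⟩
  · intro S x y h
    change MvPolynomial (Fin n) A ⧸ S.1 at x y
    obtain ⟨x, rfl⟩ := Ideal.Quotient.mk_surjective x
    obtain ⟨y, rfl⟩ := Ideal.Quotient.mk_surjective y
    have hxy : π x = π y := h
    have hmem : x - y ∈ RingHom.ker π := by
      rw [RingHom.mem_ker, map_sub, hxy, sub_self]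
    let T : J₂ π := ⟨S.1 ⊔ Ideal.span {x - y}, Submodule.FG.sup S.2.1 (Submodule.fg_span_singleton _),
      sup_le S.2.2 ((Ideal.span_singleton_le_iff_mem _).2 hmem)⟩
    refine ⟨T, homOfLE (le_sup_left (a := S.1)), ?_⟩
    change Ideal.Quotient.mk T.1 x = Ideal.Quotient.mk T.1 y
    rw [Ideal.Quotient.eq]
    exact Ideal.mem_sup_right (Ideal.mem_span_singleton_self _)

theorem ker_fg_of_liftsDirected (hπ : Function.Surjective π)
    (h : LiftsDirected (Under.mk (CommRingCat.ofHom (algebraMap A B)))) :
    (RingHom.ker π).FG := by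
  classical
  obtain ⟨I, χ, hχ⟩ := h (J₂ π) (F₂ π) (c₂ π) (hc₂ π hπ) (𝟙 _)
  -- χ as an algebra hom
  let χ' : B →ₐ[A] MvPolynomial (Fin n) A ⧸ I.1 :=
    { χ.right.hom with
      commutes' := fun a => by
        have := congrArg (fun g => g.hom a) (Under.w χ)
        exact this }
  have hχ' : ∀ b : B, Ideal.Quotient.lift I.1 π.toRingHom (fun a ha => I.2.2 ha) (χ' b) = b := by
    intro b
    exact congrArg (fun g => g.right.hom b) hχ
  choose p hp using fun i : Fin n => Ideal.Quotient.mk_surjective (χ' (π (MvPolynomial.X i)))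
  have hδ : ∀ i, p i - MvPolynomial.X i ∈ RingHom.ker π := by
    intro i
    have := hχ' (π (MvPolynomial.X i))
    rw [← hp i] at this
    rw [RingHom.mem_ker, map_sub, sub_eq_zero]
    exact this
  let I'' : Ideal (MvPolynomial (Fin n) A) :=
    I.1 ⊔ Ideal.span (Set.range fun i => p i - MvPolynomial.X i)
  have hI''fg : I''.FG := Submodule.FG.sup I.2.1 ⟨Finset.univ.image fun i => p i - MvPolynomial.X i, by simp⟩
  have hI''le : I'' ≤ RingHom.ker π := by
    refine sup_le I.2.2 ?_
    rw [Ideal.span_le]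
    rintro _ ⟨i, rfl⟩
    exact hδ i
  suffices hle : RingHom.ker π ≤ I'' by
    rw [le_antisymm hle hI''le]
    exact hI''fg
  have hII'' : I.1 ≤ I'' := le_sup_left
  let χ'' : B →ₐ[A] MvPolynomial (Fin n) A ⧸ I'' :=
    (Ideal.Quotient.factorₐ A hII'').comp χ'
  have key : χ''.comp π = Ideal.Quotient.mkₐ A I'' := by
    apply MvPolynomial.algHom_ext
    intro i
    change Ideal.Quotient.factor hII'' (χ' (π (MvPolynomial.X i))) = Ideal.Quotient.mk I'' _
    rw [← hp i]
    change Ideal.Quotient.mk I'' (p i) = Ideal.Quotient.mk I'' _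
    rw [Ideal.Quotient.eq]
    exact Ideal.mem_sup_right (Ideal.subset_span ⟨i, rfl⟩)
  intro f hf
  have := congrArg (fun g => g f) key
  change χ'' (π f) = Ideal.Quotient.mk I'' f at this
  rw [RingHom.mem_ker.1 hf, map_zero] at this
  exact Ideal.Quotient.eq_zero_iff_mem.1 this.symm

end Sys2

/-- The core lemma: an algebra with the lifting property along directed colimits is finitely
presented. -/
theorem finitePresentation_of_liftsDirected {A B : CommRingCat.{u}} (φ : A ⟶ B)
    (h : LiftsDirected (Under.mk φ)) : φ.hom.FinitePresentation := by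
  algebraize [φ.hom]
  have hft : Algebra.FiniteType A B := finiteType_of_liftsDirected A B h
  obtain ⟨n, π, hπ⟩ := Algebra.FiniteType.iff_quotient_mvPolynomial''.1 hft
  exact Algebra.FinitePresentation.of_surjective hπ (ker_fg_of_liftsDirected π hπ h)

end Groth.Agent.Helper7.FPColim
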