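import Mathlib
import Groth.Agent.Lib.Helper7.FPColim
import Groth.Agent.Lib.Helper7.LimCons

open CategoryTheory Limits AlgebraicGeometry Topology

universe u

namespace Groth.Agent.Helper7.FPColim

section

variable {S : Scheme.{u}} {U : S.Opens} (hU : IsAffineOpen U)
  {J : Type u} [Preorder J] (F : J ⥤ Under Γ(S, U))

/-- the diagram of affine `U`-schemes attached to a diagram of `Γ(S, U)`-algebras -/
noncomputable def Zdiag : Jᵒᵖ ⥤ Over (U : Scheme.{u}) where
  obj j := Over.mk (Spec.map (F.obj j.unop).hom ≫ hU.isoSpec.inv)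
  map {j k} g := Over.homMk (Spec.map (F.map g.unop).right) (by
    dsimp
    rw [← Spec.map_comp_assoc, Under.w])
  map_id j := by
    ext1
    simp
  map_comp g g' := by
    ext1
    simp

/-- the cone attached to a cocone -/
noncomputable def Zcone (c : Cocone F) : Cone (Zdiag hU F ⋙ Over.map U.ι) where
  pt := Over.mk ((Spec.map c.pt.hom ≫ hU.isoSpec.inv) ≫ U.ι)
  π :=
    { app j := Over.homMk (Spec.map (c.ι.app j.unop).right) (by
        dsimp [Zdiag]
        simp only [Category.assoc]
        rw [← Spec.map_comp_assoc, Under.w])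
      naturality j k g := by
        ext1
        dsimp [Zdiag]
        simp only [Over.homMk_left, Category.id_comp]
        rw [← Spec.map_comp, ← Under.comp_right, c.w] }

/-- the cone attached to a colimit cocone is a limit cone -/
noncomputable def ZconeIsLimit [IsDirected J (· ≤ ·)] [Nonempty J] (c : Cocone F)
    (hc : IsColimit c) : IsLimit (Zcone hU F c) := by
  have : IsFiltered J := inferInstance
  have : IsConnected Jᵒᵖ := IsCofiltered.isConnected _
  apply isLimitOfReflects (Over.forget S)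
  have h1 : IsColimit ((Under.forget _).mapCocone c) := isColimitOfPreserves _ hc
  have h2 := isLimitOfPreserves Scheme.Spec h1.op
  exact h2

end

theorem liftsDirected_appLE {X S : Scheme.{u}} (f : X ⟶ S)
    (h : ∀ (U : S.Opens), IsAffineOpen U →
      ∀ (J : Type u) [Preorder J] [IsDirected J (· ≤ ·)] [Nonempty J]
        (Z : Jᵒᵖ ⥤ Over (U : Scheme.{u})),
      (∀ j, IsAffine (Z.obj j).left) →
      Limits.PreservesColimit (Z ⋙ Over.map U.ι).op (yoneda.obj (Over.mk f)))
    {U : S.Opens} (hU : IsAffineOpen U) {V : X.Opens} (hV : IsAffineOpen V) (e : V ≤ f ⁻¹ᵁ U) :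
    LiftsDirected (Under.mk (f.appLE U V e)) := by
  intro J _ _ _ F c hc ψ
  have : IsFiltered J := inferInstance
  have : IsConnected Jᵒᵖ := IsCofiltered.isConnected _
  have hpres := h U hU J (Zdiag hU F) (fun j => by dsimp [Zdiag]; infer_instance)
  have hlim := ZconeIsLimit hU F c hc
  have hcolim := isColimitOfPreserves (yoneda.obj (Over.mk f)) hlim.op
  have hfromSpec : hU.isoSpec.inv ≫ U.ι = hU.fromSpec := rfl
  -- the morphism attached to `ψ`
  let ψt : (Zcone hU F c).pt ⟶ Over.mk f := Over.homMk (Spec.map ψ.right ≫ hV.fromSpec) (by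
    dsimp [Zcone]
    rw [Category.assoc, Category.assoc, hfromSpec,
      ← IsAffineOpen.SpecMap_appLE_fromSpec f hU hV e, ← Spec.map_comp_assoc]
    congr 2
    exact Under.w ψ)
  obtain ⟨j, g, hg⟩ := Types.jointly_surjective_of_isColimit hcolim ψt
  let k : Jᵒᵖ := j.unop
  let g' : (Zdiag hU F ⋙ Over.map U.ι).obj k ⟶ Over.mk f := g
  have hg' : (Zcone hU F c).π.app k ≫ g' = ψt := hg
  let gk : Spec (F.obj k.unop).right ⟶ X := g'.left
  have hgkleft : Spec.map (c.ι.app k.unop).right ≫ gk = Spec.map ψ.right ≫ hV.fromSpec :=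
    congrArg (fun m => m.left) hg'
  have hgkw : gk ≫ f = Spec.map (F.obj k.unop).hom ≫ hU.fromSpec := by
    have := Over.w g'
    refine this.trans ?_
    change (Spec.map (F.obj k.unop).hom ≫ hU.isoSpec.inv) ≫ U.ι = _
    rw [Category.assoc, hfromSpec]
  -- the scheme-level limit
  let D : Jᵒᵖ ⥤ Scheme.{u} := (Zdiag hU F ⋙ Over.map U.ι) ⋙ Over.forget S
  let cD : Cone D := (Over.forget S).mapCone (Zcone hU F c)
  have hD : IsLimit cD := isLimitOfPreserves (Over.forget S) hlim
  have haff : ∀ {i j : Jᵒᵖ} (m : i ⟶ j), IsAffineHom (D.map m) := fun m => by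
    dsimp [D, Zdiag]; infer_instance
  have hcpt : CompactSpace (D.obj k) :=
    inferInstanceAs (CompactSpace (Spec (F.obj k.unop).right))
  let W : (Spec (F.obj k.unop).right).Opens := gk ⁻¹ᵁ V
  have hempty : cD.π.app k ⁻¹' (Set.univ ∩ Set.univ ∩ (W : Set (Spec (F.obj k.unop).right))ᶜ) =
      ∅ := by
    rw [Set.eq_empty_iff_forall_notMem]
    rintro x ⟨-, hx⟩
    apply hx
    change gk (Spec.map (c.ι.app k.unop).right x) ∈ V
    have h1 : gk (Spec.map (c.ι.app k.unop).right x) = hV.fromSpec (Spec.map ψ.right x) := by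
      have := congrArg (fun m => m.base x) hgkleft
      exact this
    rw [h1]
    have : hV.fromSpec (Spec.map ψ.right x) ∈ Set.range hV.fromSpec := ⟨_, rfl⟩
    rw [hV.range_fromSpec] at this
    exact this
  obtain ⟨l, ψ₀, H⟩ := LimBC.exists_preimage_inter_eq_empty D cD hD (k := k)
    IsConstructible.univ Set.univ isOpen_univ isCompact_univ _ W.2.isClosed_compl hempty
  have H' := H l (𝟙 l)
  rw [Category.id_comp] at H'
  let tl : Spec (F.obj l.unop).right ⟶ Spec (F.obj k.unop).right :=
    Spec.map (F.map ψ₀.unop).right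
  have H'' : tl ⁻¹' (Set.univ ∩ Set.univ ∩ (W : Set (Spec (F.obj k.unop).right))ᶜ) = ∅ := H'
  let g'' : Spec (F.obj l.unop).right ⟶ X := tl ≫ gk
  have hrange : Set.range g''.base ⊆ Set.range hV.fromSpec.base := by
    rw [hV.range_fromSpec]
    rintro _ ⟨x, rfl⟩
    by_contra hx
    have : x ∈ tl ⁻¹' (Set.univ ∩ Set.univ ∩ (W : Set (Spec (F.obj k.unop).right))ᶜ) := by
      refine ⟨⟨trivial, trivial⟩, ?_⟩
      intro hW
      apply hx
      exact hW
    rw [H''] at this
    exact this
  let lift : Spec (F.obj l.unop).right ⟶ Spec Γ(X, V) :=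
    IsOpenImmersion.lift hV.fromSpec g'' hrange
  have hlift : lift ≫ hV.fromSpec = g'' := IsOpenImmersion.lift_fac _ _ _
  let χ₀ : Γ(X, V) ⟶ (F.obj l.unop).right := Spec.preimage lift
  have hχ₀ : Spec.map χ₀ = lift := Spec.map_preimage _
  have hw : f.appLE U V e ≫ χ₀ = (F.obj l.unop).hom := by
    apply Spec.map_injective
    rw [← cancel_mono hU.fromSpec, Spec.map_comp, Category.assoc,
      IsAffineOpen.SpecMap_appLE_fromSpec f hU hV e, hχ₀, ← Category.assoc, hlift]
    change (tl ≫ gk) ≫ f = _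
    rw [Category.assoc, hgkw, ← Spec.map_comp_assoc, Under.w]
  refine ⟨l.unop, Under.homMk χ₀ hw, ?_⟩
  ext1
  apply Spec.map_injective
  rw [← cancel_mono hV.fromSpec]
  change Spec.map (χ₀ ≫ (c.ι.app l.unop).right) ≫ hV.fromSpec = Spec.map ψ.right ≫ hV.fromSpec
  rw [Spec.map_comp, Category.assoc, hχ₀, hlift, ← hgkleft]
  change Spec.map (c.ι.app l.unop).right ≫ tl ≫ gk = _
  rw [← Spec.map_comp_assoc, ← Under.comp_right, c.w]

end Groth.Agent.Helper7.FPColim
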