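import Mathlib
import Groth.Agent.Lib.Helper7.LimHom
import Groth.Agent.Lib.Helper7.LimCons4
universe u
open AlgebraicGeometry CategoryTheory CategoryTheory.Limits

namespace Groth.Agent.Helper7.LimBC

variable {I : Type u} [Category.{u} I] (D : I ⥤ Scheme.{u}) (c : Cone D) (hc : IsLimit c)

/-- an immersion through which an open immersion with the same range factors is an open
immersion -/
theorem isOpenImmersion_of_fac {Z Q S : Scheme.{u}} (ι : Z ⟶ S) [Mono ι] (O : Q ⟶ S)
    [IsOpenImmersion O] (hr : Set.range ι ⊆ Set.range O) (s : Q ⟶ Z) (hs : s ≫ ι = O) :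
    IsOpenImmersion ι := by
  let r : Z ⟶ Q := IsOpenImmersion.lift O ι hr
  have hr' : r ≫ O = ι := IsOpenImmersion.lift_fac O ι hr
  have h1 : s ≫ r = 𝟙 _ := by
    rw [← cancel_mono O, Category.assoc, hr', hs, Category.id_comp]
  have h2 : r ≫ s = 𝟙 _ := by
    rw [← cancel_mono ι, Category.assoc, hs, hr', Category.id_comp]
  have : IsIso r := ⟨s, h2, h1⟩
  rw [← hr']
  infer_instance

set_option backward.isDefEq.respectTransparency false in
include hc in
theorem exists_isOpenImmersion_snd [IsCofiltered I] [∀ {i j} (f : i ⟶ j), IsAffineHom (D.map f)]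
    (i₀ : I) [CompactSpace (D.obj i₀)] {Z₀ : Scheme.{u}} (ι₀ : Z₀ ⟶ D.obj i₀) [IsImmersion ι₀]
    [LocallyOfFinitePresentation ι₀] [QuasiCompact ι₀]
    (h : IsOpenImmersion (pullback.snd ι₀ (c.π.app i₀))) :
    ∃ (j : I) (φ : j ⟶ i₀), IsOpenImmersion (pullback.snd ι₀ (D.map φ)) := by
  -- step 1: the range becomes open at a stage `j₁`
  have hR : Topology.IsLocallyConstructible (Set.range ι₀) := by
    rw [← Set.image_univ]
    exact ι₀.isLocallyConstructible_image Topology.IsLocallyConstructible.univ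
  have hop : IsOpen (c.π.app i₀ ⁻¹' Set.range ι₀) := by
    rw [← Scheme.Pullback.range_snd]
    exact (pullback.snd ι₀ (c.π.app i₀)).isOpenEmbedding.isOpen_range
  obtain ⟨j₁, φ₁, hj₁⟩ := exists_isOpen_preimage_of_isLocallyConstructible D c hc i₀ _ hR hop
  let W₁ : (D.obj j₁).Opens := ⟨D.map φ₁ ⁻¹' Set.range ι₀, hj₁⟩
  let ι₁ := pullback.snd ι₀ (D.map φ₁)
  have hrange₁ : Set.range ι₁ = (W₁ : Set (D.obj j₁)) := Scheme.Pullback.range_snd _ _
  have : CompactSpace (D.obj j₁) := QuasiCompact.compactSpace_of_compactSpace (D.map φ₁)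
  have hqc₁ : QuasiCompact ι₁ := MorphismProperty.pullback_snd (P := @QuasiCompact) _ _ inferInstance
  have hlfp₁ : LocallyOfFinitePresentation ι₁ :=
    MorphismProperty.pullback_snd (P := @LocallyOfFinitePresentation) _ _ inferInstance
  have himm₁ : IsImmersion ι₁ := MorphismProperty.pullback_snd (P := @IsImmersion) _ _ inferInstance
  have : CompactSpace ↥(pullback ι₀ (D.map φ₁)) := QuasiCompact.compactSpace_of_compactSpace ι₁
  have hW₁c : CompactSpace W₁ := by
    apply isCompact_iff_compactSpace.mp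
    rw [← hrange₁]
    exact isCompact_range ι₁.continuous
  -- step 2: the factorization over the limit
  have hrg : Set.range (pullback.fst (c.π.app j₁) W₁.ι) ⊆
      Set.range (pullback.snd ι₀ (c.π.app i₀)) := by
    rw [Scheme.Pullback.range_fst, Scheme.Pullback.range_snd, Scheme.Opens.range_ι]
    intro x hx
    have := congr($(Cone.w c φ₁) x)
    rw [Set.mem_preimage, ← this, Scheme.Hom.comp_apply]
    exact hx
  let l : pullback (c.π.app j₁) W₁.ι ⟶ pullback ι₀ (c.π.app i₀) :=
    IsOpenImmersion.lift (pullback.snd ι₀ (c.π.app i₀)) (pullback.fst (c.π.app j₁) W₁.ι) hrg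
  have hl : l ≫ pullback.snd ι₀ (c.π.app i₀) = pullback.fst (c.π.app j₁) W₁.ι :=
    IsOpenImmersion.lift_fac _ _ hrg
  let q : pullback ι₀ (c.π.app i₀) ⟶ pullback ι₀ (D.map φ₁) :=
    pullback.lift (pullback.fst _ _) (pullback.snd _ _ ≫ c.π.app j₁)
      (by rw [Category.assoc, Cone.w, pullback.condition])
  have hq : q ≫ ι₁ = pullback.snd _ _ ≫ c.π.app j₁ := pullback.lift_snd _ _ _
  obtain ⟨j, φ, aj, haj⟩ := exists_fac_of_compactSpace D c hc j₁ W₁.ι ι₁ (l ≫ q) (by
    rw [Category.assoc, hq, reassoc_of% hl, pullback.condition])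
  -- step 3: conclude
  refine ⟨j, φ ≫ φ₁, ?_⟩
  have himm : IsImmersion (pullback.snd ι₀ (D.map (φ ≫ φ₁))) :=
    MorphismProperty.pullback_snd (P := @IsImmersion) _ _ inferInstance
  refine isOpenImmersion_of_fac (pullback.snd ι₀ (D.map (φ ≫ φ₁))) (pullback.fst (D.map φ) W₁.ι)
    ?_ (pullback.lift (aj ≫ pullback.fst ι₀ (D.map φ₁)) (pullback.fst (D.map φ) W₁.ι) ?_)
    (pullback.lift_snd _ _ _)
  · rw [Scheme.Pullback.range_fst, Scheme.Pullback.range_snd, Scheme.Opens.range_ι]
    intro x hx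
    rw [Set.mem_preimage, D.map_comp, Scheme.Hom.comp_apply] at hx
    exact hx
  · rw [Category.assoc, pullback.condition, reassoc_of% haj, D.map_comp,
      ← pullback.condition_assoc]

end Groth.Agent.Helper7.LimBC
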