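import Mathlib
import Groth.Agent.S17616
import Groth.Agent.S0387
import Groth.Agent.Lib.Helper21.FL9

/-! Flatness as a property `P` for the étale-localization theorem `S17616`. -/

set_option autoImplicit false

namespace Groth.Agent.Helper7.FlatAtZero

universe u

/-- the "flat near `q`" predicate -/
def PAt ⦃B B' : Type u⦄ [CommRing B] [CommRing B'] (f : B →+* B') (q : Ideal B') : Prop :=
  ∃ g : B', g ∉ q ∧ ((algebraMap B' (Localization.Away g)).comp f).Flat

/-- lifting through a localization preserves flatness -/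
theorem flat_lift {R T : Type u} [CommRing R] [CommRing T] (f : R →+* T) (r : R)
    (hr : IsUnit (f r)) (hf : f.Flat) :
    (IsLocalization.Away.lift (S := Localization.Away r) r hr).Flat := by
  letI : Algebra R T := f.toAlgebra
  letI : Algebra (Localization.Away r) T :=
    (IsLocalization.Away.lift (S := Localization.Away r) r hr).toAlgebra
  haveI : IsScalarTower R (Localization.Away r) T :=
    IsScalarTower.of_algebraMap_eq (fun a => by
      rw [RingHom.algebraMap_toAlgebra, RingHom.algebraMap_toAlgebra,
        IsLocalization.Away.lift_eq])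
  have hf' : Module.Flat R T := hf
  exact (Module.flat_iff_of_isLocalization (Localization.Away r) (Submonoid.powers r) T).mpr hf'

theorem h₁ ⦃B B' : Type u⦄ [CommRing B] [CommRing B'] (f : B →+* B') :
    ProCons.IsIndConstructible {q : PrimeSpectrum B' | PAt f q.asIdeal} ∧
      ((∀ q : PrimeSpectrum B', PAt f q.asIdeal) → f.Flat) := by
  constructor
  · intro x
    refine ⟨Set.univ, isOpen_univ, Set.mem_univ x,
      {T | ∃ g : B', ((algebraMap B' (Localization.Away g)).comp f).Flat ∧
        T = Subtype.val ⁻¹' (PrimeSpectrum.basicOpen g : Set (PrimeSpectrum B'))}, ?_, ?_⟩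
    · rintro T ⟨g, _, rfl⟩
      exact (PrimeSpectrum.isConstructible_basicOpen.preimage_of_isOpenEmbedding
        isOpen_univ.isOpenEmbedding_subtypeVal).isLocallyConstructible
    · ext ⟨q, hq⟩
      simp only [Set.mem_preimage, Set.mem_setOf_eq, Set.mem_sUnion]
      constructor
      · rintro ⟨g, hg, hfl⟩
        exact ⟨_, ⟨g, hfl, rfl⟩, hg⟩
      · rintro ⟨T, ⟨g, hfl, rfl⟩, hg⟩
        exact ⟨g, hg, hfl⟩
  · intro h
    let s : Set B' := {g | ((algebraMap B' (Localization.Away g)).comp f).Flat}
    have hs : Ideal.span s = ⊤ := by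
      by_contra hne
      obtain ⟨m, hm, hle⟩ := Ideal.exists_le_maximal _ hne
      obtain ⟨g, hg, hfl⟩ := h ⟨m, hm.isPrime⟩
      exact hg (hle (Ideal.subset_span hfl))
    exact RingHom.Flat.ofLocalizationSpanTarget f s hs (fun r => r.2)

theorem h₂ ⦃B B' : Type u⦄ [CommRing B] [CommRing B'] (f : B →+* B') (hf : f.Etale) : f.Flat := by
  algebraize [f]
  have : Algebra.Etale B B' := hf
  show Module.Flat B B'
  infer_instance

theorem h₃ ⦃C C' C'' : Type u⦄ [CommRing C] [CommRing C'] [CommRing C''] (g : C →+* C')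
    (h : C' →+* C'') (q : Ideal C'') [hq : q.IsPrime]
    (h1 : PAt h q) (h2 : PAt g (q.comap h)) : PAt (h.comp g) q := by
  obtain ⟨g₁, hg₁, hfl₁⟩ := h1
  obtain ⟨g₂, hg₂, hfl₂⟩ := h2
  have hg₂' : h g₂ ∉ q := hg₂
  refine ⟨g₁ * h g₂, fun hmem => (hq.mem_or_mem hmem).elim hg₁ hg₂', ?_⟩
  set g₃ := g₁ * h g₂ with hg₃
  -- `Away g₁ → Away g₃`
  have hu₁ : IsUnit (algebraMap C'' (Localization.Away g₃) g₁) := by
    have := IsLocalization.Away.algebraMap_isUnit (S := Localization.Away g₃) g₃
    rw [hg₃, map_mul] at this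
    exact isUnit_of_mul_isUnit_left this
  have hu₂ : IsUnit (algebraMap C'' (Localization.Away g₃) (h g₂)) := by
    have := IsLocalization.Away.algebraMap_isUnit (S := Localization.Away g₃) g₃
    rw [hg₃, map_mul] at this
    exact isUnit_of_mul_isUnit_right this
  let ι₁₃ : Localization.Away g₁ →+* Localization.Away g₃ :=
    IsLocalization.Away.lift (S := Localization.Away g₁) g₁ hu₁
  have hι₁₃ : ι₁₃.Flat :=
    flat_lift (algebraMap C'' (Localization.Away g₃)) g₁ hu₁
      (RingHom.Flat.holdsForLocalizationAway _ g₃)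
  let ψ₃ : C' →+* Localization.Away g₃ := (algebraMap C'' (Localization.Away g₃)).comp h
  have hψ₃ : ψ₃.Flat := by
    have : ψ₃ = ι₁₃.comp ((algebraMap C'' (Localization.Away g₁)).comp h) := by
      rw [← RingHom.comp_assoc, IsLocalization.Away.lift_comp]
    rw [this]
    exact RingHom.Flat.comp hfl₁ hι₁₃
  have hu₂' : IsUnit (ψ₃ g₂) := hu₂
  let φ : Localization.Away g₂ →+* Localization.Away g₃ :=
    IsLocalization.Away.lift (S := Localization.Away g₂) g₂ hu₂'
  have hφ : φ.Flat := flat_lift ψ₃ g₂ hu₂' hψ₃
  have : (algebraMap C'' (Localization.Away g₃)).comp (h.comp g) =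
      φ.comp ((algebraMap C' (Localization.Away g₂)).comp g) := by
    rw [← RingHom.comp_assoc, ← RingHom.comp_assoc, IsLocalization.Away.lift_comp]
  rw [this]
  exact RingHom.Flat.comp hfl₂ hφ

/-- flat at a prime implies flat on a basic open neighbourhood, for finitely presented algebras -/
theorem pAt_of_flat_atPrime (A R : Type u) [CommRing A] [CommRing R] [Algebra A R]
    [Algebra.FinitePresentation A R] (p : Ideal R) [hp : p.IsPrime]
    (hfl : Module.Flat A (Localization.AtPrime p)) : PAt (algebraMap A R) p := by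
  have hopen : IsOpen {q : PrimeSpectrum R |
      Module.Flat A (LocalizedModule q.asIdeal.primeCompl R)} :=
    Groth.Agent.S0387.result (R := A) (S := R) (M := R)
  have hequiv : ∀ (P : Ideal R) [P.IsPrime],
      Nonempty (LocalizedModule P.primeCompl R ≃ₗ[A] Localization.AtPrime P) := by
    intro P _
    haveI : IsLocalizedModule P.primeCompl (Algebra.linearMap R (Localization.AtPrime P)) :=
      (isLocalizedModule_iff_isLocalization).mpr inferInstance
    exact ⟨(IsLocalizedModule.iso P.primeCompl
      (Algebra.linearMap R (Localization.AtPrime P))).restrictScalars A⟩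
  have hmem : (⟨p, hp⟩ : PrimeSpectrum R) ∈ {q : PrimeSpectrum R |
      Module.Flat A (LocalizedModule q.asIdeal.primeCompl R)} := by
    obtain ⟨e⟩ := hequiv p
    exact Module.Flat.of_linearEquiv e
  obtain ⟨_, ⟨g, rfl⟩, hgp, hgU⟩ :=
    PrimeSpectrum.isTopologicalBasis_basic_opens.exists_subset_of_mem_open hmem hopen
  refine ⟨g, hgp, ?_⟩
  have halg : (algebraMap R (Localization.Away g)).comp (algebraMap A R) =
      algebraMap A (Localization.Away g) := (IsScalarTower.algebraMap_eq A R _).symm
  rw [halg, RingHom.flat_algebraMap_iff]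
  refine Module.flat_of_isLocalized_maximal (R := A) (Localization.Away g) (Localization.Away g)
    (fun J _ => Localization.AtPrime J)
    (fun J _ => Algebra.linearMap (Localization.Away g) (Localization.AtPrime J)) ?_
  intro J hJ
  haveI : J.IsPrime := hJ.isPrime
  let P : Ideal R := J.comap (algebraMap R (Localization.Away g))
  haveI : P.IsPrime := Ideal.comap_isPrime _ _
  have hgP : g ∉ P := by
    intro hmem
    have h1 : algebraMap R (Localization.Away g) g ∈ J := hmem
    exact hJ.ne_top (Ideal.eq_top_of_isUnit_mem _ h1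
      (IsLocalization.Away.algebraMap_isUnit (S := Localization.Away g) g))
  have hPU : Module.Flat A (LocalizedModule P.primeCompl R) :=
    hgU (show (⟨P, inferInstance⟩ : PrimeSpectrum R) ∈ _ from hgP)
  obtain ⟨e⟩ := hequiv P
  haveI : Module.Flat A (Localization.AtPrime P) := Module.Flat.of_linearEquiv e.symm
  let e' : Localization.AtPrime P ≃ₐ[R] Localization.AtPrime J :=
    IsLocalization.localizationLocalizationAtPrimeIsoLocalization (Submonoid.powers g) J
  exact Module.Flat.of_linearEquiv (e'.toLinearEquiv.restrictScalars A).symm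

theorem main (A : Type u) [CommRing A] (I : Ideal A) [HenselianRing A I]
    (R : Type u) [CommRing R] [Algebra A R] [Algebra.FinitePresentation A R]
    (h : ∀ (p : Ideal R) [p.IsPrime], I.map (algebraMap A R) ≤ p →
      Module.Flat A (Localization.AtPrime p)) :
    ∃ (R' : Type u) (_ : CommRing R') (_ : Algebra R R') (_ : Algebra A R')
      (_ : IsScalarTower A R R'),
      Algebra.Etale R R' ∧
      Function.Bijective (Ideal.quotientMap ((I.map (algebraMap A R)).map (algebraMap R R'))
        (algebraMap R R') Ideal.le_comap_map) ∧ Module.Flat A R' := by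
  obtain ⟨R', i1, i2, i3, i4, het, hbij, hP⟩ := Groth.Agent.S17616.result
    (fun B B' _ _ f => f.Flat) (fun B B' _ _ f q => PAt f q)
    (fun B B' _ _ f q => Iff.rfl) (fun B B' _ _ f _ => h₁ f) (fun B B' _ _ f hf => h₂ f hf)
    (fun C C' C'' _ _ _ g h q _ h1 h2 => h₃ g h q h1 h2) A I R
    (fun p _ hp => pAt_of_flat_atPrime A R p (h p hp))
  exact ⟨R', i1, i2, i3, i4, het, hbij, RingHom.flat_algebraMap_iff.mp hP⟩

end Groth.Agent.Helper7.FlatAtZero
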