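import Mathlib
import Groth.Agent.Lib.Helper21.EssFP1
import Groth.Agent.Lib.Helper1.TorFree
import Groth.Agent.Lib.Helper7.FibInj

/-!
# Transfer of injectivity / cokernels along localization of modules (helper7)
-/

set_option autoImplicit false
set_option linter.style.haveILetI false
set_option linter.unusedSectionVars false

universe u

open TensorProduct Function

namespace Groth.Agent.Helper7.LocTransfer

open Groth.Agent.Helper21 Groth.Agent.Helper7.FibInj

section Loc

variable {R B S : Type u} [CommRing R] [CommRing B] [CommRing S] [Algebra R B] [Algebra B S]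
  [Algebra R S] [IsScalarTower R B S] (W : Submonoid B)
  {M₀ N₀ M N : Type u} [AddCommGroup M₀] [Module B M₀]
  [AddCommGroup N₀] [Module B N₀] [Module R N₀] [IsScalarTower R B N₀]
  [AddCommGroup M] [Module S M] [Module B M] [IsScalarTower B S M]
  [AddCommGroup N] [Module S N] [Module B N] [IsScalarTower B S N] [Module R N]
  [IsScalarTower R S N] [IsScalarTower R B N]
  (fM : M₀ →ₗ[B] M) [IsLocalizedModule W fM] (fN : N₀ →ₗ[B] N) [IsLocalizedModule W fN]
  (u₀ : M₀ →ₗ[B] N₀) (u : M →ₗ[S] N) (hcomm : ∀ x, fN (u₀ x) = u (fM x))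

include W fN hcomm in
/-- Injectivity at `W` of `u₀` gives injectivity of the localized map. -/
theorem injective_of_locInj (hinj : ∀ x : M₀, u₀ x = 0 → ∃ t ∈ W, t • x = 0) : Injective u := by
  rw [injective_iff_map_eq_zero]
  intro y hy
  obtain ⟨⟨x, t⟩, hxt⟩ := IsLocalizedModule.surj W fM y
  have hxt' : (t : B) • y = fM x := hxt
  have h1 : u (fM x) = 0 := by
    rw [← hxt', ← algebraMap_smul S (t : B) y, map_smul, hy, smul_zero]
  have h2 : fN (u₀ x) = 0 := by rw [hcomm, h1]
  obtain ⟨c, hc⟩ := (IsLocalizedModule.eq_zero_iff W fN).mp h2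
  have hc' : u₀ ((c : B) • x) = 0 := by
    rw [map_smul]
    exact hc
  obtain ⟨t', ht', ht'x⟩ := hinj _ hc'
  have h3 : (t' * (c : B) * (t : B)) • y = 0 := by
    rw [mul_smul, hxt', ← map_smul, mul_smul, ht'x, map_zero]
  have hmem : t' * (c : B) * (t : B) ∈ W := W.mul_mem (W.mul_mem ht' c.2) t.2
  apply IsLocalizedModule.smul_injective fM (⟨_, hmem⟩ : W)
  change (t' * (c : B) * (t : B)) • y = (t' * (c : B) * (t : B)) • (0 : M)
  rw [smul_zero]
  exact h3

include W hcomm in
/-- The cokernel of the localized map is the localization of the cokernel. -/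
theorem exists_linearEquiv_coker :
    Nonempty ((N ⧸ LinearMap.range u) ≃ₗ[R] LocalizedModule W (N₀ ⧸ LinearMap.range u₀)) := by
  let v : M →ₗ[B] N := IsLocalizedModule.map W fM fN u₀
  let w : N →ₗ[B] LocalizedModule W (N₀ ⧸ LinearMap.range u₀) :=
    IsLocalizedModule.map W fN (LocalizedModule.mkLinearMap W _) (LinearMap.range u₀).mkQ
  have hex : Function.Exact v w :=
    IsLocalizedModule.map_exact W fM fN (LocalizedModule.mkLinearMap W _)
      u₀ (LinearMap.range u₀).mkQ (LinearMap.exact_map_mkQ_range u₀)
  have hw : Surjective w :=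
    IsLocalizedModule.map_surjective W fN _ _ (Submodule.mkQ_surjective _)
  have hv : ∀ y, v y = u y := by
    have hveq : v = u.restrictScalars B := by
      apply IsLocalizedModule.linearMap_ext W fM fN
      rw [IsLocalizedModule.map_comp]
      ext x
      exact hcomm x
    intro y
    rw [hveq]
    rfl
  have hrk : (LinearMap.range u).restrictScalars R = LinearMap.ker (w.restrictScalars R) := by
    ext z
    rw [Submodule.restrictScalars_mem, LinearMap.mem_ker, LinearMap.restrictScalars_apply]
    constructor
    · rintro ⟨y, rfl⟩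
      apply (hex _).mpr
      exact ⟨y, hv y⟩
    · intro hz
      obtain ⟨y, rfl⟩ := (hex z).mp hz
      rw [hv]
      exact ⟨_, rfl⟩
  exact ⟨(Submodule.Quotient.restrictScalarsEquiv R (LinearMap.range u)).symm.trans
    ((Submodule.quotEquivOfEq _ _ hrk).trans
      ((w.restrictScalars R).quotKerEquivOfSurjective hw))⟩

end Loc

section Fibre

/-- If `v` is injective with flat cokernel (over `R`), then `v` is injective modulo every ideal
of `R`. -/
theorem mem_of_map_mem_of_flat_coker {R S : Type u} [CommRing R] [CommRing S] [Algebra R S]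
    {M N : Type u} [AddCommGroup M] [Module S M] [Module R M] [IsScalarTower R S M]
    [AddCommGroup N] [Module S N] [Module R N] [IsScalarTower R S N]
    (v : M →ₗ[S] N) (hv : Injective v) [Module.Flat R (N ⧸ LinearMap.range v)] (I : Ideal R)
    (m : M) (hm : v m ∈ (I.map (algebraMap R S)) • (⊤ : Submodule S N)) :
    m ∈ (I.map (algebraMap R S)) • (⊤ : Submodule S M) := by
  have hinj : Injective ((v.restrictScalars R).lTensor (R ⧸ I)) :=
    EssFP.lTensor_injective_of_exact_flat (v.restrictScalars R)
      ((LinearMap.range v).mkQ.restrictScalars R) hv (Submodule.mkQ_surjective _)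
      (LinearMap.exact_map_mkQ_range v) (R ⧸ I)
  rw [mem_map_smul_top_iff] at hm ⊢
  exact (Groth.Agent.Helper1.lTensor_quotient_injective_iff (v.restrictScalars R) I).mp hinj m hm

end Fibre

end Groth.Agent.Helper7.LocTransfer
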