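import Mathlib
import Groth.Agent.Lib.Helper7.InjFlatGlobal
import Groth.Agent.Lib.Helper7.LocTransfer

/-!
# EGA IV 11.3.7, algebraic core in "spread out" form (helper7)

`R → B` of finite presentation, `Q` a prime of `B` over `p`, `R' = R_p`, `S' = B_Q`, `M₀`, `N₀`
finitely presented `B`-modules with localizations `M`, `N` at `Q`, and `u₀ : M₀ → N₀` inducing
`u : M → N`. If `N` is flat over `R'`, then `u` is injective with `R'`-flat cokernel iff `u` is
injective modulo the maximal ideal of `R'`.
-/

set_option autoImplicit false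
set_option linter.style.haveILetI false
set_option linter.unusedSectionVars false

universe u

open TensorProduct Function IsLocalRing

namespace Groth.Agent.Helper7.InjFlatCore

open Groth.Agent.Helper21 Groth.Agent.Helper7.FibInj Groth.Agent.Helper7.NoethStage
  Groth.Agent.Helper7.LocTransfer

set_option maxHeartbeats 3200000 in
set_option synthInstance.maxHeartbeats 400000 in
theorem alg_core {R B R' S' : Type u} [CommRing R] [CommRing B] [CommRing R'] [CommRing S']
    [Algebra R B] [Algebra.FinitePresentation R B] [Algebra R R'] [Algebra B S'] [Algebra R' S']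
    [Algebra R S'] [IsScalarTower R B S'] [IsScalarTower R R' S'] [IsLocalRing R'] [IsLocalRing S']
    [IsLocalHom (algebraMap R' S')]
    (Q : Ideal B) [Q.IsPrime] [IsLocalization.AtPrime S' Q]
    (p : Ideal R) [p.IsPrime] [IsLocalization.AtPrime R' p]
    {M₀ N₀ M N : Type u} [AddCommGroup M₀] [Module B M₀] [Module.FinitePresentation B M₀]
    [Module R M₀] [IsScalarTower R B M₀]
    [AddCommGroup N₀] [Module B N₀] [Module R N₀] [IsScalarTower R B N₀]
    [Module.FinitePresentation B N₀]
    [AddCommGroup M] [Module S' M] [Module B M] [IsScalarTower B S' M] [Module R' M]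
    [IsScalarTower R' S' M] [Module R M] [IsScalarTower R S' M] [IsScalarTower R B M]
    [AddCommGroup N] [Module S' N] [Module B N] [IsScalarTower B S' N] [Module R' N]
    [IsScalarTower R' S' N] [Module R N] [IsScalarTower R S' N] [IsScalarTower R B N]
    [IsScalarTower R R' N]
    (fM : M₀ →ₗ[B] M) [IsLocalizedModule Q.primeCompl fM]
    (fN : N₀ →ₗ[B] N) [IsLocalizedModule Q.primeCompl fN]
    (u₀ : M₀ →ₗ[B] N₀) (u : M →ₗ[S'] N) (hcomm : ∀ x, fN (u₀ x) = u (fM x))
    [Module.Flat R' N] :
    (Injective u ∧ Module.Flat R' (N ⧸ LinearMap.range u)) ↔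
      ∀ m : M, u m ∈ ((maximalIdeal R').map (algebraMap R' S')) • (⊤ : Submodule S' N) →
        m ∈ ((maximalIdeal R').map (algebraMap R' S')) • (⊤ : Submodule S' M) := by
  classical
  constructor
  · rintro ⟨hinj, hfl⟩ m hm
    haveI := hfl
    exact mem_of_map_mem_of_flat_coker u hinj (maximalIdeal R') m hm
  · intro hu
    -- the primes
    have hQ' : (maximalIdeal S').comap (algebraMap B S') = Q :=
      IsLocalization.AtPrime.under_maximalIdeal S' Q
    have hp' : (maximalIdeal R').comap (algebraMap R R') = p :=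
      IsLocalization.AtPrime.under_maximalIdeal R' p
    have hp : Q.comap (algebraMap R B) = p := by
      rw [← hQ', Ideal.comap_comap,
        ← IsScalarTower.algebraMap_eq, IsScalarTower.algebraMap_eq R R' S', ← Ideal.comap_comap,
        IsLocalRing.maximalIdeal_comap (algebraMap R' S'), hp']
    have hJ : (maximalIdeal R').map (algebraMap R' S') = p.map (algebraMap R S') := by
      rw [← IsLocalization.AtPrime.map_eq_maximalIdeal p R', Ideal.map_map,
        ← IsScalarTower.algebraMap_eq]
    rw [hJ] at hu
    -- flatness of the model at `Q`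
    haveI hflR : Module.Flat R N :=
      (Module.flat_iff_of_isLocalization R' p.primeCompl N).mp inferInstance
    let e : LocalizedModule Q.primeCompl N₀ ≃ₗ[B] N := IsLocalizedModule.iso Q.primeCompl fN
    haveI : Module.Flat R (LocalizedModule Q.primeCompl N₀) :=
      Module.Flat.of_linearEquiv (e.restrictScalars R)
    have hfib : ∀ x : M₀, (∃ t : B, t ∉ Q ∧ t • u₀ x ∈
          ((Q.comap (algebraMap R B)).map (algebraMap R B)) • (⊤ : Submodule B N₀)) →
        ∃ t' : B, t' ∉ Q ∧ t' • x ∈
          ((Q.comap (algebraMap R B)).map (algebraMap R B)) • (⊤ : Submodule B M₀) := by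
      rintro x ⟨t, ht, htx⟩
      rw [hp] at htx ⊢
      rw [mem_map_smul_top_iff] at htx
      have h1 : fN (u₀ x) ∈ p • (⊤ : Submodule R N) :=
        map_mem_of_smul_mem Q.primeCompl fN p (u₀ x) t ht htx
      rw [hcomm] at h1
      have h3 := hu (fM x) ((mem_map_smul_top_iff (S := S') _ _).mpr h1)
      rw [mem_map_smul_top_iff] at h3
      obtain ⟨t', ht', ht'x⟩ := exists_smul_mem_of_map_mem Q.primeCompl fM p x h3
      exact ⟨t', ht', (mem_map_smul_top_iff _ _).mpr ht'x⟩
    obtain ⟨hinj₀, hfl₀⟩ :=
      Groth.Agent.Helper7.InjFlatGlobal.global_inj_flat (R := R) u₀ Q hfib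
    refine ⟨injective_of_locInj Q.primeCompl fM fN u₀ u hcomm hinj₀, ?_⟩
    obtain ⟨e₁⟩ := exists_linearEquiv_coker (R := R) Q.primeCompl fM fN u₀ u hcomm
    haveI := hfl₀
    haveI : Module.Flat R (N ⧸ LinearMap.range u) := Module.Flat.of_linearEquiv e₁
    exact (Module.flat_iff_of_isLocalization R' p.primeCompl (N ⧸ LinearMap.range u)).mpr
      inferInstance

end Groth.Agent.Helper7.InjFlatCore
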