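import Mathlib
import Groth.Prelude.Def_FlatMod2
import Groth.Agent.Lib.Helper21.ModFlat1
import Groth.Agent.Lib.Helper13.QCohKer
import Groth.Agent.Lib.Helper13.EpiStalk
import Groth.Agent.Lib.Helper3.CohLenAdd
import Groth.Agent.Lib.Helper7.InjFlatCore

/-!
# EGA IV 11.3.7 for schemes: stalk criterion (helper7)
-/

set_option autoImplicit false
set_option linter.style.haveILetI false
set_option linter.unusedSectionVars false

open CategoryTheory AlgebraicGeometry Limits Opposite TopologicalSpace TensorProduct Function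

universe u

namespace Groth.Agent.Helper7.StalkInjFlat

open Groth.Agent.Helper13.QCoh Groth.Agent.Helper13.QCohLoc Groth.Agent.Helper3.CohLenAdd

section Coker

variable {X : Scheme.{u}} {F F' : X.Modules} (u : F' ⟶ F) (x : X)

/-- The stalk of the cokernel is the cokernel of the stalk map. -/
theorem exists_linearEquiv_stalk_cokernel :
    Nonempty ((F.presheaf.stalk x ⧸ LinearMap.range (stalkLin u x)) ≃ₗ[X.presheaf.stalk x]
      (cokernel u).presheaf.stalk x) := by
  let T : ShortComplex X.Modules :=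
    ShortComplex.mk (Abelian.image.ι u) (cokernel.π u) (by simp)
  have hTe : T.Exact := ShortComplex.exact_kernel (cokernel.π u)
  haveI : Mono T.f := (inferInstance : Mono (Abelian.image.ι u))
  haveI : Epi T.g := (inferInstance : Epi (cokernel.π u))
  have hT : T.ShortExact := ShortComplex.ShortExact.mk' hTe inferInstance inferInstance
  obtain ⟨-, hsurj, hex⟩ := stalk_shortExact T hT x
  have hrk : LinearMap.range (stalkLin u x) = LinearMap.ker (stalkLin (cokernel.π u) x) := by
    ext z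
    rw [LinearMap.mem_ker]
    constructor
    · rintro ⟨m, rfl⟩
      change stalkMap (cokernel.π u) x (stalkMap u x m) = 0
      rw [← stalkMap_comp, cokernel.condition, stalkMap_zero]
    · intro hz
      obtain ⟨m₁, hm₁⟩ := (hex z).mp hz
      obtain ⟨m, hm⟩ := Groth.Agent.Helper13.FinType.stalkMap_surjective_of_epi
        (Abelian.factorThruImage u) x m₁
      refine ⟨m, ?_⟩
      change stalkMap u x m = z
      rw [← hm₁, ← hm]
      change _ = stalkMap (Abelian.image.ι u) x (stalkMap (Abelian.factorThruImage u) x m)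
      rw [← stalkMap_comp, Abelian.image.fac]
  exact ⟨(Submodule.quotEquivOfEq _ _ hrk).trans
    ((stalkLin (cokernel.π u) x).quotKerEquivOfSurjective hsurj)⟩

end Coker

section Main

variable {X Y : Scheme.{u}} (f : X ⟶ Y) [LocallyOfFinitePresentation f] (F F' : X.Modules)
  [F.IsQuasicoherent] [F'.IsQuasicoherent]
  [hF : SheafOfModules.IsFinitePresentation (R := X.ringCatSheaf) F]
  [hF' : SheafOfModules.IsFinitePresentation (R := X.ringCatSheaf) F']
  (u : F' ⟶ F) (x : X)

set_option maxHeartbeats 6400000 in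
set_option synthInstance.maxHeartbeats 400000 in
/-- EGA IV 11.3.7, a) ⟺ b): stalk criterion. -/
theorem main (hflat : FlatMod.IsFlatOverAt f F x) :
    (Function.Injective (stalkMap u x) ∧ FlatMod.IsFlatOverAt f (cokernel u) x) ↔
      ∀ m : ↑(F'.presheaf.stalk x),
        stalkMap u x m ∈ ((Ideal.map (f.stalkMap x).hom
            (IsLocalRing.maximalIdeal ↑(Y.presheaf.stalk (f x)))) •
          (⊤ : Submodule ↑(X.presheaf.stalk x) ↑(F.presheaf.stalk x))) →
        m ∈ ((Ideal.map (f.stalkMap x).hom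
            (IsLocalRing.maximalIdeal ↑(Y.presheaf.stalk (f x)))) •
          (⊤ : Submodule ↑(X.presheaf.stalk x) ↑(F'.presheaf.stalk x))) := by
  obtain ⟨W, hW, hfx, _⟩ := TopologicalSpace.Opens.isBasis_iff_nbhd.mp Y.isBasis_affineOpens
    (TopologicalSpace.Opens.mem_top <| f x)
  obtain ⟨U, hU, hxU, e⟩ := TopologicalSpace.Opens.isBasis_iff_nbhd.mp X.isBasis_affineOpens
    (show x ∈ f ⁻¹ᵁ W from hfx)
  have hφ : (f.appLE W U e).hom.FinitePresentation :=
    HasRingHomProperty.appLE @LocallyOfFinitePresentation f inferInstance ⟨W, hW⟩ ⟨U, hU⟩ e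
  algebraize [(f.appLE W U e).hom]
  have hxW : f x ∈ W := e hxU
  letI mRN₀ : Module Γ(Y, W) Γ(F, U) := Module.compHom Γ(F, U) (f.appLE W U e).hom
  haveI : IsScalarTower Γ(Y, W) Γ(X, U) Γ(F, U) :=
    IsScalarTower.of_algebraMap_smul (fun _ _ => rfl)
  letI mRM₀ : Module Γ(Y, W) Γ(F', U) := Module.compHom Γ(F', U) (f.appLE W U e).hom
  haveI : IsScalarTower Γ(Y, W) Γ(X, U) Γ(F', U) :=
    IsScalarTower.of_algebraMap_smul (fun _ _ => rfl)
  haveI : Module.FinitePresentation Γ(X, U) Γ(F, U) :=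
    Groth.Agent.Helper13.LocFree.finitePresentation_sections_of_isFinitePresentation F hU
  haveI : Module.FinitePresentation Γ(X, U) Γ(F', U) :=
    Groth.Agent.Helper13.LocFree.finitePresentation_sections_of_isFinitePresentation F' hU
  -- the stalk rings
  letI algBBp : Algebra Γ(X, U) (X.presheaf.stalk x) :=
    X.presheaf.algebra_section_stalk ⟨x, hxU⟩
  letI algAAq : Algebra Γ(Y, W) (Y.presheaf.stalk (f x)) :=
    Y.presheaf.algebra_section_stalk ⟨f x, hxW⟩
  letI algAqBp : Algebra (Y.presheaf.stalk (f x)) (X.presheaf.stalk x) :=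
    (f.stalkMap x).hom.toAlgebra
  letI algABp : Algebra Γ(Y, W) (X.presheaf.stalk x) :=
    ((algebraMap Γ(X, U) (X.presheaf.stalk x)).comp (algebraMap Γ(Y, W) Γ(X, U))).toAlgebra
  haveI : IsScalarTower Γ(Y, W) Γ(X, U) (X.presheaf.stalk x) :=
    IsScalarTower.of_algebraMap_eq (fun _ => rfl)
  haveI : IsScalarTower Γ(Y, W) (Y.presheaf.stalk (f x)) (X.presheaf.stalk x) := by
    refine IsScalarTower.of_algebraMap_eq (fun r => ?_)
    change X.presheaf.germ U x hxU (algebraMap Γ(Y, W) Γ(X, U) r) =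
      f.stalkMap x (Y.presheaf.germ W (f x) hxW r)
    rw [RingHom.algebraMap_toAlgebra, Scheme.Hom.germ_stalkMap_apply, Scheme.Hom.appLE,
      CommRingCat.comp_apply, TopCat.Presheaf.germ_res_apply]
  haveI : IsLocalHom (algebraMap (Y.presheaf.stalk (f x)) (X.presheaf.stalk x)) :=
    (inferInstance : IsLocalHom (f.stalkMap x).hom)
  haveI h3 : IsLocalization.AtPrime (Y.presheaf.stalk (f x))
      (hW.primeIdealOf (⟨f x, hxW⟩ : W)).asIdeal := hW.isLocalization_stalk ⟨f x, hxW⟩
  haveI h4 : IsLocalization.AtPrime (X.presheaf.stalk x)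
      (hU.primeIdealOf (⟨x, hxU⟩ : U)).asIdeal := hU.isLocalization_stalk ⟨x, hxU⟩
  -- module structures on `F_x`
  letI modBN : Module Γ(X, U) (F.presheaf.stalk x) := modStalk F (⟨x, hxU⟩ : U)
  haveI : IsScalarTower Γ(X, U) (X.presheaf.stalk x) (F.presheaf.stalk x) :=
    isScalarTower_stalk F (⟨x, hxU⟩ : U)
  letI modAqN : Module (Y.presheaf.stalk (f x)) (F.presheaf.stalk x) :=
    Module.compHom (F.presheaf.stalk x) (f.stalkMap x).hom
  haveI : IsScalarTower (Y.presheaf.stalk (f x)) (X.presheaf.stalk x) (F.presheaf.stalk x) :=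
    IsScalarTower.of_algebraMap_smul (fun _ _ => rfl)
  letI modAN : Module Γ(Y, W) (F.presheaf.stalk x) :=
    Module.compHom (F.presheaf.stalk x) (algebraMap Γ(Y, W) (X.presheaf.stalk x))
  haveI : IsScalarTower Γ(Y, W) (X.presheaf.stalk x) (F.presheaf.stalk x) :=
    IsScalarTower.of_algebraMap_smul (fun _ _ => rfl)
  haveI : IsScalarTower Γ(Y, W) (Y.presheaf.stalk (f x)) (F.presheaf.stalk x) := by
    refine IsScalarTower.of_algebraMap_smul (fun r m => ?_)
    change (f.stalkMap x).hom (algebraMap Γ(Y, W) (Y.presheaf.stalk (f x)) r) • m =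
      algebraMap Γ(Y, W) (X.presheaf.stalk x) r • m
    rw [IsScalarTower.algebraMap_apply Γ(Y, W) (Y.presheaf.stalk (f x)) (X.presheaf.stalk x)]
    rfl
  haveI : IsScalarTower Γ(Y, W) Γ(X, U) (F.presheaf.stalk x) := by
    refine IsScalarTower.of_algebraMap_smul (fun r m => ?_)
    change algebraMap Γ(X, U) (X.presheaf.stalk x) (algebraMap Γ(Y, W) Γ(X, U) r) • m =
      algebraMap Γ(Y, W) (X.presheaf.stalk x) r • m
    rfl
  -- module structures on `F'_x`
  letI modBM : Module Γ(X, U) (F'.presheaf.stalk x) := modStalk F' (⟨x, hxU⟩ : U)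
  haveI : IsScalarTower Γ(X, U) (X.presheaf.stalk x) (F'.presheaf.stalk x) :=
    isScalarTower_stalk F' (⟨x, hxU⟩ : U)
  letI modAqM : Module (Y.presheaf.stalk (f x)) (F'.presheaf.stalk x) :=
    Module.compHom (F'.presheaf.stalk x) (f.stalkMap x).hom
  haveI : IsScalarTower (Y.presheaf.stalk (f x)) (X.presheaf.stalk x) (F'.presheaf.stalk x) :=
    IsScalarTower.of_algebraMap_smul (fun _ _ => rfl)
  letI modAM : Module Γ(Y, W) (F'.presheaf.stalk x) :=
    Module.compHom (F'.presheaf.stalk x) (algebraMap Γ(Y, W) (X.presheaf.stalk x))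
  haveI : IsScalarTower Γ(Y, W) (X.presheaf.stalk x) (F'.presheaf.stalk x) :=
    IsScalarTower.of_algebraMap_smul (fun _ _ => rfl)
  haveI : IsScalarTower Γ(Y, W) Γ(X, U) (F'.presheaf.stalk x) := by
    refine IsScalarTower.of_algebraMap_smul (fun r m => ?_)
    change algebraMap Γ(X, U) (X.presheaf.stalk x) (algebraMap Γ(Y, W) Γ(X, U) r) • m =
      algebraMap Γ(Y, W) (X.presheaf.stalk x) r • m
    rfl
  haveI h2 := isLocalizedModule_germ F hU (⟨x, hxU⟩ : U)
  haveI h2' := isLocalizedModule_germ F' hU (⟨x, hxU⟩ : U)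
  haveI hfl : Module.Flat (Y.presheaf.stalk (f x)) (F.presheaf.stalk x) := hflat
  -- the map on sections
  let u₀ : Γ(F', U) →ₗ[Γ(X, U)] Γ(F, U) :=
    { toFun := fun m => u.app U m
      map_add' := fun a b => map_add _ a b
      map_smul' := fun r m => Scheme.Modules.Hom.app_smul u r m }
  have hcomm : ∀ m : Γ(F', U), germLin F (⟨x, hxU⟩ : U) (u₀ m) =
      stalkLin u x (germLin F' (⟨x, hxU⟩ : U) m) := fun m =>
    (stalkMap_germ u x U hxU m).symm
  have key := Groth.Agent.Helper7.InjFlatCore.alg_core (R := Γ(Y, W)) (B := Γ(X, U))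
    (R' := Y.presheaf.stalk (f x)) (S' := X.presheaf.stalk x)
    (hU.primeIdealOf (⟨x, hxU⟩ : U)).asIdeal (hW.primeIdealOf (⟨f x, hxW⟩ : W)).asIdeal
    (germLin F' (⟨x, hxU⟩ : U)) (germLin F (⟨x, hxU⟩ : U)) u₀ (stalkLin u x) hcomm
  -- the cokernel
  obtain ⟨ec⟩ := exists_linearEquiv_stalk_cokernel u x
  letI modAqC : Module (Y.presheaf.stalk (f x)) ((cokernel u).presheaf.stalk x) :=
    Module.compHom ((cokernel u).presheaf.stalk x) (f.stalkMap x).hom
  haveI : IsScalarTower (Y.presheaf.stalk (f x)) (X.presheaf.stalk x)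
      ((cokernel u).presheaf.stalk x) := IsScalarTower.of_algebraMap_smul (fun _ _ => rfl)
  have hC : FlatMod.IsFlatOverAt f (cokernel u) x ↔
      Module.Flat (Y.presheaf.stalk (f x))
        (F.presheaf.stalk x ⧸ LinearMap.range (stalkLin u x)) :=
    (Module.Flat.equiv_iff (ec.restrictScalars (Y.presheaf.stalk (f x)))).symm
  rw [hC]
  exact key

end Main

end Groth.Agent.Helper7.StalkInjFlat
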