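import Mathlib
import Groth.Agent.Lib.Helper7.Graded

set_option autoImplicit false

universe u

namespace Groth.Agent.Helper7.Graded

open DirectSum

variable {R A : Type u} [CommRing R] [CommRing A] [Algebra R A]
  (𝒜 : ℕ → Submodule R A) [GradedAlgebra 𝒜]

/-- bounded exponents: homogeneous elements of large degree lie in the ideal generated by
powers of the generators. -/
theorem le_span_pow_of_lt (s : Finset A) (deg : A → ℕ) (hdegpos : ∀ e ∈ s, 0 < deg e)
    (hdeg : ∀ e ∈ s, e ∈ 𝒜 (deg e))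
    (hs : (HomogeneousIdeal.irrelevant 𝒜).toIdeal = Ideal.span (s : Set A)) :
    ∀ (N : ℕ) (c : A → ℕ), ∑ e ∈ s, c e = N → ∀ m : ℕ, ∑ e ∈ s, c e * deg e < m →
      (𝒜 m : Set A) ⊆ (Ideal.span ((fun e => e ^ (c e + 1)) '' (s : Set A)) : Ideal A) := by
  classical
  intro N
  induction N with
  | zero =>
    intro c hc m hm x hx
    have hc0 : ∀ e ∈ s, c e = 0 := by
      intro e he
      exact (Finset.sum_eq_zero_iff.mp hc) e he
    have hxirr : x ∈ Ideal.span (s : Set A) := hs ▸ mem_irrelevant_of_mem_pos 𝒜 (by omega) hx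
    refine (Ideal.span_mono ?_) hxirr
    intro e he
    exact ⟨e, he, by simp [hc0 e he]⟩
  | succ N ih =>
    intro c hc m hm x hx
    have hxirr : x ∈ Ideal.span (s : Set A) := hs ▸ mem_irrelevant_of_mem_pos 𝒜 (by omega) hx
    have := mem_closure_of_mem_span 𝒜 deg (fun e he => hdeg e he) hx hxirr
    have hsub : AddSubmonoid.closure
        {y : A | ∃ e ∈ (s : Set A), deg e ≤ m ∧ ∃ a ∈ 𝒜 (m - deg e), y = a * e} ≤
        (Ideal.span ((fun e => e ^ (c e + 1)) '' (s : Set A)) : Ideal A).toAddSubmonoid := by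
      rw [AddSubmonoid.closure_le]
      rintro y ⟨e, he, hle, a, ha, rfl⟩
      rcases Nat.eq_zero_or_pos (c e) with hce | hce
      · apply Ideal.mul_mem_left
        apply Ideal.subset_span
        exact ⟨e, he, by simp [hce]⟩
      · -- use induction hypothesis with c' = update c e (c e - 1)
        let c' : A → ℕ := Function.update c e (c e - 1)
        have hc'e : c' e = c e - 1 := Function.update_self ..
        have hc'ne : ∀ e', e' ≠ e → c' e' = c e' := fun e' h => Function.update_of_ne h ..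
        have hsum1 : ∑ e' ∈ s, c e' = ∑ e' ∈ s.erase e, c e' + c e := by
          rw [Finset.sum_erase_add _ _ he]
        have hsum1' : ∑ e' ∈ s, c' e' = ∑ e' ∈ s.erase e, c e' + (c e - 1) := by
          rw [← Finset.sum_erase_add _ _ he, hc'e]
          congr 1
          exact Finset.sum_congr rfl fun e' he' => hc'ne e' (Finset.ne_of_mem_erase he')
        have hsum2 : ∑ e' ∈ s, c e' * deg e' = ∑ e' ∈ s.erase e, c e' * deg e' + c e * deg e := by
          rw [Finset.sum_erase_add _ _ he]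
        have hsum2' : ∑ e' ∈ s, c' e' * deg e' =
            ∑ e' ∈ s.erase e, c e' * deg e' + (c e - 1) * deg e := by
          rw [← Finset.sum_erase_add _ _ he, hc'e]
          congr 1
          exact Finset.sum_congr rfl fun e' he' => by rw [hc'ne e' (Finset.ne_of_mem_erase he')]
        have hN : ∑ e' ∈ s, c' e' = N := by omega
        have hm' : ∑ e' ∈ s, c' e' * deg e' < m - deg e := by
          have h3 : (c e - 1) * deg e + deg e = c e * deg e := by
            obtain ⟨k, hk⟩ : ∃ k, c e = k + 1 := ⟨c e - 1, by omega⟩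
            rw [hk]; simp; ring
          omega
        have ha' := ih c' hN (m - deg e) hm' ha
        -- multiply by e
        have h4 : a * e ∈ (Ideal.span ((fun e => e ^ (c' e + 1)) '' (s : Set A)) : Ideal A) *
            Ideal.span {e} := Ideal.mul_mem_mul ha' (Ideal.subset_span rfl)
        rw [Ideal.span_mul_span'] at h4
        refine (Ideal.span_le.mpr ?_) h4
        rintro _ ⟨_, ⟨e', he', rfl⟩, e₂, he₂, rfl⟩
        rw [Set.mem_singleton_iff] at he₂
        rw [he₂]
        by_cases hee : e' = e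
        · subst hee
          have : e' ^ (c' e' + 1) * e' = e' ^ (c e' + 1) := by
            rw [hc'e, ← pow_succ]
            congr 1; omega
          show e' ^ (c' e' + 1) * e' ∈ _
          rw [this]
          exact Ideal.subset_span ⟨e', he', rfl⟩
        · show e' ^ (c' e' + 1) * e ∈ _
          rw [hc'ne e' hee]
          exact Ideal.mul_mem_right _ _ (Ideal.subset_span ⟨e', he', rfl⟩)
    exact hsub this


theorem mul_le_add (i j : ℕ) : 𝒜 i * 𝒜 j ≤ 𝒜 (i + j) := by
  rw [Submodule.mul_le]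
  intro a ha b hb
  exact SetLike.GradedMul.mul_mem ha hb

/-- Lemma E -/
theorem exists_le_mul [Algebra.FiniteType (𝒜 0) A] :
    ∃ q n₀ : ℕ, 0 < q ∧ ∀ n, n₀ ≤ n → 𝒜 (n + q) ≤ 𝒜 q * 𝒜 n := by
  classical
  obtain ⟨s, hs, hs'⟩ := exists_finset_irrelevant_eq_span 𝒜
  choose! deg hdegpos hdeg using hs'
  let q := ∏ e ∈ s, deg e
  have hq : 0 < q := Finset.prod_pos hdegpos
  have hdvd : ∀ e ∈ s, deg e ∣ q := fun e he => Finset.dvd_prod_of_mem deg he
  let c : A → ℕ := fun e => q / deg e - 1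
  have hc1 : ∀ e ∈ s, c e + 1 = q / deg e := by
    intro e he
    have : 0 < q / deg e := Nat.div_pos (Nat.le_of_dvd hq (hdvd e he)) (hdegpos e he)
    simp only [c]; omega
  have hc2 : ∀ e ∈ s, c e * deg e ≤ q := by
    intro e he
    calc c e * deg e ≤ (q / deg e) * deg e := Nat.mul_le_mul_right _ (Nat.sub_le _ _)
      _ = q := Nat.div_mul_cancel (hdvd e he)
  have hsum : ∑ e ∈ s, c e * deg e ≤ s.card * q := by
    calc ∑ e ∈ s, c e * deg e ≤ ∑ _e ∈ s, q := Finset.sum_le_sum hc2
      _ = s.card * q := by simp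
  have hg : ∀ e ∈ s, e ^ (c e + 1) ∈ 𝒜 q := by
    intro e he
    have := SetLike.pow_mem_graded (c e + 1) (hdeg e he)
    rw [hc1 e he, smul_eq_mul, Nat.div_mul_cancel (hdvd e he)] at this
    rw [hc1 e he]
    exact this
  refine ⟨q, s.card * q, hq, fun n hn x hx => ?_⟩
  have hx1 : x ∈ (Ideal.span ((fun e => e ^ (c e + 1)) '' (s : Set A)) : Ideal A) :=
    le_span_pow_of_lt 𝒜 s deg hdegpos hdeg hs _ c rfl (n + q) (by omega) hx
  have hdeg' : ∀ e' ∈ (fun e => e ^ (c e + 1)) '' (s : Set A), e' ∈ 𝒜 ((fun _ : A => q) e') := by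
    rintro _ ⟨e, he, rfl⟩
    exact hg e he
  have := mem_closure_of_mem_span 𝒜 (fun _ => q) hdeg' hx hx1
  have hsub : AddSubmonoid.closure
      {y : A | ∃ e ∈ (fun e => e ^ (c e + 1)) '' (s : Set A), q ≤ n + q ∧
        ∃ a ∈ 𝒜 (n + q - q), y = a * e} ≤ (𝒜 q * 𝒜 n).toAddSubmonoid := by
    rw [AddSubmonoid.closure_le]
    rintro y ⟨e', he', -, a, ha, rfl⟩
    rw [Nat.add_sub_cancel] at ha
    rw [mul_comm a e']
    exact Submodule.mul_mem_mul (hdeg' e' he') ha
  exact hsub this

/-- iterate Lemma E -/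
theorem le_mul_of_le_mul {q n₀ : ℕ} (h : ∀ n, n₀ ≤ n → 𝒜 (n + q) ≤ 𝒜 q * 𝒜 n) (k : ℕ) :
    ∀ n, n₀ ≤ n → 𝒜 (n + k * q) ≤ 𝒜 (k * q) * 𝒜 n := by
  induction k with
  | zero =>
    intro n _
    simp only [zero_mul, add_zero]
    intro x hx
    have : x = 1 * x := (one_mul x).symm
    rw [this]
    exact Submodule.mul_mem_mul (SetLike.GradedOne.one_mem) hx
  | succ k ih =>
    intro n hn
    have h1 : n + (k + 1) * q = (n + k * q) + q := by ring
    rw [h1]
    calc 𝒜 (n + k * q + q) ≤ 𝒜 q * 𝒜 (n + k * q) := h _ (by omega)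
      _ ≤ 𝒜 q * (𝒜 (k * q) * 𝒜 n) := mul_le_mul' le_rfl (ih n hn)
      _ = (𝒜 q * 𝒜 (k * q)) * 𝒜 n := (mul_assoc _ _ _).symm
      _ ≤ 𝒜 ((k + 1) * q) * 𝒜 n := by
        refine mul_le_mul' ?_ le_rfl
        have : (k + 1) * q = q + k * q := by ring
        rw [this]
        exact mul_le_add 𝒜 _ _

/-- S4393 -/
theorem exists_pow_eq [Algebra.FiniteType (𝒜 0) A] :
    ∃ h : ℕ, 0 < h ∧ ∀ m : ℕ, 0 < m → 𝒜 (m * h) = (𝒜 h : Submodule R A) ^ m := by
  obtain ⟨q, n₀, hq, hE⟩ := exists_le_mul 𝒜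
  refine ⟨(n₀ + 1) * q, by positivity, ?_⟩
  have hge : n₀ ≤ (n₀ + 1) * q := by nlinarith
  intro m hm
  obtain ⟨m, rfl⟩ : ∃ k, m = k + 1 := ⟨m - 1, by omega⟩
  clear hm
  induction m with
  | zero => simp
  | succ m ih =>
    apply le_antisymm
    · have h1 : (m + 1 + 1) * ((n₀ + 1) * q) = (m + 1) * ((n₀ + 1) * q) + (n₀ + 1) * q := by ring
      rw [h1, pow_succ', ← ih]
      refine le_mul_of_le_mul 𝒜 hE (n₀ + 1) _ ?_
      nlinarith
    · rw [pow_succ, ← ih]
      have h1 : (m + 1 + 1) * ((n₀ + 1) * q) = (m + 1) * ((n₀ + 1) * q) + (n₀ + 1) * q := by ring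
      rw [h1]
      exact mul_le_add 𝒜 _ _


section Module

variable {M : Type u} [AddCommGroup M] [Module R M] [Module A M] [IsScalarTower R A M]
  (ℳ : ℕ → Submodule R M) [DirectSum.Decomposition ℳ] [SetLike.GradedSMul 𝒜 ℳ]

omit [IsScalarTower R A M] in
theorem coe_decompose_smul_of_mem {y : M} {k : ℕ} (hy : y ∈ ℳ k) (n : ℕ) (a : A) :
    ((decompose ℳ (a • y) n : ℳ n) : M) =
      if k ≤ n then ((decompose 𝒜 a (n - k) : 𝒜 (n - k)) : A) • y else 0 := by
  classical
  induction a using DirectSum.Decomposition.inductionOn 𝒜 with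
  | zero => simp
  | @homogeneous i a =>
    have hmem : (a : A) • y ∈ ℳ (i + k) := SetLike.GradedSMul.smul_mem a.2 hy
    by_cases hk : k ≤ n
    · rw [if_pos hk]
      by_cases hik : i + k = n
      · have h1 : n - k = i := by omega
        subst hik
        rw [decompose_of_mem_same ℳ hmem]
        have h2 : ((decompose 𝒜 (a : A) (i + k - k) : 𝒜 (i + k - k)) : A) = a := by
          rw [decompose_of_mem 𝒜 a.2]
          have : i + k - k = i := by omega
          rw [this, DirectSum.of_eq_same]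
        rw [h2]
      · rw [decompose_of_mem_ne ℳ hmem hik]
        have h2 : ((decompose 𝒜 (a : A) (n - k) : 𝒜 (n - k)) : A) = 0 := by
          rw [decompose_of_mem_ne 𝒜 a.2 (by omega)]
        rw [h2, zero_smul]
    · rw [if_neg hk]
      rw [decompose_of_mem_ne ℳ hmem (by omega)]
  | add a b ha hb =>
    rw [add_smul, decompose_add, DirectSum.add_apply, Submodule.coe_add, ha, hb]
    split_ifs
    · rw [decompose_add, DirectSum.add_apply, Submodule.coe_add, add_smul]
    · simp

theorem mem_closure_of_mem_span_module {Y : Set M} (deg : M → ℕ)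
    (hdeg : ∀ y ∈ Y, y ∈ ℳ (deg y))
    {n : ℕ} {x : M} (hx : x ∈ ℳ n) (hxY : x ∈ Submodule.span A Y) :
    x ∈ AddSubmonoid.closure
      {z : M | ∃ y ∈ Y, deg y ≤ n ∧ ∃ a ∈ 𝒜 (n - deg y), z = a • y} := by
  classical
  obtain ⟨l, hl⟩ := (Finsupp.mem_span_iff_linearCombination A Y x).mp hxY
  have h1 : x = ∑ y ∈ l.support, ((decompose ℳ (l y • (y : M)) n : ℳ n) : M) := by
    conv_lhs => rw [← decompose_of_mem_same ℳ hx, ← hl, Finsupp.linearCombination_apply,
      Finsupp.sum, decompose_sum, DFinsupp.finsetSum_apply, AddSubmonoidClass.coe_finsetSum]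
  rw [h1]
  refine AddSubmonoid.sum_mem _ fun y _ => ?_
  rw [coe_decompose_smul_of_mem 𝒜 ℳ (hdeg y y.2)]
  split_ifs with hle
  · exact AddSubmonoid.subset_closure ⟨y, y.2, hle, _, (decompose 𝒜 (l y) (n - deg (y : M))).2, rfl⟩
  · exact AddSubmonoid.zero_mem _

/-- S4392 -/
theorem exists_eventually_eq_smul [Algebra.FiniteType (𝒜 0) A] [Module.Finite A M] :
    ∃ (n₁ h : ℕ), 0 < h ∧ ∀ n : ℕ, n₁ ≤ n →
      ℳ (n + h) = (𝒜 h : Submodule R A) • (ℳ n : Submodule R M) := by
  classical
  obtain ⟨q, n₀, hq, hE⟩ := exists_le_mul 𝒜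
  obtain ⟨T, hT⟩ := (Module.finite_def (R := A) (M := M)).mp inferInstance
  -- homogeneous generators
  let Y : Finset M := T.biUnion fun t =>
    (decompose ℳ t).support.image fun i => ((decompose ℳ t i : ℳ i) : M)
  have hYhom : ∀ y ∈ Y, ∃ k, y ∈ ℳ k := by
    intro y hy
    simp only [Y, Finset.mem_biUnion, Finset.mem_image] at hy
    obtain ⟨t, -, i, -, rfl⟩ := hy
    exact ⟨i, (decompose ℳ t i).2⟩
  choose! deg hdeg using hYhom
  have hYspan : Submodule.span A (Y : Set M) = ⊤ := by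
    rw [eq_top_iff, ← hT, Submodule.span_le]
    intro t ht
    rw [← DirectSum.sum_support_decompose ℳ t]
    refine Submodule.sum_mem _ fun i hi => Submodule.subset_span ?_
    simp only [Y, Finset.coe_biUnion, Finset.coe_image, Set.mem_iUnion, Set.mem_image]
    exact ⟨t, ht, i, hi, rfl⟩
  let K := Y.sup deg
  have hK : ∀ y ∈ Y, deg y ≤ K := fun y hy => Finset.le_sup hy
  refine ⟨n₀ + K, q, hq, fun n hn => le_antisymm ?_ ?_⟩
  · intro x hx
    have hxY : x ∈ Submodule.span A (Y : Set M) := hYspan ▸ Submodule.mem_top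
    have := mem_closure_of_mem_span_module 𝒜 ℳ deg (fun y hy => hdeg y hy) hx hxY
    have hsub : AddSubmonoid.closure
        {z : M | ∃ y ∈ (Y : Set M), deg y ≤ n + q ∧ ∃ a ∈ 𝒜 (n + q - deg y), z = a • y} ≤
        ((𝒜 q : Submodule R A) • (ℳ n : Submodule R M)).toAddSubmonoid := by
      rw [AddSubmonoid.closure_le]
      rintro z ⟨y, hy, -, a, ha, rfl⟩
      have hdy := hK y hy
      have h1 : n + q - deg y = (n - deg y) + q := by omega
      rw [h1] at ha
      have ha2 := hE (n - deg y) (by omega) ha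
      -- a ∈ 𝒜 q * 𝒜 (n - deg y)
      refine Submodule.mul_induction_on ha2 ?_ ?_
      · intro b hb c hc
        rw [mul_smul]
        refine Submodule.smul_mem_smul hb ?_
        have : c • y ∈ ℳ ((n - deg y) + deg y) := SetLike.GradedSMul.smul_mem hc (hdeg y hy)
        have h2 : n - deg y + deg y = n := by omega
        rwa [h2] at this
      · intro b c hb hc
        rw [add_smul]
        exact Submodule.add_mem _ hb hc
    exact hsub this
  · rw [Submodule.smul_le]
    intro a ha y hy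
    have : a • y ∈ ℳ (q + n) := SetLike.GradedSMul.smul_mem ha hy
    rwa [add_comm] at this

end Module

end Groth.Agent.Helper7.Graded
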