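import Mathlib
import Groth.Agent.Lib.Helper7.Graded2

set_option autoImplicit false

universe u

namespace Groth.Agent.Helper7.Graded

open DirectSum

variable {R A : Type u} [CommRing R] [CommRing A] [Algebra R A]
  (𝒜 : ℕ → Submodule R A) [GradedAlgebra 𝒜]

/-- each graded piece is "finitely generated over degree zero". -/
theorem exists_finset_piece [Algebra.FiniteType (𝒜 0) A] (m : ℕ) :
    ∃ G : Finset A, (∀ g ∈ G, g ∈ 𝒜 m) ∧ ∀ x ∈ 𝒜 m,
      x ∈ AddSubmonoid.closure {y : A | ∃ c ∈ 𝒜 0, ∃ g ∈ G, y = c * g} := by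
  classical
  obtain ⟨s, hs, hs'⟩ := exists_finset_irrelevant_eq_span 𝒜
  choose! deg hdegpos hdeg using hs'
  induction m using Nat.strong_induction_on with
  | _ m ih =>
    rcases Nat.eq_zero_or_pos m with rfl | hm
    · refine ⟨{1}, ?_, ?_⟩
      · intro g hg
        rw [Finset.mem_singleton] at hg
        rw [hg]; exact SetLike.GradedOne.one_mem
      · intro x hx
        exact AddSubmonoid.subset_closure ⟨x, hx, 1, Finset.mem_singleton_self 1, (mul_one x).symm⟩
    · choose G hG1 hG2 using ih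
      let s' := s.filter fun e => deg e ≤ m
      have hlt : ∀ e ∈ s', m - deg e < m := by
        intro e he
        have h1 := (Finset.mem_filter.mp he)
        have := hdegpos e h1.1
        omega
      let Gm : Finset A := s'.attach.biUnion fun e => (G (m - deg e.1) (hlt e.1 e.2)).image (· * e.1)
      refine ⟨Gm, ?_, ?_⟩
      · intro g hg
        simp only [Gm, Finset.mem_biUnion, Finset.mem_image, Finset.mem_attach, true_and] at hg
        obtain ⟨e, g', hg', rfl⟩ := hg
        have h1 := (Finset.mem_filter.mp e.2)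
        have := SetLike.GradedMul.mul_mem (hG1 _ (hlt e.1 e.2) g' hg') (hdeg e.1 h1.1)
        have h2 : m - deg e.1 + deg e.1 = m := by have := h1.2; omega
        rwa [h2] at this
      · intro x hx
        have hxirr : x ∈ Ideal.span (s : Set A) := hs ▸ mem_irrelevant_of_mem_pos 𝒜 hm hx
        have := mem_closure_of_mem_span 𝒜 deg (fun e he => hdeg e he) hx hxirr
        have hsub : AddSubmonoid.closure
            {y : A | ∃ e ∈ (s : Set A), deg e ≤ m ∧ ∃ a ∈ 𝒜 (m - deg e), y = a * e} ≤
            AddSubmonoid.closure {y : A | ∃ c ∈ 𝒜 0, ∃ g ∈ Gm, y = c * g} := by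
          rw [AddSubmonoid.closure_le]
          rintro y ⟨e, he, hle, a, ha, rfl⟩
          have hes' : e ∈ s' := Finset.mem_filter.mpr ⟨he, hle⟩
          have ha' := hG2 _ (hlt e hes') a ha
          -- multiply the closure by e
          have hmap : AddSubmonoid.closure
              {y : A | ∃ c ∈ 𝒜 0, ∃ g ∈ G (m - deg e) (hlt e hes'), y = c * g} ≤
              (AddSubmonoid.closure {y : A | ∃ c ∈ 𝒜 0, ∃ g ∈ Gm, y = c * g}).comap
                (AddMonoidHom.mulRight e) := by
            rw [AddSubmonoid.closure_le]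
            rintro z ⟨c, hc, g, hg, rfl⟩
            show c * g * e ∈ AddSubmonoid.closure {y : A | ∃ c ∈ 𝒜 0, ∃ g ∈ Gm, y = c * g}
            refine AddSubmonoid.subset_closure ⟨c, hc, g * e, ?_, by ring⟩
            simp only [Gm, Finset.mem_biUnion, Finset.mem_image, Finset.mem_attach, true_and]
            exact ⟨⟨e, hes'⟩, g, hg, rfl⟩
          exact hmap ha'
        exact hsub this


section Veronese

variable {B : Type u} [CommRing B] [Algebra R B] (ℬ : ℕ → Submodule R B) [GradedAlgebra ℬ]

/-- S4411 -/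
theorem veronese_finiteType [Algebra.FiniteType (𝒜 0) A]
    (d : ℕ) (hd : 0 < d) (φ : B →ₐ[R] A) (hφ : Function.Injective φ)
    (hdeg : ∀ n : ℕ, Submodule.map φ.toLinearMap (ℬ n) = 𝒜 (n * d)) :
    Algebra.FiniteType (ℬ 0) B := by
  classical
  rw [← irrelevant_fg_iff_finiteType]
  have ha : ∀ n, ∀ b ∈ ℬ n, φ b ∈ 𝒜 (n * d) := by
    intro n b hb
    rw [← hdeg n]
    exact ⟨b, hb, rfl⟩
  have hb : ∀ n, ∀ a ∈ 𝒜 (n * d), ∃ b ∈ ℬ n, φ b = a := by
    intro n a ha
    rw [← hdeg n] at ha
    obtain ⟨b, hb, rfl⟩ := ha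
    exact ⟨b, hb, rfl⟩
  obtain ⟨q, n₀, hq, hE⟩ := exists_le_mul 𝒜
  have hE' := le_mul_of_le_mul 𝒜 hE d
  let N := n₀ + q + 1
  -- generators of the pieces
  have hG := fun n : ℕ => exists_finset_piece 𝒜 (n * d)
  choose G hG1 hG2 using hG
  have hlift : ∀ n, ∀ g ∈ G n, ∃ b ∈ ℬ n, φ b = g := fun n g hg => hb n g (hG1 n g hg)
  choose! lift hlift1 hlift2 using hlift
  let H : Finset B := (Finset.Icc 1 N).biUnion fun n => (G n).image (lift n)
  have hHmem : ∀ h ∈ H, ∃ n, 1 ≤ n ∧ h ∈ ℬ n := by
    intro h hh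
    simp only [H, Finset.mem_biUnion, Finset.mem_image, Finset.mem_Icc] at hh
    obtain ⟨n, ⟨hn1, -⟩, g, hg, rfl⟩ := hh
    exact ⟨n, hn1, hlift1 n g hg⟩
  refine ⟨H, ?_⟩
  apply le_antisymm
  · rw [Ideal.span_le]
    intro h hh
    obtain ⟨n, hn, hmem⟩ := hHmem h hh
    exact mem_irrelevant_of_mem_pos ℬ hn hmem
  · rw [HomogeneousIdeal.irrelevant_eq_span, Ideal.span_le]
    intro x hx
    simp only [Set.mem_iUnion] at hx
    obtain ⟨n, hn, hxn⟩ := hx
    have key : ∀ n : ℕ, 0 < n → ∀ x ∈ ℬ n, x ∈ Ideal.span (H : Set B) := by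
      intro n
      induction n using Nat.strong_induction_on with
      | _ n ih =>
        intro hn x hx
        by_cases hnN : n ≤ N
        · have h1 := hG2 n (φ x) (ha n x hx)
          have h2 : ∀ y ∈ AddSubmonoid.closure {y : A | ∃ c ∈ 𝒜 0, ∃ g ∈ G n, y = c * g},
              ∃ x' ∈ Ideal.span (H : Set B), φ x' = y := by
            intro y hy
            induction hy using AddSubmonoid.closure_induction with
            | mem y hy =>
              obtain ⟨c, hc, g, hg, rfl⟩ := hy
              have hc' : c ∈ 𝒜 (0 * d) := by rwa [zero_mul]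
              obtain ⟨c', -, rfl⟩ := hb 0 c hc'
              refine ⟨c' * lift n g, Ideal.mul_mem_left _ _ (Ideal.subset_span ?_), ?_⟩
              · simp only [H, Finset.coe_biUnion, Finset.coe_image, Set.mem_iUnion, Set.mem_image,
                  Finset.mem_coe, Finset.mem_Icc]
                exact ⟨n, ⟨hn, hnN⟩, g, hg, rfl⟩
              · rw [map_mul, hlift2 n g hg]
            | zero => exact ⟨0, Ideal.zero_mem _, map_zero _⟩
            | add y z _ _ hy hz =>
              obtain ⟨y', hy', rfl⟩ := hy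
              obtain ⟨z', hz', rfl⟩ := hz
              exact ⟨y' + z', Ideal.add_mem _ hy' hz', map_add _ _ _⟩
          obtain ⟨x', hx', hxx'⟩ := h2 _ h1
          rw [← hφ hxx']
          exact hx'
        · have hnq : q + n₀ + 2 ≤ n := by simp only [N] at hnN; omega
          have h0 : n₀ ≤ (n - q) * d := by nlinarith [Nat.sub_add_cancel (show q ≤ n by omega)]
          have h1 : n * d = (n - q) * d + d * q := by
            have : n = (n - q) + q := by omega
            nlinarith
          have h2 := ha n x hx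
          rw [h1] at h2
          have h3 := hE' _ h0 h2
          have h4 : ∀ y ∈ (𝒜 (d * q) * 𝒜 ((n - q) * d) : Submodule R A),
              ∃ x' ∈ Ideal.span (H : Set B), φ x' = y := by
            intro y hy
            refine Submodule.mul_induction_on hy ?_ ?_
            · intro a haa b hbb
              have haa' : a ∈ 𝒜 (q * d) := by rwa [mul_comm]
              obtain ⟨a', -, rfl⟩ := hb q a haa'
              obtain ⟨b', hb', rfl⟩ := hb (n - q) b hbb
              exact ⟨a' * b', Ideal.mul_mem_left _ _ (ih (n - q) (by omega) (by omega) b' hb'),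
                map_mul _ _ _⟩
            · intro y z hy hz
              obtain ⟨y', hy', rfl⟩ := hy
              obtain ⟨z', hz', rfl⟩ := hz
              exact ⟨y' + z', Ideal.add_mem _ hy' hz', map_add _ _ _⟩
          obtain ⟨x', hx', hxx'⟩ := h4 _ h3
          rw [← hφ hxx']
          exact hx'
    exact key n hn x hxn

/-- S4412 -/
theorem veronese_isNoetherianRing [IsNoetherianRing A]
    (d : ℕ) (hd : 0 < d) (φ : B →ₐ[R] A) (hφ : Function.Injective φ)
    (hdeg : ∀ n : ℕ, Submodule.map φ.toLinearMap (ℬ n) = 𝒜 (n * d)) :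
    IsNoetherianRing B := by
  obtain ⟨h0, hft⟩ := (isNoetherianRing_iff 𝒜).mp inferInstance
  have hftB := veronese_finiteType 𝒜 ℬ d hd φ hφ hdeg
  rw [isNoetherianRing_iff ℬ]
  refine ⟨?_, hftB⟩
  let f : ℬ 0 →+* 𝒜 0 :=
    (GradedRing.projZeroRingHom' 𝒜).comp (φ.toRingHom.comp (algebraMap (ℬ 0) B))
  have hmem : ∀ x : ℬ 0, φ (x : B) ∈ 𝒜 0 := by
    intro x
    have : φ (x : B) ∈ Submodule.map φ.toLinearMap (ℬ 0) := ⟨x, x.2, rfl⟩
    rw [hdeg 0, zero_mul] at this
    exact this
  have hf : ∀ x : ℬ 0, ((f x : 𝒜 0) : A) = φ (x : B) := by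
    intro x
    show ((GradedRing.projZeroRingHom' 𝒜 (φ (x : B)) : 𝒜 0) : A) = φ (x : B)
    have := GradedRing.projZeroRingHom'_apply_coe 𝒜 ⟨φ (x : B), hmem x⟩
    exact congrArg Subtype.val this
  have hbij : Function.Bijective f := by
    constructor
    · intro x y hxy
      have h1 : φ (x : B) = φ (y : B) := by rw [← hf x, ← hf y, hxy]
      exact Subtype.ext (hφ h1)
    · intro a
      have ha : (a : A) ∈ Submodule.map φ.toLinearMap (ℬ 0) := by
        rw [hdeg 0, zero_mul]; exact a.2
      obtain ⟨b, hb, hba⟩ := ha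
      refine ⟨⟨b, hb⟩, Subtype.ext ?_⟩
      rw [hf]
      exact hba
  exact isNoetherianRing_of_ringEquiv (𝒜 0) (RingEquiv.ofBijective f hbij).symm

end Veronese

end Groth.Agent.Helper7.Graded
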