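import Mathlib

/-!
# A surjective ring map induces a surjection on adic completions
-/

universe u

namespace Groth.Agent.Helper7.AdicSurj

variable {P B : Type u} [CommRing P] [CommRing B] (φ : P →+* B) (J : Ideal P)

/-- the induced maps on truncations -/
noncomputable def trunc (n : ℕ) : AdicCompletion J P →+* B ⧸ (J.map φ) ^ n :=
  (Ideal.quotientMap ((J.map φ) ^ n) φ (by
    rw [← Ideal.map_pow]; exact Ideal.le_comap_map)).comp (AdicCompletion.evalₐ J n).toRingHom

theorem trunc_mk (n : ℕ) (s : AdicCompletion.AdicCauchySequence J P) :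
    trunc φ J n (AdicCompletion.mk J P s) = Ideal.Quotient.mk ((J.map φ) ^ n) (φ (s.val n)) := by
  simp [trunc]

theorem trunc_compat {m n : ℕ} (hle : m ≤ n) :
    (Ideal.Quotient.factorPow (J.map φ) hle).comp (trunc φ J n) = trunc φ J m := by
  ext x
  obtain ⟨s, rfl⟩ := AdicCompletion.mk_surjective J P x
  rw [RingHom.comp_apply, trunc_mk, trunc_mk]
  simp only [Ideal.Quotient.factorPow, Ideal.Quotient.factor_mk]
  rw [Ideal.Quotient.eq, ← map_sub, ← Ideal.map_pow]
  apply Ideal.mem_map_of_mem
  have h := s.property hle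
  rw [SModEq.comm, SModEq.sub_mem] at h
  simpa using h

/-- the induced map on completions -/
noncomputable def cplMap : AdicCompletion J P →+* AdicCompletion (J.map φ) B :=
  AdicCompletion.liftRingHom (J.map φ) (trunc φ J) (fun hle => trunc_compat φ J hle)

theorem evalₐ_cplMap (n : ℕ) (x : AdicCompletion J P) :
    AdicCompletion.evalₐ (J.map φ) n (cplMap φ J x) = trunc φ J n x :=
  AdicCompletion.evalₐ_liftRingHom _ _ _ _ _

theorem cplMap_surjective (hφ : Function.Surjective φ) : Function.Surjective (cplMap φ J) := by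
  intro y
  obtain ⟨t, rfl⟩ := AdicCompletion.mk_surjective (J.map φ) B y
  have hj : ∀ n : ℕ, ∃ j : P, j ∈ J ^ n ∧ φ j = t.val (n + 1) - t.val n := by
    intro n
    have h := t.property (Nat.le_succ n)
    rw [SModEq.comm, SModEq.sub_mem] at h
    have h' : t.val (n + 1) - t.val n ∈ (J.map φ) ^ n := by simpa using h
    rw [← Ideal.map_pow, Ideal.mem_map_iff_of_surjective φ hφ] at h'
    obtain ⟨j, hj, hjb⟩ := h'
    exact ⟨j, hj, hjb⟩
  choose j hjJ hjφ using hj
  obtain ⟨r0, hr0⟩ := hφ (t.val 0)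
  let r : ℕ → P := fun n => Nat.rec r0 (fun n rn => rn + j n) n
  have hr_succ : ∀ n, r (n + 1) = r n + j n := fun n => rfl
  have hrφ : ∀ n, φ (r n) = t.val n := by
    intro n
    induction n with
    | zero => exact hr0
    | succ n ih => rw [hr_succ, map_add, ih, hjφ]; ring
  have hcauchy : ∀ n, r n ≡ r (n + 1) [SMOD (J ^ n • ⊤ : Submodule P P)] := by
    intro n
    rw [SModEq.comm, SModEq.sub_mem, hr_succ]
    simpa using hjJ n
  refine ⟨AdicCompletion.mk J P (AdicCompletion.AdicCauchySequence.mk J P r hcauchy), ?_⟩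
  apply AdicCompletion.ext_evalₐ
  intro n
  rw [evalₐ_cplMap, trunc_mk, AdicCompletion.evalₐ_mk]
  simp [hrφ]

end Groth.Agent.Helper7.AdicSurj
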