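import Mathlib
import Groth.Prelude.Def_Found
import Groth.Agent.S9400
import Groth.Agent.S9399
import Groth.Agent.S9398
import Groth.Agent.S9394
import Groth.Agent.S9392
import Groth.Agent.S4710
import Groth.Agent.Lib.Helper7.Mono

/-!
# Affine communication lemma for ring-theoretic properties (Nagata, universally Japanese, N-2)
-/

set_option autoImplicit false
set_option linter.style.haveILetI false
set_option linter.unusedSectionVars false

namespace Groth.Agent.Helper7.AffLoc

open CategoryTheory AlgebraicGeometry TopologicalSpace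

universe u

/-- The affine communication lemma for a property of commutative rings that is invariant
under isomorphism, stable under principal localization and local for finite principal covers. -/
theorem of_affine_cover (P : ∀ (R : Type u) [CommRing R], Prop)
    (hiso : ∀ (R S : Type u) [CommRing R] [CommRing S], (R ≃+* S) → P R → P S)
    (hloc : ∀ (R : Type u) [CommRing R] (f : R), P R → P (Localization.Away f))
    (hglue : ∀ (R : Type u) [CommRing R] (s : Finset R), Ideal.span (s : Set R) = ⊤ →
       (∀ f : s, P (Localization.Away f.1)) → P R)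
    (X : Scheme.{u}) {ι : Type*} (U : ι → X.Opens) (hU : iSup U = ⊤)
    (haff : ∀ i, IsAffineOpen (U i))
    (hP : ∀ i, P Γ(X, U i)) (V : X.Opens) (hV : IsAffineOpen V) : P Γ(X, V) := by
  let S : ι → X.affineOpens := fun i => ⟨U i, haff i⟩
  have hS : (⨆ i, S i : X.Opens) = ⊤ := hU
  suffices h : ∀ W : X.affineOpens, P Γ(X, W) from h ⟨V, hV⟩
  intro W
  induction W using of_affine_open_cover S hS with
  | basicOpen U f hN =>
    haveI := U.prop.isLocalization_basicOpen f
    have hEq := IsLocalization.algEquiv (.powers f) (Localization.Away f) Γ(X, X.basicOpen f)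
    exact hiso _ _ hEq.toRingEquiv (hloc _ f hN)
  | openCover U s hs hN =>
    apply hglue _ s hs
    intro ⟨f, hf⟩
    have h1 : P Γ(X, X.basicOpen f) := hN ⟨f, hf⟩
    haveI := U.prop.isLocalization_basicOpen f
    have hEq := IsLocalization.algEquiv (.powers f) (Localization.Away f) Γ(X, X.basicOpen f)
    exact hiso _ _ hEq.symm.toRingEquiv h1
  | hU i => exact hP i

theorem isUniversallyJapanese_of_ringEquiv {R S : Type u} [CommRing R] [CommRing S]
    (e : R ≃+* S) (hR : CAlg.IsUniversallyJapanese R) : CAlg.IsUniversallyJapanese S := by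
  letI : Algebra R S := e.toRingHom.toAlgebra
  haveI : Algebra.FiniteType R S :=
    Algebra.FiniteType.of_surjective (Algebra.ofId R S) e.surjective
  exact Groth.Agent.S9398.result R hR S

theorem s9833 (X : Scheme.{u}) {ι : Type u} (U : ι → X.Opens)
    (hU : iSup U = ⊤) (haff : ∀ i, IsAffineOpen (U i)) (hN : ∀ i, CAlg.IsNagata Γ(X, U i))
    (V : X.Opens) (hV : IsAffineOpen V) : CAlg.IsNagata Γ(X, V) := by
  refine of_affine_cover (fun R _ => CAlg.IsNagata R) ?_ ?_ ?_ X U hU haff hN V hV
  · intro R S _ _ e h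
    exact Groth.Agent.Helper7.Mono.isNagata_of_ringEquiv e h
  · intro R _ f h
    exact Groth.Agent.S4710.result R h (Submonoid.powers f)
  · intro R _ s hs h
    refine Groth.Agent.S9400.result R (ι := s) (fun f => f.1) ?_ h
    rw [Subtype.range_coe_subtype]
    exact hs

theorem s9834 (X : Scheme.{u}) {ι : Type u} (U : ι → X.Opens)
    (hU : iSup U = ⊤) (haff : ∀ i, IsAffineOpen (U i))
    (hJ : ∀ i, CAlg.IsUniversallyJapanese Γ(X, U i))
    (V : X.Opens) (hV : IsAffineOpen V) : CAlg.IsUniversallyJapanese Γ(X, V) := by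
  refine of_affine_cover (fun R _ => CAlg.IsUniversallyJapanese R) ?_ ?_ ?_ X U hU haff hJ V hV
  · intro R S _ _ e h
    exact isUniversallyJapanese_of_ringEquiv e h
  · intro R _ f h
    exact Groth.Agent.S9398.result R h (Localization.Away f)
  · intro R _ s hs h
    refine Groth.Agent.S9399.result R (ι := s) (fun f => f.1) ?_ h
    rw [Subtype.range_coe_subtype]
    exact hs

theorem s9835 (X : Scheme.{u}) [IsIntegral X] {ι : Type u}
    (U : ι → X.Opens) [∀ i, Nonempty (U i)] (hU : iSup U = ⊤) (haff : ∀ i, IsAffineOpen (U i))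
    (hJ : ∀ i, CAlg.IsN2 Γ(X, U i)) (V : X.Opens) [Nonempty V] (hV : IsAffineOpen V) :
    CAlg.IsN2 Γ(X, V) := by
  classical
  let S : ι → X.affineOpens := fun i => ⟨U i, haff i⟩
  have hS : (⨆ i, S i : X.Opens) = ⊤ := hU
  suffices h : ∀ W : X.affineOpens, ∀ (hne : Nonempty W.1),
      @CAlg.IsN2 Γ(X, W.1) _ (@IsIntegral.component_integral X _ W.1 hne) from
    h ⟨V, hV⟩ inferInstance
  intro W
  induction W using of_affine_open_cover S hS with
  | basicOpen U f hN =>
    intro hne
    have hneU : Nonempty U.1 := by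
      obtain ⟨x, hx⟩ := hne
      exact ⟨⟨x, X.basicOpen_le f hx⟩⟩
    haveI := U.prop.isLocalization_basicOpen f
    haveI : Nonempty (X.basicOpen f) := hne
    exact Groth.Agent.S9392.result Γ(X, U.1) (.powers f) Γ(X, X.basicOpen f) (hN hneU)
  | openCover U s hs hN =>
    intro hne
    haveI : Nonempty U.1 := hne
    let s' : Finset Γ(X, U.1) := s.filter (fun f => f ≠ 0)
    have hs' : Ideal.span (s' : Set Γ(X, U.1)) = ⊤ := by
      rw [eq_top_iff, ← hs, Ideal.span_le]
      intro f hf
      by_cases h0 : f = 0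
      · rw [h0]; exact Ideal.zero_mem _
      · exact Ideal.subset_span (Finset.mem_filter.mpr ⟨hf, h0⟩)
    have hne' : ∀ f : s', Nonempty (X.basicOpen f.1) := by
      intro ⟨f, hf⟩
      have h0 : f ≠ 0 := (Finset.mem_filter.mp hf).2
      by_contra hcon
      rw [not_nonempty_iff] at hcon
      have hbot : X.basicOpen f = ⊥ := by
        rw [eq_bot_iff]
        intro x hx
        exact (hcon.false ⟨x, hx⟩).elim
      exact h0 ((AlgebraicGeometry.basicOpen_eq_bot_iff f).mp hbot)
    haveI := hne'
    haveI : ∀ f : s', IsLocalization.Away f.1 Γ(X, X.basicOpen f.1) :=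
      fun f => U.prop.isLocalization_basicOpen f.1
    refine Groth.Agent.S9394.result Γ(X, U.1) (ι := s') (fun f => f.1) ?_
      (fun f => Γ(X, X.basicOpen f.1)) ?_
    · rw [Subtype.range_coe_subtype]
      exact hs'
    · intro ⟨f, hf⟩
      exact hN ⟨f, (Finset.mem_filter.mp hf).1⟩ (hne' ⟨f, hf⟩)
  | hU i =>
    intro hne
    exact hJ i

end Groth.Agent.Helper7.AffLoc
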