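import Mathlib

/-!
# Topological lemmas on (locally) constructible sets (helper7)
-/

set_option autoImplicit false
open Topology Set

namespace Groth.Agent.Helper7.ConsTop

variable {X : Type*} [TopologicalSpace X]

/-- a nonempty constructible set contains a nonempty locally closed subset -/
theorem exists_isLocallyClosed_subset_of_isConstructible {s : Set X} (hs : IsConstructible s)
    (hne : s.Nonempty) : ∃ t ⊆ s, t.Nonempty ∧ IsLocallyClosed t := by
  induction s, hs using BooleanSubalgebra.closure_sdiff_sup_induction with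
  | isSublattice =>
    exact ⟨fun s hs t ht ↦ ⟨hs.1.union ht.1, hs.2.union ht.2⟩,
      fun s hs t ht ↦ ⟨hs.1.inter ht.1, hs.2.inter_isOpen ht.2 ht.1⟩⟩
  | bot_mem => exact ⟨isOpen_empty, .empty⟩
  | top_mem => exact ⟨isOpen_univ, .univ⟩
  | sdiff U hU V hV =>
    exact ⟨U \ V, subset_rfl, hne, hU.1.isLocallyClosed.inter hV.1.isClosed_compl.isLocallyClosed⟩
  | sup s _ t _ hs' ht' =>
    rcases hne with ⟨x, hx | hx⟩
    · obtain ⟨u, hus, hu, hu'⟩ := hs' ⟨x, hx⟩
      exact ⟨u, hus.trans subset_union_left, hu, hu'⟩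
    · obtain ⟨u, hut, hu, hu'⟩ := ht' ⟨x, hx⟩
      exact ⟨u, hut.trans subset_union_right, hu, hu'⟩

/-- a nonempty locally constructible set contains a nonempty locally closed subset -/
theorem exists_isLocallyClosed_subset {s : Set X} (hs : IsLocallyConstructible s)
    (hne : s.Nonempty) : ∃ t ⊆ s, t.Nonempty ∧ IsLocallyClosed t := by
  obtain ⟨x, hx⟩ := hne
  obtain ⟨U, hUn, hUo, hU⟩ := hs x
  have hxU : x ∈ U := mem_of_mem_nhds hUn
  obtain ⟨t, hts, ⟨y, hy⟩, ht'⟩ :=
    exists_isLocallyClosed_subset_of_isConstructible hU ⟨⟨x, hxU⟩, hx⟩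
  refine ⟨Subtype.val '' t, ?_, ⟨y, y, hy, rfl⟩, ?_⟩
  · rintro _ ⟨z, hz, rfl⟩
    exact hts hz
  · refine ht'.image IsInducing.subtypeVal ?_
    rw [Subtype.range_coe]
    exact hUo.isLocallyClosed

theorem isLocallyConstructible_compl {s : Set X} (hs : IsLocallyConstructible s) :
    IsLocallyConstructible sᶜ := by
  intro x
  obtain ⟨U, hU, hUo, hUs⟩ := hs x
  exact ⟨U, hU, hUo, by rw [preimage_compl]; exact hUs.compl⟩

end Groth.Agent.Helper7.ConsTop
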