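import Mathlib
import Groth.Prelude.Def_AnPts
import Groth.Agent.Lib.Helper7.AnPts4

set_option autoImplicit false
open CategoryTheory AlgebraicGeometry Topology TopologicalSpace Opposite
open An

namespace Groth.Agent.Helper7.AnPts

variable {X : Scheme.{0}} [X.Over An.SC]

theorem finiteType_strU [LocallyOfFiniteType (X ↘ An.SC)] {U : X.Opens} (hU : IsAffineOpen U) :
    (strU U).FiniteType := by
  have h1 : ((X ↘ An.SC).appLE ⊤ U le_top).hom.FiniteType :=
    HasRingHomProperty.appLE (P := @LocallyOfFiniteType) _ inferInstance ⟨⊤, isAffineOpen_top _⟩ ⟨U, hU⟩ le_top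
  unfold strU
  rw [CommRingCat.hom_comp]
  refine RingHom.FiniteType.comp h1 ?_
  apply RingHom.FiniteType.of_surjective
  exact (ConcreteCategory.bijective_of_isIso (Scheme.ΓSpecIso (CommRingCat.of ℂ)).inv).2

theorem exists_generators [LocallyOfFiniteType (X ↘ An.SC)] {U : X.Opens} (hU : IsAffineOpen U) :
    ∃ (n : ℕ) (s : Fin n → Γ(X, U)), Function.Surjective (MvPolynomial.eval₂Hom (strU U) s) := by
  have h := finiteType_strU hU
  algebraize [strU U]
  obtain ⟨n, f, hf⟩ := Algebra.FiniteType.iff_quotient_mvPolynomial''.1 h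
  refine ⟨n, fun i => f (MvPolynomial.X i), ?_⟩
  have : (MvPolynomial.eval₂Hom (strU U) fun i => f (MvPolynomial.X i)) = f.toRingHom := by
    apply MvPolynomial.ringHom_ext
    · intro c
      simp
      rfl
    · intro i
      simp
  rw [this]
  exact hf

theorem locallyCompactSpace_of_open_cover {T : Type*} [TopologicalSpace T]
    (h : ∀ x : T, ∃ U : Set T, IsOpen U ∧ x ∈ U ∧ LocallyCompactSpace U) : LocallyCompactSpace T := by
  constructor
  intro x n hn
  obtain ⟨U, hU, hxU, hlc⟩ := h x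
  have h1 : (Subtype.val ⁻¹' n : Set U) ∈ 𝓝 (⟨x, hxU⟩ : U) :=
    continuous_subtype_val.continuousAt hn
  obtain ⟨K, hK, hKn, hKc⟩ := local_compact_nhds h1
  refine ⟨Subtype.val '' K, ?_, ?_, hKc.image continuous_subtype_val⟩
  · have := hU.isOpenEmbedding_subtypeVal.map_nhds_eq ⟨x, hxU⟩
    rw [← this]
    exact Filter.image_mem_map hK
  · rintro _ ⟨y, hy, rfl⟩
    exact hKn hy

theorem locallyCompactSpace_ptsIn [LocallyOfFiniteType (X ↘ An.SC)] {U : X.Opens} (hU : IsAffineOpen U) :
    LocallyCompactSpace (ptsIn U) := by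
  obtain ⟨n, s, hs⟩ := exists_generators hU
  exact (isClosedEmbedding_evS hU s hs).locallyCompactSpace

theorem locallyCompactSpace_pts [LocallyOfFiniteType (X ↘ An.SC)] : LocallyCompactSpace (An.Pts X) := by
  apply locallyCompactSpace_of_open_cover
  intro x
  obtain ⟨U, hU, hxU, -⟩ := (X.isBasis_affineOpens).exists_subset_of_mem_open (Set.mem_univ x.pt) isOpen_univ
  obtain ⟨V, hV, rfl⟩ := hU
  exact ⟨ptsIn V, isOpen_ptsIn V, hxU, locallyCompactSpace_ptsIn hV⟩

end Groth.Agent.Helper7.AnPts
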