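import Mathlib
import Groth.Prelude.Def_AnPts
import Groth.Agent.Lib.Helper7.AnPts5

set_option autoImplicit false
open CategoryTheory AlgebraicGeometry Topology TopologicalSpace Opposite
open An

namespace Groth.Agent.Helper7.AnPts

variable {X : Scheme.{0}} [X.Over An.SC] {Y : Scheme.{0}} [Y.Over An.SC]

theorem ev_res (x : An.Pts X) {U W : X.Opens} (hWU : W ≤ U) (hW : x.pt ∈ W) (a : Γ(X, U)) :
    x.ev W hW (X.presheaf.map (homOfLE hWU).op a) = x.ev U (hWU hW) a :=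
  evHom_res x hWU hW a

theorem basicSet_res {U W : X.Opens} (hWU : W ≤ U) (a : Γ(X, U)) (V : Set ℂ) :
    An.Pts.basicSet W (X.presheaf.map (homOfLE hWU).op a) V = An.Pts.basicSet U a V ∩ ptsIn W := by
  ext x
  constructor
  · rintro ⟨h, hv⟩
    rw [ev_res] at hv
    exact ⟨⟨hWU h, hv⟩, h⟩
  · rintro ⟨⟨h, hv⟩, hW⟩
    refine ⟨hW, ?_⟩
    rw [ev_res]
    exact hv

theorem ev_map_appLE (g : X ⟶ Y) [g.IsOver An.SC] (x : An.Pts X) (U : Y.Opens) (W : X.Opens)
    (e : W ≤ g ⁻¹ᵁ U) (hW : x.pt ∈ W) (b : Γ(Y, U)) :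
    (An.Pts.map g x).ev U (by rw [An.Pts.pt_map]; exact e hW) b = x.ev W hW (g.appLE U W e b) := by
  rw [An.Pts.ev_map, Scheme.Hom.appLE]
  exact (ev_res x e hW (g.app U b)).symm

theorem preimage_ptsIn (g : X ⟶ Y) [g.IsOver An.SC] (U : Y.Opens) :
    An.Pts.map g ⁻¹' ptsIn U = ptsIn (g ⁻¹ᵁ U) := by
  ext x
  change (An.Pts.map g x).pt ∈ U ↔ _
  rw [An.Pts.pt_map]
  rfl

theorem basicSet_subset_ptsIn (U : X.Opens) (a : Γ(X, U)) (V : Set ℂ) :
    An.Pts.basicSet U a V ⊆ ptsIn U := fun _ hx => hx.1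

theorem preimage_basicSet_appLE (g : X ⟶ Y) [g.IsOver An.SC] (U : Y.Opens) (W : X.Opens)
    (e : W ≤ g ⁻¹ᵁ U) (b : Γ(Y, U)) (V : Set ℂ) :
    An.Pts.basicSet W (g.appLE U W e b) V = ptsIn W ∩ An.Pts.map g ⁻¹' An.Pts.basicSet U b V := by
  rw [An.Pts.preimage_basicSet, Scheme.Hom.appLE]
  change An.Pts.basicSet W (X.presheaf.map (homOfLE e).op (g.app U b)) V = _
  rw [basicSet_res, Set.inter_comm]

theorem map_injective_of_mono (g : X ⟶ Y) [g.IsOver An.SC] [Mono g] :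
    Function.Injective (An.Pts.map g) := by
  intro x x' h
  exact Subtype.ext ((cancel_mono g).1 (congrArg Subtype.val h))

theorem range_map_of_isOpenImmersion (f : X ⟶ Y) [f.IsOver An.SC] [IsOpenImmersion f] :
    Set.range (An.Pts.map f) = ptsIn f.opensRange := by
  ext y
  constructor
  · rintro ⟨x, rfl⟩
    change (An.Pts.map f x).pt ∈ f.opensRange
    rw [An.Pts.pt_map]
    exact ⟨_, rfl⟩
  · intro hy
    have hr : Set.range y.1 ⊆ Set.range f := by
      rintro _ ⟨p, rfl⟩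
      rw [An.eq_cpt p]
      exact hy
    have hl : IsOpenImmersion.lift f y.1 hr ≫ f = y.1 := IsOpenImmersion.lift_fac _ _ _
    refine ⟨⟨IsOpenImmersion.lift f y.1 hr, ?_⟩, Subtype.ext hl⟩
    rw [← comp_over f An.SC, ← Category.assoc, hl, y.2]

theorem isOpenEmbedding_map_of_isOpenImmersion (f : X ⟶ Y) [f.IsOver An.SC] [IsOpenImmersion f] :
    IsOpenEmbedding (An.Pts.map f) := by
  refine ⟨⟨⟨le_antisymm (continuous_iff_le_induced.1 (An.Pts.continuous_map f)) ?_⟩,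
    map_injective_of_mono f⟩, ?_⟩
  · apply le_generateFrom
    rintro _ ⟨U, a, V, hV, rfl⟩
    refine ⟨An.Pts.basicSet (f ''ᵁ U) ((f.appIso U).inv a) V, An.Pts.isOpen_basicSet _ _ hV, ?_⟩
    have e : U ≤ f ⁻¹ᵁ (f ''ᵁ U) := (f.preimage_image_eq U).ge
    have h1 := preimage_basicSet_appLE f (f ''ᵁ U) U e ((f.appIso U).inv a) V
    have h2 : f.appLE (f ''ᵁ U) U e ((f.appIso U).inv a) = a := by
      rw [← Scheme.Hom.appIso_hom' f U]
      exact CategoryTheory.Iso.inv_hom_id_apply (f.appIso U) a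
    rw [h2] at h1
    rw [h1]
    symm
    apply Set.inter_eq_right.2
    intro x hx
    have h3 : x ∈ An.Pts.map f ⁻¹' ptsIn (f ''ᵁ U) := basicSet_subset_ptsIn _ _ _ hx
    rw [preimage_ptsIn, f.preimage_image_eq U] at h3
    exact h3
  · rw [range_map_of_isOpenImmersion]
    exact isOpen_ptsIn _

end Groth.Agent.Helper7.AnPts
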