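import Mathlib
import Groth.Prelude.Def_AnPts
import Groth.Agent.Lib.Helper7.AnPts5
import Groth.Agent.Lib.Helper7.AnPts6

set_option autoImplicit false
open CategoryTheory AlgebraicGeometry Topology TopologicalSpace Opposite
open An

namespace Groth.Agent.Helper7.AnPts

variable {X : Scheme.{0}} [X.Over An.SC] {Y : Scheme.{0}} [Y.Over An.SC]

theorem isInducing_of_local {α β : Type*} [tβ : TopologicalSpace β] (S : Set (Set α)) (φ : α → β)
    (hc : @Continuous _ _ (generateFrom S) _ φ)
    (h : ∀ s ∈ S, ∀ x ∈ s, ∃ O : Set β, IsOpen O ∧ φ x ∈ O ∧ φ ⁻¹' O ⊆ s) :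
    @IsInducing _ _ (generateFrom S) _ φ := by
  let _ : TopologicalSpace α := generateFrom S
  refine ⟨le_antisymm (continuous_iff_le_induced.1 hc) ?_⟩
  apply le_generateFrom
  intro s hs
  choose! O hO using h s hs
  refine ⟨⋃ x ∈ s, O x, isOpen_biUnion fun x hx => (hO x hx).1, ?_⟩
  ext z
  simp only [Set.preimage_iUnion, Set.mem_iUnion, Set.mem_preimage, exists_prop]
  constructor
  · rintro ⟨x, hx, hz⟩
    exact (hO x hx).2.2 hz
  · intro hz
    exact ⟨z, hz, (hO z hz).2.1⟩

theorem range_map_of_isClosedImmersion (f : X ⟶ Y) [f.IsOver An.SC] [IsClosedImmersion f] :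
    Set.range (An.Pts.map f) = An.Pts.pt ⁻¹' (Set.range f) := by
  ext y
  constructor
  · rintro ⟨x, rfl⟩
    change (An.Pts.map f x).pt ∈ Set.range f
    rw [An.Pts.pt_map]
    exact ⟨_, rfl⟩
  · rintro ⟨p, hp⟩
    have hsurj : Surjective (Limits.pullback.snd f y.1) := by
      constructor
      intro q
      obtain ⟨z, -, hz⟩ := Scheme.Pullback.exists_preimage_pullback (f := f) (g := y.1) p An.cpt hp
      exact ⟨z, hz.trans (An.eq_cpt q).symm⟩
    have hiso : IsIso (Limits.pullback.snd f y.1) := isIso_of_isClosedImmersion_of_surjective _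
    refine ⟨⟨inv (Limits.pullback.snd f y.1) ≫ Limits.pullback.fst f y.1, ?_⟩, Subtype.ext ?_⟩
    · rw [← comp_over f An.SC, Category.assoc, ← Category.assoc (Limits.pullback.fst f y.1),
        Limits.pullback.condition, Category.assoc, y.2, Category.comp_id, IsIso.inv_hom_id]
    · change (inv (Limits.pullback.snd f y.1) ≫ Limits.pullback.fst f y.1) ≫ f = y.1
      rw [Category.assoc, Limits.pullback.condition, IsIso.inv_hom_id_assoc]

theorem isClosedEmbedding_map_of_isClosedImmersion (f : X ⟶ Y) [f.IsOver An.SC]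
    [IsClosedImmersion f] : IsClosedEmbedding (An.Pts.map f) := by
  refine ⟨⟨?_, map_injective_of_mono f⟩, ?_⟩
  · apply isInducing_of_local _ _ (An.Pts.continuous_map f)
    rintro _ ⟨U, a, V, hV, rfl⟩ x ⟨hxU, hxV⟩
    obtain ⟨U', hU', hUU'⟩ := f.isEmbedding.isInducing.isOpen_iff.1 U.2
    have hx' : f x.pt ∈ U' := by
      have : x.pt ∈ f ⁻¹' U' := by rw [hUU']; exact hxU
      exact this
    obtain ⟨W', hW', hxW, hWU⟩ := (Y.isBasis_affineOpens).exists_subset_of_mem_open hx' hU'
    obtain ⟨W, hW, rfl⟩ := hW'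
    have hle : f ⁻¹ᵁ W ≤ U := by
      intro p hp
      have : p ∈ f ⁻¹' U' := hWU hp
      rw [hUU'] at this
      exact this
    obtain ⟨b, hb⟩ := f.app_surjective W hW (X.presheaf.map (homOfLE hle).op a)
    refine ⟨An.Pts.basicSet W b V, An.Pts.isOpen_basicSet _ _ hV, ?_, ?_⟩
    · change x ∈ An.Pts.map f ⁻¹' An.Pts.basicSet W b V
      rw [An.Pts.preimage_basicSet, hb, basicSet_res]
      exact ⟨⟨hxU, hxV⟩, hxW⟩
    · rw [An.Pts.preimage_basicSet, hb, basicSet_res]
      exact Set.inter_subset_left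
  · rw [range_map_of_isClosedImmersion]
    exact f.isClosedEmbedding.isClosed_range.preimage An.Pts.continuous_pt

end Groth.Agent.Helper7.AnPts
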