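import Mathlib
import Groth.Prelude.Def_AnPts
import Groth.Agent.Lib.Helper7.AnPts7

set_option autoImplicit false
open CategoryTheory AlgebraicGeometry Topology TopologicalSpace Opposite
open An

namespace Groth.Agent.Helper7.AnPts

variable {X : Scheme.{0}} [X.Over An.SC] {Y : Scheme.{0}} [Y.Over An.SC]

theorem isEmbedding_map_of_isImmersion (f : X ⟶ Y) [f.IsOver An.SC] [IsImmersion f] :
    IsEmbedding (An.Pts.map f) ∧ IsLocallyClosed (Set.range (An.Pts.map f)) := by
  let _ : f.coborderRange.toScheme.Over An.SC := ⟨f.coborderRange.ι ≫ Y ↘ An.SC⟩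
  have : f.coborderRange.ι.IsOver An.SC := ⟨rfl⟩
  have : f.liftCoborder.IsOver An.SC := ⟨by
    change f.liftCoborder ≫ f.coborderRange.ι ≫ Y ↘ An.SC = X ↘ An.SC
    rw [← Category.assoc, f.liftCoborder_ι, comp_over]⟩
  have h1 := isClosedEmbedding_map_of_isClosedImmersion f.liftCoborder
  have h2 := isOpenEmbedding_map_of_isOpenImmersion f.coborderRange.ι
  have h3 : An.Pts.map f = An.Pts.map f.coborderRange.ι ∘ An.Pts.map f.liftCoborder := by
    funext x
    apply Subtype.ext
    change x.1 ≫ f = (x.1 ≫ f.liftCoborder) ≫ f.coborderRange.ι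
    rw [Category.assoc, f.liftCoborder_ι]
  rw [h3]
  refine ⟨h2.isEmbedding.comp h1.isEmbedding, ?_⟩
  rw [Set.range_comp]
  have : An.Pts.map f.coborderRange.ι '' Set.range (An.Pts.map f.liftCoborder) =
      Set.range (An.Pts.map f.coborderRange.ι) ∩
        (An.Pts.map f.coborderRange.ι '' (Set.range (An.Pts.map f.liftCoborder))ᶜ)ᶜ := by
    ext y
    constructor
    · rintro ⟨x, hx, rfl⟩
      refine ⟨⟨x, rfl⟩, ?_⟩
      rintro ⟨x', hx', hxx'⟩
      rw [h2.injective hxx'] at hx'
      exact hx' hx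
    · rintro ⟨⟨x, rfl⟩, hx⟩
      refine ⟨x, ?_, rfl⟩
      by_contra hc
      exact hx ⟨x, hc, rfl⟩
  rw [this]
  refine IsLocallyClosed.inter h2.isOpen_range.isLocallyClosed (IsClosed.isLocallyClosed ?_)
  rw [isClosed_compl_iff]
  exact h2.isOpenMap _ h1.isClosed_range.isOpen_compl

end Groth.Agent.Helper7.AnPts
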