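import Mathlib

set_option autoImplicit false
open Polynomial

namespace Groth.Agent.Helper7.Density

theorem exists_root_norm_lt (P : ℂ[X]) (hP : P.Monic) (ε : ℝ) (hε : 0 < ε)
    (h0 : ‖P.coeff 0‖ < ε ^ P.natDegree) : ∃ τ, P.IsRoot τ ∧ ‖τ‖ < ε := by
  by_contra hcon
  push Not at hcon
  have hs : P.Splits := IsAlgClosed.splits P
  have hprod := Polynomial.Splits.coeff_zero_eq_prod_roots_of_monic hs hP
  have hcard : P.roots.card = P.natDegree := hs.natDegree_eq_card_roots.symm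
  have h1 : ε ^ P.natDegree ≤ ‖P.coeff 0‖ := by
    rw [hprod, norm_mul, norm_pow, norm_neg, norm_one, one_pow, one_mul, ← hcard]
    have : ‖P.roots.prod‖ = (P.roots.map (fun τ => ‖τ‖)).prod := by
      exact map_multiset_prod (normHom : ℂ →*₀ ℝ) P.roots
    rw [this]
    have h2 : ∀ τ ∈ P.roots, ε ≤ ‖τ‖ := fun τ hτ => hcon τ (Polynomial.isRoot_of_mem_roots hτ)
    calc ε ^ P.roots.card = ((P.roots.map (fun τ => ‖τ‖)).map (fun _ => ε)).prod := by
          rw [Multiset.map_const', Multiset.prod_replicate, Multiset.card_map]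
      _ ≤ (P.roots.map (fun τ => ‖τ‖)).prod := by
          rw [Multiset.map_map]
          apply Multiset.prod_map_le_prod_map₀
          · intro τ _; exact hε.le
          · intro τ hτ; exact h2 τ hτ
  exact absurd h0 (not_lt.2 h1)

theorem norm_le_of_isRoot_monic (P : ℂ[X]) (hP : P.Monic) (τ : ℂ) (hτ : P.IsRoot τ) :
    ‖τ‖ ≤ 1 + ∑ i ∈ Finset.range P.natDegree, ‖P.coeff i‖ := by
  have h1 := Polynomial.IsRoot.norm_lt_cauchyBound hP.ne_zero hτ
  have h2 : (cauchyBound P : ℝ) ≤ 1 + ∑ i ∈ Finset.range P.natDegree, ‖P.coeff i‖ := by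
    unfold cauchyBound
    rw [hP.leadingCoeff, nnnorm_one, div_one]
    push_cast
    rw [add_comm]
    gcongr
    have : (((Finset.range P.natDegree).sup fun x => ‖P.coeff x‖₊ : NNReal) : ℝ) ≤
        ((∑ i ∈ Finset.range P.natDegree, ‖P.coeff i‖₊ : NNReal) : ℝ) := by
      rw [NNReal.coe_le_coe]
      apply Finset.sup_le
      intro i hi
      exact Finset.single_le_sum (f := fun i => ‖P.coeff i‖₊) (fun _ _ => zero_le) hi
    refine this.trans (le_of_eq ?_)
    push_cast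
    rfl
  have h3 : ‖τ‖ < (cauchyBound P : ℝ) := by
    have : ((‖τ‖₊ : NNReal) : ℝ) < (cauchyBound P : ℝ) := NNReal.coe_lt_coe.2 h1
    simpa using this
  exact h3.le.trans h2

theorem exists_eval_ne_zero_near {s : ℕ} (c : MvPolynomial (Fin s) ℂ) (hc : c ≠ 0)
    (u : Fin s → ℂ) (δ : ℝ) (hδ : 0 < δ) : ∃ v : Fin s → ℂ, dist v u < δ ∧ MvPolynomial.eval v c ≠ 0 := by
  obtain ⟨w, hw⟩ : ∃ w : Fin s → ℂ, MvPolynomial.eval w c ≠ 0 := by
    by_contra hcon
    push Not at hcon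
    exact hc (MvPolynomial.funext (fun w => by rw [hcon w, map_zero]))
  let p : ℂ[X] := MvPolynomial.aeval (fun i => C (u i) + X * C (w i - u i)) c
  have hp : ∀ t : ℂ, p.eval t = MvPolynomial.eval (fun i => u i + t * (w i - u i)) c := by
    intro t
    change (Polynomial.evalRingHom t) (MvPolynomial.aeval (fun i => C (u i) + X * C (w i - u i)) c) = _
    rw [MvPolynomial.map_aeval]
    have : (Polynomial.evalRingHom t).comp (algebraMap ℂ ℂ[X]) = RingHom.id ℂ := by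
      ext a
      simp
    rw [this]
    have h2 : (fun i => (Polynomial.evalRingHom t) (C (u i) + X * C (w i - u i))) =
        fun i => u i + t * (w i - u i) := by
      funext i
      simp
    rw [h2]
    rfl
  have hp1 : p ≠ 0 := by
    intro h0
    apply hw
    have := hp 1
    rw [h0, Polynomial.eval_zero] at this
    rw [this]
    congr 2
    funext i
    ring
  set η : ℝ := δ / (1 + ‖w - u‖) with hη
  have hηpos : 0 < η := by positivity
  have hinf : (Metric.ball (0 : ℂ) η).Infinite := by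
    have h1 : (Set.Ioo (0 : ℝ) η).Infinite := Set.Ioo_infinite hηpos
    have h2 := h1.image (f := fun r : ℝ => (r : ℂ)) (fun a _ b _ hab => Complex.ofReal_injective hab)
    refine h2.mono ?_
    rintro _ ⟨r, ⟨hr0, hr1⟩, rfl⟩
    rw [Metric.mem_ball, dist_zero_right, Complex.norm_real, Real.norm_of_nonneg hr0.le]
    exact hr1
  obtain ⟨t, ht, htr⟩ : ∃ t ∈ Metric.ball (0 : ℂ) η, t ∉ (p.roots.toFinset : Set ℂ) := by
    by_contra hcon
    push Not at hcon
    exact hinf (p.roots.toFinset.finite_toSet.subset hcon)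
  refine ⟨fun i => u i + t * (w i - u i), ?_, ?_⟩
  · rw [Metric.mem_ball, dist_zero_right] at ht
    have h1 : (fun i => u i + t * (w i - u i)) - u = t • (w - u) := by
      funext i
      simp
    rw [dist_eq_norm, h1, norm_smul]
    have h2 : ‖t‖ * ‖w - u‖ ≤ ‖t‖ * (1 + ‖w - u‖) := by
      gcongr
      linarith
    have h3 : ‖t‖ * (1 + ‖w - u‖) < δ := by
      rw [hη, lt_div_iff₀ (by positivity)] at ht
      exact ht
    linarith
  · rw [← hp t]
    intro h0
    apply htr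
    simp only [Finset.mem_coe, Multiset.mem_toFinset]
    exact (Polynomial.mem_roots hp1).2 h0

/-- two `ℂ`-algebra homs to `ℂ` with comparable kernels are equal -/
theorem algHom_eq_of_ker_le {A : Type*} [CommRing A] [Algebra ℂ A] (χ χ' : A →ₐ[ℂ] ℂ)
    (h : RingHom.ker χ ≤ RingHom.ker χ') : χ = χ' := by
  ext a
  have h1 : a - algebraMap ℂ A (χ a) ∈ RingHom.ker χ := by
    rw [RingHom.mem_ker, map_sub, AlgHom.commutes]
    simp
  have h2 := h h1
  rw [RingHom.mem_ker, map_sub, AlgHom.commutes, sub_eq_zero] at h2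
  exact h2.symm

theorem exists_algHom_ker_eq {B : Type} [CommRing B] [Algebra ℂ B] [Algebra.FiniteType ℂ B]
    (𝔪 : Ideal B) [h𝔪 : 𝔪.IsMaximal] :
    ∃ ψ : B →ₐ[ℂ] ℂ, RingHom.ker ψ = 𝔪 := by
  let _ : Field (B ⧸ 𝔪) := Ideal.Quotient.field 𝔪
  have hfin : Module.Finite ℂ (B ⧸ 𝔪) := finite_of_finite_type_of_isJacobsonRing ℂ (B ⧸ 𝔪)
  have hbij : Function.Bijective (algebraMap ℂ (B ⧸ 𝔪)) :=
    IsAlgClosed.algebraMap_bijective_of_isIntegral
  let e : ℂ ≃ₐ[ℂ] (B ⧸ 𝔪) := AlgEquiv.ofBijective (Algebra.ofId ℂ (B ⧸ 𝔪)) hbij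
  refine ⟨(e.symm : (B ⧸ 𝔪) →ₐ[ℂ] ℂ).comp (Ideal.Quotient.mkₐ ℂ 𝔪), ?_⟩
  ext b
  rw [RingHom.mem_ker]
  change e.symm (Ideal.Quotient.mk 𝔪 b) = 0 ↔ _
  rw [map_eq_zero_iff _ e.symm.injective, Ideal.Quotient.eq_zero_iff_mem]

section

variable {s : ℕ} {B : Type} [CommRing B] [IsDomain B] [Algebra ℂ B] [Algebra.FiniteType ℂ B]
  [Algebra (MvPolynomial (Fin s) ℂ) B] [IsScalarTower ℂ (MvPolynomial (Fin s) ℂ) B]
  [Module.Finite (MvPolynomial (Fin s) ℂ) B] [FaithfulSMul (MvPolynomial (Fin s) ℂ) B]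

/-- `ψ` lies over the point `v` of affine space -/
def Over (ψ : B →ₐ[ℂ] ℂ) (v : Fin s → ℂ) : Prop :=
  ∀ r : MvPolynomial (Fin s) ℂ, ψ (algebraMap (MvPolynomial (Fin s) ℂ) B r) = MvPolynomial.eval v r

omit [IsDomain B] [Algebra.FiniteType ℂ B] [Module.Finite (MvPolynomial (Fin s) ℂ) B]
  [FaithfulSMul (MvPolynomial (Fin s) ℂ) B] in
theorem over_self (ψ : B →ₐ[ℂ] ℂ) :
    Over ψ (fun i => ψ (algebraMap (MvPolynomial (Fin s) ℂ) B (MvPolynomial.X i))) := by
  intro r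
  let χ : MvPolynomial (Fin s) ℂ →ₐ[ℂ] ℂ := ψ.comp (IsScalarTower.toAlgHom ℂ (MvPolynomial (Fin s) ℂ) B)
  have h1 : χ = MvPolynomial.aeval (fun i => χ (MvPolynomial.X i)) := MvPolynomial.aeval_unique χ
  change χ r = _
  rw [h1]
  rfl

omit [IsDomain B] [Algebra.FiniteType ℂ B] [Module.Finite (MvPolynomial (Fin s) ℂ) B]
  [FaithfulSMul (MvPolynomial (Fin s) ℂ) B] [IsScalarTower ℂ (MvPolynomial (Fin s) ℂ) B] in
theorem isRoot_of_over {ψ : B →ₐ[ℂ] ℂ} {v : Fin s → ℂ} (hψ : Over ψ v) (b : B)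
    (Q : (MvPolynomial (Fin s) ℂ)[X]) (hQ : aeval b Q = 0) :
    (Q.map (MvPolynomial.eval v)).IsRoot (ψ b) := by
  rw [IsRoot.def, eval_map]
  have h1 : ψ (aeval b Q) = 0 := by rw [hQ, map_zero]
  rw [aeval_def] at h1
  change (ψ : B →+* ℂ) (eval₂ (algebraMap (MvPolynomial (Fin s) ℂ) B) b Q) = 0 at h1
  rw [Polynomial.hom_eval₂] at h1
  have h2 : (ψ : B →+* ℂ).comp (algebraMap (MvPolynomial (Fin s) ℂ) B) = MvPolynomial.eval v := by
    ext r
    · simpa using hψ (MvPolynomial.C r)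
    · simpa using hψ (MvPolynomial.X r)
  rw [h2] at h1
  exact h1

theorem exists_over_of_root (F : B) (v : Fin s → ℂ) (τ : ℂ)
    (hτ : ((minpoly (MvPolynomial (Fin s) ℂ) F).map (MvPolynomial.eval v)).IsRoot τ) :
    ∃ ψ : B →ₐ[ℂ] ℂ, Over ψ v ∧ ψ F = τ := by
  have hF : IsIntegral (MvPolynomial (Fin s) ℂ) F := Algebra.IsIntegral.isIntegral F
  let Φ : (MvPolynomial (Fin s) ℂ)[X] →ₐ[MvPolynomial (Fin s) ℂ] B := aeval F
  let χ : (MvPolynomial (Fin s) ℂ)[X] →+* ℂ := eval₂RingHom (MvPolynomial.eval v) τ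
  have hχC : ∀ c : ℂ, χ (C (MvPolynomial.C c)) = c := by
    intro c
    simp [χ]
  have hχsurj : Function.Surjective χ := fun c => ⟨_, hχC c⟩
  have hker : RingHom.ker Φ.toRingHom ≤ RingHom.ker χ := by
    intro p hp
    rw [RingHom.mem_ker] at hp
    obtain ⟨q, rfl⟩ := (minpoly.isIntegrallyClosed_dvd_iff hF p).1 hp
    rw [RingHom.mem_ker, map_mul]
    have : χ (minpoly (MvPolynomial (Fin s) ℂ) F) = 0 := by
      rw [IsRoot.def, eval_map] at hτ
      exact hτ
    rw [this, zero_mul]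
  have hmax : (RingHom.ker χ).IsMaximal := RingHom.ker_isMaximal_of_surjective χ hχsurj
  let _ : Algebra (MvPolynomial (Fin s) ℂ)[X] B := Φ.toRingHom.toAlgebra
  have : IsScalarTower (MvPolynomial (Fin s) ℂ) (MvPolynomial (Fin s) ℂ)[X] B :=
    IsScalarTower.of_algebraMap_eq (fun r => (Φ.commutes r).symm)
  have : Algebra.IsIntegral (MvPolynomial (Fin s) ℂ)[X] B :=
    Algebra.IsIntegral.tower_top (R := MvPolynomial (Fin s) ℂ)
  obtain ⟨Q, hQmax, hQ⟩ := Ideal.exists_ideal_over_maximal_of_isIntegral (S := B) (RingHom.ker χ) hker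
  obtain ⟨ψ, hψ⟩ := exists_algHom_ker_eq Q
  have key : ∀ p : (MvPolynomial (Fin s) ℂ)[X], ψ (Φ p) = χ p := by
    intro p
    have h1 : p - C (MvPolynomial.C (χ p)) ∈ RingHom.ker χ := by
      rw [RingHom.mem_ker, map_sub, hχC, sub_self]
    rw [← hQ, Ideal.mem_comap, ← hψ, RingHom.mem_ker] at h1
    change ψ (Φ (p - C (MvPolynomial.C (χ p)))) = 0 at h1
    rw [map_sub, map_sub, sub_eq_zero] at h1
    rw [h1]
    have : Φ (C (MvPolynomial.C (χ p))) = algebraMap ℂ B (χ p) := by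
      change aeval F (C (MvPolynomial.C (χ p))) = _
      rw [aeval_C]
      exact (IsScalarTower.algebraMap_apply ℂ (MvPolynomial (Fin s) ℂ) B (χ p)).symm
    rw [this, AlgHom.commutes]
    rfl
  refine ⟨ψ, ?_, ?_⟩
  · intro r
    have := key (C r)
    change ψ (aeval F (C r)) = _ at this
    rw [aeval_C] at this
    rw [this]
    simp [χ]
  · have := key X
    change ψ (aeval F X) = _ at this
    rw [aeval_X] at this
    rw [this]
    simp [χ]

end

end Groth.Agent.Helper7.Density
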