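import Mathlib
import Groth.Agent.Lib.Helper7.Density1

set_option autoImplicit false
open Polynomial

namespace Groth.Agent.Helper7.Density

section

variable {s : ℕ} {B : Type} [CommRing B] [IsDomain B] [Algebra ℂ B] [Algebra.FiniteType ℂ B]
  [Algebra (MvPolynomial (Fin s) ℂ) B] [IsScalarTower ℂ (MvPolynomial (Fin s) ℂ) B]
  [Module.Finite (MvPolynomial (Fin s) ℂ) B] [FaithfulSMul (MvPolynomial (Fin s) ℂ) B]

omit [IsDomain B] [Algebra.FiniteType ℂ B] [FaithfulSMul (MvPolynomial (Fin s) ℂ) B]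
  [IsScalarTower ℂ (MvPolynomial (Fin s) ℂ) B] in
theorem exists_bound (u : Fin s → ℂ) (β : B) : ∃ M : ℝ, 0 < M ∧
    ∀ (v : Fin s → ℂ) (ψ : B →ₐ[ℂ] ℂ), Over ψ v → dist v u ≤ 1 → ‖ψ β‖ ≤ M := by
  have hβ : IsIntegral (MvPolynomial (Fin s) ℂ) β := Algebra.IsIntegral.isIntegral β
  set Q := minpoly (MvPolynomial (Fin s) ℂ) β with hQ
  have hQm : Q.Monic := minpoly.monic hβ
  let G : (Fin s → ℂ) → ℝ := fun v =>
    1 + ∑ i ∈ Finset.range Q.natDegree, ‖MvPolynomial.eval v (Q.coeff i)‖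
  have hG : Continuous G := by
    refine continuous_const.add (continuous_finsetSum _ fun i _ => ?_)
    exact (MvPolynomial.continuous_eval (Q.coeff i)).norm
  obtain ⟨C, hC⟩ := (isCompact_closedBall u 1).exists_bound_of_continuousOn hG.continuousOn
  refine ⟨max C 1, lt_max_of_lt_right one_pos, ?_⟩
  intro v ψ hψ hv
  have hroot := isRoot_of_over hψ β Q (minpoly.aeval _ _)
  have h1 := norm_le_of_isRoot_monic _ (hQm.map (MvPolynomial.eval v)) _ hroot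
  rw [hQm.natDegree_map] at h1
  simp only [coeff_map] at h1
  have h2 := hC v (Metric.mem_closedBall.2 hv)
  exact h1.trans ((le_abs_self _).trans (h2.trans (le_max_left _ _)))

variable (B) in
/-- the ideal of functions that are small near the point `(u, F = 0)` -/
def smallIdeal (u : Fin s → ℂ) (F : B) : Ideal B where
  carrier := {b | ∀ ε > 0, ∃ δ > 0, ∀ (v : Fin s → ℂ) (ψ : B →ₐ[ℂ] ℂ), Over ψ v → dist v u < δ →
    ‖ψ F‖ < δ → ‖ψ b‖ < ε}
  zero_mem' := by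
    intro ε hε
    exact ⟨1, one_pos, fun v ψ _ _ _ => by simpa using hε⟩
  add_mem' := by
    intro a b ha hb ε hε
    obtain ⟨δ₁, hδ₁, h₁⟩ := ha (ε / 2) (half_pos hε)
    obtain ⟨δ₂, hδ₂, h₂⟩ := hb (ε / 2) (half_pos hε)
    refine ⟨min δ₁ δ₂, lt_min hδ₁ hδ₂, fun v ψ hψ hv hF => ?_⟩
    have e1 := h₁ v ψ hψ (hv.trans_le (min_le_left _ _)) (hF.trans_le (min_le_left _ _))
    have e2 := h₂ v ψ hψ (hv.trans_le (min_le_right _ _)) (hF.trans_le (min_le_right _ _))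
    rw [map_add]
    calc ‖ψ a + ψ b‖ ≤ ‖ψ a‖ + ‖ψ b‖ := norm_add_le _ _
      _ < ε / 2 + ε / 2 := add_lt_add e1 e2
      _ = ε := add_halves ε
  smul_mem' := by
    intro β b hb ε hε
    obtain ⟨M, hM, hMb⟩ := exists_bound u β
    obtain ⟨δ, hδ, h⟩ := hb (ε / M) (div_pos hε hM)
    refine ⟨min δ 1, lt_min hδ one_pos, fun v ψ hψ hv hF => ?_⟩
    have e1 := h v ψ hψ (hv.trans_le (min_le_left _ _)) (hF.trans_le (min_le_left _ _))
    have e2 := hMb v ψ hψ (hv.trans_le (min_le_right _ _)).le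
    rw [smul_eq_mul, map_mul, norm_mul]
    calc ‖ψ β‖ * ‖ψ b‖ ≤ M * ‖ψ b‖ := by gcongr
      _ < M * (ε / M) := by gcongr
      _ = ε := by field_simp

omit [IsDomain B] [Algebra.FiniteType ℂ B] [FaithfulSMul (MvPolynomial (Fin s) ℂ) B]
  [IsScalarTower ℂ (MvPolynomial (Fin s) ℂ) B] in
theorem mem_smallIdeal_iff (u : Fin s → ℂ) (F b : B) : b ∈ smallIdeal B u F ↔
    ∀ ε > 0, ∃ δ > 0, ∀ (v : Fin s → ℂ) (ψ : B →ₐ[ℂ] ℂ), Over ψ v → dist v u < δ →
    ‖ψ F‖ < δ → ‖ψ b‖ < ε := Iff.rfl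

omit [IsDomain B] [Algebra.FiniteType ℂ B] [FaithfulSMul (MvPolynomial (Fin s) ℂ) B]
  [IsScalarTower ℂ (MvPolynomial (Fin s) ℂ) B] in
theorem self_mem_smallIdeal (u : Fin s → ℂ) (F : B) : F ∈ smallIdeal B u F := by
  intro ε hε
  exact ⟨ε, hε, fun v ψ _ _ hF => hF⟩

omit [IsDomain B] [Algebra.FiniteType ℂ B] [FaithfulSMul (MvPolynomial (Fin s) ℂ) B]
  [IsScalarTower ℂ (MvPolynomial (Fin s) ℂ) B] in
theorem algebraMap_mem_smallIdeal (u : Fin s → ℂ) (F : B) (m : MvPolynomial (Fin s) ℂ)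
    (hm : MvPolynomial.eval u m = 0) : algebraMap (MvPolynomial (Fin s) ℂ) B m ∈ smallIdeal B u F := by
  intro ε hε
  have hc : ContinuousAt (fun v => MvPolynomial.eval v m) u :=
    (MvPolynomial.continuous_eval m).continuousAt
  obtain ⟨δ, hδ, h⟩ := Metric.continuousAt_iff.1 hc ε hε
  refine ⟨δ, hδ, fun v ψ hψ hv _ => ?_⟩
  rw [hψ m]
  have := h hv
  rw [hm, dist_zero_right] at this
  exact this

omit [IsDomain B] [Algebra.FiniteType ℂ B] [FaithfulSMul (MvPolynomial (Fin s) ℂ) B]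
  [IsScalarTower ℂ (MvPolynomial (Fin s) ℂ) B] in
theorem smallIdeal_isRadical (u : Fin s → ℂ) (F : B) : (smallIdeal B u F).IsRadical := by
  rintro b ⟨n, hn⟩
  have hn1 : b ^ (n + 1) ∈ smallIdeal B u F := by
    rw [pow_succ]
    exact Ideal.mul_mem_right _ _ hn
  intro ε hε
  obtain ⟨δ, hδ, h⟩ := hn1 (ε ^ (n + 1)) (pow_pos hε _)
  refine ⟨δ, hδ, fun v ψ hψ hv hF => ?_⟩
  have := h v ψ hψ hv hF
  rw [map_pow, norm_pow] at this
  exact lt_of_pow_lt_pow_left₀ (n + 1) hε.le this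

end

end Groth.Agent.Helper7.Density
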