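import Mathlib
import Groth.Agent.Lib.Helper7.Density2

set_option autoImplicit false
open Polynomial

namespace Groth.Agent.Helper7.Density

theorem minpoly_coeff_zero_ne_zero {R B : Type*} [CommRing R] [IsDomain R] [IsIntegrallyClosed R]
    [CommRing B] [IsDomain B] [Algebra R B] [Module.IsTorsionFree R B] {h : B}
    (hint : IsIntegral R h) (hh : h ≠ 0) : (minpoly R h).coeff 0 ≠ 0 := by
  intro h0
  obtain ⟨q, hq⟩ := Polynomial.X_dvd_iff.2 h0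
  have h1 : aeval h (minpoly R h) = 0 := minpoly.aeval R h
  rw [hq, map_mul, aeval_X] at h1
  have h2 : aeval h q = 0 := (mul_eq_zero.1 h1).resolve_left hh
  have hm := minpoly.monic hint
  have hqm : q.Monic := by
    rw [hq] at hm
    exact Polynomial.Monic.of_mul_monic_left monic_X hm
  have h3 := minpoly.min R h hqm h2
  rw [hq, degree_mul, degree_X] at h3
  have hq0 : q ≠ 0 := hqm.ne_zero
  rw [degree_eq_natDegree hq0] at h3
  have h4 : ((1 + q.natDegree : ℕ) : WithBot ℕ) ≤ (q.natDegree : WithBot ℕ) := by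
    push_cast
    exact h3
  have h5 : 1 + q.natDegree ≤ q.natDegree := WithBot.coe_le_coe.1 h4
  omega

section

variable {s : ℕ} {B : Type} [CommRing B] [IsDomain B] [Algebra ℂ B] [Algebra.FiniteType ℂ B]
  [Algebra (MvPolynomial (Fin s) ℂ) B] [IsScalarTower ℂ (MvPolynomial (Fin s) ℂ) B]
  [Module.Finite (MvPolynomial (Fin s) ℂ) B] [FaithfulSMul (MvPolynomial (Fin s) ℂ) B]

omit [IsDomain B] [Algebra.FiniteType ℂ B] [FaithfulSMul (MvPolynomial (Fin s) ℂ) B]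
  [IsScalarTower ℂ (MvPolynomial (Fin s) ℂ) B] in
theorem exists_separating (φ : B →ₐ[ℂ] ℂ) (u : Fin s → ℂ) :
    ∃ F : B, φ F = 0 ∧ ∀ 𝔮 : Ideal B, 𝔮.IsPrime →
      Ideal.map (algebraMap (MvPolynomial (Fin s) ℂ) B)
        (RingHom.ker (MvPolynomial.eval u : MvPolynomial (Fin s) ℂ →+* ℂ)) ≤ 𝔮 →
      F ∈ 𝔮 → 𝔮 = RingHom.ker φ := by
  classical
  set 𝔪u : Ideal (MvPolynomial (Fin s) ℂ) :=
    RingHom.ker (MvPolynomial.eval u : MvPolynomial (Fin s) ℂ →+* ℂ) with h𝔪u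
  have hmax : 𝔪u.IsMaximal := RingHom.ker_isMaximal_of_surjective _ (fun c => ⟨MvPolynomial.C c, by simp⟩)
  have hφmax : (RingHom.ker φ).IsMaximal :=
    RingHom.ker_isMaximal_of_surjective _ (fun c => ⟨algebraMap ℂ B c, by simp⟩)
  have hfin : (𝔪u.primesOver B).Finite := Algebra.QuasiFinite.finite_primesOver 𝔪u
  have hmem : ∀ 𝔮 : Ideal B, 𝔮.IsPrime → Ideal.map (algebraMap (MvPolynomial (Fin s) ℂ) B) 𝔪u ≤ 𝔮 →
      𝔮 ∈ 𝔪u.primesOver B := by
    intro 𝔮 h𝔮 hle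
    refine ⟨h𝔮, ⟨?_⟩⟩
    have h1 : 𝔪u ≤ 𝔮.comap (algebraMap (MvPolynomial (Fin s) ℂ) B) := Ideal.map_le_iff_le_comap.1 hle
    have h2 : (𝔮.comap (algebraMap (MvPolynomial (Fin s) ℂ) B)) ≠ ⊤ :=
      (Ideal.IsPrime.comap (algebraMap (MvPolynomial (Fin s) ℂ) B)).ne_top
    exact hmax.eq_of_le h2 h1
  by_contra hcon
  push Not at hcon
  let S : Finset (Ideal B) := hfin.toFinset.erase (RingHom.ker φ)
  have hsub : ((RingHom.ker φ : Ideal B) : Set B) ⊆ ⋃ 𝔮 ∈ (↑S : Set (Ideal B)), (𝔮 : Set B) := by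
    intro F hF
    obtain ⟨𝔮, h𝔮, hle, hF𝔮, hne⟩ := hcon F (RingHom.mem_ker.1 hF)
    simp only [Set.mem_iUnion]
    refine ⟨𝔮, ?_, hF𝔮⟩
    simp only [S, Finset.coe_erase, Set.Finite.coe_toFinset, Set.mem_sdiff, Set.mem_singleton_iff]
    exact ⟨hmem 𝔮 h𝔮 hle, hne⟩
  have hprime : ∀ i ∈ S, i ≠ (⊥ : Ideal B) → i ≠ (⊥ : Ideal B) → (id i : Ideal B).IsPrime := by
    intro i hi _ _
    simp only [S, Finset.mem_erase, Set.Finite.mem_toFinset] at hi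
    exact hi.2.1
  obtain ⟨𝔮, h𝔮S, hle⟩ := (Ideal.subset_union_prime (f := id) ⊥ ⊥ hprime).1 hsub
  simp only [S, Finset.mem_erase, Set.Finite.mem_toFinset] at h𝔮S
  have : RingHom.ker φ = 𝔮 := hφmax.eq_of_le h𝔮S.2.1.ne_top hle
  exact h𝔮S.1 this.symm

end

end Groth.Agent.Helper7.Density
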