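import Mathlib
import Groth.Agent.Lib.Helper7.Density3

set_option autoImplicit false
open Polynomial

namespace Groth.Agent.Helper7.Density

section

theorem core_domain_aux (s : ℕ) {B : Type} [CommRing B] [IsDomain B] [Algebra ℂ B]
    [Algebra.FiniteType ℂ B]
    [Algebra (MvPolynomial (Fin s) ℂ) B] [IsScalarTower ℂ (MvPolynomial (Fin s) ℂ) B]
    [Module.Finite (MvPolynomial (Fin s) ℂ) B] [FaithfulSMul (MvPolynomial (Fin s) ℂ) B] (h : B) (hh : h ≠ 0) (φ : B →ₐ[ℂ] ℂ) (I : Finset B) (ε : ℝ) (hε : 0 < ε) :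
    ∃ ψ : B →ₐ[ℂ] ℂ, ψ h ≠ 0 ∧ ∀ a ∈ I, ‖ψ a - φ a‖ < ε := by
  set u : Fin s → ℂ := fun i => φ (algebraMap (MvPolynomial (Fin s) ℂ) B (MvPolynomial.X i)) with hu
  have hφ : Over φ u := over_self φ
  obtain ⟨F, hF0, hFuniq⟩ := exists_separating φ u
  -- `ker φ` consists of small functions
  have hker : RingHom.ker φ ≤ smallIdeal B u F := by
    have hJ : Ideal.map (algebraMap (MvPolynomial (Fin s) ℂ) B)
        (RingHom.ker (MvPolynomial.eval u : MvPolynomial (Fin s) ℂ →+* ℂ)) ⊔ Ideal.span {F} ≤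
        smallIdeal B u F := by
      refine sup_le (Ideal.map_le_iff_le_comap.2 fun m hm => ?_)
        ((Ideal.span_singleton_le_iff_mem _).2 (self_mem_smallIdeal u F))
      exact algebraMap_mem_smallIdeal u F m (RingHom.mem_ker.1 hm)
    refine le_trans ?_ ((smallIdeal_isRadical u F).radical_le_iff.2 hJ)
    rw [Ideal.radical_eq_sInf]
    refine le_sInf ?_
    rintro 𝔮 ⟨hle, h𝔮⟩
    rw [hFuniq 𝔮 h𝔮 (le_sup_left.trans hle)
      (hle (Ideal.mem_sup_right (Ideal.subset_span (Set.mem_singleton F))))]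
  -- uniform δ for the finite set
  have hδ : ∃ δ > 0, ∀ a ∈ I, ∀ (v : Fin s → ℂ) (ψ : B →ₐ[ℂ] ℂ), Over ψ v → dist v u < δ →
      ‖ψ F‖ < δ → ‖ψ a - φ a‖ < ε := by
    classical
    induction I using Finset.induction_on with
    | empty => exact ⟨1, one_pos, fun a ha => absurd ha (Finset.notMem_empty a)⟩
    | insert a I _ ih =>
      obtain ⟨δ₁, hδ₁, h₁⟩ := ih
      have ha : a - algebraMap ℂ B (φ a) ∈ smallIdeal B u F := by
        apply hker
        rw [RingHom.mem_ker, map_sub, AlgHom.commutes]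
        simp
      obtain ⟨δ₂, hδ₂, h₂⟩ := ha ε hε
      refine ⟨min δ₁ δ₂, lt_min hδ₁ hδ₂, ?_⟩
      intro b hb v ψ hψ hv hF
      rcases Finset.mem_insert.1 hb with rfl | hb
      · have := h₂ v ψ hψ (hv.trans_le (min_le_right _ _)) (hF.trans_le (min_le_right _ _))
        rw [map_sub, AlgHom.commutes] at this
        exact this
      · exact h₁ b hb v ψ hψ (hv.trans_le (min_le_left _ _)) (hF.trans_le (min_le_left _ _))
  obtain ⟨δ, hδpos, hδ⟩ := hδ
  have hFint : IsIntegral (MvPolynomial (Fin s) ℂ) F := Algebra.IsIntegral.isIntegral F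
  have hhint : IsIntegral (MvPolynomial (Fin s) ℂ) h := Algebra.IsIntegral.isIntegral h
  set P := minpoly (MvPolynomial (Fin s) ℂ) F with hP
  have hPm : P.Monic := minpoly.monic hFint
  set H := minpoly (MvPolynomial (Fin s) ℂ) h with hH
  have hc : H.coeff 0 ≠ 0 := minpoly_coeff_zero_ne_zero hhint hh
  -- constant term of `P` vanishes at `u`
  have ha0 : MvPolynomial.eval u (P.coeff 0) = 0 := by
    have := isRoot_of_over hφ F P (minpoly.aeval _ _)
    rw [hF0, IsRoot.def, ← coeff_zero_eq_eval_zero, coeff_map] at this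
    exact this
  have hcont : ContinuousAt (fun v => MvPolynomial.eval v (P.coeff 0)) u :=
    (MvPolynomial.continuous_eval (P.coeff 0)).continuousAt
  obtain ⟨δ₂, hδ₂, h₂⟩ := Metric.continuousAt_iff.1 hcont (δ ^ P.natDegree) (pow_pos hδpos _)
  obtain ⟨v, hv, hvc⟩ := exists_eval_ne_zero_near (H.coeff 0) hc u (min δ δ₂) (lt_min hδpos hδ₂)
  have hsmall : ‖(P.map (MvPolynomial.eval v)).coeff 0‖ <
      δ ^ (P.map (MvPolynomial.eval v)).natDegree := by
    rw [hPm.natDegree_map, coeff_map]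
    have := h₂ (hv.trans_le (min_le_right _ _))
    rw [ha0, dist_zero_right] at this
    exact this
  obtain ⟨τ, hτ, hτδ⟩ := exists_root_norm_lt _ (hPm.map (MvPolynomial.eval v)) δ hδpos hsmall
  obtain ⟨ψ, hψ, hψF⟩ := exists_over_of_root F v τ hτ
  refine ⟨ψ, ?_, fun a ha => hδ a ha v ψ hψ (hv.trans_le (min_le_left _ _)) (by rw [hψF]; exact hτδ)⟩
  intro h0
  have := isRoot_of_over hψ h H (minpoly.aeval _ _)
  rw [h0, IsRoot.def, ← coeff_zero_eq_eval_zero, coeff_map] at this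
  exact hvc this

end

end Groth.Agent.Helper7.Density
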