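import Mathlib
import Groth.Agent.Lib.Helper7.Density4

set_option autoImplicit false
open Polynomial

namespace Groth.Agent.Helper7.Density

theorem core_domain {B : Type} [CommRing B] [IsDomain B] [Algebra ℂ B] [Algebra.FiniteType ℂ B]
    (h : B) (hh : h ≠ 0) (φ : B →ₐ[ℂ] ℂ) (I : Finset B) (ε : ℝ) (hε : 0 < ε) :
    ∃ ψ : B →ₐ[ℂ] ℂ, ψ h ≠ 0 ∧ ∀ a ∈ I, ‖ψ a - φ a‖ < ε := by
  obtain ⟨s, g, hinj, hfin⟩ := exists_finite_inj_algHom_of_fg ℂ B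
  let _ : Algebra (MvPolynomial (Fin s) ℂ) B := g.toRingHom.toAlgebra
  have : IsScalarTower ℂ (MvPolynomial (Fin s) ℂ) B :=
    IsScalarTower.of_algebraMap_eq (fun c => (g.commutes c).symm)
  have : Module.Finite (MvPolynomial (Fin s) ℂ) B := hfin
  have : FaithfulSMul (MvPolynomial (Fin s) ℂ) B :=
    (faithfulSMul_iff_algebraMap_injective _ _).2 hinj
  exact core_domain_aux s h hh φ I ε hε

/-- the core approximation statement: a `ℂ`-point of `V(𝔭)` is a limit of `ℂ`-points of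
`V(𝔭) ∩ D(h)` -/
theorem core {A : Type} [CommRing A] [Algebra ℂ A] [Algebra.FiniteType ℂ A] (𝔭 : Ideal A)
    [𝔭.IsPrime] (h : A) (hh : h ∉ 𝔭) (φ : A →ₐ[ℂ] ℂ) (hφ : 𝔭 ≤ RingHom.ker φ) (I : Finset A)
    (ε : ℝ) (hε : 0 < ε) :
    ∃ ψ : A →ₐ[ℂ] ℂ, 𝔭 ≤ RingHom.ker ψ ∧ ψ h ≠ 0 ∧ ∀ a ∈ I, ‖ψ a - φ a‖ < ε := by
  classical
  have : Algebra.FiniteType ℂ (A ⧸ 𝔭) :=
    Algebra.FiniteType.of_surjective (Ideal.Quotient.mkₐ ℂ 𝔭) Ideal.Quotient.mk_surjective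
  let φ' : (A ⧸ 𝔭) →ₐ[ℂ] ℂ := Ideal.Quotient.liftₐ 𝔭 φ (fun a ha => RingHom.mem_ker.1 (hφ ha))
  have hh' : Ideal.Quotient.mk 𝔭 h ≠ 0 := by
    rw [Ne, Ideal.Quotient.eq_zero_iff_mem]
    exact hh
  obtain ⟨ψ', hψh, hψ'⟩ := core_domain (Ideal.Quotient.mk 𝔭 h) hh' φ'
    (I.image (Ideal.Quotient.mk 𝔭)) ε hε
  refine ⟨ψ'.comp (Ideal.Quotient.mkₐ ℂ 𝔭), ?_, hψh, ?_⟩
  · intro a ha
    rw [RingHom.mem_ker]
    change ψ' (Ideal.Quotient.mk 𝔭 a) = 0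
    rw [Ideal.Quotient.eq_zero_iff_mem.2 ha, map_zero]
  · intro a ha
    exact hψ' _ (Finset.mem_image_of_mem _ ha)

end Groth.Agent.Helper7.Density
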