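import Mathlib

set_option autoImplicit false
open Topology Set TopologicalSpace

namespace Groth.Agent.Helper7.Density

variable {α : Type*} [TopologicalSpace α]

/-- in a Noetherian quasi-sober space, a point of the closure of a constructible set `s` is a
specialisation of a point `q` having an open neighbourhood `O` with `O ∩ closure {q} ⊆ s` -/
theorem exists_generic_of_mem_closure [NoetherianSpace α] [QuasiSober α] {s : Set α}
    (hs : IsConstructible s) {p : α} (hp : p ∈ closure s) :
    ∃ q, q ⤳ p ∧ ∃ O, IsOpen O ∧ q ∈ O ∧ O ∩ closure {q} ⊆ s := by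
  induction s, hs using BooleanSubalgebra.closure_sdiff_sup_induction with
  | isSublattice =>
    exact ⟨fun s hs t ht ↦ ⟨hs.1.union ht.1, hs.2.union ht.2⟩,
      fun s hs t ht ↦ ⟨hs.1.inter ht.1, hs.2.inter_isOpen ht.2 ht.1⟩⟩
  | bot_mem => exact ⟨isOpen_empty, .empty⟩
  | top_mem => exact ⟨isOpen_univ, .univ⟩
  | sdiff U hU V hV =>
    obtain ⟨S, hSfin, hSc, hSirr, hS⟩ :=
      NoetherianSpace.exists_finite_set_isClosed_irreducible (hV.1.isClosed_compl)
    have hUV : U \ V = ⋃ t ∈ S, U ∩ t := by
      rw [Set.sdiff_eq, hS, Set.sUnion_eq_biUnion, Set.inter_iUnion₂]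
    rw [hUV, hSfin.closure_biUnion] at hp
    obtain ⟨t, htS, hpt⟩ := Set.mem_iUnion₂.1 hp
    have hne : (U ∩ t).Nonempty := by
      by_contra hcon
      rw [Set.not_nonempty_iff_eq_empty] at hcon
      rw [hcon, closure_empty] at hpt
      exact hpt
    obtain ⟨q, hq⟩ := QuasiSober.sober (hSirr t htS) (hSc t htS)
    have hqU : q ∈ U := by
      rw [hq.mem_open_set_iff hU.1, Set.inter_comm]
      exact hne
    refine ⟨q, ?_, U, hU.1, hqU, ?_⟩
    · rw [specializes_iff_mem_closure, hq.def]
      exact closure_minimal Set.inter_subset_right (hSc t htS) hpt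
    · rw [hq.def, hUV]
      exact Set.subset_biUnion_of_mem (u := fun t : Set α => U ∩ t) htS
  | sup s _ t _ hs' ht' =>
    change p ∈ closure (s ∪ t) at hp
    rw [closure_union] at hp
    rcases hp with hp | hp
    · obtain ⟨q, hqp, O, hO, hqO, hsub⟩ := hs' hp
      exact ⟨q, hqp, O, hO, hqO, hsub.trans subset_union_left⟩
    · obtain ⟨q, hqp, O, hO, hqO, hsub⟩ := ht' hp
      exact ⟨q, hqp, O, hO, hqO, hsub.trans subset_union_right⟩

end Groth.Agent.Helper7.Density
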