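import Mathlib
import Groth.Prelude.Def_AnPts
import Groth.Agent.Lib.Helper7.AnPts8
import Groth.Agent.Lib.Helper7.Density5
import Groth.Agent.Lib.Helper7.DensityTop

set_option autoImplicit false
open CategoryTheory AlgebraicGeometry Topology TopologicalSpace Opposite
open An

namespace Groth.Agent.Helper7.AnPts

variable {X : Scheme.{0}} [X.Over An.SC]

/-- the point of `Spec Γ(X, U)` underlying a `ℂ`-point in `U` -/
noncomputable def specPt (y : An.Pts X) (U : X.Opens) (h : y.pt ∈ U) : ↥(Spec Γ(X, U)) :=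
  Spec.map (CommRingCat.ofHom (evHom y U h)) An.cpt

theorem fromSpec_specPt (y : An.Pts X) {U : X.Opens} (hU : IsAffineOpen U) (h : y.pt ∈ U) :
    hU.fromSpec (specPt y U h) = y.pt := by
  have h1 := eq_SpecMap_evHom y hU h
  change _ = y.1 An.cpt
  rw [h1, Scheme.Hom.comp_apply]
  rfl

theorem specPt_asIdeal (y : An.Pts X) (U : X.Opens) (h : y.pt ∈ U) :
    (specPt y U h : PrimeSpectrum Γ(X, U)).asIdeal = RingHom.ker (evHom y U h) := by
  change Ideal.comap (evHom y U h) (An.cpt : PrimeSpectrum ℂ).asIdeal = _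
  have : (An.cpt : PrimeSpectrum ℂ).asIdeal = ⊥ := by
    have h2 : (An.cpt : PrimeSpectrum ℂ) = ⟨⊥, Ideal.isPrime_bot⟩ := Subsingleton.elim _ _
    rw [h2]
  rw [this]
  rfl

end Groth.Agent.Helper7.AnPts
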