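import Mathlib
import Groth.Prelude.Def_AnPts
import Groth.Agent.Lib.Helper7.Density6

set_option autoImplicit false
open CategoryTheory AlgebraicGeometry Topology TopologicalSpace Opposite
open An

namespace Groth.Agent.Helper7.AnPts

variable {X : Scheme.{0}} [X.Over An.SC]

theorem exists_pos_forall_ball_subset {A : Type*} (I : Finset A) (φ : A → ℂ) (t : A → Set ℂ)
    (ht : ∀ a ∈ I, t a ∈ 𝓝 (φ a)) : ∃ ε > 0, ∀ a ∈ I, Metric.ball (φ a) ε ⊆ t a := by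
  classical
  induction I using Finset.induction_on with
  | empty => exact ⟨1, one_pos, fun a ha => absurd ha (Finset.notMem_empty a)⟩
  | insert a I _ ih =>
    obtain ⟨ε₁, hε₁, h₁⟩ := ih (fun b hb => ht b (Finset.mem_insert_of_mem hb))
    obtain ⟨ε₂, hε₂, h₂⟩ := Metric.mem_nhds_iff.1 (ht a (Finset.mem_insert_self a I))
    refine ⟨min ε₁ ε₂, lt_min hε₁ hε₂, ?_⟩
    intro b hb
    rcases Finset.mem_insert.1 hb with rfl | hb
    · exact (Metric.ball_subset_ball (min_le_right _ _)).trans h₂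
    · exact (Metric.ball_subset_ball (min_le_left _ _)).trans (h₁ b hb)

/-- the algebraic-to-analytic step: approximation of a `ℂ`-point in `V(𝔭)` by `ℂ`-points in
`V(𝔭) ∩ D(h)` -/
theorem mem_closure_of_prime [LocallyOfFiniteType (X ↘ An.SC)] {U : X.Opens} (hU : IsAffineOpen U)
    (x : An.Pts X) (hx : x.pt ∈ U) (𝔭 : Ideal Γ(X, U)) [𝔭.IsPrime] (h : Γ(X, U)) (hh : h ∉ 𝔭)
    (hx𝔭 : 𝔭 ≤ RingHom.ker (evHom x U hx)) (S : Set (An.Pts X))
    (hS : ∀ (y : An.Pts X) (hy : y.pt ∈ U), 𝔭 ≤ RingHom.ker (evHom y U hy) → evHom y U hy h ≠ 0 →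
      y ∈ S) : x ∈ closure S := by
  let _ : Algebra ℂ Γ(X, U) := (strU U).toAlgebra
  have hft : Algebra.FiniteType ℂ Γ(X, U) := finiteType_strU hU
  let φ : Γ(X, U) →ₐ[ℂ] ℂ := { evHom x U hx with commutes' := evHom_strU x U hx }
  rw [mem_closure_iff_nhds]
  intro N hN
  have hN' : (Subtype.val ⁻¹' N : Set (ptsIn U)) ∈ 𝓝 (⟨x, hx⟩ : ptsIn U) :=
    continuous_subtype_val.continuousAt hN
  rw [(isInducing_evU hU).nhds_eq_comap, nhds_pi, Filter.mem_comap] at hN'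
  obtain ⟨W, hW, hWN⟩ := hN'
  obtain ⟨I, hI, t, ht, hIt⟩ := Filter.mem_pi.1 hW
  obtain ⟨ε, hε, hεt⟩ := exists_pos_forall_ball_subset hI.toFinset (fun a => evHom x U hx a) t
    (fun a _ => ht a)
  obtain ⟨ψ, hψ𝔭, hψh, hψ⟩ := Density.core 𝔭 h hh φ hx𝔭 hI.toFinset ε hε
  have hψid : (ψ : Γ(X, U) →+* ℂ).comp (strU U) = RingHom.id ℂ := by
    ext c
    exact ψ.commutes c
  obtain ⟨y, hy, hyψ⟩ := exists_evHom_eq hU (ψ : Γ(X, U) →+* ℂ) hψid
  refine ⟨y, ?_, hS y hy (by rw [hyψ]; exact hψ𝔭) (by rw [hyψ]; exact hψh)⟩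
  have : (⟨y, hy⟩ : ptsIn U) ∈ evU U ⁻¹' W := by
    apply hIt
    intro a ha
    apply hεt a (hI.mem_toFinset.2 ha)
    rw [Metric.mem_ball, dist_eq_norm]
    change ‖evHom y U hy a - evHom x U hx a‖ < ε
    rw [hyψ]
    exact hψ a (hI.mem_toFinset.2 ha)
  exact hWN this

end Groth.Agent.Helper7.AnPts
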