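import Mathlib
import Groth.Prelude.Def_AnPts
import Groth.Agent.Lib.Helper7.Density7

set_option autoImplicit false
open CategoryTheory AlgebraicGeometry Topology TopologicalSpace Opposite
open An

namespace Groth.Agent.Helper7.AnPts

variable {X : Scheme.{0}} [X.Over An.SC]

theorem preimage_closure_of_isLocallyConstructible [LocallyOfFiniteType (X ↘ An.SC)]
    (T : Set ↥X) (hT : IsLocallyConstructible T) :
    (An.Pts.pt ⁻¹' closure T : Set (An.Pts X)) = closure (An.Pts.pt ⁻¹' T) := by
  apply subset_antisymm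
  · intro x hx
    obtain ⟨U', hU', hxU, -⟩ :=
      (X.isBasis_affineOpens).exists_subset_of_mem_open (Set.mem_univ x.pt) isOpen_univ
    obtain ⟨U, hU, rfl⟩ := hU'
    have hxU : x.pt ∈ U := hxU
    let _ : Algebra ℂ Γ(X, U) := (strU U).toAlgebra
    have hft : Algebra.FiniteType ℂ Γ(X, U) := finiteType_strU hU
    have hnoeth : IsNoetherianRing Γ(X, U) := Algebra.FiniteType.isNoetherianRing ℂ _
    have hoe : IsOpenEmbedding hU.fromSpec := hU.fromSpec.isOpenEmbedding
    set T' : Set ↥(Spec Γ(X, U)) := hU.fromSpec ⁻¹' T with hT'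
    have hT'lc : IsLocallyConstructible T' := hT.preimage_of_isOpenEmbedding hoe
    have hT'c : IsConstructible T' := hT'lc.isConstructible
    have hpx : specPt x U hxU ∈ closure T' := by
      rw [hT', ← hoe.isOpenMap.preimage_closure_eq_closure_preimage hoe.continuous]
      change hU.fromSpec (specPt x U hxU) ∈ closure T
      rw [fromSpec_specPt]
      exact hx
    have : NoetherianSpace ↥(Spec Γ(X, U)) :=
      inferInstanceAs (NoetherianSpace (PrimeSpectrum Γ(X, U)))
    obtain ⟨q, hqp, O, hO, hqO, hsub⟩ := Density.exists_generic_of_mem_closure hT'c hpx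
    obtain ⟨v, ⟨h, rfl⟩, hqv, hvO⟩ :=
      PrimeSpectrum.isTopologicalBasis_basic_opens.exists_subset_of_mem_open hqO hO
    have hqprime : (q : PrimeSpectrum Γ(X, U)).asIdeal.IsPrime := q.2
    refine mem_closure_of_prime hU x hxU (q : PrimeSpectrum Γ(X, U)).asIdeal h ?_ ?_ _ ?_
    · exact hqv
    · rw [← specPt_asIdeal]
      exact (PrimeSpectrum.le_iff_specializes _ _).2 hqp
    · intro y hy hy𝔭 hyh
      change y.pt ∈ T
      rw [← fromSpec_specPt y hU hy]
      apply hsub
      refine ⟨hvO ?_, ?_⟩
      · change h ∉ (specPt y U hy : PrimeSpectrum Γ(X, U)).asIdeal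
        rw [specPt_asIdeal, RingHom.mem_ker]
        exact hyh
      · rw [← specializes_iff_mem_closure]
        apply (PrimeSpectrum.le_iff_specializes _ _).1
        change (q : PrimeSpectrum Γ(X, U)).asIdeal ≤ (specPt y U hy : PrimeSpectrum Γ(X, U)).asIdeal
        rw [specPt_asIdeal]
        exact hy𝔭
  · exact closure_minimal (Set.preimage_mono subset_closure)
      (isClosed_closure.preimage An.Pts.continuous_pt)

end Groth.Agent.Helper7.AnPts
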