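import Mathlib
import Groth.Prelude.Def_AnPts
import Groth.Agent.Lib.Helper7.Density8
import Groth.Agent.Lib.Helper7.ConsTop
import Groth.Agent.Lib.Helper7.AnPts1

set_option autoImplicit false
open CategoryTheory AlgebraicGeometry Topology TopologicalSpace Opposite
open An

namespace Groth.Agent.Helper7.AnPts

theorem isLocallyConstructible_of_isOpen {X : Scheme.{0}} [IsLocallyNoetherian X] {s : Set X}
    (hs : IsOpen s) : IsLocallyConstructible s := by
  intro x
  obtain ⟨U', hU', hxU, -⟩ :=
    (X.isBasis_affineOpens).exists_subset_of_mem_open (Set.mem_univ x) isOpen_univ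
  obtain ⟨U, hU, rfl⟩ := hU'
  refine ⟨U, U.2.mem_nhds hxU, U.2, ?_⟩
  have : IsNoetherianRing Γ(X, U) := IsLocallyNoetherian.component_noetherian ⟨U, hU⟩
  have : NoetherianSpace (↥(U : Set X)) := noetherianSpace_of_isAffineOpen U hU
  exact IsRetrocompact.isConstructible (hs.preimage continuous_subtype_val)
    (fun V _ _ => NoetherianSpace.isCompact _)

theorem isLocallyConstructible_of_isClosed {X : Scheme.{0}} [IsLocallyNoetherian X] {s : Set X}
    (hs : IsClosed s) : IsLocallyConstructible s := by
  have := ConsTop.isLocallyConstructible_compl (isLocallyConstructible_of_isOpen hs.isOpen_compl)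
  rwa [compl_compl] at this

variable {X : Scheme.{0}} [X.Over An.SC] [LocallyOfFiniteType (X ↘ An.SC)]

theorem isLocallyNoetherian_of_lft : IsLocallyNoetherian X :=
  LocallyOfFiniteType.isLocallyNoetherian (X ↘ An.SC)

theorem isOpen_iff_pts (T : Set ↥X) (hT : IsLocallyConstructible T) :
    IsOpen T ↔ IsOpen (An.Pts.pt ⁻¹' T : Set (An.Pts X)) := by
  have hX : IsLocallyNoetherian X := isLocallyNoetherian_of_lft
  constructor
  · intro h
    exact h.preimage An.Pts.continuous_pt
  · intro h
    rw [← isClosed_compl_iff]
    by_contra hcon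
    have hne : (closure Tᶜ ∩ T).Nonempty := by
      by_contra hemp
      rw [Set.not_nonempty_iff_eq_empty] at hemp
      apply hcon
      rw [← closure_subset_iff_isClosed]
      intro p hp
      by_contra hpT
      rw [Set.mem_compl_iff, not_not] at hpT
      have : p ∈ closure Tᶜ ∩ T := ⟨hp, hpT⟩
      rw [hemp] at this
      exact this
    have hD : IsLocallyConstructible (closure Tᶜ ∩ T) :=
      (isLocallyConstructible_of_isClosed isClosed_closure).inter hT
    obtain ⟨t, htD, htne, htlc⟩ := ConsTop.exists_isLocallyClosed_subset hD hne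
    obtain ⟨x, hxt⟩ := exists_pt_mem htne htlc
    have h1 : x ∈ (An.Pts.pt ⁻¹' closure Tᶜ : Set (An.Pts X)) := (htD hxt).1
    rw [preimage_closure_of_isLocallyConstructible _ (ConsTop.isLocallyConstructible_compl hT)] at h1
    have h2 : IsClosed (An.Pts.pt ⁻¹' Tᶜ : Set (An.Pts X)) := by
      rw [Set.preimage_compl]
      exact h.isClosed_compl
    rw [h2.closure_eq] at h1
    exact h1 (htD hxt).2

theorem dense_iff_pts (T : Set ↥X) (hT : IsLocallyConstructible T) :
    Dense T ↔ Dense (An.Pts.pt ⁻¹' T : Set (An.Pts X)) := by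
  rw [dense_iff_closure_eq, dense_iff_closure_eq, ← preimage_closure_of_isLocallyConstructible T hT]
  constructor
  · intro h
    rw [h, Set.preimage_univ]
  · intro h
    by_contra hcon
    have hne : (closure T)ᶜ.Nonempty := by
      rw [Set.nonempty_compl]
      exact hcon
    obtain ⟨x, hx⟩ := exists_pt_mem hne isClosed_closure.isOpen_compl.isLocallyClosed
    have : x ∈ (An.Pts.pt ⁻¹' closure T : Set (An.Pts X)) := by rw [h]; trivial
    exact hx this

theorem discreteTopology_iff_pts : DiscreteTopology ↥X ↔ DiscreteTopology (An.Pts X) := by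
  have hX : IsLocallyNoetherian X := isLocallyNoetherian_of_lft
  constructor
  · intro h
    rw [discreteTopology_iff_isOpen_singleton]
    intro x
    have : ({x} : Set (An.Pts X)) = An.Pts.pt ⁻¹' {x.pt} := by
      ext y
      simp only [Set.mem_singleton_iff, Set.mem_preimage]
      exact ⟨fun h => by rw [h], fun h => pt_injective X h⟩
    rw [this]
    exact (isOpen_discrete _).preimage An.Pts.continuous_pt
  · intro h
    have hclosed : ∀ x : An.Pts X, IsOpen ({x.pt} : Set X) := by
      intro x
      rw [isOpen_iff_pts _ (isLocallyConstructible_of_isClosed (isClosed_singleton_pt x))]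
      exact isOpen_discrete _
    rw [discreteTopology_iff_isOpen_singleton]
    intro p
    obtain ⟨x, hx⟩ := exists_pt_mem (S := closure {p}) ⟨p, subset_closure rfl⟩
      isClosed_closure.isLocallyClosed
    have : p ∈ ({x.pt} : Set X) := by
      have := mem_closure_iff.1 hx _ (hclosed x) rfl
      obtain ⟨z, hz1, hz2⟩ := this
      rw [Set.mem_singleton_iff] at hz2
      rw [hz2] at hz1
      exact hz1
    rw [Set.mem_singleton_iff] at this
    rw [this]
    exact hclosed x

end Groth.Agent.Helper7.AnPts
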