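import Mathlib
import Groth.Prelude.Def_AnPts
import Groth.Agent.Lib.Helper7.AnPts9

set_option autoImplicit false
open CategoryTheory AlgebraicGeometry Topology TopologicalSpace Opposite
open An

namespace Groth.Agent.Helper7.AnPts

variable {X : Scheme.{0}} [X.Over An.SC] [LocallyOfFiniteType (X ↘ An.SC)]
  {Y : Scheme.{0}} [Y.Over An.SC] [LocallyOfFiniteType (Y ↘ An.SC)]

omit [LocallyOfFiniteType (Y ↘ An.SC)] in
theorem locallyOfFiniteType_of_isOver (f : X ⟶ Y) [f.IsOver An.SC] : LocallyOfFiniteType f := by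
  have : LocallyOfFiniteType (f ≫ (Y ↘ An.SC)) := by
    rw [comp_over]
    infer_instance
  exact locallyOfFiniteType_of_comp f (Y ↘ An.SC)

omit [LocallyOfFiniteType (Y ↘ An.SC)] in
theorem range_map_eq (f : X ⟶ Y) [f.IsOver An.SC] :
    Set.range (An.Pts.map f) = An.Pts.pt ⁻¹' Set.range f := by
  ext y
  constructor
  · rintro ⟨x, rfl⟩
    change (An.Pts.map f x).pt ∈ Set.range f
    rw [An.Pts.pt_map]
    exact ⟨_, rfl⟩
  · rintro ⟨p, hp⟩
    have hf : LocallyOfFiniteType f := locallyOfFiniteType_of_isOver f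
    let _ : (Limits.pullback f y.1).Over An.SC := ⟨Limits.pullback.snd f y.1⟩
    have hlft : LocallyOfFiniteType ((Limits.pullback f y.1) ↘ An.SC) :=
      inferInstanceAs (LocallyOfFiniteType (Limits.pullback.snd f y.1))
    obtain ⟨z0, -, -⟩ := Scheme.Pullback.exists_preimage_pullback (f := f) (g := y.1) p An.cpt hp
    obtain ⟨z, -⟩ := exists_pt_mem (X := Limits.pullback f y.1) (S := Set.univ) ⟨z0, trivial⟩
      isOpen_univ.isLocallyClosed
    have hz : z.1 ≫ Limits.pullback.snd f y.1 = 𝟙 An.SC := z.2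
    have hxf : (z.1 ≫ Limits.pullback.fst f y.1) ≫ f = y.1 := by
      rw [Category.assoc, Limits.pullback.condition, ← Category.assoc, hz, Category.id_comp]
    refine ⟨⟨z.1 ≫ Limits.pullback.fst f y.1, ?_⟩, Subtype.ext hxf⟩
    rw [← comp_over f An.SC, ← Category.assoc, hxf, y.2]

theorem denseRange_iff_pts (f : X ⟶ Y) [f.IsOver An.SC] [QuasiCompact f] :
    DenseRange f.base ↔ DenseRange (An.Pts.map f) := by
  have hY : IsLocallyNoetherian Y := isLocallyNoetherian_of_lft
  have hf : LocallyOfFiniteType f := locallyOfFiniteType_of_isOver f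
  have hT : IsLocallyConstructible (Set.range f) := by
    rw [← Set.image_univ]
    exact f.isLocallyConstructible_image IsLocallyConstructible.univ
  unfold DenseRange
  rw [range_map_eq]
  exact dense_iff_pts _ hT

end Groth.Agent.Helper7.AnPts
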