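import Mathlib
import Groth.Prelude.Def_AnPts
import Groth.Agent.Lib.Helper7.AnPts10

set_option autoImplicit false
open CategoryTheory AlgebraicGeometry Topology TopologicalSpace Opposite
open An TensorProduct

namespace Groth.Agent.Helper7.AnPts

variable {X : Scheme.{0}} [X.Over An.SC] {Y : Scheme.{0}} [Y.Over An.SC]
  {P : Scheme.{0}} [P.Over An.SC]

theorem continuous_evTop (a : Γ(X, ⊤)) : Continuous (fun x : An.Pts X => x.evTop a) := by
  rw [continuous_def]
  intro V hV
  have : (fun x : An.Pts X => x.evTop a) ⁻¹' V = An.Pts.basicSet ⊤ a V := by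
    ext x
    simp only [Set.mem_preimage, An.Pts.basicSet, Set.mem_ofPred_eq]
    exact ⟨fun h => ⟨trivial, h⟩, fun ⟨_, h⟩ => h⟩
  rw [this]
  exact An.Pts.isOpen_basicSet _ _ hV

theorem evTop_map (g : X ⟶ Y) [g.IsOver An.SC] (x : An.Pts X) (b : Γ(Y, ⊤)) :
    (An.Pts.map g x).evTop b = x.evTop (g.appTop b) :=
  An.Pts.ev_map g x ⊤ trivial b

theorem isInducing_evTopAll [IsAffine X] :
    IsInducing (fun (x : An.Pts X) (a : Γ(X, ⊤)) => x.evTop a) := by
  have h1 := (isInducing_evU (isAffineOpen_top X)).comp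
    (isClosedEmbedding_toTop (X := X)).isInducing
  exact h1

theorem evTop_add (x : An.Pts X) (a b : Γ(X, ⊤)) : x.evTop (a + b) = x.evTop a + x.evTop b :=
  map_add (evHom x ⊤ trivial) a b

theorem evTop_mul (x : An.Pts X) (a b : Γ(X, ⊤)) : x.evTop (a * b) = x.evTop a * x.evTop b :=
  map_mul (evHom x ⊤ trivial) a b

theorem evTop_neg (x : An.Pts X) (a : Γ(X, ⊤)) : x.evTop (-a) = - x.evTop a :=
  map_neg (evHom x ⊤ trivial) a

theorem evTop_zero (x : An.Pts X) : x.evTop (0 : Γ(X, ⊤)) = 0 := map_zero (evHom x ⊤ trivial)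

theorem evTop_one (x : An.Pts X) : x.evTop (1 : Γ(X, ⊤)) = 1 := map_one (evHom x ⊤ trivial)

/-- if the global sections of an affine `P` are generated by pullbacks of functions on `X` and
`Y`, the topology of `P(ℂ)` is induced from `X(ℂ) × Y(ℂ)` -/
theorem isInducing_prod_of_closure_eq_top [IsAffine P] (p₁ : P ⟶ X) (p₂ : P ⟶ Y)
    [p₁.IsOver An.SC] [p₂.IsOver An.SC]
    (h : Subring.closure (Set.range p₁.appTop.hom ∪ Set.range p₂.appTop.hom) = ⊤) :
    IsInducing (fun z : An.Pts P => (An.Pts.map p₁ z, An.Pts.map p₂ z)) := by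
  have hcont : Continuous (fun z : An.Pts P => (An.Pts.map p₁ z, An.Pts.map p₂ z)) :=
    (An.Pts.continuous_map p₁).prodMk (An.Pts.continuous_map p₂)
  have key : ∀ c : Γ(P, ⊤), ∃ F : An.Pts X × An.Pts Y → ℂ, Continuous F ∧
      ∀ z : An.Pts P, z.evTop c = F (An.Pts.map p₁ z, An.Pts.map p₂ z) := by
    intro c
    have hc : c ∈ Subring.closure (Set.range p₁.appTop.hom ∪ Set.range p₂.appTop.hom) := by
      rw [h]; trivial
    induction hc using Subring.closure_induction with
    | mem c hc =>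
      rcases hc with ⟨a, rfl⟩ | ⟨b, rfl⟩
      · exact ⟨fun q => q.1.evTop a, (continuous_evTop a).comp continuous_fst,
          fun z => (evTop_map p₁ z a).symm⟩
      · exact ⟨fun q => q.2.evTop b, (continuous_evTop b).comp continuous_snd,
          fun z => (evTop_map p₂ z b).symm⟩
    | zero => exact ⟨fun _ => 0, continuous_const, fun z => evTop_zero z⟩
    | one => exact ⟨fun _ => 1, continuous_const, fun z => evTop_one z⟩
    | add a b _ _ ha hb =>
      obtain ⟨Fa, hFa, ha⟩ := ha
      obtain ⟨Fb, hFb, hb⟩ := hb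
      exact ⟨fun q => Fa q + Fb q, hFa.add hFb, fun z => by rw [evTop_add, ha, hb]⟩
    | neg a _ ha =>
      obtain ⟨Fa, hFa, ha⟩ := ha
      exact ⟨fun q => - Fa q, hFa.neg, fun z => by rw [evTop_neg, ha]⟩
    | mul a b _ _ ha hb =>
      obtain ⟨Fa, hFa, ha⟩ := ha
      obtain ⟨Fb, hFb, hb⟩ := hb
      exact ⟨fun q => Fa q * Fb q, hFa.mul hFb, fun z => by rw [evTop_mul, ha, hb]⟩
  choose F hF hFz using key
  refine IsInducing.of_comp hcont (continuous_pi hF : Continuous (fun q c => F c q)) ?_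
  have : ((fun q c => F c q) ∘ fun z : An.Pts P => (An.Pts.map p₁ z, An.Pts.map p₂ z)) =
      fun (z : An.Pts P) (c : Γ(P, ⊤)) => z.evTop c := by
    funext z c
    exact (hFz c z).symm
  rw [this]
  exact isInducing_evTopAll

theorem closure_eq_top_pullback_Spec (R A B : Type) [CommRing R] [CommRing A] [CommRing B]
    [Algebra R A] [Algebra R B] :
    Subring.closure
      (Set.range (Limits.pullback.fst (Spec.map (CommRingCat.ofHom (algebraMap R A)))
          (Spec.map (CommRingCat.ofHom (algebraMap R B)))).appTop.hom ∪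
        Set.range (Limits.pullback.snd (Spec.map (CommRingCat.ofHom (algebraMap R A)))
          (Spec.map (CommRingCat.ofHom (algebraMap R B)))).appTop.hom) = ⊤ := by
  set f' := Spec.map (CommRingCat.ofHom (algebraMap R A)) with hf'
  set g' := Spec.map (CommRingCat.ofHom (algebraMap R B)) with hg'
  set Q := Subring.closure (Set.range (Limits.pullback.fst f' g').appTop.hom ∪
    Set.range (Limits.pullback.snd f' g').appTop.hom) with hQ
  let e := pullbackSpecIso R A B
  -- the ring isomorphism `A ⊗ B → Γ(P)`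
  let κ : (CommRingCat.of (A ⊗[R] B)) ⟶ Γ(Limits.pullback f' g', ⊤) :=
    (Scheme.ΓSpecIso (CommRingCat.of (A ⊗[R] B))).inv ≫ e.hom.appTop
  have hκiso : IsIso κ := by
    have : IsIso e.hom.appTop := Scheme.Hom.instIsIsoCommRingCatApp e.hom ⊤
    infer_instance
  have hκsurj : Function.Surjective κ.hom := (ConcreteCategory.bijective_of_isIso κ).2
  have hL : ∀ a : A, κ.hom (a ⊗ₜ[R] 1) ∈ Q := by
    intro a
    apply Subring.subset_closure
    left
    refine ⟨(Scheme.ΓSpecIso (CommRingCat.of A)).inv.hom a, ?_⟩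
    have h1 : (Limits.pullback.fst f' g').appTop =
        (Spec.map (CommRingCat.ofHom
          (Algebra.TensorProduct.includeLeftRingHom : A →+* A ⊗[R] B))).appTop ≫ e.hom.appTop := by
      rw [← Scheme.Hom.comp_appTop, pullbackSpecIso_hom_fst]
    have h2 := Scheme.ΓSpecIso_inv_naturality (CommRingCat.ofHom
          (Algebra.TensorProduct.includeLeftRingHom : A →+* A ⊗[R] B))
    rw [h1]
    change ((Scheme.ΓSpecIso (CommRingCat.of A)).inv ≫ (Spec.map (CommRingCat.ofHom
          (Algebra.TensorProduct.includeLeftRingHom : A →+* A ⊗[R] B))).appTop ≫ e.hom.appTop).hom a = _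
    rw [← Category.assoc, ← h2]
    rfl
  have hR : ∀ b : B, κ.hom (1 ⊗ₜ[R] b) ∈ Q := by
    intro b
    apply Subring.subset_closure
    right
    refine ⟨(Scheme.ΓSpecIso (CommRingCat.of B)).inv.hom b, ?_⟩
    have h1 : (Limits.pullback.snd f' g').appTop =
        (Spec.map (CommRingCat.ofHom
          (RingHomClass.toRingHom (Algebra.TensorProduct.includeRight : B →ₐ[R] A ⊗[R] B)))).appTop ≫ e.hom.appTop := by
      rw [← Scheme.Hom.comp_appTop, pullbackSpecIso_hom_snd]
    have h2 := Scheme.ΓSpecIso_inv_naturality (CommRingCat.ofHom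
          (RingHomClass.toRingHom (Algebra.TensorProduct.includeRight : B →ₐ[R] A ⊗[R] B)))
    rw [h1]
    change ((Scheme.ΓSpecIso (CommRingCat.of B)).inv ≫ (Spec.map (CommRingCat.ofHom
          (RingHomClass.toRingHom (Algebra.TensorProduct.includeRight : B →ₐ[R] A ⊗[R] B)))).appTop ≫ e.hom.appTop).hom b = _
    rw [← Category.assoc, ← h2]
    rfl
  rw [eq_top_iff]
  intro c _
  obtain ⟨t, rfl⟩ := hκsurj c
  clear * - hL hR
  induction t using TensorProduct.induction_on with
  | zero => rw [map_zero]; exact Subring.zero_mem _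
  | tmul a b =>
    have : a ⊗ₜ[R] b = (a ⊗ₜ[R] 1) * (1 ⊗ₜ[R] b) := by
      rw [Algebra.TensorProduct.tmul_mul_tmul, mul_one, one_mul]
    rw [this, map_mul]
    exact Subring.mul_mem _ (hL a) (hR b)
  | add x y hx hy =>
    rw [map_add]
    exact Subring.add_mem _ hx hy

end Groth.Agent.Helper7.AnPts
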