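import Mathlib
import Groth.Prelude.Def_AnPts
import Groth.Agent.Lib.Helper7.AnPts11

set_option autoImplicit false
open CategoryTheory AlgebraicGeometry Topology TopologicalSpace Opposite
open An

namespace Groth.Agent.Helper7.AnPts

theorem isInducing_of_local' {α β : Type*} [TopologicalSpace α] [TopologicalSpace β] (φ : α → β)
    (hc : Continuous φ)
    (h : ∀ O : Set α, IsOpen O → ∀ x ∈ O, ∃ W : Set β, IsOpen W ∧ φ x ∈ W ∧ φ ⁻¹' W ⊆ O) :
    IsInducing φ := by
  refine ⟨le_antisymm (continuous_iff_le_induced.1 hc) ?_⟩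
  intro O hO
  choose! W hW using h O hO
  refine ⟨⋃ x ∈ O, W x, isOpen_biUnion fun x hx => (hW x hx).1, ?_⟩
  ext z
  simp only [Set.preimage_iUnion, Set.mem_iUnion, Set.mem_preimage, exists_prop]
  constructor
  · rintro ⟨x, hx, hz⟩
    exact (hW x hx).2.2 hz
  · intro hz
    exact ⟨z, hz, (hW z hz).2.1⟩

theorem local_of_openImmersions
    {X Y S X' Y' S' : Scheme.{0}} [X.Over An.SC] [Y.Over An.SC] [S.Over An.SC] [X'.Over An.SC]
    [Y'.Over An.SC] [S'.Over An.SC]
    (f : X ⟶ S) (g : Y ⟶ S) [f.IsOver An.SC] [g.IsOver An.SC]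
    (f' : X' ⟶ S') (g' : Y' ⟶ S') [f'.IsOver An.SC] [g'.IsOver An.SC]
    (ιX : X' ⟶ X) (ιY : Y' ⟶ Y) (ιS : S' ⟶ S) [ιX.IsOver An.SC] [ιY.IsOver An.SC]
    [IsOpenImmersion ιX] [IsOpenImmersion ιY] [IsOpenImmersion ιS]
    (e₁ : f' ≫ ιS = ιX ≫ f) (e₂ : g' ≫ ιS = ιY ≫ g)
    (hind : IsInducing (fun z' : An.Pts (Limits.pullback f' g') =>
      (An.Pts.map (Limits.pullback.fst f' g') z', An.Pts.map (Limits.pullback.snd f' g') z')))
    (O : Set (An.Pts (Limits.pullback f g))) (hO : IsOpen O) (z₀ : An.Pts (Limits.pullback f g))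
    (hz₀ : z₀ ∈ O)
    (hX : (An.Pts.map (Limits.pullback.fst f g) z₀).pt ∈ Set.range ιX)
    (hY : (An.Pts.map (Limits.pullback.snd f g) z₀).pt ∈ Set.range ιY) :
    ∃ W : Set (An.Pts X × An.Pts Y), IsOpen W ∧
      (An.Pts.map (Limits.pullback.fst f g) z₀, An.Pts.map (Limits.pullback.snd f g) z₀) ∈ W ∧
      (fun z : An.Pts (Limits.pullback f g) =>
        (An.Pts.map (Limits.pullback.fst f g) z, An.Pts.map (Limits.pullback.snd f g) z)) ⁻¹' W ⊆ O := by
  let j := Limits.pullback.map f' g' f g ιX ιY ιS e₁ e₂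
  have hjfst : j ≫ Limits.pullback.fst f g = Limits.pullback.fst f' g' ≫ ιX :=
    Limits.pullback.lift_fst _ _ _
  have hjsnd : j ≫ Limits.pullback.snd f g = Limits.pullback.snd f' g' ≫ ιY :=
    Limits.pullback.lift_snd _ _ _
  have : j.IsOver An.SC := ⟨by
    change j ≫ Limits.pullback.fst f g ≫ (X ↘ An.SC) = Limits.pullback.fst f' g' ≫ (X' ↘ An.SC)
    rw [← Category.assoc, hjfst, Category.assoc, comp_over]⟩
  have hjoe := isOpenEmbedding_map_of_isOpenImmersion j
  have hXoe := isOpenEmbedding_map_of_isOpenImmersion ιX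
  have hYoe := isOpenEmbedding_map_of_isOpenImmersion ιY
  have h1 : ∀ z', An.Pts.map (Limits.pullback.fst f g) (An.Pts.map j z') =
      An.Pts.map ιX (An.Pts.map (Limits.pullback.fst f' g') z') := by
    intro z'
    apply Subtype.ext
    change (z'.1 ≫ j) ≫ Limits.pullback.fst f g = (z'.1 ≫ Limits.pullback.fst f' g') ≫ ιX
    rw [Category.assoc, hjfst, Category.assoc]
  have h2 : ∀ z', An.Pts.map (Limits.pullback.snd f g) (An.Pts.map j z') =
      An.Pts.map ιY (An.Pts.map (Limits.pullback.snd f' g') z') := by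
    intro z'
    apply Subtype.ext
    change (z'.1 ≫ j) ≫ Limits.pullback.snd f g = (z'.1 ≫ Limits.pullback.snd f' g') ≫ ιY
    rw [Category.assoc, hjsnd, Category.assoc]
  have hrange : ∀ z : An.Pts (Limits.pullback f g),
      (An.Pts.map (Limits.pullback.fst f g) z).pt ∈ Set.range ιX →
      (An.Pts.map (Limits.pullback.snd f g) z).pt ∈ Set.range ιY → z ∈ Set.range (An.Pts.map j) := by
    intro z hzX hzY
    rw [range_map_of_isOpenImmersion]
    change z.pt ∈ Set.range j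
    rw [An.Pts.pt_map] at hzX hzY
    rw [Scheme.Pullback.range_map]
    exact ⟨hzX, hzY⟩
  obtain ⟨z₀', rfl⟩ := hrange z₀ hX hY
  obtain ⟨W₀, hW₀, hW₀O⟩ := hind.isOpen_iff.1 (hO.preimage (An.Pts.continuous_map j))
  refine ⟨Prod.map (An.Pts.map ιX) (An.Pts.map ιY) '' W₀,
    (hXoe.isOpenMap.prodMap hYoe.isOpenMap) _ hW₀, ?_, ?_⟩
  · refine ⟨(An.Pts.map (Limits.pullback.fst f' g') z₀', An.Pts.map (Limits.pullback.snd f' g') z₀'),
      ?_, ?_⟩
    · have : z₀' ∈ An.Pts.map j ⁻¹' O := hz₀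
      rw [← hW₀O] at this
      exact this
    · rw [Prod.map_apply, ← h1, ← h2]
  · rintro z ⟨⟨x', y'⟩, hxy, hz⟩
    rw [Prod.map_apply, Prod.mk.injEq] at hz
    obtain ⟨hzx, hzy⟩ := hz
    have hzX : (An.Pts.map (Limits.pullback.fst f g) z).pt ∈ Set.range ιX := by
      rw [← hzx, An.Pts.pt_map]
      exact ⟨_, rfl⟩
    have hzY : (An.Pts.map (Limits.pullback.snd f g) z).pt ∈ Set.range ιY := by
      rw [← hzy, An.Pts.pt_map]
      exact ⟨_, rfl⟩
    obtain ⟨z', rfl⟩ := hrange z hzX hzY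
    rw [h1] at hzx
    rw [h2] at hzy
    have hx' := hXoe.injective hzx
    have hy' := hYoe.injective hzy
    have : z' ∈ An.Pts.map j ⁻¹' O := by
      rw [← hW₀O]
      change (An.Pts.map (Limits.pullback.fst f' g') z', An.Pts.map (Limits.pullback.snd f' g') z') ∈ W₀
      rw [← hx', ← hy']
      exact hxy
    exact this

end Groth.Agent.Helper7.AnPts
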