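import Mathlib
import Groth.Prelude.Def_AnPts
import Groth.Agent.Lib.Helper7.AnPts12

set_option autoImplicit false
open CategoryTheory AlgebraicGeometry Topology TopologicalSpace Opposite
open An

namespace Groth.Agent.Helper7.AnPts

variable {X Y S : Scheme.{0}} [X.Over An.SC] [Y.Over An.SC] [S.Over An.SC]
  (f : X ⟶ S) (g : Y ⟶ S) [f.IsOver An.SC] [g.IsOver An.SC]

theorem local_of_affineOpens {X₀ : X.Opens} {Y₀ : Y.Opens} {S₀ : S.Opens}
    (hX₀ : IsAffineOpen X₀) (hY₀ : IsAffineOpen Y₀) (hS₀ : IsAffineOpen S₀)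
    (hXS : X₀ ≤ f ⁻¹ᵁ S₀) (hYS : Y₀ ≤ g ⁻¹ᵁ S₀)
    (O : Set (An.Pts (Limits.pullback f g))) (hO : IsOpen O) (z₀ : An.Pts (Limits.pullback f g))
    (hz₀ : z₀ ∈ O)
    (hX : (An.Pts.map (Limits.pullback.fst f g) z₀).pt ∈ X₀)
    (hY : (An.Pts.map (Limits.pullback.snd f g) z₀).pt ∈ Y₀) :
    ∃ W : Set (An.Pts X × An.Pts Y), IsOpen W ∧
      (An.Pts.map (Limits.pullback.fst f g) z₀, An.Pts.map (Limits.pullback.snd f g) z₀) ∈ W ∧
      (fun z : An.Pts (Limits.pullback f g) =>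
        (An.Pts.map (Limits.pullback.fst f g) z, An.Pts.map (Limits.pullback.snd f g) z)) ⁻¹' W ⊆ O := by
  let _ : Algebra Γ(S, S₀) Γ(X, X₀) := (f.appLE S₀ X₀ hXS).hom.toAlgebra
  let _ : Algebra Γ(S, S₀) Γ(Y, Y₀) := (g.appLE S₀ Y₀ hYS).hom.toAlgebra
  let f' : Spec (CommRingCat.of Γ(X, X₀)) ⟶ Spec (CommRingCat.of Γ(S, S₀)) :=
    Spec.map (CommRingCat.ofHom (algebraMap Γ(S, S₀) Γ(X, X₀)))
  let g' : Spec (CommRingCat.of Γ(Y, Y₀)) ⟶ Spec (CommRingCat.of Γ(S, S₀)) :=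
    Spec.map (CommRingCat.ofHom (algebraMap Γ(S, S₀) Γ(Y, Y₀)))
  let ιX : Spec (CommRingCat.of Γ(X, X₀)) ⟶ X := hX₀.fromSpec
  let ιY : Spec (CommRingCat.of Γ(Y, Y₀)) ⟶ Y := hY₀.fromSpec
  let ιS : Spec (CommRingCat.of Γ(S, S₀)) ⟶ S := hS₀.fromSpec
  have e₁ : f' ≫ ιS = ιX ≫ f := IsAffineOpen.SpecMap_appLE_fromSpec f hS₀ hX₀ hXS
  have e₂ : g' ≫ ιS = ιY ≫ g := IsAffineOpen.SpecMap_appLE_fromSpec g hS₀ hY₀ hYS
  let _ : (Spec (CommRingCat.of Γ(X, X₀))).Over An.SC := ⟨ιX ≫ X ↘ An.SC⟩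
  let _ : (Spec (CommRingCat.of Γ(Y, Y₀))).Over An.SC := ⟨ιY ≫ Y ↘ An.SC⟩
  let _ : (Spec (CommRingCat.of Γ(S, S₀))).Over An.SC := ⟨ιS ≫ S ↘ An.SC⟩
  have : ιX.IsOver An.SC := ⟨rfl⟩
  have : ιY.IsOver An.SC := ⟨rfl⟩
  have : f'.IsOver An.SC := ⟨by
    change f' ≫ ιS ≫ S ↘ An.SC = ιX ≫ X ↘ An.SC
    rw [← Category.assoc, e₁, Category.assoc, comp_over]⟩
  have : g'.IsOver An.SC := ⟨by
    change g' ≫ ιS ≫ S ↘ An.SC = ιY ≫ Y ↘ An.SC
    rw [← Category.assoc, e₂, Category.assoc, comp_over]⟩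
  have : IsOpenImmersion ιX := inferInstanceAs (IsOpenImmersion hX₀.fromSpec)
  have : IsOpenImmersion ιY := inferInstanceAs (IsOpenImmersion hY₀.fromSpec)
  have : IsOpenImmersion ιS := inferInstanceAs (IsOpenImmersion hS₀.fromSpec)
  have hind : IsInducing (fun z' : An.Pts (Limits.pullback f' g') =>
      (An.Pts.map (Limits.pullback.fst f' g') z', An.Pts.map (Limits.pullback.snd f' g') z')) :=
    isInducing_prod_of_closure_eq_top _ _ (closure_eq_top_pullback_Spec Γ(S, S₀) Γ(X, X₀) Γ(Y, Y₀))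
  refine local_of_openImmersions f g f' g' ιX ιY ιS e₁ e₂ hind O hO z₀ hz₀ ?_ ?_
  · change _ ∈ Set.range hX₀.fromSpec
    rw [hX₀.range_fromSpec]
    exact hX
  · change _ ∈ Set.range hY₀.fromSpec
    rw [hY₀.range_fromSpec]
    exact hY

theorem isInducing_prod_pullback :
    IsInducing (fun z : An.Pts (Limits.pullback f g) =>
      (An.Pts.map (Limits.pullback.fst f g) z, An.Pts.map (Limits.pullback.snd f g) z)) := by
  apply isInducing_of_local' _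
    ((An.Pts.continuous_map (Limits.pullback.fst f g)).prodMk
      (An.Pts.continuous_map (Limits.pullback.snd f g)))
  intro O hO z₀ hz₀
  set x := An.Pts.map (Limits.pullback.fst f g) z₀ with hx
  set y := An.Pts.map (Limits.pullback.snd f g) z₀ with hy
  have hxy : f x.pt = g y.pt := by
    have := congrArg An.Pts.pt (An.Pts.map_pullback_condition f g z₀)
    rw [An.Pts.pt_map, An.Pts.pt_map] at this
    exact this
  obtain ⟨S₀', hS₀', hsS₀, -⟩ :=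
    (S.isBasis_affineOpens).exists_subset_of_mem_open (Set.mem_univ (f x.pt)) isOpen_univ
  obtain ⟨S₀, hS₀, rfl⟩ := hS₀'
  obtain ⟨X₀', hX₀', hxX₀, hXS⟩ :=
    (X.isBasis_affineOpens).exists_subset_of_mem_open (show x.pt ∈ (f ⁻¹ᵁ S₀ : Set X) from hsS₀)
      (f ⁻¹ᵁ S₀).2
  obtain ⟨X₀, hX₀, rfl⟩ := hX₀'
  obtain ⟨Y₀', hY₀', hyY₀, hYS⟩ :=
    (Y.isBasis_affineOpens).exists_subset_of_mem_open
      (show y.pt ∈ (g ⁻¹ᵁ S₀ : Set Y) from by change g y.pt ∈ S₀; rw [← hxy]; exact hsS₀)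
      (g ⁻¹ᵁ S₀).2
  obtain ⟨Y₀, hY₀, rfl⟩ := hY₀'
  exact local_of_affineOpens f g hX₀ hY₀ hS₀ hXS hYS O hO z₀ hz₀ hxX₀ hyY₀

theorem isHomeomorph_pullback :
    IsHomeomorph (fun z : An.Pts (Limits.pullback f g) =>
      (⟨(An.Pts.map (Limits.pullback.fst f g) z, An.Pts.map (Limits.pullback.snd f g) z),
        An.Pts.map_pullback_condition f g z⟩ :
        {q : An.Pts X × An.Pts Y // An.Pts.map f q.1 = An.Pts.map g q.2})) := by
  rw [isHomeomorph_iff_isEmbedding_surjective]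
  refine ⟨⟨?_, ?_⟩, ?_⟩
  · refine IsInducing.of_comp ?_ continuous_subtype_val (isInducing_prod_pullback f g)
    exact Continuous.subtype_mk ((An.Pts.continuous_map (Limits.pullback.fst f g)).prodMk
      (An.Pts.continuous_map (Limits.pullback.snd f g))) _
  · intro z z' h
    have h' := congrArg Subtype.val h
    rw [Prod.mk.injEq] at h'
    apply Subtype.ext
    apply Limits.pullback.hom_ext
    · exact congrArg Subtype.val h'.1
    · exact congrArg Subtype.val h'.2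
  · rintro ⟨⟨x, y⟩, hxy⟩
    have hxy' : x.1 ≫ f = y.1 ≫ g := congrArg Subtype.val hxy
    refine ⟨⟨Limits.pullback.lift x.1 y.1 hxy', ?_⟩, ?_⟩
    · change Limits.pullback.lift x.1 y.1 hxy' ≫ Limits.pullback.fst f g ≫ (X ↘ An.SC) = 𝟙 An.SC
      rw [← Category.assoc, Limits.pullback.lift_fst, x.2]
    · apply Subtype.ext
      apply Prod.ext
      · apply Subtype.ext
        exact Limits.pullback.lift_fst _ _ _
      · apply Subtype.ext
        exact Limits.pullback.lift_snd _ _ _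

end Groth.Agent.Helper7.AnPts
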