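import Mathlib
import Groth.Prelude.Def_AnPts
import Groth.Agent.Lib.Helper7.AnPts13

set_option autoImplicit false
open CategoryTheory AlgebraicGeometry Topology TopologicalSpace Opposite
open An

namespace Groth.Agent.Helper7.AnPts

theorem isLocallyConstructible_of_isLocallyClosed {X : Scheme.{0}} [IsLocallyNoetherian X]
    {s : Set X} (hs : IsLocallyClosed s) : IsLocallyConstructible s := by
  obtain ⟨U, Z, hU, hZ, rfl⟩ := hs
  exact (isLocallyConstructible_of_isOpen hU).inter (isLocallyConstructible_of_isClosed hZ)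

variable {X : Scheme.{0}} [X.Over An.SC] [LocallyOfFiniteType (X ↘ An.SC)]
  {Y : Scheme.{0}} [Y.Over An.SC] [LocallyOfFiniteType (Y ↘ An.SC)]

omit [LocallyOfFiniteType (Y ↘ An.SC)] in
theorem isClosed_iff_pts (T : Set ↥X) (hT : IsLocallyConstructible T) :
    IsClosed T ↔ IsClosed (An.Pts.pt ⁻¹' T : Set (An.Pts X)) := by
  rw [← isOpen_compl_iff, ← isOpen_compl_iff, ← Set.preimage_compl]
  exact isOpen_iff_pts _ (ConsTop.isLocallyConstructible_compl hT)

omit [LocallyOfFiniteType (Y ↘ An.SC)] in
theorem isSeparated_iff_pts (f : X ⟶ Y) [f.IsOver An.SC] :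
    IsSeparated f ↔ IsSeparatedMap (An.Pts.map f) := by
  have hf : LocallyOfFiniteType f := locallyOfFiniteType_of_isOver f
  have hP : LocallyOfFiniteType ((Limits.pullback f f) ↘ An.SC) :=
    inferInstanceAs (LocallyOfFiniteType (Limits.pullback.fst f f ≫ X ↘ An.SC))
  have hPN : IsLocallyNoetherian (Limits.pullback f f) := isLocallyNoetherian_of_lft
  let Δ : X ⟶ Limits.pullback f f := Limits.pullback.diagonal f
  have hΔ : Δ.IsOver An.SC := ⟨by
    change Limits.pullback.diagonal f ≫ Limits.pullback.fst f f ≫ X ↘ An.SC = X ↘ An.SC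
    rw [← Category.assoc, Limits.pullback.diagonal_fst, Category.id_comp]⟩
  have hθ := isHomeomorph_pullback f f
  set θ : An.Pts (Limits.pullback f f) →
      {q : An.Pts X × An.Pts X // An.Pts.map f q.1 = An.Pts.map f q.2} := fun z =>
      ⟨(An.Pts.map (Limits.pullback.fst f f) z, An.Pts.map (Limits.pullback.snd f f) z),
        An.Pts.map_pullback_condition f f z⟩ with hθdef
  have hcomp : θ ∘ An.Pts.map Δ = toPullbackDiag (An.Pts.map f) := by
    funext x
    apply Subtype.ext
    apply Prod.ext
    · apply Subtype.ext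
      change (x.1 ≫ Limits.pullback.diagonal f) ≫ Limits.pullback.fst f f = x.1
      rw [Category.assoc, Limits.pullback.diagonal_fst, Category.comp_id]
    · apply Subtype.ext
      change (x.1 ≫ Limits.pullback.diagonal f) ≫ Limits.pullback.snd f f = x.1
      rw [Category.assoc, Limits.pullback.diagonal_snd, Category.comp_id]
  -- step 1: topological side
  have h1 : IsSeparatedMap (An.Pts.map f) ↔ IsClosed (Set.range (An.Pts.map Δ)) := by
    rw [isSeparatedMap_iff_isClosed_diagonal, ← range_toPullbackDiag, ← hcomp, Set.range_comp]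
    let e : An.Pts (Limits.pullback f f) ≃ₜ
      {q : An.Pts X × An.Pts X // An.Pts.map f q.1 = An.Pts.map f q.2} := hθ.homeomorph θ
    exact e.isClosed_image
  -- step 2: algebraic side
  have h2 : IsSeparated f ↔ IsClosed (Set.range Δ) := by
    constructor
    · intro h
      exact (Limits.pullback.diagonal f).isClosedEmbedding.isClosed_range
    · intro h
      exact ⟨IsClosedImmersion.of_isPreimmersion _ h⟩
  have himm : IsImmersion (Limits.pullback.diagonal f) := inferInstance
  have hlc : IsLocallyConstructible (Set.range Δ) :=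
    isLocallyConstructible_of_isLocallyClosed himm.isLocallyClosed_range
  rw [h1, h2, isClosed_iff_pts _ hlc, range_map_eq]

end Groth.Agent.Helper7.AnPts
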