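import Mathlib
import Groth.Prelude.Def_AnPts
import Groth.Agent.Lib.Helper7.AnPts14

set_option autoImplicit false
open CategoryTheory AlgebraicGeometry Topology TopologicalSpace Opposite
open An

namespace Groth.Agent.Helper7.AnPts

variable {X : Scheme.{0}} [X.Over An.SC] [LocallyOfFiniteType (X ↘ An.SC)]

theorem t2Space_iff_isSeparated : IsSeparated (X ↘ An.SC) ↔ T2Space (An.Pts X) := by
  let i : An.SC.Over An.SC := ⟨𝟙 An.SC⟩
  have hover : @Scheme.Hom.IsOver X An.SC (X ↘ An.SC) An.SC _ i :=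
    @HomIsOver.mk _ _ _ _ (X ↘ An.SC) An.SC _ i (Category.comp_id _)
  rw [@isSeparated_iff_pts X _ _ An.SC i (X ↘ An.SC) hover]
  have hsub : Subsingleton (@An.Pts An.SC i) := by
    constructor
    intro a b
    apply Subtype.ext
    have ha : a.1 ≫ 𝟙 An.SC = 𝟙 An.SC := a.2
    have hb : b.1 ≫ 𝟙 An.SC = 𝟙 An.SC := b.2
    rw [Category.comp_id] at ha hb
    rw [ha, hb]
  constructor
  · intro h
    refine ⟨fun x y hxy => h x y (Subsingleton.elim _ _) hxy⟩
  · intro h x y _ hxy
    exact t2_separation hxy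

end Groth.Agent.Helper7.AnPts
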