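import Mathlib
import Groth.Agent.Lib.Lead.RLR2

/-!
# Powers of regular sequences in Noetherian local rings
-/

set_option autoImplicit false
set_option linter.style.haveILetI false
set_option linter.unusedSectionVars false

universe u

open IsLocalRing RingTheory.Sequence

namespace Groth.Agent.Helper7.RegPow

variable {L : Type u} [CommRing L] [IsLocalRing L] [IsNoetherianRing L]

/-- replacing one element of a (weakly) regular sequence in the maximal ideal by a power. -/
theorem pow_mid (e : ℕ) (he : 0 < e) (l₀ l₂ : List L) (x : L)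
    (hmem : ∀ r ∈ l₀ ++ x :: l₂, r ∈ maximalIdeal L)
    (h : IsWeaklyRegular L (l₀ ++ x :: l₂)) : IsWeaklyRegular L (l₀ ++ x ^ e :: l₂) := by
  have hp1 : (l₀ ++ x :: l₂).Perm ((l₀ ++ l₂) ++ [x]) := by
    refine List.perm_middle.trans ?_
    exact (List.perm_append_singleton x (l₀ ++ l₂)).symm
  have h1 : IsWeaklyRegular L ((l₀ ++ l₂) ++ [x]) :=
    IsLocalRing.isWeaklyRegular_of_perm_of_subset_maximalIdeal h hp1 hmem
  rw [isWeaklyRegular_append_iff, isWeaklyRegular_singleton_iff] at h1
  have h2 : IsWeaklyRegular L ((l₀ ++ l₂) ++ [x ^ e]) := by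
    rw [isWeaklyRegular_append_iff, isWeaklyRegular_singleton_iff]
    exact ⟨h1.1, h1.2.pow e⟩
  have hp2 : ((l₀ ++ l₂) ++ [x ^ e]).Perm (l₀ ++ x ^ e :: l₂) := by
    refine (List.perm_append_singleton (x ^ e) (l₀ ++ l₂)).trans ?_
    exact List.perm_middle.symm
  refine IsLocalRing.isWeaklyRegular_of_perm_of_subset_maximalIdeal h2 hp2 ?_
  intro r hr
  rw [List.mem_append, List.mem_singleton] at hr
  rcases hr with hr | rfl
  · refine hmem r ?_
    rw [List.mem_append] at hr ⊢
    rcases hr with hr | hr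
    · exact Or.inl hr
    · exact Or.inr (List.mem_cons_of_mem _ hr)
  · have hx : x ∈ maximalIdeal L := hmem x (by simp)
    exact Ideal.pow_mem_of_mem _ hx e he

theorem pow_block (e : ℕ) (he : 0 < e) (l₁ : List L) : ∀ (l₀ l₂ : List L),
    (∀ r ∈ l₀ ++ l₁ ++ l₂, r ∈ maximalIdeal L) →
    IsWeaklyRegular L (l₀ ++ l₁ ++ l₂) →
    IsWeaklyRegular L (l₀ ++ l₁.map (· ^ e) ++ l₂) := by
  induction l₁ with
  | nil => intro l₀ l₂ _ h; simpa using h
  | cons x l₁ ih =>
    intro l₀ l₂ hmem h
    have e1 : l₀ ++ x :: l₁ ++ l₂ = l₀ ++ x :: (l₁ ++ l₂) := by simp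
    have h1 : IsWeaklyRegular L (l₀ ++ x ^ e :: (l₁ ++ l₂)) := by
      refine pow_mid e he l₀ (l₁ ++ l₂) x ?_ ?_
      · rw [← e1]; exact hmem
      · rw [← e1]; exact h
    have e2 : l₀ ++ x ^ e :: (l₁ ++ l₂) = (l₀ ++ [x ^ e]) ++ l₁ ++ l₂ := by simp
    rw [e2] at h1
    have h2 := ih (l₀ ++ [x ^ e]) l₂ ?_ h1
    · have e3 : l₀ ++ List.map (· ^ e) (x :: l₁) ++ l₂ =
          (l₀ ++ [x ^ e]) ++ List.map (· ^ e) l₁ ++ l₂ := by simp
      rw [e3]
      exact h2
    · intro r hr
      simp only [List.mem_append, List.mem_singleton] at hr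
      rcases hr with ((hr | rfl) | hr) | hr
      · exact hmem r (by simp [hr])
      · exact Ideal.pow_mem_of_mem _ (hmem x (by simp)) e he
      · exact hmem r (by simp [hr])
      · exact hmem r (by simp [hr])

/-- In a regular local ring with regular system of parameters `y`, the element `y i` is a
nonzerodivisor modulo the `e`-th powers of the earlier parameters. -/
theorem mem_of_mul_mem [IsRegularLocalRing L] {d : ℕ} (hd : ringKrullDim L = d) (y : Fin d → L)
    (hy : Ideal.span (Set.range y) = maximalIdeal L) (e : ℕ) (he : 0 < e) (i : Fin d) (a : L)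
    (ha : y i * a ∈ Ideal.span (Set.range fun j : {j : Fin d // (j : ℕ) < (i : ℕ)} => y j ^ e)) :
    a ∈ Ideal.span (Set.range fun j : {j : Fin d // (j : ℕ) < (i : ℕ)} => y j ^ e) := by
  have hreg := (Groth.Agent.Lead.RLR.isRegular_ofFn hd y hy).toIsWeaklyRegular
  have hmem : ∀ r ∈ List.ofFn y, r ∈ maximalIdeal L := by
    intro r hr
    rw [List.mem_ofFn] at hr
    obtain ⟨k, rfl⟩ := hr
    rw [← hy]
    exact Ideal.subset_span ⟨k, rfl⟩
  have hlen : (i : ℕ) < (List.ofFn y).length := by simp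
  have hsplit : List.ofFn y = [] ++ (List.ofFn y).take i ++ (List.ofFn y).drop i := by
    simp
  have h1 : IsWeaklyRegular L ([] ++ ((List.ofFn y).take i).map (· ^ e) ++ (List.ofFn y).drop i) := by
    refine pow_block e he _ [] _ ?_ ?_
    · rw [← hsplit]; exact hmem
    · rw [← hsplit]; exact hreg
  rw [List.nil_append, List.drop_eq_getElem_cons hlen, isWeaklyRegular_append_iff,
    isWeaklyRegular_cons_iff] at h1
  have h2 := h1.2.1
  have hget : (List.ofFn y)[(i : ℕ)] = y i := by simp
  rw [hget] at h2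
  -- identify the ideal
  have hset : {r | r ∈ ((List.ofFn y).take i).map (· ^ e)} =
      Set.range fun j : {j : Fin d // (j : ℕ) < (i : ℕ)} => y j ^ e := by
    ext r
    simp only [Set.mem_ofPred_eq, List.mem_map, Set.mem_range, Subtype.exists]
    constructor
    · rintro ⟨b, hb, rfl⟩
      rw [List.mem_take_iff_getElem] at hb
      obtain ⟨k, hk, rfl⟩ := hb
      have hk' : k < d := by
        have := lt_min_iff.mp hk
        simpa using this.2
      refine ⟨⟨k, hk'⟩, (lt_min_iff.mp hk).1, ?_⟩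
      simp
    · rintro ⟨j, hj, rfl⟩
      refine ⟨y j, ?_, rfl⟩
      rw [List.mem_take_iff_getElem]
      refine ⟨j, lt_min_iff.mpr ⟨hj, by simp⟩, by simp⟩
  have hideal : Ideal.ofList (((List.ofFn y).take i).map (· ^ e)) =
      Ideal.span (Set.range fun j : {j : Fin d // (j : ℕ) < (i : ℕ)} => y j ^ e) := by
    unfold Ideal.ofList
    rw [hset]
  have htop : (Ideal.ofList (((List.ofFn y).take i).map (· ^ e)) • (⊤ : Submodule L L)) =
      Ideal.span (Set.range fun j : {j : Fin d // (j : ℕ) < (i : ℕ)} => y j ^ e) := by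
    rw [hideal]
    exact Ideal.mul_top _
  have h3 : (Submodule.Quotient.mk a : L ⧸ (Ideal.ofList (((List.ofFn y).take i).map (· ^ e)) • ⊤ :
      Submodule L L)) = 0 := by
    apply h2
    change y i • (Submodule.Quotient.mk a : L ⧸ _) = y i • 0
    rw [smul_zero, ← Submodule.Quotient.mk_smul, Submodule.Quotient.mk_eq_zero, htop, smul_eq_mul]
    exact ha
  rw [Submodule.Quotient.mk_eq_zero, htop] at h3
  exact h3

end Groth.Agent.Helper7.RegPow
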