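import Mathlib
import Groth.Agent.Lib.Helper7.RegPow

/-!
# Parameters with stable annihilators (Popescu/Néron desingularization preparation)
-/

set_option autoImplicit false
set_option linter.style.haveILetI false
set_option linter.unusedSectionVars false

universe u

open IsLocalRing

namespace Groth.Agent.Helper7.AnnParam

variable {Λ : Type u} [CommRing Λ]

/-- the "colon" ideal `{y | a * y ∈ J}`. -/
def col (J : Ideal Λ) (a : Λ) : Ideal Λ := Submodule.comap (LinearMap.mulLeft Λ a) J

lemma mem_col {J : Ideal Λ} {a y : Λ} : y ∈ col J a ↔ a * y ∈ J := by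
  rw [col, Submodule.mem_comap, LinearMap.mulLeft_apply]

/-- the chain of colon ideals by powers. -/
def colPow (J : Ideal Λ) (a : Λ) : ℕ →o Submodule Λ Λ where
  toFun m := col J (a ^ m)
  monotone' := by
    refine monotone_nat_of_le_succ (fun m y hy => ?_)
    rw [mem_col] at hy ⊢
    rw [pow_succ, mul_assoc, mul_comm a y, ← mul_assoc]
    exact Ideal.mul_mem_right _ _ hy

section Noeth

variable [IsNoetherianRing Λ]

/-- the colon ideals by powers stabilize. -/
lemma exists_colPow_stable (J : Ideal Λ) (a : Λ) :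
    ∃ n, ∀ m, col J (a ^ m) ≤ col J (a ^ n) := by
  obtain ⟨n, hn⟩ := monotone_stabilizes_iff_noetherian.mpr (inferInstance : IsNoetherian Λ Λ)
    (colPow J a)
  refine ⟨n, fun m => ?_⟩
  rcases le_total n m with h | h
  · exact (hn m h).symm.le
  · exact (colPow J a).monotone h

variable (q : Ideal Λ) [q.IsPrime]

/-- an element of the localization whose image lies in `J Λ_q` is moved into `J` by some `t ∉ q`. -/
lemma exists_mul_mem_of_map_mem (J : Ideal Λ) (y : Λ)
    (hy : algebraMap Λ (Localization.AtPrime q) y ∈ J.map (algebraMap Λ (Localization.AtPrime q))) :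
    ∃ t ∉ q, t * y ∈ J := by
  obtain ⟨⟨⟨a, ha⟩, ⟨s, hs⟩⟩, h⟩ :=
    (IsLocalization.mem_map_algebraMap_iff q.primeCompl (Localization.AtPrime q)).mp hy
  simp only at h
  rw [← map_mul] at h
  obtain ⟨⟨c, hc⟩, hc'⟩ := (IsLocalization.eq_iff_exists q.primeCompl (Localization.AtPrime q)).mp h
  simp only at hc'
  refine ⟨c * s, ?_, ?_⟩
  · exact fun hmem => (Ideal.IsPrime.mem_or_mem ‹q.IsPrime› hmem).elim hc hs
  · have : c * s * y = c * a := by rw [← hc']; ring
    rw [this]
    exact Ideal.mul_mem_left _ _ ha

/-- a finitely generated ideal killed elementwise into `J` by elements outside `q` is killed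
uniformly. -/
lemma exists_mul_mem_uniform (J K : Ideal Λ) (h : ∀ y ∈ K, ∃ t ∉ q, t * y ∈ J) :
    ∃ t ∉ q, ∀ y ∈ K, t * y ∈ J := by
  classical
  obtain ⟨G, hG⟩ := (IsNoetherian.noetherian K : K.FG)
  have hGK : ∀ g ∈ G, g ∈ K := fun g hg => hG ▸ Submodule.subset_span hg
  choose! tt htq htJ using fun g (hg : g ∈ G) => h g (hGK g hg)
  refine ⟨∏ g ∈ G, tt g, ?_, ?_⟩
  · intro hmem
    obtain ⟨g, hg, hgq⟩ := (Ideal.IsPrime.prod_mem_iff).mp hmem
    exact htq g hg hgq
  · intro y hy
    rw [← hG] at hy
    induction hy using Submodule.span_induction with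
    | mem g hg =>
      obtain ⟨c, hc⟩ := Finset.dvd_prod_of_mem tt hg
      rw [hc, mul_comm (tt g) c, mul_assoc]
      exact Ideal.mul_mem_left _ _ (htJ g hg)
    | zero => simp
    | add a b _ _ ha hb => rw [mul_add]; exact Ideal.add_mem _ ha hb
    | smul r a _ ha =>
      rw [smul_eq_mul, mul_left_comm]
      exact Ideal.mul_mem_left _ _ ha

/-- **Key step**: if `ρ` is a nonzerodivisor modulo `J` after localizing at `q`, then a multiple
`s ρ` with `s ∉ q` has the same annihilator modulo `J` as its square. -/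
theorem exists_mul_ann (J : Ideal Λ) (ρ : Λ)
    (hreg : ∀ a : Localization.AtPrime q,
      algebraMap Λ (Localization.AtPrime q) ρ * a ∈ J.map (algebraMap Λ (Localization.AtPrime q)) →
        a ∈ J.map (algebraMap Λ (Localization.AtPrime q))) :
    ∃ s ∉ q, ∀ y : Λ, (s * ρ) ^ 2 * y ∈ J → (s * ρ) * y ∈ J := by
  obtain ⟨m₀, hm₀⟩ := exists_colPow_stable J ρ
  -- elements of the stable colon ideal are killed outside `q`
  have hK : ∀ y ∈ col J (ρ ^ m₀), ∃ t ∉ q, t * y ∈ J := by
    intro y hy
    rw [mem_col] at hy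
    refine exists_mul_mem_of_map_mem q J y ?_
    have h1 : algebraMap Λ (Localization.AtPrime q) ρ ^ m₀ * algebraMap Λ (Localization.AtPrime q) y ∈
        J.map (algebraMap Λ (Localization.AtPrime q)) := by
      rw [← map_pow, ← map_mul]
      exact Ideal.mem_map_of_mem _ hy
    have h2 : ∀ k : ℕ, ∀ a : Localization.AtPrime q,
        algebraMap Λ (Localization.AtPrime q) ρ ^ k * a ∈
          J.map (algebraMap Λ (Localization.AtPrime q)) →
        a ∈ J.map (algebraMap Λ (Localization.AtPrime q)) := by
      intro k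
      induction k with
      | zero => intro a ha; simpa using ha
      | succ k ih =>
        intro a ha
        refine ih a (hreg _ ?_)
        rw [← mul_assoc, ← pow_succ']
        exact ha
    exact h2 m₀ _ h1
  obtain ⟨t, htq, ht⟩ := exists_mul_mem_uniform q J (col J (ρ ^ m₀)) hK
  obtain ⟨m₁, hm₁⟩ := exists_colPow_stable J t
  refine ⟨t ^ (m₁ + 1), ?_, ?_⟩
  · exact fun hmem => htq (Ideal.IsPrime.mem_of_pow_mem ‹q.IsPrime› _ hmem)
  · intro y hy
    set s := t ^ (m₁ + 1) with hs
    -- `s² y` lies in the stable colon ideal of `ρ`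
    have h1 : s ^ 2 * y ∈ col J (ρ ^ m₀) := by
      apply hm₀ 2
      rw [mem_col]
      have : ρ ^ 2 * (s ^ 2 * y) = (s * ρ) ^ 2 * y := by ring
      rw [this]
      exact hy
    -- hence `s³ y ∈ J`
    have h2 : t ^ (3 * (m₁ + 1)) * y ∈ J := by
      have h3 := ht _ h1
      have : t ^ (3 * (m₁ + 1)) * y = t ^ m₁ * (t * (s ^ 2 * y)) := by
        rw [hs]; ring
      rw [this]
      exact Ideal.mul_mem_left _ _ h3
    -- stabilization in `t`
    have h4 : y ∈ col J (t ^ m₁) := hm₁ _ (mem_col.mpr h2)
    rw [mem_col] at h4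
    have h5 : s * y ∈ J := by
      rw [hs, pow_succ, mul_comm (t ^ m₁) t, mul_assoc]
      exact Ideal.mul_mem_left _ _ h4
    have : s * ρ * y = ρ * (s * y) := by ring
    rw [this]
    exact Ideal.mul_mem_left _ _ h5

end Noeth


section Main

variable [IsNoetherianRing Λ]

/-- the ideal generated by the `e`-th powers of the earlier parameters. -/
def JJ {d : ℕ} (π : Fin d → Λ) (e : ℕ) (i : Fin d) : Ideal Λ :=
  Ideal.span (Set.range fun j : {j : Fin d // (j : ℕ) < (i : ℕ)} => π j ^ e)

lemma JJ_congr {d : ℕ} (π π' : Fin d → Λ) (e : ℕ) (i : Fin d)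
    (h : ∀ j : Fin d, (j : ℕ) < (i : ℕ) → π j = π' j) : JJ π e i = JJ π' e i := by
  unfold JJ
  congr 2
  ext j
  rw [h j j.2]

lemma span_range_unit_mul {L : Type u} [CommRing L] {d : ℕ} (x y : Fin d → L) (w : Fin d → Lˣ)
    (h : ∀ k, y k = (w k : L) * x k) : Ideal.span (Set.range y) = Ideal.span (Set.range x) := by
  apply le_antisymm
  · rw [Ideal.span_le]
    rintro _ ⟨k, rfl⟩
    rw [h k]
    exact Ideal.mul_mem_left _ _ (Ideal.subset_span ⟨k, rfl⟩)
  · rw [Ideal.span_le]
    rintro _ ⟨k, rfl⟩
    have : x k = ((w k)⁻¹ : Lˣ) * y k := by rw [h k, ← mul_assoc, Units.inv_mul, one_mul]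
    rw [this]
    exact Ideal.mul_mem_left _ _ (Ideal.subset_span ⟨k, rfl⟩)

lemma exists_fin_generators {L : Type u} [CommRing L] (I : Ideal L) (hI : I.FG) :
    ∃ y : Fin I.spanFinrank → L, Ideal.span (Set.range y) = I := by
  classical
  have hfin : I.generators.Finite := Submodule.FG.finite_generators hI
  have hcard : hfin.toFinset.card = I.spanFinrank := by
    rw [← Set.ncard_eq_toFinset_card (hs := hfin), Submodule.FG.generators_ncard hI]
  let eq := hfin.toFinset.equivFinOfCardEq hcard
  refine ⟨fun k => ((eq.symm k : hfin.toFinset) : L), ?_⟩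
  have : Set.range (fun k => ((eq.symm k : hfin.toFinset) : L)) = I.generators := by
    ext r
    constructor
    · rintro ⟨k, rfl⟩
      exact hfin.mem_toFinset.mp (eq.symm k).2
    · intro hr
      refine ⟨eq ⟨r, hfin.mem_toFinset.mpr hr⟩, ?_⟩
      simp
  rw [this]
  exact I.span_generators

variable (I q : Ideal Λ) [q.IsPrime]

set_option maxHeartbeats 1600000 in
theorem main (n e d : ℕ) (hn : 0 < n) (he : 0 < e)
    (hpow : (q ^ n).map (algebraMap Λ (Localization.AtPrime q)) ≤
      I.map (algebraMap Λ (Localization.AtPrime q)))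
    [IsRegularLocalRing (Localization.AtPrime q)]
    (hd : ringKrullDim (Localization.AtPrime q) = d) :
    ∃ π : Fin d → Λ,
      Ideal.span (Set.range fun i => algebraMap Λ (Localization.AtPrime q) (π i)) =
        q.map (algebraMap Λ (Localization.AtPrime q)) ∧
      (∀ i, π i ^ n ∈ I) ∧
      ∀ i : Fin d, ∀ y : Λ, π i ^ 2 * y ∈ JJ π e i → π i * y ∈ JJ π e i := by
  classical
  have hmax : q.map (algebraMap Λ (Localization.AtPrime q)) =
      maximalIdeal (Localization.AtPrime q) := Localization.AtPrime.map_eq_maximalIdeal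
  -- generators of the maximal ideal
  have hsf : (maximalIdeal (Localization.AtPrime q)).spanFinrank = d :=
    Groth.Agent.Lead.RLR.spanFinrank_maximalIdeal_eq_of_dim hd
  obtain ⟨x, hx⟩ : ∃ x : Fin d → Localization.AtPrime q,
      Ideal.span (Set.range x) = maximalIdeal (Localization.AtPrime q) := by
    have h0 := exists_fin_generators (maximalIdeal (Localization.AtPrime q))
      (IsNoetherian.noetherian _)
    rw [hsf] at h0
    exact h0
  -- numerators
  have hsurj : ∀ k, ∃ (a : Λ) (s : q.primeCompl),
      x k * algebraMap Λ (Localization.AtPrime q) s = algebraMap Λ (Localization.AtPrime q) a := by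
    intro k
    obtain ⟨⟨a, s⟩, h⟩ := IsLocalization.surj q.primeCompl (x k)
    exact ⟨a, s, h⟩
  choose a sden ha using hsurj
  have hxmem : ∀ k, x k ∈ maximalIdeal (Localization.AtPrime q) := fun k => by
    rw [← hx]; exact Ideal.subset_span ⟨k, rfl⟩
  have haq : ∀ k, a k ∈ q := by
    intro k
    rw [← IsLocalization.AtPrime.to_map_mem_maximal_iff (Localization.AtPrime q) q (a k), ← ha k]
    exact Ideal.mul_mem_right _ _ (hxmem k)
  -- powers into `I`
  have htn : ∀ k, ∃ t ∉ q, t * a k ^ n ∈ I := by
    intro k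
    refine exists_mul_mem_of_map_mem q I _ (hpow ?_)
    exact Ideal.mem_map_of_mem _ (Ideal.pow_mem_pow (haq k) n)
  choose t htq htI using htn
  let π₀ : Fin d → Λ := fun k => t k * a k
  have hπ₀I : ∀ k, π₀ k ^ n ∈ I := by
    intro k
    obtain ⟨m, rfl⟩ : ∃ m, n = m + 1 := ⟨n - 1, by omega⟩
    have : π₀ k ^ (m + 1) = t k ^ m * (t k * a k ^ (m + 1)) := by
      simp only [π₀]; ring
    rw [this]
    exact Ideal.mul_mem_left _ _ (htI k)
  -- any family of multiples outside `q` still generates the maximal ideal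
  have hspan : ∀ π : Fin d → Λ, (∀ j, ∃ s ∉ q, π j = s * π₀ j) →
      Ideal.span (Set.range fun i => algebraMap Λ (Localization.AtPrime q) (π i)) =
        maximalIdeal (Localization.AtPrime q) := by
    intro π hπ
    choose s hsq hs using hπ
    rw [← hx]
    have hunit : ∀ k, IsUnit (algebraMap Λ (Localization.AtPrime q) (s k * t k * (sden k : Λ))) := by
      intro k
      refine IsLocalization.map_units (Localization.AtPrime q)
        (⟨s k * t k * (sden k : Λ), ?_⟩ : q.primeCompl)
      intro hmem
      rcases Ideal.IsPrime.mem_or_mem ‹q.IsPrime› hmem with h | h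
      · rcases Ideal.IsPrime.mem_or_mem ‹q.IsPrime› h with h | h
        · exact hsq k h
        · exact htq k h
      · exact (sden k).2 h
    refine span_range_unit_mul x _ (fun k => (hunit k).unit) (fun k => ?_)
    rw [IsUnit.unit_spec, hs k]
    simp only [π₀, map_mul]
    rw [← ha k]
    ring
  -- the inductive construction
  have key : ∀ k : ℕ, k ≤ d → ∃ π : Fin d → Λ, (∀ j, ∃ s ∉ q, π j = s * π₀ j) ∧
      ∀ i : Fin d, (i : ℕ) < k → ∀ y : Λ, π i ^ 2 * y ∈ JJ π e i → π i * y ∈ JJ π e i := by
    intro k
    induction k with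
    | zero =>
      intro _
      refine ⟨π₀, fun j => ⟨1, ?_, by rw [one_mul]⟩, fun i hi => absurd hi (Nat.not_lt_zero _)⟩
      exact fun h1 => ‹q.IsPrime›.ne_top ((Ideal.eq_top_iff_one _).mpr h1)
    | succ k ih =>
      intro hk
      obtain ⟨π, hπm, hπa⟩ := ih (by omega)
      let i₀ : Fin d := ⟨k, by omega⟩
      have hsp := hspan π hπm
      -- regularity after localization
      have hreg : ∀ b : Localization.AtPrime q,
          algebraMap Λ (Localization.AtPrime q) (π i₀) * b ∈
            (JJ π e i₀).map (algebraMap Λ (Localization.AtPrime q)) →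
          b ∈ (JJ π e i₀).map (algebraMap Λ (Localization.AtPrime q)) := by
        have hJmap : (JJ π e i₀).map (algebraMap Λ (Localization.AtPrime q)) =
            Ideal.span (Set.range fun j : {j : Fin d // (j : ℕ) < (i₀ : ℕ)} =>
              (fun i => algebraMap Λ (Localization.AtPrime q) (π i)) j ^ e) := by
          unfold JJ
          rw [Ideal.map_span, ← Set.range_comp]
          congr 2
          ext j
          simp
        intro b hb
        rw [hJmap] at hb ⊢
        exact Groth.Agent.Helper7.RegPow.mem_of_mul_mem hd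
          (fun i => algebraMap Λ (Localization.AtPrime q) (π i)) hsp e he i₀ b hb
      obtain ⟨s, hsq, hs⟩ := exists_mul_ann q (JJ π e i₀) (π i₀) hreg
      refine ⟨Function.update π i₀ (s * π i₀), ?_, ?_⟩
      · intro j
        by_cases hj : j = i₀
        · subst hj
          obtain ⟨s', hs'q, hs'⟩ := hπm i₀
          refine ⟨s * s', ?_, ?_⟩
          · exact fun hmem => (Ideal.IsPrime.mem_or_mem ‹q.IsPrime› hmem).elim hsq hs'q
          · rw [Function.update_self, hs', mul_assoc]
        · rw [Function.update_of_ne hj]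
          exact hπm j
      · intro i hi y hy
        have hJ : JJ (Function.update π i₀ (s * π i₀)) e i = JJ π e i := by
          refine JJ_congr _ _ e i (fun j hj => ?_)
          have : j ≠ i₀ := by
            intro h
            rw [h] at hj
            simp only [i₀] at hj
            omega
          rw [Function.update_of_ne this]
        rw [hJ] at hy ⊢
        by_cases hii : i = i₀
        · subst hii
          rw [Function.update_self] at hy ⊢
          exact hs y hy
        · rw [Function.update_of_ne hii] at hy ⊢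
          refine hπa i ?_ y hy
          have : (i : ℕ) ≠ k := fun h => hii (Fin.ext h)
          omega
  obtain ⟨π, hπm, hπa⟩ := key d le_rfl
  refine ⟨π, ?_, ?_, fun i => hπa i i.2⟩
  · rw [hmax]
    exact hspan π hπm
  · intro i
    obtain ⟨s, -, hs⟩ := hπm i
    rw [hs, mul_pow]
    exact Ideal.mul_mem_left _ _ (hπ₀I i)

end Main

end Groth.Agent.Helper7.AnnParam
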