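import Mathlib
import Groth.Prelude.Def_FlatCA
import Groth.Agent.Lib.Helper21.EssFP1

/-! Associated primes of `N ⊗_R Q` for `N` flat over `R` (Matsumura 23.2, inclusion `⊆`),
in the fibre-module language of `Def_FlatCA`. -/

set_option autoImplicit false

namespace Groth.Agent.Helper7.AssFlat

open TensorProduct

universe u

attribute [local instance] Algebra.TensorProduct.rightAlgebra

section

variable {R S : Type u} [CommRing R] [CommRing S] [Algebra R S] [IsNoetherianRing R]
  (N : Type u) [AddCommGroup N] [Module S N] [Module R N] [IsScalarTower R S N] [Module.Flat R N]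

/-- Associated primes of `N ⊗ Q` come from those of some `N ⊗ R/p`. -/
theorem exists_prime_of_mem_ass (Q : Type u) [AddCommGroup Q] [Module R Q] (hQ : Module.Finite R Q)
    (q : Ideal S) (hq : q ∈ associatedPrimes S (N ⊗[R] Q)) :
    ∃ p : PrimeSpectrum R, q ∈ associatedPrimes S (N ⊗[R] (R ⧸ p.asIdeal)) := by
  revert q
  induction hQ using IsNoetherianRing.induction_on_isQuotientEquivQuotientPrime R with
  | subsingleton Q =>
    intro q hq
    exact absurd hq not_isAssociatedPrime_of_subsingleton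
  | quotient Q p f =>
    intro q hq
    refine ⟨p, ?_⟩
    let e : N ⊗[R] Q ≃ₗ[S] N ⊗[R] (R ⧸ p.asIdeal) :=
      TensorProduct.AlgebraTensorModule.congr (LinearEquiv.refl S N) f
    exact (LinearEquiv.isAssociatedPrime_iff e).mp hq
  | exact Q₁ Q₂ Q₃ f g hf hg hfg h₁ h₃ =>
    intro q hq
    let f' : N ⊗[R] Q₁ →ₗ[S] N ⊗[R] Q₂ := TensorProduct.AlgebraTensorModule.lTensor S N f
    let g' : N ⊗[R] Q₂ →ₗ[S] N ⊗[R] Q₃ := TensorProduct.AlgebraTensorModule.lTensor S N g
    have hf' : Function.Injective f' := Module.Flat.lTensor_preserves_injective_linearMap f hf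
    have hfg' : Function.Exact f' g' := lTensor_exact N hfg hg
    rcases associatedPrimes.subset_union_of_exact hf' hfg' hq with h | h
    · exact h₁ q h
    · exact h₃ q h

omit [IsNoetherianRing R] [Module.Flat R N] in
theorem tmul_one_eq_zero_iff (p : Ideal R) (n : N) :
    (n ⊗ₜ[R] (1 : R ⧸ p) : N ⊗[R] (R ⧸ p)) = 0 ↔ n ∈ p • (⊤ : Submodule R N) := by
  constructor
  · intro h
    have h3 := congrArg (TensorProduct.tensorQuotEquivQuotSMul N p) h
    rw [map_zero, ← map_one (Ideal.Quotient.mk p),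
      TensorProduct.tensorQuotEquivQuotSMul_tmul_mk, one_smul] at h3
    exact (Submodule.Quotient.mk_eq_zero _).mp h3
  · intro h
    refine Submodule.smul_induction_on h (fun r hr x _ => ?_) (fun x y hx hy => ?_)
    · rw [TensorProduct.smul_tmul, ← Algebra.algebraMap_eq_smul_one, Ideal.Quotient.algebraMap_eq,
        Ideal.Quotient.eq_zero_iff_mem.mpr hr, TensorProduct.tmul_zero]
    · rw [TensorProduct.add_tmul, hx, hy, add_zero]

omit [IsNoetherianRing R] in
theorem fiberIdeal_mem_ass [IsNoetherianRing S] (p : Ideal R) [hp : p.IsPrime] (q : Ideal S)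
    (hq : q ∈ associatedPrimes S (N ⊗[R] (R ⧸ p))) :
    q.comap (algebraMap R S) = p ∧
      FlatCA.fiberIdeal p q ∈ associatedPrimes (p.Fiber S) (FlatCA.fiberMod p S N) := by
  obtain ⟨hqp, ξ, hξ⟩ := isAssociatedPrime_iff.mp hq
  have hsurj : ∀ ξ : N ⊗[R] (R ⧸ p), ∃ ν : N, ν ⊗ₜ[R] (1 : R ⧸ p) = ξ := by
    intro ξ
    induction ξ using TensorProduct.induction_on with
    | zero => exact ⟨0, TensorProduct.zero_tmul _ _⟩
    | tmul n r =>
      obtain ⟨r, rfl⟩ := Ideal.Quotient.mk_surjective r
      refine ⟨r • n, ?_⟩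
      rw [TensorProduct.smul_tmul, ← Algebra.algebraMap_eq_smul_one, Ideal.Quotient.algebraMap_eq]
    | add x y hx hy =>
      obtain ⟨a, rfl⟩ := hx
      obtain ⟨b, rfl⟩ := hy
      exact ⟨a + b, TensorProduct.add_tmul _ _ _⟩
  obtain ⟨ν, rfl⟩ := hsurj ξ
  have hmemq : ∀ s : S, s ∈ q ↔ ((s • ν) ⊗ₜ[R] (1 : R ⧸ p) : N ⊗[R] (R ⧸ p)) = 0 := by
    intro s
    rw [hξ, Submodule.mem_colon_singleton, Submodule.mem_bot, TensorProduct.smul_tmul']
  have hkey : ∀ s : S, s ∈ q ↔
      ((1 : p.Fiber S) ⊗ₜ[S] (s • ν) : (p.Fiber S) ⊗[S] N) = 0 := by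
    intro s
    rw [hmemq, tmul_one_eq_zero_iff, Groth.Agent.Helper21.EssFP.fiber_one_tmul_eq_zero_iff]
    have h2 : ((p.map (algebraMap R S)) • (⊤ : Submodule S N)).restrictScalars R =
        p • (⊤ : Submodule R N) := by
      rw [Ideal.smul_restrictScalars, Submodule.restrictScalars_top]
    rw [← h2]
    rfl
  -- first part
  have hcomap : q.comap (algebraMap R S) = p := by
    apply le_antisymm
    · intro a ha
      by_contra hap
      have ha' : algebraMap R S a ∈ q := ha
      rw [hmemq, algebraMap_smul] at ha'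
      let μ : (R ⧸ p) →ₗ[R] (R ⧸ p) := LinearMap.lsmul R (R ⧸ p) a
      have hμ : Function.Injective μ := by
        rw [injective_iff_map_eq_zero]
        intro x hx
        obtain ⟨x, rfl⟩ := Ideal.Quotient.mk_surjective x
        have hx' : Ideal.Quotient.mk p (a * x) = 0 := by
          rw [← hx]
          show Ideal.Quotient.mk p (a * x) = a • Ideal.Quotient.mk p x
          rw [map_mul, Algebra.smul_def, Ideal.Quotient.algebraMap_eq]
        rw [Ideal.Quotient.eq_zero_iff_mem] at hx' ⊢
        exact (hp.mem_or_mem hx').resolve_left hap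
      have hμN : Function.Injective (μ.lTensor N) :=
        Module.Flat.lTensor_preserves_injective_linearMap μ hμ
      have h0 : (ν ⊗ₜ[R] (1 : R ⧸ p) : N ⊗[R] (R ⧸ p)) = 0 := by
        apply hμN
        rw [map_zero, LinearMap.lTensor_tmul]
        show ν ⊗ₜ[R] (a • (1 : R ⧸ p)) = 0
        rw [← TensorProduct.smul_tmul]
        exact ha'
      apply hqp.ne_top
      rw [Ideal.eq_top_iff_one, hmemq, one_smul]
      exact h0
    · intro a ha
      show algebraMap R S a ∈ q
      rw [hmemq, algebraMap_smul, TensorProduct.smul_tmul, ← Algebra.algebraMap_eq_smul_one,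
        Ideal.Quotient.algebraMap_eq, Ideal.Quotient.eq_zero_iff_mem.mpr ha,
        TensorProduct.tmul_zero]
  refine ⟨hcomap, ?_⟩
  -- the element of the fibre module
  let η : FlatCA.fiberMod p S N := ((1 : p.Fiber S) ⊗ₜ[S] ν : (p.Fiber S) ⊗[S] N)
  have hη : ∀ s : S, ((1 : p.ResidueField) ⊗ₜ[R] s : p.Fiber S) • η = 0 ↔ s ∈ q := by
    intro s
    rw [hkey]
    have h1 : (((1 : p.ResidueField) ⊗ₜ[R] s : p.Fiber S) • η : FlatCA.fiberMod p S N) =
        ((1 : p.Fiber S) ⊗ₜ[S] (s • ν) : (p.Fiber S) ⊗[S] N) := by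
      show (((1 : p.ResidueField) ⊗ₜ[R] s : p.Fiber S) •
        ((1 : p.Fiber S) ⊗ₜ[S] ν : (p.Fiber S) ⊗[S] N)) = _
      rw [TensorProduct.smul_tmul', smul_eq_mul, mul_one, ← TensorProduct.smul_tmul]
      congr 1
      rw [Algebra.smul_def, mul_one]
      rfl
    rw [h1]
    exact Iff.rfl
  have hunit : ∀ r : R, r ∉ p → IsUnit (algebraMap R (p.Fiber S) r) := by
    intro r hr
    rw [IsScalarTower.algebraMap_apply R p.ResidueField (p.Fiber S)]
    apply IsUnit.map
    rw [isUnit_iff_ne_zero, Ne, Ideal.algebraMap_residueField_eq_zero]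
    exact hr
  have hF1 : ∀ (x : p.Fiber S) (r : R) (s : S), r ∉ p → r • x = (1 : p.ResidueField) ⊗ₜ[R] s →
      (x • η = 0 ↔ s ∈ q) := by
    intro x r s hr e
    rw [← hη, ← e]
    obtain ⟨u, hu⟩ := hunit r hr
    have h1 : r • x = (u : p.Fiber S) * x := by rw [Algebra.smul_def, hu]
    rw [h1, mul_smul]
    constructor
    · intro h; rw [h, smul_zero]
    · intro h
      have := congrArg (fun y => ((↑u⁻¹ : p.Fiber S)) • y) h
      simp only [smul_zero] at this
      rw [← mul_smul, Units.inv_mul, one_smul] at this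
      exact this
  have hJ : ∀ x : p.Fiber S, x ∈ FlatCA.fiberIdeal p q ↔ x • η = 0 := by
    intro x
    constructor
    · intro hx
      have hle : FlatCA.fiberIdeal p q ≤ Submodule.colon (⊥ : Submodule (p.Fiber S)
          (FlatCA.fiberMod p S N)) {η} := by
        unfold FlatCA.fiberIdeal
        rw [Ideal.map_le_iff_le_comap]
        intro s hs
        rw [Ideal.mem_comap, Submodule.mem_colon_singleton, Submodule.mem_bot]
        exact (hη s).mpr hs
      have := hle hx
      rwa [Submodule.mem_colon_singleton, Submodule.mem_bot] at this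
    · intro hx
      obtain ⟨r, hr, s, e⟩ := Ideal.Fiber.exists_smul_eq_one_tmul p x
      have hs : s ∈ q := (hF1 x r s hr e).mp hx
      obtain ⟨u, hu⟩ := hunit r hr
      have hxe : x = (↑u⁻¹ : p.Fiber S) * (r • x) := by
        rw [Algebra.smul_def, ← hu, ← mul_assoc, Units.inv_mul, one_mul]
      rw [hxe, e]
      apply Ideal.mul_mem_left
      exact Ideal.mem_map_of_mem _ hs
  have hprime : (FlatCA.fiberIdeal p q).IsPrime := by
    rw [Ideal.isPrime_iff]
    constructor
    · intro htop
      have h1 : (1 : p.Fiber S) ∈ FlatCA.fiberIdeal p q := by rw [htop]; trivial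
      have h2 := (hJ 1).mp h1
      have h3 := (hF1 1 1 1 (fun h => hp.ne_top ((Ideal.eq_top_iff_one p).mpr h))
        (by rw [one_smul]; rfl)).mp h2
      exact hqp.ne_top ((Ideal.eq_top_iff_one q).mpr h3)
    · intro x y hxy
      obtain ⟨r, hr, s, e⟩ := Ideal.Fiber.exists_smul_eq_one_tmul p x
      obtain ⟨r', hr', s', e'⟩ := Ideal.Fiber.exists_smul_eq_one_tmul p y
      have e'' : (r * r') • (x * y) = (1 : p.ResidueField) ⊗ₜ[R] (s * s') := by
        have : (r * r') • (x * y) = (r • x) * (r' • y) := by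
          rw [smul_mul_smul_comm]
        rw [this, e, e', Algebra.TensorProduct.tmul_mul_tmul, one_mul]
      have hss : s * s' ∈ q :=
        (hF1 (x * y) (r * r') (s * s') (fun h => (hp.mem_or_mem h).elim hr hr') e'').mp
          ((hJ _).mp hxy)
      rcases hqp.mem_or_mem hss with h | h
      · left
        exact (hJ x).mpr ((hF1 x r s hr e).mpr h)
      · right
        exact (hJ y).mpr ((hF1 y r' s' hr' e').mpr h)
  refine ⟨hprime, η, ?_⟩
  have hEq : FlatCA.fiberIdeal p q = Submodule.colon (⊥ : Submodule (p.Fiber S)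
      (FlatCA.fiberMod p S N)) {η} := by
    ext x
    rw [Submodule.mem_colon_singleton, Submodule.mem_bot]
    exact hJ x
  rw [← hEq, hprime.radical]

end

end Groth.Agent.Helper7.AssFlat
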