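import Mathlib
import Groth.Agent.Lib.Helper7.InjFlatBC

/-!
# Kernels under base change when the cokernel is flat (helper7)

For a pushout `S = R ⊗_{R₀} S₀`, a map `u₀ : M₀ → N₀` of `S₀`-modules with base change
`u : M → N` and a prime `Q` of `S` at which the cokernel of `u₀` is flat over `R₀`:
the kernel of `u` is generated at `Q` by the image of the kernel of `u₀`.
-/

set_option autoImplicit false
set_option linter.style.haveILetI false
set_option linter.unusedSectionVars false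

universe u

open TensorProduct Function

namespace Groth.Agent.Helper7.KerGen

open Groth.Agent.Helper21

theorem flat_of_submodule_eq {R₀ S₀ N₀ : Type u} [CommRing R₀] [CommRing S₀] [Algebra R₀ S₀]
    [AddCommGroup N₀] [Module S₀ N₀] [Module R₀ N₀] [IsScalarTower R₀ S₀ N₀]
    (W : Submonoid S₀) {P P' : Submodule S₀ N₀} (h : P = P')
    [hf : Module.Flat R₀ (LocalizedModule W (N₀ ⧸ P))] :
    Module.Flat R₀ (LocalizedModule W (N₀ ⧸ P')) := by
  subst h
  exact hf

variable {R₀ R S₀ S : Type u} [CommRing R₀] [CommRing R] [CommRing S₀] [CommRing S]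
  [Algebra R₀ R] [Algebra R₀ S₀] [Algebra R S] [Algebra S₀ S] [Algebra R₀ S]
  [IsScalarTower R₀ R S] [IsScalarTower R₀ S₀ S] [Algebra.IsPushout R₀ R S₀ S]
  {M₀ : Type u} [AddCommGroup M₀] [Module S₀ M₀] [Module R₀ M₀] [IsScalarTower R₀ S₀ M₀]
  {M : Type u} [AddCommGroup M] [Module S M] [Module S₀ M] [IsScalarTower S₀ S M]
  {N₀ : Type u} [AddCommGroup N₀] [Module S₀ N₀] [Module R₀ N₀] [IsScalarTower R₀ S₀ N₀]
  {N : Type u} [AddCommGroup N] [Module S N] [Module S₀ N] [IsScalarTower S₀ S N]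
  [Module R N] [IsScalarTower R S N]
  (fM : M₀ →ₗ[S₀] M) (hfM : IsBaseChange S fM) (fN : N₀ →ₗ[S₀] N) (hfN : IsBaseChange S fN)
  (u₀ : M₀ →ₗ[S₀] N₀) (u : M →ₗ[S] N) (hcompat : ∀ x, fN (u₀ x) = u (fM x))

include R hfM hfN hcompat in
set_option maxHeartbeats 1600000 in
/-- The kernel of the base change is generated, at a prime where the cokernel is flat, by the
kernel at the finite stage. -/
theorem ker_locally_generated (Q : Ideal S) [Q.IsPrime]
    [Module.Flat R₀ (LocalizedModule (Q.comap (algebraMap S₀ S)).primeCompl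
      (N₀ ⧸ LinearMap.range u₀))] :
    ∀ y : M, u y = 0 → ∃ t : S, t ∉ Q ∧
      t • y ∈ Submodule.span S (fM '' (LinearMap.ker u₀ : Set M₀)) := by
  classical
  let I₀ : Submodule S₀ N₀ := LinearMap.range u₀
  let ι₀ : I₀ →ₗ[S₀] N₀ := I₀.subtype
  let ρ₀ : M₀ →ₗ[S₀] I₀ := u₀.rangeRestrict
  let fI : I₀ →ₗ[S₀] S ⊗[S₀] I₀ := TensorProduct.mk S₀ S I₀ 1
  have hfI : IsBaseChange S fI := TensorProduct.isBaseChange S₀ I₀ S
  let ι : S ⊗[S₀] I₀ →ₗ[S] N := hfN.equiv.toLinearMap ∘ₗ (ι₀.baseChange S)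
  have hcompatι : ∀ x : I₀, fN (ι₀ x) = ι (fI x) := by
    intro x
    change fN (ι₀ x) = hfN.equiv ((ι₀.baseChange S) ((1 : S) ⊗ₜ[S₀] x))
    rw [LinearMap.baseChange_tmul, IsBaseChange.equiv_tmul, one_smul]
  haveI : Module.Flat R₀ (LocalizedModule (Q.comap (algebraMap S₀ S)).primeCompl
      (N₀ ⧸ LinearMap.range ι₀)) :=
    flat_of_submodule_eq (Q.comap (algebraMap S₀ S)).primeCompl
      (Submodule.range_subtype I₀).symm
  have hinjι : ∀ x : I₀, ι₀ x = 0 →
      ∃ t : S₀, t ∉ Q.comap (algebraMap S₀ S) ∧ t • x = 0 := by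
    intro x hx
    have hx0 : x = 0 := Subtype.ext hx
    refine ⟨1, ?_, by rw [hx0, smul_zero]⟩
    exact (Ideal.ne_top_iff_one _).mp (Ideal.IsPrime.ne_top inferInstance)
  have hlocι := Groth.Agent.Helper7.InjFlatBC.locInj (R₀ := R₀) (R := R) fI hfI fN hfN ι₀ ι
    hcompatι Q hinjι
  let ρ : M →ₗ[S] S ⊗[S₀] I₀ := (ρ₀.baseChange S) ∘ₗ hfM.equiv.symm.toLinearMap
  have hιρ : ∀ ξ : S ⊗[S₀] M₀, ι ((ρ₀.baseChange S) ξ) = u (hfM.equiv ξ) := by
    intro ξ
    induction ξ using TensorProduct.induction_on with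
    | zero => simp
    | add a b ha hb => simp only [map_add, ha, hb]
    | tmul s x =>
      change hfN.equiv ((ι₀.baseChange S) ((ρ₀.baseChange S) (s ⊗ₜ[S₀] x))) = _
      rw [LinearMap.baseChange_tmul, LinearMap.baseChange_tmul, IsBaseChange.equiv_tmul,
        IsBaseChange.equiv_tmul, map_smul]
      congr 1
      exact hcompat x
  intro y hy
  have h1 : ι (ρ y) = 0 := by
    change ι ((ρ₀.baseChange S) (hfM.equiv.symm y)) = 0
    rw [hιρ, LinearEquiv.apply_symm_apply, hy]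
  obtain ⟨t, ht, htρ⟩ := hlocι _ h1
  refine ⟨t, ht, ?_⟩
  have h2 : (ρ₀.lTensor S) (hfM.equiv.symm (t • y)) = 0 := by
    have : (ρ₀.baseChange S) (hfM.equiv.symm (t • y)) = t • ρ y := by
      rw [map_smul, map_smul]
      rfl
    change (ρ₀.baseChange S) (hfM.equiv.symm (t • y)) = 0
    rw [this, htρ]
  have hex : Function.Exact (LinearMap.ker u₀).subtype ρ₀ := by
    intro x
    constructor
    · intro hx
      refine ⟨⟨x, ?_⟩, rfl⟩
      have : (ρ₀ x : N₀) = 0 := by rw [hx]; rfl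
      exact this
    · rintro ⟨k, rfl⟩
      apply Subtype.ext
      exact k.2
  have hsurj : Surjective ρ₀ := LinearMap.surjective_rangeRestrict u₀
  have hex' := lTensor_exact S hex hsurj
  obtain ⟨ζ, hζ⟩ := (hex' _).mp h2
  have h3 : t • y = hfM.equiv ((LinearMap.ker u₀).subtype.lTensor S ζ) := by
    rw [hζ, LinearEquiv.apply_symm_apply]
  have hgen : ∀ ζ : S ⊗[S₀] (LinearMap.ker u₀),
      hfM.equiv ((LinearMap.ker u₀).subtype.lTensor S ζ) ∈
        Submodule.span S (fM '' (LinearMap.ker u₀ : Set M₀)) := by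
    intro ζ
    induction ζ using TensorProduct.induction_on with
    | zero => simp
    | add a b ha hb =>
      rw [map_add, map_add]
      exact Submodule.add_mem _ ha hb
    | tmul s k =>
      rw [LinearMap.lTensor_tmul, IsBaseChange.equiv_tmul]
      exact Submodule.smul_mem _ _ (Submodule.subset_span ⟨k, k.2, rfl⟩)
  rw [h3]
  exact hgen ζ

end Groth.Agent.Helper7.KerGen
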