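import Mathlib

/-!
# A finite module whose base change vanishes, vanishes at the primes in the image (helper7)
-/

set_option autoImplicit false
set_option linter.style.haveILetI false
set_option linter.unusedSectionVars false

universe u

open TensorProduct Function

namespace Groth.Agent.Helper7.SuppBC

set_option maxHeartbeats 1600000 in
set_option synthInstance.maxHeartbeats 400000 in
theorem exists_smul_eq_zero_of_subsingleton_baseChange {A B : Type u} [CommRing A] [CommRing B]
    [Algebra A B] {T T' : Type u} [AddCommGroup T] [Module A T] [Module.Finite A T]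
    [AddCommGroup T'] [Module B T'] [Module A T'] [IsScalarTower A B T']
    (φ : T →ₗ[A] T') (hφ : IsBaseChange B φ) [Subsingleton T'] (Q : Ideal B) [Q.IsPrime] (t : T) :
    ∃ g : A, g ∉ Q.comap (algebraMap A B) ∧ g • t = 0 := by
  classical
  haveI hp : (Q.comap (algebraMap A B)).IsPrime := Ideal.comap_isPrime _ _
  let p : PrimeSpectrum A := ⟨Q.comap (algebraMap A B), hp⟩
  suffices h : p ∉ Module.support A T from (Module.notMem_support_iff'.mp h) t
  rw [Module.mem_support_iff_nontrivial_residueField_tensorProduct, not_nontrivial_iff_subsingleton]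
  letI algK : Algebra (Q.comap (algebraMap A B)).ResidueField Q.ResidueField :=
    (Ideal.ResidueField.map (Q.comap (algebraMap A B)) Q (algebraMap A B) rfl).toAlgebra
  haveI tK : IsScalarTower A (Q.comap (algebraMap A B)).ResidueField Q.ResidueField :=
    IsScalarTower.of_algebraMap_eq fun a => by
      rw [RingHom.algebraMap_toAlgebra, Ideal.ResidueField.map_algebraMap,
        ← IsScalarTower.algebraMap_apply A B Q.ResidueField]
  let e1 : Q.ResidueField ⊗[(Q.comap (algebraMap A B)).ResidueField]
      ((Q.comap (algebraMap A B)).ResidueField ⊗[A] T) ≃ₗ[Q.ResidueField] Q.ResidueField ⊗[A] T :=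
    AlgebraTensorModule.cancelBaseChange A (Q.comap (algebraMap A B)).ResidueField
      Q.ResidueField Q.ResidueField T
  let e2 : Q.ResidueField ⊗[B] (B ⊗[A] T) ≃ₗ[Q.ResidueField] Q.ResidueField ⊗[A] T :=
    AlgebraTensorModule.cancelBaseChange A B Q.ResidueField Q.ResidueField T
  haveI s0 : Subsingleton (B ⊗[A] T) := hφ.equiv.toEquiv.subsingleton
  haveI s1 : Subsingleton (Q.ResidueField ⊗[B] (B ⊗[A] T)) := by
    refine ⟨fun a b => ?_⟩
    have h0 : ∀ z : Q.ResidueField ⊗[B] (B ⊗[A] T), z = 0 := by
      intro z
      induction z using TensorProduct.induction_on with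
      | zero => rfl
      | add x y hx hy => rw [hx, hy, add_zero]
      | tmul k w => rw [Subsingleton.elim w 0, tmul_zero]
    rw [h0 a, h0 b]
  haveI s2 : Subsingleton (Q.ResidueField ⊗[A] T) := e2.symm.toEquiv.subsingleton
  haveI s3 : Subsingleton (Q.ResidueField ⊗[(Q.comap (algebraMap A B)).ResidueField]
      ((Q.comap (algebraMap A B)).ResidueField ⊗[A] T)) := e1.toEquiv.subsingleton
  exact (Module.FaithfullyFlat.subsingleton_tensorProduct_iff_right
    (Q.comap (algebraMap A B)).ResidueField Q.ResidueField).mp s3

end Groth.Agent.Helper7.SuppBC
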