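import Mathlib
import Groth.Agent.Lib.Helper21.FL8
import Groth.Agent.Lib.Helper7.KerGen
import Groth.Agent.Lib.Helper7.SuppBC

/-!
# Openness of the locus "injective with flat cokernel": the Noetherian stage (helper7)
-/

set_option autoImplicit false
set_option linter.style.haveILetI false
set_option linter.unusedSectionVars false

universe u

open TensorProduct Function

namespace Groth.Agent.Helper7.CokerOpen

open Groth.Agent.Helper21 Groth.Agent.Helper7.KerGen

/-- Base change of a finite free module. -/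
theorem isBaseChange_compLeft (A B : Type u) [CommRing A] [CommRing B] [Algebra A B] (r : ℕ) :
    IsBaseChange B ((Algebra.linearMap A B).compLeft (Fin r)) := by
  classical
  refine IsBaseChange.of_equiv (TensorProduct.piScalarRight A B B (Fin r)) ?_
  intro f
  rw [TensorProduct.piScalarRight_apply, TensorProduct.piScalarRightHom_tmul]
  funext j
  simp [Algebra.smul_def]

section LocIso

variable {R₂ S₂ : Type u} [CommRing R₂] [CommRing S₂] [Algebra R₂ S₂]
  {N₂ : Type u} [AddCommGroup N₂] [Module S₂ N₂] [Module R₂ N₂] [IsScalarTower R₂ S₂ N₂]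
  {C₂ : Type u} [AddCommGroup C₂] [Module S₂ C₂] [Module R₂ C₂] [IsScalarTower R₂ S₂ C₂]

/-- If the cokernel of `π₂` vanishes at `W`, then `N₂ / ker π₂` and `C₂` have the same
localization at `W`; in particular flatness transfers. -/
theorem flat_quot_ker_of_coker_zero (π₂ : N₂ →ₗ[S₂] C₂) (W : Submonoid S₂)
    (hT : ∀ c : C₂, ∃ g ∈ W, g • c ∈ LinearMap.range π₂)
    [Module.Flat R₂ (LocalizedModule W C₂)] :
    Module.Flat R₂ (LocalizedModule W (N₂ ⧸ LinearMap.ker π₂)) := by
  let j : (N₂ ⧸ LinearMap.ker π₂) →ₗ[S₂] C₂ := (LinearMap.ker π₂).liftQ π₂ le_rfl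
  have hj : Injective j := by
    rw [← LinearMap.ker_eq_bot]
    exact Submodule.ker_liftQ_eq_bot _ _ _ le_rfl
  let J : LocalizedModule W (N₂ ⧸ LinearMap.ker π₂) →ₗ[Localization W] LocalizedModule W C₂ :=
    LocalizedModule.map W j
  have hJi : Injective J := LocalizedModule.map_injective W j hj
  have hJs : Surjective J := by
    intro z
    induction z using LocalizedModule.induction_on with
    | h c s =>
      obtain ⟨g, hg, n, hn⟩ := hT c
      refine ⟨LocalizedModule.mk ((LinearMap.ker π₂).mkQ n) (⟨g, hg⟩ * s), ?_⟩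
      change LocalizedModule.map W j _ = _
      rw [LocalizedModule.map_mk]
      have e1 : j ((LinearMap.ker π₂).mkQ n) = g • c := by
        rw [← hn]
        rfl
      rw [e1]
      exact LocalizedModule.mk_cancel_common_left (⟨g, hg⟩ : W) s c
  let e : LocalizedModule W (N₂ ⧸ LinearMap.ker π₂) ≃ₗ[Localization W] LocalizedModule W C₂ :=
    LinearEquiv.ofBijective J ⟨hJi, hJs⟩
  exact Module.Flat.of_linearEquiv (e.restrictScalars R₂)

end LocIso

section Stage

variable {R₂ R S₂ S : Type u} [CommRing R₂] [CommRing R] [CommRing S₂] [CommRing S]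
  [Algebra R₂ R] [Algebra R₂ S₂] [Algebra R S] [Algebra S₂ S] [Algebra R₂ S]
  [IsScalarTower R₂ R S] [IsScalarTower R₂ S₂ S] [Algebra.IsPushout R₂ R S₂ S]
  [IsNoetherianRing R₂] [Algebra.FiniteType R₂ S₂]
  {N₂ : Type u} [AddCommGroup N₂] [Module S₂ N₂] [Module R₂ N₂] [IsScalarTower R₂ S₂ N₂]
  [Module.Finite S₂ N₂]
  {C₂ : Type u} [AddCommGroup C₂] [Module S₂ C₂] [Module R₂ C₂] [IsScalarTower R₂ S₂ C₂]
  [Module.Finite S₂ C₂]
  {N : Type u} [AddCommGroup N] [Module S N] [Module S₂ N] [IsScalarTower S₂ S N] [Module R N]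
  [IsScalarTower R S N]
  {C : Type u} [AddCommGroup C] [Module S C] [Module S₂ C] [IsScalarTower S₂ S C] [Module R C]
  [IsScalarTower R S C]
  {M : Type u} [AddCommGroup M] [Module S M] [Module.Finite S M]
  (fN : N₂ →ₗ[S₂] N) (hfN : IsBaseChange S fN) (fC : C₂ →ₗ[S₂] C) (hfC : IsBaseChange S fC)
  (π₂ : N₂ →ₗ[S₂] C₂) (π : N →ₗ[S] C) (hcompat : ∀ x, fC (π₂ x) = π (fN x)) (hπ : Surjective π)
  (u : M →ₗ[S] N) (hu : LinearMap.range u = LinearMap.ker π)

include hfN hfC hcompat hπ hu in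
set_option maxHeartbeats 6400000 in
set_option synthInstance.maxHeartbeats 400000 in
/-- **Openness at a Noetherian stage.** -/
theorem exists_open_nbhd (Q : Ideal S) [hQ : Q.IsPrime]
    (hinjQ : ∀ x : M, u x = 0 → ∃ t : S, t ∉ Q ∧ t • x = 0)
    [Module.Flat R₂ (LocalizedModule (Q.comap (algebraMap S₂ S)).primeCompl C₂)] :
    ∃ Ω : Set (PrimeSpectrum S), IsOpen Ω ∧ (⟨Q, hQ⟩ : PrimeSpectrum S) ∈ Ω ∧
      ∀ P ∈ Ω, (∀ x : M, u x = 0 → ∃ t : S, t ∉ P.asIdeal ∧ t • x = 0) ∧
        Module.Flat R (LocalizedModule P.asIdeal.primeCompl C) := by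
  classical
  haveI : IsNoetherianRing S₂ := Algebra.FiniteType.isNoetherianRing R₂ S₂
  haveI : IsNoetherian S₂ N₂ := isNoetherian_of_isNoetherianRing_of_finite S₂ N₂
  -- the cokernel of `π₂` dies after base change
  obtain ⟨φ, hφ⟩ := Groth.Agent.Helper7.InjFlatBC.exists_isBaseChange_coker fN hfN fC hfC π₂ π
    hcompat
  haveI hsubC : Subsingleton (C ⧸ LinearMap.range π) := by
    rw [Submodule.Quotient.subsingleton_iff, LinearMap.range_eq_top]
    exact hπ
  have hTloc : ∀ (P : Ideal S) [P.IsPrime] (t : C₂ ⧸ LinearMap.range π₂),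
      ∃ g : S₂, g ∉ P.comap (algebraMap S₂ S) ∧ g • t = 0 := fun P _ t =>
    Groth.Agent.Helper7.SuppBC.exists_smul_eq_zero_of_subsingleton_baseChange φ hφ P t
  -- the open set at the stage
  let Ω₂ : Set (PrimeSpectrum S₂) :=
    {q | Module.Flat R₂ (LocalizedModule q.asIdeal.primeCompl C₂)} ∩
      (Module.support S₂ (C₂ ⧸ LinearMap.range π₂))ᶜ
  have hΩ₂ : IsOpen Ω₂ :=
    (FL.isOpen_flatLocus_of_noetherian (R := R₂) (S := S₂) (M := C₂)).inter
      (Module.isClosed_support (R := S₂) (M := C₂ ⧸ LinearMap.range π₂)).isOpen_compl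
  -- generators of `ker π₂`
  obtain ⟨r, n, hn⟩ := Submodule.fg_iff_exists_fin_generating_family.mp
    (IsNoetherian.noetherian (LinearMap.ker π₂))
  let ν₂ : (Fin r → S₂) →ₗ[S₂] N₂ := Fintype.linearCombination S₂ n
  have hν₂ : LinearMap.range ν₂ = LinearMap.ker π₂ := by
    rw [Fintype.range_linearCombination, hn]
  have hnker : ∀ i, π₂ (n i) = 0 := fun i => by
    have : n i ∈ LinearMap.ker π₂ := by
      rw [← hn]
      exact Submodule.subset_span ⟨i, rfl⟩
    exact this
  haveI : IsNoetherian S₂ (Fin r → S₂) := isNoetherian_of_isNoetherianRing_of_finite S₂ _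
  obtain ⟨b, ρ, hρ⟩ := Submodule.fg_iff_exists_fin_generating_family.mp
    (IsNoetherian.noetherian (LinearMap.ker ν₂))
  let fP : (Fin r → S₂) →ₗ[S₂] (Fin r → S) := (Algebra.linearMap S₂ S).compLeft (Fin r)
  have hfP : IsBaseChange S fP := isBaseChange_compLeft S₂ S r
  let ν : (Fin r → S) →ₗ[S] N := Fintype.linearCombination S (fun i => fN (n i))
  have hcompatν : ∀ a₂ : Fin r → S₂, fN (ν₂ a₂) = ν (fP a₂) := by
    intro a₂
    change fN (Fintype.linearCombination S₂ n a₂) =
      Fintype.linearCombination S (fun i => fN (n i)) (fP a₂)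
    rw [Fintype.linearCombination_apply, Fintype.linearCombination_apply, map_sum]
    refine Finset.sum_congr rfl fun i _ => ?_
    rw [map_smul]
    change a₂ i • fN (n i) = (algebraMap S₂ S (a₂ i)) • fN (n i)
    rw [algebraMap_smul]
  -- lifts to `M`
  have hμ : ∀ i, ∃ μ : M, u μ = fN (n i) := by
    intro i
    have : fN (n i) ∈ LinearMap.range u := by
      rw [hu, LinearMap.mem_ker, ← hcompat, hnker, map_zero]
    exact this
  choose μ hμ using hμ
  let lam : (Fin r → S) →ₗ[S] M := Fintype.linearCombination S μ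
  have hulam : ∀ a, u (lam a) = ν a := by
    intro a
    change u (Fintype.linearCombination S μ a) = Fintype.linearCombination S _ a
    rw [Fintype.linearCombination_apply, Fintype.linearCombination_apply, map_sum]
    refine Finset.sum_congr rfl fun i _ => ?_
    rw [map_smul, hμ]
  -- the two local generation statements
  have hF1 : ∀ (P : Ideal S) [P.IsPrime],
      (∀ t : C₂ ⧸ LinearMap.range π₂, ∃ g : S₂, g ∉ P.comap (algebraMap S₂ S) ∧ g • t = 0) →
      ∀ z : N, π z = 0 → ∃ t : S, t ∉ P ∧ ∃ a, t • z = ν a := by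
    intro P _ hPT z hz
    haveI : Subsingleton (LocalizedModule (P.comap (algebraMap S₂ S)).primeCompl
        (C₂ ⧸ LinearMap.range π₂)) := by
      rw [LocalizedModule.subsingleton_iff]
      intro t
      obtain ⟨g, hg, hgt⟩ := hPT t
      exact ⟨g, hg, hgt⟩
    obtain ⟨t, ht, htz⟩ := ker_locally_generated (R₀ := R₂) (R := R) fN hfN fC hfC π₂ π hcompat
      P z hz
    refine ⟨t, ht, ?_⟩
    have hle : Submodule.span S (fN '' (LinearMap.ker π₂ : Set N₂)) ≤ LinearMap.range ν := by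
      rw [Submodule.span_le]
      rintro _ ⟨x, hx, rfl⟩
      have hx' : x ∈ LinearMap.range ν₂ := by
        rw [hν₂]
        exact hx
      obtain ⟨a₂, rfl⟩ := hx'
      exact ⟨fP a₂, (hcompatν a₂).symm⟩
    obtain ⟨a, ha⟩ := hle htz
    exact ⟨a, ha.symm⟩
  have hF2 : ∀ (P : Ideal S) [P.IsPrime],
      Module.Flat R₂ (LocalizedModule (P.comap (algebraMap S₂ S)).primeCompl C₂) →
      (∀ t : C₂ ⧸ LinearMap.range π₂, ∃ g : S₂, g ∉ P.comap (algebraMap S₂ S) ∧ g • t = 0) →
      ∀ a : Fin r → S, ν a = 0 → ∃ t : S, t ∉ P ∧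
        t • a ∈ Submodule.span S (fP '' (LinearMap.ker ν₂ : Set (Fin r → S₂))) := by
    intro P _ hPfl hPT a ha
    haveI := hPfl
    haveI h1 : Module.Flat R₂ (LocalizedModule (P.comap (algebraMap S₂ S)).primeCompl
        (N₂ ⧸ LinearMap.ker π₂)) := by
      apply flat_quot_ker_of_coker_zero π₂
      intro c
      obtain ⟨g, hg, hgt⟩ := hPT ((LinearMap.range π₂).mkQ c)
      refine ⟨g, hg, ?_⟩
      rw [← map_smul, Submodule.mkQ_apply, Submodule.Quotient.mk_eq_zero] at hgt
      exact hgt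
    haveI h2 : Module.Flat R₂ (LocalizedModule (P.comap (algebraMap S₂ S)).primeCompl
        (N₂ ⧸ LinearMap.range ν₂)) :=
      flat_of_submodule_eq (P.comap (algebraMap S₂ S)).primeCompl hν₂.symm
    exact ker_locally_generated (R₀ := R₂) (R := R) fP hfP fN hfN ν₂ ν hcompatν P a ha
  -- finite data at `Q`
  obtain ⟨k, m, hm⟩ := Module.Finite.exists_fin (R := S) (M := M)
  have hQT := hTloc Q
  have hG1 : ∀ j : Fin k, ∃ t : S, t ∉ Q ∧ ∃ a, t • m j = lam a := by
    intro j
    have hz : π (u (m j)) = 0 := by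
      have : u (m j) ∈ LinearMap.ker π := by
        rw [← hu]
        exact ⟨_, rfl⟩
      exact this
    obtain ⟨t, ht, a, hta⟩ := hF1 Q hQT (u (m j)) hz
    have h0 : u (t • m j - lam a) = 0 := by
      rw [map_sub, map_smul, hulam, hta, sub_self]
    obtain ⟨t', ht', ht'0⟩ := hinjQ _ h0
    refine ⟨t' * t, fun hmem => (hQ.mem_or_mem hmem).elim ht' ht, t' • a, ?_⟩
    rw [smul_sub, sub_eq_zero] at ht'0
    rw [mul_smul, ht'0, map_smul]
  choose tG htG aG haG using hG1
  have hG2 : ∀ l : Fin b, ∃ t : S, t ∉ Q ∧ t • lam (fP (ρ l)) = 0 := by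
    intro l
    apply hinjQ
    rw [hulam, ← hcompatν]
    have : ρ l ∈ LinearMap.ker ν₂ := by
      rw [← hρ]
      exact Submodule.subset_span ⟨l, rfl⟩
    rw [LinearMap.mem_ker.mp this, map_zero]
  choose tH htH haH using hG2
  let g₁ : S := ∏ j, tG j
  let g₂ : S := ∏ l, tH l
  have hg₁ : g₁ ∉ Q := by
    intro hmem
    obtain ⟨j, -, hj⟩ := (Ideal.IsPrime.prod_mem_iff).mp hmem
    exact htG j hj
  have hg₂ : g₂ ∉ Q := by
    intro hmem
    obtain ⟨l, -, hl⟩ := (Ideal.IsPrime.prod_mem_iff).mp hmem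
    exact htH l hl
  -- `g₁ M ⊆ range lam`
  have hg₁M : ∀ y : M, ∃ a, g₁ • y = lam a := by
    intro y
    have hy : y ∈ Submodule.span S (Set.range m) := by
      rw [hm]
      exact Submodule.mem_top
    refine Submodule.span_induction (p := fun y _ => ∃ a, g₁ • y = lam a) ?_ ?_ ?_ ?_ hy
    · rintro _ ⟨j, rfl⟩
      refine ⟨(∏ j' ∈ Finset.univ.erase j, tG j') • aG j, ?_⟩
      have e1 : g₁ = (∏ j' ∈ Finset.univ.erase j, tG j') * tG j := by
        rw [mul_comm]
        exact (Finset.mul_prod_erase Finset.univ tG (Finset.mem_univ j)).symm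
      rw [e1, mul_smul, haG, map_smul]
    · exact ⟨0, by rw [smul_zero, map_zero]⟩
    · rintro y₁ y₂ _ _ ⟨a₁, h₁⟩ ⟨a₂, h₂⟩
      exact ⟨a₁ + a₂, by rw [smul_add, h₁, h₂, map_add]⟩
    · rintro c y₁ _ ⟨a₁, h₁⟩
      exact ⟨c • a₁, by rw [smul_comm, h₁, map_smul]⟩
  -- `g₂` kills `lam` of the relations
  have hg₂rel : ∀ a' ∈ Submodule.span S (fP '' (LinearMap.ker ν₂ : Set (Fin r → S₂))),
      g₂ • lam a' = 0 := by
    have hstage : ∀ z₂ ∈ LinearMap.ker ν₂, g₂ • lam (fP z₂) = 0 := by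
      intro z₂ hz₂
      rw [← hρ] at hz₂
      refine Submodule.span_induction (p := fun z₂ _ => g₂ • lam (fP z₂) = 0) ?_ ?_ ?_ ?_ hz₂
      · rintro _ ⟨l, rfl⟩
        have e1 : g₂ = (∏ l' ∈ Finset.univ.erase l, tH l') * tH l := by
          rw [mul_comm]
          exact (Finset.mul_prod_erase Finset.univ tH (Finset.mem_univ l)).symm
        rw [e1, mul_smul, haH, smul_zero]
      · rw [map_zero, map_zero, smul_zero]
      · intro x y _ _ hx hy
        rw [map_add, map_add, smul_add, hx, hy, add_zero]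
      · intro c x _ hx
        have e2 : fP (c • x) = (algebraMap S₂ S c) • fP x := by
          rw [map_smul, algebraMap_smul]
        rw [e2, map_smul, smul_comm, hx, smul_zero]
    intro a' ha'
    refine Submodule.span_induction (p := fun a' _ => g₂ • lam a' = 0) ?_ ?_ ?_ ?_ ha'
    · rintro _ ⟨z₂, hz₂, rfl⟩
      exact hstage z₂ hz₂
    · rw [map_zero, smul_zero]
    · intro x y _ _ hx hy
      rw [map_add, smul_add, hx, hy, add_zero]
    · intro c x _ hx
      rw [map_smul, smul_comm, hx, smul_zero]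
  -- the open set
  refine ⟨(PrimeSpectrum.comap (algebraMap S₂ S)) ⁻¹' Ω₂ ∩
    (PrimeSpectrum.basicOpen (g₁ * g₂) : Set (PrimeSpectrum S)), ?_, ?_, ?_⟩
  · exact (hΩ₂.preimage (PrimeSpectrum.continuous_comap (algebraMap S₂ S))).inter
      (PrimeSpectrum.basicOpen (g₁ * g₂)).isOpen
  · refine ⟨⟨?_, ?_⟩, ?_⟩
    · change Module.Flat R₂ (LocalizedModule (Q.comap (algebraMap S₂ S)).primeCompl C₂)
      infer_instance
    · change _ ∉ Module.support S₂ (C₂ ⧸ LinearMap.range π₂)
      rw [Module.notMem_support_iff']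
      intro t
      exact hQT t
    · change g₁ * g₂ ∉ Q
      exact fun hmem => (hQ.mem_or_mem hmem).elim hg₁ hg₂
  · rintro P ⟨⟨hPfl, hPsupp⟩, hPg⟩
    have hPfl' : Module.Flat R₂
        (LocalizedModule (P.asIdeal.comap (algebraMap S₂ S)).primeCompl C₂) := hPfl
    have hPT : ∀ t : C₂ ⧸ LinearMap.range π₂,
        ∃ g : S₂, g ∉ P.asIdeal.comap (algebraMap S₂ S) ∧ g • t = 0 := by
      have := Module.notMem_support_iff'.mp hPsupp
      exact this
    have hPg' : g₁ * g₂ ∉ P.asIdeal := hPg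
    refine ⟨?_, ?_⟩
    · intro y hy
      obtain ⟨a, hya⟩ := hg₁M y
      have hνa : ν a = 0 := by
        rw [← hulam, ← hya, map_smul, hy, smul_zero]
      obtain ⟨t, ht, hta⟩ := hF2 P.asIdeal hPfl' hPT a hνa
      refine ⟨g₂ * t * g₁, ?_, ?_⟩
      · intro hmem
        rcases P.isPrime.mem_or_mem hmem with h | h
        · rcases P.isPrime.mem_or_mem h with h' | h'
          · exact hPg' (P.asIdeal.mul_mem_left g₁ h')
          · exact ht h'
        · exact hPg' (P.asIdeal.mul_mem_right g₂ h)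
      · rw [mul_smul, mul_smul, hya, ← map_smul lam t a]
        exact hg₂rel _ hta
    · haveI := hPfl'
      exact FL.flat_localizedModule_of_isBaseChange (R₀ := R₂) (R := R) fC hfC P.asIdeal

end Stage

end Groth.Agent.Helper7.CokerOpen
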