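import Mathlib
import Groth.Agent.Lib.Helper21.FL8
import Groth.Agent.Lib.Helper7.MapDescent
import Groth.Agent.Lib.Helper7.CokerOpen

/-!
# Openness of the locus "injective with flat cokernel" for finitely presented data (helper7)
-/

set_option autoImplicit false
set_option linter.style.haveILetI false
set_option linter.unusedSectionVars false

universe u

open TensorProduct Function

namespace Groth.Agent.Helper7.CokerOpenGlobal

open Groth.Agent.Helper21 Groth.Agent.Helper21.FL

set_option maxHeartbeats 3200000 in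
set_option synthInstance.maxHeartbeats 400000 in
theorem isOpen_inj_flat_coker {R B M N : Type u} [CommRing R] [CommRing B] [Algebra R B]
    [Algebra.FinitePresentation R B]
    [AddCommGroup M] [Module B M] [Module.FinitePresentation B M]
    [AddCommGroup N] [Module B N] [Module R N] [IsScalarTower R B N]
    [Module.FinitePresentation B N] (u : M →ₗ[B] N) :
    IsOpen {P : PrimeSpectrum B | (∀ x : M, u x = 0 → ∃ t : B, t ∉ P.asIdeal ∧ t • x = 0) ∧
      Module.Flat R (LocalizedModule P.asIdeal.primeCompl (N ⧸ LinearMap.range u))} := by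
  classical
  rw [isOpen_iff_forall_mem_open]
  rintro ⟨Q, hQ⟩ ⟨hinjQ, hflQ⟩
  haveI := hQ
  haveI hflQ' : Module.Flat R (LocalizedModule Q.primeCompl (N ⧸ LinearMap.range u)) := hflQ
  have hinjQ' : ∀ x : M, u x = 0 → ∃ t : B, t ∉ Q ∧ t • x = 0 := hinjQ
  -- the cokernel is finitely presented
  haveI hCfp : Module.FinitePresentation B (N ⧸ LinearMap.range u) := by
    refine Module.finitePresentation_of_surjective (LinearMap.range u).mkQ
      (Submodule.mkQ_surjective _) ?_
    rw [Submodule.ker_mkQ, LinearMap.range_eq_map]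
    exact (Module.Finite.fg_top).map u
  -- presentation of `B`
  let P := Algebra.Presentation.ofFinitePresentation R B
  -- presentation of the cokernel
  obtain ⟨n, m, f, g, hf, hfg⟩ :=
    Module.FinitePresentation.exists_fin' B (N ⧸ LinearMap.range u)
  have hsurj : ∀ (k : Fin m) (l : Fin n), ∃ w : MvPolynomial _ R,
      MvPolynomial.aeval P.val w = g (Pi.single k 1) l := fun k l => by
    obtain ⟨w, hw⟩ := P.algebraMap_surjective (g (Pi.single k 1) l)
    exact ⟨w, by rw [← hw, Algebra.Generators.algebraMap_apply]⟩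
  choose w hw using hsurj
  let s : Set R := P.coeffs ∪ ⋃ k, ⋃ l, ((w k l).coeffs : Set R)
  have hsfin : s.Finite := by
    refine Set.Finite.union P.finite_coeffs ?_
    exact Set.finite_iUnion fun k => Set.finite_iUnion fun l => Finset.finite_toSet _
  let A : Subalgebra ℤ R := Algebra.adjoin ℤ s
  haveI : P.HasCoeffs A := ⟨fun x hx => ⟨⟨x, Algebra.subset_adjoin (Or.inl hx)⟩, rfl⟩⟩
  haveI : Algebra.FiniteType ℤ A := Algebra.FiniteType.adjoin_of_finite hsfin
  haveI : IsNoetherianRing A := Algebra.FiniteType.isNoetherianRing ℤ A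
  let S₁ := P.ModelOfHasCoeffs A
  letI : Algebra S₁ B := Groth.Agent.Helper21.FS.modelAlgebra P A
  haveI : IsScalarTower A S₁ B := Groth.Agent.Helper21.FS.model_isScalarTower P A
  haveI : Algebra.IsPushout A R S₁ B := Groth.Agent.Helper21.FS.model_isPushout P A
  have hw' : ∀ k l, ∃ w' : MvPolynomial _ A, MvPolynomial.map (algebraMap A R) w' = w k l := by
    intro k l
    have : w k l ∈ Set.range (MvPolynomial.map (algebraMap A R)) := by
      rw [MvPolynomial.mem_range_map_iff_coeffs_subset]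
      intro x hx
      exact ⟨⟨x, Algebra.subset_adjoin (Or.inr (Set.mem_iUnion₂.mpr ⟨k, l, hx⟩))⟩, rfl⟩
    exact this
  choose w' hw' using hw'
  let c' : Fin m → Fin n → S₁ := fun k l => Ideal.Quotient.mk _ (w' k l)
  letI : Module S₁ (N ⧸ LinearMap.range u) :=
    Module.compHom (N ⧸ LinearMap.range u) (algebraMap S₁ B)
  haveI : IsScalarTower S₁ B (N ⧸ LinearMap.range u) :=
    IsScalarTower.of_algebraMap_smul fun _ _ => rfl
  have hc : ∀ k l, algebraMap S₁ B (c' k l) = g (Pi.single k 1) l := by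
    intro k l
    rw [Groth.Agent.Helper21.FS.modelAlgebra_mk, ← hw, ← hw', MvPolynomial.aeval_map_algebraMap]
  obtain ⟨h, hh⟩ := Groth.Agent.Helper21.FS.exists_isBaseChange_cokerModel c' f g hf hfg hc
  haveI : Module.Finite S₁ (Groth.Agent.Helper21.FS.CokerModel c') := Module.Finite.quotient S₁ _
  obtain ⟨R₀, _, _, S₀, _, _, _, _, _, _, C₀, _, _, _, _, _, _, f₀, hR₀, hS₀, hC₀, hpo, hf₀,
    hflat⟩ := exists_stage_flat_at (R := R) A h hh Q
  haveI := hR₀
  haveI := hS₀
  haveI := hC₀
  haveI := hpo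
  haveI := hflat
  -- descent of the quotient map
  obtain ⟨R₂, _, _, S₂, _, _, _, _, _, _, N₂, _, _, _, _, C₂, _, _, _, _, _, _, fN, fC, π₂,
    hR₂, hS₂, hN₂, hpo₂, hfN, hfC, hcompat, hflat₂, hC₂⟩ :=
    Groth.Agent.Helper7.MapDescent.exists_descent_map (A := R₀) (R := R) (S₁ := S₀) (S := B)
      f₀ hf₀ (LinearMap.range u).mkQ Q
  haveI := hR₂
  haveI := hS₂
  haveI := hN₂
  haveI := hpo₂
  haveI := hflat₂
  haveI := hC₂
  haveI : IsNoetherianRing R₂ := Algebra.FiniteType.isNoetherianRing ℤ R₂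
  letI : Module R₂ N₂ := Module.compHom N₂ (algebraMap R₂ S₂)
  haveI : IsScalarTower R₂ S₂ N₂ := IsScalarTower.of_algebraMap_smul fun _ _ => rfl
  obtain ⟨Ω, hΩo, hQΩ, hΩ⟩ := Groth.Agent.Helper7.CokerOpen.exists_open_nbhd (R₂ := R₂) (R := R)
    fN hfN fC hfC π₂ (LinearMap.range u).mkQ hcompat (Submodule.mkQ_surjective _) u
    (Submodule.ker_mkQ _).symm Q hinjQ'
  exact ⟨Ω, fun P hP => hΩ P hP, hΩo, hQΩ⟩

end Groth.Agent.Helper7.CokerOpenGlobal
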