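import Mathlib
import Groth.Agent.Lib.Helper7.StalkInjFlat
import Groth.Agent.Lib.Helper7.CokerOpenGlobal

/-!
# EGA IV 11.3.7 for schemes: openness (helper7)
-/

set_option autoImplicit false
set_option linter.style.haveILetI false
set_option linter.unusedSectionVars false

open CategoryTheory AlgebraicGeometry Limits Opposite TopologicalSpace TensorProduct Function

universe u

namespace Groth.Agent.Helper7.StalkInjFlatOpen

open Groth.Agent.Helper13.QCoh Groth.Agent.Helper13.QCohLoc Groth.Agent.Helper3.CohLenAdd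
  Groth.Agent.Helper7.StalkInjFlat Groth.Agent.Helper7.LocTransfer

section Point

variable {X Y : Scheme.{u}} (f : X ⟶ Y) (F F' : X.Modules)
  [F.IsQuasicoherent] [F'.IsQuasicoherent] (u : F' ⟶ F)
  {U : X.Opens} (hU : IsAffineOpen U) {W : Y.Opens} (hW : IsAffineOpen W) (e : U ≤ f ⁻¹ᵁ W)

include hU hW in
set_option maxHeartbeats 6400000 in
set_option synthInstance.maxHeartbeats 400000 in
theorem point_iff [Algebra Γ(Y, W) Γ(X, U)]
    (halg : algebraMap Γ(Y, W) Γ(X, U) = (f.appLE W U e).hom)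
    [Module Γ(Y, W) Γ(F, U)] [IsScalarTower Γ(Y, W) Γ(X, U) Γ(F, U)]
    (u₀ : Γ(F', U) →ₗ[Γ(X, U)] Γ(F, U)) (hu₀ : ∀ m, u₀ m = u.app U m)
    (x : X) (hxU : x ∈ U) :
    (Function.Injective (stalkMap u x) ∧ FlatMod.IsFlatOverAt f (cokernel u) x) ↔
      ((∀ m : Γ(F', U), u₀ m = 0 →
          ∃ t : Γ(X, U), t ∉ (hU.primeIdealOf ⟨x, hxU⟩).asIdeal ∧ t • m = 0) ∧
        Module.Flat Γ(Y, W) (LocalizedModule (hU.primeIdealOf ⟨x, hxU⟩).asIdeal.primeCompl
          (Γ(F, U) ⧸ LinearMap.range u₀))) := by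
  have hxW : f x ∈ W := e hxU
  -- the stalk rings
  letI algBBp : Algebra Γ(X, U) (X.presheaf.stalk x) :=
    X.presheaf.algebra_section_stalk ⟨x, hxU⟩
  letI algAAq : Algebra Γ(Y, W) (Y.presheaf.stalk (f x)) :=
    Y.presheaf.algebra_section_stalk ⟨f x, hxW⟩
  letI algAqBp : Algebra (Y.presheaf.stalk (f x)) (X.presheaf.stalk x) :=
    (f.stalkMap x).hom.toAlgebra
  letI algABp : Algebra Γ(Y, W) (X.presheaf.stalk x) :=
    ((algebraMap Γ(X, U) (X.presheaf.stalk x)).comp (algebraMap Γ(Y, W) Γ(X, U))).toAlgebra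
  haveI : IsScalarTower Γ(Y, W) Γ(X, U) (X.presheaf.stalk x) :=
    IsScalarTower.of_algebraMap_eq (fun _ => rfl)
  haveI : IsScalarTower Γ(Y, W) (Y.presheaf.stalk (f x)) (X.presheaf.stalk x) := by
    refine IsScalarTower.of_algebraMap_eq (fun r => ?_)
    change X.presheaf.germ U x hxU (algebraMap Γ(Y, W) Γ(X, U) r) =
      f.stalkMap x (Y.presheaf.germ W (f x) hxW r)
    rw [halg, Scheme.Hom.germ_stalkMap_apply, Scheme.Hom.appLE,
      CommRingCat.comp_apply, TopCat.Presheaf.germ_res_apply]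
  haveI h3 : IsLocalization.AtPrime (Y.presheaf.stalk (f x))
      (hW.primeIdealOf (⟨f x, hxW⟩ : W)).asIdeal := hW.isLocalization_stalk ⟨f x, hxW⟩
  haveI h4 : IsLocalization.AtPrime (X.presheaf.stalk x)
      (hU.primeIdealOf (⟨x, hxU⟩ : U)).asIdeal := hU.isLocalization_stalk ⟨x, hxU⟩
  -- module structures on `F_x`
  letI modBN : Module Γ(X, U) (F.presheaf.stalk x) := modStalk F (⟨x, hxU⟩ : U)
  haveI : IsScalarTower Γ(X, U) (X.presheaf.stalk x) (F.presheaf.stalk x) :=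
    isScalarTower_stalk F (⟨x, hxU⟩ : U)
  letI modAqN : Module (Y.presheaf.stalk (f x)) (F.presheaf.stalk x) :=
    Module.compHom (F.presheaf.stalk x) (f.stalkMap x).hom
  haveI : IsScalarTower (Y.presheaf.stalk (f x)) (X.presheaf.stalk x) (F.presheaf.stalk x) :=
    IsScalarTower.of_algebraMap_smul (fun _ _ => rfl)
  letI modAN : Module Γ(Y, W) (F.presheaf.stalk x) :=
    Module.compHom (F.presheaf.stalk x) (algebraMap Γ(Y, W) (X.presheaf.stalk x))
  haveI : IsScalarTower Γ(Y, W) (X.presheaf.stalk x) (F.presheaf.stalk x) :=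
    IsScalarTower.of_algebraMap_smul (fun _ _ => rfl)
  haveI : IsScalarTower Γ(Y, W) (Y.presheaf.stalk (f x)) (F.presheaf.stalk x) := by
    refine IsScalarTower.of_algebraMap_smul (fun r m => ?_)
    change (f.stalkMap x).hom (algebraMap Γ(Y, W) (Y.presheaf.stalk (f x)) r) • m =
      algebraMap Γ(Y, W) (X.presheaf.stalk x) r • m
    rw [IsScalarTower.algebraMap_apply Γ(Y, W) (Y.presheaf.stalk (f x)) (X.presheaf.stalk x)]
    rfl
  haveI : IsScalarTower Γ(Y, W) Γ(X, U) (F.presheaf.stalk x) := by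
    refine IsScalarTower.of_algebraMap_smul (fun r m => ?_)
    change algebraMap Γ(X, U) (X.presheaf.stalk x) (algebraMap Γ(Y, W) Γ(X, U) r) • m =
      algebraMap Γ(Y, W) (X.presheaf.stalk x) r • m
    rfl
  -- module structures on `F'_x`
  letI modBM : Module Γ(X, U) (F'.presheaf.stalk x) := modStalk F' (⟨x, hxU⟩ : U)
  haveI : IsScalarTower Γ(X, U) (X.presheaf.stalk x) (F'.presheaf.stalk x) :=
    isScalarTower_stalk F' (⟨x, hxU⟩ : U)
  haveI h2 := isLocalizedModule_germ F hU (⟨x, hxU⟩ : U)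
  haveI h2' := isLocalizedModule_germ F' hU (⟨x, hxU⟩ : U)
  have hcomm : ∀ m : Γ(F', U), germLin F (⟨x, hxU⟩ : U) (u₀ m) =
      stalkLin u x (germLin F' (⟨x, hxU⟩ : U) m) := fun m => by
    rw [hu₀]
    exact (stalkMap_germ u x U hxU m).symm
  -- the cokernel
  obtain ⟨ec⟩ := exists_linearEquiv_stalk_cokernel u x
  letI modAqC : Module (Y.presheaf.stalk (f x)) ((cokernel u).presheaf.stalk x) :=
    Module.compHom ((cokernel u).presheaf.stalk x) (f.stalkMap x).hom
  haveI : IsScalarTower (Y.presheaf.stalk (f x)) (X.presheaf.stalk x)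
      ((cokernel u).presheaf.stalk x) := IsScalarTower.of_algebraMap_smul (fun _ _ => rfl)
  have hC : FlatMod.IsFlatOverAt f (cokernel u) x ↔
      Module.Flat (Y.presheaf.stalk (f x))
        (F.presheaf.stalk x ⧸ LinearMap.range (stalkLin u x)) :=
    (Module.Flat.equiv_iff (ec.restrictScalars (Y.presheaf.stalk (f x)))).symm
  obtain ⟨e₁⟩ := exists_linearEquiv_coker (R := Γ(Y, W)) (B := Γ(X, U)) (S := X.presheaf.stalk x)
    (hU.primeIdealOf (⟨x, hxU⟩ : U)).asIdeal.primeCompl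
    (germLin F' (⟨x, hxU⟩ : U)) (germLin F (⟨x, hxU⟩ : U)) u₀ (stalkLin u x) hcomm
  have hC2 : Module.Flat (Y.presheaf.stalk (f x))
        (F.presheaf.stalk x ⧸ LinearMap.range (stalkLin u x)) ↔
      Module.Flat Γ(Y, W) (LocalizedModule (hU.primeIdealOf ⟨x, hxU⟩).asIdeal.primeCompl
          (Γ(F, U) ⧸ LinearMap.range u₀)) := by
    rw [Module.flat_iff_of_isLocalization (Y.presheaf.stalk (f x))
      (hW.primeIdealOf (⟨f x, hxW⟩ : W)).asIdeal.primeCompl]
    exact Module.Flat.equiv_iff e₁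
  rw [hC, hC2]
  refine and_congr_left fun _ => ⟨fun hinj m hm => ?_, fun hloc => ?_⟩
  · have h0 : germLin F' (⟨x, hxU⟩ : U) m = 0 := by
      apply hinj
      change stalkLin u x (germLin F' (⟨x, hxU⟩ : U) m) = stalkLin u x 0
      rw [← hcomm, hm, map_zero, map_zero]
    obtain ⟨c, hc⟩ := (IsLocalizedModule.eq_zero_iff
      (hU.primeIdealOf (⟨x, hxU⟩ : U)).asIdeal.primeCompl (germLin F' (⟨x, hxU⟩ : U))).mp h0
    exact ⟨c, c.2, hc⟩
  · exact injective_of_locInj (S := X.presheaf.stalk x)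
      (hU.primeIdealOf (⟨x, hxU⟩ : U)).asIdeal.primeCompl
      (germLin F' (⟨x, hxU⟩ : U)) (germLin F (⟨x, hxU⟩ : U)) u₀ (stalkLin u x) hcomm
      (fun m hm => by
        obtain ⟨t, ht, htm⟩ := hloc m hm
        exact ⟨t, ht, htm⟩)

end Point

section Open

variable {X Y : Scheme.{u}} (f : X ⟶ Y) [LocallyOfFinitePresentation f] (F F' : X.Modules)
  [F.IsQuasicoherent] [F'.IsQuasicoherent]
  [hF : SheafOfModules.IsFinitePresentation (R := X.ringCatSheaf) F]
  [hF' : SheafOfModules.IsFinitePresentation (R := X.ringCatSheaf) F']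
  (u : F' ⟶ F)

set_option maxHeartbeats 3200000 in
set_option synthInstance.maxHeartbeats 400000 in
/-- EGA IV 11.3.7: the locus where `u_x` is injective and `Coker u` is `f`-flat is open. -/
theorem isOpen_main :
    IsOpen {x : X | Function.Injective (stalkMap u x) ∧
      FlatMod.IsFlatOverAt f (cokernel u) x} := by
  rw [isOpen_iff_forall_mem_open]
  intro x hx
  obtain ⟨W, hW, hfx, _⟩ := TopologicalSpace.Opens.isBasis_iff_nbhd.mp Y.isBasis_affineOpens
    (TopologicalSpace.Opens.mem_top <| f x)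
  obtain ⟨U, hU, hxU, e⟩ := TopologicalSpace.Opens.isBasis_iff_nbhd.mp X.isBasis_affineOpens
    (show x ∈ f ⁻¹ᵁ W from hfx)
  have hφ : (f.appLE W U e).hom.FinitePresentation :=
    HasRingHomProperty.appLE @LocallyOfFinitePresentation f inferInstance ⟨W, hW⟩ ⟨U, hU⟩ e
  algebraize [(f.appLE W U e).hom]
  letI mRN₀ : Module Γ(Y, W) Γ(F, U) := Module.compHom Γ(F, U) (f.appLE W U e).hom
  haveI : IsScalarTower Γ(Y, W) Γ(X, U) Γ(F, U) :=
    IsScalarTower.of_algebraMap_smul (fun _ _ => rfl)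
  haveI : Module.FinitePresentation Γ(X, U) Γ(F, U) :=
    Groth.Agent.Helper13.LocFree.finitePresentation_sections_of_isFinitePresentation F hU
  haveI : Module.FinitePresentation Γ(X, U) Γ(F', U) :=
    Groth.Agent.Helper13.LocFree.finitePresentation_sections_of_isFinitePresentation F' hU
  let u₀ : Γ(F', U) →ₗ[Γ(X, U)] Γ(F, U) :=
    { toFun := fun m => u.app U m
      map_add' := fun a b => map_add _ a b
      map_smul' := fun r m => Scheme.Modules.Hom.app_smul u r m }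
  have hopen := Groth.Agent.Helper7.CokerOpenGlobal.isOpen_inj_flat_coker (R := Γ(Y, W))
    (B := Γ(X, U)) u₀
  have key : ∀ (y : X) (hy : y ∈ U),
      (Function.Injective (stalkMap u y) ∧ FlatMod.IsFlatOverAt f (cokernel u) y) ↔
      ((∀ m : Γ(F', U), u₀ m = 0 →
          ∃ t : Γ(X, U), t ∉ (hU.primeIdealOf ⟨y, hy⟩).asIdeal ∧ t • m = 0) ∧
        Module.Flat Γ(Y, W) (LocalizedModule (hU.primeIdealOf ⟨y, hy⟩).asIdeal.primeCompl
          (Γ(F, U) ⧸ LinearMap.range u₀))) :=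
    fun y hy => point_iff f F F' u hU hW e rfl u₀ (fun _ => rfl) y hy
  refine ⟨(Scheme.Opens.ι U) '' ((IsAffineOpen.isoSpec hU).hom ⁻¹'
    {P : PrimeSpectrum Γ(X, U) | (∀ m : Γ(F', U), u₀ m = 0 →
          ∃ t : Γ(X, U), t ∉ P.asIdeal ∧ t • m = 0) ∧
        Module.Flat Γ(Y, W) (LocalizedModule P.asIdeal.primeCompl
          (Γ(F, U) ⧸ LinearMap.range u₀))}), ?_, ?_, ?_⟩
  · rintro _ ⟨y', hy', rfl⟩
    exact (key _ y'.2).mpr hy'
  · exact (Scheme.Opens.ι U).isOpenEmbedding.isOpenMap _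
      (hopen.preimage (IsAffineOpen.isoSpec hU).hom.continuous)
  · exact ⟨⟨x, hxU⟩, (key x hxU).mp hx, rfl⟩

end Open

end Groth.Agent.Helper7.StalkInjFlatOpen
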