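import Mathlib
import Groth.Agent.Lib.Helper7.StalkInjFlatOpen
import Groth.Agent.Lib.Helper21.FA6
import Groth.Agent.Lib.Helper21.FL1

/-!
# Injectivity with flat cokernel over an affine chart: the global dictionary (helper7)
-/

set_option autoImplicit false
set_option linter.style.haveILetI false
set_option linter.unusedSectionVars false

open CategoryTheory AlgebraicGeometry Limits Opposite TopologicalSpace TensorProduct Function

universe u

namespace Groth.Agent.Helper7.CT0

open Groth.Agent.Helper13.QCoh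

section

variable {X Y : Scheme.{u}} (f : X ⟶ Y) (F F' : X.Modules)
  [F.IsQuasicoherent] [F'.IsQuasicoherent] (u : F' ⟶ F)
  {U : X.Opens} (hU : IsAffineOpen U) {W : Y.Opens} (hW : IsAffineOpen W) (e : U ≤ f ⁻¹ᵁ W)

include hU hW in
set_option maxHeartbeats 1600000 in
/-- Over an affine chart, `u_x` is injective with `f`-flat cokernel at all points of the chart iff
the map on sections is injective with flat cokernel. -/
theorem forall_mem_iff [Algebra Γ(Y, W) Γ(X, U)]
    (halg : algebraMap Γ(Y, W) Γ(X, U) = (f.appLE W U e).hom)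
    [Module Γ(Y, W) Γ(F, U)] [IsScalarTower Γ(Y, W) Γ(X, U) Γ(F, U)]
    (u₀ : Γ(F', U) →ₗ[Γ(X, U)] Γ(F, U)) (hu₀ : ∀ m, u₀ m = u.app U m) :
    (∀ x ∈ U, Function.Injective (stalkMap u x) ∧ FlatMod.IsFlatOverAt f (cokernel u) x) ↔
      (Function.Injective u₀ ∧ Module.Flat Γ(Y, W) (Γ(F, U) ⧸ LinearMap.range u₀)) := by
  have key : ∀ (y : X) (hy : y ∈ U),
      (Function.Injective (stalkMap u y) ∧ FlatMod.IsFlatOverAt f (cokernel u) y) ↔
      ((∀ m : Γ(F', U), u₀ m = 0 →
          ∃ t : Γ(X, U), t ∉ (hU.primeIdealOf ⟨y, hy⟩).asIdeal ∧ t • m = 0) ∧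
        Module.Flat Γ(Y, W) (LocalizedModule (hU.primeIdealOf ⟨y, hy⟩).asIdeal.primeCompl
          (Γ(F, U) ⧸ LinearMap.range u₀))) :=
    fun y hy => Groth.Agent.Helper7.StalkInjFlatOpen.point_iff f F F' u hU hW e halg u₀ hu₀ y hy
  constructor
  · intro h
    constructor
    · rw [injective_iff_map_eq_zero]
      intro m hm
      by_contra hne
      have hann : (Submodule.span Γ(X, U) {m}).annihilator ≠ ⊤ := by
        intro htop
        apply hne
        have h1 : (1 : Γ(X, U)) ∈ (Submodule.span Γ(X, U) {m}).annihilator := htop ▸ trivial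
        have := (Submodule.mem_annihilator_span_singleton m 1).mp h1
        simpa using this
      obtain ⟨P, hPmax, hPle⟩ := Ideal.exists_le_maximal _ hann
      obtain ⟨x, hxU, hxP⟩ := Groth.Agent.Helper21.FA.exists_primeIdealOf_eq hU ⟨P, hPmax.isPrime⟩
      obtain ⟨t, ht, htm⟩ := ((key x hxU).mp (h x hxU)).1 m hm
      apply ht
      rw [hxP]
      exact hPle ((Submodule.mem_annihilator_span_singleton m t).mpr htm)
    · refine Module.flat_of_isLocalized_maximal Γ(X, U) (Γ(F, U) ⧸ LinearMap.range u₀)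
        (fun P _ => LocalizedModule P.primeCompl (Γ(F, U) ⧸ LinearMap.range u₀))
        (fun P _ => LocalizedModule.mkLinearMap P.primeCompl (Γ(F, U) ⧸ LinearMap.range u₀)) ?_
      intro P hP
      obtain ⟨x, hxU, hxP⟩ := Groth.Agent.Helper21.FA.exists_primeIdealOf_eq hU ⟨P, hP.isPrime⟩
      have := ((key x hxU).mp (h x hxU)).2
      rw [hxP] at this
      exact this
  · rintro ⟨hinj, hflat⟩ x hxU
    refine (key x hxU).mpr ⟨fun m hm => ⟨1, ?_, ?_⟩, ?_⟩
    · exact fun h1 => (hU.primeIdealOf ⟨x, hxU⟩).isPrime.ne_top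
        ((Ideal.eq_top_iff_one _).mpr h1)
    · rw [one_smul]
      exact hinj (hm.trans (map_zero u₀).symm)
    · haveI := hflat
      exact Groth.Agent.Helper21.FL.flat_of_isLocalizedModule
        (hU.primeIdealOf ⟨x, hxU⟩).asIdeal.primeCompl
        (LocalizedModule.mkLinearMap (hU.primeIdealOf ⟨x, hxU⟩).asIdeal.primeCompl
          (Γ(F, U) ⧸ LinearMap.range u₀))

end

end Groth.Agent.Helper7.CT0
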