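import Mathlib
import Groth.Agent.Lib.Helper7.ChartBC
import Groth.Agent.Lib.Helper7.CT0
import Groth.Agent.Lib.Helper7.GD1

/-!
# Injectivity with flat cokernel over a chart of a base change square (helper7)
-/

set_option autoImplicit false
set_option linter.style.haveILetI false
set_option linter.unusedSectionVars false
set_option maxRecDepth 8000

open CategoryTheory AlgebraicGeometry Limits Opposite TopologicalSpace TensorProduct Function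

universe u

namespace Groth.Agent.Helper7.CTD

open Groth.Agent.Helper13.QCoh Groth.Agent.Helper7.ChartBC Groth.Agent.Helper7.GD1

variable {X' Y' X Y : Scheme.{u}} {p : X' ⟶ X} {f' : X' ⟶ Y'} {f : X ⟶ Y} {q : Y' ⟶ Y}
  (H : IsPullback p f' f q) (F' F : X.Modules) [F.IsQuasicoherent] [F'.IsQuasicoherent]
  (h : F' ⟶ F)
  {V : Y.Opens} (hV : IsAffineOpen V) {U : X.Opens} (hU : IsAffineOpen U) (eUV : U ≤ f ⁻¹ᵁ V)
  {V' : Y'.Opens} (hV' : IsAffineOpen V') (eV' : V' ≤ q ⁻¹ᵁ V)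

include H hV hU hV' in
set_option maxHeartbeats 6400000 in
set_option synthInstance.maxHeartbeats 400000 in
theorem chart_iff_aux :
    letI := (q.appLE V V' eV').hom.toAlgebra
    letI : Module Γ(Y, V) Γ(F, U) := Module.compHom _ (f.appLE V U eUV).hom
    letI : Module Γ(Y, V) Γ(F', U) := Module.compHom _ (f.appLE V U eUV).hom
    ∀ (u₀ : Γ(F', U) →ₗ[Γ(Y, V)] Γ(F, U)) (_ : ∀ m, u₀ m = h.app U m),
    (∀ x' ∈ p ⁻¹ᵁ U ⊓ f' ⁻¹ᵁ V',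
        Injective (stalkMap ((Scheme.Modules.pullback p).map h) x') ∧
        FlatMod.IsFlatOverAt f' (cokernel ((Scheme.Modules.pullback p).map h)) x') ↔
      (Injective (u₀.baseChange Γ(Y', V')) ∧
        Module.Flat Γ(Y', V') ((Γ(Y', V') ⊗[Γ(Y, V)] Γ(F, U)) ⧸
          LinearMap.range (u₀.baseChange Γ(Y', V')))) := by
  letI algVV' : Algebra Γ(Y, V) Γ(Y', V') := (q.appLE V V' eV').hom.toAlgebra
  letI modVF : Module Γ(Y, V) Γ(F, U) := Module.compHom _ (f.appLE V U eUV).hom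
  letI modVF' : Module Γ(Y, V) Γ(F', U) := Module.compHom _ (f.appLE V U eUV).hom
  intro u₀ hu₀
  have hU' := isAffineOpen_chart H hV hU eUV hV' eV'
  letI algV'U' : Algebra Γ(Y', V') Γ(X', p ⁻¹ᵁ U ⊓ f' ⁻¹ᵁ V') :=
    (f'.appLE V' (p ⁻¹ᵁ U ⊓ f' ⁻¹ᵁ V') inf_le_right).hom.toAlgebra
  letI modV'L : Module Γ(Y', V') Γ((Scheme.Modules.pullback p).obj F, p ⁻¹ᵁ U ⊓ f' ⁻¹ᵁ V') :=
    Module.compHom _ (f'.appLE V' (p ⁻¹ᵁ U ⊓ f' ⁻¹ᵁ V') inf_le_right).hom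
  haveI : IsScalarTower Γ(Y', V') Γ(X', p ⁻¹ᵁ U ⊓ f' ⁻¹ᵁ V')
      Γ((Scheme.Modules.pullback p).obj F, p ⁻¹ᵁ U ⊓ f' ⁻¹ᵁ V') :=
    IsScalarTower.of_algebraMap_smul fun _ _ => rfl
  letI modV'L' : Module Γ(Y', V') Γ((Scheme.Modules.pullback p).obj F', p ⁻¹ᵁ U ⊓ f' ⁻¹ᵁ V') :=
    Module.compHom _ (f'.appLE V' (p ⁻¹ᵁ U ⊓ f' ⁻¹ᵁ V') inf_le_right).hom
  haveI : IsScalarTower Γ(Y', V') Γ(X', p ⁻¹ᵁ U ⊓ f' ⁻¹ᵁ V')
      Γ((Scheme.Modules.pullback p).obj F', p ⁻¹ᵁ U ⊓ f' ⁻¹ᵁ V') :=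
    IsScalarTower.of_algebraMap_smul fun _ _ => rfl
  letI modVL : Module Γ(Y, V) Γ((Scheme.Modules.pullback p).obj F, p ⁻¹ᵁ U ⊓ f' ⁻¹ᵁ V') :=
    Module.compHom _ (algebraMap Γ(Y, V) Γ(Y', V'))
  haveI : IsScalarTower Γ(Y, V) Γ(Y', V')
      Γ((Scheme.Modules.pullback p).obj F, p ⁻¹ᵁ U ⊓ f' ⁻¹ᵁ V') :=
    IsScalarTower.of_algebraMap_smul fun _ _ => rfl
  letI modVL' : Module Γ(Y, V) Γ((Scheme.Modules.pullback p).obj F', p ⁻¹ᵁ U ⊓ f' ⁻¹ᵁ V') :=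
    Module.compHom _ (algebraMap Γ(Y, V) Γ(Y', V'))
  haveI : IsScalarTower Γ(Y, V) Γ(Y', V')
      Γ((Scheme.Modules.pullback p).obj F', p ⁻¹ᵁ U ⊓ f' ⁻¹ᵁ V') :=
    IsScalarTower.of_algebraMap_smul fun _ _ => rfl
  obtain ⟨jF, hjF, hjFm⟩ := exists_isBaseChange_chart H F hV hU eUV hV' eV'
  obtain ⟨jF', hjF', hjF'm⟩ := exists_isBaseChange_chart H F' hV hU eUV hV' eV'
  let u'B : Γ((Scheme.Modules.pullback p).obj F', p ⁻¹ᵁ U ⊓ f' ⁻¹ᵁ V') →ₗ[Γ(X', p ⁻¹ᵁ U ⊓ f' ⁻¹ᵁ V')]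
      Γ((Scheme.Modules.pullback p).obj F, p ⁻¹ᵁ U ⊓ f' ⁻¹ᵁ V') :=
    { toFun := fun m => ((Scheme.Modules.pullback p).map h).app (p ⁻¹ᵁ U ⊓ f' ⁻¹ᵁ V') m
      map_add' := fun a b => map_add _ a b
      map_smul' := fun r m => Scheme.Modules.Hom.app_smul _ r m }
  have hct := Groth.Agent.Helper7.CT0.forall_mem_iff f' ((Scheme.Modules.pullback p).obj F)
    ((Scheme.Modules.pullback p).obj F') ((Scheme.Modules.pullback p).map h) hU' hV' inf_le_right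
    rfl u'B (fun _ => rfl)
  rw [hct]
  let v : Γ((Scheme.Modules.pullback p).obj F', p ⁻¹ᵁ U ⊓ f' ⁻¹ᵁ V') →ₗ[Γ(Y', V')]
      Γ((Scheme.Modules.pullback p).obj F, p ⁻¹ᵁ U ⊓ f' ⁻¹ᵁ V') := u'B.restrictScalars Γ(Y', V')
  have hv : ∀ m, v (jF' m) = jF (u₀ m) := by
    intro m
    change ((Scheme.Modules.pullback p).map h).app (p ⁻¹ᵁ U ⊓ f' ⁻¹ᵁ V') (jF' m) = jF (u₀ m)
    rw [hjF'm, hjFm, map_app_pullRes, hu₀]
  have hw : ∀ m, (u₀.baseChange Γ(Y', V')) ((TensorProduct.mk Γ(Y, V) Γ(Y', V') Γ(F', U) 1) m) =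
      (TensorProduct.mk Γ(Y, V) Γ(Y', V') Γ(F, U) 1) (u₀ m) := by
    intro m
    change (u₀.baseChange Γ(Y', V')) ((1 : Γ(Y', V')) ⊗ₜ[Γ(Y, V)] m) = _
    rw [LinearMap.baseChange_tmul]
    rfl
  have h1 : Injective v ↔ Injective (u₀.baseChange Γ(Y', V')) :=
    injective_iff_of_isBaseChange u₀ v (u₀.baseChange Γ(Y', V')) jF' jF
      (TensorProduct.mk Γ(Y, V) Γ(Y', V') Γ(F', U) 1) (TensorProduct.mk Γ(Y, V) Γ(Y', V') Γ(F, U) 1)
      hjF' hjF (TensorProduct.isBaseChange _ _ _) (TensorProduct.isBaseChange _ _ _) hv hw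
  have h2 : Module.Flat Γ(Y', V')
      (Γ((Scheme.Modules.pullback p).obj F, p ⁻¹ᵁ U ⊓ f' ⁻¹ᵁ V') ⧸ LinearMap.range v) ↔
      Module.Flat Γ(Y', V') ((Γ(Y', V') ⊗[Γ(Y, V)] Γ(F, U)) ⧸
          LinearMap.range (u₀.baseChange Γ(Y', V'))) :=
    flat_coker_iff_of_isBaseChange u₀ v (u₀.baseChange Γ(Y', V')) jF' jF
      (TensorProduct.mk Γ(Y, V) Γ(Y', V') Γ(F', U) 1) (TensorProduct.mk Γ(Y, V) Γ(Y', V') Γ(F, U) 1)
      hjF' hjF (TensorProduct.isBaseChange _ _ _) (TensorProduct.isBaseChange _ _ _) hv hw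
  have hrange : LinearMap.range v = (LinearMap.range u'B).restrictScalars Γ(Y', V') := by
    ext x
    rfl
  let e₀ : (Γ((Scheme.Modules.pullback p).obj F, p ⁻¹ᵁ U ⊓ f' ⁻¹ᵁ V') ⧸ LinearMap.range v)
      ≃ₗ[Γ(Y', V')]
      (Γ((Scheme.Modules.pullback p).obj F, p ⁻¹ᵁ U ⊓ f' ⁻¹ᵁ V') ⧸ LinearMap.range u'B) :=
    (Submodule.quotEquivOfEq _ _ hrange) ≪≫ₗ
      (Submodule.Quotient.restrictScalarsEquiv Γ(Y', V') (LinearMap.range u'B))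
  rw [← h2, ← h1, Module.Flat.equiv_iff e₀]
  rfl

include H hV hU hV' in
set_option maxHeartbeats 1600000 in
/-- **Chart dictionary**: over the chart `p⁻¹U ∩ f'⁻¹V'` of a base change square, injectivity of
the stalk maps of `p^* h` with `f'`-flat cokernel is injectivity with flat cokernel of the base
change of the map on sections. -/
theorem chart_iff [instA : Algebra Γ(Y, V) Γ(Y', V')]
    (halg : algebraMap Γ(Y, V) Γ(Y', V') = (q.appLE V V' eV').hom)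
    [instF : Module Γ(Y, V) Γ(F, U)]
    (hsF : ∀ (r : Γ(Y, V)) (m : Γ(F, U)), r • m = (f.appLE V U eUV).hom r • m)
    [instF' : Module Γ(Y, V) Γ(F', U)]
    (hsF' : ∀ (r : Γ(Y, V)) (m : Γ(F', U)), r • m = (f.appLE V U eUV).hom r • m)
    (u₀ : Γ(F', U) →ₗ[Γ(Y, V)] Γ(F, U)) (hu₀ : ∀ m, u₀ m = h.app U m) :
    (∀ x' ∈ p ⁻¹ᵁ U ⊓ f' ⁻¹ᵁ V',
        Injective (stalkMap ((Scheme.Modules.pullback p).map h) x') ∧
        FlatMod.IsFlatOverAt f' (cokernel ((Scheme.Modules.pullback p).map h)) x') ↔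
      (Injective (u₀.baseChange Γ(Y', V')) ∧
        Module.Flat Γ(Y', V') ((Γ(Y', V') ⊗[Γ(Y, V)] Γ(F, U)) ⧸
          LinearMap.range (u₀.baseChange Γ(Y', V')))) := by
  obtain rfl : instA = (q.appLE V V' eV').hom.toAlgebra :=
    Algebra.algebra_ext _ _ (fun r => by rw [halg]; rfl)
  obtain rfl : instF = Module.compHom _ (f.appLE V U eUV).hom :=
    Module.ext' _ _ (fun r m => hsF r m)
  obtain rfl : instF' = Module.compHom _ (f.appLE V U eUV).hom :=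
    Module.ext' _ _ (fun r m => hsF' r m)
  exact chart_iff_aux H F' F h hV hU eUV hV' eV' u₀ hu₀

end Groth.Agent.Helper7.CTD
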