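import Mathlib
import Groth.Agent.S3866

/-!
# Helper7: a Noetherian semilocal ring complete for its Jacobson radical: localizations at maximal
ideals are complete, with maximal ideal generated by the radical
-/

universe u
namespace Groth.Agent.Helper7.SemiLocCompl
open IsLocalRing Polynomial

set_option linter.style.haveILetI false
set_option linter.unusedSectionVars false

variable (R : Type u) [CommRing R]

theorem mem_jacobson_bot_iff (x : R) :
    x ∈ (⊥ : Ideal R).jacobson ↔ ∀ M : Ideal R, M.IsMaximal → x ∈ M := by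
  rw [Ideal.jacobson, Ideal.mem_sInf]
  constructor
  · intro h M hM
    exact h ⟨bot_le, hM⟩
  · rintro h M ⟨-, hM⟩
    exact h M hM

variable [Finite (MaximalSpectrum R)] [IsAdicComplete (⊥ : Ideal R).jacobson R]

theorem exists_idempotent (N : Ideal R) [hN : N.IsMaximal] :
    ∃ e : R, IsIdempotentElem e ∧ e ∉ N ∧ ∀ M : Ideal R, M.IsMaximal → M ≠ N → e ∈ M := by
  classical
  letI : Fintype (MaximalSpectrum R) := Fintype.ofFinite _
  let n : MaximalSpectrum R := ⟨N, hN⟩
  let s : Finset (MaximalSpectrum R) := Finset.univ.filter (fun M => M ≠ n)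
  have hcop : IsCoprime N (⨅ j ∈ s, (j : MaximalSpectrum R).asIdeal) := by
    apply Ideal.isCoprime_biInf
    intro j hj
    haveI := j.isMaximal
    apply Ideal.isCoprime_of_isMaximal
    intro h
    have hj' : j ≠ n := (Finset.mem_filter.mp hj).2
    exact hj' (MaximalSpectrum.ext h.symm)
  obtain ⟨i, hi, a₀, ha₀, hia⟩ := Ideal.isCoprime_iff_exists.mp hcop
  have ha₀M : ∀ M : Ideal R, M.IsMaximal → M ≠ N → a₀ ∈ M := by
    intro M hM hne
    have h1 := (Ideal.mem_iInf.mp ha₀) ⟨M, hM⟩
    have h2 : (⟨M, hM⟩ : MaximalSpectrum R) ∈ s := by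
      refine Finset.mem_filter.mpr ⟨Finset.mem_univ _, ?_⟩
      intro h
      exact hne (congrArg MaximalSpectrum.asIdeal h)
    exact (Ideal.mem_iInf.mp h1) h2
  set Jc := (⊥ : Ideal R).jacobson with hJc
  let f : R[X] := X ^ 2 - X
  have hfm : f.Monic := by
    apply Polynomial.monic_X_pow_sub
    exact lt_of_le_of_lt Polynomial.degree_X_le (by norm_num)
  have hev : f.eval a₀ = a₀ ^ 2 - a₀ := by simp [f]
  have hder : f.derivative.eval a₀ = 2 * a₀ - 1 := by
    simp [f]
    ring
  have h1 : f.eval a₀ ∈ Jc := by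
    rw [hev, hJc, mem_jacobson_bot_iff]
    intro M hM
    have h2 : a₀ ^ 2 - a₀ = -(a₀ * i) := by
      have : i = 1 - a₀ := by rw [← hia]; ring
      rw [this]; ring
    rw [h2]
    by_cases hMN : M = N
    · rw [hMN]
      exact N.neg_mem (N.mul_mem_left _ hi)
    · exact M.neg_mem (M.mul_mem_right _ (ha₀M M hM hMN))
  have h2 : IsUnit (Ideal.Quotient.mk Jc (f.derivative.eval a₀)) := by
    rw [hder]
    apply IsUnit.of_mul_eq_one (Ideal.Quotient.mk Jc (2 * a₀ - 1))
    rw [← map_mul, ← map_one (Ideal.Quotient.mk Jc), Ideal.Quotient.eq]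
    have h3 : (2 * a₀ - 1) * (2 * a₀ - 1) - 1 = 4 * (a₀ ^ 2 - a₀) := by ring
    rw [h3]
    rw [hev] at h1
    exact Jc.mul_mem_left _ h1
  obtain ⟨e, he, hea⟩ := HenselianRing.is_henselian (I := Jc) f hfm a₀ h1 h2
  have hidem : IsIdempotentElem e := by
    have h3 : e ^ 2 - e = 0 := by
      have := he
      simpa [f, Polynomial.IsRoot] using this
    show e * e = e
    rw [← sub_eq_zero, ← h3]; ring
  have hjM : ∀ M : Ideal R, M.IsMaximal → e - a₀ ∈ M := fun M hM =>
    (mem_jacobson_bot_iff R _).mp hea M hM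
  refine ⟨e, hidem, ?_, ?_⟩
  · intro heN
    have h3 : (1 : R) = e - (e - a₀) + i := by rw [← hia]; ring
    have h4 : (1 : R) ∈ N := by
      rw [h3]
      exact N.add_mem (N.sub_mem heN (hjM N hN)) hi
    exact hN.ne_top ((Ideal.eq_top_iff_one _).mpr h4)
  · intro M hM hne
    have h3 : e = (e - a₀) + a₀ := by ring
    rw [h3]
    exact M.add_mem (hjM M hM) (ha₀M M hM hne)

theorem localization_props [IsNoetherianRing R] (N : Ideal R) [hN : N.IsMaximal] :
    IsAdicComplete (maximalIdeal (Localization.AtPrime N)) (Localization.AtPrime N) ∧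
      maximalIdeal (Localization.AtPrime N) =
        ((⊥ : Ideal R).jacobson).map (algebraMap R (Localization.AtPrime N)) := by
  obtain ⟨e, hidem, heN, heM⟩ := exists_idempotent R N
  set Jc := (⊥ : Ideal R).jacobson with hJc
  let I : Ideal R := Ideal.span {1 - e}
  let Q := R ⧸ I
  have h1e : 1 - e ∈ N := by
    have h0 : e * (1 - e) = 0 := by
      have : e * (1 - e) = e - e * e := by ring
      rw [this, hidem.eq, sub_self]
    have h1 : e * (1 - e) ∈ N := by rw [h0]; exact N.zero_mem
    rcases hN.isPrime.mem_or_mem h1 with h | h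
    · exact absurd h heN
    · exact h
  have hIN : I ≤ N := (Ideal.span_singleton_le_iff_mem N).mpr h1e
  -- maximal ideals of `Q` pull back to `N`
  have hpull : ∀ M' : Ideal Q, M'.IsMaximal → M'.comap (Ideal.Quotient.mk I) = N := by
    intro M' hM'
    have hmax : (M'.comap (Ideal.Quotient.mk I)).IsMaximal :=
      Ideal.comap_isMaximal_of_surjective _ Ideal.Quotient.mk_surjective
    by_contra hne
    have h1 : e ∈ M'.comap (Ideal.Quotient.mk I) := heM _ hmax hne
    have h2 : (1 - e) ∈ M'.comap (Ideal.Quotient.mk I) := by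
      rw [Ideal.mem_comap]
      have : Ideal.Quotient.mk I (1 - e) = 0 :=
        Ideal.Quotient.eq_zero_iff_mem.mpr (Ideal.subset_span rfl)
      rw [this]; exact Ideal.zero_mem _
    have h3 : (1 : R) ∈ M'.comap (Ideal.Quotient.mk I) := by
      have := (M'.comap (Ideal.Quotient.mk I)).add_mem h2 h1
      simpa using this
    exact hmax.ne_top ((Ideal.eq_top_iff_one _).mpr h3)
  haveI : Nontrivial Q := Ideal.Quotient.nontrivial_iff.mpr
    (fun h => hN.ne_top (top_le_iff.mp (h ▸ hIN)))
  haveI : IsLocalRing Q := by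
    obtain ⟨M₀, hM₀⟩ := Ideal.exists_maximal Q
    refine IsLocalRing.of_unique_max_ideal ⟨M₀, hM₀, fun M' hM' => ?_⟩
    have h1 := hpull M' hM'
    have h2 := hpull M₀ hM₀
    rw [← Ideal.map_comap_of_surjective _ Ideal.Quotient.mk_surjective M',
      ← Ideal.map_comap_of_surjective _ Ideal.Quotient.mk_surjective M₀, h1, h2]
  have hcomap : (maximalIdeal Q).comap (Ideal.Quotient.mk I) = N :=
    hpull _ (maximalIdeal.isMaximal Q)
  haveI : IsLocalization.AtPrime Q N := by
    refine ⟨?_, ?_, ?_⟩
    · rintro ⟨y, hy⟩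
      show IsUnit (Ideal.Quotient.mk I y)
      by_contra hnu
      have : Ideal.Quotient.mk I y ∈ maximalIdeal Q := (IsLocalRing.mem_maximalIdeal _).mpr hnu
      have : y ∈ N := by rw [← hcomap]; exact this
      exact hy this
    · intro z
      obtain ⟨x, rfl⟩ := Ideal.Quotient.mk_surjective z
      exact ⟨(x, 1), by simp; rfl⟩
    · intro x y hxy
      have hxy' : Ideal.Quotient.mk I x = Ideal.Quotient.mk I y := hxy
      rw [Ideal.Quotient.eq, Ideal.mem_span_singleton'] at hxy'
      obtain ⟨c, hc⟩ := hxy'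
      refine ⟨⟨e, heN⟩, ?_⟩
      have h0 : e * (x - y) = 0 := by
        rw [← hc]
        have : e * (c * (1 - e)) = c * (e - e * e) := by ring
        rw [this, hidem.eq, sub_self, mul_zero]
      show e * x = e * y
      rw [← sub_eq_zero, ← mul_sub]; exact h0
  -- completeness of `Q`
  haveI : Module.Finite R Q := Module.Finite.of_surjective (Ideal.Quotient.mkₐ R I).toLinearMap
    Ideal.Quotient.mk_surjective
  have hc0 : IsAdicComplete Jc Q := Groth.Agent.S3866.result R Jc Q
  have hc1 : IsAdicComplete (Jc.map (algebraMap R Q)) Q :=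
    (IsAdicComplete.map_algebraMap_iff Jc Q).mpr hc0
  have hmaxQ : maximalIdeal Q = Jc.map (algebraMap R Q) := by
    apply le_antisymm
    · intro x hx
      obtain ⟨r, rfl⟩ := Ideal.Quotient.mk_surjective x
      have hr : r ∈ N := by rw [← hcomap]; exact hx
      have h1 : Ideal.Quotient.mk I r = Ideal.Quotient.mk I (r * e) := by
        rw [Ideal.Quotient.eq, Ideal.mem_span_singleton']
        exact ⟨r, by ring⟩
      rw [h1]
      apply Ideal.mem_map_of_mem
      rw [hJc, mem_jacobson_bot_iff]
      intro M hM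
      by_cases hMN : M = N
      · rw [hMN]; exact N.mul_mem_right _ hr
      · exact M.mul_mem_left _ (heM M hM hMN)
    · rw [Ideal.map_le_iff_le_comap]
      intro x hx
      show Ideal.Quotient.mk I x ∈ maximalIdeal Q
      have : x ∈ N := (mem_jacobson_bot_iff R x).mp hx N hN
      rw [← hcomap] at this
      exact this
  let eq : Localization.AtPrime N ≃ₐ[R] Q :=
    IsLocalization.algEquiv N.primeCompl (Localization.AtPrime N) Q
  have hmap : (maximalIdeal Q).map eq.symm.toRingEquiv = maximalIdeal (Localization.AtPrime N) := by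
    have h1 : (maximalIdeal Q).map eq.symm.toRingEquiv = (maximalIdeal Q).comap eq.toRingEquiv :=
      Ideal.map_symm _
    rw [h1]
    haveI : ((maximalIdeal Q).comap eq.toRingEquiv).IsMaximal :=
      Ideal.comap_isMaximal_of_surjective _ eq.surjective
    exact IsLocalRing.eq_maximalIdeal inferInstance
  constructor
  · rw [← hmap]
    rw [← hmaxQ] at hc1
    exact (IsAdicComplete.congr_ringEquiv (maximalIdeal Q) eq.symm.toRingEquiv).mpr hc1
  · rw [← hmap, hmaxQ]
    show Ideal.map (eq.symm.toRingEquiv : Q →+* Localization.AtPrime N) _ = _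
    rw [Ideal.map_map]
    congr 1
    ext r
    exact eq.symm.commutes r


end Groth.Agent.Helper7.SemiLocCompl
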