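import Mathlib
import Groth.Agent.Lib.Helper7.CTens
import Groth.Agent.Lib.Helper7.SemiLocCompl
import Groth.Agent.Lib.Helper14.RegHomTFAE

/-!
# Helper7: the completed tensor product of a complete local algebra with a field extension (S5993)
-/

universe u
namespace Groth.Agent.Helper7.CTensField
open TensorProduct IsLocalRing

set_option linter.style.haveILetI false
set_option linter.unusedSectionVars false

section Gen

theorem exists_pow_jacobson_le (R : Type*) [CommRing R] (J : Ideal R)
    (hJ : J ≤ (⊥ : Ideal R).jacobson) [IsArtinianRing (R ⧸ J)] :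
    ∃ n : ℕ, (⊥ : Ideal R).jacobson ^ n ≤ J := by
  obtain ⟨N, hN⟩ := IsArtinianRing.isNilpotent_jacobson_bot (R := R ⧸ J)
  refine ⟨N, ?_⟩
  have hjac : J.jacobson = (⊥ : Ideal R).jacobson := by
    apply le_antisymm
    · apply le_sInf
      rintro M ⟨-, hM⟩
      apply sInf_le
      exact ⟨hJ.trans (sInf_le ⟨bot_le, hM⟩), hM⟩
    · exact Ideal.jacobson_mono bot_le
  have hmap : ((⊥ : Ideal R).jacobson).map (Ideal.Quotient.mk J) =
      (⊥ : Ideal (R ⧸ J)).jacobson := by
    rw [← hjac, Ideal.map_jacobson_of_surjective Ideal.Quotient.mk_surjective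
      (by rw [Ideal.mk_ker]), Ideal.map_quotient_self]
  have h1 : ((⊥ : Ideal R).jacobson ^ N).map (Ideal.Quotient.mk J) = ⊥ := by
    rw [Ideal.map_pow, hmap]
    exact hN
  have h2 := (Ideal.map_eq_bot_iff_le_ker _).mp h1
  rw [Ideal.mk_ker] at h2
  exact h2

end Gen

attribute [local instance] Algebra.TensorProduct.rightAlgebra

section Main

variable (k A k' : Type u) [Field k] [CommRing A] [IsNoetherianRing A] [IsLocalRing A] [Algebra k A]
  [Module.Finite k (ResidueField A)] [Field k'] [Algebra k k']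
  (I : Ideal (A ⊗[k] k')) (hI : I = (maximalIdeal A).map (algebraMap A (A ⊗[k] k')))

instance : IsAdicComplete (maximalIdeal k') k' := by
  rw [IsLocalRing.maximalIdeal_eq_bot]; infer_instance

include hI in
theorem hI' : I = (maximalIdeal A).map (algebraMap A (A ⊗[k] k')) ⊔
    (maximalIdeal k').map (algebraMap k' (A ⊗[k] k')) := by
  rw [IsLocalRing.maximalIdeal_eq_bot (R := k'), Ideal.map_bot, sup_bot_eq, hI]

include hI in
theorem map_eq : I.map (algebraMap (A ⊗[k] k') (AdicCompletion I (A ⊗[k] k'))) =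
    (maximalIdeal A).map (algebraMap A (AdicCompletion I (A ⊗[k] k'))) := by
  rw [hI, Ideal.map_map, ← IsScalarTower.algebraMap_eq]

include hI in
theorem isNoetherianRing : IsNoetherianRing (AdicCompletion I (A ⊗[k] k')) :=
  Groth.Agent.Helper7.CTens.isNoetherianRing_completion A k' (A ⊗[k] k')
    (Groth.Agent.Helper7.CTens.hfin k A k') I (hI' k A k' I hI)

include hI in
theorem finite_maximalSpectrum : Finite (MaximalSpectrum (AdicCompletion I (A ⊗[k] k'))) :=
  Groth.Agent.Helper7.CTens.finite_maximalSpectrum A k' (A ⊗[k] k')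
    (Groth.Agent.Helper7.CTens.hfin k A k') I (hI' k A k' I hI)

include hI in
theorem isAdicComplete_map :
    IsAdicComplete ((maximalIdeal A).map (algebraMap A (AdicCompletion I (A ⊗[k] k'))))
      (AdicCompletion I (A ⊗[k] k')) := by
  have hfg := Groth.Agent.Helper7.CTens.fg A k' (A ⊗[k] k') I (hI' k A k' I hI)
  rw [← map_eq k A k' I hI]
  exact AdicCompletion.isAdicComplete_self I hfg

include hI in
theorem isArtinianRing_quot : IsArtinianRing (AdicCompletion I (A ⊗[k] k') ⧸
    (maximalIdeal A).map (algebraMap A (AdicCompletion I (A ⊗[k] k')))) := by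
  haveI := Groth.Agent.Helper7.CTens.finite_quot_bb_one A k' (A ⊗[k] k')
    (Groth.Agent.Helper7.CTens.hfin k A k') I (hI' k A k' I hI)
  have h1 : Groth.Agent.Helper7.CTens.bb A (A ⊗[k] k') I 1 =
      (maximalIdeal A).map (algebraMap A (AdicCompletion I (A ⊗[k] k'))) := by
    show (maximalIdeal A ^ 1).map _ = _
    rw [pow_one]
  haveI : IsArtinianRing (AdicCompletion I (A ⊗[k] k') ⧸
      Groth.Agent.Helper7.CTens.bb A (A ⊗[k] k') I 1) := IsArtinianRing.of_finite k' _
  exact (Ideal.quotEquivOfEq h1).isArtinianRing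

include hI in
theorem map_le_jacobson : (maximalIdeal A).map (algebraMap A (AdicCompletion I (A ⊗[k] k'))) ≤
    (⊥ : Ideal (AdicCompletion I (A ⊗[k] k'))).jacobson :=
  Groth.Agent.Helper7.CTens.map_le_jacobson A k' (A ⊗[k] k') I (hI' k A k' I hI)

include hI in
theorem exists_pow_le : ∃ n : ℕ, (⊥ : Ideal (AdicCompletion I (A ⊗[k] k'))).jacobson ^ n ≤
    (maximalIdeal A).map (algebraMap A (AdicCompletion I (A ⊗[k] k'))) := by
  haveI := isArtinianRing_quot k A k' I hI
  exact exists_pow_jacobson_le _ _ (map_le_jacobson k A k' I hI)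

include hI in
theorem isAdicComplete_jacobson :
    IsAdicComplete (⊥ : Ideal (AdicCompletion I (A ⊗[k] k'))).jacobson
      (AdicCompletion I (A ⊗[k] k')) := by
  haveI := isAdicComplete_map k A k' I hI
  obtain ⟨n, hn⟩ := exists_pow_le k A k' I hI
  exact Groth.Agent.Helper5.FinComplete.isAdicComplete_of_pow_le _ _ n
    (map_le_jacobson k A k' I hI) hn

include hI in
theorem localization_props (M : Ideal (AdicCompletion I (A ⊗[k] k'))) [M.IsMaximal] :
    IsAdicComplete (maximalIdeal (Localization.AtPrime M)) (Localization.AtPrime M) ∧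
      Module.FaithfullyFlat A (Localization.AtPrime M) ∧
      ringKrullDim (Localization.AtPrime M) = ringKrullDim A ∧
      Module.Finite k' (AdicCompletion I (A ⊗[k] k') ⧸ M) := by
  set C := AdicCompletion I (A ⊗[k] k') with hC
  haveI := isNoetherianRing k A k' I hI
  haveI := finite_maximalSpectrum k A k' I hI
  haveI := isAdicComplete_jacobson k A k' I hI
  obtain ⟨hcompl, hmax⟩ := Groth.Agent.Helper7.SemiLocCompl.localization_props C M
  set L := Localization.AtPrime M with hL
  set J : Ideal C := (maximalIdeal A).map (algebraMap A C) with hJ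
  have hJM : J ≤ M := (map_le_jacobson k A k' I hI).trans (sInf_le ⟨bot_le, inferInstance⟩)
  -- flatness
  haveI : Module.Flat A C := Groth.Agent.Helper7.CTens.flat_left A k' (A ⊗[k] k')
    (Groth.Agent.Helper7.CTens.hfin k A k') I (hI' k A k' I hI)
  haveI : Module.Flat A L := Module.Flat.trans A C L
  have hmapL : (maximalIdeal A).map (algebraMap A L) ≤ maximalIdeal L := by
    rw [IsScalarTower.algebraMap_eq A C L, ← Ideal.map_map, Ideal.map_le_iff_le_comap]
    intro x hx
    rw [Ideal.mem_comap, IsLocalization.AtPrime.to_map_mem_maximal_iff L M]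
    exact hJM hx
  haveI : IsLocalHom (algebraMap A L) := by
    refine ⟨fun a ha => ?_⟩
    by_contra hnu
    have h1 : a ∈ maximalIdeal A := (IsLocalRing.mem_maximalIdeal a).mpr hnu
    have h2 : algebraMap A L a ∈ maximalIdeal L := hmapL (Ideal.mem_map_of_mem _ h1)
    exact (IsLocalRing.mem_maximalIdeal _).mp h2 ha
  have hff : Module.FaithfullyFlat A L := Module.FaithfullyFlat.of_flat_of_isLocalHom
  -- dimension
  haveI : Nontrivial (L ⧸ (maximalIdeal A).map (algebraMap A L)) :=
    Ideal.Quotient.nontrivial_iff.mpr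
      (fun h => (maximalIdeal.isMaximal L).ne_top (top_le_iff.mp (h ▸ hmapL)))
  haveI : IsLocalRing (L ⧸ (maximalIdeal A).map (algebraMap A L)) :=
    IsLocalRing.of_surjective' (Ideal.Quotient.mk _) Ideal.Quotient.mk_surjective
  have hdim := Groth.Agent.Helper14.RegHomTFAE.dim_eq_of_flat (A := A) (B := L)
  have hzero : ringKrullDim (L ⧸ (maximalIdeal A).map (algebraMap A L)) = 0 := by
    rw [← ringKrullDimZero_iff_ringKrullDim_eq_zero,
      Ideal.krullDimLE_zero_quotient_iff_forall_minimalPrimes_isMaximal]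
    intro P hP
    obtain ⟨n, hn⟩ := exists_pow_le k A k' I hI
    have h1 : maximalIdeal L ^ n ≤ (maximalIdeal A).map (algebraMap A L) := by
      rw [hmax, ← Ideal.map_pow, IsScalarTower.algebraMap_eq A C L, ← Ideal.map_map]
      exact Ideal.map_mono hn
    haveI := hP.1.1
    have h2 : maximalIdeal L ≤ P :=
      Ideal.IsPrime.le_of_pow_le (h1.trans hP.1.2)
    rw [← (maximalIdeal.isMaximal L).eq_of_le hP.1.1.ne_top h2]
    exact maximalIdeal.isMaximal L
  refine ⟨hcompl, hff, ?_, ?_⟩
  · rw [hdim, hzero, add_zero]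
  · exact Groth.Agent.Helper7.CTens.finite_residue A k' (A ⊗[k] k')
      (Groth.Agent.Helper7.CTens.hfin k A k') I (hI' k A k' I hI) M

end Main

theorem s5993 (k A k' : Type u) [Field k]
    [CommRing A] [IsNoetherianRing A] [IsLocalRing A] [Algebra k A]
    [Module.Finite k (IsLocalRing.ResidueField A)]
    [Field k'] [Algebra k k'] (I : Ideal (A ⊗[k] k'))
    (hI : I = (IsLocalRing.maximalIdeal A).map (algebraMap A (A ⊗[k] k'))) :
    IsNoetherianRing (AdicCompletion I (A ⊗[k] k')) ∧
      Finite (MaximalSpectrum (AdicCompletion I (A ⊗[k] k'))) ∧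
      IsAdicComplete ((IsLocalRing.maximalIdeal A).map (algebraMap A (AdicCompletion I (A ⊗[k] k'))))
        (AdicCompletion I (A ⊗[k] k')) ∧
      ∀ M : MaximalSpectrum (AdicCompletion I (A ⊗[k] k')),
        IsAdicComplete (IsLocalRing.maximalIdeal (Localization.AtPrime M.asIdeal))
            (Localization.AtPrime M.asIdeal) ∧
          Module.FaithfullyFlat A (Localization.AtPrime M.asIdeal) ∧
          ringKrullDim (Localization.AtPrime M.asIdeal) = ringKrullDim A ∧
          (((Ideal.Quotient.mk M.asIdeal).comp (algebraMap (A ⊗[k] k') (AdicCompletion I (A ⊗[k] k')))).comp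
              Algebra.TensorProduct.includeRight.toRingHom).Finite := by
  refine ⟨isNoetherianRing k A k' I hI, finite_maximalSpectrum k A k' I hI,
    isAdicComplete_map k A k' I hI, fun M => ?_⟩
  haveI := M.isMaximal
  obtain ⟨h1, h2, h3, h4⟩ := localization_props k A k' I hI M.asIdeal
  refine ⟨h1, h2, h3, ?_⟩
  have hf : ((Ideal.Quotient.mk M.asIdeal).comp
      (algebraMap (A ⊗[k] k') (AdicCompletion I (A ⊗[k] k')))).comp
      Algebra.TensorProduct.includeRight.toRingHom =
      algebraMap k' (AdicCompletion I (A ⊗[k] k') ⧸ M.asIdeal) := by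
    ext c
    show Ideal.Quotient.mk M.asIdeal (algebraMap (A ⊗[k] k') (AdicCompletion I (A ⊗[k] k'))
      ((1 : A) ⊗ₜ[k] c)) = Ideal.Quotient.mk M.asIdeal (algebraMap k' _ c)
    rw [IsScalarTower.algebraMap_apply k' (A ⊗[k] k') (AdicCompletion I (A ⊗[k] k'))]
    rfl
  rw [hf]
  exact RingHom.finite_algebraMap.mpr h4

end Groth.Agent.Helper7.CTensField
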