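import Mathlib

set_option autoImplicit false

namespace Groth.Agent.Helper7

open Polynomial TensorProduct

theorem aeval_baseChange_map {R S M : Type*} [CommRing R] [CommRing S] [Algebra R S]
    [AddCommGroup M] [Module R M] (f : Module.End R M) (p : R[X]) (h : aeval f p = 0) :
    aeval (f.baseChange S) (p.map (algebraMap R S)) = 0 := by
  have h1 : aeval (Module.End.baseChangeHom R S M f) p = 0 := by
    rw [Polynomial.aeval_algHom_apply, h, map_zero]
  rw [Polynomial.aeval_map_algebraMap]
  exact h1

/-- Coefficients of the characteristic polynomial of the base change to a field of an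
endomorphism of a finite module are integral. -/
theorem isIntegral_charpoly_baseChange_coeff (A K E : Type*) [CommRing A] [Field K] [Algebra A K]
    [AddCommGroup E] [Module A E] [Module.Finite A E] (u : E →ₗ[A] E) (i : ℕ) :
    IsIntegral A (((u.baseChange K).charpoly).coeff i) := by
  classical
  obtain ⟨P, hPm, hP⟩ := LinearMap.exists_monic_and_aeval_eq_zero A u
  set uK := u.baseChange K with huK
  have h1 : aeval uK (P.map (algebraMap A K)) = 0 := aeval_baseChange_map u P hP
  let L := AlgebraicClosure K
  set uL := uK.baseChange L with huL
  have h2 : aeval uL ((P.map (algebraMap A K)).map (algebraMap K L)) = 0 :=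
    aeval_baseChange_map uK _ h1
  rw [Polynomial.map_map, ← IsScalarTower.algebraMap_eq] at h2
  have hchar : uL.charpoly = uK.charpoly.map (algebraMap K L) := LinearMap.charpoly_baseChange uK L
  rw [← isIntegral_algebraMap_iff (FaithfulSMul.algebraMap_injective K L), ← Polynomial.coeff_map,
    ← hchar]
  apply Polynomial.isIntegral_coeff_of_factors
  · rw [(LinearMap.charpoly_monic uL).leadingCoeff]
    exact isIntegral_one
  · exact IsAlgClosed.splits _
  · intro x hx
    rw [← Module.End.hasEigenvalue_iff_isRoot_charpoly] at hx
    obtain ⟨w, hw⟩ := hx.exists_hasEigenvector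
    have h3 := Module.End.aeval_apply_of_hasEigenvector (p := P.map (algebraMap A L)) hw
    rw [h2, LinearMap.zero_apply] at h3
    have h4 : (P.map (algebraMap A L)).eval x = 0 := by
      rcases smul_eq_zero.mp h3.symm with h | h
      · exact h
      · exact absurd h hw.2
    refine ⟨P, hPm, ?_⟩
    rwa [Polynomial.eval_map] at h4

end Groth.Agent.Helper7
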