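import Mathlib
import Groth.Prelude.Def_EGA4b
import Groth.Agent.Lib.Helper26.NormInt4
import Groth.Agent.Lib.Helper26.SL3
import Groth.Agent.Lib.Helper29.NormDesc
import Groth.Agent.Lib.Helper5.CompReg

/-!
# Completion of a normal subalgebra of a finite algebra with normal completion (helper7)
-/

set_option autoImplicit false
set_option linter.unusedSectionVars false
set_option linter.style.haveILetI false
universe u
open scoped TensorProduct

namespace Groth.Agent.Helper7.ComplNormal

/-- **Lemma IC**: an element of a localization of a normal ring which is integral over the ring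
comes from the ring. -/
theorem mem_range_of_isIntegral_of_isNormalRing {R : Type u} [CommRing R]
    (hR : EGA4.IsNormalRing R) (M : Submonoid R) (T : Type u) [CommRing T] [Algebra R T]
    [IsLocalization M T] (y : T) (hy : IsIntegral R y) : y ∈ (algebraMap R T).range := by
  classical
  -- conductor
  let c : Ideal R :=
    { carrier := {r | algebraMap R T r * y ∈ (algebraMap R T).range}
      add_mem' := by
        intro r r' hr hr'
        simp only [Set.mem_ofPred_eq] at hr hr' ⊢
        rw [map_add, add_mul]
        exact Subring.add_mem _ hr hr'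
      zero_mem' := by
        simp only [Set.mem_ofPred_eq]
        rw [map_zero, zero_mul]
        exact Subring.zero_mem _
      smul_mem' := by
        intro r r' hr'
        simp only [Set.mem_ofPred_eq, smul_eq_mul] at hr' ⊢
        rw [map_mul, mul_assoc]
        exact Subring.mul_mem _ ⟨r, rfl⟩ hr' }
  by_cases h1 : (1 : R) ∈ c
  · have : algebraMap R T 1 * y ∈ (algebraMap R T).range := h1
    rwa [map_one, one_mul] at this
  exfalso
  have hne : c ≠ ⊤ := fun h => h1 (h ▸ Submodule.mem_top)
  obtain ⟨P, hPmax, hcP⟩ := Ideal.exists_le_maximal c hne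
  haveI hPp : P.IsPrime := hPmax.isPrime
  obtain ⟨hdom, hic⟩ := hR P
  let L := Localization.AtPrime P
  let F := FractionRing L
  -- it suffices to find `v ∉ P` in the conductor
  suffices h : ∃ v : R, v ∉ P ∧ algebraMap R T v * y ∈ (algebraMap R T).range by
    obtain ⟨v, hvP, hv⟩ := h
    exact hvP (hcP hv)
  let g : R →+* F := (algebraMap L F).comp (algebraMap R L)
  by_cases hM : ∃ m ∈ M, algebraMap R L m = 0
  · obtain ⟨m, hm, hm0⟩ := hM
    obtain ⟨u, hu⟩ := (IsLocalization.map_eq_zero_iff P.primeCompl L m).mp hm0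
    refine ⟨u, u.2, ?_⟩
    have hmu : IsUnit (algebraMap R T m) := IsLocalization.map_units T ⟨m, hm⟩
    have : algebraMap R T u = 0 := by
      have h2 : algebraMap R T u * algebraMap R T m = 0 := by rw [← map_mul, hu, map_zero]
      exact (hmu.mul_left_eq_zero).mp h2
    rw [this, zero_mul]
    exact Subring.zero_mem _
  · push Not at hM
    have hgunit : ∀ m : M, IsUnit (g m) := by
      intro m
      apply IsUnit.mk0
      intro h0
      apply hM m m.2
      exact (IsFractionRing.injective L F) (by rw [map_zero]; exact h0)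
    let ψ : T →+* F := IsLocalization.lift (M := M) (g := g) hgunit
    have hψalg : ∀ a : R, ψ (algebraMap R T a) = g a := fun a => IsLocalization.lift_eq _ a
    obtain ⟨p, hpm, hp0⟩ := hy
    have hψy : IsIntegral L (ψ y) := by
      refine ⟨p.map (algebraMap R L), hpm.map _, ?_⟩
      rw [Polynomial.eval₂_map]
      have hcomp : (algebraMap L F).comp (algebraMap R L) = ψ.comp (algebraMap R T) := by
        ext a
        exact (hψalg a).symm
      rw [hcomp, ← Polynomial.hom_eval₂, hp0, map_zero]
    obtain ⟨l, hl⟩ := (isIntegrallyClosed_iff F).mp hic hψy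
    obtain ⟨⟨b, t⟩, hbt⟩ := IsLocalization.surj P.primeCompl l
    simp only at hbt
    obtain ⟨⟨a, s⟩, has⟩ := IsLocalization.surj M y
    simp only at has
    set β : R := t * a - b * s with hβ
    have hgβ : g β = 0 := by
      have e1 : ψ y * g s = g a := by
        rw [← hψalg, ← hψalg, ← map_mul, has]
      have e2 : algebraMap L F l * g (t : R) = g b := by
        change algebraMap L F l * algebraMap L F (algebraMap R L t) = algebraMap L F (algebraMap R L b)
        rw [← map_mul, hbt]
      rw [hβ, map_sub, map_mul, map_mul, ← e1, ← e2, hl]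
      ring
    have hLβ : algebraMap R L β = 0 :=
      (IsFractionRing.injective L F) (by rw [map_zero]; exact hgβ)
    obtain ⟨u, hu⟩ := (IsLocalization.map_eq_zero_iff P.primeCompl L β).mp hLβ
    refine ⟨(u : R) * (t : R), ?_, ?_⟩
    · intro h
      rcases hPp.mem_or_mem h with h | h
      · exact u.2 h
      · exact t.2 h
    · refine ⟨(u : R) * b, ?_⟩
      have hsu : IsUnit (algebraMap R T s) := IsLocalization.map_units T s
      apply hsu.mul_left_injective
      simp only
      have h3 : (u : R) * ((t : R) * a) = (u : R) * (b * s) := by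
        have : (u : R) * β = 0 := hu
        rw [hβ, mul_sub, sub_eq_zero] at this
        exact this
      calc algebraMap R T ((u : R) * b) * algebraMap R T s
          = algebraMap R T ((u : R) * (b * s)) := by rw [← map_mul, mul_assoc]
        _ = algebraMap R T ((u : R) * ((t : R) * a)) := by rw [h3]
        _ = algebraMap R T ((u : R) * (t : R)) * (y * algebraMap R T s) := by
            rw [has, ← map_mul, mul_assoc]
        _ = algebraMap R T ((u : R) * (t : R)) * y * algebraMap R T s := by ring

/-- Step 4: division by a non-zero-divisor inside an integral extension of a normal ring. -/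
theorem exists_eq_mul_of_algebraMap_eq_smul {B C : Type u} [CommRing B] [CommRing C]
    [Algebra B C] [Algebra.IsIntegral B C] (hinj : Function.Injective (algebraMap B C))
    (hB : EGA4.IsNormalRing B) (s : B) (hs : s ∈ nonZeroDivisors B) (b : B) (c : C)
    (h : algebraMap B C b = s • c) : ∃ b₁ : B, b = s * b₁ := by
  let Q := FractionRing B
  let q : Q := IsLocalization.mk' Q b (⟨s, hs⟩ : nonZeroDivisors B)
  have hsq : algebraMap B Q s * q = algebraMap B Q b := by
    rw [mul_comm]
    exact IsLocalization.mk'_spec Q b (⟨s, hs⟩ : nonZeroDivisors B)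
  obtain ⟨P, hPm, hP0⟩ := Algebra.IsIntegral.isIntegral (R := B) c
  have h1 : Polynomial.eval₂ (algebraMap B C) (algebraMap B C b) (Polynomial.scaleRoots P s) = 0 := by
    rw [h, Algebra.smul_def]
    exact Polynomial.scaleRoots_eval₂_eq_zero _ hP0
  rw [Polynomial.eval₂_at_apply] at h1
  have h2 : Polynomial.eval b (Polynomial.scaleRoots P s) = 0 :=
    hinj (h1.trans (map_zero _).symm)
  have h3 : Polynomial.eval₂ (algebraMap B Q) (algebraMap B Q s * q) (Polynomial.scaleRoots P s)
      = 0 := by
    rw [hsq, Polynomial.eval₂_at_apply, h2, map_zero]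
  rw [Polynomial.scaleRoots_eval₂_mul] at h3
  have hu : IsUnit (algebraMap B Q s ^ P.natDegree) :=
    (IsLocalization.map_units Q (⟨s, hs⟩ : nonZeroDivisors B)).pow _
  have h4 : Polynomial.eval₂ (algebraMap B Q) q P = 0 := (hu.mul_right_eq_zero).mp h3
  have hq : IsIntegral B q := ⟨P, hPm, h4⟩
  obtain ⟨b₁, hb₁⟩ := mem_range_of_isIntegral_of_isNormalRing hB (nonZeroDivisors B) Q q hq
  refine ⟨b₁, ?_⟩
  apply IsFractionRing.injective B Q
  rw [map_mul, hb₁, hsq]

/-- Step 5: the flat base change of Step 4. -/
theorem exists_eq_smul_of_flat {B B' C : Type u} [CommRing B] [CommRing B'] [CommRing C]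
    [Algebra B B'] [Algebra B C] [Module.Flat B B'] [Algebra.IsIntegral B C]
    (hinj : Function.Injective (algebraMap B C))
    (hB : EGA4.IsNormalRing B) (s : B) (hs : s ∈ nonZeroDivisors B) (b' : B')
    (c' : B' ⊗[B] C) (h : algebraMap B' (B' ⊗[B] C) b' = s • c') : ∃ b₁ : B', b' = s • b₁ := by
  let f : B →ₗ[B] B := LinearMap.lsmul B B s
  let N : Submodule B C := LinearMap.range (LinearMap.lsmul B C s)
  let g : B →ₗ[B] C ⧸ N := N.mkQ ∘ₗ Algebra.linearMap B C
  have hex : Function.Exact f g := by
    intro b
    constructor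
    · intro hb
      have hbN : algebraMap B C b ∈ N := by
        have : N.mkQ (algebraMap B C b) = 0 := hb
        rwa [Submodule.mkQ_apply, Submodule.Quotient.mk_eq_zero] at this
      obtain ⟨c, hc⟩ := hbN
      obtain ⟨b₁, hb₁⟩ := exists_eq_mul_of_algebraMap_eq_smul hinj hB s hs b c hc.symm
      exact ⟨b₁, hb₁.symm⟩
    · rintro ⟨y, rfl⟩
      change N.mkQ (algebraMap B C (s • y)) = 0
      rw [Submodule.mkQ_apply, Submodule.Quotient.mk_eq_zero]
      refine ⟨algebraMap B C y, ?_⟩
      change s • algebraMap B C y = algebraMap B C (s • y)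
      rw [smul_eq_mul, map_mul, Algebra.smul_def]
  have hex' : Function.Exact (f.lTensor B') (g.lTensor B') := Module.Flat.lTensor_exact B' hex
  have hkill : ∀ c' : B' ⊗[B] C, s • (N.mkQ.lTensor B' c') = 0 := by
    intro c'
    induction c' using TensorProduct.induction_on with
    | zero => simp
    | tmul x y =>
      rw [LinearMap.lTensor_tmul, TensorProduct.smul_tmul', TensorProduct.smul_tmul,
        ← map_smul]
      have : N.mkQ (s • y) = 0 := by
        rw [Submodule.mkQ_apply, Submodule.Quotient.mk_eq_zero]
        exact ⟨y, rfl⟩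
      rw [this, TensorProduct.tmul_zero]
    | add x y hx hy => rw [map_add, smul_add, hx, hy, add_zero]
  have hz : g.lTensor B' (b' ⊗ₜ[B] (1 : B)) = 0 := by
    have e1 : g.lTensor B' (b' ⊗ₜ[B] (1 : B)) = N.mkQ.lTensor B' (b' ⊗ₜ[B] (1 : C)) := by
      rw [LinearMap.lTensor_tmul, LinearMap.lTensor_tmul]
      change b' ⊗ₜ[B] N.mkQ (algebraMap B C 1) = _
      rw [map_one]
    have e2 : (b' ⊗ₜ[B] (1 : C) : B' ⊗[B] C) = algebraMap B' (B' ⊗[B] C) b' := rfl
    rw [e1, e2, h, map_smul, hkill]
  have e3 : ∀ z : B' ⊗[B] B,
      TensorProduct.rid B B' (f.lTensor B' z) = s • TensorProduct.rid B B' z := by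
    intro z
    induction z using TensorProduct.induction_on with
    | zero => simp
    | tmul x y =>
      rw [LinearMap.lTensor_tmul]
      change TensorProduct.rid B B' (x ⊗ₜ[B] (s • y)) = _
      rw [TensorProduct.rid_tmul, TensorProduct.rid_tmul, smul_smul, smul_eq_mul]
    | add x y hx hy => rw [map_add, map_add, map_add, smul_add, hx, hy]
  obtain ⟨z, hz'⟩ := (hex' _).mp hz
  refine ⟨TensorProduct.rid B B' z, ?_⟩
  rw [← e3, hz', TensorProduct.rid_tmul, one_smul]

/-- a localization at a prime which is locally killed is a field -/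
theorem isField_localization_atPrime {R : Type u} [CommRing R] (P : Ideal R) [P.IsPrime]
    (h : ∀ z ∈ P, ∃ c, c ∉ P ∧ c * z = 0) : IsField (Localization.AtPrime P) := by
  rw [IsLocalRing.isField_iff_maximalIdeal_eq, ← Localization.AtPrime.map_eq_maximalIdeal,
    Ideal.map_eq_bot_iff_le_ker]
  intro z hz
  obtain ⟨c, hc, hcz⟩ := h z hz
  rw [RingHom.mem_ker, IsLocalization.map_eq_zero_iff P.primeCompl]
  exact ⟨⟨c, hc⟩, hcz⟩

/-- every prime of the total ring of fractions of a reduced Noetherian ring is locally killed -/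
theorem exists_notMem_mul_eq_zero (B : Type u) [CommRing B] [IsReduced B] [IsNoetherianRing B]
    (P : Ideal (FractionRing B)) [P.IsPrime] (z : FractionRing B) (hz : z ∈ P) :
    ∃ c, c ∉ P ∧ c * z = 0 := by
  let Q := FractionRing B
  let p : Ideal B := P.comap (algebraMap B Q)
  have hdisj : Disjoint (p : Set B) (nonZeroDivisors B) := by
    rw [Set.disjoint_left]
    intro b hbp hbS
    have hu : IsUnit (algebraMap B Q b) := IsLocalization.map_units Q (⟨b, hbS⟩ : nonZeroDivisors B)
    exact (Ideal.IsPrime.ne_top inferInstance) (Ideal.eq_top_of_isUnit_mem P hbp hu)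
  have hlt := Ideal.bot_lt_annihilator_of_disjoint_nonZeroDivisors hdisj
  obtain ⟨c₀, hc₀, hc₀ne⟩ := SetLike.exists_of_lt hlt
  have hc₀ne' : c₀ ≠ 0 := fun h => hc₀ne (h ▸ Submodule.zero_mem _)
  have hann : ∀ x ∈ p, c₀ * x = 0 := by
    intro x hx
    have := (Module.mem_annihilator.mp hc₀) ⟨x, hx⟩
    have h2 := congrArg Subtype.val this
    simpa using h2
  have hc₀p : c₀ ∉ p := by
    intro hc
    apply hc₀ne'
    have h2 := hann c₀ hc
    exact IsNilpotent.eq_zero ⟨2, by rw [sq]; exact h2⟩
  obtain ⟨⟨b, t⟩, hbt⟩ := IsLocalization.surj (nonZeroDivisors B) z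
  simp only at hbt
  have hbp : b ∈ p := by
    change algebraMap B Q b ∈ P
    rw [← hbt]
    exact P.mul_mem_right _ hz
  refine ⟨algebraMap B Q c₀, hc₀p, ?_⟩
  have hu : IsUnit (algebraMap B Q t) := IsLocalization.map_units Q t
  apply hu.mul_left_injective
  simp only
  rw [mul_assoc, hbt, ← map_mul, hann b hbp, map_zero, zero_mul]

/-- every module over the total ring of fractions of a reduced Noetherian ring is flat -/
theorem flat_of_fractionRing (B : Type u) [CommRing B] [IsReduced B] [IsNoetherianRing B]
    (M : Type u) [AddCommGroup M] [Module (FractionRing B) M] :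
    Module.Flat (FractionRing B) M := by
  apply Module.flat_of_localized_maximal
  intro P hP
  haveI : P.IsPrime := hP.isPrime
  have hF : IsField (Localization.AtPrime P) :=
    isField_localization_atPrime P (exists_notMem_mul_eq_zero B P)
  letI := hF.toField
  haveI : Module.Flat (Localization.AtPrime P) (LocalizedModule P.primeCompl M) := inferInstance
  exact Module.Flat.trans (FractionRing B) (Localization.AtPrime P) _

/-- an injective integral algebra over the total ring of fractions of a reduced Noetherian ring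
is faithfully flat -/
theorem faithfullyFlat_of_fractionRing (B : Type u) [CommRing B] [IsReduced B]
    [IsNoetherianRing B] (D : Type u) [CommRing D] [Algebra (FractionRing B) D]
    [Algebra.IsIntegral (FractionRing B) D]
    (hinj : Function.Injective (algebraMap (FractionRing B) D)) :
    Module.FaithfullyFlat (FractionRing B) D := by
  haveI := flat_of_fractionRing B D
  haveI : FaithfulSMul (FractionRing B) D := (faithfulSMul_iff_algebraMap_injective _ _).mpr hinj
  exact Module.FaithfullyFlat.of_comap_surjective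
    (Algebra.IsIntegral.comap_surjective (FractionRing B) D)

theorem isReduced_of_isNormalRing {R : Type u} [CommRing R] (hR : EGA4.IsNormalRing R) :
    IsReduced R := by
  refine ⟨fun x hx => ?_⟩
  apply eq_zero_of_localization
  intro J hJ
  haveI := hJ.isPrime
  haveI := (hR J).1
  exact (hx.map (algebraMap R (Localization.AtPrime J))).eq_zero

theorem isNormalRing_of_isLocalization {R : Type u} [CommRing R] (M : Submonoid R)
    (S : Type u) [CommRing S] [Algebra R S] [IsLocalization M S] (h : EGA4.IsNormalRing R) :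
    EGA4.IsNormalRing S := by
  intro p hp
  haveI : IsLocalization.AtPrime (Localization.AtPrime p) (p.comap (algebraMap R S)) :=
    IsLocalization.isLocalization_isLocalization_atPrime_isLocalization M
      (Localization.AtPrime p) p
  let e : Localization.AtPrime (p.comap (algebraMap R S)) ≃ₐ[R] Localization.AtPrime p :=
    IsLocalization.algEquiv (p.comap (algebraMap R S)).primeCompl _ _
  obtain ⟨h1, h2⟩ := h (p.comap (algebraMap R S))
  have h3 : IsDomain (Localization.AtPrime p) := e.toRingEquiv.toMulEquiv.isDomain_iff.mp h1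
  exact ⟨h3, IsIntegrallyClosed.of_equiv e.toRingEquiv⟩

section Step6

variable {B B' C : Type u} [CommRing B] [CommRing B'] [CommRing C] [Algebra B B'] [Algebra B C]

/-- the localization of `C` at the non-zero-divisors of `B` -/
abbrev LocC (B C : Type u) [CommRing B] [CommRing C] [Algebra B C] : Type u :=
  Localization (Algebra.algebraMapSubmonoid C (nonZeroDivisors B))

/-- the map `B' ⊗ C → B' ⊗ S⁻¹C` -/
noncomputable abbrev locMap (B B' C : Type u) [CommRing B] [CommRing B'] [CommRing C]
    [Algebra B B'] [Algebra B C] : B' ⊗[B] C →ₐ[B'] B' ⊗[B] LocC B C :=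
  Algebra.TensorProduct.map (AlgHom.id B' B') (IsScalarTower.toAlgHom B C (LocC B C))

/-- the algebra structure `B' ⊗ C → B' ⊗ S⁻¹C` -/
noncomputable abbrev locAlg (B B' C : Type u) [CommRing B] [CommRing B'] [CommRing C]
    [Algebra B B'] [Algebra B C] : Algebra (B' ⊗[B] C) (B' ⊗[B] LocC B C) :=
  (locMap B B' C).toRingHom.toAlgebra

theorem isScalarTower_locAlg :
    letI := locAlg B B' C
    IsScalarTower B' (B' ⊗[B] C) (B' ⊗[B] LocC B C) :=
  letI := locAlg B B' C
  IsScalarTower.of_algebraMap_eq fun x => ((locMap B B' C).commutes x).symm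

/-- `B' ⊗ S⁻¹C` is a localization of `B' ⊗ C` -/
theorem isLocalization_locAlg :
    letI := locAlg B B' C
    IsLocalization ((Algebra.algebraMapSubmonoid C (nonZeroDivisors B)).map
      (Algebra.TensorProduct.includeRight (R := B) (A := B'))) (B' ⊗[B] LocC B C) := by
  letI := locAlg B B' C
  haveI := isScalarTower_locAlg (B := B) (B' := B') (C := C)
  exact IsLocalization.tensorProduct_tensorProduct_right B B'
    (Algebra.algebraMapSubmonoid C (nonZeroDivisors B)) (LocC B C) (by
      ext c
      change locMap B B' C ((1 : B') ⊗ₜ[B] c) = (1 : B') ⊗ₜ[B] algebraMap C (LocC B C) c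
      simp [locMap])

theorem isNormalRing_tensor_locC (hC' : EGA4.IsNormalRing (B' ⊗[B] C)) :
    EGA4.IsNormalRing (B' ⊗[B] LocC B C) := by
  letI := locAlg B B' C
  haveI := isLocalization_locAlg (B := B) (B' := B') (C := C)
  exact isNormalRing_of_isLocalization
    ((Algebra.algebraMapSubmonoid C (nonZeroDivisors B)).map
      (Algebra.TensorProduct.includeRight (R := B) (A := B'))) _ hC'

theorem isNormalRing_tensor_fractionRing [IsNoetherianRing B] [Algebra.IsIntegral B C]
    (hinj : Function.Injective (algebraMap B C)) (hB : EGA4.IsNormalRing B)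
    (hC' : EGA4.IsNormalRing (B' ⊗[B] C)) : EGA4.IsNormalRing (B' ⊗[B] FractionRing B) := by
  haveI : IsReduced B := isReduced_of_isNormalRing hB
  haveI : Algebra.IsIntegral (FractionRing B) (LocC B C) :=
    ⟨isIntegral_localization (M := nonZeroDivisors B) (Rₘ := FractionRing B)
      (Sₘ := LocC B C)⟩
  have hinj' : Function.Injective (algebraMap (FractionRing B) (LocC B C)) :=
    localizationAlgebra_injective (FractionRing B) (LocC B C) hinj
  haveI : Module.FaithfullyFlat (FractionRing B) (LocC B C) :=
    faithfullyFlat_of_fractionRing B (LocC B C) hinj'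
  have hff := Groth.Agent.Helper29.NormDesc.tmap_faithfullyFlat B B' (FractionRing B) (LocC B C)
  exact Groth.Agent.Helper29.NormDesc.isNormalRing_of_ringHom _ hff
    (isNormalRing_tensor_locC hC')

theorem algebraMap_mem_nonZeroDivisors_of_flat [Module.Flat B B'] {s : B}
    (hs : s ∈ nonZeroDivisors B) : algebraMap B B' s ∈ nonZeroDivisors B' := by
  have h1 : IsSMulRegular B s := by
    rw [isSMulRegular_iff_right_eq_zero_of_smul]
    intro m hm
    rw [smul_eq_mul, mul_comm] at hm
    exact (mem_nonZeroDivisors_iff_right.mp hs) m hm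
  have h2 : IsSMulRegular B' (algebraMap B B' s) := h1.of_flat
  rw [mem_nonZeroDivisors_iff_right]
  intro m hm
  rw [mul_comm] at hm
  exact (isSMulRegular_iff_right_eq_zero_of_smul.mp h2) m hm

/-- the key assembly: `B'` is integrally closed in its total ring of fractions -/
theorem intClosedInTotal_of_flat [Module.Flat B B'] [IsNoetherianRing B]
    [Algebra.IsIntegral B C] (hinj : Function.Injective (algebraMap B C))
    (hB : EGA4.IsNormalRing B) (hC' : EGA4.IsNormalRing (B' ⊗[B] C)) :
    Groth.Agent.Lib.Helper26.NormInt2.IntClosedInTotal B' := by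
  intro x hx
  let S' : Submonoid B' := Algebra.algebraMapSubmonoid B' (nonZeroDivisors B)
  have hS' : S' ≤ nonZeroDivisors B' := by
    rintro _ ⟨s, hs, rfl⟩
    exact algebraMap_mem_nonZeroDivisors_of_flat hs
  let R₁ := B' ⊗[B] FractionRing B
  have hR₁ : EGA4.IsNormalRing R₁ := isNormalRing_tensor_fractionRing hinj hB hC'
  haveI hloc₁ : IsLocalization S' R₁ := inferInstance
  let T := FractionRing B'
  letI algT : Algebra R₁ T :=
    IsLocalization.localizationAlgebraOfSubmonoidLe R₁ T S' (nonZeroDivisors B') hS'
  haveI towT : IsScalarTower B' R₁ T :=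
    IsLocalization.localization_isScalarTower_of_submonoid_le R₁ T S' (nonZeroDivisors B') hS'
  haveI locT : IsLocalization ((nonZeroDivisors B').map (algebraMap B' R₁)) T :=
    IsLocalization.isLocalization_of_submonoid_le R₁ T S' (nonZeroDivisors B') hS'
  have hx₁ : IsIntegral R₁ x := hx.tower_top
  obtain ⟨y, hy⟩ := mem_range_of_isIntegral_of_isNormalRing hR₁
    ((nonZeroDivisors B').map (algebraMap B' R₁)) T x hx₁
  have hinjT : Function.Injective (algebraMap R₁ T) :=
    IsLocalization.injective T (M := (nonZeroDivisors B').map (algebraMap B' R₁))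
      (IsLocalization.map_nonZeroDivisors_le S' R₁)
  have hyint : IsIntegral B' y := by
    rw [← isIntegral_algHom_iff (IsScalarTower.toAlgHom B' R₁ T) hinjT]
    change IsIntegral B' (algebraMap R₁ T y)
    rw [hy]
    exact hx
  obtain ⟨⟨b', ⟨s', hs'⟩⟩, hys⟩ := IsLocalization.surj S' y
  simp only at hys
  obtain ⟨s, hs, rfl⟩ := hs'
  -- move to `D' = B' ⊗ S⁻¹C`
  let C' := B' ⊗[B] C
  let D' := B' ⊗[B] LocC B C
  letI := locAlg B B' C
  haveI := isScalarTower_locAlg (B := B) (B' := B') (C := C)
  haveI := isLocalization_locAlg (B := B) (B' := B') (C := C)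
  let τ : R₁ →ₐ[B'] D' :=
    Groth.Agent.Helper29.NormDesc.tmap B B' (FractionRing B) (LocC B C)
  have hy'int : IsIntegral C' (τ y) := (hyint.map τ).tower_top
  obtain ⟨c', hc'⟩ := mem_range_of_isIntegral_of_isNormalRing hC'
    ((Algebra.algebraMapSubmonoid C (nonZeroDivisors B)).map
      (Algebra.TensorProduct.includeRight (R := B) (A := B'))) D' (τ y) hy'int
  have hrel : algebraMap C' D' (c' * algebraMap B' C' (algebraMap B B' s)) =
      algebraMap C' D' (algebraMap B' C' b') := by
    rw [map_mul, hc', ← IsScalarTower.algebraMap_apply B' C' D',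
      ← IsScalarTower.algebraMap_apply B' C' D', ← τ.commutes, ← τ.commutes, ← map_mul]
    exact congrArg τ hys
  obtain ⟨⟨m, hm⟩, hmrel⟩ := (IsLocalization.eq_iff_exists
    ((Algebra.algebraMapSubmonoid C (nonZeroDivisors B)).map
      (Algebra.TensorProduct.includeRight (R := B) (A := B'))) D').mp hrel
  simp only at hmrel
  obtain ⟨_, ⟨s₁, hs₁, rfl⟩, rfl⟩ := hm
  have hm' : (Algebra.TensorProduct.includeRight (R := B) (A := B')) (algebraMap B C s₁) =
      algebraMap B' C' (algebraMap B B' s₁) := by
    change (1 : B') ⊗ₜ[B] algebraMap B C s₁ = algebraMap B B' s₁ ⊗ₜ[B] (1 : C)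
    rw [Algebra.algebraMap_eq_smul_one, Algebra.algebraMap_eq_smul_one, TensorProduct.smul_tmul]
  have hss : s₁ * s ∈ nonZeroDivisors B := mul_mem hs₁ hs
  have hkey : algebraMap B' C' (algebraMap B B' s₁ * b') = (s₁ * s) • c' := by
    have e1 : (s₁ * s) • c' = algebraMap B' C' (algebraMap B B' s₁) *
        (c' * algebraMap B' C' (algebraMap B B' s)) := by
      rw [← mul_assoc, mul_comm (algebraMap B' C' (algebraMap B B' s₁)) c', mul_assoc,
        ← map_mul, ← map_mul, Algebra.smul_def, mul_comm c',
        IsScalarTower.algebraMap_apply B B' C']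
    rw [e1, map_mul, ← hm']
    exact hmrel.symm
  obtain ⟨b₁, hb₁⟩ := exists_eq_smul_of_flat hinj hB (s₁ * s) hss _ c' hkey
  have hb' : b' = algebraMap B B' s * b₁ := by
    have hnz := algebraMap_mem_nonZeroDivisors_of_flat (B' := B') hs₁
    have e2 : (b' - algebraMap B B' s * b₁) * algebraMap B B' s₁ = 0 := by
      rw [sub_mul, mul_comm b', hb₁, Algebra.smul_def, map_mul]
      ring
    exact sub_eq_zero.mp ((mem_nonZeroDivisors_iff_right.mp hnz) _ e2)
  refine ⟨b₁, ?_⟩
  rw [← hy, IsScalarTower.algebraMap_apply B' R₁ T]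
  congr 1
  have hu : IsUnit (algebraMap B' R₁ (algebraMap B B' s)) :=
    IsLocalization.map_units R₁ (⟨algebraMap B B' s, ⟨s, hs, rfl⟩⟩ : S')
  apply hu.mul_left_injective
  simp only
  rw [hys, hb', map_mul, mul_comm]

/-- **Theorem T'**: a flat Noetherian algebra `B'` over a normal Noetherian ring `B` is normal as
soon as `B' ⊗ C` is normal for some injective integral `B`-algebra `C`. -/
theorem isNormalRing_of_flat_of_tensor [Module.Flat B B'] [IsNoetherianRing B]
    [IsNoetherianRing B'] [Algebra.IsIntegral B C]
    (hinj : Function.Injective (algebraMap B C))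
    (hB : EGA4.IsNormalRing B) (hC' : EGA4.IsNormalRing (B' ⊗[B] C)) : EGA4.IsNormalRing B' := by
  haveI : IsReduced (B' ⊗[B] C) := isReduced_of_isNormalRing hC'
  have hinj' : Function.Injective (algebraMap B' (B' ⊗[B] C)) :=
    Algebra.TensorProduct.includeLeft_injective (S := B') hinj
  haveI : IsReduced B' := isReduced_of_injective (algebraMap B' (B' ⊗[B] C)) hinj'
  exact Groth.Agent.Lib.Helper26.NormInt4.isNormalRing_of_intClosedInTotal
    (minimalPrimes.finite_of_isNoetherianRing B') (intClosedInTotal_of_flat hinj hB hC')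

end Step6

theorem isNormalRing_of_ringEquiv {R R' : Type u} [CommRing R] [CommRing R'] (e : R ≃+* R')
    (hR : EGA4.IsNormalRing R) : EGA4.IsNormalRing R' := by
  intro p hp
  let f : Localization.AtPrime (p.comap e) ≃+* Localization.AtPrime p :=
    IsLocalization.ringEquivOfRingEquiv
      (Localization.AtPrime (p.comap e)) (Localization.AtPrime p) e (e.map_primeCompl_comap_eq p)
  obtain ⟨h1, h2⟩ := hR (p.comap e)
  exact ⟨f.toMulEquiv.isDomain_iff.mp h1, IsIntegrallyClosed.of_equiv f⟩

/-- S1599 -/
theorem s1599 (A : Type u) [CommRing A] [IsLocalRing A] [IsNoetherianRing A]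
    (B C : Type u) [CommRing B] [CommRing C] [Algebra A B] [Algebra A C] [Algebra B C]
    [IsScalarTower A B C]
    [Module.Finite A B] [Module.Finite A C] (hinj : Function.Injective (algebraMap B C))
    (hB : EGA4.IsNormalRing B)
    (hC : EGA4.IsNormalRing
      (AdicCompletion ((IsLocalRing.maximalIdeal A).map (algebraMap A C)) C)) :
    EGA4.IsNormalRing
      (AdicCompletion ((IsLocalRing.maximalIdeal A).map (algebraMap A B)) B) := by
  set IB := (IsLocalRing.maximalIdeal A).map (algebraMap A B) with hIB
  set IC := (IsLocalRing.maximalIdeal A).map (algebraMap A C) with hIC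
  haveI : IsNoetherianRing B := IsNoetherianRing.of_finite A B
  haveI : Module.Finite B C := Module.Finite.of_restrictScalars_finite A B C
  haveI : Algebra.IsIntegral B C := inferInstance
  haveI : IsNoetherianRing (AdicCompletion IB B) :=
    Groth.Agent.Helper5.CompReg.isNoetherianRing_adicCompletion IB
  have hmap : IB.map (algebraMap B C) = IC := by
    rw [hIB, hIC, Ideal.map_map, ← IsScalarTower.algebraMap_eq]
  have h1 : IB.map (algebraMap B C) ≤ IC := hmap.le
  have h2 : IC ^ 1 ≤ IB.map (algebraMap B C) := by rw [pow_one]; exact hmap.ge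
  let e₁ : C ⊗[B] AdicCompletion IB B ≃+* AdicCompletion IC C :=
    RingEquiv.ofBijective (Groth.Agent.Helper26.SemiLoc.θθ IB IC h1).toRingHom
      (Groth.Agent.Helper26.SemiLoc.θθ_bijective IB IC h1 h2)
  let e₂ : AdicCompletion IB B ⊗[B] C ≃+* C ⊗[B] AdicCompletion IB B :=
    (Algebra.TensorProduct.comm B (AdicCompletion IB B) C).toRingEquiv
  have hC' : EGA4.IsNormalRing (AdicCompletion IB B ⊗[B] C) :=
    isNormalRing_of_ringEquiv (e₂.trans e₁).symm hC
  exact isNormalRing_of_flat_of_tensor hinj hB hC'

end Groth.Agent.Helper7.ComplNormal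

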