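import Mathlib
import Groth.Agent.Lib.Helper7.LimCons
import Groth.Agent.Lib.Helper7.LimCons2
import Groth.Agent.Lib.Helper7.LimDom
universe u
open AlgebraicGeometry CategoryTheory CategoryTheory.Limits Topology

namespace Groth.Agent.Helper7.LimBC

/-- Purely topological statement: if `p : S → T` is continuous with dense range, `S` has finitely
many irreducible components, and for every component `Y` of `S` there is an open `V` of `T` whose
preimage is the complement of the union of the other components, then `Y ↦ closure (p '' Y)` is a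
bijection between irreducible components. -/
theorem bijOn_irreducibleComponents_of_denseRange {S T : Type*} [TopologicalSpace S]
    [TopologicalSpace T] (p : S → T) (hp : Continuous p) (hd : DenseRange p)
    (hfin : (irreducibleComponents S).Finite)
    (hV : ∀ Y ∈ irreducibleComponents S, ∃ V : Set T, IsOpen V ∧
      p ⁻¹' V = (⋃₀ (irreducibleComponents S \ {Y}))ᶜ) :
    Set.BijOn (fun Y : Set S => closure (p '' Y)) (irreducibleComponents S)
      (irreducibleComponents T) := by
  have hirr : ∀ Y ∈ irreducibleComponents S, IsIrreducible (closure (p '' Y)) := fun Y hY =>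
    (hY.1.image p hp.continuousOn).closure
  -- (F2) the closures cover
  have hcov : (Set.univ : Set T) ⊆ ⋃₀ ((fun Y : Set S => closure (p '' Y)) '' irreducibleComponents S) := by
    have h1 : Set.range p = ⋃₀ ((fun Y : Set S => p '' Y) '' irreducibleComponents S) := by
      rw [← Set.image_univ, ← sUnion_irreducibleComponents, Set.sUnion_image, Set.sUnion_eq_biUnion,
        Set.image_iUnion₂]
    have h2 : closure (Set.range p) = Set.univ := hd.closure_range
    rw [← h2, h1, Set.sUnion_image, Set.sUnion_image]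
    rw [hfin.closure_biUnion]
  -- every irreducible subset lies in one of the closures
  have hsub : ∀ W : Set T, IsIrreducible W → ∃ Y ∈ irreducibleComponents S, W ⊆ closure (p '' Y) := by
    intro W hW
    have hfin' : ((fun Y : Set S => closure (p '' Y)) '' irreducibleComponents S).Finite :=
      hfin.image _
    obtain ⟨z, hz, hWz⟩ := isIrreducible_iff_sUnion_isClosed.mp hW hfin'.toFinset
      (fun z hz => by
        rw [Set.Finite.mem_toFinset] at hz
        obtain ⟨Y, -, rfl⟩ := hz
        exact isClosed_closure)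
      (by rw [Set.Finite.coe_toFinset]; exact (Set.subset_univ W).trans hcov)
    rw [Set.Finite.mem_toFinset] at hz
    obtain ⟨Y, hY, rfl⟩ := hz
    exact ⟨Y, hY, hWz⟩
  -- (F3) incomparability
  have hinc : ∀ Y ∈ irreducibleComponents S, ∀ Y' ∈ irreducibleComponents S,
      closure (p '' Y) ⊆ closure (p '' Y') → Y = Y' := by
    intro Y hY Y' hY' hsubs
    by_contra hne
    obtain ⟨V, hVo, hVeq⟩ := hV Y hY
    have h1 : p '' Y' ⊆ Vᶜ := by
      rintro _ ⟨x, hx, rfl⟩ hxV
      have : x ∈ p ⁻¹' V := hxV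
      rw [hVeq] at this
      exact this ⟨Y', ⟨hY', fun h => hne h.symm⟩, hx⟩
    have h2 : closure (p '' Y') ⊆ Vᶜ := (hVo.isClosed_compl.closure_subset_iff).2 h1
    have h3 : closure (⋃₀ (irreducibleComponents S \ {Y}))ᶜ = Y :=
      closure_sUnion_irreducibleComponents_sdiff_singleton hfin Y hY
    have hne' : ((⋃₀ (irreducibleComponents S \ {Y}))ᶜ).Nonempty := by
      by_contra hemp
      rw [Set.not_nonempty_iff_eq_empty] at hemp
      rw [hemp, closure_empty] at h3
      exact hY.1.nonempty.ne_empty h3.symm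
    obtain ⟨x, hx⟩ := hne'
    have hxY : x ∈ Y := by rw [← h3]; exact subset_closure hx
    have hxV : p x ∈ V := by
      have : x ∈ p ⁻¹' V := by rw [hVeq]; exact hx
      exact this
    exact h2 (hsubs (subset_closure ⟨x, hxY, rfl⟩)) hxV
  refine ⟨?_, ?_, ?_⟩
  · intro Y hY
    refine ⟨hirr Y hY, fun W hW hYW => ?_⟩
    obtain ⟨Y', hY', hWY'⟩ := hsub W hW
    have := hinc Y hY Y' hY' (hYW.trans hWY')
    subst this
    exact hWY'
  · intro Y hY Y' hY' heq
    exact hinc Y hY Y' hY' (le_of_eq heq)
  · intro W hW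
    obtain ⟨Y', hY', hWY'⟩ := hsub W hW.1
    exact ⟨Y', hY', Set.Subset.antisymm (hW.2 (hirr Y' hY') hWY') hWY'⟩

variable {I : Type u} [Category.{u} I] (D : I ⥤ Scheme.{u}) (c : Cone D) (hc : IsLimit c)

include hc in
/-- finitely many compact opens of the limit descend to a common stage (and all later ones) -/
theorem exists_forall_preimage_eq_of_finite [IsCofiltered I]
    [∀ {i j} (f : i ⟶ j), IsAffineHom (D.map f)] (i₀ : I) {T : Type*} [Finite T]
    (U : T → c.pt.Opens) (hU : ∀ t, IsCompact (U t : Set c.pt)) :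
    ∃ (k : I) (_ : k ⟶ i₀), ∀ (j : I) (_ : j ⟶ k) (t : T), ∃ V : (D.obj j).Opens,
      IsCompact (V : Set (D.obj j)) ∧ c.π.app j ⁻¹ᵁ V = U t := by
  choose k φ V hVc hVU using fun t => exists_preimage_eq_over D c hc i₀ (U t) (hU t)
  obtain ⟨l, fl, g, hg⟩ := IsCofiltered.wideCospan φ
  refine ⟨l, fl, fun j ψ t => ⟨D.map (ψ ≫ g t) ⁻¹ᵁ V t, ?_, ?_⟩⟩
  · exact QuasiCompact.isCompact_preimage (f := D.map (ψ ≫ g t)) _ (V t).2 (hVc t)
  · rw [← Scheme.Hom.comp_preimage, Cone.w, hVU]

include hc in
theorem eventually_bijOn_irreducibleComponents_of_isDominant [IsCofiltered I]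
    [∀ {i j} (f : i ⟶ j), IsAffineHom (D.map f)] (i₀ : I)
    [TopologicalSpace.NoetherianSpace c.pt]
    (hd : ∀ (i j : I) (φ : i ⟶ j), IsDominant (D.map φ)) :
    ∃ (i : I) (_ : i ⟶ i₀), ∀ (j : I) (_ : j ⟶ i),
      Set.BijOn (fun Y : Set c.pt => closure (⇑(c.π.app j) '' (Y : Set c.pt) : Set (D.obj j)))
        (irreducibleComponents c.pt) (irreducibleComponents (D.obj j)) := by
  have hfin : (irreducibleComponents c.pt).Finite :=
    TopologicalSpace.NoetherianSpace.finite_irreducibleComponents
  have : Finite ↥(irreducibleComponents c.pt) := hfin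
  have hopen : ∀ Y : ↥(irreducibleComponents c.pt),
      IsOpen (⋃₀ (irreducibleComponents c.pt \ {Y.1}))ᶜ := by
    intro Y
    rw [isOpen_compl_iff, Set.sUnion_eq_biUnion]
    exact hfin.sdiff.isClosed_biUnion fun W hW ↦ isClosed_of_mem_irreducibleComponents W hW.1
  obtain ⟨k, φ, hk⟩ := exists_forall_preimage_eq_of_finite D c hc i₀
    (fun Y : ↥(irreducibleComponents c.pt) => ⟨_, hopen Y⟩)
    (fun Y => TopologicalSpace.NoetherianSpace.isCompact _)
  refine ⟨k, φ, fun j ψ => ?_⟩
  have hdom := isDominant_π_of_forall D c hc j (fun j' φ' => hd j' j φ')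
  refine bijOn_irreducibleComponents_of_denseRange (c.π.app j) (c.π.app j).continuous
    (c.π.app j).denseRange hfin ?_
  intro Y hY
  obtain ⟨V, -, hV⟩ := hk j ψ ⟨Y, hY⟩
  exact ⟨V, V.2, congrArg (fun W : c.pt.Opens => (W : Set c.pt)) hV⟩

end Groth.Agent.Helper7.LimBC
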