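import Mathlib
import Groth.Agent.Lib.Helper7.LimComp
universe u
open AlgebraicGeometry CategoryTheory CategoryTheory.Limits Topology

namespace Groth.Agent.Helper7.LimBC

/-- connected components of a Noetherian space are open -/
theorem isOpen_connectedComponent_of_noetherianSpace {S : Type*} [TopologicalSpace S]
    [TopologicalSpace.NoetherianSpace S] (x : S) : IsOpen (connectedComponent x) := by
  have hfin : (irreducibleComponents S).Finite :=
    TopologicalSpace.NoetherianSpace.finite_irreducibleComponents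
  have key : (connectedComponent x)ᶜ =
      ⋃₀ {Y ∈ irreducibleComponents S | Disjoint Y (connectedComponent x)} := by
    ext y
    simp only [Set.mem_compl_iff, Set.mem_sUnion, Set.mem_ofPred_eq]
    constructor
    · intro hy
      have h1 : y ∈ ⋃₀ irreducibleComponents S := by
        rw [sUnion_irreducibleComponents]; trivial
      obtain ⟨Y, hY, hyY⟩ := h1
      refine ⟨Y, ⟨hY, ?_⟩, hyY⟩
      rw [Set.disjoint_left]
      intro z hzY hzc
      apply hy
      have hYc : IsPreconnected Y := hY.1.isPreirreducible.isPreconnected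
      have h2 : Y ⊆ connectedComponent z := hYc.subset_connectedComponent hzY
      rw [connectedComponent_eq hzc]
      exact h2 hyY
    · rintro ⟨Y, ⟨-, hdisj⟩, hyY⟩ hyc
      exact Set.disjoint_left.1 hdisj hyY hyc
  rw [← isClosed_compl_iff, key, Set.sUnion_eq_biUnion]
  exact (hfin.subset (fun Y hY => hY.1)).isClosed_biUnion
    fun W hW ↦ isClosed_of_mem_irreducibleComponents W hW.1

/-- Purely topological statement for connected components. -/
theorem bijOn_connectedComponents_of_denseRange {S T : Type*} [TopologicalSpace S]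
    [TopologicalSpace T] (p : S → T) (hp : Continuous p) (hd : DenseRange p)
    (V : Set S → Set T)
    (hVo : ∀ C ∈ Set.range (connectedComponent : S → Set S), IsOpen (V C))
    (hVp : ∀ C ∈ Set.range (connectedComponent : S → Set S), p ⁻¹' (V C) = C)
    (hcov : ∀ y : T, ∃ C ∈ Set.range (connectedComponent : S → Set S), y ∈ V C) :
    Set.BijOn (fun C : Set S => closure (p '' C)) (Set.range (connectedComponent : S → Set S))
      (Set.range (connectedComponent : T → Set T)) := by
  have hdisj : ∀ C ∈ Set.range (connectedComponent : S → Set S),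
      ∀ C' ∈ Set.range (connectedComponent : S → Set S), C ≠ C' → Disjoint (V C) (V C') := by
    rintro C ⟨x, rfl⟩ C' ⟨x', rfl⟩ hne
    rw [Set.disjoint_iff_inter_eq_empty]
    by_contra hcon
    have hne' : (V (connectedComponent x) ∩ V (connectedComponent x')).Nonempty :=
      Set.nonempty_iff_ne_empty.2 hcon
    obtain ⟨s, hs⟩ := hd.exists_mem_open
      ((hVo _ ⟨x, rfl⟩).inter (hVo _ ⟨x', rfl⟩)) hne'
    have h1 : s ∈ connectedComponent x := by
      rw [← hVp _ ⟨x, rfl⟩]; exact hs.1
    have h2 : s ∈ connectedComponent x' := by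
      rw [← hVp _ ⟨x', rfl⟩]; exact hs.2
    exact hne ((connectedComponent_eq h1).trans (connectedComponent_eq h2).symm)
  have hclosed : ∀ C ∈ Set.range (connectedComponent : S → Set S), IsClosed (V C) := by
    intro C hC
    have : (V C)ᶜ = ⋃ C' ∈ {C' ∈ Set.range (connectedComponent : S → Set S) | C' ≠ C}, V C' := by
      ext y
      simp only [Set.mem_compl_iff, Set.mem_iUnion, Set.mem_ofPred_eq, exists_prop]
      constructor
      · intro hy
        obtain ⟨C', hC', hyC'⟩ := hcov y
        refine ⟨C', ⟨hC', ?_⟩, hyC'⟩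
        rintro rfl
        exact hy hyC'
      · rintro ⟨C', ⟨hC', hne⟩, hyC'⟩ hyC
        exact Set.disjoint_left.1 (hdisj C' hC' C hC hne) hyC' hyC
    rw [← isOpen_compl_iff, this]
    exact isOpen_biUnion fun C' hC' => hVo C' hC'.1
  have hcl : ∀ C ∈ Set.range (connectedComponent : S → Set S), closure (p '' C) = V C := by
    intro C hC
    apply Set.Subset.antisymm
    · refine (hclosed C hC).closure_subset_iff.2 ?_
      rintro _ ⟨s, hs, rfl⟩
      have : s ∈ p ⁻¹' (V C) := by rw [hVp C hC]; exact hs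
      exact this
    · intro y hy
      rw [mem_closure_iff]
      intro O hO hyO
      obtain ⟨s, hs⟩ := hd.exists_mem_open (hO.inter (hVo C hC)) ⟨y, hyO, hy⟩
      refine ⟨p s, hs.1, s, ?_, rfl⟩
      rw [← hVp C hC]; exact hs.2
  have hcc : ∀ x : S, V (connectedComponent x) = connectedComponent (p x) := by
    intro x
    have hC : connectedComponent x ∈ Set.range (connectedComponent : S → Set S) := ⟨x, rfl⟩
    have hmem : p x ∈ V (connectedComponent x) := by
      have : x ∈ p ⁻¹' (V (connectedComponent x)) := by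
        rw [hVp _ hC]; exact mem_connectedComponent
      exact this
    apply Set.Subset.antisymm
    · have hconn : IsConnected (closure (p '' connectedComponent x)) :=
        (isConnected_connectedComponent.image p hp.continuousOn).closure
      rw [hcl _ hC] at hconn
      exact hconn.isPreconnected.subset_connectedComponent hmem
    · exact IsClopen.connectedComponent_subset ⟨hclosed _ hC, hVo _ hC⟩ hmem
  refine ⟨?_, ?_, ?_⟩
  · rintro C ⟨x, rfl⟩
    exact ⟨p x, by rw [← hcc x]; exact (hcl _ ⟨x, rfl⟩).symm⟩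
  · intro C hC C' hC' heq
    simp only at heq
    rw [hcl C hC, hcl C' hC'] at heq
    rw [← hVp C hC, ← hVp C' hC', heq]
  · rintro _ ⟨y, rfl⟩
    obtain ⟨C, ⟨x, rfl⟩, hyC⟩ := hcov y
    refine ⟨connectedComponent x, ⟨x, rfl⟩, ?_⟩
    simp only
    rw [hcl _ ⟨x, rfl⟩, hcc x]
    rw [hcc x] at hyC
    exact (connectedComponent_eq hyC)

theorem finite_range_connectedComponent_of_noetherianSpace {S : Type*} [TopologicalSpace S]
    [TopologicalSpace.NoetherianSpace S] :
    (Set.range (connectedComponent : S → Set S)).Finite := by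
  obtain ⟨t, ht⟩ := isCompact_univ.elim_finite_subcover (fun x : S => connectedComponent x)
    (fun x => isOpen_connectedComponent_of_noetherianSpace x)
    (fun x _ => Set.mem_iUnion.2 ⟨x, mem_connectedComponent⟩)
  refine (t.finite_toSet.image connectedComponent).subset ?_
  rintro _ ⟨y, rfl⟩
  have := ht (Set.mem_univ y)
  simp only [Set.mem_iUnion, exists_prop] at this
  obtain ⟨x, hx, hyx⟩ := this
  exact ⟨x, hx, (connectedComponent_eq hyx)⟩

variable {I : Type u} [Category.{u} I] (D : I ⥤ Scheme.{u}) (c : Cone D) (hc : IsLimit c)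

include hc in
/-- common part: eventually the connected components of the (Noetherian) limit are preimages of
opens covering the stage -/
theorem exists_forall_connectedComponent_preimage [IsCofiltered I]
    [∀ {i j} (f : i ⟶ j), IsAffineHom (D.map f)] (i₀ : I) [CompactSpace (D.obj i₀)]
    [TopologicalSpace.NoetherianSpace c.pt] :
    ∃ (i : I) (_ : i ⟶ i₀), ∀ (j : I) (_ : j ⟶ i), ∃ V : Set c.pt → Set (D.obj j),
      (∀ C ∈ Set.range (connectedComponent : c.pt → Set c.pt), IsOpen (V C)) ∧
      (∀ C ∈ Set.range (connectedComponent : c.pt → Set c.pt), c.π.app j ⁻¹' (V C) = C) ∧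
      (∀ y : D.obj j, ∃ C ∈ Set.range (connectedComponent : c.pt → Set c.pt), y ∈ V C) := by
  have hfin : (Set.range (connectedComponent : c.pt → Set c.pt)).Finite :=
    finite_range_connectedComponent_of_noetherianSpace
  have : Finite ↥(Set.range (connectedComponent : c.pt → Set c.pt)) := hfin
  have hopen : ∀ C : ↥(Set.range (connectedComponent : c.pt → Set c.pt)), IsOpen C.1 := by
    rintro ⟨_, x, rfl⟩
    exact isOpen_connectedComponent_of_noetherianSpace x
  obtain ⟨k₁, φ₁, hk₁⟩ := exists_forall_preimage_eq_of_finite D c hc i₀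
    (fun C : ↥(Set.range (connectedComponent : c.pt → Set c.pt)) => ⟨C.1, hopen C⟩)
    (fun C => TopologicalSpace.NoetherianSpace.isCompact _)
  choose V₁ hV₁c hV₁ using hk₁ k₁ (𝟙 k₁)
  have : CompactSpace (D.obj k₁) := compactSpace_of_hom D φ₁
  let F : Set (D.obj k₁) := (⋃ C, (V₁ C : Set (D.obj k₁)))ᶜ
  have hF : IsClosed F := (isOpen_iUnion fun C => (V₁ C).2).isClosed_compl
  have hV₁' : ∀ C, c.π.app k₁ ⁻¹' (V₁ C : Set (D.obj k₁)) = C.1 := fun C =>
    congrArg (fun W : c.pt.Opens => (W : Set c.pt)) (hV₁ C)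
  have hF0 : c.π.app k₁ ⁻¹' (Set.univ ∩ Set.univ ∩ F) = ∅ := by
    rw [Set.eq_empty_iff_forall_notMem]
    rintro s ⟨-, hs⟩
    apply hs
    refine Set.mem_iUnion.2 ⟨⟨connectedComponent s, s, rfl⟩, ?_⟩
    have : s ∈ c.π.app k₁ ⁻¹' (V₁ ⟨connectedComponent s, s, rfl⟩ : Set (D.obj k₁)) := by
      rw [hV₁']; exact mem_connectedComponent
    exact this
  obtain ⟨l, ψ, hl⟩ := exists_preimage_inter_eq_empty D c hc (k := k₁)
    (B := Set.univ) IsConstructible.univ Set.univ isOpen_univ isCompact_univ F hF hF0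
  refine ⟨l, ψ ≫ φ₁, fun j χ => ?_⟩
  classical
  refine ⟨fun C => if h : C ∈ Set.range (connectedComponent : c.pt → Set c.pt) then
    D.map (χ ≫ ψ) ⁻¹' (V₁ ⟨C, h⟩ : Set (D.obj k₁)) else ∅, ?_, ?_, ?_⟩
  · intro C hC
    beta_reduce
    rw [dif_pos hC]
    exact (V₁ ⟨C, hC⟩).2.preimage (D.map (χ ≫ ψ)).continuous
  · intro C hC
    beta_reduce
    rw [dif_pos hC]
    have h1 : c.π.app j ⁻¹' (D.map (χ ≫ ψ) ⁻¹' (V₁ ⟨C, hC⟩ : Set (D.obj k₁))) =
        (c.π.app j ≫ D.map (χ ≫ ψ)) ⁻¹' (V₁ ⟨C, hC⟩ : Set (D.obj k₁)) := rfl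
    rw [h1, Cone.w]
    exact hV₁' ⟨C, hC⟩
  · intro y
    have hy : D.map (χ ≫ ψ) y ∉ F := by
      intro hyF
      have : y ∈ D.map (χ ≫ ψ) ⁻¹' (Set.univ ∩ Set.univ ∩ F) := ⟨⟨trivial, trivial⟩, hyF⟩
      rw [hl j χ] at this
      exact this
    simp only [F, Set.mem_compl_iff, not_not, Set.mem_iUnion] at hy
    obtain ⟨C, hC⟩ := hy
    refine ⟨C.1, C.2, ?_⟩
    beta_reduce
    rw [dif_pos C.2]
    exact hC

include hc in
theorem eventually_bijOn_connectedComponents_of_isDominant [IsCofiltered I]
    [∀ {i j} (f : i ⟶ j), IsAffineHom (D.map f)] (i₀ : I) [CompactSpace (D.obj i₀)]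
    [TopologicalSpace.NoetherianSpace c.pt]
    (hd : ∀ (i j : I) (φ : i ⟶ j), IsDominant (D.map φ)) :
    ∃ (i : I) (_ : i ⟶ i₀), ∀ (j : I) (_ : j ⟶ i),
      Set.BijOn (fun C : Set c.pt => closure (⇑(c.π.app j) '' (C : Set c.pt) : Set (D.obj j)))
        (Set.range (connectedComponent : c.pt → Set c.pt))
        (Set.range (connectedComponent : D.obj j → Set (D.obj j))) := by
  obtain ⟨i, φ, hi⟩ := exists_forall_connectedComponent_preimage D c hc i₀
  refine ⟨i, φ, fun j ψ => ?_⟩
  obtain ⟨V, hVo, hVp, hcov⟩ := hi j ψ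
  have hdom := isDominant_π_of_forall D c hc j (fun j' φ' => hd j' j φ')
  exact bijOn_connectedComponents_of_denseRange (c.π.app j) (c.π.app j).continuous
    (c.π.app j).denseRange V hVo hVp hcov

end Groth.Agent.Helper7.LimBC
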