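import Mathlib
import Groth.Agent.Lib.Helper18.OrbMapSmooth
import Groth.Agent.Lib.Helper4.GrpConn
import Groth.Agent.Lib.Helper18.CurveH0
import Groth.Agent.Lib.Helper7.LimComp2

/-!
# A group acting transitively with connected stabilizer on a connected smooth scheme is connected
(helper7)
-/

set_option autoImplicit false
set_option linter.style.haveILetI false
universe u
open CategoryTheory CategoryTheory.Limits MonoidalCategory CartesianMonoidalCategory MonObj
  AlgebraicGeometry

namespace Groth.Agent.Helper7.ConnStab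

theorem connectedSpace_of_connected_stabilizer (k : Type u) [Field k] [IsAlgClosed k]
    (G X : Over (Spec (CommRingCat.of k))) [GrpObj G] [LocallyOfFiniteType G.hom]
    [QuasiCompact G.hom]
    [Smooth X.hom] [ConnectedSpace ↥X.left] (a : AlgGrp.Action G X)
    (x₀ : 𝟙_ (Over (Spec (CommRingCat.of k))) ⟶ X)
    (hsurj : Surjective (a.orbitMap x₀).left)
    (H : Over (Spec (CommRingCat.of k))) [GrpObj H] (i : H ⟶ G) [IsMonHom i]
    (hH : ∀ (T : Over (Spec (CommRingCat.of k))) (g : T ⟶ G),
      (∃ h : T ⟶ H, h ≫ i = g) ↔ g ≫ a.orbitMap x₀ = toUnit T ≫ x₀)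
    [ConnectedSpace ↥H.left] : ConnectedSpace ↥G.left := by
  haveI : IsLocallyNoetherian G.left := LocallyOfFiniteType.isLocallyNoetherian G.hom
  haveI : CompactSpace G.left := QuasiCompact.compactSpace_of_compactSpace G.hom
  haveI : IsNoetherian G.left := ⟨⟩
  haveI : TopologicalSpace.NoetherianSpace G.left := inferInstance
  set π := a.orbitMap x₀ with hπ
  haveI : LocallyOfFiniteType X.hom := inferInstance
  haveI : IsReduced X.left := Groth.Agent.Helper18.CurveH0.isReduced_of_smooth k X.hom
  haveI : IsLocallyNoetherian X.left := LocallyOfFiniteType.isLocallyNoetherian X.hom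
  haveI : Flat π.left := by
    apply Groth.Agent.Helper18.OrbMapSmooth.flat_orbitMap G X a x₀
    intro U hU
    obtain ⟨x, hx⟩ := hU.nonempty
    obtain ⟨v, hv⟩ := hsurj.surj x
    exact ⟨v, hv ▸ hx⟩
  haveI : LocallyOfFiniteType π.left := by
    haveI : LocallyOfFiniteType (π.left ≫ X.hom) := by rw [Over.w]; infer_instance
    exact locallyOfFiniteType_of_comp π.left X.hom
  haveI : LocallyOfFinitePresentation π.left := inferInstance
  have hopen : IsOpenMap π.left.base := π.left.isOpenMap
  set e := Groth.Agent.Helper4.GrpConn.ept G with he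
  set U₀ := connectedComponent e with hU₀
  have hU₀o : IsOpen U₀ := Groth.Agent.Helper7.LimBC.isOpen_connectedComponent_of_noetherianSpace e
  have hU₀c : IsClosed U₀ := isClosed_connectedComponent
  have hU₀irr : U₀ = irreducibleComponent e :=
    Groth.Agent.Helper4.GrpConn.connectedComponent_unit_eq G
  -- the image of `H` lies in `U₀`
  have hiH : Set.range i.left.base ⊆ U₀ := by
    have hc : _root_.IsConnected (Set.range i.left.base) := isConnected_range i.left.continuous
    have hemem : e ∈ Set.range i.left.base := by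
      refine ⟨Groth.Agent.Helper4.GrpConn.ept H, ?_⟩
      show (η[H] ≫ i).left.base _ = _
      rw [IsMonHom.one_hom]
    exact hc.isPreconnected.subset_connectedComponent hemem
  -- `U₀` is saturated for `π`
  have hsat : ∀ u v : G.left, π.left.base u = π.left.base v → u ∈ U₀ → v ∈ U₀ := by
    intro u v huv hu
    obtain ⟨z, hz1, hz2⟩ := Scheme.Pullback.exists_preimage_pullback u v huv
    have hwG : G.hom = π.left ≫ X.hom := (Over.w π).symm
    let T : Over (Spec (CommRingCat.of k)) := Over.mk (pullback.fst π.left π.left ≫ G.hom)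
    let g₁ : T ⟶ G := Over.homMk (pullback.fst π.left π.left) rfl
    let g₂ : T ⟶ G := Over.homMk (pullback.snd π.left π.left) (by
      show pullback.snd π.left π.left ≫ G.hom = pullback.fst π.left π.left ≫ G.hom
      rw [hwG, ← Category.assoc, ← Category.assoc, pullback.condition])
    have hg : g₁ ≫ π = g₂ ≫ π := by
      apply Over.OverMorphism.ext
      show pullback.fst π.left π.left ≫ π.left = pullback.snd π.left π.left ≫ π.left
      exact pullback.condition
    have hstab : (g₁⁻¹ * g₂) ≫ π = toUnit T ≫ x₀ := by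
      rw [Groth.Agent.Helper18.OrbMapSmooth.orbitMap_mul', ← hg,
        ← Groth.Agent.Helper18.OrbMapSmooth.orbitMap_mul', inv_mul_cancel,
        Groth.Agent.Helper18.OrbMapSmooth.one_orbitMap]
    obtain ⟨h, hh⟩ := (hH T (g₁⁻¹ * g₂)).mpr hstab
    have hmul : lift g₁ (h ≫ i) ≫ μ[G] = g₂ := by
      rw [← Hom.mul_def, hh, mul_inv_cancel_left]
    have hw1 : (fst G G).left.base ((lift g₁ (h ≫ i)).left.base z) = u := by
      show (lift g₁ (h ≫ i) ≫ fst G G).left.base z = u
      rw [lift_fst]; exact hz1
    have hw2 : (snd G G).left.base ((lift g₁ (h ≫ i)).left.base z) ∈ U₀ := by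
      apply hiH
      refine ⟨h.left.base z, ?_⟩
      show (h ≫ i).left.base z = (lift g₁ (h ≫ i) ≫ snd G G).left.base z
      rw [lift_snd]
    have hw3 : μ[G].left.base ((lift g₁ (h ≫ i)).left.base z) = v := by
      show (lift g₁ (h ≫ i) ≫ μ[G]).left.base z = v
      rw [hmul]; exact hz2
    have hmem := Groth.Agent.Helper4.GrpConn.mul_subset G
      (irreducibleComponent_mem_irreducibleComponents e)
    rw [← hw3, hU₀irr]
    apply hmem
    refine ⟨_, ⟨?_, ?_⟩, rfl⟩
    · show (fst G G).left.base _ ∈ irreducibleComponent e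
      rw [hw1, ← hU₀irr]; exact hu
    · show (snd G G).left.base _ ∈ irreducibleComponent e
      rw [← hU₀irr]; exact hw2
  -- `π '' U₀` is clopen and nonempty
  have hA : IsOpen (π.left.base '' U₀) := hopen _ hU₀o
  have hB : IsOpen (π.left.base '' U₀ᶜ) := hopen _ hU₀c.isOpen_compl
  have hcompl : (π.left.base '' U₀)ᶜ = π.left.base '' U₀ᶜ := by
    ext x
    constructor
    · intro hx
      obtain ⟨v, rfl⟩ := hsurj.surj x
      refine ⟨v, fun hv => hx ⟨v, hv, rfl⟩, rfl⟩
    · rintro ⟨v, hv, rfl⟩ ⟨u, hu, huv⟩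
      exact hv (hsat u v huv hu)
  have hclopen : IsClopen (π.left.base '' U₀) := ⟨⟨by rw [hcompl]; exact hB⟩, hA⟩
  have huniv : π.left.base '' U₀ = Set.univ :=
    hclopen.eq_univ ⟨_, e, mem_connectedComponent, rfl⟩
  rw [connectedSpace_iff_connectedComponent]
  refine ⟨e, Set.eq_univ_of_forall fun v => ?_⟩
  have : π.left.base v ∈ π.left.base '' U₀ := by rw [huniv]; trivial
  obtain ⟨u, hu, huv⟩ := this
  exact hsat u v huv hu

end Groth.Agent.Helper7.ConnStab
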