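import Mathlib
import Groth.Agent.Lib.Helper7.CplLocal
import Groth.Agent.Lib.Helper7.RegComp
import Groth.Agent.Lib.Lead.Fib1
import Groth.Agent.S9295

/-!
# Regularity of the completion map via a regular local homomorphism (helper7)
-/

set_option autoImplicit false
set_option linter.unusedSectionVars false
set_option linter.style.haveILetI false
universe u

namespace Groth.Agent.Helper7.CplFlat

open FSch TensorProduct IsLocalRing Function

section ToLocal

variable (A A' : Type u) [CommRing A] [CommRing A'] [IsNoetherianRing A] [IsNoetherianRing A']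
  [IsLocalRing A] [IsLocalRing A'] [Algebra A A'] [IsLocalHom (algebraMap A A')]

theorem isRegularHom_cpl_of_to_local
    (hf : CAlg.IsRegularHom A A') (hA' : CAlg.IsRegularHom A' (EGA4.Cpl A')) :
    CAlg.IsRegularHom A (EGA4.Cpl A) := by
  have hfl := hf.1
  obtain ⟨alg, htower, hff⟩ := exists_cplAlgebra A A'
  letI := alg
  have hN' : IsNoetherianRing (EGA4.Cpl A') :=
    Groth.Agent.Helper1.isNoetherianRing_adicCompletion_of_fg A' (maximalIdeal A')
      (IsNoetherian.noetherian _)
  have hAC : CAlg.IsRegularHom A (EGA4.Cpl A') :=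
    Groth.Agent.Helper7.GeomRed.isRegularHom_comp A A' (EGA4.Cpl A') hf hA'
      (fun p _ => Groth.Agent.Lead.Fib.isNoetherianRing_fiber p)
  exact Groth.Agent.S9295.result A (EGA4.Cpl A) (EGA4.Cpl A') hAC
    PrimeSpectrum.comap_surjective_of_faithfullyFlat

end ToLocal

end Groth.Agent.Helper7.CplFlat
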