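import Mathlib
import Groth.Prelude
import Groth.Agent.Lib.Helper14.FSFibre
import Groth.Agent.Lib.Helper7.GeomRegFG
import Groth.Agent.Lib.Lead.Fib1

/-!
# Regular homomorphisms and adic formal smoothness of the local homomorphisms (helper7)
-/

set_option autoImplicit false
set_option linter.unusedSectionVars false
set_option linter.style.haveILetI false
universe u

namespace Groth.Agent.Helper7.RegHomFS

open TensorProduct IsLocalRing Function

variable {A B : Type u} [CommRing A] [CommRing B] [Algebra A B]

/-- The local ring of the fibre at `Q` is, as a `κ(p)`-algebra, the closed fibre of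
`A_p → B_q`. -/
theorem fiber_loc_equiv (p : Ideal A) [p.IsPrime] (Q : Ideal (p.Fiber B)) [Q.IsPrime]
    [Algebra (Localization.AtPrime p)
      (Localization.AtPrime (Q.comap (Algebra.TensorProduct.includeRight : B →ₐ[A] p.Fiber B)))]
    [Localization.AtPrime.IsLiesOverAlgebra p
      (Q.comap (Algebra.TensorProduct.includeRight : B →ₐ[A] p.Fiber B))] :
    Nonempty (Localization.AtPrime Q ≃ₐ[p.ResidueField]
      p.ResidueField ⊗[Localization.AtPrime p]
        (Localization.AtPrime (Q.comap (Algebra.TensorProduct.includeRight : B →ₐ[A] p.Fiber B)))) := by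
  set q := Q.comap (Algebra.TensorProduct.includeRight : B →ₐ[A] p.Fiber B) with hq
  have e := Ideal.Fiber.localizationAlgEquivQuotient p Q
  let B₀ := Localization.AtPrime q ⧸ p.map (algebraMap A (Localization.AtPrime q))
  letI : Algebra p.ResidueField B₀ :=
    ((e : Localization.AtPrime Q →+* B₀).comp
      (algebraMap p.ResidueField (Localization.AtPrime Q))).toAlgebra
  have hk' : Function.Surjective (algebraMap (Localization.AtPrime p) p.ResidueField) :=
    IsLocalRing.residue_surjective
  have hkI : RingHom.ker (algebraMap (Localization.AtPrime p) p.ResidueField) =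
      maximalIdeal (Localization.AtPrime p) := IsLocalRing.ker_residue
  have hmap : (maximalIdeal (Localization.AtPrime p)).map
      (algebraMap (Localization.AtPrime p) (Localization.AtPrime q)) =
      p.map (algebraMap A (Localization.AtPrime q)) := by
    rw [← Localization.AtPrime.map_eq_maximalIdeal, Ideal.map_map,
      ← IsScalarTower.algebraMap_eq]
  obtain ⟨E⟩ := Groth.Agent.Helper14.ModelSmooth.fibre_equiv_gen
    (maximalIdeal (Localization.AtPrime p)) hk' hkI
    (Ideal.Quotient.mk (p.map (algebraMap A (Localization.AtPrime q))))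
    Ideal.Quotient.mk_surjective (by rw [Ideal.mk_ker, hmap]) (fun a => by
      show _ = e (algebraMap p.ResidueField (Localization.AtPrime Q)
        (algebraMap (Localization.AtPrime p) p.ResidueField a))
      rw [← IsScalarTower.algebraMap_apply, e.commutes]
      rfl)
  let e' : Localization.AtPrime Q ≃ₐ[p.ResidueField] B₀ :=
    AlgEquiv.ofRingEquiv (f := e.toRingEquiv) (fun x => rfl)
  exact ⟨e'.trans E.symm⟩


/-- Noetherian local case: `A_p → B_q` is adic formally smooth iff it is flat and the local ring
of the fibre at the corresponding point is adic formally smooth over `κ(p)`. -/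
theorem adicFS_iff_fiber_aux [IsNoetherianRing A] [IsNoetherianRing B]
    (p : Ideal A) [p.IsPrime] (Q : Ideal (p.Fiber B)) [Q.IsPrime]
    [Algebra (Localization.AtPrime p)
      (Localization.AtPrime (Q.comap (Algebra.TensorProduct.includeRight : B →ₐ[A] p.Fiber B)))]
    [Localization.AtPrime.IsLiesOverAlgebra p
      (Q.comap (Algebra.TensorProduct.includeRight : B →ₐ[A] p.Fiber B))] :
    CAlgX.IsAdicFormallySmooth (Localization.AtPrime p)
      (Localization.AtPrime (Q.comap (Algebra.TensorProduct.includeRight : B →ₐ[A] p.Fiber B)))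
      (maximalIdeal _) ↔
    (Module.Flat (Localization.AtPrime p)
      (Localization.AtPrime (Q.comap (Algebra.TensorProduct.includeRight : B →ₐ[A] p.Fiber B))) ∧
     CAlgX.IsAdicFormallySmooth p.ResidueField (Localization.AtPrime Q) (maximalIdeal _)) := by
  set q := Q.comap (Algebra.TensorProduct.includeRight : B →ₐ[A] p.Fiber B) with hq
  haveI : IsLocalHom (algebraMap (Localization.AtPrime p) (Localization.AtPrime q)) := by
    rw [Localization.AtPrime.IsLiesOverAlgebra.algebraMap_eq]
    exact Localization.isLocalHom_localRingHom _ _ _ _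
  have hk' : Function.Surjective (algebraMap (Localization.AtPrime p) p.ResidueField) :=
    IsLocalRing.residue_surjective
  obtain ⟨E⟩ := fiber_loc_equiv p Q
  haveI : IsNoetherianRing (p.Fiber B) := Groth.Agent.Lead.Fib.isNoetherianRing_fiber p
  haveI : IsNoetherianRing (p.ResidueField ⊗[Localization.AtPrime p] (Localization.AtPrime q)) :=
    isNoetherianRing_of_ringEquiv _ E.toRingEquiv
  rw [← Groth.Agent.Helper14.FSFibre.flat_geomRegular_iff p.ResidueField hk']
  refine and_congr Iff.rfl ?_
  constructor
  · intro h
    exact Groth.Agent.Helper14.AdicFSTransfer.of_algEquiv_local E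
      (Groth.Agent.Helper14.FSFibre.adicFS_of_geomRegular h)
  · intro h
    exact Groth.Agent.Helper14.AdicFSGeomReg.isGeometricallyRegular
      (Groth.Agent.Helper14.AdicFSTransfer.of_algEquiv_local E.symm h)


/-- transported version with free primes. -/
theorem adicFS_iff_fiber [IsNoetherianRing A] [IsNoetherianRing B]
    (p : Ideal A) [p.IsPrime] (Q : Ideal (p.Fiber B)) [Q.IsPrime]
    (q : Ideal B) [q.IsPrime]
    (hq : Q.comap (Algebra.TensorProduct.includeRight : B →ₐ[A] p.Fiber B) = q)
    (p' : Ideal A) [p'.IsPrime] (hp' : p' = q.comap (algebraMap A B)) :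
    (letI := (Localization.localRingHom p' q (algebraMap A B) hp').toAlgebra
     CAlgX.IsAdicFormallySmooth (Localization.AtPrime p') (Localization.AtPrime q)
      (maximalIdeal (Localization.AtPrime q))) ↔
    ((Localization.localRingHom p' q (algebraMap A B) hp').Flat ∧
     CAlgX.IsAdicFormallySmooth p.ResidueField (Localization.AtPrime Q) (maximalIdeal _)) := by
  have hpp : p' = p := by
    rw [hp', ← hq]
    refine Eq.trans ?_ (Ideal.over_def Q p).symm
    ext a
    simp only [Ideal.mem_comap, Ideal.under_def]
    have h1 : (Algebra.TensorProduct.includeRight : B →ₐ[A] p.Fiber B) (algebraMap A B a) =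
        algebraMap A (p.Fiber B) a := by
      rw [AlgHom.commutes]
    rw [h1]
  subst hpp
  subst hq
  letI : Algebra (Localization.AtPrime p')
      (Localization.AtPrime (Q.comap (Algebra.TensorProduct.includeRight : B →ₐ[A] p'.Fiber B))) :=
    (Localization.localRingHom p' _ (algebraMap A B) hp').toAlgebra
  haveI : Localization.AtPrime.IsLiesOverAlgebra p'
      (Q.comap (Algebra.TensorProduct.includeRight : B →ₐ[A] p'.Fiber B)) := ⟨rfl⟩
  exact adicFS_iff_fiber_aux p' Q


/-- existence of the point of the fibre over a prime of `B`. -/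
theorem exists_fiber_prime (q : Ideal B) [q.IsPrime] :
    ∃ (Q : Ideal ((q.comap (algebraMap A B)).Fiber B)) (_ : Q.IsPrime),
      Q.comap (Algebra.TensorProduct.includeRight :
        B →ₐ[A] (q.comap (algebraMap A B)).Fiber B) = q := by
  set p : Ideal A := q.comap (algebraMap A B) with hpdef
  let P : PrimeSpectrum A := ⟨p, inferInstance⟩
  let r0 : PrimeSpectrum.comap (algebraMap A B) ⁻¹' {P} := ⟨⟨q, inferInstance⟩, rfl⟩
  let Q : PrimeSpectrum (p.Fiber B) := PrimeSpectrum.preimageEquivFiber A B P r0
  have hQ : (PrimeSpectrum.preimageEquivFiber A B P).symm Q = r0 :=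
    (PrimeSpectrum.preimageEquivFiber A B P).symm_apply_apply r0
  have hQr : Q.asIdeal.comap (Algebra.TensorProduct.includeRight : B →ₐ[A] p.Fiber B) = q := by
    have := congrArg (fun z => z.1.asIdeal) hQ
    exact this
  exact ⟨Q.asIdeal, Q.isPrime, hQr⟩

/-- **S19864** -/
theorem isRegularHom_iff_forall_adicFS (A B : Type u)
    [CommRing A] [CommRing B] [Algebra A B] [IsNoetherianRing A] [IsNoetherianRing B] :
    CAlg.IsRegularHom A B ↔
      ∀ (q : Ideal B) [q.IsPrime],
        letI := (Localization.localRingHom (Ideal.comap (algebraMap A B) q) q (algebraMap A B) rfl).toAlgebra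
        CAlgX.IsAdicFormallySmooth (Localization.AtPrime (Ideal.comap (algebraMap A B) q))
          (Localization.AtPrime q) (IsLocalRing.maximalIdeal (Localization.AtPrime q)) := by
  constructor
  · rintro ⟨hflat, hfib⟩ q _
    obtain ⟨Q, hQ, hQq⟩ := exists_fiber_prime (A := A) q
    rw [adicFS_iff_fiber (q.comap (algebraMap A B)) Q q hQq _ rfl]
    refine ⟨?_, ?_⟩
    · have hf : (algebraMap A B).Flat := RingHom.flat_algebraMap_iff.mpr hflat
      exact hf.localRingHom q _ rfl
    · haveI := (hfib (q.comap (algebraMap A B))).1
      exact Groth.Agent.Helper7.GeomRegFG.adicFS_of_geomRegular _ _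
        (Groth.Agent.Helper7.GeomRegFG.geomRegular_localization _ _
          (hfib (q.comap (algebraMap A B))).2 Q)
  · intro h
    refine ⟨?_, ?_⟩
    · have : (algebraMap A B).Flat := by
        apply RingHom.Flat.ofLocalizationPrime
        intro P _
        obtain ⟨Q, hQ, hQq⟩ := exists_fiber_prime (A := A) P
        exact ((adicFS_iff_fiber (P.comap (algebraMap A B)) Q P hQq _ rfl).mp (h P)).1
      exact RingHom.flat_algebraMap_iff.mp this
    · intro p _
      haveI hN : IsNoetherianRing (p.Fiber B) := Groth.Agent.Lead.Fib.isNoetherianRing_fiber p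
      refine ⟨hN, ?_⟩
      intro K _ _ hK
      haveI := hK
      haveI : IsNoetherianRing (K ⊗[p.ResidueField] p.Fiber B) := by
        haveI : Module.Finite (p.Fiber B) (p.Fiber B ⊗[p.ResidueField] K) := inferInstance
        haveI : IsNoetherianRing (p.Fiber B ⊗[p.ResidueField] K) :=
          IsNoetherianRing.of_finite (p.Fiber B) _
        exact isNoetherianRing_of_ringEquiv _
          (Algebra.TensorProduct.comm p.ResidueField (p.Fiber B) K).toRingEquiv
      apply Groth.Agent.Helper7.GeomRegFG.isRegularRing_tensor_of_adicFS
      intro Q _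
      exact ((adicFS_iff_fiber p Q _ rfl _ rfl).mp (h _)).2


/-- formal smoothness for the discrete topologies implies adic formal smoothness. -/
theorem adicFS_of_formallySmooth {R S : Type u} [CommRing R] [CommRing S] [Algebra R S]
    [Algebra.FormallySmooth R S] (𝔫 : Ideal S) : CAlgX.IsAdicFormallySmooth R S 𝔫 := by
  intro C _ _ J hJ ψ _
  exact Algebra.FormallySmooth.comp_surjective R S J hJ ψ

/-- **S19379** -/
theorem isRegularHom_of_formallySmooth
    (A B : Type u) [CommRing A] [CommRing B] [Algebra A B]
    [IsNoetherianRing A] [IsNoetherianRing B] [Algebra.FormallySmooth A B] :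
    CAlg.IsRegularHom A B := by
  rw [isRegularHom_iff_forall_adicFS]
  intro q _
  letI := (Localization.localRingHom (Ideal.comap (algebraMap A B) q) q (algebraMap A B) rfl).toAlgebra
  haveI : IsScalarTower A (Localization.AtPrime (Ideal.comap (algebraMap A B) q))
      (Localization.AtPrime q) :=
    .of_algebraMap_eq fun x ↦ (Localization.localRingHom_to_map _ _ _ rfl x).symm
  haveI : Algebra.FormallySmooth A (Localization.AtPrime q) := inferInstance
  haveI : Algebra.FormallySmooth (Localization.AtPrime (Ideal.comap (algebraMap A B) q))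
      (Localization.AtPrime q) :=
    Algebra.FormallySmooth.localization_base (Ideal.comap (algebraMap A B) q).primeCompl
  exact adicFS_of_formallySmooth _

end Groth.Agent.Helper7.RegHomFS
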