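import Mathlib
import Groth.Prelude.Def_EGA4b
import Groth.Prelude.Def_Found
import Groth.Agent.Lib.Helper7.AdicSurj
import Groth.Agent.Lib.Helper7.AdicFib3
import Groth.Agent.Lib.Helper7.ExcLoc
import Groth.Agent.Lib.Helper7.NormAsc
import Groth.Agent.Lib.Helper7.GeomNormFG
import Groth.Agent.Lib.Helper7.SepBase
import Groth.Agent.Lib.Helper5.CompReg
import Groth.Agent.Lib.Helper14.RegularLocalization

/-!
# Completions of localizations of excellent normal domains
-/

universe u

namespace Groth.Agent.Helper7.CplAway

open TensorProduct

set_option linter.style.haveILetI false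

/-- a geometrically regular algebra is regular -/
theorem isRegularRing_of_isGeometricallyRegular (k F : Type u) [Field k] [CommRing F] [Algebra k F]
    (h : CAlg.IsGeometricallyRegular k F) : IsRegularRing F := by
  haveI := h k (Module.Finite.self k)
  exact IsRegularRing.of_ringEquiv (Algebra.TensorProduct.lid k F).toRingEquiv

/-- normality ascends along regular homomorphisms of Noetherian rings -/
theorem isNormalRing_of_isRegularHom (R S : Type u) [CommRing R] [CommRing S] [Algebra R S]
    [IsNoetherianRing R] [IsNoetherianRing S] (h : CAlg.IsRegularHom R S)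
    (hR : EGA4.IsNormalRing R) : EGA4.IsNormalRing S := by
  haveI := h.1
  refine Groth.Agent.Helper7.NormAsc.isNormalRing_of_flat_of_fibres R S hR (fun p _ => ?_)
  haveI := isRegularRing_of_isGeometricallyRegular _ _ (h.2 p).2
  exact Groth.Agent.Helper7.NormAsc.isNormalRing_of_isRegularRing _

/-- a quotient of a regular ring: its localizations away from an element, completed, are quotients
of regular rings -/
theorem exists_regular_surjection (A : Type u) [CommRing A]
    (R : Type u) [CommRing R] [IsRegularRing R] (φ : R →+* A) (hφ : Function.Surjective φ)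
    (I : Ideal A) (f : A) :
    ∃ (R' : Type u) (_ : CommRing R') (_ : IsRegularRing R')
      (ψ : R' →+* AdicCompletion (I.map (algebraMap A (Localization.Away f)))
        (Localization.Away f)), Function.Surjective ψ := by
  obtain ⟨g, rfl⟩ := hφ f
  haveI : IsRegularRing (Localization.Away g) :=
    Groth.Agent.Helper14.RegularLocalization.isRegularRing_of_isLocalization
      (Submonoid.powers g) (Localization.Away g)
  have hle : Submonoid.powers g ≤ (Submonoid.powers (φ g)).comap φ := by
    rintro _ ⟨n, rfl⟩
    exact ⟨n, by simp⟩
  let φg : Localization.Away g →+* Localization.Away (φ g) :=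
    IsLocalization.map (Localization.Away (φ g)) φ hle
  have hφg : Function.Surjective φg := by
    intro b
    obtain ⟨a, s, rfl⟩ := IsLocalization.exists_mk'_eq (Submonoid.powers (φ g)) b
    obtain ⟨r, rfl⟩ := hφ a
    obtain ⟨n, hn⟩ := s.2
    refine ⟨IsLocalization.mk' (Localization.Away g) r (⟨g ^ n, n, rfl⟩ : Submonoid.powers g), ?_⟩
    rw [IsLocalization.map_mk']
    congr 1
    apply Subtype.ext
    simpa using hn
  let IB : Ideal (Localization.Away (φ g)) := I.map (algebraMap A (Localization.Away (φ g)))
  let J : Ideal (Localization.Away g) := IB.comap φg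
  have hJ : J.map φg = IB := Ideal.map_comap_of_surjective φg hφg IB
  haveI : IsRegularRing (AdicCompletion J (Localization.Away g)) :=
    Groth.Agent.Helper5.CompReg.isRegularRing_adicCompletion _ J
  have key : ∀ (K : Ideal (Localization.Away (φ g))), J.map φg = K →
      ∃ (R' : Type u) (_ : CommRing R') (_ : IsRegularRing R')
        (ψ : R' →+* AdicCompletion K (Localization.Away (φ g))), Function.Surjective ψ := by
    rintro K rfl
    exact ⟨AdicCompletion J (Localization.Away g), inferInstance, inferInstance,
      Groth.Agent.Helper7.AdicSurj.cplMap φg J,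
      Groth.Agent.Helper7.AdicSurj.cplMap_surjective φg J hφg⟩
  exact key IB hJ

theorem main (A : Type u) [CommRing A] [IsDomain A] [IsIntegrallyClosed A]
    (hexc : EGA4.IsExcellent A)
    (hreg : ∃ (R : Type u) (_ : CommRing R) (_ : IsRegularRing R) (φ : R →+* A),
      Function.Surjective φ) (I : Ideal A) (f : A) :
    EGA4.IsNormalRing (AdicCompletion (I.map (algebraMap A (Localization.Away f)))
        (Localization.Away f)) ∧
      ∃ (R' : Type u) (_ : CommRing R') (_ : IsRegularRing R')
        (ψ : R' →+* AdicCompletion (I.map (algebraMap A (Localization.Away f)))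
          (Localization.Away f)), Function.Surjective ψ := by
  obtain ⟨hN, hUC, hG, hJ⟩ := hexc
  haveI := hN
  refine ⟨?_, ?_⟩
  · have hGB : CAlg.IsGRing (Localization.Away f) :=
      Groth.Agent.Helper7.ExcLoc.isGRing_localization A hG (Submonoid.powers f)
    haveI : IsNoetherianRing (Localization.Away f) := hGB.1
    have hregB := Groth.Agent.Helper7.AdicFib.isRegularHom_adicCompletion (Localization.Away f) hGB
      (I.map (algebraMap A (Localization.Away f)))
    haveI : IsNoetherianRing (AdicCompletion (I.map (algebraMap A (Localization.Away f)))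
        (Localization.Away f)) :=
      Groth.Agent.Helper1.isNoetherianRing_adicCompletion_of_fg _ _ (IsNoetherian.noetherian _)
    have hnB : EGA4.IsNormalRing (Localization.Away f) :=
      Groth.Agent.Helper7.GeomNormFG.isNormalRing_of_isLocalization (Submonoid.powers f) _
        (Groth.Agent.Helper7.SepBase.isNormalRing_of_isDomain_isIntegrallyClosed A)
    exact isNormalRing_of_isRegularHom _ _ hregB hnB
  · obtain ⟨R, _, _, φ, hφ⟩ := hreg
    exact exists_regular_surjection A R φ hφ I f

end Groth.Agent.Helper7.CplAway
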