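import Mathlib
import Groth.Prelude.Def_EGA4b
import Groth.Prelude.Def_Found
import Groth.Agent.Lib.Helper7.ExcLoc
import Groth.Agent.Lib.Helper7.AffLoc

/-! # G-ring is an affine-local property (helper7) -/

set_option autoImplicit false
set_option linter.style.haveILetI false
set_option linter.unusedSectionVars false

namespace Groth.Agent.Helper7.ExcLoc

open CategoryTheory AlgebraicGeometry TopologicalSpace

universe u

theorem isRegularHom_cpl_of_ringEquiv {R R' : Type u} [CommRing R] [CommRing R'] [IsLocalRing R]
    [IsLocalRing R'] [IsNoetherianRing R] [IsNoetherianRing R'] (e : R ≃+* R')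
    (h : CAlg.IsRegularHom R' (EGA4.Cpl R')) : CAlg.IsRegularHom R (EGA4.Cpl R) := by
  letI : Algebra R R' := e.toRingHom.toAlgebra
  have hbij : Function.Bijective (algebraMap R R') := e.bijective
  haveI : IsLocalHom (algebraMap R R') := by
    constructor
    intro a ha
    have : IsUnit (e a) := ha
    exact (isUnit_map_iff e a).mp this
  have hreg : CAlg.IsRegularHom R R' := isRegularHom_of_bijective _ _ hbij
  exact Groth.Agent.Helper7.CplFlat.isRegularHom_cpl_of_to_local R R' hreg h

theorem isRegularHom_cpl_atPrime_iff (A B : Type u) [CommRing A] [CommRing B] [Algebra A B]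
    [IsNoetherianRing A] [IsNoetherianRing B]
    (M : Submonoid A) [IsLocalization M B] (q : Ideal B) [q.IsPrime] (p : Ideal A) [p.IsPrime]
    (hp : q.comap (algebraMap A B) = p) :
    CAlg.IsRegularHom (Localization.AtPrime q) (EGA4.Cpl (Localization.AtPrime q)) ↔
      CAlg.IsRegularHom (Localization.AtPrime p) (EGA4.Cpl (Localization.AtPrime p)) := by
  subst hp
  haveI : IsScalarTower A B (Localization.AtPrime q) := inferInstance
  haveI : IsLocalization.AtPrime (Localization.AtPrime q) (q.comap (algebraMap A B)) :=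
    IsLocalization.isLocalization_isLocalization_atPrime_isLocalization M
      (Localization.AtPrime q) q
  let e : Localization.AtPrime (q.comap (algebraMap A B)) ≃ₐ[A] Localization.AtPrime q :=
    IsLocalization.algEquiv (q.comap (algebraMap A B)).primeCompl _ _
  constructor
  · intro h
    exact isRegularHom_cpl_of_ringEquiv e.toRingEquiv h
  · intro h
    exact isRegularHom_cpl_of_ringEquiv e.symm.toRingEquiv h

theorem isGRing_of_ringEquiv {R S : Type u} [CommRing R] [CommRing S] (e : R ≃+* S)
    (hR : CAlg.IsGRing R) : CAlg.IsGRing S := by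
  haveI := hR.1
  haveI : IsNoetherianRing S := isNoetherianRing_of_ringEquiv R e
  letI : Algebra R S := e.toRingHom.toAlgebra
  haveI : IsLocalization (⊥ : Submonoid R) R := IsLocalization.self bot_le
  haveI : IsLocalization (⊥ : Submonoid R) S :=
    IsLocalization.isLocalization_of_algEquiv ⊥
      (AlgEquiv.ofBijective (Algebra.ofId R S) e.bijective)
  refine ⟨inferInstance, fun q _ => ?_⟩
  exact (isRegularHom_cpl_atPrime_iff R S ⊥ q (q.comap (algebraMap R S)) rfl).mpr (hR.2 _)

theorem isGRing_of_away (R : Type u) [CommRing R] (s : Finset R)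
    (hs : Ideal.span (s : Set R) = ⊤) (h : ∀ f : s, CAlg.IsGRing (Localization.Away f.1)) :
    CAlg.IsGRing R := by
  haveI : IsNoetherianRing R := isNoetherianRing_of_away s hs (fun f => (h f).1)
  refine ⟨inferInstance, fun p _ => ?_⟩
  have : ∃ f ∈ s, f ∉ p := by
    by_contra hcon
    push Not at hcon
    have : Ideal.span (s : Set R) ≤ p := Ideal.span_le.mpr hcon
    rw [hs] at this
    exact (Ideal.IsPrime.ne_top ‹_›) (top_le_iff.mp this)
  obtain ⟨f, hf, hfp⟩ := this
  have hdisj : Disjoint (Submonoid.powers f : Set R) (p : Set R) := by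
    rw [Set.disjoint_left]
    rintro _ ⟨n, rfl⟩ hn
    exact hfp (Ideal.IsPrime.mem_of_pow_mem ‹_› n hn)
  haveI := (h ⟨f, hf⟩).1
  let q : Ideal (Localization.Away f) := p.map (algebraMap R (Localization.Away f))
  haveI : q.IsPrime :=
    IsLocalization.isPrime_of_isPrime_disjoint (Submonoid.powers f) _ p ‹_› hdisj
  have hq : q.comap (algebraMap R (Localization.Away f)) = p :=
    IsLocalization.under_map_of_isPrime_disjoint (Submonoid.powers f) _ ‹_› hdisj
  exact (isRegularHom_cpl_atPrime_iff R (Localization.Away f) (Submonoid.powers f) q p hq).mp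
    ((h ⟨f, hf⟩).2 q)

theorem s7414 (X : Scheme.{u}) :
    (∀ x : X, ∃ U : X.Opens, x ∈ U ∧ IsAffineOpen U ∧ CAlg.IsGRing Γ(X, U)) ↔
      ∀ U : X.Opens, IsAffineOpen U → CAlg.IsGRing Γ(X, U) := by
  constructor
  · intro h
    choose U hxU hUaff hUG using h
    have hsup : iSup U = ⊤ := by
      rw [eq_top_iff]
      intro x _
      exact Opens.mem_iSup.mpr ⟨x, hxU x⟩
    intro V hV
    refine Groth.Agent.Helper7.AffLoc.of_affine_cover (fun R _ => CAlg.IsGRing R) ?_ ?_ ?_ X U hsup
      hUaff hUG V hV
    · intro R S _ _ e h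
      exact isGRing_of_ringEquiv e h
    · intro R _ f h
      exact isGRing_localization R h (Submonoid.powers f)
    · intro R _ s hs h
      exact isGRing_of_away R s hs h
  · intro h x
    obtain ⟨W, hW, hxW, -⟩ := exists_isAffineOpen_mem_and_subset (x := x) (U := ⊤) trivial
    exact ⟨W, hxW, hW, h W hW⟩

end Groth.Agent.Helper7.ExcLoc
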