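import Mathlib
import Groth.Prelude.Def_Found
import Groth.Prelude.Def_EGA4b
import Groth.Agent.Lib.Helper1.HenselFinite
import Groth.Agent.Lib.Helper5.FinComplete
import Groth.Agent.Lib.Helper7.ExcLoc2
import Groth.Agent.Lib.Helper7.CplLocal3
import Groth.Agent.Lib.Helper7.RegHomLoc
import Groth.Agent.Lib.Helper7.GeomPBase3

/-!
# Ascent of regularity of the completion map along quasi-finite algebras (helper7)
-/

set_option autoImplicit false
set_option linter.style.haveILetI false
set_option linter.unusedSectionVars false

universe u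

namespace Groth.Agent.Helper7.QFReg

open TensorProduct IsLocalRing

section LemmaA

/-- a complete local ring has a regular (bijective) completion map -/
theorem isRegularHom_cpl_of_isAdicComplete (Q : Type u) [CommRing Q] [IsLocalRing Q]
    [IsNoetherianRing Q]
    [IsAdicComplete (maximalIdeal Q) Q] : CAlg.IsRegularHom Q (EGA4.Cpl Q) := by
  haveI : IsNoetherianRing (EGA4.Cpl Q) :=
    Groth.Agent.Helper1.isNoetherianRing_adicCompletion_of_fg Q (maximalIdeal Q)
      (IsNoetherian.noetherian _)
  refine Groth.Agent.Helper7.ExcLoc.isRegularHom_of_bijective Q (EGA4.Cpl Q) ?_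
  exact (AdicCompletion.ofAlgEquiv (maximalIdeal Q)).bijective

/-- the localization of a finite algebra over a complete Noetherian local ring at a maximal ideal
is complete. -/
theorem isAdicComplete_localization_of_finite
    (Ah : Type u) [CommRing Ah] [IsLocalRing Ah] [IsNoetherianRing Ah]
    [IsAdicComplete (maximalIdeal Ah) Ah]
    (T : Type u) [CommRing T] [Algebra Ah T] [Module.Finite Ah T] [IsNoetherianRing T]
    (N : Ideal T) [hN : N.IsMaximal] :
    IsAdicComplete (maximalIdeal (Localization.AtPrime N)) (Localization.AtPrime N) := by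
  haveI : HenselianLocalRing Ah :=
    Groth.Agent.Helper5.FinComplete.henselianLocalRing_of_isAdicComplete Ah
  obtain ⟨hfin, e, he, hne, hloc⟩ :=
    Groth.Agent.Helper1.exists_completeOrthogonalIdempotents_forall_isLocalRing Ah T
  let n : MaximalSpectrum T := ⟨N, hN⟩
  let I : Ideal T := Ideal.span {1 - e n}
  let Q := T ⧸ I
  haveI : IsLocalRing Q := hloc n
  haveI : Module.Finite Ah Q := Module.Finite.of_surjective (Ideal.Quotient.mkₐ Ah I).toLinearMap
    Ideal.Quotient.mk_surjective
  haveI : IsNoetherianRing Q := IsNoetherianRing.of_finite Ah Q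
  haveI : IsAdicComplete (maximalIdeal Q) Q :=
    Groth.Agent.Helper5.FinComplete.isAdicComplete_maximalIdeal_of_finite Ah Q
  have hidem : IsIdempotentElem (e n) := he.idem n
  -- the maximal ideal of Q pulls back to N
  have hcomap : (maximalIdeal Q).comap (Ideal.Quotient.mk I) = N := by
    haveI hmax : ((maximalIdeal Q).comap (Ideal.Quotient.mk I)).IsMaximal :=
      Ideal.comap_isMaximal_of_surjective _ Ideal.Quotient.mk_surjective
    by_contra hne'
    let M : MaximalSpectrum T := ⟨_, hmax⟩
    have hMn : M ≠ n := fun h => hne' (congrArg MaximalSpectrum.asIdeal h)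
    have horth : e M * e n = 0 := he.ortho hMn
    have h1 : e n ∈ M.asIdeal := by
      have : e M * e n ∈ M.asIdeal := by rw [horth]; exact Ideal.zero_mem _
      rcases M.isMaximal.isPrime.mem_or_mem this with h | h
      · exact absurd h (hne M)
      · exact h
    have h2 : (1 - e n) ∈ M.asIdeal := by
      show Ideal.Quotient.mk I (1 - e n) ∈ maximalIdeal Q
      have : Ideal.Quotient.mk I (1 - e n) = 0 :=
        Ideal.Quotient.eq_zero_iff_mem.mpr (Ideal.subset_span rfl)
      rw [this]; exact Ideal.zero_mem _
    have h3 : (1 : T) ∈ M.asIdeal := by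
      have := M.asIdeal.add_mem h2 h1
      simpa using this
    exact M.isMaximal.ne_top ((Ideal.eq_top_iff_one _).mpr h3)
  haveI : IsLocalization.AtPrime Q N := by
    refine ⟨?_, ?_, ?_⟩
    · rintro ⟨y, hy⟩
      show IsUnit (Ideal.Quotient.mk I y)
      by_contra hnu
      have : Ideal.Quotient.mk I y ∈ maximalIdeal Q := (IsLocalRing.mem_maximalIdeal _).mpr hnu
      have : y ∈ N := by rw [← hcomap]; exact this
      exact hy this
    · intro z
      obtain ⟨x, rfl⟩ := Ideal.Quotient.mk_surjective z
      exact ⟨(x, 1), by simp; rfl⟩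
    · intro x y hxy
      have hxy' : Ideal.Quotient.mk I x = Ideal.Quotient.mk I y := hxy
      rw [Ideal.Quotient.eq, Ideal.mem_span_singleton'] at hxy'
      obtain ⟨c, hc⟩ := hxy'
      refine ⟨⟨e n, hne n⟩, ?_⟩
      have h0 : e n * (x - y) = 0 := by
        rw [← hc]
        have : e n * (c * (1 - e n)) = c * (e n - e n * e n) := by ring
        rw [this, hidem.eq, sub_self, mul_zero]
      show e n * x = e n * y
      rw [← sub_eq_zero, ← mul_sub]; exact h0
  let eq : Localization.AtPrime N ≃+* Q :=
    (IsLocalization.algEquiv N.primeCompl (Localization.AtPrime N) Q).toRingEquiv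
  have hmap : (maximalIdeal Q).map eq.symm = maximalIdeal (Localization.AtPrime N) := by
    have h1 : (maximalIdeal Q).map eq.symm = (maximalIdeal Q).comap eq := Ideal.map_symm _
    rw [h1]
    haveI : ((maximalIdeal Q).comap eq).IsMaximal :=
      Ideal.comap_isMaximal_of_surjective _ eq.surjective
    exact IsLocalRing.eq_maximalIdeal inferInstance
  rw [← hmap]
  exact (IsAdicComplete.congr_ringEquiv (maximalIdeal Q) eq.symm).mpr inferInstance

/-- the localization of a finite algebra over a complete Noetherian local ring at a maximal ideal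
has a regular completion map (it is complete). -/
theorem isRegularHom_cpl_localization_of_finite
    (Ah : Type u) [CommRing Ah] [IsLocalRing Ah] [IsNoetherianRing Ah]
    [IsAdicComplete (maximalIdeal Ah) Ah]
    (T : Type u) [CommRing T] [Algebra Ah T] [Module.Finite Ah T] [IsNoetherianRing T]
    (N : Ideal T) [hN : N.IsMaximal] :
    CAlg.IsRegularHom (Localization.AtPrime N) (EGA4.Cpl (Localization.AtPrime N)) := by
  haveI := isAdicComplete_localization_of_finite Ah T N
  exact isRegularHom_cpl_of_isAdicComplete _


end LemmaA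

section LemmaB

/-- descent of regularity of the completion map along a regular homomorphism, localized -/
theorem isRegularHom_cpl_of_regular_to (S T : Type u) [CommRing S] [CommRing T] [Algebra S T]
    [IsNoetherianRing S] [IsNoetherianRing T] (hST : CAlg.IsRegularHom S T)
    (N : Ideal T) [N.IsPrime] (n : Ideal S) [n.IsPrime] (hn : n = N.comap (algebraMap S T))
    (hN : CAlg.IsRegularHom (Localization.AtPrime N) (EGA4.Cpl (Localization.AtPrime N))) :
    CAlg.IsRegularHom (Localization.AtPrime n) (EGA4.Cpl (Localization.AtPrime n)) := by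
  letI := (Localization.localRingHom n N (algebraMap S T) hn).toAlgebra
  have h1 : CAlg.IsRegularHom (Localization.AtPrime n) (Localization.AtPrime N) :=
    Groth.Agent.Helper7.RegHomLoc.isRegularHom_localRingHom S T hST N n hn
  haveI : IsLocalHom (algebraMap (Localization.AtPrime n) (Localization.AtPrime N)) :=
    Localization.isLocalHom_localRingHom n N (algebraMap S T) hn
  exact Groth.Agent.Helper7.CplFlat.isRegularHom_cpl_of_to_local (Localization.AtPrime n)
    (Localization.AtPrime N) h1 hN

end LemmaB

section LemmaC

variable (R S : Type u) [CommRing R] [CommRing S] [IsNoetherianRing R] [Algebra R S]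
  (n : Ideal S) [n.IsPrime] (p : Ideal R) [p.IsPrime] (hp : p = n.comap (algebraMap R S))

/-- the canonical `R`-algebra map from the completion of `R_p` to the residue field of a prime
of `S` above `p` -/
noncomputable def cplToResidue :
    EGA4.Cpl (Localization.AtPrime p) →ₐ[R] n.ResidueField where
  __ := (Ideal.ResidueField.map p n (algebraMap R S) hp).comp
    (AdicCompletion.evalOneₐ (maximalIdeal (Localization.AtPrime p))).toRingHom
  commutes' r := by
    have h1 : algebraMap R (EGA4.Cpl (Localization.AtPrime p)) r =
        AdicCompletion.of _ _ (algebraMap R (Localization.AtPrime p) r) := by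
      rw [IsScalarTower.algebraMap_apply R (Localization.AtPrime p)
        (EGA4.Cpl (Localization.AtPrime p)), AdicCompletion.algebraMap_apply,
        Algebra.algebraMap_self, RingHom.id_apply]
    show (Ideal.ResidueField.map p n (algebraMap R S) hp)
      ((AdicCompletion.evalOneₐ (maximalIdeal (Localization.AtPrime p)))
        (algebraMap R (EGA4.Cpl (Localization.AtPrime p)) r)) = _
    rw [h1, AdicCompletion.evalOneₐ_of]
    have h2 : (Ideal.Quotient.mk (maximalIdeal (Localization.AtPrime p)))
        (algebraMap R (Localization.AtPrime p) r) = algebraMap R p.ResidueField r := by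
      rw [IsScalarTower.algebraMap_apply R (Localization.AtPrime p) p.ResidueField]
      rfl
    rw [h2, Ideal.ResidueField.map_algebraMap,
      ← IsScalarTower.algebraMap_apply R S n.ResidueField]

theorem ker_cplToResidue_isMaximal :
    (RingHom.ker (cplToResidue R S n p hp).toRingHom).IsMaximal := by
  have h1 : RingHom.ker (cplToResidue R S n p hp).toRingHom =
      RingHom.ker (AdicCompletion.evalOneₐ (maximalIdeal (Localization.AtPrime p))).toRingHom := by
    ext x
    simp only [RingHom.mem_ker]
    show (Ideal.ResidueField.map p n (algebraMap R S) hp)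
      ((AdicCompletion.evalOneₐ (maximalIdeal (Localization.AtPrime p))) x) = 0 ↔ _
    rw [map_eq_zero_iff _ (RingHom.injective _)]
    rfl
  rw [h1]
  letI : Field (Localization.AtPrime p ⧸ maximalIdeal (Localization.AtPrime p)) :=
    Ideal.Quotient.field _
  exact RingHom.ker_isMaximal_of_surjective _
    (AdicCompletion.evalOneₐ_surjective (maximalIdeal (Localization.AtPrime p)))

include hp in
/-- a maximal ideal of `S ⊗[R] (R_p)^` above the prime `n` of `S`, when `S` is finite over `R` -/
theorem exists_maximal_over [Module.Finite R S] :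
    ∃ N : Ideal (S ⊗[R] EGA4.Cpl (Localization.AtPrime p)), N.IsMaximal ∧
      N.comap (algebraMap S (S ⊗[R] EGA4.Cpl (Localization.AtPrime p))) = n := by
  let Ah := EGA4.Cpl (Localization.AtPrime p)
  let T := S ⊗[R] Ah
  let φ : T →ₐ[S] n.ResidueField :=
    Algebra.TensorProduct.lift (Algebra.ofId S n.ResidueField) (cplToResidue R S n p hp)
      (fun _ _ => Commute.all _ _)
  letI : Algebra Ah T := Algebra.TensorProduct.rightAlgebra
  haveI : Module.Finite Ah T :=
    Module.Finite.equiv (Algebra.TensorProduct.commRight R Ah S).toLinearEquiv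
  haveI : Algebra.IsIntegral Ah T := Algebra.IsIntegral.of_finite Ah T
  let N : Ideal T := RingHom.ker φ.toRingHom
  haveI : N.IsPrime := RingHom.ker_isPrime _
  have hcomapAh : N.comap (algebraMap Ah T) = RingHom.ker (cplToResidue R S n p hp).toRingHom := by
    ext x
    simp only [Ideal.mem_comap, RingHom.mem_ker, N]
    have : algebraMap Ah T x = (1 : S) ⊗ₜ[R] x := rfl
    rw [this]
    show φ ((1 : S) ⊗ₜ[R] x) = 0 ↔ _
    rw [Algebra.TensorProduct.lift_tmul, map_one, one_mul]
    rfl
  have hmax : (N.comap (algebraMap Ah T)).IsMaximal := by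
    rw [hcomapAh]
    exact ker_cplToResidue_isMaximal R S n p hp
  refine ⟨N, Ideal.isMaximal_of_isIntegral_of_isMaximal_comap N hmax, ?_⟩
  ext x
  simp only [Ideal.mem_comap, RingHom.mem_ker, N]
  show φ (algebraMap S T x) = 0 ↔ _
  rw [φ.commutes, Ideal.algebraMap_residueField_eq_zero]

include hp in
/-- **finite case**: if `R_p → (R_p)^` is regular and `S` is a finite `R`-algebra with a prime `n`
above `p`, then `S_n → (S_n)^` is regular. -/
theorem isRegularHom_cpl_of_finite [Module.Finite R S] [IsNoetherianRing S]
    (h : CAlg.IsRegularHom (Localization.AtPrime p) (EGA4.Cpl (Localization.AtPrime p))) :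
    CAlg.IsRegularHom (Localization.AtPrime n) (EGA4.Cpl (Localization.AtPrime n)) := by
  let A := Localization.AtPrime p
  let Ah := EGA4.Cpl A
  let T := S ⊗[R] Ah
  haveI hNAh : IsNoetherianRing Ah :=
    Groth.Agent.Helper1.isNoetherianRing_adicCompletion_of_fg A (maximalIdeal A)
      (IsNoetherian.noetherian _)
  have hRA : CAlg.IsRegularHom R A :=
    Groth.Agent.Helper7.RegHomFS.isRegularHom_of_formallySmooth R A
  have hRAh : CAlg.IsRegularHom R Ah :=
    Groth.Agent.Helper7.GeomRed.isRegularHom_comp R A Ah hRA h
      (fun q _ => Groth.Agent.Lead.Fib.isNoetherianRing_fiber q)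
  have hST : CAlg.IsRegularHom S T :=
    Groth.Agent.Helper7.GeomPBase.isRegularHom_baseChange_of_finiteType R Ah S hRAh
  letI : Algebra Ah T := Algebra.TensorProduct.rightAlgebra
  haveI : Module.Finite Ah T :=
    Module.Finite.equiv (Algebra.TensorProduct.commRight R Ah S).toLinearEquiv
  haveI : IsNoetherianRing T := IsNoetherianRing.of_finite Ah T
  obtain ⟨N, hNmax, hNn⟩ := exists_maximal_over R S n p hp
  haveI := hNmax
  have hN : CAlg.IsRegularHom (Localization.AtPrime N) (EGA4.Cpl (Localization.AtPrime N)) :=
    isRegularHom_cpl_localization_of_finite Ah T N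
  exact isRegularHom_cpl_of_regular_to S T hST N n hNn.symm hN

end LemmaC

section LemmaD

/-- **S9289** -/
theorem s9289 (R R' : Type u) [CommRing R]
    [CommRing R'] [IsNoetherianRing R] [IsNoetherianRing R'] [Algebra R R'] [Algebra.FiniteType R R']
    (p' : Ideal R') [p'.IsPrime] [Algebra.QuasiFiniteAt R p']
    (h : CAlg.IsRegularHom (Localization.AtPrime (Ideal.comap (algebraMap R R') p'))
      (EGA4.Cpl (Localization.AtPrime (Ideal.comap (algebraMap R R') p')))) :
    CAlg.IsRegularHom (Localization.AtPrime p') (EGA4.Cpl (Localization.AtPrime p')) := by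
  obtain ⟨S', hfg, r, hrp, hbij⟩ :=
    Algebra.QuasiFiniteAt.exists_fg_and_exists_notMem_and_awayMap_bijective (R := R) p'
  haveI : Module.Finite R S' := ⟨(Submodule.fg_top _).mpr hfg⟩
  haveI : IsNoetherianRing S' := IsNoetherianRing.of_finite R S'
  let B1 := Localization.Away (r.1 : R')
  haveI : IsScalarTower S' R' B1 := inferInstance
  -- B1 is the localization of S' at powers of r
  let f0 : Localization.Away r →+* B1 := Localization.awayMap S'.val.toRingHom r
  have hf0 : ∀ x : S', f0 (algebraMap S' (Localization.Away r) x) = algebraMap S' B1 x := by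
    intro x
    have h1 : (Localization.awayMap S'.val.toRingHom r) (algebraMap S' (Localization.Away r) x) =
        algebraMap R' (Localization.Away (S'.val.toRingHom r)) (S'.val.toRingHom x) :=
      IsLocalization.map_eq _ x
    exact h1
  let e : Localization.Away r ≃ₐ[S'] B1 :=
    AlgEquiv.ofBijective ⟨f0, hf0⟩ hbij
  haveI : IsLocalization (Submonoid.powers r) B1 :=
    IsLocalization.isLocalization_of_algEquiv (Submonoid.powers r) e
  -- the prime of B1
  have hdisj : Disjoint (Submonoid.powers (r.1 : R') : Set R') (p' : Set R') := by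
    rw [Set.disjoint_left]
    rintro x ⟨k, rfl⟩ hx
    exact hrp (Ideal.IsPrime.mem_of_pow_mem inferInstance k hx)
  let q : Ideal B1 := p'.map (algebraMap R' B1)
  haveI : q.IsPrime := IsLocalization.isPrime_of_isPrime_disjoint (Submonoid.powers r.1) B1 p'
    inferInstance hdisj
  have hq : q.comap (algebraMap R' B1) = p' :=
    IsLocalization.under_map_of_isPrime_disjoint (Submonoid.powers r.1) B1 inferInstance hdisj
  let n : Ideal S' := q.comap (algebraMap S' B1)
  have hn : n.comap (algebraMap R S') = Ideal.comap (algebraMap R R') p' := by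
    show (q.comap (algebraMap S' B1)).comap (algebraMap R S') = _
    rw [IsScalarTower.algebraMap_eq S' R' B1, ← Ideal.comap_comap, hq, Ideal.comap_comap,
      ← IsScalarTower.algebraMap_eq]
  have h1 : CAlg.IsRegularHom (Localization.AtPrime n) (EGA4.Cpl (Localization.AtPrime n)) :=
    isRegularHom_cpl_of_finite R S' n _ hn.symm h
  have h2 : CAlg.IsRegularHom (Localization.AtPrime q) (EGA4.Cpl (Localization.AtPrime q)) :=
    (Groth.Agent.Helper7.ExcLoc.isRegularHom_cpl_atPrime_iff S' B1 (Submonoid.powers r) q n
      rfl).mpr h1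
  exact (Groth.Agent.Helper7.ExcLoc.isRegularHom_cpl_atPrime_iff R' B1 (Submonoid.powers r.1) q p'
      hq).mp h2

end LemmaD

end Groth.Agent.Helper7.QFReg
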