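import Mathlib
import Groth.Prelude.Def_EGA4b
import Groth.Agent.Lib.Helper7.QFReg
import Groth.Agent.Lib.Helper7.CplLocal

/-!
# Completions of the local rings of a finite algebra (helper7)

For a finite `R`-algebra `S`, a prime `P` of `R` and `T = S ⊗_R (R_P)^`, the localization of `T` at a
maximal ideal `N` is the completion of `S_q`, `q = N ∩ S`.
-/

set_option autoImplicit false
set_option linter.style.haveILetI false
set_option linter.unusedSectionVars false

universe u

namespace Groth.Agent.Helper7.CplFin

open TensorProduct IsLocalRing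

section Key

variable (R S : Type u) [CommRing R] [CommRing S] [IsNoetherianRing R] [Algebra R S]
  (P : Ideal R) [P.IsPrime]

theorem maximalIdeal_cpl_eq :
    maximalIdeal (EGA4.Cpl (Localization.AtPrime P)) =
      P.map (algebraMap R (EGA4.Cpl (Localization.AtPrime P))) := by
  rw [IsScalarTower.algebraMap_eq R (Localization.AtPrime P) (EGA4.Cpl (Localization.AtPrime P)),
    ← Ideal.map_map, Localization.AtPrime.map_eq_maximalIdeal]
  exact AdicCompletion.maximalIdeal_eq_map

theorem key_cpl (x : EGA4.Cpl (Localization.AtPrime P)) :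
    ∃ v ∈ P.primeCompl, ∃ r : R, v • x - algebraMap R (EGA4.Cpl (Localization.AtPrime P)) r ∈
      P.map (algebraMap R (EGA4.Cpl (Localization.AtPrime P))) := by
  let A := Localization.AtPrime P
  let Ah := EGA4.Cpl A
  obtain ⟨a', ha'⟩ := (AdicCompletion.residueField_map_bijective A).2 (residue Ah x)
  obtain ⟨a, rfl⟩ := residue_surjective a'
  rw [IsLocalRing.ResidueField.map_residue] at ha'
  have h1 : x - algebraMap A Ah a ∈ maximalIdeal Ah := by
    have : residue Ah (x - algebraMap A Ah a) = 0 := by rw [map_sub, ha', sub_self]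
    exact (residue_eq_zero_iff _).mp this
  obtain ⟨⟨r, v⟩, hrv⟩ := IsLocalization.mk'_surjective P.primeCompl a
  refine ⟨v.1, v.2, r, ?_⟩
  rw [← maximalIdeal_cpl_eq]
  have h2 : a * algebraMap R A v.1 = algebraMap R A r := by
    rw [← hrv]; exact IsLocalization.mk'_spec _ _ _
  have h3 : (v.1 : R) • x - algebraMap R Ah r = algebraMap R Ah v.1 * (x - algebraMap A Ah a) := by
    rw [IsScalarTower.algebraMap_apply R A Ah r, ← h2, map_mul, Algebra.smul_def,
      ← IsScalarTower.algebraMap_apply R A Ah]
    ring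
  rw [h3]
  exact Ideal.mul_mem_left _ _ h1

theorem key (x : S ⊗[R] EGA4.Cpl (Localization.AtPrime P)) :
    ∃ v ∈ P.primeCompl, ∃ s : S, v • x - s ⊗ₜ[R] (1 : EGA4.Cpl (Localization.AtPrime P)) ∈
      P.map (algebraMap R (S ⊗[R] EGA4.Cpl (Localization.AtPrime P))) := by
  let Ah := EGA4.Cpl (Localization.AtPrime P)
  let T := S ⊗[R] Ah
  have hmap : (P.map (algebraMap R Ah)).map
      (Algebra.TensorProduct.includeRight : Ah →ₐ[R] T).toRingHom = P.map (algebraMap R T) := by
    rw [Ideal.map_map]
    congr 1
    exact (Algebra.TensorProduct.includeRight : Ah →ₐ[R] T).comp_algebraMap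
  have hsm : ∀ (r : R) (y : T), y ∈ P.map (algebraMap R T) → r • y ∈ P.map (algebraMap R T) := by
    intro r y hy
    have h0 : r • y = algebraMap R T r * y := Algebra.smul_def r y
    rw [h0]
    exact Ideal.mul_mem_left _ _ hy
  induction x using TensorProduct.induction_on with
  | zero => exact ⟨1, P.primeCompl.one_mem, 0, by simp⟩
  | tmul s₀ a =>
    obtain ⟨v, hv, r, hr⟩ := key_cpl R P a
    refine ⟨v, hv, r • s₀, ?_⟩
    have h1 : v • (s₀ ⊗ₜ[R] a) - (r • s₀) ⊗ₜ[R] (1 : Ah) =
        (s₀ ⊗ₜ[R] (1 : Ah)) * (Algebra.TensorProduct.includeRight : Ah →ₐ[R] T).toRingHom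
          (v • a - algebraMap R Ah r) := by
      change _ = (s₀ ⊗ₜ[R] (1 : Ah)) * ((1 : S) ⊗ₜ[R] (v • a - algebraMap R Ah r))
      rw [Algebra.TensorProduct.tmul_mul_tmul, mul_one, one_mul, TensorProduct.tmul_sub,
        TensorProduct.tmul_smul, Algebra.algebraMap_eq_smul_one, TensorProduct.tmul_smul,
        TensorProduct.smul_tmul', TensorProduct.smul_tmul']
    rw [h1, ← hmap]
    exact Ideal.mul_mem_left _ _ (Ideal.mem_map_of_mem _ hr)
  | add x₁ x₂ h₁ h₂ =>
    obtain ⟨v₁, hv₁, s₁, hs₁⟩ := h₁
    obtain ⟨v₂, hv₂, s₂, hs₂⟩ := h₂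
    refine ⟨v₁ * v₂, P.primeCompl.mul_mem hv₁ hv₂, v₂ • s₁ + v₁ • s₂, ?_⟩
    have h1 : (v₁ * v₂) • (x₁ + x₂) - (v₂ • s₁ + v₁ • s₂) ⊗ₜ[R] (1 : Ah) =
        v₂ • (v₁ • x₁ - s₁ ⊗ₜ[R] (1 : Ah)) + v₁ • (v₂ • x₂ - s₂ ⊗ₜ[R] (1 : Ah)) := by
      rw [TensorProduct.add_tmul, ← TensorProduct.smul_tmul', ← TensorProduct.smul_tmul',
        smul_sub, smul_sub, smul_add, smul_smul, smul_smul, mul_comm v₁ v₂]
      abel
    rw [h1]
    exact Ideal.add_mem _ (hsm _ _ hs₁) (hsm _ _ hs₂)

end Key

section Main

variable (R S : Type u) [CommRing R] [CommRing S] [IsNoetherianRing R] [Algebra R S]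
  [Module.Finite R S] (P : Ideal R) [P.IsPrime]
  (N : Ideal (S ⊗[R] EGA4.Cpl (Localization.AtPrime P))) [hNmax : N.IsMaximal]

/-- a maximal ideal of `T = S ⊗ (R_P)^` lies over `P` -/
theorem comap_eq :
    N.comap (algebraMap R (S ⊗[R] EGA4.Cpl (Localization.AtPrime P))) = P := by
  let A := Localization.AtPrime P
  let Ah := EGA4.Cpl A
  let T := S ⊗[R] Ah
  letI : Algebra Ah T := Algebra.TensorProduct.rightAlgebra
  haveI : Module.Finite Ah T :=
    Module.Finite.equiv (Algebra.TensorProduct.commRight R Ah S).toLinearEquiv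
  haveI : Algebra.IsIntegral Ah T := Algebra.IsIntegral.of_finite Ah T
  haveI hmax : (N.comap (algebraMap Ah T)).IsMaximal :=
    Ideal.isMaximal_comap_of_isIntegral_of_isMaximal N
  have h1 : N.comap (algebraMap Ah T) = maximalIdeal Ah := IsLocalRing.eq_maximalIdeal hmax
  have h2 : algebraMap R T = (algebraMap Ah T).comp (algebraMap R Ah) := by
    ext r
    change algebraMap R T r = (1 : S) ⊗ₜ[R] (algebraMap R Ah r)
    rw [Algebra.TensorProduct.algebraMap_apply, Algebra.algebraMap_eq_smul_one,
      Algebra.algebraMap_eq_smul_one (A := Ah), TensorProduct.smul_tmul]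
  rw [h2, ← Ideal.comap_comap, h1, IsScalarTower.algebraMap_eq R A Ah, ← Ideal.comap_comap,
    IsLocalRing.maximalIdeal_comap]
  exact IsLocalization.AtPrime.under_maximalIdeal A P

variable (q : Ideal S) [hqp : q.IsPrime]
  (hq : q = N.comap (algebraMap S (S ⊗[R] EGA4.Cpl (Localization.AtPrime P))))

include hq in
theorem comap_q_eq : q.comap (algebraMap R S) = P := by
  rw [hq, Ideal.comap_comap, ← IsScalarTower.algebraMap_eq]
  exact comap_eq R S P N

include hq in
theorem map_P_le :
    P.map (algebraMap R (S ⊗[R] EGA4.Cpl (Localization.AtPrime P))) ≤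
      q.map (algebraMap S (S ⊗[R] EGA4.Cpl (Localization.AtPrime P))) := by
  rw [Ideal.map_le_iff_le_comap]
  intro π hπ
  rw [Ideal.mem_comap,
    IsScalarTower.algebraMap_apply R S (S ⊗[R] EGA4.Cpl (Localization.AtPrime P))]
  apply Ideal.mem_map_of_mem
  have : π ∈ q.comap (algebraMap R S) := by rw [comap_q_eq R S P N q hq]; exact hπ
  exact this

include hq in
theorem map_q_le :
    q.map (algebraMap S (S ⊗[R] EGA4.Cpl (Localization.AtPrime P))) ≤ N := by
  rw [Ideal.map_le_iff_le_comap, hq]

include hq in
/-- elements of `N` lie in `qT` up to a unit from `R ∖ P` -/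
theorem exists_smul_mem (τ : S ⊗[R] EGA4.Cpl (Localization.AtPrime P)) (hτ : τ ∈ N) :
    ∃ v ∈ P.primeCompl,
      v • τ ∈ q.map (algebraMap S (S ⊗[R] EGA4.Cpl (Localization.AtPrime P))) := by
  let T := S ⊗[R] EGA4.Cpl (Localization.AtPrime P)
  obtain ⟨v, hv, s, hs⟩ := key R S P τ
  refine ⟨v, hv, ?_⟩
  have h1 : v • τ ∈ N := by
    have h0 : v • τ = algebraMap R T v * τ := Algebra.smul_def v τ
    rw [h0]; exact Ideal.mul_mem_left _ _ hτ
  have h2 : s ⊗ₜ[R] (1 : EGA4.Cpl (Localization.AtPrime P)) ∈ N := by
    have h3 := N.sub_mem h1 (map_q_le R S P N q hq (map_P_le R S P N q hq hs))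
    simpa using h3
  have h3 : s ∈ q := by
    rw [hq, Ideal.mem_comap, Algebra.TensorProduct.algebraMap_apply]
    exact h2
  have h4 : s ⊗ₜ[R] (1 : EGA4.Cpl (Localization.AtPrime P)) ∈ q.map (algebraMap S T) := by
    have := Ideal.mem_map_of_mem (algebraMap S T) h3
    rwa [Algebra.TensorProduct.algebraMap_apply] at this
  have h5 := Ideal.add_mem _ (map_P_le R S P N q hq hs) h4
  simpa using h5

end Main

section Equiv

variable (R S : Type u) [CommRing R] [CommRing S] [IsNoetherianRing R] [Algebra R S]
  [Module.Finite R S] (P : Ideal R) [P.IsPrime]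
  (N : Ideal (S ⊗[R] EGA4.Cpl (Localization.AtPrime P))) [hNmax : N.IsMaximal]
  (q : Ideal S) [hqp : q.IsPrime]
  (hq : q = N.comap (algebraMap S (S ⊗[R] EGA4.Cpl (Localization.AtPrime P))))

set_option maxSynthPendingDepth 3 in
include hq in
/-- **the localization of `T = S ⊗ (R_P)^` at a maximal ideal is the completion of `S_q`** -/
theorem exists_ringEquiv :
    ∃ e : Localization.AtPrime N ≃+* EGA4.Cpl (Localization.AtPrime q),
      ∀ s : S, e (algebraMap S (Localization.AtPrime N) s) =
        algebraMap S (EGA4.Cpl (Localization.AtPrime q)) s := by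
  let A := Localization.AtPrime P
  let Ah := EGA4.Cpl A
  let T := S ⊗[R] Ah
  let B := Localization.AtPrime q
  let C := Localization.AtPrime N
  haveI : IsNoetherianRing S := IsNoetherianRing.of_finite R S
  haveI hNAh : IsNoetherianRing Ah :=
    Groth.Agent.Helper1.isNoetherianRing_adicCompletion_of_fg A (maximalIdeal A)
      (IsNoetherian.noetherian _)
  letI algAhT : Algebra Ah T := Algebra.TensorProduct.rightAlgebra
  haveI : Module.Finite Ah T :=
    Module.Finite.equiv (Algebra.TensorProduct.commRight R Ah S).toLinearEquiv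
  haveI : IsNoetherianRing T := IsNoetherianRing.of_finite Ah T
  haveI hCloc : IsLocalRing (Localization.AtPrime N) := inferInstance
  have hCcompl0 := Groth.Agent.Helper7.QFReg.isAdicComplete_localization_of_finite Ah T N
  haveI hCcompl : @IsAdicComplete (Localization.AtPrime N) _ (maximalIdeal (Localization.AtPrime N)) (Localization.AtPrime N) _ _ :=
    hCcompl0
  letI algBC : Algebra B C := (Localization.localRingHom q N (algebraMap S T) hq).toAlgebra
  haveI towSBC : IsScalarTower S B C := IsScalarTower.of_algebraMap_eq (fun x => by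
    rw [IsScalarTower.algebraMap_apply S T C]
    exact (Localization.localRingHom_to_map _ _ _ hq x).symm)
  haveI hlocBC : IsLocalHom (algebraMap B C) :=
    Localization.isLocalHom_localRingHom q N (algebraMap S T) hq
  haveI : Module.Flat R Ah := Module.Flat.trans R A Ah
  haveI : Module.Flat S T := inferInstance
  haveI : Module.Flat B C := by
    have hf : (algebraMap S T).Flat := RingHom.flat_algebraMap_iff.mpr inferInstance
    exact RingHom.flat_algebraMap_iff.mp (hf.localRingHom N q hq)
  haveI : IsNoetherianRing B := IsLocalization.isNoetherianRing q.primeCompl B inferInstance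
  haveI : IsNoetherianRing C := IsLocalization.isNoetherianRing N.primeCompl C inferInstance
  have hPN : N.comap (algebraMap R T) = P := comap_eq R S P N
  -- units coming from `R ∖ P`
  have hunit : ∀ v ∈ P.primeCompl, IsUnit (algebraMap R C v) := by
    intro v hv
    rw [IsScalarTower.algebraMap_apply R T C]
    apply IsLocalization.map_units C (⟨algebraMap R T v, ?_⟩ : N.primeCompl)
    intro hmem
    apply hv
    rw [← hPN]
    exact hmem
  -- (d) the maximal ideal of `C` is generated by the maximal ideal of `B`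
  have hmB : q.map (algebraMap S B) = maximalIdeal B := Localization.AtPrime.map_eq_maximalIdeal
  have hmC : N.map (algebraMap T C) = maximalIdeal C := Localization.AtPrime.map_eq_maximalIdeal
  have hmapq : (maximalIdeal B).map (algebraMap B C) = q.map (algebraMap S C) := by
    rw [← hmB, Ideal.map_map, ← IsScalarTower.algebraMap_eq S B C]
  have hd : maximalIdeal C = (maximalIdeal B).map (algebraMap B C) := by
    apply le_antisymm
    · rw [← hmC, Ideal.map_le_iff_le_comap]
      intro τ hτ
      obtain ⟨v, hv, hvτ⟩ := exists_smul_mem R S P N q hq τ hτ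
      rw [Ideal.mem_comap, hmapq]
      have h1 : algebraMap T C (v • τ) ∈ q.map (algebraMap S C) := by
        rw [IsScalarTower.algebraMap_eq S T C, ← Ideal.map_map]
        exact Ideal.mem_map_of_mem _ hvτ
      have h2 : algebraMap T C (v • τ) = algebraMap R C v * algebraMap T C τ := by
        have h0 : v • τ = algebraMap R T v * τ := Algebra.smul_def v τ
        rw [h0, map_mul, ← IsScalarTower.algebraMap_apply R T C]
      rw [h2] at h1
      exact (Ideal.unit_mul_mem_iff_mem _ (hunit v hv)).mp h1
    · exact ((IsLocalRing.local_hom_TFAE (algebraMap B C)).out 0 2).mp hlocBC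
  -- (e) residue fields
  have he : ∀ c : C, ∃ b : B, c - algebraMap B C b ∈ maximalIdeal C := by
    intro c
    obtain ⟨τ', hτ'⟩ := (IsLocalization.AtPrime.equivQuotMaximalIdeal N C).surjective
      (Ideal.Quotient.mk _ c)
    obtain ⟨τ, rfl⟩ := Ideal.Quotient.mk_surjective τ'
    rw [IsLocalization.AtPrime.equivQuotMaximalIdeal_apply_mk, Ideal.Quotient.eq] at hτ'
    obtain ⟨v, hv, s, hs⟩ := key R S P τ
    have hvq : algebraMap R S v ∈ q.primeCompl := by
      intro hmem
      apply hv
      rw [← comap_q_eq R S P N q hq]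
      exact hmem
    refine ⟨IsLocalization.mk' B s (⟨algebraMap R S v, hvq⟩ : q.primeCompl), ?_⟩
    have h1 : algebraMap T C τ - algebraMap B C
        (IsLocalization.mk' B s (⟨algebraMap R S v, hvq⟩ : q.primeCompl)) ∈ maximalIdeal C := by
      have h2 : algebraMap R C v * (algebraMap T C τ - algebraMap B C
          (IsLocalization.mk' B s (⟨algebraMap R S v, hvq⟩ : q.primeCompl))) =
          algebraMap T C (v • τ - s ⊗ₜ[R] (1 : Ah)) := by
        have h0 : v • τ = algebraMap R T v * τ := Algebra.smul_def v τ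
        have hX : algebraMap T C (v • τ) = algebraMap R C v * algebraMap T C τ := by
          rw [h0, map_mul, ← IsScalarTower.algebraMap_apply R T C]
        have h3 : algebraMap R C v = algebraMap B C (algebraMap S B (algebraMap R S v)) := by
          rw [← IsScalarTower.algebraMap_apply S B C, ← IsScalarTower.algebraMap_apply R S C]
        have h4' : algebraMap S B (algebraMap R S v) *
            IsLocalization.mk' B s (⟨algebraMap R S v, hvq⟩ : q.primeCompl) = algebraMap S B s :=
          IsLocalization.mk'_spec' B s (⟨algebraMap R S v, hvq⟩ : q.primeCompl)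
        have hY : algebraMap R C v * algebraMap B C
            (IsLocalization.mk' B s (⟨algebraMap R S v, hvq⟩ : q.primeCompl)) =
            algebraMap S C s := by
          rw [h3, ← map_mul, h4', ← IsScalarTower.algebraMap_apply S B C]
        have hZ : algebraMap T C (v • τ - s ⊗ₜ[R] (1 : Ah)) =
            algebraMap T C (v • τ) - algebraMap S C s := by
          rw [map_sub, IsScalarTower.algebraMap_apply S T C,
            Algebra.TensorProduct.algebraMap_apply]
          rfl
        rw [hZ, hX, ← hY]
        ring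
      have h5 : algebraMap T C (v • τ - s ⊗ₜ[R] (1 : Ah)) ∈ maximalIdeal C := by
        rw [← hmC]
        exact Ideal.mem_map_of_mem _
          (map_q_le R S P N q hq (map_P_le R S P N q hq hs))
      rw [← h2] at h5
      exact (Ideal.unit_mul_mem_iff_mem _ (hunit v hv)).mp h5
    have : c - algebraMap B C (IsLocalization.mk' B s (⟨algebraMap R S v, hvq⟩ : q.primeCompl)) =
        (algebraMap T C τ - algebraMap B C
          (IsLocalization.mk' B s (⟨algebraMap R S v, hvq⟩ : q.primeCompl))) -
        (algebraMap T C τ - c) := by ring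
    rw [this]
    exact Ideal.sub_mem _ h1 hτ'
  -- the completions
  obtain ⟨alg, htower, hff⟩ := Groth.Agent.Helper7.CplFlat.exists_cplAlgebra B C
  letI := alg
  haveI := hff
  let Bh := EGA4.Cpl B
  let Ch := EGA4.Cpl C
  let f : Bh →+* Ch := algebraMap Bh Ch
  have hfinj : Function.Injective f := FaithfulSMul.algebraMap_injective Bh Ch
  have hfof : ∀ b : B, f (algebraMap B Bh b) = algebraMap C Ch (algebraMap B C b) := by
    intro b
    change algebraMap Bh Ch (algebraMap B Bh b) = _
    rw [← IsScalarTower.algebraMap_apply B Bh Ch, IsScalarTower.algebraMap_apply B C Ch]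
  have hmBh : maximalIdeal Bh = (maximalIdeal B).map (algebraMap B Bh) :=
    AdicCompletion.maximalIdeal_eq_map
  have hmCh : maximalIdeal Ch = (maximalIdeal C).map (algebraMap C Ch) :=
    AdicCompletion.maximalIdeal_eq_map
  have hmapf : (maximalIdeal Bh).map f = maximalIdeal Ch := by
    have h0 : (maximalIdeal C).map (algebraMap C Ch) =
        ((maximalIdeal B).map (algebraMap B C)).map (algebraMap C Ch) :=
      congrArg (Ideal.map (algebraMap C Ch)) hd
    rw [hmBh, hmCh, h0, Ideal.map_map, Ideal.map_map]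
    congr 1
    exact RingHom.ext (fun b => hfof b)
  have hfsurj : Function.Surjective f := by
    haveI : IsPrecomplete (maximalIdeal Bh) Bh := inferInstance
    haveI haus : IsHausdorff ((maximalIdeal Bh).map f) Ch := by
      rw [hmapf]; infer_instance
    apply surjective_of_mk_map_comp_surjective (I := maximalIdeal Bh) f
    intro y'
    obtain ⟨y, rfl⟩ := Ideal.Quotient.mk_surjective y'
    obtain ⟨c, rfl⟩ := AdicCompletion.of_surjective (maximalIdeal C) C y
    obtain ⟨b, hb⟩ := he c
    refine ⟨algebraMap B Bh b, ?_⟩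
    rw [RingHom.comp_apply, Ideal.Quotient.eq, hfof, hmapf, hmCh]
    have h1 : algebraMap C Ch (algebraMap B C b) - AdicCompletion.of (maximalIdeal C) C c =
        algebraMap C Ch (algebraMap B C b - c) := by
      rw [map_sub, AdicCompletion.algebraMap_apply, AdicCompletion.algebraMap_apply,
        Algebra.algebraMap_self, RingHom.id_apply, RingHom.id_apply]
    rw [h1]
    apply Ideal.mem_map_of_mem
    have : algebraMap B C b - c = -(c - algebraMap B C b) := by ring
    rw [this]
    exact Ideal.neg_mem_iff _ |>.mpr hb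
  let e1 : Bh ≃+* Ch := RingEquiv.ofBijective f ⟨hfinj, hfsurj⟩
  let e2 : C ≃+* Ch := (AdicCompletion.ofAlgEquiv (maximalIdeal C)).toRingEquiv
  refine ⟨e2.trans e1.symm, fun s => ?_⟩
  rw [RingEquiv.trans_apply, RingEquiv.symm_apply_eq]
  change AdicCompletion.of (maximalIdeal C) C (algebraMap S C s) =
    f (algebraMap S Bh s)
  rw [IsScalarTower.algebraMap_apply S B Bh, hfof, ← IsScalarTower.algebraMap_apply S B C,
    AdicCompletion.algebraMap_apply, Algebra.algebraMap_self, RingHom.id_apply]

end Equiv

end Groth.Agent.Helper7.CplFin
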