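import Mathlib
import Groth.Agent.Lib.Helper1.LocalFlat

/-!
# Exactness of a complex of finite flat modules from exactness modulo the maximal ideal (helper7)
-/

set_option autoImplicit false
universe u

namespace Groth.Agent.Helper7.CxMod

open TensorProduct Function IsLocalRing CategoryTheory

section Mod

variable {R S : Type u} [CommRing R] [CommRing S] [IsLocalRing R] [IsLocalRing S]
  [IsNoetherianRing S] [Algebra R S] [IsLocalHom (algebraMap R S)]

theorem step {F2 F1 F0 : Type u} [AddCommGroup F2] [Module S F2]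
    [AddCommGroup F1] [Module S F1] [Module R F1] [IsScalarTower R S F1] [Module.Finite S F1]
    [AddCommGroup F0] [Module S F0] [Module R F0] [IsScalarTower R S F0] [Module.Flat R F0]
    (d2 : F2 →ₗ[S] F1) (d1 : F1 →ₗ[S] F0) (h0 : ∀ x, d1 (d2 x) = 0)
    (hex : ∀ y : F1, d1 y ∈ (maximalIdeal R).map (algebraMap R S) • (⊤ : Submodule S F0) →
      y ∈ (maximalIdeal R).map (algebraMap R S) • (⊤ : Submodule S F1) ⊔ LinearMap.range d2) :
    (∀ y, d1 y = 0 → y ∈ LinearMap.range d2) ∧ Module.Flat R (F0 ⧸ LinearMap.range d1) := by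
  have hle : LinearMap.range d2 ≤ LinearMap.ker d1 := by
    rintro _ ⟨x, rfl⟩
    exact h0 x
  let u : (F1 ⧸ LinearMap.range d2) →ₗ[S] F0 := (LinearMap.range d2).liftQ d1 hle
  let u' : (F1 ⧸ LinearMap.range d2) →ₗ[R] F0 := u.restrictScalars R
  have hsm0 : ((maximalIdeal R).map (algebraMap R S) • (⊤ : Submodule S F0)).restrictScalars R =
      maximalIdeal R • (⊤ : Submodule R F0) := by
    rw [Ideal.smul_restrictScalars, Submodule.restrictScalars_top]
  have hsm1 : ((maximalIdeal R).map (algebraMap R S) •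
      (⊤ : Submodule S (F1 ⧸ LinearMap.range d2))).restrictScalars R =
      maximalIdeal R • (⊤ : Submodule R (F1 ⧸ LinearMap.range d2)) := by
    rw [Ideal.smul_restrictScalars, Submodule.restrictScalars_top]
  have helem : ∀ x : F1 ⧸ LinearMap.range d2, u' x ∈ maximalIdeal R • (⊤ : Submodule R F0) →
      x ∈ maximalIdeal R • (⊤ : Submodule R (F1 ⧸ LinearMap.range d2)) := by
    intro x hx
    obtain ⟨y, rfl⟩ := Submodule.Quotient.mk_surjective _ x
    rw [← hsm0] at hx
    rw [← hsm1]
    have hy := hex y hx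
    obtain ⟨a, ha, b, hb, rfl⟩ := Submodule.mem_sup.mp hy
    show Submodule.Quotient.mk (a + b) ∈
      (maximalIdeal R).map (algebraMap R S) • (⊤ : Submodule S (F1 ⧸ LinearMap.range d2))
    rw [Submodule.Quotient.mk_add, (Submodule.Quotient.mk_eq_zero _).mpr hb, add_zero]
    have : (LinearMap.range d2).mkQ a ∈ ((maximalIdeal R).map (algebraMap R S) •
        (⊤ : Submodule S F1)).map (LinearMap.range d2).mkQ := Submodule.mem_map_of_mem ha
    rw [Submodule.map_smul'', Submodule.map_top, Submodule.range_mkQ] at this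
    exact this
  have hinj : Injective (u'.lTensor (ResidueField R)) :=
    (Groth.Agent.Helper1.lTensor_quotient_injective_iff u' (maximalIdeal R)).mpr helem
  have h1 : Injective u' := Groth.Agent.Helper1.injective_of_injective_residueField S u' hinj
  have h2 : Module.Flat R (F0 ⧸ LinearMap.range u') :=
    Groth.Agent.Helper1.flat_quotient_range_of_injective_residueField S u' hinj
  refine ⟨fun y hy => ?_, ?_⟩
  · have : u' (Submodule.Quotient.mk y) = 0 := hy
    have := h1 (this.trans (map_zero u').symm)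
    exact (Submodule.Quotient.mk_eq_zero _).mp this
  · have hr : LinearMap.range u' = (LinearMap.range d1).restrictScalars R := by
      ext z
      constructor
      · rintro ⟨x, rfl⟩
        obtain ⟨y, rfl⟩ := Submodule.Quotient.mk_surjective _ x
        exact ⟨y, rfl⟩
      · rintro ⟨y, rfl⟩
        exact ⟨Submodule.Quotient.mk y, rfl⟩
    rw [hr] at h2
    exact Module.Flat.of_linearEquiv
      ((Submodule.Quotient.restrictScalarsEquiv R (LinearMap.range d1)).symm)

end Mod

section Cx

open MonoidalCategory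

variable {S : Type u} [CommRing S]

theorem crit (C : ChainComplex (ModuleCat.{u} S) ℕ) (J : Ideal S) (i : ℕ)
    (hex : (((tensorLeft (ModuleCat.of S (S ⧸ J))).mapHomologicalComplex
      (ComplexShape.down ℕ)).obj C).ExactAt (i + 1)) :
    ∀ y : C.X (i + 1), (C.d (i + 1) i).hom y ∈ J • (⊤ : Submodule S (C.X i)) →
      y ∈ J • (⊤ : Submodule S (C.X (i + 1))) ⊔ LinearMap.range (C.d (i + 2) (i + 1)).hom := by
  intro y hy
  rw [HomologicalComplex.exactAt_iff' _ (i + 2) (i + 1) i (by simp) (by simp)] at hex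
  rw [ShortComplex.moduleCat_exact_iff] at hex
  have h1 := hex ((1 : S ⧸ J) ⊗ₜ[S] y) (by
    show (ModuleCat.Hom.hom (ModuleCat.of S (S ⧸ J) ◁ C.d (i + 1) i)) ((1 : S ⧸ J) ⊗ₜ[S] y) = 0
    rw [ModuleCat.MonoidalCategory.whiskerLeft_apply]
    exact (Groth.Agent.Helper1.one_tmul_eq_zero_iff J _).mpr hy)
  obtain ⟨w, hw⟩ := h1
  obtain ⟨w', rfl⟩ := Groth.Agent.Helper1.exists_one_tmul_eq J w
  replace hw : (ModuleCat.Hom.hom (ModuleCat.of S (S ⧸ J) ◁ C.d (i + 2) (i + 1)))
      ((1 : S ⧸ J) ⊗ₜ[S] w') = (1 : S ⧸ J) ⊗ₜ[S] y := hw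
  rw [ModuleCat.MonoidalCategory.whiskerLeft_apply] at hw
  have h2 : (1 : S ⧸ J) ⊗ₜ[S] (y - (C.d (i + 2) (i + 1)).hom w') = 0 := by
    rw [tmul_sub, sub_eq_zero]
    exact hw.symm
  rw [Groth.Agent.Helper1.one_tmul_eq_zero_iff] at h2
  have : y = (y - (C.d (i + 2) (i + 1)).hom w') + (C.d (i + 2) (i + 1)).hom w' := by abel
  rw [this]
  exact Submodule.add_mem_sup h2 ⟨w', rfl⟩

/-- `opcycles` as a quotient module -/
noncomputable def opcyclesIsoQuot (K : ChainComplex (ModuleCat.{u} S) ℕ) :
    K.opcycles 0 ≅ ModuleCat.of S (K.X 0 ⧸ LinearMap.range (K.d 1 0).hom) :=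
  (Limits.IsColimit.coconePointUniqueUpToIso (K.opcyclesIsCokernel 1 0 (by simp))
    (Limits.colimit.isColimit _)) ≪≫ ModuleCat.cokernelIsoRangeQuotient _

end Cx

section Main

open MonoidalCategory

theorem main {R S : Type u} [CommRing R] [CommRing S]
    [IsLocalRing R] [IsLocalRing S] [IsNoetherianRing S] [Algebra R S]
    [IsLocalHom (algebraMap R S)] (C : ChainComplex (ModuleCat.{u} S) ℕ) (e : ℕ)
    (hzero : ∀ j, e < j → Limits.IsZero (C.X j)) (hfin : ∀ j, Module.Finite S (C.X j))
    (hflat : ∀ j, Module.Flat R ((ModuleCat.restrictScalars (algebraMap R S)).obj (C.X j)))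
    (hex : ∀ j, 1 ≤ j → j ≤ e →
      (((tensorLeft
          (ModuleCat.of S (S ⧸ (IsLocalRing.maximalIdeal R).map (algebraMap R S)))).mapHomologicalComplex
          (ComplexShape.down ℕ)).obj C).ExactAt j) :
    (∀ j, 1 ≤ j → j ≤ e → C.ExactAt j) ∧
      Module.Flat R ((ModuleCat.restrictScalars (algebraMap R S)).obj (C.homology 0)) := by
  let instM : ∀ i, Module R (C.X i) := fun i => Module.compHom (C.X i) (algebraMap R S)
  have instT : ∀ i, IsScalarTower R S (C.X i) := fun i => IsScalarTower.of_compHom R S (C.X i)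
  have hflat' : ∀ i, Module.Flat R (C.X i) := fun i => hflat i
  have := hfin
  have hcrit : ∀ i, ∀ y : C.X (i + 1), (C.d (i + 1) i).hom y ∈
      (maximalIdeal R).map (algebraMap R S) • (⊤ : Submodule S (C.X i)) →
      y ∈ (maximalIdeal R).map (algebraMap R S) • (⊤ : Submodule S (C.X (i + 1))) ⊔
        LinearMap.range (C.d (i + 2) (i + 1)).hom := by
    intro i
    by_cases hi : i + 1 ≤ e
    · exact crit C _ i (hex (i + 1) (by omega) hi)
    · intro y _
      have := ModuleCat.subsingleton_of_isZero (hzero (i + 1) (by omega))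
      rw [Subsingleton.elim y 0]
      exact zero_mem _
  have hstep : ∀ i, (∀ y, (C.d (i + 1) i).hom y = 0 → y ∈ LinearMap.range (C.d (i + 2) (i + 1)).hom) ∧
      Module.Flat R (C.X i ⧸ LinearMap.range (C.d (i + 1) i).hom) := by
    intro i
    refine step (R := R) (S := S) (C.d (i + 2) (i + 1)).hom (C.d (i + 1) i).hom ?_ (hcrit i)
    intro x
    have := C.d_comp_d (i + 2) (i + 1) i
    exact congrArg (fun f => f.hom x) this
  refine ⟨fun j hj1 hje => ?_, ?_⟩
  · obtain ⟨i, rfl⟩ : ∃ i, j = i + 1 := ⟨j - 1, by omega⟩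
    rw [HomologicalComplex.exactAt_iff' _ (i + 2) (i + 1) i (by simp) (by simp),
      ShortComplex.moduleCat_exact_iff]
    intro y hy
    exact (hstep i).1 y hy
  · have h0 := (hstep 0).2
    let e1 : C.homology 0 ≅ ModuleCat.of S (C.X 0 ⧸ LinearMap.range (C.d 1 0).hom) :=
      C.isoHomologyι₀ ≪≫ opcyclesIsoQuot C
    let e2 : (C.homology 0) ≃ₗ[S] (C.X 0 ⧸ LinearMap.range (C.d 1 0).hom) := e1.toLinearEquiv
    let _ : Module R (C.homology 0) := Module.compHom _ (algebraMap R S)
    have : IsScalarTower R S (C.homology 0) := IsScalarTower.of_compHom R S _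
    show Module.Flat R (C.homology 0)
    exact Module.Flat.of_linearEquiv (e2.restrictScalars R)

end Main

end Groth.Agent.Helper7.CxMod
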