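import Mathlib
import Groth.Agent.Lib.Helper18.Schl.Chevalley
import Groth.Agent.Lib.Helper3.IntHensel
import Groth.Agent.Lib.Helper5.FinComplete
import Groth.Agent.Lib.Helper7.ComplN2
import Groth.Agent.Lib.Helper7.ComplJap

/-!
# Helper7: finite discrete valuation quotients of a complete reduced local ring approximate the
adic topology (S3450)
-/

universe u
namespace Groth.Agent.Helper7.DVRApprox
open IsLocalRing

set_option linter.style.haveILetI false
set_option linter.unusedSectionVars false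

section Chevalley

variable (A : Type u) [CommRing A] [IsLocalRing A] [IsNoetherianRing A]

theorem isArtinianRing_quot_pow (N : ℕ) : IsArtinianRing (A ⧸ maximalIdeal A ^ N) := by
  by_cases hN : N = 0
  · subst hN
    haveI : Subsingleton (A ⧸ maximalIdeal A ^ 0) := by
      rw [pow_zero, Ideal.one_eq_top]
      exact Ideal.Quotient.subsingleton_iff.mpr rfl
    infer_instance
  · haveI : IsNoetherianRing (A ⧸ maximalIdeal A ^ N) := inferInstance
    haveI : Nontrivial (A ⧸ maximalIdeal A ^ N) := by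
      apply Ideal.Quotient.nontrivial_iff.mpr
      intro h
      have h1 : maximalIdeal A ^ N ≤ maximalIdeal A := Ideal.pow_le_self hN
      rw [h] at h1
      exact (maximalIdeal.isMaximal A).ne_top (top_le_iff.mp h1)
    haveI : IsLocalRing (A ⧸ maximalIdeal A ^ N) :=
      IsLocalRing.of_surjective' (Ideal.Quotient.mk _) Ideal.Quotient.mk_surjective
    rw [isArtinianRing_iff_isNilpotent_maximalIdeal]
    refine ⟨N, ?_⟩
    rw [← IsLocalRing.map_maximalIdeal_of_surjective (Ideal.Quotient.mk (maximalIdeal A ^ N))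
      Ideal.Quotient.mk_surjective, ← Ideal.map_pow, Ideal.zero_eq_bot]
    exact Ideal.map_quotient_self _

/-- Chevalley's lemma for a directed family of ideals. -/
theorem chevalley_directed [IsAdicComplete (maximalIdeal A) A]
    (𝔍 : Set (Ideal A)) (hne : 𝔍.Nonempty)
    (hdir : ∀ J₁ ∈ 𝔍, ∀ J₂ ∈ 𝔍, ∃ J ∈ 𝔍, J ≤ J₁ ⊓ J₂) (hbot : sInf 𝔍 = ⊥) (n : ℕ) :
    ∃ J ∈ 𝔍, J ≤ maximalIdeal A ^ n := by
  classical
  set m := maximalIdeal A with hm
  by_contra hcon
  simp only [not_exists, not_and] at hcon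
  -- stabilisation modulo `m ^ N`
  have hstab : ∀ N : ℕ, ∃ J₀ ∈ 𝔍, ∀ J ∈ 𝔍, J₀ ⊔ m ^ N ≤ J ⊔ m ^ N := by
    intro N
    haveI := isArtinianRing_quot_pow A N
    let S : Set (Ideal (A ⧸ m ^ N)) := (fun J : Ideal A => J.map (Ideal.Quotient.mk (m ^ N))) '' 𝔍
    have hS : S.Nonempty := hne.image _
    obtain ⟨I₀, ⟨J₀, hJ₀, rfl⟩, hmin⟩ :=
      (wellFounded_lt (α := Ideal (A ⧸ m ^ N))).has_min S hS
    refine ⟨J₀, hJ₀, fun J hJ => ?_⟩
    obtain ⟨J', hJ', hJ'le⟩ := hdir J₀ hJ₀ J hJ
    have h1 : J'.map (Ideal.Quotient.mk (m ^ N)) ≤ J₀.map (Ideal.Quotient.mk (m ^ N)) :=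
      Ideal.map_mono (hJ'le.trans inf_le_left)
    have h2 : ¬ J'.map (Ideal.Quotient.mk (m ^ N)) < J₀.map (Ideal.Quotient.mk (m ^ N)) :=
      hmin _ ⟨J', hJ', rfl⟩
    have h3 : J₀.map (Ideal.Quotient.mk (m ^ N)) = J'.map (Ideal.Quotient.mk (m ^ N)) := by
      by_contra hne'
      exact h2 (lt_of_le_of_ne h1 (Ne.symm hne'))
    have h4 : J₀.map (Ideal.Quotient.mk (m ^ N)) ≤ J.map (Ideal.Quotient.mk (m ^ N)) := by
      rw [h3]
      exact Ideal.map_mono (hJ'le.trans inf_le_right)
    have h5 := Ideal.comap_mono (f := Ideal.Quotient.mk (m ^ N)) h4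
    rw [Ideal.comap_map_of_surjective _ Ideal.Quotient.mk_surjective,
      Ideal.comap_map_of_surjective _ Ideal.Quotient.mk_surjective, ← RingHom.ker_eq_comap_bot,
      Ideal.mk_ker] at h5
    exact h5
  choose Jc hJc hJcmin using hstab
  let I : ℕ → Ideal A := fun N => Jc N ⊔ m ^ N
  have hI1 : ∀ N, ∀ J ∈ 𝔍, I N ≤ J ⊔ m ^ N := fun N J hJ => hJcmin N J hJ
  have hI3 : ∀ N, I N ≤ I (N + 1) ⊔ m ^ N := by
    intro N
    refine (hI1 N (Jc (N + 1)) (hJc (N + 1))).trans ?_
    exact sup_le_sup_right le_sup_left _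
  -- the sequence
  have hstep : ∀ k : ℕ, ∀ x ∈ I (n + k), ∃ y ∈ I (n + k + 1), y - x ∈ m ^ (n + k) := by
    intro k x hx
    obtain ⟨y, hy, z, hz, hyz⟩ := Submodule.mem_sup.mp (hI3 (n + k) hx)
    refine ⟨y, hy, ?_⟩
    have : y - x = -z := by rw [← hyz]; ring
    rw [this]
    exact (m ^ (n + k)).neg_mem hz
  obtain ⟨x₀, hx₀J, hx₀⟩ : ∃ x₀ ∈ Jc n, x₀ ∉ m ^ n := by
    have := hcon (Jc n) (hJc n)
    exact Set.not_subset.mp this
  have hx₀I : x₀ ∈ I (n + 0) := Submodule.mem_sup_left hx₀J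
  let seq : (k : ℕ) → {x : A // x ∈ I (n + k)} := fun k =>
    Nat.rec ⟨x₀, hx₀I⟩ (fun k x => ⟨(hstep k x.1 x.2).choose, (hstep k x.1 x.2).choose_spec.1⟩) k
  have hseq : ∀ k, ((seq (k + 1)).1 - (seq k).1) ∈ m ^ (n + k) := fun k =>
    (hstep k (seq k).1 (seq k).2).choose_spec.2
  let f : ℕ → A := fun k => (seq k).1
  have hf0 : f 0 = x₀ := rfl
  have hfI : ∀ k, f k ∈ I (n + k) := fun k => (seq k).2
  have htel : ∀ k l, k ≤ l → f l - f k ∈ m ^ (n + k) := by
    intro k l hkl
    induction l, hkl using Nat.le_induction with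
    | base => rw [sub_self]; exact Ideal.zero_mem _
    | succ l hkl ih =>
      have h1 : f (l + 1) - f k = (f (l + 1) - f l) + (f l - f k) := by ring
      rw [h1]
      exact Ideal.add_mem _ (Ideal.pow_le_pow_right (by omega) (hseq l)) ih
  have hcauchy : ∀ {a b : ℕ}, a ≤ b → f a ≡ f b [SMOD (m ^ a • ⊤ : Submodule A A)] := by
    intro a b hab
    rw [SModEq.sub_mem, smul_eq_mul, Ideal.mul_top]
    have h1 := htel a b hab
    have h2 : f a - f b = -(f b - f a) := by ring
    rw [h2]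
    exact Submodule.neg_mem _ (Ideal.pow_le_pow_right (by omega) h1)
  obtain ⟨x, hx⟩ := IsPrecomplete.prec' (I := m) (M := A) f hcauchy
  have hxf : ∀ k, x - f k ∈ m ^ k := by
    intro k
    have h1 := hx k
    rw [SModEq.sub_mem, smul_eq_mul, Ideal.mul_top] at h1
    have h2 : x - f k = -(f k - x) := by ring
    rw [h2]
    exact Submodule.neg_mem _ h1
  -- `x ∉ m ^ n`
  have hxn : x ∉ m ^ n := by
    intro hmem
    have h1 : f n - f 0 ∈ m ^ n := by
      have := htel 0 n (Nat.zero_le _)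
      simpa using this
    have h2 : x₀ = x - (x - f n) - (f n - f 0) := by rw [hf0]; ring
    rw [h2] at hx₀
    exact hx₀ (Ideal.sub_mem _ (Ideal.sub_mem _ hmem (hxf n)) h1)
  -- `x` lies in every member of the family
  have hxJ : ∀ J ∈ 𝔍, x ∈ J := by
    intro J hJ
    apply Groth.Agent.Helper18.mem_of_forall_mem_sup_pow J x
    intro N
    have h1 : f N ∈ J ⊔ m ^ N := by
      have h2 := hI1 (n + N) J hJ (hfI N)
      exact (sup_le_sup_left (Ideal.pow_le_pow_right (by omega)) J) h2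
    have h3 : x = f N + (x - f N) := by ring
    rw [h3]
    exact Ideal.add_mem _ h1 (Submodule.mem_sup_right (hxf N))
  have hx0 : x ∈ sInf 𝔍 := by
    rw [Ideal.mem_sInf]
    intro J hJ
    exact hxJ J hJ
  rw [hbot, Ideal.mem_bot] at hx0
  rw [hx0] at hxn
  exact hxn (Ideal.zero_mem _)

end Chevalley

section Curve

/-- in a Noetherian local domain having a prime strictly between `0` and the maximal ideal, every
nonzero element is avoided by some prime different from `0` and from the maximal ideal -/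
theorem exists_prime_not_mem (D : Type u) [CommRing D] [IsDomain D] [IsLocalRing D]
    [IsNoetherianRing D] (P : Ideal D) [hP : P.IsPrime] (hP0 : P ≠ ⊥) (hPm : P ≠ maximalIdeal D)
    (x : D) (hx : x ≠ 0) :
    ∃ P' : Ideal D, P'.IsPrime ∧ P' ≠ ⊥ ∧ P' ≠ maximalIdeal D ∧ x ∉ P' := by
  classical
  by_contra hcon
  simp only [not_exists, not_and, not_not] at hcon
  set m := maximalIdeal D with hm
  -- height of `m` is at least two
  have hbot : (⊥ : Ideal D).IsPrime := Ideal.isPrime_bot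
  have h1 : (⊥ : Ideal D).height < P.height :=
    Ideal.height_strict_mono_of_isPrime (bot_lt_iff_ne_bot.mpr hP0)
  have h2 : P.height < m.height :=
    Ideal.height_strict_mono_of_isPrime (lt_of_le_of_ne (le_maximalIdeal hP.ne_top) hPm)
  have hm2 : (2 : ℕ∞) ≤ m.height := by
    have h3 : (1 : ℕ∞) ≤ P.height := Order.one_le_iff_pos.mpr (lt_of_le_of_lt bot_le h1)
    have h4 : P.height + 1 ≤ m.height := Order.add_one_le_of_lt h2
    calc (2 : ℕ∞) = 1 + 1 := by norm_num
      _ ≤ P.height + 1 := by gcongr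
      _ ≤ m.height := h4
  -- minimal primes over principal ideals are not `m`
  have hne_m : ∀ (y : D) (Q : Ideal D), Q ∈ (Ideal.span {y}).minimalPrimes → Q ≠ m := by
    intro y Q hQ hQm
    have h5 : Q.height ≤ 1 := Ideal.height_le_one_of_isPrincipal_of_mem_minimalPrimes _ Q hQ
    rw [hQm] at h5
    have : (2 : ℕ∞) ≤ 1 := hm2.trans h5
    norm_num at this
  have hne_bot : ∀ (y : D), y ≠ 0 → ∀ Q : Ideal D, Q ∈ (Ideal.span {y}).minimalPrimes → Q ≠ ⊥ := by
    intro y hy Q hQ hQ0
    have : y ∈ Q := hQ.1.2 (Ideal.subset_span rfl)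
    rw [hQ0, Ideal.mem_bot] at this
    exact hy this
  have hfin : (Ideal.span {x}).minimalPrimes.Finite :=
    Ideal.finite_minimalPrimes_of_isNoetherianRing D _
  -- prime avoidance
  have havoid : ¬ ((m : Set D) ⊆ ⋃ Q ∈ (hfin.toFinset : Set (Ideal D)), (Q : Set D)) := by
    intro hsub
    rw [Ideal.subset_union_prime (s := hfin.toFinset) (f := fun Q => Q) ⊥ ⊥
      (fun Q hQ _ _ => ((Set.Finite.mem_toFinset hfin).mp hQ).1.1)] at hsub
    obtain ⟨Q, hQ, hmQ⟩ := hsub
    have hQ' := (Set.Finite.mem_toFinset hfin).mp hQ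
    have : Q = m := ((maximalIdeal.isMaximal D).eq_of_le hQ'.1.1.ne_top hmQ).symm
    exact hne_m x Q hQ' this
  obtain ⟨y, hym, hyQ⟩ := Set.not_subset.mp havoid
  have hyQ' : ∀ Q ∈ (Ideal.span {x}).minimalPrimes, y ∉ Q := by
    intro Q hQ hy
    apply hyQ
    simp only [Set.mem_iUnion]
    exact ⟨Q, by simpa using hQ, hy⟩
  have hy0 : y ≠ 0 := by
    intro h0
    obtain ⟨Q, hQ⟩ : (Ideal.span {x}).minimalPrimes.Nonempty := by
      rw [Set.nonempty_iff_ne_empty, Ne, Ideal.minimalPrimes_eq_empty_iff]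
      intro htop
      have : x ∈ m := by
        by_contra hxm
        -- `x` is a unit; then every prime P' avoids... contradiction with hcon applied to P
        exact hxm (le_maximalIdeal hP.ne_top (hcon P hP hP0 hPm))
      exact (maximalIdeal.isMaximal D).ne_top
        (top_le_iff.mp (htop ▸ (Ideal.span_singleton_le_iff_mem m).mpr this))
    exact hyQ' Q hQ (h0 ▸ Q.zero_mem)
  have hytop : Ideal.span {y} ≠ ⊤ := by
    intro htop
    exact (maximalIdeal.isMaximal D).ne_top
      (top_le_iff.mp (htop ▸ (Ideal.span_singleton_le_iff_mem m).mpr hym))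
  obtain ⟨P', hP'⟩ : (Ideal.span {y}).minimalPrimes.Nonempty := by
    rw [Set.nonempty_iff_ne_empty, Ne, Ideal.minimalPrimes_eq_empty_iff]
    exact hytop
  have hP'prime : P'.IsPrime := hP'.1.1
  have hxP' : x ∈ P' := hcon P' hP'prime (hne_bot y hy0 P' hP') (hne_m y P' hP')
  obtain ⟨Q, hQ, hQP'⟩ := Ideal.exists_minimalPrimes_le
    ((Ideal.span_singleton_le_iff_mem P').mpr hxP')
  have hQprime : Q.IsPrime := hQ.1.1
  have hQeq : Q = P' := by
    by_contra hne
    have hlt : Q < P' := lt_of_le_of_ne hQP' hne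
    have h5 : Q.height < P'.height := Ideal.height_strict_mono_of_isPrime hlt
    have h6 : (⊥ : Ideal D).height < Q.height :=
      Ideal.height_strict_mono_of_isPrime (bot_lt_iff_ne_bot.mpr (hne_bot x hx Q hQ))
    have h7 : P'.height ≤ 1 := Ideal.height_le_one_of_isPrincipal_of_mem_minimalPrimes _ P' hP'
    have h8 : (1 : ℕ∞) ≤ Q.height := Order.one_le_iff_pos.mpr (lt_of_le_of_lt bot_le h6)
    exact absurd (lt_of_le_of_lt h8 h5) (not_lt.mpr h7)
  exact hyQ' Q hQ (hQeq ▸ hP'.1.2 (Ideal.subset_span rfl))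

end Curve

section CurvePrimes

variable (A : Type u) [CommRing A] [IsLocalRing A] [IsNoetherianRing A]

/-- primes `p ≠ m` such that every prime strictly above `p` is `m` -/
def IsCurvePrime (p : Ideal A) : Prop :=
  p.IsPrime ∧ p ≠ maximalIdeal A ∧ ∀ q : Ideal A, q.IsPrime → p < q → q = maximalIdeal A

theorem mem_of_forall_curvePrime (q : Ideal A) :
    q.IsPrime → q ≠ maximalIdeal A →
      ∀ x : A, (∀ p : Ideal A, IsCurvePrime A p → q ≤ p → x ∈ p) → x ∈ q := by
  refine IsNoetherian.induction (R := A) (M := A) (P := fun q : Ideal A =>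
    q.IsPrime → q ≠ maximalIdeal A →
      ∀ x : A, (∀ p : Ideal A, IsCurvePrime A p → q ≤ p → x ∈ p) → x ∈ q) ?_ q
  intro (q : Ideal A) IH hq hqm x hx
  by_cases hcase : ∀ q' : Ideal A, q'.IsPrime → q < q' → q' = maximalIdeal A
  · exact hx q ⟨hq, hqm, hcase⟩ le_rfl
  · simp only [not_forall] at hcase
    obtain ⟨q₁, hq₁, hlt, hq₁m⟩ := hcase
    by_contra hxq
    let D := A ⧸ q
    haveI : IsDomain D := Ideal.Quotient.isDomain q
    haveI : Nontrivial D := inferInstance
    haveI : IsLocalRing D :=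
      IsLocalRing.of_surjective' (Ideal.Quotient.mk q) Ideal.Quotient.mk_surjective
    have hmD : maximalIdeal D = (maximalIdeal A).map (Ideal.Quotient.mk q) :=
      (IsLocalRing.map_maximalIdeal_of_surjective (Ideal.Quotient.mk q)
        Ideal.Quotient.mk_surjective).symm
    have hcm : ∀ J : Ideal A, q ≤ J → (J.map (Ideal.Quotient.mk q)).comap (Ideal.Quotient.mk q) = J := by
      intro J hJ
      rw [Ideal.comap_map_of_surjective _ Ideal.Quotient.mk_surjective, ← RingHom.ker_eq_comap_bot,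
        Ideal.mk_ker]
      exact sup_eq_left.mpr hJ
    let P := q₁.map (Ideal.Quotient.mk q)
    haveI hPprime : P.IsPrime := Ideal.map_isPrime_of_surjective Ideal.Quotient.mk_surjective
      (by rw [Ideal.mk_ker]; exact hlt.le)
    have hP0 : P ≠ ⊥ := by
      intro h0
      have h1 := hcm q₁ hlt.le
      rw [show q₁.map (Ideal.Quotient.mk q) = ⊥ from h0, ← RingHom.ker_eq_comap_bot,
        Ideal.mk_ker] at h1
      exact hlt.ne h1
    have hPm : P ≠ maximalIdeal D := by
      intro h0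
      have h1 := hcm q₁ hlt.le
      rw [show q₁.map (Ideal.Quotient.mk q) = maximalIdeal D from h0, hmD,
        hcm _ (le_maximalIdeal hq.ne_top)] at h1
      exact hq₁m h1.symm
    have hx0 : Ideal.Quotient.mk q x ≠ 0 := fun h => hxq (Ideal.Quotient.eq_zero_iff_mem.mp h)
    obtain ⟨P', hP'prime, hP'0, hP'm, hxP'⟩ := exists_prime_not_mem D P hP0 hPm _ hx0
    let q' := P'.comap (Ideal.Quotient.mk q)
    have hq'prime : q'.IsPrime := Ideal.IsPrime.comap _
    have hqq' : q ≤ q' := by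
      intro a ha
      show Ideal.Quotient.mk q a ∈ P'
      rw [Ideal.Quotient.eq_zero_iff_mem.mpr ha]
      exact P'.zero_mem
    have hmapq' : q'.map (Ideal.Quotient.mk q) = P' :=
      Ideal.map_comap_of_surjective _ Ideal.Quotient.mk_surjective P'
    have hne : q ≠ q' := by
      intro h
      apply hP'0
      rw [← hmapq', ← h, Ideal.map_quotient_self]
    have hq'm : q' ≠ maximalIdeal A := by
      intro h
      apply hP'm
      rw [← hmapq', h, hmD]
    have hxq' : x ∈ q' := IH q' (lt_of_le_of_ne hqq' hne) hq'prime hq'm x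
      (fun p hp hle => hx p hp (hqq'.trans hle))
    exact hxP' hxq'

theorem sInf_curvePrimes_eq_bot [IsReduced A] (hA : ¬ IsField A) :
    sInf {p : Ideal A | IsCurvePrime A p} = ⊥ := by
  rw [eq_bot_iff]
  intro x hx
  rw [Ideal.mem_sInf] at hx
  rw [Ideal.mem_bot]
  have hmne : maximalIdeal A ≠ ⊥ := fun h => hA (IsLocalRing.isField_iff_maximalIdeal_eq.mpr h)
  -- `m` is not a minimal prime
  have hmmin : maximalIdeal A ∉ minimalPrimes A := by
    intro hmin
    apply hmne
    have h1 : ∀ q : Ideal A, q.IsPrime → q = maximalIdeal A := by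
      intro q hq
      exact le_antisymm (le_maximalIdeal hq.ne_top) (hmin.2 ⟨hq, bot_le⟩ (le_maximalIdeal hq.ne_top))
    have h2 : nilradical A = maximalIdeal A := by
      rw [nilradical_eq_sInf]
      apply le_antisymm
      · exact sInf_le (maximalIdeal.isMaximal A).isPrime
      · apply le_sInf
        intro q hq
        rw [h1 q hq]
    rw [← h2, nilradical_eq_zero, Ideal.zero_eq_bot]
  have hprime : ∀ q : Ideal A, q.IsPrime → x ∈ q := by
    intro q hq
    by_cases hqm : q = maximalIdeal A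
    · obtain ⟨q₀, hq₀, hle⟩ := Ideal.exists_minimalPrimes_le (bot_le : (⊥ : Ideal A) ≤ q)
      have hq₀m : q₀ ≠ maximalIdeal A := fun h => hmmin (h ▸ hq₀)
      exact hle (mem_of_forall_curvePrime A q₀ hq₀.1.1 hq₀m x (fun p hp _ => hx hp))
    · exact mem_of_forall_curvePrime A q hq hqm x (fun p hp _ => hx hp)
  have hnil : x ∈ nilradical A := by
    rw [nilradical_eq_sInf, Ideal.mem_sInf]
    intro q hq
    exact hprime q hq
  rw [nilradical_eq_zero] at hnil
  exact hnil

end CurvePrimes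

section DVR

variable (A : Type u) [CommRing A] [IsLocalRing A] [IsNoetherianRing A]
  [IsAdicComplete (maximalIdeal A) A]

theorem exists_dvr (p : Ideal A) (hp : IsCurvePrime A p) :
    ∃ (V : Type u) (_ : CommRing V) (_ : IsDomain V) (_ : IsDiscreteValuationRing V)
      (φ : A →+* V), IsLocalHom φ ∧ φ.Finite ∧ RingHom.ker φ = p := by
  obtain ⟨hprime, hpm, hcurve⟩ := hp
  haveI := hprime
  let D := A ⧸ p
  haveI : IsDomain D := Ideal.Quotient.isDomain p
  haveI : IsLocalRing D :=
    IsLocalRing.of_surjective' (Ideal.Quotient.mk p) Ideal.Quotient.mk_surjective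
  haveI : IsAdicComplete (maximalIdeal D) D := Groth.Agent.Helper7.ComplJap.isAdicComplete_quotient p
  haveI : HenselianLocalRing D :=
    Groth.Agent.Helper5.FinComplete.henselianLocalRing_of_isAdicComplete D
  have hmD : maximalIdeal D = (maximalIdeal A).map (Ideal.Quotient.mk p) :=
    (IsLocalRing.map_maximalIdeal_of_surjective (Ideal.Quotient.mk p)
      Ideal.Quotient.mk_surjective).symm
  have hcm : ∀ J : Ideal A, p ≤ J → (J.map (Ideal.Quotient.mk p)).comap (Ideal.Quotient.mk p) = J := by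
    intro J hJ
    rw [Ideal.comap_map_of_surjective _ Ideal.Quotient.mk_surjective, ← RingHom.ker_eq_comap_bot,
      Ideal.mk_ker]
    exact sup_eq_left.mpr hJ
  -- nonzero primes of `D` are maximal
  have hDprime : ∀ P : Ideal D, P.IsPrime → P ≠ ⊥ → P = maximalIdeal D := by
    intro P hP hP0
    have h1 : (P.comap (Ideal.Quotient.mk p)).IsPrime := Ideal.IsPrime.comap _
    have h2 : p ≤ P.comap (Ideal.Quotient.mk p) := by
      intro a ha
      show Ideal.Quotient.mk p a ∈ P
      rw [Ideal.Quotient.eq_zero_iff_mem.mpr ha]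
      exact P.zero_mem
    have h3 : p ≠ P.comap (Ideal.Quotient.mk p) := by
      intro h
      apply hP0
      rw [← Ideal.map_comap_of_surjective _ Ideal.Quotient.mk_surjective P, ← h,
        Ideal.map_quotient_self]
    have h4 := hcurve _ h1 (lt_of_le_of_ne h2 h3)
    rw [← Ideal.map_comap_of_surjective _ Ideal.Quotient.mk_surjective P, h4, hmD]
  have hDnf : ¬ IsField D := by
    intro hf
    apply hpm
    have h1 : maximalIdeal D = ⊥ := IsLocalRing.isField_iff_maximalIdeal_eq.mp hf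
    have h2 := hcm (maximalIdeal A) (le_maximalIdeal hprime.ne_top)
    rw [← hmD, h1, ← RingHom.ker_eq_comap_bot, Ideal.mk_ker] at h2
    exact h2
  let K := FractionRing D
  let V := integralClosure D K
  haveI hfinV : Module.Finite D V :=
    Groth.Agent.Helper7.ComplN2.isN2_of_complete_local_domain D K inferInstance
  haveI : IsNoetherianRing V := IsNoetherianRing.of_finite D V
  haveI : IsLocalRing V := Groth.Agent.Helper3.IntHensel.isLocalRing_of_finite_domain D V
  haveI : IsIntegrallyClosed V := integralClosure.isIntegrallyClosedOfFiniteExtension K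
  haveI : Algebra.IsIntegral D V := Algebra.IsIntegral.of_finite D V
  have hinjDV : Function.Injective (algebraMap D V) := by
    intro a b hab
    have h1 : algebraMap D K a = algebraMap D K b := congrArg Subtype.val hab
    exact IsFractionRing.injective D K h1
  have hVnf : ¬ IsField V := by
    intro hf
    exact hDnf (isField_of_isIntegral_of_isField hinjDV hf)
  have hVprime : ∀ P : Ideal V, P.IsPrime → P ≠ ⊥ → P = maximalIdeal V := by
    intro P hP hP0
    have h1 : P.comap (algebraMap D V) ≠ ⊥ := fun h => hP0 (Ideal.eq_bot_of_comap_eq_bot h)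
    have h2 : P.comap (algebraMap D V) = maximalIdeal D :=
      hDprime _ (Ideal.IsPrime.comap _) h1
    have h3 : P.IsMaximal := by
      haveI := hP
      refine Ideal.isMaximal_of_isIntegral_of_isMaximal_comap (R := D) P ?_
      rw [h2]
      exact maximalIdeal.isMaximal D
    exact IsLocalRing.eq_maximalIdeal h3
  have hmVne : maximalIdeal V ≠ ⊥ := fun h => hVnf (IsLocalRing.isField_iff_maximalIdeal_eq.mpr h)
  haveI hdvr : IsDiscreteValuationRing V := by
    apply ((IsDiscreteValuationRing.TFAE V hVnf).out 0 3).mpr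
    refine ⟨inferInstance, maximalIdeal V, ⟨hmVne, inferInstance⟩, ?_⟩
    rintro P ⟨hP0, hP⟩
    exact hVprime P hP hP0
  let φ : A →+* V := (algebraMap D V).comp (Ideal.Quotient.mk p)
  refine ⟨V, inferInstance, inferInstance, hdvr, φ, ?_, ?_, ?_⟩
  · -- local
    refine ⟨fun a ha => ?_⟩
    by_contra hnu
    have h1 : a ∈ maximalIdeal A := (IsLocalRing.mem_maximalIdeal a).mpr hnu
    have h2 : Ideal.Quotient.mk p a ∈ maximalIdeal D := by
      rw [hmD]; exact Ideal.mem_map_of_mem _ h1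
    have h3 : ((maximalIdeal V).comap (algebraMap D V)).IsMaximal :=
      Ideal.isMaximal_comap_of_isIntegral_of_isMaximal _
    have h4 : (maximalIdeal V).comap (algebraMap D V) = maximalIdeal D :=
      IsLocalRing.eq_maximalIdeal h3
    have h5 : φ a ∈ maximalIdeal V := by
      have : Ideal.Quotient.mk p a ∈ (maximalIdeal V).comap (algebraMap D V) := h4 ▸ h2
      exact this
    exact (IsLocalRing.mem_maximalIdeal _).mp h5 ha
  · -- finite
    have h1 : (Ideal.Quotient.mk p).Finite :=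
      RingHom.Finite.of_surjective _ Ideal.Quotient.mk_surjective
    have h2 : (algebraMap D V).Finite := RingHom.finite_algebraMap.mpr hfinV
    exact RingHom.Finite.comp h2 h1
  · -- kernel
    ext a
    rw [RingHom.mem_ker]
    show algebraMap D V (Ideal.Quotient.mk p a) = 0 ↔ _
    rw [map_eq_zero_iff _ hinjDV, Ideal.Quotient.eq_zero_iff_mem]

theorem s3450 [IsReduced A] (hA : ¬ IsField A) (n : ℕ) :
    ∃ (k : ℕ) (V : Fin k → Type u) (_ : ∀ i, CommRing (V i)) (_ : ∀ i, IsDomain (V i))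
      (_ : ∀ i, IsDiscreteValuationRing (V i)) (φ : ∀ i, A →+* V i),
      (∀ i, IsLocalHom (φ i) ∧ (φ i).Finite) ∧
        ⨅ i, RingHom.ker (φ i) ≤ IsLocalRing.maximalIdeal A ^ n := by
  classical
  let 𝔍 : Set (Ideal A) :=
    {J | ∃ F : Finset (Ideal A), (∀ p ∈ F, IsCurvePrime A p) ∧ J = F.inf id}
  have hne : 𝔍.Nonempty := ⟨⊤, ∅, by simp, by simp⟩
  have hdir : ∀ J₁ ∈ 𝔍, ∀ J₂ ∈ 𝔍, ∃ J ∈ 𝔍, J ≤ J₁ ⊓ J₂ := by
    rintro J₁ ⟨F₁, hF₁, rfl⟩ J₂ ⟨F₂, hF₂, rfl⟩
    refine ⟨(F₁ ∪ F₂).inf id, ⟨F₁ ∪ F₂, ?_, rfl⟩, ?_⟩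
    · intro p hp
      rcases Finset.mem_union.mp hp with h | h
      · exact hF₁ p h
      · exact hF₂ p h
    · rw [Finset.inf_union]
  have hbot : sInf 𝔍 = ⊥ := by
    rw [eq_bot_iff, ← sInf_curvePrimes_eq_bot A hA]
    apply le_sInf
    intro p hp
    apply sInf_le
    exact ⟨{p}, by simpa using hp, by simp⟩
  obtain ⟨J, ⟨F, hF, rfl⟩, hJ⟩ := chevalley_directed A 𝔍 hne hdir hbot n
  let e := F.equivFin
  have hp : ∀ i : Fin F.card, IsCurvePrime A (e.symm i).1 := fun i => hF _ (e.symm i).2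
  choose V i1 i2 i3 φ hφ using fun i : Fin F.card => exists_dvr A (e.symm i).1 (hp i)
  refine ⟨F.card, V, i1, i2, i3, φ, fun i => ⟨(hφ i).1, (hφ i).2.1⟩, ?_⟩
  refine le_trans ?_ hJ
  intro x hx
  rw [Ideal.mem_iInf] at hx
  rw [Finset.inf_eq_iInf, Ideal.mem_iInf]
  intro q
  rw [Ideal.mem_iInf]
  intro hq
  have h1 := hx (e ⟨q, hq⟩)
  rw [(hφ _).2.2, Equiv.symm_apply_apply] at h1
  exact h1

end DVR

end Groth.Agent.Helper7.DVRApprox
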