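import Mathlib
import Groth.Agent.Lib.Helper12.OneDim

set_option linter.style.haveILetI false
set_option linter.unusedSectionVars false

universe u v

open IsLocalRing

namespace Groth.Agent.Helper7.DVRCrit

/-- Determinant trick in subalgebra form: if `β` stabilises a finitely generated submodule
containing a unit, then `β` is integral. -/
theorem isIntegral_of_mul_mem {O : Type u} {B : Type v} [CommRing O] [IsNoetherianRing O]
    [CommRing B] [Algebra O B]
    (M : Submodule O B) (hM : M.FG) (w : B) (hw : IsUnit w) (hwM : w ∈ M) (β : B)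
    (hβ : ∀ z ∈ M, β * z ∈ M) : IsIntegral O β := by
  let S : Subalgebra O B :=
    { carrier := {b | ∀ z ∈ M, b * z ∈ M}
      mul_mem' := fun {a b} ha hb z hz => by rw [mul_assoc]; exact ha _ (hb _ hz)
      one_mem' := fun z hz => by rwa [one_mul]
      add_mem' := fun {a b} ha hb z hz => by rw [add_mul]; exact M.add_mem (ha _ hz) (hb _ hz)
      zero_mem' := fun z _ => by rw [zero_mul]; exact M.zero_mem
      algebraMap_mem' := fun r z hz => by rw [← Algebra.smul_def]; exact M.smul_mem r hz }
  have hS : S.toSubmodule.FG := by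
    obtain ⟨v, hv⟩ := hw
    refine Submodule.FG.of_le (hM.map (LinearMap.mulLeft O ((↑v⁻¹ : B)))) ?_
    intro b hb
    refine ⟨b * w, hb w hwM, ?_⟩
    rw [LinearMap.mulLeft_apply, ← hv]
    rw [mul_comm b, ← mul_assoc, Units.inv_mul, one_mul]
  exact IsIntegral.of_mem_of_fg S hS β hβ

/-- A Noetherian local ring whose maximal ideal is generated by a nonzerodivisor is a discrete
valuation ring (in particular a domain). -/
theorem isDVR_of_maximalIdeal_eq_span (O : Type u) [CommRing O] [IsLocalRing O]
    [IsNoetherianRing O] (π : O) (hπ : maximalIdeal O = Ideal.span {π})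
    (hnzd : ∀ a : O, a * π = 0 → a = 0) :
    ∃ _ : IsDomain O, IsDiscreteValuationRing O := by
  classical
  have hpow_nzd : ∀ (n : ℕ) (a : O), a * π ^ n = 0 → a = 0 := by
    intro n
    induction n with
    | zero => intro a ha; simpa using ha
    | succ n ih =>
      intro a ha
      apply ih
      apply hnzd
      rw [mul_assoc, ← pow_succ]; exact ha
  have hkrull : ⨅ i, maximalIdeal O ^ i = ⊥ :=
    Ideal.iInf_pow_eq_bot_of_isLocalRing _ (Ideal.IsPrime.ne_top inferInstance)
  have hfact : ∀ a : O, a ≠ 0 → ∃ (n : ℕ) (b : O), IsUnit b ∧ a = b * π ^ n := by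
    intro a ha
    have hex : ∃ n, a ∉ maximalIdeal O ^ n := by
      by_contra hcon
      push Not at hcon
      apply ha
      have : a ∈ ⨅ i, maximalIdeal O ^ i := by
        rw [Ideal.mem_iInf]; exact hcon
      rw [hkrull] at this
      exact this
    have hn1 := Nat.find_spec hex
    have hn0 : Nat.find hex ≠ 0 := by
      intro h0
      rw [h0, pow_zero, Ideal.one_eq_top] at hn1
      exact hn1 trivial
    obtain ⟨k, hk⟩ := Nat.exists_eq_succ_of_ne_zero hn0
    have hk' : ¬ (a ∉ maximalIdeal O ^ k) := Nat.find_min hex (by omega)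
    push Not at hk'
    rw [hπ, Ideal.span_singleton_pow, Ideal.mem_span_singleton'] at hk'
    obtain ⟨b, hb⟩ := hk'
    refine ⟨k, b, ?_, hb.symm⟩
    by_contra hbu
    have hbm : b ∈ maximalIdeal O := (mem_maximalIdeal b).mpr hbu
    rw [hπ, Ideal.mem_span_singleton'] at hbm
    obtain ⟨c, hc⟩ := hbm
    apply hn1
    rw [hk, hπ, Ideal.span_singleton_pow, Ideal.mem_span_singleton']
    refine ⟨c, ?_⟩
    rw [← hb, ← hc, pow_succ]; ring
  haveI : NoZeroDivisors O := by
    refine ⟨fun {a a'} h => ?_⟩
    by_contra hcon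
    push Not at hcon
    obtain ⟨n, b, hbu, hab⟩ := hfact a hcon.1
    obtain ⟨n', b', hbu', hab'⟩ := hfact a' hcon.2
    have : (b * b') * π ^ (n + n') = 0 := by
      rw [pow_add, ← h, hab, hab']; ring
    have h0 := hpow_nzd _ _ this
    have hu : IsUnit (b * b') := hbu.mul hbu'
    rw [h0] at hu
    exact not_isUnit_zero hu
  haveI hdom : IsDomain O := NoZeroDivisors.to_isDomain O
  refine ⟨hdom, ?_⟩
  have hnf : ¬ IsField O := by
    intro hf
    rw [isField_iff_maximalIdeal_eq, hπ, Ideal.span_singleton_eq_bot] at hf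
    have := hnzd 1 (by rw [hf, mul_zero])
    exact one_ne_zero this
  exact ((IsDiscreteValuationRing.TFAE O hnf).out 0 4).mpr
    (show Submodule.IsPrincipal (maximalIdeal O) from ⟨⟨π, hπ⟩⟩)

/-- Local criterion: a one-dimensional Noetherian local ring `O` that is integrally closed in an
overring `B` in which some element of the maximal ideal becomes invertible is a discrete valuation
ring. -/
theorem isDVR_of_integrallyClosedIn (O : Type u) (B : Type v) [CommRing O] [IsLocalRing O]
    [IsNoetherianRing O] [CommRing B] [Algebra O B]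
    (hinj : Function.Injective (algebraMap O B))
    (hic : ∀ b : B, IsIntegral O b → ∃ a : O, algebraMap O B a = b)
    (hdim : ringKrullDim O = 1) (g : O) (hg : g ∈ maximalIdeal O)
    (hgu : IsUnit (algebraMap O B g)) :
    ∃ _ : IsDomain O, IsDiscreteValuationRing O := by
  classical
  have hgnzd : ∀ a : O, a * g = 0 → a = 0 := by
    intro a ha
    apply hinj
    have h1 : algebraMap O B a * algebraMap O B g = 0 := by rw [← map_mul, ha, map_zero]
    rw [map_zero]
    exact (hgu.mul_left_eq_zero).mp h1
  have hgmem : g ∈ nonZeroDivisors O := mem_nonZeroDivisors_iff_right.mpr hgnzd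
  obtain ⟨N, hN⟩ := Groth.Agent.Helper12.exists_maximalIdeal_pow_le_of_not_le_minimalPrimes O hdim
    (Ideal.span {g}) (by
      intro q hq
      refine ⟨g, Ideal.subset_span rfl, fun hgq => ?_⟩
      exact Set.disjoint_left.mp (Ideal.disjoint_nonZeroDivisors_of_mem_minimalPrimes hq)
        hgq hgmem)
  have hex : ∃ n, maximalIdeal O ^ n ≤ Ideal.span {g} := ⟨N, hN⟩
  have hn1 : maximalIdeal O ^ (Nat.find hex) ≤ Ideal.span {g} := Nat.find_spec hex
  have hn0 : Nat.find hex ≠ 0 := by
    intro h0
    rw [h0, pow_zero, Ideal.one_eq_top, top_le_iff, Ideal.span_singleton_eq_top] at hn1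
    exact (mem_maximalIdeal g).mp hg hn1
  obtain ⟨k, hk⟩ := Nat.exists_eq_succ_of_ne_zero hn0
  have hk' : ¬ maximalIdeal O ^ k ≤ Ideal.span {g} := Nat.find_min hex (by omega)
  obtain ⟨h, hhk, hhg⟩ := SetLike.not_le_iff_exists.mp hk'
  have hmh : ∀ x ∈ maximalIdeal O, ∃ y, x * h = g * y := by
    intro x hx
    have h1 : x * h ∈ maximalIdeal O ^ (k + 1) := by
      rw [pow_succ']; exact Ideal.mul_mem_mul hx hhk
    have h2 : x * h ∈ Ideal.span {g} := by
      apply hn1; rw [hk]; exact h1
    rw [Ideal.mem_span_singleton'] at h2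
    obtain ⟨a, ha⟩ := h2
    exact ⟨a, by rw [← ha, mul_comm]⟩
  by_cases hcase : ∀ x ∈ maximalIdeal O, ∀ y, x * h = g * y → y ∈ maximalIdeal O
  · exfalso
    obtain ⟨v, hv⟩ := hgu
    have hint : IsIntegral O (algebraMap O B h * ↑v⁻¹) := by
      refine isIntegral_of_mul_mem (Submodule.map (Algebra.linearMap O B) (maximalIdeal O))
        ((IsNoetherian.noetherian (maximalIdeal O)).map _) (algebraMap O B g) ⟨v, hv⟩
        ⟨g, hg, rfl⟩ _ ?_
      rintro _ ⟨x, hx, rfl⟩
      obtain ⟨y, hy⟩ := hmh x hx
      refine ⟨y, hcase x hx y hy, ?_⟩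
      rw [Algebra.linearMap_apply, Algebra.linearMap_apply]
      have h3 : algebraMap O B x * algebraMap O B h = ↑v * algebraMap O B y := by
        rw [hv, ← map_mul, ← map_mul, hy]
      calc algebraMap O B y = ↑v⁻¹ * (↑v * algebraMap O B y) := by
            rw [← mul_assoc, Units.inv_mul, one_mul]
        _ = algebraMap O B h * ↑v⁻¹ * algebraMap O B x := by rw [← h3]; ring
    obtain ⟨a, ha⟩ := hic _ hint
    apply hhg
    rw [Ideal.mem_span_singleton']
    refine ⟨a, hinj ?_⟩
    rw [map_mul, ha, ← hv, mul_assoc, Units.inv_mul, mul_one]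
  · push Not at hcase
    obtain ⟨π, hπ, y, hy, hym⟩ := hcase
    have hyu : IsUnit y := by
      by_contra hnu
      exact hym ((mem_maximalIdeal y).mpr hnu)
    obtain ⟨wi, hwi⟩ := hyu.exists_right_inv
    have hg_eq : g = π * h * wi := by
      rw [hy, mul_assoc, hwi, mul_one]
    have hhnzd : ∀ a, a * h = 0 → a = 0 := by
      intro a ha
      apply hgnzd
      rw [hg_eq]
      calc a * (π * h * wi) = (a * h) * (π * wi) := by ring
        _ = 0 := by rw [ha, zero_mul]
    have hπnzd : ∀ a, a * π = 0 → a = 0 := by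
      intro a ha
      apply hgnzd
      rw [hg_eq]
      calc a * (π * h * wi) = (a * π) * (h * wi) := by ring
        _ = 0 := by rw [ha, zero_mul]
    have hmprinc : maximalIdeal O = Ideal.span {π} := by
      apply le_antisymm
      · intro z hz
        obtain ⟨yz, hyz⟩ := hmh z hz
        have h4 : (z - π * (wi * yz)) * h = 0 := by
          rw [sub_mul, hyz, hg_eq]; ring
        have h5 := hhnzd _ h4
        rw [Ideal.mem_span_singleton']
        exact ⟨wi * yz, by rw [mul_comm]; exact (sub_eq_zero.mp h5).symm⟩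
      · rw [Ideal.span_singleton_le_iff_mem]; exact hπ
    exact isDVR_of_maximalIdeal_eq_span O π hmprinc hπnzd

/-- Being integrally closed in an overring passes to localizations. -/
theorem exists_of_isIntegral_localization {A : Type u} {B : Type v} [CommRing A] [CommRing B]
    [Algebra A B] (hic : ∀ b : B, IsIntegral A b → ∃ a, algebraMap A B a = b)
    (S : Submonoid A) (O : Type*) (B' : Type*) [CommRing O] [CommRing B'] [Algebra A O]
    [IsLocalization S O] [Algebra B B'] [IsLocalization (Algebra.algebraMapSubmonoid B S) B']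
    [Algebra O B'] [Algebra A B'] [IsScalarTower A B B'] [IsScalarTower A O B']
    (b' : B') (hb' : IsIntegral O b') : ∃ a : O, algebraMap O B' a = b' := by
  obtain ⟨⟨x, ⟨_, m₁, hm₁, rfl⟩⟩, e⟩ := IsLocalization.surj (Algebra.algebraMapSubmonoid B S) b'
  obtain ⟨⟨m₂, hm₂⟩, h2⟩ := IsIntegral.exists_multiple_integral_of_isLocalization S b' hb'
  rw [Submonoid.smul_def] at h2
  change IsIntegral A (m₂ • b') at h2
  change b' * algebraMap B B' (algebraMap A B m₁) = algebraMap B B' x at e
  have h3 : IsIntegral A (algebraMap B B' (m₂ • x)) := by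
    have h31 : algebraMap B B' (m₂ • x) = (m₂ • b') * algebraMap A B' m₁ := by
      rw [Algebra.smul_def, map_mul, ← e, Algebra.smul_def,
        ← IsScalarTower.algebraMap_apply A B B', ← IsScalarTower.algebraMap_apply A B B']
      ring
    rw [h31]
    exact h2.mul isIntegral_algebraMap
  obtain ⟨m₃, hm₃, h4⟩ := IsLocalization.exists_isIntegral_smul_of_isIntegral_map (Sₘ := B') S h3
  obtain ⟨a, ha⟩ := hic _ h4
  have hsm : m₁ * m₂ * m₃ ∈ S := S.mul_mem (S.mul_mem hm₁ hm₂) hm₃
  refine ⟨IsLocalization.mk' O a ⟨m₁ * m₂ * m₃, hsm⟩, ?_⟩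
  have hunit : IsUnit (algebraMap A B' (m₁ * m₂ * m₃)) := by
    rw [IsScalarTower.algebraMap_apply A B B']
    exact IsLocalization.map_units B' (⟨algebraMap A B (m₁ * m₂ * m₃), ⟨_, hsm, rfl⟩⟩ :
      Algebra.algebraMapSubmonoid B S)
  apply hunit.mul_left_injective
  show algebraMap O B' (IsLocalization.mk' O a ⟨m₁ * m₂ * m₃, hsm⟩) *
    algebraMap A B' (m₁ * m₂ * m₃) = b' * algebraMap A B' (m₁ * m₂ * m₃)
  have h5 : algebraMap O B' (IsLocalization.mk' O a ⟨m₁ * m₂ * m₃, hsm⟩) *
      algebraMap A B' (m₁ * m₂ * m₃) = algebraMap A B' a := by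
    have h51 : IsLocalization.mk' O a ⟨m₁ * m₂ * m₃, hsm⟩ * algebraMap A O (m₁ * m₂ * m₃) =
        algebraMap A O a := IsLocalization.mk'_spec O a ⟨m₁ * m₂ * m₃, hsm⟩
    rw [IsScalarTower.algebraMap_apply A O B' (m₁ * m₂ * m₃), ← map_mul, h51,
      ← IsScalarTower.algebraMap_apply]
  rw [h5, IsScalarTower.algebraMap_apply A B B' a, ha, Algebra.smul_def, Algebra.smul_def,
    map_mul, map_mul, ← e, ← IsScalarTower.algebraMap_apply A B B',
    ← IsScalarTower.algebraMap_apply A B B', ← IsScalarTower.algebraMap_apply A B B',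
    map_mul, map_mul]
  ring

/-- Global algebraic criterion. -/
theorem main (A : Type u) (B : Type v) [CommRing A] [IsNoetherianRing A] [CommRing B]
    [Algebra A B] (hinj : Function.Injective (algebraMap A B))
    (hic : ∀ b : B, IsIntegral A b → ∃ a, algebraMap A B a = b)
    (q : Ideal A) [q.IsPrime] (hdim : ringKrullDim (Localization.AtPrime q) = 1)
    (g s : A) (c : B) (hg : g ∈ q) (hs : s ∉ q)
    (hc : algebraMap A B g * c = algebraMap A B s) :
    ∃ _ : IsDomain (Localization.AtPrime q),
      IsDiscreteValuationRing (Localization.AtPrime q) := by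
  have hinj' : Function.Injective (algebraMap (Localization.AtPrime q)
      (Localization (Algebra.algebraMapSubmonoid B q.primeCompl))) :=
    localizationAlgebra_injective (Localization.AtPrime q)
      (Localization (Algebra.algebraMapSubmonoid B q.primeCompl)) hinj
  refine isDVR_of_integrallyClosedIn (Localization.AtPrime q)
    (Localization (Algebra.algebraMapSubmonoid B q.primeCompl)) hinj' ?_ hdim
    (algebraMap A (Localization.AtPrime q) g) ?_ ?_
  · intro b' hb'
    exact exists_of_isIntegral_localization hic q.primeCompl (Localization.AtPrime q)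
      (Localization (Algebra.algebraMapSubmonoid B q.primeCompl)) b' hb'
  · exact (IsLocalization.AtPrime.to_map_mem_maximal_iff (Localization.AtPrime q) q g).mpr hg
  · rw [← IsScalarTower.algebraMap_apply A (Localization.AtPrime q)
      (Localization (Algebra.algebraMapSubmonoid B q.primeCompl)),
      IsScalarTower.algebraMap_apply A B
      (Localization (Algebra.algebraMapSubmonoid B q.primeCompl))]
    have h1 : IsUnit (algebraMap B (Localization (Algebra.algebraMapSubmonoid B q.primeCompl))
        (algebraMap A B s)) :=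
      IsLocalization.map_units _ (⟨algebraMap A B s, ⟨s, hs, rfl⟩⟩ :
        Algebra.algebraMapSubmonoid B q.primeCompl)
    rw [← hc, map_mul] at h1
    exact isUnit_of_mul_isUnit_left h1

end Groth.Agent.Helper7.DVRCrit
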