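import Mathlib
import Groth.Prelude.Def_EGA4b
import Groth.Prelude.Def_Found
import Groth.Agent.Lib.Helper7.GRingDed
import Groth.Agent.Lib.Helper7.J2Dim1
import Groth.Agent.Lib.Helper7.ExcLoc2
import Groth.Agent.Lib.Helper7.CplLocal
import Groth.Agent.Lib.Helper1.CompletionDim
import Groth.Agent.Lib.Lead.Fib1

/-!
# A discrete valuation ring is excellent iff its generic formal fibre is geometrically reduced
-/

universe u

namespace Groth.Agent.Helper7.DVRExc

open IsLocalRing TensorProduct

set_option linter.style.haveILetI false
set_option linter.unusedSectionVars false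

/-- a reduced Artinian ring is regular -/
theorem isRegularRing_of_isArtinian_isReduced (T : Type u) [CommRing T] [IsArtinianRing T]
    [IsReduced T] : IsRegularRing T := by
  haveI : IsNoetherianRing T := inferInstance
  rw [isRegularRing_iff]
  intro p hp
  haveI : IsReduced (Localization.AtPrime p) := inferInstance
  haveI : IsArtinianRing (Localization.AtPrime p) := inferInstance
  have hf : IsField (Localization.AtPrime p) :=
    IsArtinianRing.isField_of_isReduced_of_isLocalRing _
  letI := hf.toField
  infer_instance

/-- a field extension which is geometrically reduced is geometrically regular -/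
theorem isGeometricallyRegular_of_isField (k F : Type u) [Field k] [CommRing F] [Algebra k F]
    (hF : IsField F) [Algebra.IsGeometricallyReduced k F] : CAlg.IsGeometricallyRegular k F := by
  intro k' _ _ hfin
  haveI := hfin
  haveI : Algebra.IsAlgebraic k k' := Algebra.IsAlgebraic.of_finite k k'
  haveI : IsReduced (k' ⊗[k] F) := inferInstance
  letI := hF.toField
  haveI : IsReduced (F ⊗[k] k') :=
    isReduced_of_injective (Algebra.TensorProduct.comm k F k').toRingEquiv.toRingHom
      (Algebra.TensorProduct.comm k F k').injective
  haveI : Module.Finite F (F ⊗[k] k') := inferInstance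
  haveI : IsArtinianRing (F ⊗[k] k') := IsArtinianRing.of_finite F _
  haveI := isRegularRing_of_isArtinian_isReduced (F ⊗[k] k')
  exact IsRegularRing.of_ringEquiv (Algebra.TensorProduct.comm k F k').toRingEquiv

section Generic

variable (R : Type u) [CommRing R] [IsDomain R] [IsDiscreteValuationRing R]

attribute [local instance] Algebra.TensorProduct.rightAlgebra in
/-- the generic formal fibre of a discrete valuation ring is a field -/
theorem genericFibre_isField :
    IsField ((⊥ : Ideal R).Fiber (AdicCompletion (maximalIdeal R) R)) := by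
  obtain ⟨hdom, hdvr⟩ := (Groth.Agent.Helper1.isDiscreteValuationRing_adicCompletion_iff R).mp
    ⟨inferInstance, inferInstance⟩
  haveI := hdom
  haveI := hdvr
  haveI : IsLocalization (nonZeroDivisors R) (⊥ : Ideal R).ResidueField :=
    (inferInstance : IsFractionRing R (⊥ : Ideal R).ResidueField)
  haveI hloc : IsLocalization (Algebra.algebraMapSubmonoid (AdicCompletion (maximalIdeal R) R)
      (nonZeroDivisors R)) ((⊥ : Ideal R).ResidueField ⊗[R] AdicCompletion (maximalIdeal R) R) :=
    IsLocalization.tensorRight _ (nonZeroDivisors R)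
  haveI : Module.FaithfullyFlat R (AdicCompletion (maximalIdeal R) R) :=
    Module.FaithfullyFlat.of_flat_of_isLocalHom
  have hinj : Function.Injective (algebraMap R (AdicCompletion (maximalIdeal R) R)) :=
    FaithfulSMul.algebraMap_injective _ _
  have hle : Algebra.algebraMapSubmonoid (AdicCompletion (maximalIdeal R) R) (nonZeroDivisors R) ≤
      nonZeroDivisors (AdicCompletion (maximalIdeal R) R) := by
    rintro _ ⟨r, hr, rfl⟩
    apply mem_nonZeroDivisors_of_ne_zero
    intro h0
    exact (nonZeroDivisors.ne_zero hr) (hinj (by rw [h0, map_zero]))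
  obtain ⟨π, hπ⟩ := IsDiscreteValuationRing.exists_irreducible R
  have hπ' : Irreducible (algebraMap R (AdicCompletion (maximalIdeal R) R) π) := by
    rw [IsDiscreteValuationRing.irreducible_iff_uniformizer] at hπ ⊢
    rw [AdicCompletion.maximalIdeal_eq_map, hπ, Ideal.map_span, Set.image_singleton]
  have hunit : ∀ a : AdicCompletion (maximalIdeal R) R, a ≠ 0 →
      IsUnit (algebraMap (AdicCompletion (maximalIdeal R) R)
        ((⊥ : Ideal R).ResidueField ⊗[R] AdicCompletion (maximalIdeal R) R) a) := by
    intro a ha
    obtain ⟨n, u, rfl⟩ := IsDiscreteValuationRing.eq_unit_mul_pow_irreducible ha hπ'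
    rw [map_mul, map_pow]
    refine IsUnit.mul (u.isUnit.map _) (IsUnit.pow _ ?_)
    exact IsLocalization.map_units _
      (⟨_, π, mem_nonZeroDivisors_of_ne_zero hπ.ne_zero, rfl⟩ :
        Algebra.algebraMapSubmonoid (AdicCompletion (maximalIdeal R) R) (nonZeroDivisors R))
  haveI : IsFractionRing (AdicCompletion (maximalIdeal R) R)
      ((⊥ : Ideal R).ResidueField ⊗[R] AdicCompletion (maximalIdeal R) R) :=
    IsLocalization.of_le (M := Algebra.algebraMapSubmonoid (AdicCompletion (maximalIdeal R) R)
      (nonZeroDivisors R)) _ hle (fun r hr => hunit r (nonZeroDivisors.ne_zero hr))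
  exact (IsFractionRing.toField (AdicCompletion (maximalIdeal R) R)).toIsField

end Generic

section Main

open Groth.Agent.Helper7.GRingDed in
/-- the completion map of a Noetherian local ring which is a field is regular -/
theorem isRegularHom_cpl_of_isField (K : Type u) [CommRing K] [IsLocalRing K] [IsNoetherianRing K]
    (hK : IsField K) : CAlg.IsRegularHom K (EGA4.Cpl K) := by
  refine ⟨AdicCompletion.flat_of_isNoetherian _, fun q hq => ?_⟩
  have hqm : q = maximalIdeal K := by
    rw [IsLocalRing.isField_iff_maximalIdeal_eq.mp hK]
    letI := hK.toField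
    exact Ideal.eq_bot_of_prime q
  subst hqm
  exact ⟨closedFibre_isNoetherianRing K,
    isGeometricallyRegular_of_bijective _ _ (closedFibre_bijective K)⟩

variable (R : Type u) [CommRing R] [IsDomain R] [IsDiscreteValuationRing R]

open Groth.Agent.Helper7.GRingDed in
/-- `R → R̂` is regular when the generic formal fibre is geometrically reduced -/
theorem isRegularHom_cpl_of_geomReduced
    (h : Algebra.IsGeometricallyReduced (⊥ : Ideal R).ResidueField
      (EGA4.formalFibre R (⊥ : Ideal R))) :
    CAlg.IsRegularHom R (EGA4.Cpl R) := by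
  refine ⟨AdicCompletion.flat_of_isNoetherian _, fun q hq => ?_⟩
  by_cases hq0 : q = ⊥
  · subst hq0
    haveI := genericFibre_isRegularRing R
    exact ⟨inferInstance, isGeometricallyRegular_of_isField _ _ (genericFibre_isField R)⟩
  · have hmax : q.IsMaximal := hq.isMaximal hq0
    have hqm : q = maximalIdeal R := IsLocalRing.eq_maximalIdeal hmax
    subst hqm
    exact ⟨closedFibre_isNoetherianRing R,
      isGeometricallyRegular_of_bijective _ _ (closedFibre_bijective R)⟩

theorem main : EGA4.IsExcellent R ↔
    Algebra.IsGeometricallyReduced (⊥ : Ideal R).ResidueField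
      (EGA4.formalFibre R (⊥ : Ideal R)) := by
  have hunits : (maximalIdeal R).primeCompl ≤ IsUnit.submonoid R := fun y hy => by
    by_contra hy'
    exact hy ((IsLocalRing.mem_maximalIdeal _).mpr hy')
  let e : R ≃ₐ[R] Localization.AtPrime (maximalIdeal R) :=
    IsLocalization.atUnits R (maximalIdeal R).primeCompl hunits
  constructor
  · rintro ⟨hN, hUC, hG, hJ⟩
    have h1 := hG.2 (maximalIdeal R)
    have h2 : CAlg.IsRegularHom R (EGA4.Cpl R) :=
      Groth.Agent.Helper7.ExcLoc.isRegularHom_cpl_of_ringEquiv e.toRingEquiv h1
    exact Groth.Agent.Helper7.CplFlat.geomReduced_of_geomRegular _ _ (h2.2 ⊥).2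
  · intro h
    refine ⟨inferInstance, ?_, ⟨inferInstance, fun p hp => ?_⟩, ?_⟩
    · exact Groth.Agent.Lead.FEq.isUniversallyCatenary_of_surjective_of_isRegularRing
        (RingHom.id R) Function.surjective_id
    · by_cases hp0 : p = ⊥
      · subst hp0
        apply isRegularHom_cpl_of_isField
        rw [IsLocalRing.isField_iff_maximalIdeal_eq, ← Localization.AtPrime.map_eq_maximalIdeal,
          Ideal.map_bot]
      · have hmax : p.IsMaximal := hp.isMaximal hp0
        have hpm : p = maximalIdeal R := IsLocalRing.eq_maximalIdeal hmax
        subst hpm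
        exact Groth.Agent.Helper7.ExcLoc.isRegularHom_cpl_of_ringEquiv e.symm.toRingEquiv
          (isRegularHom_cpl_of_geomReduced R h)
    · apply Groth.Agent.Helper7.J2Dim1.s2620 R
      · exact (Set.finite_singleton (maximalIdeal R)).subset
          (fun I hI => IsLocalRing.eq_maximalIdeal hI)
      · exact (IsPrincipalIdealRing.ringKrullDim_eq_one R
          (IsDiscreteValuationRing.not_isField R)).le

end Main

end Groth.Agent.Helper7.DVRExc
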