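import Mathlib
import Groth.Prelude.Def_Found
import Groth.Prelude.Def_EGA4b
import Groth.Agent.Lib.Helper7.HensNag
import Groth.Agent.Lib.Helper7.DVRExc
import Groth.Agent.Lib.Helper7.CplLocal
import Groth.Agent.Lib.Helper7.TatePS
import Groth.Agent.Lib.Helper7.ComplN2
import Groth.Agent.Lib.Helper14.SepGen
import Groth.Agent.Lib.Helper14.GeomRedTFAE
import Groth.Agent.Lib.Helper18.RedProd

/-!
# Helper7: the Nagata property descends along separable extensions of discrete valuation rings
(S1985)
-/

universe u
namespace Groth.Agent.Helper7.DVRNag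
open TensorProduct IsLocalRing

set_option linter.style.haveILetI false
set_option linter.unusedSectionVars false

/-- a reduced algebra tensored with a geometrically reduced algebra over a field is reduced -/
theorem isReduced_tensor_of_geomReduced (F : Type u) [Field F] (S R' : Type u) [CommRing S]
    [CommRing R'] [Algebra F S] [Algebra F R'] [Algebra.IsGeometricallyReduced F S]
    [IsReduced R'] : IsReduced (S ⊗[F] R') := by
  apply IsReduced.tensorProduct_of_flat_of_forall_fg
  intro B hB
  haveI : Algebra.FiniteType F B := (Subalgebra.fg_iff_finiteType B).mp hB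
  haveI : IsNoetherianRing B := Algebra.FiniteType.isNoetherianRing F B
  haveI : IsReduced B := isReduced_of_injective B.val Subtype.val_injective
  obtain ⟨J, hJ, K, hK, hKa, φ, hφ⟩ := Groth.Agent.Helper18.RedProd.exists_injective_pi_field F B
  have h1 : Function.Injective (Algebra.TensorProduct.map (AlgHom.id F S) φ) :=
    Module.Flat.lTensor_preserves_injective_linearMap _ hφ
  haveI : ∀ j, IsReduced (S ⊗[F] K j) := fun j => by
    haveI := Groth.Agent.Helper14.isReduced_tensor_of_isGeometricallyReduced (k := F) (S := S) (K j)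
    exact isReduced_of_injective (Algebra.TensorProduct.comm F S (K j)).toAlgHom
      (Algebra.TensorProduct.comm F S (K j)).injective
  classical
  let e := Algebra.TensorProduct.piRight F F S K
  exact isReduced_of_injective (e.toAlgHom.comp (Algebra.TensorProduct.map (AlgHom.id F S) φ))
    (e.injective.comp h1)

section Core

variable (A B : Type u) [CommRing A] [IsDomain A] [IsDiscreteValuationRing A]
  [CommRing B] [IsDomain B] [IsDiscreteValuationRing B] [Algebra A B] [IsLocalHom (algebraMap A B)]
  (hinj : Function.Injective (algebraMap A B))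
  (K L : Type u) [Field K] [Field L] [Algebra A K] [IsFractionRing A K] [Algebra B L]
  [IsFractionRing B L] [Algebra K L] [Algebra A L] [IsScalarTower A K L] [IsScalarTower A B L]
  [Algebra.IsSeparable K L]
  (hFB : Algebra.IsGeometricallyReduced L (L ⊗[B] EGA4.Cpl B))

include hinj hFB in
theorem core (k' : Type u) [Field k'] [Algebra K k'] [Algebra A k'] [IsScalarTower A K k'] :
    IsReduced (k' ⊗[A] EGA4.Cpl A) := by
  haveI : FaithfulSMul A B := (faithfulSMul_iff_algebraMap_injective A B).mpr hinj
  haveI : Module.Flat A B := inferInstance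
  obtain ⟨alg, htower, hff⟩ := Groth.Agent.Helper7.CplFlat.exists_cplAlgebra A B
  letI := alg
  haveI := htower
  haveI := hff
  set Ah := EGA4.Cpl A with hAh
  set Bh := EGA4.Cpl B with hBh
  have hjinj : Function.Injective (algebraMap Ah Bh) := FaithfulSMul.algebraMap_injective _ _
  have hAk : Function.Injective (algebraMap A k') := by
    rw [IsScalarTower.algebraMap_eq A K k']
    exact (algebraMap K k').injective.comp (IsFractionRing.injective A K)
  haveI : FaithfulSMul A k' := (faithfulSMul_iff_algebraMap_injective A k').mpr hAk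
  haveI : Module.Flat A k' := inferInstance
  -- step 1
  let φ1 : k' ⊗[A] Ah →ₐ[A] k' ⊗[A] Bh :=
    Algebra.TensorProduct.map (AlgHom.id A k') (IsScalarTower.toAlgHom A Ah Bh)
  have hφ1 : Function.Injective φ1 :=
    Module.Flat.lTensor_preserves_injective_linearMap (M := k')
      (IsScalarTower.toAlgHom A Ah Bh).toLinearMap hjinj
  -- step 2
  let c1 := Algebra.TensorProduct.comm A k' Bh
  let c2 := Algebra.TensorProduct.cancelBaseChange A B B Bh k'
  -- step 3
  let ψ : B ⊗[A] k' →ₐ[B] L ⊗[A] k' :=
    Algebra.TensorProduct.map (Algebra.ofId B L) (AlgHom.id A k')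
  have hψ : Function.Injective ψ :=
    Module.Flat.rTensor_preserves_injective_linearMap (M := k')
      ((Algebra.ofId B L).restrictScalars A).toLinearMap (IsFractionRing.injective B L)
  let φ3 : Bh ⊗[B] (B ⊗[A] k') →ₐ[B] Bh ⊗[B] (L ⊗[A] k') :=
    Algebra.TensorProduct.map (AlgHom.id B Bh) ψ
  have hφ3 : Function.Injective φ3 :=
    Module.Flat.lTensor_preserves_injective_linearMap (M := Bh) ψ.toLinearMap hψ
  -- step 4
  let c3 := Algebra.TensorProduct.comm B Bh (L ⊗[A] k')
  let c4 := Algebra.TensorProduct.cancelBaseChange B L L (L ⊗[A] k') Bh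
  -- the reduced ring
  haveI hR1 : IsReduced (k' ⊗[K] L) := Groth.Agent.Helper14.isReduced_tensor_of_isSeparable
  let e1 : k' ⊗[K] L ≃ₐ[K] k' ⊗[A] L :=
    IsLocalization.algebraTensorEquiv (nonZeroDivisors A) K k' L
  haveI hR2 : IsReduced (L ⊗[A] k') :=
    isReduced_of_injective
      ((e1.symm.toRingEquiv.toRingHom).comp (Algebra.TensorProduct.comm A L k').toRingEquiv.toRingHom)
      (e1.symm.injective.comp (Algebra.TensorProduct.comm A L k').injective)
  haveI := hFB
  haveI hR3 : IsReduced ((L ⊗[B] Bh) ⊗[L] (L ⊗[A] k')) :=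
    isReduced_tensor_of_geomReduced L (L ⊗[B] Bh) (L ⊗[A] k')
  let c5 := Algebra.TensorProduct.comm L (L ⊗[A] k') (L ⊗[B] Bh)
  -- total map
  let Φ : k' ⊗[A] Ah →+* (L ⊗[B] Bh) ⊗[L] (L ⊗[A] k') :=
    c5.toRingEquiv.toRingHom.comp (c4.symm.toRingEquiv.toRingHom.comp
      (c3.toRingEquiv.toRingHom.comp (φ3.toRingHom.comp
        (c2.symm.toRingEquiv.toRingHom.comp (c1.toRingEquiv.toRingHom.comp φ1.toRingHom)))))
  have hΦ : Function.Injective Φ :=
    c5.injective.comp (c4.symm.injective.comp (c3.injective.comp (hφ3.comp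
      (c2.symm.injective.comp (c1.injective.comp hφ1)))))
  exact isReduced_of_injective Φ hΦ

end Core

theorem s1985 (A B K L : Type u) [CommRing A] [IsDomain A] [IsDiscreteValuationRing A]
    [CommRing B] [IsDomain B] [IsDiscreteValuationRing B] [Algebra A B] [IsLocalHom (algebraMap A B)]
    (hinj : Function.Injective (algebraMap A B))
    [Field K] [Field L] [Algebra A K] [IsFractionRing A K] [Algebra B L] [IsFractionRing B L]
    [Algebra K L] [Algebra A L] [IsScalarTower A K L] [IsScalarTower A B L]
    [Algebra.IsSeparable K L] (hB : CAlg.IsNagata B) :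
    CAlg.IsNagata A := by
  have hGR : EGA4.HasGeomReducedFormalFibres B :=
    (Groth.Agent.Helper7.HensNag.isNagata_iff_hasGRFF B).mp hB
  set κA := (⊥ : Ideal A).ResidueField with hκA
  set κB := (⊥ : Ideal B).ResidueField with hκB
  have hFB : Algebra.IsGeometricallyReduced κB (κB ⊗[B] EGA4.Cpl B) := hGR ⊥
  have hinj' : Function.Injective (algebraMap A κB) := by
    rw [IsScalarTower.algebraMap_eq A B κB]
    exact (IsFractionRing.injective B κB).comp hinj
  letI : Algebra κA κB := (IsFractionRing.lift (g := algebraMap A κB) hinj').toAlgebra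
  haveI : IsScalarTower A κA κB := IsScalarTower.of_algebraMap_eq (fun a => by
    rw [RingHom.algebraMap_toAlgebra, IsFractionRing.lift_algebraMap])
  let eK : K ≃ₐ[A] κA := IsLocalization.algEquiv (nonZeroDivisors A) K κA
  let eL : L ≃ₐ[B] κB := IsLocalization.algEquiv (nonZeroDivisors B) L κB
  have he : (algebraMap κA κB).comp (eK.toRingEquiv : K →+* κA) =
      (eL.toRingEquiv : L →+* κB).comp (algebraMap K L) := by
    apply IsLocalization.ringHom_ext (nonZeroDivisors A)
    ext a
    show algebraMap κA κB (eK (algebraMap A K a)) = eL (algebraMap K L (algebraMap A K a))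
    rw [eK.commutes, ← IsScalarTower.algebraMap_apply A κA κB,
      ← IsScalarTower.algebraMap_apply A K L, IsScalarTower.algebraMap_apply A B L, eL.commutes,
      ← IsScalarTower.algebraMap_apply A B κB]
  haveI : Algebra.IsSeparable κA κB :=
    Algebra.IsSeparable.of_equiv_equiv eK.toRingEquiv eL.toRingEquiv he
  refine ⟨inferInstance, fun p _ => ?_⟩
  by_cases hp : p = ⊥
  · subst hp
    have hN2 : CAlg.IsN2 A := by
      apply Groth.Agent.Helper7.FFNag.isN2_of_generic_formal_fibre A
      intro k' _ _ hfin
      letI : Algebra A k' := ((algebraMap κA k').comp (algebraMap A κA)).toAlgebra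
      haveI : IsScalarTower A κA k' := IsScalarTower.of_algebraMap_eq (fun a => rfl)
      haveI : IsReduced (k' ⊗[A] EGA4.Cpl A) := core A B hinj κA κB hFB k'
      let c := Algebra.TensorProduct.cancelBaseChange A κA κA k' (EGA4.Cpl A)
      exact isReduced_of_injective c.toAlgHom c.injective
    exact Groth.Agent.Helper7.TatePS.isN2_of_ringEquiv (RingEquiv.quotientBot A).symm hN2
  · have hmax : p.IsMaximal := Ideal.IsPrime.isMaximal inferInstance hp
    exact Groth.Agent.Helper7.ComplN2.isN2_of_isField _
      ((Ideal.Quotient.maximal_ideal_iff_isField_quotient p).mp hmax)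


end Groth.Agent.Helper7.DVRNag
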