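import Groth.Agent.Lib.Helper18.BcPts
import Groth.Agent.Lib.Helper18.FinSub2
import Groth.Agent.Lib.Helper18.SekPts
import Groth.Agent.Lib.Helper18.DSPts

/-!
# Points of `Red.diag R M` and of its base changes (helper7)

`Hom_R(W, Spec R[M]) ≃* (Multiplicative M →* Γ(W, O_W))`, and for `f : X ⟶ Spec R` the group
isomorphism `Red.bc f (Red.diag R M) ≅ Red.DS X M`.
-/

set_option autoImplicit false
set_option linter.style.haveILetI false
universe u
open CategoryTheory CategoryTheory.Limits MonoidalCategory CartesianMonoidalCategory MonObj GrpObj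
  AlgebraicGeometry

noncomputable section

namespace Groth.Agent.Helper7.DiagPts

open Groth.Agent.Helper18 Groth.Agent.Helper18.FinSub Groth.Agent.Helper18.SekPts

variable {R : Type u} [CommRing R] (M : Type) [AddCommGroup M]

/-- the coordinate ring `R[M]` -/
abbrev A (R : Type u) [CommRing R] (M : Type) [AddCommGroup M] : Type u :=
  MonoidAlgebra R (Multiplicative M)

section Base

variable {W : Over (Spec (CommRingCat.of R))}

/-- the underlying morphism of a point, with its type normalised -/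
def xl (x : W ⟶ Red.diag R M) : W.left ⟶ Spec (CommRingCat.of (A R M)) := x.left

/-- the underlying morphism of a pair of points, with its type normalised -/
def ll (x y : W ⟶ Red.diag R M) : W.left ⟶ pullback
    (Spec.map (CommRingCat.ofHom (algebraMap R (A R M))))
    (Spec.map (CommRingCat.ofHom (algebraMap R (A R M)))) := (lift x y).left

/-- the ring map of a point -/
def rho (x : W ⟶ Red.diag R M) : A R M →+* Γ(W.left, ⊤) :=
  (xl M x).appTop.hom.comp (Scheme.ΓSpecIso (CommRingCat.of (A R M))).inv.hom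

theorem rho_apply (x : W ⟶ Red.diag R M) (a : A R M) :
    rho M x a = (xl M x).appTop ((Scheme.ΓSpecIso (CommRingCat.of (A R M))).inv a) := rfl

theorem rho_algebraMap (x : W ⟶ Red.diag R M) (r : R) :
    rho M x (algebraMap R (A R M) r) = sigma W r := by
  have hw : xl M x ≫ Spec.map (CommRingCat.ofHom (algebraMap R (A R M))) = W.hom := Over.w x
  rw [rho_apply, ← appTop_comp_SpecMap, hw]
  rfl

theorem rho_injective {x y : W ⟶ Red.diag R M} (h : rho M x = rho M y) : x = y := by
  apply Over.OverMorphism.ext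
  show xl M x = xl M y
  apply ext_of_isAffine
  ext s
  have e : s = (Scheme.ΓSpecIso (CommRingCat.of (A R M))).inv
      ((Scheme.ΓSpecIso (CommRingCat.of (A R M))).hom s) :=
    (congrArg (fun k => k.hom s) (Scheme.ΓSpecIso (CommRingCat.of (A R M))).hom_inv_id).symm
  rw [e]
  exact congrArg (fun k => k ((Scheme.ΓSpecIso (CommRingCat.of (A R M))).hom s)) h

/-- the character of a point -/
def chr (x : W ⟶ Red.diag R M) : Multiplicative M →* Γ(W.left, ⊤) :=
  ((rho M x : A R M →+* Γ(W.left, ⊤)) : A R M →* Γ(W.left, ⊤)).comp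
    (MonoidAlgebra.of R (Multiplicative M))

theorem chr_apply (x : W ⟶ Red.diag R M) (m : Multiplicative M) :
    chr M x m = rho M x (MonoidAlgebra.single m 1) := rfl

theorem single_one_eq (r : R) :
    (MonoidAlgebra.single (1 : Multiplicative M) r : A R M) = algebraMap R (A R M) r := by
  rw [MonoidAlgebra.coe_algebraMap]
  rfl

theorem chr_injective {x y : W ⟶ Red.diag R M} (h : chr M x = chr M y) : x = y := by
  apply rho_injective
  refine MonoidAlgebra.ringHom_ext (fun r => ?_) (fun m => ?_)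
  · rw [single_one_eq, rho_algebraMap, rho_algebraMap]
  · exact congrArg (fun k => k m) h

/-- the ring map out of the tensor square attached to a pair of points -/
def tau (x y : W ⟶ Red.diag R M) : TensorProduct R (A R M) (A R M) →+* Γ(W.left, ⊤) :=
  (ll M x y ≫ (pullbackSpecIso R (A R M) (A R M)).hom).appTop.hom.comp
    (Scheme.ΓSpecIso (CommRingCat.of (TensorProduct R (A R M) (A R M)))).inv.hom

theorem tau_left (x y : W ⟶ Red.diag R M) (a : A R M) :
    tau M x y (a ⊗ₜ[R] 1) = rho M x a := by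
  have h2 : ll M x y ≫ pullback.fst _ _ = xl M x := by
    show (lift x y).left ≫ pullback.fst (Red.diag R M).hom (Red.diag R M).hom = x.left
    rw [← Over.fst_left, ← Over.comp_left, lift_fst]
  have h3 : (ll M x y ≫ (pullbackSpecIso R (A R M) (A R M)).hom) ≫
      Spec.map (CommRingCat.ofHom
        (Algebra.TensorProduct.includeLeftRingHom : A R M →+* TensorProduct R (A R M) (A R M))) =
        xl M x := by
    rw [Category.assoc]
    erw [pullbackSpecIso_hom_fst]
    exact h2
  rw [rho_apply, ← h3, appTop_comp_SpecMap]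
  rfl

theorem tau_right (x y : W ⟶ Red.diag R M) (a : A R M) :
    tau M x y (1 ⊗ₜ[R] a) = rho M y a := by
  have h2 : ll M x y ≫ pullback.snd _ _ = xl M y := by
    show (lift x y).left ≫ pullback.snd (Red.diag R M).hom (Red.diag R M).hom = y.left
    rw [← Over.snd_left, ← Over.comp_left, lift_snd]
  have h3 : (ll M x y ≫ (pullbackSpecIso R (A R M) (A R M)).hom) ≫
      Spec.map (CommRingCat.ofHom
        (RingHomClass.toRingHom (Algebra.TensorProduct.includeRight :
          A R M →ₐ[R] TensorProduct R (A R M) (A R M)))) = xl M y := by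
    rw [Category.assoc]
    erw [pullbackSpecIso_hom_snd]
    exact h2
  rw [rho_apply, ← h3, appTop_comp_SpecMap]
  rfl

theorem rho_mul (x y : W ⟶ Red.diag R M) (a : A R M) :
    rho M (x * y) a = tau M x y (CoalgebraStruct.comul (R := R) a) := by
  have hxy : x * y = lift x y ≫ μ[Red.diag R M] := rfl
  have hμ : μ[Red.diag R M].left = (pullbackSpecIso R (A R M) (A R M)).hom ≫
      Spec.map (CommRingCat.ofHom (Bialgebra.comulAlgHom R (A R M)).toRingHom) :=
    mul_spec_asOver_spec_left
  have hl : xl M (x * y) = (ll M x y ≫ (pullbackSpecIso R (A R M) (A R M)).hom) ≫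
      Spec.map (CommRingCat.ofHom (Bialgebra.comulAlgHom R (A R M)).toRingHom) := by
    rw [Category.assoc]
    show (x * y).left = (lift x y).left ≫ _
    rw [hxy, Over.comp_left, hμ]
  rw [rho_apply, hl, appTop_comp_SpecMap]
  rfl

theorem comul_single_one (m : Multiplicative M) :
    CoalgebraStruct.comul (R := R) (MonoidAlgebra.single m (1 : R) : A R M) =
      ((MonoidAlgebra.single m (1 : R) : A R M) ⊗ₜ[R] (1 : A R M)) *
        ((1 : A R M) ⊗ₜ[R] (MonoidAlgebra.single m (1 : R) : A R M)) := by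
  rw [MonoidAlgebra.comul_single, Algebra.TensorProduct.tmul_mul_tmul, _root_.mul_one,
    _root_.one_mul]
  simp

theorem chr_mul (x y : W ⟶ Red.diag R M) : chr M (x * y) = chr M x * chr M y := by
  apply MonoidHom.ext
  intro m
  rw [MonoidHom.mul_apply, chr_apply, chr_apply, chr_apply, rho_mul, comul_single_one, map_mul,
    tau_left, tau_right]

/-- the ring map of a character -/
def liftW (χ : Multiplicative M →* Γ(W.left, ⊤)) : A R M →+* Γ(W.left, ⊤) :=
  MonoidAlgebra.liftNCRingHom (sigma W) χ (fun _ _ => Commute.all _ _)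

theorem liftW_single (χ : Multiplicative M →* Γ(W.left, ⊤)) (m : Multiplicative M) (r : R) :
    liftW M χ (MonoidAlgebra.single m r) = sigma W r * χ m :=
  MonoidAlgebra.liftNCRingHom_single _ _ _ _ _

theorem liftW_comp (χ : Multiplicative M →* Γ(W.left, ⊤)) :
    (liftW M χ).comp (algebraMap R (A R M)) = sigma W := by
  apply RingHom.ext
  intro r
  rw [RingHom.comp_apply, ← single_one_eq, liftW_single, map_one, _root_.mul_one]

/-- the point of a character -/
def mkW (χ : Multiplicative M →* Γ(W.left, ⊤)) : W ⟶ Red.diag R M :=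
  Over.homMk (W.left.toSpecΓ ≫ Spec.map (CommRingCat.ofHom (liftW M χ))) (by
    show (W.left.toSpecΓ ≫ Spec.map (CommRingCat.ofHom (liftW M χ))) ≫
        Spec.map (CommRingCat.ofHom (algebraMap R (A R M))) = W.hom
    rw [Category.assoc, ← Spec.map_comp, ← CommRingCat.ofHom_comp, liftW_comp, toSpecΓ_sigma])

theorem chr_mkW (χ : Multiplicative M →* Γ(W.left, ⊤)) : chr M (mkW M χ) = χ := by
  apply MonoidHom.ext
  intro m
  show (W.left.toSpecΓ ≫ Spec.map (CommRingCat.ofHom (liftW M χ))).appTop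
      ((Scheme.ΓSpecIso (CommRingCat.of (A R M))).inv (MonoidAlgebra.single m 1)) = χ m
  rw [appTop_comp_SpecMap, Scheme.toSpecΓ_appTop]
  have e : ∀ s : Γ(W.left, ⊤), (Scheme.ΓSpecIso Γ(W.left, ⊤)).hom
      ((Scheme.ΓSpecIso Γ(W.left, ⊤)).inv s) = s := fun s =>
    congrArg (fun k => k.hom s) (Scheme.ΓSpecIso Γ(W.left, ⊤)).inv_hom_id
  erw [e]
  rw [liftW_single, map_one, _root_.one_mul]

theorem chr_comp {W' : Over (Spec (CommRingCat.of R))} (g : W' ⟶ W) (x : W ⟶ Red.diag R M) :
    chr M (g ≫ x) = (g.left.appTop.hom : Γ(W.left, ⊤) →* Γ(W'.left, ⊤)).comp (chr M x) := by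
  apply MonoidHom.ext
  intro m
  have : xl M (g ≫ x) = g.left ≫ xl M x := rfl
  show rho M (g ≫ x) (MonoidAlgebra.single m 1) = g.left.appTop (rho M x (MonoidAlgebra.single m 1))
  rw [rho_apply, rho_apply, this, Scheme.Hom.comp_appTop, CommRingCat.comp_apply]

end Base

section Bc

variable {X : Scheme.{u}} (f : X ⟶ Spec (CommRingCat.of R))

/-- the character of a point of the base change -/
def co {T : Over X} (t : T ⟶ Red.bc f (Red.diag R M)) : Multiplicative M →* Γ(T.left, ⊤) :=
  chr M (BcPts.dn f (Red.diag R M) t)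

theorem co_mul {T : Over X} (s t : T ⟶ Red.bc f (Red.diag R M)) :
    co M f (s * t) = co M f s * co M f t := by
  unfold co
  have h := BcPts.dn_mul f (Red.diag R M) s t
  rw [← chr_mul]
  exact congrArg (chr M) h

theorem co_comp {T T' : Over X} (g : T' ⟶ T) (t : T ⟶ Red.bc f (Red.diag R M)) :
    co M f (g ≫ t) = (g.left.appTop.hom : Γ(T.left, ⊤) →* Γ(T'.left, ⊤)).comp (co M f t) := by
  unfold co
  rw [BcPts.dn_comp, chr_comp]
  rfl

theorem dn_injective {G : Over (Spec (CommRingCat.of R))} {T : Over X} {s t : T ⟶ Red.bc f G}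
    (h : BcPts.dn f G s = BcPts.dn f G t) : s = t := by
  apply Over.OverMorphism.ext
  have h1 := congrArg (fun k => k.left) h
  simp only [BcPts.dn_left] at h1
  have hs : s.left ≫ pullback.snd G.hom f = T.hom := Over.w s
  have ht : t.left ≫ pullback.snd G.hom f = T.hom := Over.w t
  apply pullback.hom_ext
  · exact h1
  · rw [hs, ht]

theorem co_injective {T : Over X} {s t : T ⟶ Red.bc f (Red.diag R M)}
    (h : co M f s = co M f t) : s = t :=
  dn_injective f (chr_injective M h)

/-- lifting a point of `G` to the base change -/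
def up {G : Over (Spec (CommRingCat.of R))} {T : Over X} (y : (Over.map f).obj T ⟶ G) :
    T ⟶ Red.bc f G :=
  Over.homMk (pullback.lift y.left T.hom (Over.w y)) (pullback.lift_snd _ _ _)

theorem dn_up {G : Over (Spec (CommRingCat.of R))} {T : Over X} (y : (Over.map f).obj T ⟶ G) :
    BcPts.dn f G (up f y) = y := by
  apply Over.OverMorphism.ext
  rw [BcPts.dn_left]
  exact pullback.lift_fst _ _ _

/-- the point of the base change with a given character -/
def mk {T : Over X} (χ : Multiplicative M →* Γ(T.left, ⊤)) : T ⟶ Red.bc f (Red.diag R M) :=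
  up f (mkW M (W := (Over.map f).obj T) χ)

theorem co_mk {T : Over X} (χ : Multiplicative M →* Γ(T.left, ⊤)) : co M f (mk M f χ) = χ := by
  unfold co mk
  rw [dn_up]
  exact chr_mkW M (W := (Over.map f).obj T) χ

/-- the comparison morphism `D_R(M) ×_R X ⟶ D_X(M)` -/
def phi : Red.bc f (Red.diag R M) ⟶ Red.DS X M := DSPts.ptOfChar (co M f (𝟙 _))

/-- its inverse -/
def psi : Red.DS X M ⟶ Red.bc f (Red.diag R M) := mk M f (DSPts.charOfPt (𝟙 _))

theorem comp_phi {T : Over X} (a : T ⟶ Red.bc f (Red.diag R M)) :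
    a ≫ phi M f = DSPts.ptOfChar (co M f a) := by
  unfold phi
  rw [DSPts.ptOfChar_comp, ← co_comp, Category.comp_id]

theorem comp_psi {T : Over X} (a : T ⟶ Red.DS X M) :
    a ≫ psi M f = mk M f (DSPts.charOfPt a) := by
  apply co_injective
  unfold psi
  rw [co_comp, co_mk, co_mk, ← DSPts.charOfPt_comp, Category.comp_id]

theorem phi_psi : phi M f ≫ psi M f = 𝟙 _ := by
  apply co_injective
  rw [comp_psi, co_mk]
  unfold phi
  rw [DSPts.charOfPt_ptOfChar]

theorem psi_phi : psi M f ≫ phi M f = 𝟙 _ := by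
  rw [comp_phi]
  unfold psi
  rw [co_mk, DSPts.ptOfChar_charOfPt]

theorem mul_comp_phi {T : Over X} (a b : T ⟶ Red.bc f (Red.diag R M)) :
    (a * b) ≫ phi M f = (a ≫ phi M f) * (b ≫ phi M f) := by
  rw [comp_phi, comp_phi, comp_phi, co_mul, DSPts.ptOfChar_mul]

instance isMonHom_phi : IsMonHom (phi M f) := by
  apply Groth.Agent.Helper22.GrpYoneda.isMonHom_of_points
  · have h := mul_comp_phi M f (1 : 𝟙_ (Over X) ⟶ Red.bc f (Red.diag R M)) 1
    rw [_root_.mul_one] at h
    have h' : ((1 : 𝟙_ (Over X) ⟶ Red.bc f (Red.diag R M)) ≫ phi M f) *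
        ((1 : 𝟙_ (Over X) ⟶ Red.bc f (Red.diag R M)) ≫ phi M f) =
        ((1 : 𝟙_ (Over X) ⟶ Red.bc f (Red.diag R M)) ≫ phi M f) * 1 := by
      rw [← h, _root_.mul_one]
    have h2 : ((1 : 𝟙_ (Over X) ⟶ Red.bc f (Red.diag R M)) ≫ phi M f)⁻¹ *
        (((1 : 𝟙_ (Over X) ⟶ Red.bc f (Red.diag R M)) ≫ phi M f) *
        ((1 : 𝟙_ (Over X) ⟶ Red.bc f (Red.diag R M)) ≫ phi M f)) =
        ((1 : 𝟙_ (Over X) ⟶ Red.bc f (Red.diag R M)) ≫ phi M f)⁻¹ *
        (((1 : 𝟙_ (Over X) ⟶ Red.bc f (Red.diag R M)) ≫ phi M f) * 1) := by rw [h']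
    rw [inv_mul_cancel_left, inv_mul_cancel_left] at h2
    have h'' := h2
    rw [Groth.Agent.Helper22.GrpYoneda.eta_eq_one, h'', Groth.Agent.Helper22.GrpYoneda.eta_eq_one]
  · exact mul_comp_phi M f _ _

/-- `D_R(M) ×_R X ≅ D_X(M)` -/
def iso : Red.bc f (Red.diag R M) ≅ Red.DS X M := ⟨phi M f, psi M f, phi_psi M f, psi_phi M f⟩

theorem nonempty_grpIso :
    Nonempty (Grp.mk (Red.bc f (Red.diag R M)) ≅ Grp.mk (Red.DS X M)) := by
  haveI : IsMonHom (iso M f).hom := isMonHom_phi M f
  exact ⟨Grp.mkIso' (iso M f)⟩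

end Bc

end Groth.Agent.Helper7.DiagPts
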