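import Mathlib
import Groth.Prelude.Def_AnFib
import Groth.Agent.Lib.Helper15.HProjBaseChange

/-!
# Base change of elementary fibrations
-/

set_option autoImplicit false
set_option linter.style.haveILetI false
set_option linter.unusedSectionVars false

universe u

open CategoryTheory AlgebraicGeometry Limits

namespace Groth.Agent.Helper7.ElemFib

/-- a nonempty relatively open subset of an irreducible set is dense in it -/
theorem subset_closure_inter_of_isIrreducible {T : Type*} [TopologicalSpace T] {F O : Set T}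
    (hF : IsPreirreducible F) (hO : IsOpen O) (hne : (F ∩ O).Nonempty) :
    F ⊆ closure (O ∩ F) := by
  intro x hx
  rw [mem_closure_iff]
  intro N hN hxN
  obtain ⟨y, hyF, hyNO⟩ := hF N O hN hO ⟨x, hx, hxN⟩ hne
  exact ⟨y, hyNO.1, hyNO.2, hyF⟩

/-- geometric fibres of a base change -/
theorem geomFibre_baseChange {Xb S S' : Scheme.{u}} (fb : Xb ⟶ S) (u : S' ⟶ S)
    (Ω : Type u) [Field Ω] (σ : Spec (CommRingCat.of Ω) ⟶ S')
    (h : IrreducibleSpace ↥(pullback fb (σ ≫ u)) ∧ topologicalKrullDim ↥(pullback fb (σ ≫ u)) = 1) :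
    IrreducibleSpace ↥(pullback (pullback.snd fb u) σ) ∧
      topologicalKrullDim ↥(pullback (pullback.snd fb u) σ) = 1 := by
  let e := pullbackLeftPullbackSndIso fb u σ
  let he : ↥(pullback (pullback.snd fb u) σ) ≃ₜ ↥(pullback fb (σ ≫ u)) :=
    TopCat.homeoOfIso (Scheme.forgetToTop.mapIso e)
  haveI := h.1
  refine ⟨?_, ?_⟩
  · have h1 : IsIrreducible (Set.univ : Set ↥(pullback fb (σ ≫ u))) :=
      IrreducibleSpace.isIrreducible_univ _
    have h2 := h1.image he.symm he.symm.continuous.continuousOn
    rw [Set.image_univ, he.symm.surjective.range_eq] at h2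
    haveI : PreirreducibleSpace ↥(pullback (pullback.snd fb u) σ) := ⟨h2.isPreirreducible⟩
    exact ⟨⟨h2.nonempty.some⟩⟩
  · rw [← h.2]
    exact IsHomeomorph.topologicalKrullDim_eq he he.isHomeomorph

theorem range_geomPoint {S' : Scheme.{u}} (s' : S') (Ω : Type u) [Field Ω]
    [Algebra (S'.residueField s') Ω] :
    Set.range (Spec.map (CommRingCat.ofHom (algebraMap (S'.residueField s') Ω)) ≫
      S'.fromSpecResidueField s') = {s'} := by
  have key : ∀ t : Spec (CommRingCat.of Ω),
      (Spec.map (CommRingCat.ofHom (algebraMap (S'.residueField s') Ω)) ≫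
        S'.fromSpecResidueField s') t = s' := by
    intro t
    have h : (S'.fromSpecResidueField s')
        ((Spec.map (CommRingCat.ofHom (algebraMap (S'.residueField s') Ω))) t) ∈
        Set.range (S'.fromSpecResidueField s') := ⟨_, rfl⟩
    rw [Scheme.range_fromSpecResidueField] at h
    exact h
  apply Set.Subset.antisymm
  · rintro _ ⟨t, rfl⟩
    exact key t
  · rintro _ rfl
    obtain ⟨t⟩ : Nonempty (Spec (CommRingCat.of Ω)) := inferInstance
    exact ⟨t, key t⟩

set_option maxHeartbeats 1600000 in
theorem isElementaryFibration_pullback_snd {X S S' : Scheme.{u}} (f : X ⟶ S) (u : S' ⟶ S)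
    (hf : An.IsElementaryFibration f) : An.IsElementaryFibration (pullback.snd f u) := by
  obtain ⟨Xb, Y, j, fb, i, hjf, hj, hi, hrange, hdense, hsm, hproj, hgeom, hfin, het, hsurj⟩ := hf
  haveI := hj
  haveI := hi
  haveI := hsm
  haveI := hfin
  haveI := het
  haveI hsurj' : Surjective (i ≫ fb) := ⟨hsurj⟩
  have sqB : IsPullback (pullback.fst fb u) (pullback.snd fb u) fb u :=
    IsPullback.of_hasPullback _ _
  have hw : (pullback.fst f u ≫ j) ≫ fb = pullback.snd f u ≫ u := by
    rw [Category.assoc, hjf, pullback.condition]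
  obtain ⟨j', hj'1, hj'2⟩ : ∃ j' : pullback f u ⟶ pullback fb u,
      j' ≫ pullback.fst fb u = pullback.fst f u ≫ j ∧ j' ≫ pullback.snd fb u = pullback.snd f u :=
    ⟨sqB.lift _ _ hw, sqB.lift_fst _ _ _, sqB.lift_snd _ _ _⟩
  have sqX : IsPullback (pullback.fst f u) (pullback.snd f u) f u := IsPullback.of_hasPullback _ _
  have sqj : IsPullback j' (pullback.fst f u) (pullback.fst fb u) j := by
    refine IsPullback.of_right ?_ hj'1 sqB.flip
    rw [hj'2, hjf]
    exact sqX.flip
  haveI : IsOpenImmersion j' :=
    MorphismProperty.of_isPullback (P := @IsOpenImmersion) sqj.flip hj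
  have hrj' : Set.range j'.base = (pullback.fst fb u).base ⁻¹' Set.range j.base := by
    have e := sqj.flip.isoPullback_hom_snd
    have h1 : Set.range j' = Set.range (pullback.snd j (pullback.fst fb u)) := by
      rw [← e]
      have hs : Function.Surjective sqj.flip.isoPullback.hom := by
        have : Surjective sqj.flip.isoPullback.hom := inferInstance
        exact this.surj
      ext x
      constructor
      · rintro ⟨z, rfl⟩
        exact ⟨sqj.flip.isoPullback.hom z, rfl⟩
      · rintro ⟨z, rfl⟩
        obtain ⟨z', rfl⟩ := hs z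
        exact ⟨z', rfl⟩
    have h2 := Scheme.Pullback.range_snd j (pullback.fst fb u)
    exact h1.trans h2
  have hri' : Set.range (pullback.snd i (pullback.fst fb u)).base =
      (pullback.fst fb u).base ⁻¹' Set.range i.base :=
    Scheme.Pullback.range_snd i (pullback.fst fb u)
  have sqi : IsPullback (pullback.fst i (pullback.fst fb u))
      (pullback.snd i (pullback.fst fb u) ≫ pullback.snd fb u) (i ≫ fb) u :=
    (IsPullback.of_hasPullback i (pullback.fst fb u)).paste_vert sqB
  have hdense' : ∀ s' : S', (pullback.snd fb u).base ⁻¹' {s'} ⊆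
      closure (Set.range j'.base ∩ (pullback.snd fb u).base ⁻¹' {s'}) := by
    intro s'
    have hrσ := range_geomPoint s' (AlgebraicClosure (S'.residueField s'))
    obtain ⟨σ', hσ'⟩ : ∃ σ' : Spec (CommRingCat.of (AlgebraicClosure (S'.residueField s'))) ⟶ S',
        σ' = Spec.map (CommRingCat.ofHom (algebraMap (S'.residueField s')
          (AlgebraicClosure (S'.residueField s')))) ≫ S'.fromSpecResidueField s' := ⟨_, rfl⟩
    rw [← hσ'] at hrσ
    have hg := geomFibre_baseChange fb u _ σ' (hgeom _ (σ' ≫ u))
    haveI := hg.1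
    have hF : IsIrreducible ((pullback.snd fb u).base ⁻¹' {s'}) := by
      have h1 := Scheme.Pullback.range_fst (pullback.snd fb u) σ'
      rw [hrσ] at h1
      have h2 : IsIrreducible (Set.range (pullback.fst (pullback.snd fb u) σ')) := by
        rw [← Set.image_univ]
        exact (IrreducibleSpace.isIrreducible_univ _).image _
          (pullback.fst (pullback.snd fb u) σ').continuous.continuousOn
      rw [h1] at h2
      exact h2
    refine subset_closure_inter_of_isIrreducible hF.isPreirreducible
      j'.isOpenEmbedding.isOpen_range ?_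
    obtain ⟨y, hy⟩ := hsurj (u s')
    have hx₀ : i y ∈ fb.base ⁻¹' {u s'} := hy
    have hcl := hdense (u s') hx₀
    obtain ⟨x₁, hx₁⟩ : (Set.range j.base ∩ fb.base ⁻¹' {u s'}).Nonempty := by
      by_contra hemp
      rw [Set.not_nonempty_iff_eq_empty] at hemp
      rw [hemp, closure_empty] at hcl
      exact hcl
    obtain ⟨⟨x, rfl⟩, hx₁f⟩ := hx₁
    have hfx : f x = u s' := by
      rw [← hjf]
      exact hx₁f
    obtain ⟨z, hz1, hz2⟩ := Scheme.Pullback.exists_preimage_pullback x s' hfx
    refine ⟨j' z, ?_, ⟨z, rfl⟩⟩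
    show (pullback.snd fb u) (j' z) = s'
    rw [← Scheme.Hom.comp_apply, hj'2, hz2]
  refine ⟨pullback fb u, pullback i (pullback.fst fb u), j', pullback.snd fb u,
    pullback.snd i (pullback.fst fb u), hj'2, inferInstance, inferInstance, ?_, hdense',
    inferInstance, ?_, ?_, ?_, ?_, ?_⟩
  · rw [hrj', hri', hrange, Set.preimage_compl]
  · obtain ⟨n, c, hc, hcf⟩ := hproj
    obtain ⟨n', c', hc', hcf'⟩ :=
      Groth.Agent.Helper15.isHProjective_pullback_snd fb ⟨n, c, hc, hcf⟩ u
    exact ⟨n', c', hc', hcf'⟩
  · intro Ω _ _ σ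
    exact geomFibre_baseChange fb u Ω σ (hgeom Ω (σ ≫ u))
  · exact MorphismProperty.of_isPullback (P := @IsFinite) sqi hfin
  · exact MorphismProperty.of_isPullback (P := @Etale) sqi het
  · have : Surjective (pullback.snd i (pullback.fst fb u) ≫ pullback.snd fb u) :=
      MorphismProperty.of_isPullback (P := @Surjective) sqi hsurj'
    exact this.surj

end Groth.Agent.Helper7.ElemFib
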