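import Mathlib
import Groth.Agent.Lib.Helper20.GorFlat3
import Groth.Agent.Lib.Helper14.RegFiber

/-!
# Ascent of the Gorenstein property along flat maps with regular fibres (helper7)
-/

set_option autoImplicit false
set_option linter.unusedSectionVars false
set_option linter.style.haveILetI false
universe u

namespace Groth.Agent.Helper7.GorAsc

open TensorProduct IsLocalRing Groth.Agent.Lead Groth.Agent.Helper20.GorFlat

section Step

variable (A B : Type u) [CommRing A] [CommRing B] [IsLocalRing A]
    [IsLocalRing B] [IsNoetherianRing A] [IsNoetherianRing B] [Algebra A B]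
    [IsLocalHom (algebraMap A B)] [Module.Flat A B]

theorem map_le_maximalIdeal : (maximalIdeal A).map (algebraMap A B) ≤ maximalIdeal B := by
  rw [Ideal.map_le_iff_le_comap]
  intro a ha
  exact Groth.Agent.Lead.Depth.algebraMap_mem_maximalIdeal ha

theorem zero_case (hA : LocCoh.IsGorensteinLocalRing A)
    [IsLocalRing (B ⧸ (maximalIdeal A).map (algebraMap A B))]
    (h0 : maximalIdeal (B ⧸ (maximalIdeal A).map (algebraMap A B)) = ⊥) :
    LocCoh.IsGorensteinLocalRing B := by
  have hmap : (maximalIdeal A).map (algebraMap A B) = maximalIdeal B := by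
    apply le_antisymm (map_le_maximalIdeal A B)
    have h1 : (maximalIdeal B).map (Ideal.Quotient.mk ((maximalIdeal A).map (algebraMap A B))) =
        ⊥ := by
      rw [IsLocalRing.map_maximalIdeal_of_surjective
        (Ideal.Quotient.mk ((maximalIdeal A).map (algebraMap A B)))
        Ideal.Quotient.mk_surjective, h0]
    rw [Ideal.map_eq_bot_iff_le_ker, Ideal.mk_ker] at h1
    exact h1
  exact (gorenstein_iff_of_map_eq A B hmap).1 hA

/-- The inductive step: cut the fibre by a lift of a regular parameter. -/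
theorem step_case
    [IsLocalRing (B ⧸ (maximalIdeal A).map (algebraMap A B))]
    [IsDomain (B ⧸ (maximalIdeal A).map (algebraMap A B))]
    (y : B) (hy : y ∈ maximalIdeal B)
    (hx0 : Ideal.Quotient.mk ((maximalIdeal A).map (algebraMap A B)) y ≠ 0)
    (ih : ∀ [IsLocalRing (B ⧸ Ideal.span {y})] [IsLocalHom (algebraMap A (B ⧸ Ideal.span {y}))]
      [Module.Flat A (B ⧸ Ideal.span {y})], LocCoh.IsGorensteinLocalRing (B ⧸ Ideal.span {y})) :
    LocCoh.IsGorensteinLocalRing B := by
  have hreg : IsSMulRegular (B ⧸ (maximalIdeal A).map (algebraMap A B)) y := by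
    intro a b hab
    have hab' : Ideal.Quotient.mk ((maximalIdeal A).map (algebraMap A B)) y * a =
      Ideal.Quotient.mk ((maximalIdeal A).map (algebraMap A B)) y * b := hab
    exact mul_left_cancel₀ hx0 hab'
  have e1 : (B ⧸ (maximalIdeal A).map (algebraMap A B)) ≃ₗ[B] B ⊗[A] (A ⧸ maximalIdeal A) :=
    Submodule.quotEquivOfEq _ _ (by rw [smul_eq_mul, Ideal.mul_top]) ≪≫ₗ
      Groth.Agent.Lead.FlatDepth.fibreEquiv (S := B) (maximalIdeal A) B
  have hreg' : IsSMulRegular (B ⊗[A] (A ⧸ maximalIdeal A)) y :=
    (e1.isSMulRegular_congr y).1 hreg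
  obtain ⟨hyreg, hflat⟩ :=
    Groth.Agent.Lead.FlatDepth.isSMulRegular_and_flat_of_fibre (R := A) (S := B) B y hreg'
  have hne' : Ideal.span {y} ≠ ⊤ := RLR.span_singleton_ne_top hy
  haveI : Nontrivial (B ⧸ Ideal.span {y}) := Ideal.Quotient.nontrivial_iff.mpr hne'
  haveI : IsLocalRing (B ⧸ Ideal.span {y}) :=
    IsLocalRing.of_surjective' (Ideal.Quotient.mk (Ideal.span {y})) Ideal.Quotient.mk_surjective
  haveI : IsLocalHom (Ideal.Quotient.mk (Ideal.span {y})) :=
    IsLocalHom.of_surjective _ Ideal.Quotient.mk_surjective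
  haveI : IsLocalHom (algebraMap A (B ⧸ Ideal.span {y})) := by
    have : algebraMap A (B ⧸ Ideal.span {y}) =
        (Ideal.Quotient.mk (Ideal.span {y})).comp (algebraMap A B) := rfl
    rw [this]
    exact RingHom.isLocalHom_comp _ _
  haveI : Module.Flat A (B ⧸ Ideal.span {y}) :=
    Module.Flat.of_linearEquiv ((Groth.Agent.Lead.Depth.quotSpanSelfEquiv y).restrictScalars A)
  haveI : LocCoh.IsGorensteinLocalRing (B ⧸ Ideal.span {y}) := ih
  exact (Groth.Agent.S0343.result B y hy hyreg).2 inferInstance

/-- the closed fibre of `A → B/(y)` is the closed fibre of `A → B` modulo `y`. -/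
noncomputable def fibreQuotEquiv (y : B) :
    ((B ⧸ Ideal.span {y}) ⧸ (maximalIdeal A).map (algebraMap A (B ⧸ Ideal.span {y}))) ≃+*
      ((B ⧸ (maximalIdeal A).map (algebraMap A B)) ⧸
        Ideal.span {Ideal.Quotient.mk ((maximalIdeal A).map (algebraMap A B)) y}) := by
  have hmapeq : (maximalIdeal A).map (algebraMap A (B ⧸ Ideal.span {y})) =
      ((maximalIdeal A).map (algebraMap A B)).map (Ideal.Quotient.mk (Ideal.span {y})) := by
    have h1 : algebraMap A (B ⧸ Ideal.span {y}) =
        (Ideal.Quotient.mk (Ideal.span {y})).comp (algebraMap A B) := rfl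
    rw [h1, ← Ideal.map_map]
  have hspaneq : (Ideal.span {y}).map
      (Ideal.Quotient.mk ((maximalIdeal A).map (algebraMap A B))) =
      Ideal.span {Ideal.Quotient.mk ((maximalIdeal A).map (algebraMap A B)) y} := by
    rw [Ideal.map_span, Set.image_singleton]
  exact (Ideal.quotEquivOfEq hmapeq).trans
    ((DoubleQuot.quotQuotEquivComm (Ideal.span {y}) ((maximalIdeal A).map (algebraMap A B))).trans
      (Ideal.quotEquivOfEq hspaneq))

end Step

/-- The statement proved by induction on `d` (kept as a plain definition so that the induction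
hypothesis is not picked up as a local instance). -/
def AscentStatement (d : ℕ) : Prop :=
  ∀ (A B : Type u) [CommRing A] [CommRing B] [IsLocalRing A]
    [IsLocalRing B] [IsNoetherianRing A] [IsNoetherianRing B] [Algebra A B]
    [IsLocalHom (algebraMap A B)] [Module.Flat A B], LocCoh.IsGorensteinLocalRing A →
    ∀ [IsRegularLocalRing (B ⧸ (maximalIdeal A).map (algebraMap A B))],
    (maximalIdeal (B ⧸ (maximalIdeal A).map (algebraMap A B))).spanFinrank = d →
    LocCoh.IsGorensteinLocalRing B

theorem ascent_aux (d : ℕ) : AscentStatement.{u} d := by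
  induction d with
  | zero =>
    intro A B _ _ _ _ _ _ _ _ _ hA hF hd
    have h0 : maximalIdeal (B ⧸ (maximalIdeal A).map (algebraMap A B)) = ⊥ :=
      (Submodule.spanFinrank_eq_zero_iff_eq_bot
        (maximalIdeal (B ⧸ (maximalIdeal A).map (algebraMap A B))).fg_of_isNoetherianRing).mp hd
    exact zero_case A B hA h0
  | succ d ih =>
    intro A B _ _ _ _ _ _ _ _ _ hA hF hspan
    have hne : maximalIdeal (B ⧸ (maximalIdeal A).map (algebraMap A B)) ≠ ⊥ := by
      intro h0
      have h1 := (Submodule.spanFinrank_eq_zero_iff_eq_bot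
        (maximalIdeal (B ⧸ (maximalIdeal A).map (algebraMap A B))).fg_of_isNoetherianRing).mpr h0
      omega
    obtain ⟨xbar, hxbar, hxbar2⟩ := Hom.exists_mem_maximalIdeal_notMem_sq hne
    obtain ⟨n, ybar, hn, hgen⟩ := RLR.exists_generators_of_notMem_sq hxbar hxbar2
    have hnd : n = d := by omega
    haveI : IsLocalRing ((B ⧸ (maximalIdeal A).map (algebraMap A B)) ⧸ Ideal.span {xbar}) :=
      RLR.isLocalRing_quotient (RLR.span_singleton_ne_top hxbar)
    obtain ⟨hF'reg, hF'dim⟩ := RLR.isRegularLocalRing_quotient_aux xbar ybar hgen hn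
    obtain ⟨y, rfl⟩ := Ideal.Quotient.mk_surjective xbar
    have hy : y ∈ maximalIdeal B := by
      by_contra hyu
      have hu : IsUnit y := by
        rw [mem_maximalIdeal, mem_nonunits_iff, not_not] at hyu
        exact hyu
      have hu' : IsUnit (Ideal.Quotient.mk ((maximalIdeal A).map (algebraMap A B)) y) := hu.map _
      exact ((mem_maximalIdeal _).mp hxbar) hu'
    haveI : IsDomain (B ⧸ (maximalIdeal A).map (algebraMap A B)) :=
      RLR.isDomain (B ⧸ (maximalIdeal A).map (algebraMap A B))
    have hx0 : Ideal.Quotient.mk ((maximalIdeal A).map (algebraMap A B)) y ≠ 0 := by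
      intro h0
      rw [h0] at hxbar2
      exact hxbar2 (zero_mem _)
    refine step_case A B y hy hx0 ?_
    intro _ _ _
    haveI hF2 : IsRegularLocalRing
        ((B ⧸ Ideal.span {y}) ⧸ (maximalIdeal A).map (algebraMap A (B ⧸ Ideal.span {y}))) :=
      IsRegularLocalRing.of_ringEquiv (fibreQuotEquiv A B y).symm
    have hd2 : ringKrullDim
        ((B ⧸ Ideal.span {y}) ⧸ (maximalIdeal A).map (algebraMap A (B ⧸ Ideal.span {y}))) =
          (d : ℕ) := by
      rw [ringKrullDim_eq_of_ringEquiv (fibreQuotEquiv A B y), hF'dim, hnd]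
    exact ih A (B ⧸ Ideal.span {y}) hA (RLR.spanFinrank_maximalIdeal_eq_of_dim hd2)

/-- **Ascent of the Gorenstein property**: a flat local homomorphism of Noetherian local rings with
Gorenstein source and regular closed fibre has Gorenstein target. -/
theorem isGorensteinLocalRing_of_flat_of_fibre (A B : Type u) [CommRing A] [CommRing B]
    [IsLocalRing A] [IsLocalRing B] [IsNoetherianRing A] [IsNoetherianRing B] [Algebra A B]
    [IsLocalHom (algebraMap A B)] [Module.Flat A B] (hA : LocCoh.IsGorensteinLocalRing A)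
    [IsRegularLocalRing (B ⧸ (maximalIdeal A).map (algebraMap A B))] :
    LocCoh.IsGorensteinLocalRing B :=
  ascent_aux _ A B hA rfl

end Groth.Agent.Helper7.GorAsc
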