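import Mathlib
import Groth.Agent.Lib.Helper7.GorAsc
import Groth.Agent.Lib.Lead.RLR6

/-!
# Embedding dimension along flat local homomorphisms with regular closed fibre (helper7)
-/

set_option autoImplicit false
set_option linter.unusedSectionVars false
set_option linter.style.haveILetI false
universe u

namespace Groth.Agent.Helper7.EmbDimFlat

open TensorProduct IsLocalRing Groth.Agent.Lead

section Base

variable (A B : Type u) [CommRing A] [CommRing B] [IsLocalRing A]
    [IsLocalRing B] [IsNoetherianRing A] [IsNoetherianRing B] [Algebra A B]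
    [IsLocalHom (algebraMap A B)] [Module.Flat A B]

/-- Flat local homomorphism with `𝔪_A B = 𝔪_B`: same embedding dimension. -/
theorem spanFinrank_eq_of_map_eq
    (hmap : (maximalIdeal A).map (algebraMap A B) = maximalIdeal B) :
    (maximalIdeal B).spanFinrank = (maximalIdeal A).spanFinrank := by
  classical
  obtain ⟨s, hs1, hs2⟩ := Submodule.FG.exists_span_finset_card_eq_spanFinrank
    ((maximalIdeal A).fg_of_isNoetherianRing)
  set d := (maximalIdeal A).spanFinrank with hd
  have hcard : Fintype.card s = d := by simpa using hs1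
  let e : Fin d ≃ s := (Fintype.equivFinOfCardEq hcard).symm
  let z : Fin d → A := fun i => (e i : A)
  have hrange : Set.range z = (s : Set A) := by
    ext a
    constructor
    · rintro ⟨i, rfl⟩
      exact (e i).2
    · intro ha
      exact ⟨e.symm ⟨a, ha⟩, by simp [z]⟩
  have hz : Ideal.span (Set.range z) = maximalIdeal A := by
    rw [hrange]; exact hs2
  have hzB : Ideal.span (Set.range (fun i => algebraMap A B (z i))) = maximalIdeal B := by
    rw [← hmap, ← hz, Ideal.map_span, ← Set.range_comp]
    rfl
  have hzBm : ∀ i, algebraMap A B (z i) ∈ maximalIdeal B :=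
    fun i => hzB ▸ Ideal.subset_span ⟨i, rfl⟩
  have hzBm' : ∀ a ∈ maximalIdeal A, algebraMap A B a ∈ maximalIdeal B := by
    intro a ha
    rw [← hmap]
    exact Ideal.mem_map_of_mem _ ha
  apply le_antisymm
  · have h1 := Submodule.spanFinrank_span_le_ncard_of_finite (R := B)
      (Set.finite_range (fun i => algebraMap A B (z i)))
    have h2 : Submodule.span B (Set.range (fun i => algebraMap A B (z i))) = maximalIdeal B := hzB
    rw [h2] at h1
    exact h1.trans (RLR.ncard_range_le _)
  · -- linear independence of the images in the cotangent space of `B`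
    obtain ⟨t, ht⟩ := ((maximalIdeal A) ^ 2).fg_of_isNoetherianRing
    have hsqB : (maximalIdeal B) ^ 2 =
        Ideal.span (Set.range (fun c : t => algebraMap A B (c : A))) := by
      rw [← hmap, ← Ideal.map_pow]
      have ht' : Ideal.span (t : Set A) = maximalIdeal A ^ 2 := ht
      rw [← ht', Ideal.map_span]
      congr 1
      ext b
      constructor
      · rintro ⟨a, ha, rfl⟩
        exact ⟨⟨a, ha⟩, rfl⟩
      · rintro ⟨c, rfl⟩
        exact ⟨c, c.2, rfl⟩
    have hli : LinearIndependent (ResidueField B)
        (fun i => ((maximalIdeal B).toCotangent ⟨algebraMap A B (z i), hzBm i⟩ :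
          CotangentSpace B)) := by
      rw [Fintype.linearIndependent_iff]
      intro g hg i
      have hβ : ∀ i, ∃ β : B, residue B β = g i := fun i => residue_surjective (g i)
      choose β hβ using hβ
      have hsum : ∑ i, β i * algebraMap A B (z i) ∈ maximalIdeal B ^ 2 := by
        have h1 : ∀ i, g i • ((maximalIdeal B).toCotangent ⟨algebraMap A B (z i), hzBm i⟩ :
            CotangentSpace B) =
            (maximalIdeal B).toCotangent (β i • ⟨algebraMap A B (z i), hzBm i⟩) := by
          intro i
          rw [← hβ i]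
          exact RLR.residue_smul_toCotangent _ _
        simp only [h1] at hg
        rw [← map_sum, Ideal.toCotangent_eq_zero] at hg
        convert hg using 1
        simp
      rw [hsqB, Ideal.mem_span_range_iff_exists_fun] at hsum
      obtain ⟨γ, hγ⟩ := hsum
      -- the relation in `B` over `A`
      let f : Fin d ⊕ t → A := Sum.elim z (fun c => -(c : A))
      let x : Fin d ⊕ t → B := Sum.elim β γ
      have hrel : ∑ k, f k • x k = 0 := by
        rw [Fintype.sum_sum_type]
        simp only [f, x, Sum.elim_inl, Sum.elim_inr, Algebra.smul_def, map_neg, neg_mul,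
          Finset.sum_neg_distrib]
        rw [← sub_eq_add_neg, sub_eq_zero]
        calc ∑ i, algebraMap A B (z i) * β i = ∑ i, β i * algebraMap A B (z i) :=
              Finset.sum_congr rfl fun i _ => mul_comm _ _
          _ = ∑ c : t, γ c * algebraMap A B (c : A) := hγ.symm
          _ = _ := Finset.sum_congr rfl fun c _ => mul_comm _ _
      obtain ⟨k, a, y, hxy, hfa⟩ :=
        Module.Flat.isTrivialRelation_of_sum_smul_eq_zero (R := A) (M := B) (f := f) (x := x) hrel
      have ha : ∀ j i, a (Sum.inl i) j ∈ maximalIdeal A := by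
        intro j i
        have hj := hfa j
        rw [Fintype.sum_sum_type] at hj
        simp only [f, Sum.elim_inl, Sum.elim_inr, neg_mul, Finset.sum_neg_distrib] at hj
        rw [← sub_eq_add_neg, sub_eq_zero] at hj
        refine RLR.mem_maximalIdeal_of_sum_mem_sq z hz hd.symm id Function.injective_id
          (fun i => a (Sum.inl i) j) ?_ i
        have h2 : ∑ i, a (Sum.inl i) j * z (id i) = ∑ c : t, (c : A) * a (Sum.inr c) j := by
          rw [← hj]
          exact Finset.sum_congr rfl fun i _ => mul_comm _ _
        rw [h2]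
        refine Ideal.sum_mem _ fun c _ => Ideal.mul_mem_right _ _ ?_
        have ht' : Ideal.span (t : Set A) = maximalIdeal A ^ 2 := ht
        rw [← ht']
        exact Ideal.subset_span c.2
      have hβi : β i ∈ maximalIdeal B := by
        have h3 := hxy (Sum.inl i)
        simp only [x, Sum.elim_inl] at h3
        rw [h3]
        refine Ideal.sum_mem _ fun j _ => ?_
        rw [Algebra.smul_def]
        exact Ideal.mul_mem_right _ _ (hzBm' _ (ha j i))
      rw [← hβ i]
      exact (IsLocalRing.residue_eq_zero_iff _).mpr hβi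
    have h3 := hli.fintype_card_le_finrank
    rw [Fintype.card_fin, ← spanFinrank_maximalIdeal_eq_finrank_cotangentSpace] at h3
    exact h3

/-- The inductive step: cut the fibre by a lift of a regular parameter. -/
theorem step_case
    [IsLocalRing (B ⧸ (maximalIdeal A).map (algebraMap A B))]
    [IsDomain (B ⧸ (maximalIdeal A).map (algebraMap A B))]
    (y : B) (hy : y ∈ maximalIdeal B)
    (hx2 : Ideal.Quotient.mk ((maximalIdeal A).map (algebraMap A B)) y ∉
      maximalIdeal (B ⧸ (maximalIdeal A).map (algebraMap A B)) ^ 2)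
    (e : ℕ)
    (ih : ∀ [IsLocalRing (B ⧸ Ideal.span {y})] [IsLocalHom (algebraMap A (B ⧸ Ideal.span {y}))]
      [Module.Flat A (B ⧸ Ideal.span {y})],
      (maximalIdeal (B ⧸ Ideal.span {y})).spanFinrank = e) :
    (maximalIdeal B).spanFinrank = e + 1 := by
  have hx0 : Ideal.Quotient.mk ((maximalIdeal A).map (algebraMap A B)) y ≠ 0 := by
    intro h0
    rw [h0] at hx2
    exact hx2 (zero_mem _)
  have hreg : IsSMulRegular (B ⧸ (maximalIdeal A).map (algebraMap A B)) y := by
    intro a b hab
    have hab' : Ideal.Quotient.mk ((maximalIdeal A).map (algebraMap A B)) y * a =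
      Ideal.Quotient.mk ((maximalIdeal A).map (algebraMap A B)) y * b := hab
    exact mul_left_cancel₀ hx0 hab'
  have e1 : (B ⧸ (maximalIdeal A).map (algebraMap A B)) ≃ₗ[B] B ⊗[A] (A ⧸ maximalIdeal A) :=
    Submodule.quotEquivOfEq _ _ (by rw [smul_eq_mul, Ideal.mul_top]) ≪≫ₗ
      Groth.Agent.Lead.FlatDepth.fibreEquiv (S := B) (maximalIdeal A) B
  have hreg' : IsSMulRegular (B ⊗[A] (A ⧸ maximalIdeal A)) y :=
    (e1.isSMulRegular_congr y).1 hreg
  obtain ⟨hyreg, hflat⟩ :=
    Groth.Agent.Lead.FlatDepth.isSMulRegular_and_flat_of_fibre (R := A) (S := B) B y hreg'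
  have hne' : Ideal.span {y} ≠ ⊤ := RLR.span_singleton_ne_top hy
  haveI : Nontrivial (B ⧸ Ideal.span {y}) := Ideal.Quotient.nontrivial_iff.mpr hne'
  haveI : IsLocalRing (B ⧸ Ideal.span {y}) :=
    IsLocalRing.of_surjective' (Ideal.Quotient.mk (Ideal.span {y})) Ideal.Quotient.mk_surjective
  haveI : IsLocalHom (Ideal.Quotient.mk (Ideal.span {y})) :=
    IsLocalHom.of_surjective _ Ideal.Quotient.mk_surjective
  haveI : IsLocalHom (algebraMap A (B ⧸ Ideal.span {y})) := by
    have : algebraMap A (B ⧸ Ideal.span {y}) =
        (Ideal.Quotient.mk (Ideal.span {y})).comp (algebraMap A B) := rfl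
    rw [this]
    exact RingHom.isLocalHom_comp _ _
  haveI : Module.Flat A (B ⧸ Ideal.span {y}) :=
    Module.Flat.of_linearEquiv ((Groth.Agent.Lead.Depth.quotSpanSelfEquiv y).restrictScalars A)
  have hih : (maximalIdeal (B ⧸ Ideal.span {y})).spanFinrank = e := ih
  -- `y ∉ 𝔪_B²`
  have hy2 : y ∉ maximalIdeal B ^ 2 := by
    intro hmem
    apply hx2
    have h1 := Ideal.mem_map_of_mem
      (Ideal.Quotient.mk ((maximalIdeal A).map (algebraMap A B))) hmem
    rw [Ideal.map_pow, IsLocalRing.map_maximalIdeal_of_surjective _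
      Ideal.Quotient.mk_surjective] at h1
    exact h1
  obtain ⟨n, z, hn, hgen⟩ := RLR.exists_generators_of_notMem_sq hy hy2
  have h1 := RLR.spanFinrank_maximalIdeal_quotient_le y z hgen
  have h2 := RLR.spanFinrank_maximalIdeal_le_quotient_add_one hy
  omega

end Base

/-- The statement proved by induction on `d`. -/
def Statement (d : ℕ) : Prop :=
  ∀ (A B : Type u) [CommRing A] [CommRing B] [IsLocalRing A]
    [IsLocalRing B] [IsNoetherianRing A] [IsNoetherianRing B] [Algebra A B]
    [IsLocalHom (algebraMap A B)] [Module.Flat A B],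
    ∀ [IsRegularLocalRing (B ⧸ (maximalIdeal A).map (algebraMap A B))],
    (maximalIdeal (B ⧸ (maximalIdeal A).map (algebraMap A B))).spanFinrank = d →
    (maximalIdeal B).spanFinrank = d + (maximalIdeal A).spanFinrank

theorem statement_aux (d : ℕ) : Statement.{u} d := by
  induction d with
  | zero =>
    intro A B _ _ _ _ _ _ _ _ _ hF hd
    have h0 : maximalIdeal (B ⧸ (maximalIdeal A).map (algebraMap A B)) = ⊥ :=
      (Submodule.spanFinrank_eq_zero_iff_eq_bot
        (maximalIdeal (B ⧸ (maximalIdeal A).map (algebraMap A B))).fg_of_isNoetherianRing).mp hd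
    have hmap : (maximalIdeal A).map (algebraMap A B) = maximalIdeal B := by
      apply le_antisymm (GorAsc.map_le_maximalIdeal A B)
      have h1 : (maximalIdeal B).map (Ideal.Quotient.mk ((maximalIdeal A).map (algebraMap A B))) =
          ⊥ := by
        rw [IsLocalRing.map_maximalIdeal_of_surjective
          (Ideal.Quotient.mk ((maximalIdeal A).map (algebraMap A B)))
          Ideal.Quotient.mk_surjective, h0]
      rw [Ideal.map_eq_bot_iff_le_ker, Ideal.mk_ker] at h1
      exact h1
    rw [spanFinrank_eq_of_map_eq A B hmap, zero_add]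
  | succ d ih =>
    intro A B _ _ _ _ _ _ _ _ _ hF hspan
    have hne : maximalIdeal (B ⧸ (maximalIdeal A).map (algebraMap A B)) ≠ ⊥ := by
      intro h0
      have h1 := (Submodule.spanFinrank_eq_zero_iff_eq_bot
        (maximalIdeal (B ⧸ (maximalIdeal A).map (algebraMap A B))).fg_of_isNoetherianRing).mpr h0
      omega
    obtain ⟨xbar, hxbar, hxbar2⟩ := Hom.exists_mem_maximalIdeal_notMem_sq hne
    obtain ⟨n, ybar, hn, hgen⟩ := RLR.exists_generators_of_notMem_sq hxbar hxbar2
    have hnd : n = d := by omega
    haveI : IsLocalRing ((B ⧸ (maximalIdeal A).map (algebraMap A B)) ⧸ Ideal.span {xbar}) :=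
      RLR.isLocalRing_quotient (RLR.span_singleton_ne_top hxbar)
    obtain ⟨hF'reg, hF'dim⟩ := RLR.isRegularLocalRing_quotient_aux xbar ybar hgen hn
    obtain ⟨y, rfl⟩ := Ideal.Quotient.mk_surjective xbar
    have hy : y ∈ maximalIdeal B := by
      by_contra hyu
      have hu : IsUnit y := by
        rw [mem_maximalIdeal, mem_nonunits_iff, not_not] at hyu
        exact hyu
      have hu' : IsUnit (Ideal.Quotient.mk ((maximalIdeal A).map (algebraMap A B)) y) := hu.map _
      exact ((mem_maximalIdeal _).mp hxbar) hu'
    haveI : IsDomain (B ⧸ (maximalIdeal A).map (algebraMap A B)) :=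
      RLR.isDomain (B ⧸ (maximalIdeal A).map (algebraMap A B))
    have key := step_case A B y hy hxbar2 (d + (maximalIdeal A).spanFinrank) ?_
    · rw [key]; omega
    intro _ _ _
    haveI hF2 : IsRegularLocalRing
        ((B ⧸ Ideal.span {y}) ⧸ (maximalIdeal A).map (algebraMap A (B ⧸ Ideal.span {y}))) :=
      IsRegularLocalRing.of_ringEquiv (GorAsc.fibreQuotEquiv A B y).symm
    have hd2 : ringKrullDim
        ((B ⧸ Ideal.span {y}) ⧸ (maximalIdeal A).map (algebraMap A (B ⧸ Ideal.span {y}))) =
          (d : ℕ) := by
      rw [ringKrullDim_eq_of_ringEquiv (GorAsc.fibreQuotEquiv A B y), hF'dim, hnd]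
    exact ih A (B ⧸ Ideal.span {y}) (RLR.spanFinrank_maximalIdeal_eq_of_dim hd2)

/-- **Additivity of embedding dimension** along a flat local homomorphism of Noetherian local
rings with regular closed fibre. -/
theorem main (A B : Type u) [CommRing A]
    [CommRing B] [IsLocalRing A] [IsNoetherianRing A] [IsLocalRing B] [IsNoetherianRing B] [Algebra A B]
    [IsLocalHom (algebraMap A B)] [Module.Flat A B]
    [IsRegularLocalRing (B ⧸ Ideal.map (algebraMap A B) (IsLocalRing.maximalIdeal A))] :
    Module.finrank (IsLocalRing.ResidueField B) (IsLocalRing.CotangentSpace B) =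
      Module.finrank (IsLocalRing.ResidueField (B ⧸ Ideal.map (algebraMap A B) (IsLocalRing.maximalIdeal A)))
          (IsLocalRing.CotangentSpace (B ⧸ Ideal.map (algebraMap A B) (IsLocalRing.maximalIdeal A))) +
        Module.finrank (IsLocalRing.ResidueField A) (IsLocalRing.CotangentSpace A) := by
  rw [← spanFinrank_maximalIdeal_eq_finrank_cotangentSpace,
    ← spanFinrank_maximalIdeal_eq_finrank_cotangentSpace,
    ← spanFinrank_maximalIdeal_eq_finrank_cotangentSpace]
  exact statement_aux _ A B rfl

end Groth.Agent.Helper7.EmbDimFlat
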