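import Mathlib
import Groth.Agent.Lib.Helper7.Density1

set_option autoImplicit false
open Polynomial

namespace Groth.Agent.Helper7.EtaleLH

variable {R A : Type} [CommRing R] [CommRing A] [Algebra R A] (P : StandardEtalePresentation R A)

theorem hom_aeval (ψ : A →+* ℂ) (p : R[X]) :
    ψ (aeval P.x p) = eval₂ (ψ.comp (algebraMap R A)) (ψ P.x) p := by
  rw [aeval_def, Polynomial.hom_eval₂]

theorem eval₂_f_eq_zero (ψ : A →+* ℂ) : eval₂ (ψ.comp (algebraMap R A)) (ψ P.x) P.f = 0 := by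
  rw [← hom_aeval, P.hasMap.1, map_zero]

theorem eval₂_g_ne_zero (ψ : A →+* ℂ) : eval₂ (ψ.comp (algebraMap R A)) (ψ P.x) P.g ≠ 0 := by
  rw [← hom_aeval]
  exact (P.hasMap.2.map ψ).ne_zero

theorem exists_fraction (a : A) : ∃ (p : R[X]) (n : ℕ), ∀ ψ : A →+* ℂ,
    ψ a = eval₂ (ψ.comp (algebraMap R A)) (ψ P.x) p /
      (eval₂ (ψ.comp (algebraMap R A)) (ψ P.x) P.g) ^ n := by
  obtain ⟨p, n, h⟩ := P.exists_mul_aeval_x_g_pow_eq_aeval_x a
  refine ⟨p, n, fun ψ => ?_⟩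
  have h1 := congrArg ψ h
  rw [map_mul, map_pow, hom_aeval, hom_aeval] at h1
  rw [eq_div_iff (pow_ne_zero _ (eval₂_g_ne_zero P ψ))]
  exact h1

theorem exists_hom (χ : R →+* ℂ) (τ : ℂ) (hf : eval₂ χ τ P.f = 0) (hg : eval₂ χ τ P.g ≠ 0) :
    ∃ ψ : A →+* ℂ, ψ.comp (algebraMap R A) = χ ∧ ψ P.x = τ := by
  let _ : Algebra R ℂ := χ.toAlgebra
  have hmap : P.HasMap τ := by
    refine ⟨?_, ?_⟩
    · rw [aeval_def]
      exact hf
    · rw [aeval_def]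
      exact isUnit_iff_ne_zero.2 hg
  let ψ : A →ₐ[R] ℂ := (P.lift τ hmap).comp P.equivRing.toAlgHom
  refine ⟨ψ, ?_, ?_⟩
  · ext r
    exact ψ.commutes r
  · change P.lift τ hmap (P.equivRing P.x) = τ
    rw [P.equivRing_x, StandardEtalePair.lift_X]

/-- existence of a nearby root of a monic complex polynomial -/
theorem exists_root_near (Q : ℂ[X]) (hQ : Q.Monic) (τ₁ : ℂ) (ε : ℝ) (hε : 0 < ε)
    (h : ‖Q.eval τ₁‖ < ε ^ Q.natDegree) : ∃ τ, Q.IsRoot τ ∧ ‖τ - τ₁‖ < ε := by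
  have hQ' : (Q.comp (X + C τ₁)).Monic := hQ.comp_X_add_C τ₁
  have hdeg : (Q.comp (X + C τ₁)).natDegree = Q.natDegree := by
    rw [natDegree_comp, natDegree_X_add_C, mul_one]
  have hc : (Q.comp (X + C τ₁)).coeff 0 = Q.eval τ₁ := by
    rw [coeff_zero_eq_eval_zero, eval_comp]
    simp
  obtain ⟨T, hT, hTε⟩ := Density.exists_root_norm_lt _ hQ' ε hε (by rw [hc, hdeg]; exact h)
  refine ⟨T + τ₁, ?_, by simpa using hTε⟩
  rw [IsRoot.def, eval_comp] at hT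
  simpa using hT

end Groth.Agent.Helper7.EtaleLH
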