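import Mathlib
import Groth.Prelude.Def_AnPts
import Groth.Agent.Lib.Helper7.AnPts15

set_option autoImplicit false
open CategoryTheory AlgebraicGeometry Topology TopologicalSpace Opposite
open An

namespace Groth.Agent.Helper7.AnPts

variable {X : Scheme.{0}} [X.Over An.SC] {Y : Scheme.{0}} [Y.Over An.SC]

omit [Y.Over An.SC] in
/-- local structure of étale morphisms around a `ℂ`-point: standard étale charts -/
theorem exists_standardEtale_chart (g : X ⟶ Y) [Etale g] (x : An.Pts X) :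
    ∃ (U : X.Opens) (V : Y.Opens) (_ : IsAffineOpen U) (_ : IsAffineOpen V) (e : U ≤ g ⁻¹ᵁ V),
      x.pt ∈ U ∧ @Algebra.IsStandardEtale Γ(Y, V) Γ(X, U) _ _ (g.appLE V U e).hom.toAlgebra := by
  obtain ⟨V', hV', hxV, -⟩ :=
    (Y.isBasis_affineOpens).exists_subset_of_mem_open (Set.mem_univ (g x.pt)) isOpen_univ
  obtain ⟨V, hV, rfl⟩ := hV'
  obtain ⟨U', hU', hxU, hUV⟩ :=
    (X.isBasis_affineOpens).exists_subset_of_mem_open (show x.pt ∈ (g ⁻¹ᵁ V : Set X) from hxV)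
      (g ⁻¹ᵁ V).2
  obtain ⟨U, hU, rfl⟩ := hU'
  have hxU : x.pt ∈ U := hxU
  have e : U ≤ g ⁻¹ᵁ V := hUV
  let _ : Algebra Γ(Y, V) Γ(X, U) := (g.appLE V U e).hom.toAlgebra
  have het : Algebra.Etale Γ(Y, V) Γ(X, U) := g.etale_appLE hV hU e
  let Q : Ideal Γ(X, U) := RingHom.ker (evHom x U hxU)
  have hQ : Q.IsPrime := RingHom.ker_isPrime _
  obtain ⟨a, haQ, hst⟩ := Algebra.IsEtaleAt.exists_isStandardEtale (R := Γ(Y, V)) Q
  have hxa : x.pt ∈ X.basicOpen a := by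
    rw [pt_mem_basicOpen_iff x U hxU a]
    exact fun h => haQ (RingHom.mem_ker.2 h)
  have e' : X.basicOpen a ≤ g ⁻¹ᵁ V := (X.basicOpen_le a).trans e
  refine ⟨X.basicOpen a, V, hU.basicOpen a, hV, e', hxa, ?_⟩
  let _ : Algebra Γ(Y, V) Γ(X, X.basicOpen a) := (g.appLE V (X.basicOpen a) e').hom.toAlgebra
  have hloc : IsLocalization.Away a Γ(X, X.basicOpen a) := hU.isLocalization_basicOpen a
  have htower : IsScalarTower Γ(Y, V) Γ(X, U) Γ(X, X.basicOpen a) := by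
    apply IsScalarTower.of_algebraMap_eq'
    change (g.appLE V (X.basicOpen a) e').hom =
      (X.presheaf.map (homOfLE (X.basicOpen_le a)).op).hom.comp (g.appLE V U e).hom
    rw [← CommRingCat.hom_comp, Scheme.Hom.appLE_map]
  let eq1 : Localization.Away a ≃ₐ[Γ(X, U)] Γ(X, X.basicOpen a) :=
    IsLocalization.algEquiv (Submonoid.powers a) _ _
  let eq2 : Localization.Away a ≃ₐ[Γ(Y, V)] Γ(X, X.basicOpen a) := eq1.restrictScalars Γ(Y, V)
  exact Algebra.IsStandardEtale.of_equiv eq2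

end Groth.Agent.Helper7.AnPts
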