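import Mathlib
import Groth.Prelude.Def_AnPts
import Groth.Agent.Lib.Helper7.AnPts15
import Groth.Agent.Lib.Helper7.EtaleLH1

set_option autoImplicit false
open CategoryTheory AlgebraicGeometry Topology TopologicalSpace Opposite Polynomial
open An

namespace Groth.Agent.Helper7.AnPts

variable {X : Scheme.{0}} [X.Over An.SC] {Y : Scheme.{0}} [Y.Over An.SC]

/-- the algebra structure of a chart -/
@[reducible] noncomputable def chartAlgebra (g : X ⟶ Y) {U : X.Opens} {V : Y.Opens}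
    (e : U ≤ g ⁻¹ᵁ V) : Algebra Γ(Y, V) Γ(X, U) := (g.appLE V U e).hom.toAlgebra

theorem evHom_map_eq (g : X ⟶ Y) [g.IsOver An.SC] {U : X.Opens} {V : Y.Opens}
    (e : U ≤ g ⁻¹ᵁ V) (x : An.Pts X) (hx : x.pt ∈ U) :
    evHom (An.Pts.map g x) V (by rw [An.Pts.pt_map]; exact e hx) =
      (evHom x U hx).comp (g.appLE V U e).hom := by
  ext b
  exact ev_map_appLE g x V U e hx b

theorem strU_eq_comp (g : X ⟶ Y) [g.IsOver An.SC] {U : X.Opens} {V : Y.Opens}
    (e : U ≤ g ⁻¹ᵁ V) : strU U = (g.appLE V U e).hom.comp (strU V) := by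
  have h1 := Scheme.Hom.appLE_comp_appLE g (Y ↘ An.SC) ⊤ V U le_top e
  have h2 : (g ≫ (Y ↘ An.SC)).appLE ⊤ U (by exact le_top) = (X ↘ An.SC).appLE ⊤ U le_top := by
    congr 1
    exact comp_over g An.SC
  unfold strU
  rw [← h2, ← h1]
  rfl

theorem continuous_eval₂_pts {V : Y.Opens} (p : Γ(Y, V)[X]) :
    Continuous (fun q : ptsIn V × ℂ => eval₂ (evHom q.1.1 V q.1.2) q.2 p) := by
  simp only [eval₂_eq_sum_range]
  refine continuous_finsetSum _ fun i _ => ?_
  refine Continuous.mul ?_ (continuous_snd.pow i)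
  exact ((continuous_apply (p.coeff i)).comp (continuous_evU V)).comp continuous_fst

section chart

variable (g : X ⟶ Y) [g.IsOver An.SC] {U : X.Opens} {V : Y.Opens} (hU : IsAffineOpen U)
  (hV : IsAffineOpen V) (e : U ≤ g ⁻¹ᵁ V)
  (P : @StandardEtalePresentation Γ(Y, V) Γ(X, U) _ _ (chartAlgebra g e))

include hU hV in
theorem chart_exists (y : An.Pts Y) (hy : y.pt ∈ V) (τ : ℂ)
    (hf : eval₂ (evHom y V hy) τ P.f = 0) (hg : eval₂ (evHom y V hy) τ P.g ≠ 0) :
    ∃ (x : An.Pts X) (hx : x.pt ∈ U), An.Pts.map g x = y ∧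
      evHom x U hx (@StandardEtalePresentation.x _ _ _ _ (chartAlgebra g e) P) = τ := by
  let _ := chartAlgebra g e
  obtain ⟨ψ, hψ, hψx⟩ := EtaleLH.exists_hom P (evHom y V hy) τ hf hg
  have hψid : ψ.comp (strU U) = RingHom.id ℂ := by
    rw [strU_eq_comp g e, ← RingHom.comp_assoc]
    change (ψ.comp (algebraMap Γ(Y, V) Γ(X, U))).comp (strU V) = _
    rw [hψ]
    ext c
    exact evHom_strU y V hy c
  obtain ⟨x, hx, hxψ⟩ := exists_evHom_eq hU ψ hψid
  refine ⟨x, hx, ?_, by rw [hxψ]; exact hψx⟩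
  have hy' : (An.Pts.map g x).pt ∈ V := by rw [An.Pts.pt_map]; exact e hx
  refine ext_of_evHom hV hy' hy ?_
  rw [evHom_map_eq g e x hx, hxψ]
  exact hψ

/-- the chart map `U(ℂ) → V(ℂ) × ℂ` -/
noncomputable def chartMap : ptsIn U → ptsIn V × ℂ := fun x =>
  (⟨An.Pts.map g x.1, by change (An.Pts.map g x.1).pt ∈ V; rw [An.Pts.pt_map]; exact e x.2⟩,
    evHom x.1 U x.2 (@StandardEtalePresentation.x _ _ _ _ (chartAlgebra g e) P))

theorem continuous_chartMap : Continuous (chartMap g e P) := by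
  refine Continuous.prodMk ?_ ?_
  · exact Continuous.subtype_mk ((An.Pts.continuous_map g).comp continuous_subtype_val) _
  · exact (continuous_apply _).comp (continuous_evU U)

include hU in
theorem isInducing_chartMap : IsInducing (chartMap g e P) := by
  let _ := chartAlgebra g e
  -- restrict the codomain to the locus where `g ≠ 0`
  let Z₀ : Set (ptsIn V × ℂ) := {q | eval₂ (evHom q.1.1 V q.1.2) q.2 P.g ≠ 0}
  have hcomp : ∀ x : ptsIn U, (evHom x.1 U x.2).comp (algebraMap Γ(Y, V) Γ(X, U)) =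
      evHom (chartMap g e P x).1.1 V (chartMap g e P x).1.2 := fun x =>
    (evHom_map_eq g e x.1 x.2).symm
  have hmem : ∀ x : ptsIn U, chartMap g e P x ∈ Z₀ := by
    intro x
    have := EtaleLH.eval₂_g_ne_zero P (evHom x.1 U x.2)
    rw [hcomp x] at this
    exact this
  let Λ : ptsIn U → Z₀ := fun x => ⟨chartMap g e P x, hmem x⟩
  have hΛ : Continuous Λ := Continuous.subtype_mk (continuous_chartMap g e P) _
  choose p n hpn using EtaleLH.exists_fraction P
  let Ψ : Z₀ → (Γ(X, U) → ℂ) := fun q a =>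
    eval₂ (evHom q.1.1.1 V q.1.1.2) q.1.2 (p a) / (eval₂ (evHom q.1.1.1 V q.1.1.2) q.1.2 P.g) ^ (n a)
  have hΨ : Continuous Ψ := by
    refine continuous_pi fun a => ?_
    refine Continuous.div ((continuous_eval₂_pts (p a)).comp continuous_subtype_val)
      (((continuous_eval₂_pts P.g).comp continuous_subtype_val).pow (n a)) ?_
    intro q
    exact pow_ne_zero _ q.2
  have hΨΛ : Ψ ∘ Λ = evU U := by
    funext x a
    have := hpn a (evHom x.1 U x.2)
    rw [hcomp x] at this
    exact this.symm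
  have h1 : IsInducing Λ := IsInducing.of_comp hΛ hΨ (by rw [hΨΛ]; exact isInducing_evU hU)
  exact IsInducing.subtypeVal.comp h1

end chart

end Groth.Agent.Helper7.AnPts
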