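import Mathlib
import Groth.Prelude.Def_AnPts
import Groth.Agent.Lib.Helper7.EtaleLH2
import Groth.Agent.Lib.Helper7.EtaleLH3

set_option autoImplicit false
open CategoryTheory AlgebraicGeometry Topology TopologicalSpace Opposite Polynomial
open An

namespace Groth.Agent.Helper7.AnPts

variable {X : Scheme.{0}} [X.Over An.SC] {Y : Scheme.{0}} [Y.Over An.SC]

theorem isOpenMap_map_of_etale (g : X ⟶ Y) [g.IsOver An.SC] [Etale g] :
    IsOpenMap (An.Pts.map g) := by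
  intro O hO
  rw [isOpen_iff_mem_nhds]
  rintro _ ⟨x₁, hx₁O, rfl⟩
  obtain ⟨U, V, hU, hV, e, hx₁, hst⟩ := exists_standardEtale_chart g x₁
  let _ := chartAlgebra g e
  let P : StandardEtalePresentation Γ(Y, V) Γ(X, U) := hst.nonempty_standardEtalePresentation.some
  have hind := isInducing_chartMap g hU e P
  have hO' : IsOpen (Subtype.val ⁻¹' O : Set (ptsIn U)) := hO.preimage continuous_subtype_val
  obtain ⟨W, hW, hWO⟩ := hind.isOpen_iff.1 hO'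
  have hq₁W : chartMap g e P ⟨x₁, hx₁⟩ ∈ W := by
    have : (⟨x₁, hx₁⟩ : ptsIn U) ∈ chartMap g e P ⁻¹' W := by rw [hWO]; exact hx₁O
    exact this
  -- the locus where `g ≠ 0`
  have hGopen : IsOpen {q : ptsIn V × ℂ | eval₂ (evHom q.1.1 V q.1.2) q.2 P.g ≠ 0} :=
    isOpen_ne_fun (continuous_eval₂_pts P.g) continuous_const
  have hcomp : (evHom x₁ U hx₁).comp (algebraMap Γ(Y, V) Γ(X, U)) =
      evHom (chartMap g e P ⟨x₁, hx₁⟩).1.1 V (chartMap g e P ⟨x₁, hx₁⟩).1.2 :=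
    (evHom_map_eq g e x₁ hx₁).symm
  have hq₁G : chartMap g e P ⟨x₁, hx₁⟩ ∈
      {q : ptsIn V × ℂ | eval₂ (evHom q.1.1 V q.1.2) q.2 P.g ≠ 0} := by
    have := EtaleLH.eval₂_g_ne_zero P (evHom x₁ U hx₁)
    rw [hcomp] at this
    exact this
  have hq₁F : eval₂ (evHom (chartMap g e P ⟨x₁, hx₁⟩).1.1 V (chartMap g e P ⟨x₁, hx₁⟩).1.2)
      (chartMap g e P ⟨x₁, hx₁⟩).2 P.f = 0 := by
    have := EtaleLH.eval₂_f_eq_zero P (evHom x₁ U hx₁)
    rw [hcomp] at this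
    exact this
  have hq₁1 : (chartMap g e P ⟨x₁, hx₁⟩).1.1 = An.Pts.map g x₁ := rfl
  clear hcomp
  generalize chartMap g e P ⟨x₁, hx₁⟩ = q₁ at hq₁W hq₁G hq₁F hq₁1
  obtain ⟨y₁, τ₁⟩ := q₁
  change y₁.1 = An.Pts.map g x₁ at hq₁1
  change eval₂ (evHom y₁.1 V y₁.2) τ₁ P.f = 0 at hq₁F
  obtain ⟨N₁, D, hN₁, hD, hy₁N₁, hτ₁D, hND⟩ :=
    isOpen_prod_iff.1 (hW.inter hGopen) y₁ τ₁ ⟨hq₁W, hq₁G⟩
  obtain ⟨ε, hε, hεD⟩ := Metric.isOpen_iff.1 hD τ₁ hτ₁D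
  -- the small root neighbourhood
  have hcont : Continuous (fun y : ptsIn V => eval₂ (evHom y.1 V y.2) τ₁ P.f) := by
    have h1 : Continuous (fun y : ptsIn V => ((y, τ₁) : ptsIn V × ℂ)) :=
      Continuous.prodMk continuous_id continuous_const
    have h2 := (continuous_eval₂_pts P.f).comp h1
    exact h2
  let N₂ : Set (ptsIn V) := N₁ ∩ {y | ‖eval₂ (evHom y.1 V y.2) τ₁ P.f‖ < ε ^ P.f.natDegree}
  have hN₂ : IsOpen N₂ := hN₁.inter (isOpen_lt hcont.norm continuous_const)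
  have hy₁N₂ : y₁ ∈ N₂ := by
    refine ⟨hy₁N₁, ?_⟩
    change ‖eval₂ (evHom y₁.1 V y₁.2) τ₁ P.f‖ < _
    rw [hq₁F, norm_zero]
    exact pow_pos hε _
  have hsub : Subtype.val '' N₂ ⊆ An.Pts.map g '' O := by
    rintro _ ⟨y, ⟨hyN₁, hysmall⟩, rfl⟩
    have hmonic : (P.f.map (evHom y.1 V y.2)).Monic := P.monic_f.map _
    have hsm : ‖(P.f.map (evHom y.1 V y.2)).eval τ₁‖ <
        ε ^ (P.f.map (evHom y.1 V y.2)).natDegree := by
      rw [P.monic_f.natDegree_map, Polynomial.eval_map]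
      exact hysmall
    obtain ⟨τ, hτroot, hτε⟩ := EtaleLH.exists_root_near _ hmonic τ₁ ε hε hsm
    rw [IsRoot.def, Polynomial.eval_map] at hτroot
    have hτD : τ ∈ D := hεD (by rw [Metric.mem_ball, dist_eq_norm]; exact hτε)
    have hyτ : (y, τ) ∈ W ∩ {q : ptsIn V × ℂ | eval₂ (evHom q.1.1 V q.1.2) q.2 P.g ≠ 0} :=
      hND ⟨hyN₁, hτD⟩
    obtain ⟨x, hx, hxy, hxτ⟩ := chart_exists g hU hV e P y.1 y.2 τ hτroot hyτ.2
    refine ⟨x, ?_, hxy⟩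
    have hΛ : chartMap g e P ⟨x, hx⟩ = (y, τ) := by
      apply Prod.ext
      · exact Subtype.ext hxy
      · exact hxτ
    have : (⟨x, hx⟩ : ptsIn U) ∈ chartMap g e P ⁻¹' W := by
      change chartMap g e P ⟨x, hx⟩ ∈ W
      rw [hΛ]
      exact hyτ.1
    rw [hWO] at this
    exact this
  refine Filter.mem_of_superset ?_ hsub
  have hopen : IsOpen (Subtype.val '' N₂ : Set (An.Pts Y)) :=
    (isOpen_ptsIn V).isOpenEmbedding_subtypeVal.isOpenMap _ hN₂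
  rw [← hq₁1]
  exact hopen.mem_nhds ⟨y₁, hy₁N₂, rfl⟩

end Groth.Agent.Helper7.AnPts
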