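import Mathlib
import Groth.Prelude.Def_AnPts
import Groth.Agent.Lib.Helper7.EtaleLH4

set_option autoImplicit false
open CategoryTheory AlgebraicGeometry Topology TopologicalSpace Opposite Polynomial
open An

namespace Groth.Agent.Helper7.AnPts

variable {X : Scheme.{0}} [X.Over An.SC] {Y : Scheme.{0}} [Y.Over An.SC]

theorem isLocallyInjective_map_of_etale (g : X ⟶ Y) [g.IsOver An.SC] [Etale g] :
    IsLocallyInjective (An.Pts.map g) := by
  rw [IsLocallyInjective_iff_isOpenEmbedding]
  have : LocallyOfFiniteType g := inferInstance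
  have hoi : IsOpenImmersion (Limits.pullback.diagonal g) := inferInstance
  let Δ : X ⟶ Limits.pullback g g := Limits.pullback.diagonal g
  have hΔ : Δ.IsOver An.SC := ⟨by
    change Limits.pullback.diagonal g ≫ Limits.pullback.fst g g ≫ X ↘ An.SC = X ↘ An.SC
    rw [← Category.assoc, Limits.pullback.diagonal_fst, Category.id_comp]⟩
  have hθ := isHomeomorph_pullback g g
  set θ : An.Pts (Limits.pullback g g) →
      {q : An.Pts X × An.Pts X // An.Pts.map g q.1 = An.Pts.map g q.2} := fun z =>
      ⟨(An.Pts.map (Limits.pullback.fst g g) z, An.Pts.map (Limits.pullback.snd g g) z),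
        An.Pts.map_pullback_condition g g z⟩ with hθdef
  have hcomp : toPullbackDiag (An.Pts.map g) = θ ∘ An.Pts.map Δ := by
    funext x
    apply Subtype.ext
    apply Prod.ext
    · apply Subtype.ext
      change x.1 = (x.1 ≫ Limits.pullback.diagonal g) ≫ Limits.pullback.fst g g
      rw [Category.assoc, Limits.pullback.diagonal_fst, Category.comp_id]
    · apply Subtype.ext
      change x.1 = (x.1 ≫ Limits.pullback.diagonal g) ≫ Limits.pullback.snd g g
      rw [Category.assoc, Limits.pullback.diagonal_snd, Category.comp_id]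
  rw [hcomp]
  have h1 : IsOpenEmbedding (An.Pts.map Δ) := isOpenEmbedding_map_of_isOpenImmersion Δ
  have h2 : IsOpenEmbedding θ := (hθ.homeomorph θ).isOpenEmbedding
  exact h2.comp h1

theorem isLocalHomeomorph_map_of_etale (g : X ⟶ Y) [g.IsOver An.SC] [Etale g] :
    IsLocalHomeomorph (An.Pts.map g) := by
  rw [isLocalHomeomorph_iff_isOpenEmbedding_restrict]
  intro x
  obtain ⟨N, hN, hxN, hinj⟩ := isLocallyInjective_map_of_etale g x
  refine ⟨N, hN.mem_nhds hxN, ?_⟩
  refine IsOpenEmbedding.of_continuous_injective_isOpenMap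
    ((An.Pts.continuous_map g).comp continuous_subtype_val) ?_ ?_
  · intro a b hab
    exact Subtype.ext (hinj a.2 b.2 hab)
  · exact (isOpenMap_map_of_etale g).comp hN.isOpenEmbedding_subtypeVal.isOpenMap

end Groth.Agent.Helper7.AnPts
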