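import Mathlib
import Groth.Agent.Lib.Helper7.InjLocus

/-!
# Constructibility of the fibrewise exactness locus (helper7)
-/

set_option autoImplicit false
set_option linter.style.haveILetI false
set_option linter.unusedSectionVars false

universe u

open TensorProduct Function Topology

namespace Groth.Agent.Helper7.ExactLocus

open Groth.Agent.Helper7.InjLocus

section X

variable {κ : Type*} [Ring κ] {F G H C Q : Type*} [AddCommGroup F] [Module κ F] [AddCommGroup G]
  [Module κ G] [AddCommGroup H] [Module κ H] [AddCommGroup C] [Module κ C] [AddCommGroup Q]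
  [Module κ Q]

/-- Exactness in the middle in terms of injectivity of two auxiliary maps. -/
theorem exact_iff_injective_and_injective (u : F →ₗ[κ] G) (v : G →ₗ[κ] H) (qC : G →ₗ[κ] C)
    (π : H →ₗ[κ] Q) (w : C →ₗ[κ] Q) (hqC : Surjective qC) (huq : Exact u qC)
    (hvuπ : Exact (v ∘ₗ u) π) (hw : ∀ g, w (qC g) = π (v g)) :
    Exact u v ↔ Injective π ∧ Injective w := by
  constructor
  · intro hex
    have hπ : Injective π := by
      rw [injective_iff_map_eq_zero]
      intro h hh
      obtain ⟨f, rfl⟩ := (hvuπ h).mp hh
      exact hex.apply_apply_eq_zero f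
    refine ⟨hπ, ?_⟩
    rw [injective_iff_map_eq_zero]
    intro c hc
    obtain ⟨g, rfl⟩ := hqC c
    rw [hw] at hc
    have hvg : v g = 0 := hπ (by rw [hc, map_zero])
    obtain ⟨f, rfl⟩ := (hex g).mp hvg
    exact huq.apply_apply_eq_zero f
  · rintro ⟨hπ, hwi⟩ g
    constructor
    · intro hvg
      have : w (qC g) = 0 := by rw [hw, hvg, map_zero]
      have h0 : qC g = 0 := hwi (by rw [this, map_zero])
      exact (huq g).mp h0
    · rintro ⟨f, rfl⟩
      apply hπ
      rw [map_zero]
      exact hvuπ.apply_apply_eq_zero f

end X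

section Main

variable {R B : Type u} [CommRing R] [CommRing B] [Algebra R B] [Algebra.FinitePresentation R B]
  {F G H : Type u} [AddCommGroup F] [Module B F] [Module R F] [IsScalarTower R B F]
  [Module.FinitePresentation B F]
  [AddCommGroup G] [Module B G] [Module R G] [IsScalarTower R B G] [Module.FinitePresentation B G]
  [AddCommGroup H] [Module B H] [Module R H] [IsScalarTower R B H] [Module.FinitePresentation B H]

theorem exact_baseChange_iff (u : F →ₗ[B] G) (v : G →ₗ[B] H) (κ : Type u) [CommRing κ]
    [Algebra R κ] (hle : LinearMap.range u ≤ LinearMap.ker ((LinearMap.range (v ∘ₗ u)).mkQ ∘ₗ v)) :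
    Exact ((u.restrictScalars R).baseChange κ) ((v.restrictScalars R).baseChange κ) ↔
      Injective (((LinearMap.range (v ∘ₗ u)).mkQ.restrictScalars R).baseChange κ) ∧
      Injective ((((LinearMap.range u).liftQ ((LinearMap.range (v ∘ₗ u)).mkQ ∘ₗ v) hle).restrictScalars
        R).baseChange κ) := by
  refine exact_iff_injective_and_injective _ _
    (((LinearMap.range u).mkQ.restrictScalars R).baseChange κ) _ _ ?_ ?_ ?_ ?_
  · rw [LinearMap.baseChange_eq_ltensor]
    exact LinearMap.lTensor_surjective κ (Submodule.mkQ_surjective _)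
  · rw [LinearMap.baseChange_eq_ltensor, LinearMap.baseChange_eq_ltensor]
    exact lTensor_exact κ (LinearMap.exact_map_mkQ_range u) (Submodule.mkQ_surjective _)
  · rw [← LinearMap.baseChange_comp, LinearMap.baseChange_eq_ltensor,
      LinearMap.baseChange_eq_ltensor]
    exact lTensor_exact κ (LinearMap.exact_map_mkQ_range (v ∘ₗ u)) (Submodule.mkQ_surjective _)
  · intro z
    induction z using TensorProduct.induction_on with
    | zero => simp
    | add a b ha hb => simp only [map_add, ha, hb]
    | tmul a g => rfl

set_option maxHeartbeats 1600000 in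
/-- **Constructibility of the fibrewise exactness locus.** -/
theorem isConstructible_exactLocus (u : F →ₗ[B] G) (v : G →ₗ[B] H) :
    IsConstructible {p : PrimeSpectrum R |
      Exact ((u.restrictScalars R).baseChange p.asIdeal.ResidueField)
        ((v.restrictScalars R).baseChange p.asIdeal.ResidueField)} := by
  have hle : LinearMap.range u ≤ LinearMap.ker ((LinearMap.range (v ∘ₗ u)).mkQ ∘ₗ v) := by
    rintro _ ⟨f, rfl⟩
    rw [LinearMap.mem_ker, LinearMap.comp_apply, Submodule.mkQ_apply,
      Submodule.Quotient.mk_eq_zero]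
    exact ⟨f, rfl⟩
  haveI : Module.FinitePresentation B (G ⧸ LinearMap.range u) :=
    Module.finitePresentation_of_surjective (LinearMap.range u).mkQ (Submodule.mkQ_surjective _)
      (by rw [Submodule.ker_mkQ, LinearMap.range_eq_map]; exact (Module.Finite.fg_top (R := B) (M := F)).map u)
  haveI : Module.FinitePresentation B (H ⧸ LinearMap.range (v ∘ₗ u)) :=
    Module.finitePresentation_of_surjective (LinearMap.range (v ∘ₗ u)).mkQ
      (Submodule.mkQ_surjective _)
      (by rw [Submodule.ker_mkQ, LinearMap.range_eq_map]; exact (Module.Finite.fg_top (R := B) (M := F)).map (v ∘ₗ u))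
  have h1 := isConstructible_injLocus (R := R) (LinearMap.range (v ∘ₗ u)).mkQ
  have h2 := isConstructible_injLocus (R := R)
    ((LinearMap.range u).liftQ ((LinearMap.range (v ∘ₗ u)).mkQ ∘ₗ v) hle)
  have heq : {p : PrimeSpectrum R |
      Exact ((u.restrictScalars R).baseChange p.asIdeal.ResidueField)
        ((v.restrictScalars R).baseChange p.asIdeal.ResidueField)} =
      injLocus R (LinearMap.range (v ∘ₗ u)).mkQ ∩
        injLocus R ((LinearMap.range u).liftQ ((LinearMap.range (v ∘ₗ u)).mkQ ∘ₗ v) hle) := by
    ext p
    exact exact_baseChange_iff u v p.asIdeal.ResidueField hle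
  rw [heq]
  exact h1.inter h2

end Main

end Groth.Agent.Helper7.ExactLocus
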