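import Mathlib
import Groth.Agent.Lib.Helper16.Sch.FFLocus3

/-!
# "flat and surjective" locus, source of arbitrary multiplicative type (helper7)

Variant of helper16's `FFLocus3` (itself an adaptation of `Lib/Helper7/MLD.lean`) in which the source
group is only assumed fpqc-locally diagonalisable (no finite-type hypothesis).
-/

set_option autoImplicit false
set_option linter.style.haveILetI false
set_option linter.unusedSectionVars false
universe u
open CategoryTheory CategoryTheory.Limits MonoidalCategory CartesianMonoidalCategory MonObj GrpObj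
  AlgebraicGeometry

noncomputable section

namespace Groth.Agent.Helper7.FFArb

open Groth.Agent.Helper18 Groth.Agent.Helper18.MultToGa Groth.Agent.Helper7.MTRig
  Groth.Agent.Helper7.GL Groth.Agent.Helper7.ML Groth.Agent.Helper17.FieldPt
  Groth.Agent.Helper16.FFLocus

/-- common trivialising fpqc cover over an affine open, the first group of arbitrary type -/
theorem exists_cover_triv' {S : Scheme.{u}} (G H : Over S) [GrpObj G] [GrpObj H]
    (hG : ∃ (S' : Scheme.{u}) (f : S' ⟶ S), Flat f ∧ Surjective f ∧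
      (∀ V : S.Opens, IsAffineOpen V → ∃ W : S'.Opens, IsCompact (W : Set S') ∧
        f.base '' (W : Set S') = (V : Set S)) ∧
      ∀ s' : S', ∃ U : S'.Opens, s' ∈ U ∧ ∃ (M : Type) (_ : AddCommGroup M),
        Nonempty (Grp.mk (Red.bc (U.ι ≫ f) G) ≅ Grp.mk (Red.DS (U : Scheme.{u}) M)))
    (hH : SGA3x.IsMultTypeFT H) (V : S.Opens) (hV : IsAffineOpen V) :
    ∃ (P : Scheme.{u}) (p : P ⟶ S), Flat p ∧ Set.range p.base = (V : Set S) ∧ CompactSpace P ∧
      ∀ x : P, ∃ (B : CommRingCat.{u}) (j : Spec B ⟶ P), IsOpenImmersion j ∧ x ∈ Set.range j.base ∧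
        (∃ (M : Type) (_ : AddCommGroup M),
          Nonempty (Grp.mk (Red.bc (j ≫ p) G) ≅ Grp.mk (Red.DS (Spec B) M))) ∧
        (∃ (N : Type) (_ : AddCommGroup N), AddGroup.FG N ∧
          Nonempty (Grp.mk (Red.bc (j ≫ p) H) ≅ Grp.mk (Red.DS (Spec B) N))) := by
  obtain ⟨S1, f1, hfl1, hsurj1, hqc1, hloc1⟩ := hG
  obtain ⟨S2, f2, hfl2, hsurj2, hqc2, hloc2⟩ := hH
  obtain ⟨W1, hW1c, hW1⟩ := hqc1 V hV
  obtain ⟨W2, hW2c, hW2⟩ := hqc2 V hV
  obtain ⟨q1, hq1, hq1fl, hq1s, hq1qc⟩ := Groth.Agent.Helper16.CoverTriv.exists_lift f1 V hV W1 hW1c hW1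
  obtain ⟨q2, hq2, hq2fl, hq2s, hq2qc⟩ := Groth.Agent.Helper16.CoverTriv.exists_lift f2 V hV W2 hW2c hW2
  haveI : CompactSpace W2.toScheme := isCompact_iff_compactSpace.mp hW2c
  haveI : CompactSpace ↥(pullback q1 q2) :=
    QuasiCompact.compactSpace_of_compactSpace (pullback.snd q1 q2)
  let p : pullback q1 q2 ⟶ S := pullback.fst q1 q2 ≫ W1.ι ≫ f1
  have hp2 : p = pullback.snd q1 q2 ≫ W2.ι ≫ f2 := by
    dsimp only [p]
    rw [← hq1, ← hq2, pullback.condition_assoc]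
  refine ⟨pullback q1 q2, p, ?_, ?_, inferInstance, ?_⟩
  · dsimp only [p]; infer_instance
  · apply Set.Subset.antisymm
    · rintro _ ⟨z, rfl⟩
      rw [← hW1]
      exact ⟨((pullback.fst q1 q2).base z).1, ((pullback.fst q1 q2).base z).2, rfl⟩
    · intro v hv
      obtain ⟨w1, hw1⟩ := hq1s.surj (⟨v, hv⟩ : V.toScheme)
      obtain ⟨w2, hw2⟩ := hq2s.surj (⟨v, hv⟩ : V.toScheme)
      obtain ⟨z, hz1, hz2⟩ := Scheme.Pullback.exists_preimage_pullback (f := q1) (g := q2) w1 w2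
        (hw1.trans hw2.symm)
      refine ⟨z, ?_⟩
      have h1 : p.base z = (W1.ι ≫ f1).base ((pullback.fst q1 q2).base z) := rfl
      rw [h1, hz1, ← hq1]
      change V.ι.base (q1.base w1) = v
      rw [hw1]
      rfl
  · intro x
    obtain ⟨U1, hx1, M, iM, e1⟩ := hloc1 (W1.ι.base ((pullback.fst q1 q2).base x))
    obtain ⟨U2, hx2, N, iN, hN, e2⟩ := hloc2 (W2.ι.base ((pullback.snd q1 q2).base x))
    let O : (pullback q1 q2).Opens :=
      (pullback.fst q1 q2 ≫ W1.ι) ⁻¹ᵁ U1 ⊓ (pullback.snd q1 q2 ≫ W2.ι) ⁻¹ᵁ U2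
    have hxO : x ∈ O := ⟨hx1, hx2⟩
    obtain ⟨B, j, hj, hxj, hjO⟩ := Scheme.exists_affine_mem_range_and_range_subset hxO
    refine ⟨B, j, hj, hxj, ⟨M, iM, ?_⟩, ⟨N, iN, hN, ?_⟩⟩
    · have hr : Set.range (j ≫ pullback.fst q1 q2 ≫ W1.ι).base ⊆ Set.range U1.ι.base := by
        rintro _ ⟨b, rfl⟩
        rw [Scheme.Opens.range_ι]
        exact (hjO ⟨b, rfl⟩).1
      let π1 : Spec B ⟶ U1.toScheme := IsOpenImmersion.lift U1.ι (j ≫ pullback.fst q1 q2 ≫ W1.ι) hr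
      have hπ1 : π1 ≫ U1.ι = j ≫ pullback.fst q1 q2 ≫ W1.ι := IsOpenImmersion.lift_fac _ _ _
      refine Groth.Agent.Helper7.TwoGrp.nonempty_triv_bc (g := U1.ι ≫ f1) π1 (j ≫ p) ?_ G M e1
      dsimp only [p]
      rw [← Category.assoc, hπ1]
      simp only [Category.assoc]
    · have hr : Set.range (j ≫ pullback.snd q1 q2 ≫ W2.ι).base ⊆ Set.range U2.ι.base := by
        rintro _ ⟨b, rfl⟩
        rw [Scheme.Opens.range_ι]
        exact (hjO ⟨b, rfl⟩).2
      let π2 : Spec B ⟶ U2.toScheme := IsOpenImmersion.lift U2.ι (j ≫ pullback.snd q1 q2 ≫ W2.ι) hr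
      have hπ2 : π2 ≫ U2.ι = j ≫ pullback.snd q1 q2 ≫ W2.ι := IsOpenImmersion.lift_fac _ _ _
      refine Groth.Agent.Helper7.TwoGrp.nonempty_triv_bc (g := U2.ι ≫ f2) π2 (j ≫ p) ?_ H N e2
      rw [hp2, ← Category.assoc, hπ2]
      simp only [Category.assoc]


variable {S : Scheme.{u}} {G H : Over S} [GrpObj G] [GrpObj H] (u : G ⟶ H) [IsMonHom u]

/-- a trivialising fpqc cover over an affine open on which the alternative holds locally -/
theorem exists_cover' (hG : ∃ (S' : Scheme.{u}) (f : S' ⟶ S), Flat f ∧ Surjective f ∧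
      (∀ V : S.Opens, IsAffineOpen V → ∃ W : S'.Opens, IsCompact (W : Set S') ∧
        f.base '' (W : Set S') = (V : Set S)) ∧
      ∀ s' : S', ∃ U : S'.Opens, s' ∈ U ∧ ∃ (M : Type) (_ : AddCommGroup M),
        Nonempty (Grp.mk (Red.bc (U.ι ≫ f) G) ≅ Grp.mk (Red.DS (U : Scheme.{u}) M))) (hH : SGA3x.IsMultTypeFT H) (V : S.Opens)
    (hV : IsAffineOpen V) :
    ∃ (P : Scheme.{u}) (p : P ⟶ S), Flat p ∧ Set.range p.base = (V : Set S) ∧ CompactSpace P ∧
      ∀ x : P, ∃ (C : CommRingCat.{u}) (w : Spec C ⟶ P), IsOpenImmersion w ∧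
        x ∈ Set.range w.base ∧
        (((∀ y' : Spec C, p (w y') ∈ FZset u) ∧ FFOver u (w ≫ p)) ∨
          (∀ y' : Spec C, p (w y') ∉ FZset u)) := by
  obtain ⟨P, p, hfl, hrange, hcomp, hloc⟩ :=
    exists_cover_triv' G H hG hH V hV
  refine ⟨P, p, hfl, hrange, hcomp, ?_⟩
  intro x
  obtain ⟨B, j, hj, ⟨y, hy⟩, ⟨M, iM, ⟨isoG⟩⟩, ⟨N, iN, hN, ⟨isoH⟩⟩⟩ := hloc x
  obtain ⟨C, θ, hoi, ⟨y₀, hy₀⟩, alt⟩ := Groth.Agent.Helper16.FFLocus.local_alt u (j ≫ p) hN isoG isoH y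
  haveI := hoi
  haveI := hj
  refine ⟨C, Spec.map θ ≫ j, inferInstance, ⟨y₀, ?_⟩, ?_⟩
  · show j ((Spec.map θ) y₀) = x
    rw [hy₀, hy]
  · rcases alt with ⟨h1, h2⟩ | h1
    · left
      refine ⟨fun y' => h1 y', ?_⟩
      rw [Category.assoc]
      exact h2
    · right
      exact fun y' => h1 y'

theorem isOpen_preimage' (hG : ∃ (S' : Scheme.{u}) (f : S' ⟶ S), Flat f ∧ Surjective f ∧
      (∀ V : S.Opens, IsAffineOpen V → ∃ W : S'.Opens, IsCompact (W : Set S') ∧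
        f.base '' (W : Set S') = (V : Set S)) ∧
      ∀ s' : S', ∃ U : S'.Opens, s' ∈ U ∧ ∃ (M : Type) (_ : AddCommGroup M),
        Nonempty (Grp.mk (Red.bc (U.ι ≫ f) G) ≅ Grp.mk (Red.DS (U : Scheme.{u}) M))) (hH : SGA3x.IsMultTypeFT H) :
    IsOpen (FZset u) ∧ IsOpen (FZset u)ᶜ := by
  constructor
  · apply Groth.Agent.Helper10.FpqcOpen.isOpen_of_fpqc_cover
    intro V hV
    obtain ⟨P, p, hfl, hrange, hcomp, hloc⟩ := exists_cover' u hG hH V hV
    refine ⟨P, p, hfl, hrange, hcomp, ?_⟩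
    rw [isOpen_iff_forall_mem_open]
    intro x hx
    obtain ⟨C, w, hw, ⟨y, hy⟩, alt⟩ := hloc x
    refine ⟨Set.range w.base, ?_, hw.base_open.isOpen_range, ⟨y, hy⟩⟩
    rintro _ ⟨y', rfl⟩
    rcases alt with ⟨h1, -⟩ | h1
    · exact h1 y'
    · exfalso
      apply h1 y
      rw [hy]
      exact hx
  · apply Groth.Agent.Helper10.FpqcOpen.isOpen_of_fpqc_cover
    intro V hV
    obtain ⟨P, p, hfl, hrange, hcomp, hloc⟩ := exists_cover' u hG hH V hV
    refine ⟨P, p, hfl, hrange, hcomp, ?_⟩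
    rw [isOpen_iff_forall_mem_open]
    intro x hx
    obtain ⟨C, w, hw, ⟨y, hy⟩, alt⟩ := hloc x
    refine ⟨Set.range w.base, ?_, hw.base_open.isOpen_range, ⟨y, hy⟩⟩
    rintro _ ⟨y', rfl⟩
    rcases alt with ⟨h1, -⟩ | h1
    · exfalso
      apply hx
      have := h1 y
      rw [hy] at this
      exact this
    · exact h1 y'

theorem main' (hG : ∃ (S' : Scheme.{u}) (f : S' ⟶ S), Flat f ∧ Surjective f ∧
      (∀ V : S.Opens, IsAffineOpen V → ∃ W : S'.Opens, IsCompact (W : Set S') ∧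
        f.base '' (W : Set S') = (V : Set S)) ∧
      ∀ s' : S', ∃ U : S'.Opens, s' ∈ U ∧ ∃ (M : Type) (_ : AddCommGroup M),
        Nonempty (Grp.mk (Red.bc (U.ι ≫ f) G) ≅ Grp.mk (Red.DS (U : Scheme.{u}) M))) (hH : SGA3x.IsMultTypeFT H) :
    ∃ U : S.Opens, IsClosed (U : Set S) ∧
      (∀ s : S, s ∈ U ↔ (Flat ((Over.pullback (S.fromSpecResidueField s)).map u).left ∧
        Surjective ((Over.pullback (S.fromSpecResidueField s)).map u).left)) ∧
      (Flat ((Over.pullback U.ι).map u).left ∧ Surjective ((Over.pullback U.ι).map u).left) := by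
  obtain ⟨ho, hc⟩ := isOpen_preimage' u hG hH
  refine ⟨⟨FZset u, ho⟩, isOpen_compl_iff.1 hc, ?_, ?_⟩
  · intro s
    exact Iff.rfl
  · rw [← ffOver_iff]
    apply FFOver.of_local
    intro x
    obtain ⟨V, hV, hxV, -⟩ := exists_isAffineOpen_mem_and_subset
      (x := (Scheme.Opens.ι ⟨FZset u, ho⟩) x) (U := ⊤) trivial
    refine ⟨(Scheme.Opens.ι ⟨FZset u, ho⟩) ⁻¹ᵁ V, hxV, ?_⟩
    obtain ⟨P, p, hfl, hrange, hcomp, hloc⟩ := exists_cover' u hG hH V hV
    haveI := hfl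
    apply Groth.Agent.Helper16.FFLocus.cover_lemma u _ p
    · intro x₁
      rw [hrange]
      exact x₁.2
    · rintro x' ⟨x₁, hx₁⟩
      obtain ⟨C, w, hw, ⟨y, hy⟩, alt⟩ := hloc x'
      refine ⟨Spec C, w, hw, ⟨y, hy⟩, ?_⟩
      rcases alt with ⟨-, h2⟩ | h1
      · exact h2
      · exfalso
        apply h1 y
        rw [hy, ← hx₁]
        exact (x₁.1).2

end Groth.Agent.Helper7.FFArb
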