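import Mathlib
import Groth.Prelude
import Groth.Agent.Lib.Lead.Fib1
import Groth.Agent.Lib.Helper7.AdicFib3

/-!
# Formal fibres tested on finite domains (EGA IV 7.3-type criteria) (helper7)
-/

set_option autoImplicit false
set_option linter.unusedSectionVars false
set_option linter.style.haveILetI false
universe u

namespace Groth.Agent.Helper7.FFDom

open TensorProduct IsLocalRing Function nonZeroDivisors

section Generic

variable (P : ∀ (R : Type u) [CommRing R], Prop)
  (hP : ∀ (R R' : Type u) [CommRing R] [CommRing R'], (R ≃+* R') → P R → P R')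
include hP

/-- transfer of a pointwise local property along a ring isomorphism -/
theorem forall_loc_of_ringEquiv {R R' : Type u} [CommRing R] [CommRing R'] (e : R ≃+* R')
    (h : ∀ (Q : Ideal R) [Q.IsPrime], P (Localization.AtPrime Q)) :
    ∀ (Q' : Ideal R') [Q'.IsPrime], P (Localization.AtPrime Q') := by
  intro Q' _
  let f : Localization.AtPrime (Q'.comap e) ≃+* Localization.AtPrime Q' :=
    IsLocalization.ringEquivOfRingEquiv
      (Localization.AtPrime (Q'.comap e)) (Localization.AtPrime Q') e (e.map_primeCompl_comap_eq Q')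
  exact hP _ _ f (h (Q'.comap e))

theorem congr_prime {T : Type u} [CommRing T] (I J : Ideal T) [I.IsPrime] [J.IsPrime] (h : I = J)
    (hI : P (Localization.AtPrime I)) : P (Localization.AtPrime J) := by
  subst h
  exact hI

/-- a pointwise local property on a localization -/
theorem forall_loc_iff_of_isLocalization {T T' : Type u} [CommRing T] [CommRing T'] [Algebra T T']
    (M : Submonoid T) [IsLocalization M T'] :
    (∀ (Q : Ideal T') [Q.IsPrime], P (Localization.AtPrime Q)) ↔
      (∀ (q : Ideal T) [q.IsPrime], Disjoint (M : Set T) (q : Set T) →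
        P (Localization.AtPrime q)) := by
  have key : ∀ (Q : Ideal T') [Q.IsPrime],
      Nonempty (Localization.AtPrime (Q.comap (algebraMap T T')) ≃+* Localization.AtPrime Q) := by
    intro Q _
    haveI : IsLocalization.AtPrime (Localization.AtPrime Q) (Q.comap (algebraMap T T')) :=
      IsLocalization.isLocalization_isLocalization_atPrime_isLocalization M
        (Localization.AtPrime Q) Q
    let e : Localization.AtPrime (Q.comap (algebraMap T T')) ≃ₐ[T] Localization.AtPrime Q :=
      IsLocalization.algEquiv (Q.comap (algebraMap T T')).primeCompl _ _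
    exact ⟨e.toRingEquiv⟩
  constructor
  · intro h q _ hq
    haveI : (q.map (algebraMap T T')).IsPrime :=
      IsLocalization.isPrime_of_isPrime_disjoint M _ q ‹_› hq
    have hcomap : (q.map (algebraMap T T')).comap (algebraMap T T') = q :=
      IsLocalization.under_map_of_isPrime_disjoint M _ ‹_› hq
    obtain ⟨e⟩ := key (q.map (algebraMap T T'))
    exact congr_prime P hP _ _ hcomap (hP _ _ e.symm (h _))
  · intro h Q _
    obtain ⟨e⟩ := key Q
    have hd : Disjoint (M : Set T) (Q.comap (algebraMap T T') : Set T) :=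
      ((IsLocalization.isPrime_iff_isPrime_disjoint M T' Q).1 ‹_›).2
    exact hP _ _ e (h _ hd)

end Generic


section Common

variable (P : ∀ (R : Type u) [CommRing R], Prop)
  (hP : ∀ (R R' : Type u) [CommRing R] [CommRing R'], (R ≃+* R') → P R → P R')
include hP

variable (A C B K : Type u) [CommRing A] [CommRing C] [Algebra A C] [CommRing B] [IsDomain B]
  [Algebra A B] [Field K] [Algebra B K] [IsFractionRing B K] [Algebra A K] [IsScalarTower A B K]
  (p : Ideal A) [p.IsPrime] [Algebra p.ResidueField K] [IsScalarTower A p.ResidueField K]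

theorem common :
    (∀ (Q : Ideal (K ⊗[p.ResidueField] (p.ResidueField ⊗[A] C))) [Q.IsPrime],
        P (Localization.AtPrime Q)) ↔
      (∀ (q : Ideal (B ⊗[A] C)) [q.IsPrime], q.comap (algebraMap B (B ⊗[A] C)) = ⊥ →
        P (Localization.AtPrime q)) := by
  let E : K ⊗[p.ResidueField] (p.ResidueField ⊗[A] C) ≃+* K ⊗[A] C :=
    (Algebra.TensorProduct.cancelBaseChange A p.ResidueField p.ResidueField K C).toRingEquiv
  letI : Algebra (B ⊗[A] C) (K ⊗[A] C) :=
    (Algebra.TensorProduct.map (IsScalarTower.toAlgHom A B K) (AlgHom.id A C)).toRingHom.toAlgebra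
  haveI : IsScalarTower B (B ⊗[A] C) (K ⊗[A] C) := IsScalarTower.of_algebraMap_eq fun x => by
    change _ = Algebra.TensorProduct.map (IsScalarTower.toAlgHom A B K) (AlgHom.id A C) (x ⊗ₜ 1)
    simp [Algebra.TensorProduct.algebraMap_apply]
  haveI : IsLocalization (Algebra.algebraMapSubmonoid (B ⊗[A] C) B⁰) (K ⊗[A] C) :=
    IsLocalization.tensorProduct_tensorProduct A C B⁰ K (by
      ext c
      change Algebra.TensorProduct.map (IsScalarTower.toAlgHom A B K) (AlgHom.id A C)
        (1 ⊗ₜ c) = 1 ⊗ₜ c
      simp)
  have hdisj : ∀ (q : Ideal (B ⊗[A] C)) [q.IsPrime],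
      Disjoint ((Algebra.algebraMapSubmonoid (B ⊗[A] C) B⁰ : Submonoid (B ⊗[A] C)) : Set (B ⊗[A] C))
        (q : Set (B ⊗[A] C)) ↔ q.comap (algebraMap B (B ⊗[A] C)) = ⊥ := by
    intro q _
    constructor
    · intro hd
      rw [eq_bot_iff]
      intro b hb
      rw [Ideal.mem_bot]
      by_contra hb0
      have h1 : algebraMap B (B ⊗[A] C) b ∈
          (Algebra.algebraMapSubmonoid (B ⊗[A] C) B⁰ : Submonoid (B ⊗[A] C)) :=
        Algebra.mem_algebraMapSubmonoid_of_mem ⟨b, mem_nonZeroDivisors_of_ne_zero hb0⟩
      exact Set.disjoint_left.mp hd h1 hb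
    · intro hq
      rw [Set.disjoint_left]
      rintro x ⟨b, hb, rfl⟩ hx
      have h1 : b ∈ q.comap (algebraMap B (B ⊗[A] C)) := hx
      rw [hq, Ideal.mem_bot] at h1
      exact nonZeroDivisors.ne_zero hb h1
  constructor
  · intro h q _ hq
    have h1 := forall_loc_of_ringEquiv P hP E h
    exact (forall_loc_iff_of_isLocalization P hP
      (Algebra.algebraMapSubmonoid (B ⊗[A] C) B⁰)).mp h1 q ((hdisj q).mpr hq)
  · intro h
    have h1 : ∀ (Q : Ideal (K ⊗[A] C)) [Q.IsPrime], P (Localization.AtPrime Q) :=
      (forall_loc_iff_of_isLocalization P hP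
        (Algebra.algebraMapSubmonoid (B ⊗[A] C) B⁰)).mpr (fun q _ hd => h q ((hdisj q).mp hd))
    exact forall_loc_of_ringEquiv P hP E.symm h1

end Common


section Exists

/-- a finite field extension of a residue field is the fraction field of a finite domain -/
theorem exists_finite_domain (A : Type u) [CommRing A] (p : Ideal A) [p.IsPrime] (K : Type u)
    [Field K] [Algebra p.ResidueField K] [Module.Finite p.ResidueField K] [Algebra A K]
    [IsScalarTower A p.ResidueField K] :
    ∃ (B : Type u) (_ : CommRing B) (_ : IsDomain B) (_ : Algebra A B) (_ : Module.Finite A B)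
      (_ : Algebra B K) (_ : IsFractionRing B K), IsScalarTower A B K := by
  letI : Algebra (A ⧸ p) K :=
    ((algebraMap p.ResidueField K).comp (algebraMap (A ⧸ p) p.ResidueField)).toAlgebra
  haveI : IsScalarTower (A ⧸ p) p.ResidueField K := IsScalarTower.of_algebraMap_eq fun x => rfl
  haveI : IsScalarTower A (A ⧸ p) K := IsScalarTower.of_algebraMap_eq fun x => by
    rw [IsScalarTower.algebraMap_apply A p.ResidueField K,
      IsScalarTower.algebraMap_apply A (A ⧸ p) p.ResidueField]
    rfl
  obtain ⟨s, b, hb⟩ := FiniteDimensional.exists_is_basis_integral (A ⧸ p) p.ResidueField K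
  let B : Subalgebra (A ⧸ p) K := Algebra.adjoin (A ⧸ p) (Set.range b)
  have hfg : B.toSubmodule.FG := by
    apply fg_adjoin_of_finite (Set.finite_range b)
    rintro _ ⟨i, rfl⟩
    exact hb i
  haveI : Module.Finite (A ⧸ p) B := Module.Finite.iff_fg.mpr hfg
  letI : Algebra A B := ((algebraMap (A ⧸ p) B).comp (Ideal.Quotient.mk p)).toAlgebra
  haveI : IsScalarTower A (A ⧸ p) B := IsScalarTower.of_algebraMap_eq fun x => rfl
  haveI : Module.Finite A B := Module.Finite.trans (A ⧸ p) B
  haveI : IsScalarTower A B K := IsScalarTower.of_algebraMap_eq fun x => by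
    rw [IsScalarTower.algebraMap_apply A (A ⧸ p) K]
    rfl
  haveI : FaithfulSMul B K := (faithfulSMul_iff_algebraMap_injective B K).mpr Subtype.val_injective
  have hfrac : IsFractionRing B K := by
    apply IsFractionRing.of_field
    intro z
    obtain ⟨d, hd⟩ := IsLocalization.exist_integer_multiples_of_finite (A ⧸ p)⁰ (fun i => b.repr z i)
    have hd0 : algebraMap (A ⧸ p) K (d : A ⧸ p) ≠ 0 := by
      rw [IsScalarTower.algebraMap_apply (A ⧸ p) p.ResidueField K]
      intro h0
      have h1 := (algebraMap p.ResidueField K).injective (h0.trans (map_zero _).symm)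
      exact nonZeroDivisors.ne_zero d.2 (IsFractionRing.injective (A ⧸ p) p.ResidueField
        (h1.trans (map_zero _).symm))
    have hmem : (d : A ⧸ p) • z ∈ B := by
      have hz : z = ∑ i, b.repr z i • b i := (b.sum_repr z).symm
      rw [hz, Finset.smul_sum]
      refine Subalgebra.sum_mem _ fun i _ => ?_
      obtain ⟨a, ha⟩ := hd i
      rw [← smul_assoc, ← ha, algebraMap_smul]
      exact Subalgebra.smul_mem _ (Algebra.subset_adjoin (Set.mem_range_self i)) a
    refine ⟨(⟨(d : A ⧸ p) • z, hmem⟩ : B), algebraMap (A ⧸ p) B d, ?_⟩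
    change z = ((d : A ⧸ p) • z) / (algebraMap (A ⧸ p) K d)
    rw [Algebra.smul_def, mul_comm, mul_div_assoc, div_self hd0, mul_one]
  exact ⟨B, inferInstance, inferInstance, inferInstance, inferInstance, inferInstance, hfrac,
    inferInstance⟩

end Exists


section Main

variable (P : ∀ (R : Type u) [CommRing R], Prop)
  (hP : ∀ (R R' : Type u) [CommRing R] [CommRing R'], (R ≃+* R') → P R → P R')
include hP

variable (A C : Type u) [CommRing A] [CommRing C] [Algebra A C]

theorem generic :
    (∀ (p : Ideal A) [p.IsPrime] (K : Type u) [Field K] [Algebra p.ResidueField K],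
      Module.Finite p.ResidueField K →
      ∀ (Q : Ideal (K ⊗[p.ResidueField] (p.ResidueField ⊗[A] C))) [Q.IsPrime],
        P (Localization.AtPrime Q)) ↔
    (∀ (B : Type u) [CommRing B] [IsDomain B] [Algebra A B] [Module.Finite A B]
      (q : Ideal (B ⊗[A] C)) [q.IsPrime], q.comap (algebraMap B (B ⊗[A] C)) = ⊥ →
        P (Localization.AtPrime q)) := by
  constructor
  · intro h B _ _ _ _ q _ hq
    let p : Ideal A := RingHom.ker (algebraMap A B)
    haveI : p.IsPrime := RingHom.ker_isPrime _
    let K := FractionRing B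
    have hinj : Function.Injective (algebraMap B K) := IsFractionRing.injective B K
    letI : Algebra p.ResidueField K :=
      (Ideal.ResidueField.lift p (algebraMap A K)
        (by
          intro a ha
          rw [RingHom.mem_ker, IsScalarTower.algebraMap_apply A B K,
            (RingHom.mem_ker).mp ha, map_zero])
        (by
          intro a ha
          simp only [Submonoid.mem_comap, IsUnit.mem_submonoid_iff]
          rw [isUnit_iff_ne_zero, IsScalarTower.algebraMap_apply A B K]
          intro h0
          exact ha (hinj (h0.trans (map_zero _).symm)))).toAlgebra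
    haveI : IsScalarTower A p.ResidueField K := IsScalarTower.of_algebraMap_eq fun a => by
      change _ = Ideal.ResidueField.lift p (algebraMap A K) _ _ (algebraMap A p.ResidueField a)
      rw [Ideal.ResidueField.lift_algebraMap]
    -- finiteness
    letI : Algebra (A ⧸ p) B := (RingHom.kerLift (algebraMap A B)).toAlgebra
    haveI : IsScalarTower A (A ⧸ p) B := IsScalarTower.of_algebraMap_eq fun a => rfl
    haveI : Module.Finite (A ⧸ p) B := Module.Finite.of_restrictScalars_finite A (A ⧸ p) B
    haveI : FaithfulSMul (A ⧸ p) B :=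
      (faithfulSMul_iff_algebraMap_injective _ _).mpr (RingHom.kerLift_injective _)
    haveI : Algebra.IsAlgebraic (A ⧸ p) B := Algebra.IsIntegral.isAlgebraic
    haveI : IsScalarTower (A ⧸ p) B K := inferInstance
    haveI : IsScalarTower (A ⧸ p) p.ResidueField K := IsScalarTower.of_algebraMap_eq fun x => by
      obtain ⟨a, rfl⟩ := Ideal.Quotient.mk_surjective x
      rw [Ideal.algebraMap_quotient_residueField_mk]
      rw [IsScalarTower.algebraMap_apply (A ⧸ p) B K]
      change algebraMap B K (algebraMap A B a) =
        Ideal.ResidueField.lift p (algebraMap A K) _ _ (algebraMap A p.ResidueField a)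
      rw [Ideal.ResidueField.lift_algebraMap, IsScalarTower.algebraMap_apply A B K]
    have hfin : Module.Finite p.ResidueField K := Module.Finite.of_isLocalization (A ⧸ p) B (A ⧸ p)⁰
    exact (common P hP A C B K p).mp (h p K hfin) q hq
  · intro h p _ K _ _ hK
    letI : Algebra A K := ((algebraMap p.ResidueField K).comp (algebraMap A p.ResidueField)).toAlgebra
    haveI : IsScalarTower A p.ResidueField K := IsScalarTower.of_algebraMap_eq fun x => rfl
    obtain ⟨B, _, _, _, _, _, _, _⟩ := exists_finite_domain A p K
    exact (common P hP A C B K p).mpr (fun q _ hq => h B q hq)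

end Main


section Final

variable (A : Type u) [CommRing A] [IsNoetherianRing A] [IsLocalRing A]

theorem s4703 :
    CAlg.IsRegularHom A (EGA4.Cpl A) ↔
      ∀ (B : Type u) [CommRing B] [IsDomain B] [Algebra A B] [Module.Finite A B]
        (q : Ideal (B ⊗[A] EGA4.Cpl A)) [q.IsPrime],
        q.comap (algebraMap B (B ⊗[A] EGA4.Cpl A)) = ⊥ →
          IsRegularLocalRing (Localization.AtPrime q) := by
  have hBN : IsNoetherianRing (EGA4.Cpl A) :=
    Groth.Agent.Helper1.isNoetherianRing_adicCompletion_of_fg A _ (IsNoetherian.noetherian _)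
  rw [← generic (fun R _ => IsRegularLocalRing R)
    (fun R R' _ _ e hR => @IsRegularLocalRing.of_ringEquiv R _ hR R' _ e) A (EGA4.Cpl A)]
  constructor
  · intro h p _ K _ _ hK Q _
    have h1 : IsRegularRing (K ⊗[p.ResidueField] (p.ResidueField ⊗[A] EGA4.Cpl A)) :=
      (h.2 p).2 K hK
    exact IsRegularRing.isRegularLocalRing_localization Q
  · intro h
    refine ⟨AdicCompletion.flat_of_isNoetherian _, fun p _ =>
      ⟨Groth.Agent.Lead.Fib.isNoetherianRing_fiber p, ?_⟩⟩
    intro K _ _ hK
    haveI := hK
    haveI hN0 : IsNoetherianRing (p.ResidueField ⊗[A] EGA4.Cpl A) :=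
      Groth.Agent.Lead.Fib.isNoetherianRing_fiber p
    haveI : IsNoetherianRing (K ⊗[p.ResidueField] (p.ResidueField ⊗[A] EGA4.Cpl A)) :=
      Groth.Agent.Helper7.GeomRed.isNoetherianRing_tensor_of_finite p.ResidueField K _
    rw [isRegularRing_iff]
    intro Q _
    exact h p K hK Q

theorem s4743 :
    EGA4.HasGeomReducedFormalFibres A ↔
      ∀ (B : Type u) [CommRing B] [IsDomain B] [Algebra A B] [Module.Finite A B]
        (q : Ideal (B ⊗[A] EGA4.Cpl A)) [q.IsPrime],
        q.comap (algebraMap B (B ⊗[A] EGA4.Cpl A)) = ⊥ → IsReduced (Localization.AtPrime q) := by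
  rw [← generic (fun R _ => IsReduced R)
    (fun R R' _ _ e h => isReduced_of_injective e.symm.toRingHom e.symm.injective) A (EGA4.Cpl A)]
  constructor
  · intro h p _ K _ _ hK Q _
    haveI := h p
    have h1 : IsReduced (K ⊗[p.ResidueField] (p.ResidueField ⊗[A] EGA4.Cpl A)) := inferInstance
    infer_instance
  · intro h p _
    apply Groth.Agent.Helper7.AdicFib.geomReduced_of_finite
    intro K _ _ hK
    apply isReduced_ofLocalizationMaximal
    intro Q hQ
    exact h p K hK Q

end Final

end Groth.Agent.Helper7.FFDom
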