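import Mathlib
open Polynomial
universe u
namespace Groth.Agent.Helper7

/-- Homogeneous integrality relation from a monic polynomial whose scaled evaluation is nilpotent. -/
lemma pow_mem_span_of_scaleRoots_eval_nilpotent {B : Type*} [CommRing B] [Nontrivial B]
    (a s : B) (P : B[X]) (hP : P.Monic) (m : ℕ) (he : (eval a (scaleRoots P s)) ^ m = 0) :
    ∃ N : ℕ, a ^ N ∈ Ideal.span (Set.range (fun i : Fin N => s ^ (N - (i : ℕ)) * a ^ (i : ℕ))) := by
  set Q := P ^ m with hQ
  have hQm : Q.Monic := hP.pow m
  have hsc : scaleRoots Q s = (scaleRoots P s) ^ m := by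
    apply pow_scaleRoots'
    rw [hP.leadingCoeff, one_pow]
    exact one_ne_zero
  have hev : eval a (scaleRoots Q s) = 0 := by
    rw [hsc, eval_pow, he]
  refine ⟨Q.natDegree, ?_⟩
  set N := Q.natDegree with hN
  rw [eval_eq_sum_range, natDegree_scaleRoots, Finset.sum_range_succ] at hev
  have htop : (scaleRoots Q s).coeff N * a ^ N = a ^ N := by
    rw [coeff_scaleRoots, ← hN, Nat.sub_self, pow_zero, mul_one]
    rw [hN, ← Polynomial.leadingCoeff, hQm.leadingCoeff, one_mul]
  rw [htop] at hev
  have h1 : a ^ N = - ∑ i ∈ Finset.range N, (scaleRoots Q s).coeff i * a ^ i := by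
    rw [eq_neg_iff_add_eq_zero, add_comm]; exact hev
  rw [h1]
  rw [neg_mem_iff]
  apply Ideal.sum_mem
  intro i hi
  rw [Finset.mem_range] at hi
  rw [coeff_scaleRoots, ← hN, mul_assoc]
  apply Ideal.mul_mem_left
  exact Ideal.subset_span ⟨⟨i, hi⟩, rfl⟩

lemma isIntegral_div_of_pow_mem_span {A K : Type*} [CommRing A] [IsDomain A] [Field K] [Algebra A K]
    [IsFractionRing A K] (a s : A) (hs : s ≠ 0) (N : ℕ)
    (h : a ^ N ∈ Ideal.span (Set.range (fun i : Fin N => s ^ (N - (i : ℕ)) * a ^ (i : ℕ)))) :
    IsIntegral A (algebraMap A K a / algebraMap A K s) := by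
  obtain ⟨c, hc⟩ := (Ideal.mem_span_range_iff_exists_fun).mp h
  set x : K := algebraMap A K a / algebraMap A K s with hx
  have hsK : algebraMap A K s ≠ 0 := by
    intro h0
    exact hs ((IsFractionRing.injective A K) (h0.trans (map_zero _).symm))
  let q : A[X] := ∑ i : Fin N, C (c i) * X ^ (i : ℕ)
  have hqdeg : q.degree < (N : WithBot ℕ) := by
    rw [← Polynomial.mem_degreeLT]
    apply Submodule.sum_mem
    intro i _
    rw [Polynomial.mem_degreeLT]
    refine lt_of_le_of_lt (degree_C_mul_X_pow_le _ _) ?_
    exact_mod_cast i.2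
  refine ⟨X ^ N - q, monic_X_pow_sub hqdeg, ?_⟩
  rw [← aeval_def, map_sub, map_pow, aeval_X]
  simp only [q, map_sum, map_mul, aeval_C, map_pow, aeval_X]
  -- x^N = ∑ c i * x^i
  have hxs : x * algebraMap A K s = algebraMap A K a := by
    rw [hx, div_mul_cancel₀ _ hsK]
  have key : (x ^ N - ∑ i : Fin N, algebraMap A K (c i) * x ^ (i : ℕ)) * (algebraMap A K s) ^ N = 0 := by
    rw [sub_mul, ← mul_pow, hxs, Finset.sum_mul]
    have : ∀ i : Fin N, algebraMap A K (c i) * x ^ (i : ℕ) * algebraMap A K s ^ N =
        algebraMap A K (c i * (s ^ (N - (i : ℕ)) * a ^ (i : ℕ))) := by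
      intro i
      have hi : algebraMap A K s ^ N = algebraMap A K s ^ (i : ℕ) * algebraMap A K s ^ (N - (i : ℕ)) := by
        rw [← pow_add, Nat.add_sub_cancel' i.2.le]
      rw [map_mul, map_mul, map_pow, map_pow, ← hxs, mul_pow, hi]
      ring
    rw [Finset.sum_congr rfl (fun i _ => this i), ← map_sum, hc, map_pow, sub_self]
  rcases mul_eq_zero.mp key with h0 | h0
  · exact h0
  · exact absurd h0 (pow_ne_zero N hsK)


theorem reduction_of_faithfullyFlat {A B : Type u} [CommRing A] [IsDomain A]
    [CommRing B] [Algebra A B] [Module.FaithfullyFlat A B] :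
    Function.Injective (algebraMap A (B ⧸ nilradical B)) ∧
    (∀ a : A, a ≠ 0 → algebraMap A (B ⧸ nilradical B) a ∈ nonZeroDivisors (B ⧸ nilradical B)) ∧
    ∀ (R : Type u) [CommRing R] [Algebra (B ⧸ nilradical B) R] [IsFractionRing (B ⧸ nilradical B) R]
      [Algebra A R] [IsScalarTower A (B ⧸ nilradical B) R] [Algebra (FractionRing A) R]
      [IsScalarTower A (FractionRing A) R] (x : FractionRing A),
      IsIntegral (B ⧸ nilradical B) (algebraMap (FractionRing A) R x) ↔ IsIntegral A x := by
  have hinjB : Function.Injective (algebraMap A B) := FaithfulSMul.algebraMap_injective A B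
  have hmk : ∀ a : A, algebraMap A (B ⧸ nilradical B) a =
      Ideal.Quotient.mk (nilradical B) (algebraMap A B a) := fun a => rfl
  have hinj : Function.Injective (algebraMap A (B ⧸ nilradical B)) := by
    rw [injective_iff_map_eq_zero]
    intro a ha
    rw [hmk, Ideal.Quotient.eq_zero_iff_mem] at ha
    obtain ⟨n, hn⟩ := ha
    rw [← map_pow] at hn
    have := hinjB (hn.trans (map_zero _).symm)
    exact pow_eq_zero_iff (n := n) (by
      rintro rfl
      simp at this) |>.mp this
  have hreg : ∀ a : A, a ≠ 0 → IsSMulRegular B (algebraMap A B a) := by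
    intro a ha
    exact IsSMulRegular.of_flat (IsRegular.of_ne_zero ha).left.isSMulRegular
  have hnt : Nontrivial (B ⧸ nilradical B) := hinj.nontrivial
  have hntB : Nontrivial B := hinjB.nontrivial
  refine ⟨hinj, ?_, ?_⟩
  · intro a ha
    rw [mem_nonZeroDivisors_iff_right]
    intro z hz
    obtain ⟨c, rfl⟩ := Ideal.Quotient.mk_surjective z
    rw [hmk, ← map_mul, Ideal.Quotient.eq_zero_iff_mem] at hz
    obtain ⟨n, hn⟩ := hz
    rw [mul_pow, ← map_pow] at hn
    have hreg' := hreg (a ^ n) (pow_ne_zero n ha)
    have : c ^ n = 0 := by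
      apply hreg'
      change algebraMap A B (a ^ n) • c ^ n = algebraMap A B (a ^ n) • 0
      rw [smul_zero, smul_eq_mul, mul_comm]
      exact hn
    rw [Ideal.Quotient.eq_zero_iff_mem]
    exact ⟨n, this⟩
  · intro R _ _ _ _ _ _ _ x
    constructor
    · intro hint
      obtain ⟨a, s, hs, rfl⟩ := IsFractionRing.div_surjective (A := A) x
      have hs0 : s ≠ 0 := nonZeroDivisors.ne_zero hs
      -- notation
      let f : (B ⧸ nilradical B) →+* R := algebraMap _ R
      let π : B →+* (B ⧸ nilradical B) := Ideal.Quotient.mk (nilradical B)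
      set aB := algebraMap A B a with haB
      set sB := algebraMap A B s with hsB
      set xR := algebraMap (FractionRing A) R
        (algebraMap A (FractionRing A) a / algebraMap A (FractionRing A) s) with hxR
      have hfx : f (π sB) * xR = f (π aB) := by
        have e1 : ∀ r : A, f (π (algebraMap A B r)) =
            algebraMap (FractionRing A) R (algebraMap A (FractionRing A) r) := by
          intro r
          change algebraMap (B ⧸ nilradical B) R (algebraMap A (B ⧸ nilradical B) r) = _
          rw [← IsScalarTower.algebraMap_apply, ← IsScalarTower.algebraMap_apply]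
        rw [e1, e1, hxR, ← map_mul]
        congr 1
        have : algebraMap A (FractionRing A) s ≠ 0 := by
          intro h0
          exact hs0 ((IsFractionRing.injective A (FractionRing A)) (h0.trans (map_zero _).symm))
        rw [mul_div_cancel₀ _ this]
      obtain ⟨P, hPm, hP⟩ := hint
      have h1 : eval₂ f (f (π aB)) (scaleRoots P (π sB)) = 0 := by
        rw [← hfx, scaleRoots_eval₂_mul, hP, mul_zero]
      rw [eval₂_at_apply] at h1
      have h2 : eval (π aB) (scaleRoots P (π sB)) = 0 :=
        (IsFractionRing.injective (B ⧸ nilradical B) R) (h1.trans (map_zero _).symm)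
      obtain ⟨P', hP'map, -, hP'm⟩ := lifts_and_natDegree_eq_and_monic
        ((mem_lifts P).mpr (map_surjective π Ideal.Quotient.mk_surjective P)) hPm
      have h3 : π (eval aB (scaleRoots P' sB)) = 0 := by
        rw [← eval₂_at_apply, ← eval_map, map_scaleRoots, hP'map]
        · exact h2
        · rw [hP'm.leadingCoeff, map_one]; exact one_ne_zero
      rw [Ideal.Quotient.eq_zero_iff_mem] at h3
      obtain ⟨m, hm⟩ := h3
      obtain ⟨N, hN⟩ := pow_mem_span_of_scaleRoots_eval_nilpotent aB sB P' hP'm m hm
      apply isIntegral_div_of_pow_mem_span a s hs0 N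
      rw [← Ideal.comap_map_eq_self_of_faithfullyFlat (B := B)
        (Ideal.span (Set.range (fun i : Fin N => s ^ (N - (i : ℕ)) * a ^ (i : ℕ))))]
      rw [Ideal.mem_comap, Ideal.map_span, map_pow]
      convert hN using 2
      ext z
      simp only [Set.mem_image, Set.mem_range, exists_exists_eq_and, map_mul, map_pow]
      rfl
    · intro hint
      have h1 : IsIntegral A (algebraMap (FractionRing A) R x) :=
        hint.map (IsScalarTower.toAlgHom A (FractionRing A) R)
      exact h1.tower_top

end Groth.Agent.Helper7
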