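import Mathlib
import Groth.Agent.Lib.Helper7.ThirdIsoA

/-!
# `G/G' ⟶ G₁/G₁'` is a fibration with fibre `G₀/G₀'`, abstractly (helper7)
-/

set_option autoImplicit false
set_option linter.style.haveILetI false
set_option linter.unusedSectionVars false
universe v u

open CategoryTheory CategoryTheory.Limits MonoidalCategory CartesianMonoidalCategory MonObj

namespace Groth.Agent.Helper7.ThirdIso

variable {C : Type u} [Category.{v} C] [CartesianMonoidalCategory C]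

theorem isPullback_fst_snd_toUnit (X Y : C) :
    IsPullback (fst X Y) (snd X Y) (toUnit X) (toUnit Y) := by
  apply isPullback_of_pts
  · exact toUnit_unique _ _
  · intro T x y _
    exact ⟨lift x y, by simp, by simp⟩
  · intro T z z' h1 h2
    exact CartesianMonoidalCategory.hom_ext _ _ h1 h2

theorem E_fst {E : MorphismProperty C} (hE : CoverClass E) (X Y : C) (hY : E (toUnit Y)) :
    E (fst X Y) := by
  haveI := hE.bc
  exact E.of_isPullback (isPullback_fst_snd_toUnit X Y).flip hY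

section Fib

variable [HasPullbacks C] {E : MorphismProperty C} (hE : CoverClass E)
  (hdesc : ∀ {X Y Z : C} (f : X ⟶ Y) (φ : X ⟶ Z), E f →
    (∀ {T : C} (a b : T ⟶ X), a ≫ f = b ≫ f → a ≫ φ = b ≫ φ) → ∃ φ' : Y ⟶ Z, f ≫ φ' = φ)
  {G G' G₀ G₁ G₀' G₁' Qa Qb Q : C} [GrpObj G] [GrpObj G'] [GrpObj G₀] [GrpObj G₁]
  (i' : G' ⟶ G) [IsMonHom i']
  (i₀ : G₀ ⟶ G) [IsMonHom i₀] [Mono i₀]
  (q₁ : G ⟶ G₁) [IsMonHom q₁] (hEq₁ : E q₁)
  (hq₁ : IsPullback (fst G G₀) ((G ◁ i₀) ≫ μ[G]) q₁ q₁)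
  (j : G₀' ⟶ G₀) (j' : G₀' ⟶ G') (hj : IsPullback j j' i₀ i')
  (i₁' : G₁' ⟶ G₁) (p : G' ⟶ G₁') (hp : p ≫ i₁' = i' ≫ q₁) (hEp : E p)
  (hEG' : E (toUnit G'))
  (qa : G₀ ⟶ Qa) (hEqa : E qa) (hqa : IsPullback (fst G₀ G₀') ((G₀ ◁ j) ≫ μ[G₀]) qa qa)
  (qb : G₁ ⟶ Qb) (hEqb : E qb) (hqb : IsPullback (fst G₁ G₁') ((G₁ ◁ i₁') ≫ μ[G₁]) qb qb)
  (q : G ⟶ Q) (hEq : E q) (hq : IsPullback (fst G G') ((G ◁ i') ≫ μ[G]) q q)

include hE hdesc hEq₁ hq₁ hj hp hEp hEG' hEqa hqa hEqb hqb hEq hq in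
theorem fibration :
    ∃ (r : Q ⟶ Qb) (ψ' : G ⊗ Qa ⟶ Q), q ≫ r = q₁ ≫ qb ∧
      IsPullback ψ' (fst G Qa) r (q₁ ≫ qb) := by
  haveI := hE.bc
  haveI := hE.comp
  -- Step 1: the morphism r
  obtain ⟨r, hr⟩ := hdesc q (q₁ ≫ qb) hEq (by
    intro T a b hab
    obtain ⟨t, rfl⟩ := quot_ex i' q hq a b hab
    have h1 : (a * (t ≫ i')) ≫ q₁ = (a ≫ q₁) * ((t ≫ p) ≫ i₁') := by
      rw [MonObj.mul_comp, Category.assoc, Category.assoc, hp]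
    calc a ≫ q₁ ≫ qb = (a ≫ q₁) ≫ qb := (Category.assoc _ _ _).symm
      _ = ((a ≫ q₁) * ((t ≫ p) ≫ i₁')) ≫ qb := (quot_comm i₁' qb hqb _ _).symm
      _ = ((a * (t ≫ i')) ≫ q₁) ≫ qb := by rw [h1]
      _ = _ := Category.assoc _ _ _)
  -- Step 2: the morphism ψ'
  let φ : G ⊗ G₀ ⟶ Q := (fst G G₀ * (snd G G₀ ≫ i₀)) ≫ q
  have hφpt : ∀ {T : C} (g : T ⟶ G) (a : T ⟶ G₀), lift g a ≫ φ = (g * (a ≫ i₀)) ≫ q := by
    intro T g a
    show lift g a ≫ (fst G G₀ * (snd G G₀ ≫ i₀)) ≫ q = _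
    rw [← Category.assoc, MonObj.comp_mul, lift_fst, lift_snd_assoc]
  have hjw : j ≫ i₀ = j' ≫ i' := hj.w
  have hEGqa : E (G ◁ qa) := E_whiskerLeft hE G qa hEqa
  obtain ⟨ψ', hψ'⟩ := hdesc (G ◁ qa) φ hEGqa (by
    intro T z₁ z₂ hz
    have h1 : z₁ ≫ fst G G₀ = z₂ ≫ fst G G₀ := by
      have := congrArg (· ≫ fst G Qa) hz
      simpa only [Category.assoc, whiskerLeft_fst] using this
    have h2 : (z₁ ≫ snd G G₀) ≫ qa = (z₂ ≫ snd G G₀) ≫ qa := by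
      have := congrArg (· ≫ snd G Qa) hz
      simpa only [Category.assoc, whiskerLeft_snd] using this
    obtain ⟨d, hd⟩ := quot_ex j qa hqa _ _ h2
    have e1 : z₁ = lift (z₁ ≫ fst G G₀) (z₁ ≫ snd G G₀) := by
      apply CartesianMonoidalCategory.hom_ext <;> simp
    have e2 : z₂ = lift (z₁ ≫ fst G G₀) ((z₁ ≫ snd G G₀) * (d ≫ j)) := by
      apply CartesianMonoidalCategory.hom_ext
      · simp [h1]
      · simp [hd]
    have key : lift (z₁ ≫ fst G G₀) ((z₁ ≫ snd G G₀) * (d ≫ j)) ≫ φ =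
        lift (z₁ ≫ fst G G₀) (z₁ ≫ snd G G₀) ≫ φ := by
      have h3 : ((z₁ ≫ snd G G₀) * (d ≫ j)) ≫ i₀ =
          ((z₁ ≫ snd G G₀) ≫ i₀) * ((d ≫ j') ≫ i') := by
        rw [MonObj.mul_comp, Category.assoc d j i₀, hjw, Category.assoc d j' i']
      rw [hφpt, hφpt, h3, ← _root_.mul_assoc]
      exact quot_comm i' q hq _ _
    exact (congrArg (· ≫ φ) e1).trans (key.symm.trans (congrArg (· ≫ φ) e2).symm))
  haveI : Epi (G ◁ qa) := hE.epi _ hEGqa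
  -- Step 3: the square commutes
  have hcomm : ψ' ≫ r = fst G Qa ≫ q₁ ≫ qb := by
    rw [← cancel_epi (G ◁ qa), reassoc_of% hψ', whiskerLeft_fst_assoc]
    show ((fst G G₀ * (snd G G₀ ≫ i₀)) ≫ q) ≫ r = _
    rw [Category.assoc, hr, ← Category.assoc, quot_comm i₀ q₁ hq₁, Category.assoc]
  let ψ : G ⊗ Qa ⟶ pullback r (q₁ ≫ qb) := pullback.lift ψ' (fst G Qa) hcomm
  have hψ1 : ψ ≫ pullback.fst r (q₁ ≫ qb) = ψ' := pullback.lift_fst _ _ _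
  have hψ2 : ψ ≫ pullback.snd r (q₁ ≫ qb) = fst G Qa := pullback.lift_snd _ _ _
  -- Step 4: ψ is a monomorphism
  have hmono : Mono ψ := by
    constructor
    intro T z₁ z₂ hz
    have h1 : z₁ ≫ ψ' = z₂ ≫ ψ' := by
      have := congrArg (· ≫ pullback.fst r (q₁ ≫ qb)) hz
      simpa only [Category.assoc, hψ1] using this
    have h2 : z₁ ≫ fst G Qa = z₂ ≫ fst G Qa := by
      have := congrArg (· ≫ pullback.snd r (q₁ ≫ qb)) hz
      simpa only [Category.assoc, hψ2] using this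
    obtain ⟨T1, c1, a₁, hc1, ha₁⟩ := exists_cover_lift hE qa hEqa (z₁ ≫ snd G Qa)
    obtain ⟨T2, c2, a₂, hc2, ha₂⟩ := exists_cover_lift hE qa hEqa (c1 ≫ z₂ ≫ snd G Qa)
    haveI : Epi (c2 ≫ c1) := hE.epi _ (E.comp_mem _ _ hc2 hc1)
    have e1 : (c2 ≫ c1) ≫ z₁ = lift ((c2 ≫ c1) ≫ z₁ ≫ fst G Qa) (c2 ≫ a₁) ≫ (G ◁ qa) := by
      apply CartesianMonoidalCategory.hom_ext
      · simp only [Category.assoc, whiskerLeft_fst, lift_fst]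
      · simp only [Category.assoc, whiskerLeft_snd, lift_snd_assoc, ha₁]
    have e2 : (c2 ≫ c1) ≫ z₂ = lift ((c2 ≫ c1) ≫ z₁ ≫ fst G Qa) a₂ ≫ (G ◁ qa) := by
      apply CartesianMonoidalCategory.hom_ext
      · simp only [Category.assoc, whiskerLeft_fst, lift_fst, h2]
      · simp only [Category.assoc, whiskerLeft_snd, lift_snd_assoc, ha₂]
    have e3 : (((c2 ≫ c1) ≫ z₁ ≫ fst G Qa) * ((c2 ≫ a₁) ≫ i₀)) ≫ q =
        (((c2 ≫ c1) ≫ z₁ ≫ fst G Qa) * (a₂ ≫ i₀)) ≫ q := by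
      rw [← hφpt, ← hφpt, ← hψ', ← Category.assoc, ← e1, ← Category.assoc, ← e2]
      simp only [Category.assoc, h1]
    obtain ⟨t, ht⟩ := quot_ex i' q hq _ _ e3
    rw [_root_.mul_assoc] at ht
    have e4 : a₂ ≫ i₀ = ((c2 ≫ a₁) ≫ i₀) * (t ≫ i') := mul_left_cancel ht
    have e5 : ((c2 ≫ a₁)⁻¹ * a₂) ≫ i₀ = t ≫ i' := by
      have h3 : ((c2 ≫ a₁) ≫ i₀) * (((c2 ≫ a₁)⁻¹ * a₂) ≫ i₀) =
          ((c2 ≫ a₁) ≫ i₀) * (t ≫ i') := by
        rw [← MonObj.mul_comp, mul_inv_cancel_left, e4]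
      exact mul_left_cancel h3
    obtain ⟨d, hd⟩ : ∃ d : T2 ⟶ G₀', d ≫ j = (c2 ≫ a₁)⁻¹ * a₂ :=
      ⟨hj.lift _ _ e5, hj.lift_fst _ _ e5⟩
    have e6 : a₂ = (c2 ≫ a₁) * (d ≫ j) := by rw [hd, mul_inv_cancel_left]
    have e7 : a₂ ≫ qa = (c2 ≫ a₁) ≫ qa := by
      rw [e6]; exact quot_comm j qa hqa _ _
    rw [← cancel_epi (c2 ≫ c1), e1, e2]
    apply CartesianMonoidalCategory.hom_ext
    · simp only [Category.assoc, whiskerLeft_fst, lift_fst]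
    · simp only [Category.assoc, whiskerLeft_snd, lift_snd_assoc, e7]
  -- Step 5: ψ is a cover
  have hc : (pullback.snd (q₁ ≫ qb) (q₁ ≫ qb) ≫ q₁) ≫ qb =
      (pullback.fst (q₁ ≫ qb) (q₁ ≫ qb) ≫ q₁) ≫ qb := by
    simpa only [Category.assoc] using (pullback.condition (f := q₁ ≫ qb) (g := q₁ ≫ qb)).symm
  let l : pullback (q₁ ≫ qb) (q₁ ≫ qb) ⟶ G₁ ⊗ G₁' := hqb.lift _ _ hc
  have hl1 : l ≫ fst G₁ G₁' = pullback.snd (q₁ ≫ qb) (q₁ ≫ qb) ≫ q₁ := hqb.lift_fst _ _ _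
  have hl2 : l ≫ (G₁ ◁ i₁') ≫ μ[G₁] = pullback.fst (q₁ ≫ qb) (q₁ ≫ qb) ≫ q₁ :=
    hqb.lift_snd _ _ _
  let wg : G ⊗ (G₀ ⊗ G') ⟶ G := fst G (G₀ ⊗ G')
  let wa : G ⊗ (G₀ ⊗ G') ⟶ G₀ := snd G (G₀ ⊗ G') ≫ fst G₀ G'
  let wt : G ⊗ (G₀ ⊗ G') ⟶ G' := snd G (G₀ ⊗ G') ≫ snd G₀ G'
  let ζ₁ : G ⊗ (G₀ ⊗ G') ⟶ G := (wg * (wa ≫ i₀)) * (wt ≫ i')
  have hζ₁pt : ∀ {T : C} (z : T ⟶ G ⊗ (G₀ ⊗ G')),
      z ≫ ζ₁ = ((z ≫ wg) * ((z ≫ wa) ≫ i₀)) * ((z ≫ wt) ≫ i') := by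
    intro T z
    show z ≫ ((wg * (wa ≫ i₀)) * (wt ≫ i')) = _
    rw [MonObj.comp_mul, MonObj.comp_mul]
    simp only [Category.assoc]
  have hζq₁ : ∀ {T : C} (z : T ⟶ G ⊗ (G₀ ⊗ G')),
      (z ≫ ζ₁) ≫ q₁ = ((z ≫ wg) ≫ q₁) * (((z ≫ wt) ≫ p) ≫ i₁') := by
    intro T z
    rw [hζ₁pt, MonObj.mul_comp, quot_comm i₀ q₁ hq₁, Category.assoc (z ≫ wt) p i₁', hp,
      Category.assoc (z ≫ wt) i' q₁]
  have hζ : ζ₁ ≫ q₁ ≫ qb = wg ≫ q₁ ≫ qb := by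
    have h1 := hζq₁ (𝟙 (G ⊗ (G₀ ⊗ G')))
    simp only [Category.id_comp] at h1
    rw [← Category.assoc, h1, quot_comm i₁' qb hqb, Category.assoc]
  let ζ : G ⊗ (G₀ ⊗ G') ⟶ pullback (q₁ ≫ qb) (q₁ ≫ qb) := pullback.lift ζ₁ wg hζ
  have hζ1 : ζ ≫ pullback.fst (q₁ ≫ qb) (q₁ ≫ qb) = ζ₁ := pullback.lift_fst _ _ _
  have hζ2 : ζ ≫ pullback.snd (q₁ ≫ qb) (q₁ ≫ qb) = wg := pullback.lift_snd _ _ _
  have hsq : IsPullback ζ wt (l ≫ snd G₁ G₁') p := by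
    apply isPullback_of_pts
    · have h0 : ζ ≫ l = lift (wg ≫ q₁) (wt ≫ p) := by
        apply hqb.hom_ext
        · rw [Category.assoc, hl1, reassoc_of% hζ2, lift_fst]
        · rw [Category.assoc, hl2, reassoc_of% hζ1, shear_pt]
          have h1 := hζq₁ (𝟙 (G ⊗ (G₀ ⊗ G')))
          simpa only [Category.id_comp] using h1
      rw [← Category.assoc, h0, lift_snd]
    · intro T x y hxy
      have hx : x ≫ l = lift ((x ≫ pullback.snd (q₁ ≫ qb) (q₁ ≫ qb)) ≫ q₁) (y ≫ p) := by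
        apply CartesianMonoidalCategory.hom_ext
        · simp only [Category.assoc, hl1, lift_fst]
        · simp only [Category.assoc, lift_snd]
          simpa only [Category.assoc] using hxy
      have h3 : (x ≫ pullback.fst (q₁ ≫ qb) (q₁ ≫ qb)) ≫ q₁ =
          ((x ≫ pullback.snd (q₁ ≫ qb) (q₁ ≫ qb)) ≫ q₁) * ((y ≫ i') ≫ q₁) := by
        rw [Category.assoc, ← hl2, ← Category.assoc, hx, shear_pt, Category.assoc y p i₁', hp,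
          Category.assoc y i' q₁]
      have h4 : ((x ≫ pullback.snd (q₁ ≫ qb) (q₁ ≫ qb)) ≫ q₁) =
          ((x ≫ pullback.fst (q₁ ≫ qb) (q₁ ≫ qb)) * (y ≫ i')⁻¹) ≫ q₁ := by
        have h5 : (((x ≫ pullback.fst (q₁ ≫ qb) (q₁ ≫ qb)) * (y ≫ i')⁻¹) ≫ q₁) *
            ((y ≫ i') ≫ q₁) =
            ((x ≫ pullback.snd (q₁ ≫ qb) (q₁ ≫ qb)) ≫ q₁) * ((y ≫ i') ≫ q₁) := by
          rw [← MonObj.mul_comp, inv_mul_cancel_right, h3]
        exact (mul_right_cancel h5).symm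
      obtain ⟨a, ha⟩ := quot_ex i₀ q₁ hq₁ _ _ h4
      have h6 : x ≫ pullback.fst (q₁ ≫ qb) (q₁ ≫ qb) =
          ((x ≫ pullback.snd (q₁ ≫ qb) (q₁ ≫ qb)) * (a ≫ i₀)) * (y ≫ i') := by
        rw [← ha, inv_mul_cancel_right]
      refine ⟨lift (x ≫ pullback.snd (q₁ ≫ qb) (q₁ ≫ qb)) (lift a y), ?_, ?_⟩
      · apply pullback.hom_ext
        · rw [Category.assoc, hζ1, hζ₁pt, h6]
          simp [wg, wa, wt]
        · rw [Category.assoc, hζ2]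
          simp [wg]
      · simp [wt]
    · intro T z z' h1 h2
      have a1 : z ≫ wg = z' ≫ wg := by
        have := congrArg (· ≫ pullback.snd (q₁ ≫ qb) (q₁ ≫ qb)) h1
        simpa only [Category.assoc, hζ2] using this
      have a2 : z ≫ ζ₁ = z' ≫ ζ₁ := by
        have := congrArg (· ≫ pullback.fst (q₁ ≫ qb) (q₁ ≫ qb)) h1
        simpa only [Category.assoc, hζ1] using this
      rw [hζ₁pt, hζ₁pt, a1, h2] at a2
      have a3 := mul_left_cancel (mul_right_cancel a2)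
      have a4 : z ≫ wa = z' ≫ wa := by
        rw [← cancel_mono i₀]; exact a3
      apply CartesianMonoidalCategory.hom_ext _ _ a1
      apply CartesianMonoidalCategory.hom_ext
      · simpa only [Category.assoc, wa] using a4
      · simpa only [Category.assoc, wt] using h2
  have hEζ : E ζ := E.of_isPullback hsq.flip hEp
  have hEmp : E (pullback.map (q₁ ≫ qb) (q₁ ≫ qb) r (q₁ ≫ qb) q (𝟙 G) (𝟙 Qb)
      ((Category.comp_id _).trans hr.symm)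
      ((Category.comp_id _).trans (Category.id_comp _).symm)) :=
    E.pullbackMap hEq (hE.of_iso (𝟙 G)) hr.symm (Category.id_comp _).symm
  have hEf : E (G ◁ (fst G₀ G' ≫ qa)) :=
    E_whiskerLeft hE G _ (E.comp_mem _ _ (E_fst hE G₀ G' hEG') hEqa)
  have hfψ : (G ◁ (fst G₀ G' ≫ qa)) ≫ ψ = ζ ≫ pullback.map (q₁ ≫ qb) (q₁ ≫ qb) r (q₁ ≫ qb)
      q (𝟙 G) (𝟙 Qb) ((Category.comp_id _).trans hr.symm)
      ((Category.comp_id _).trans (Category.id_comp _).symm) := by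
    apply pullback.hom_ext
    · simp only [Category.assoc, hψ1, pullback.lift_fst]
      rw [reassoc_of% hζ1, MonoidalCategory.whiskerLeft_comp, Category.assoc, hψ']
      have h1 := hζ₁pt (𝟙 (G ⊗ (G₀ ⊗ G')))
      simp only [Category.id_comp] at h1
      rw [h1, quot_comm i' q hq]
      show (G ◁ fst G₀ G') ≫ (fst G G₀ * (snd G G₀ ≫ i₀)) ≫ q = _
      rw [← Category.assoc, MonObj.comp_mul, whiskerLeft_fst, whiskerLeft_snd_assoc]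
      simp only [Category.assoc, wg, wa]
    · simp only [Category.assoc, hψ2, pullback.lift_snd, whiskerLeft_fst]
      rw [reassoc_of% hζ2, Category.comp_id]
  have hEψ : E ψ := by
    refine hE.cancel _ ψ hEf ?_
    rw [hfψ]
    exact E.comp_mem _ _ hEζ hEmp
  haveI : IsIso ψ := hE.iso ψ hEψ hmono
  exact ⟨r, ψ', hr, IsPullback.of_iso_pullback ⟨hcomm⟩ (asIso ψ) hψ1 hψ2⟩

end Fib

end Groth.Agent.Helper7.ThirdIso
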