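import Mathlib

/-!
# Flat base change and flat descent for "contractions" `O_S(U) ≅ O_X(f⁻¹ U)` (helper7)
-/

set_option autoImplicit false
set_option linter.style.haveILetI false
universe u
open CategoryTheory CategoryTheory.Limits AlgebraicGeometry TopologicalSpace Opposite

namespace Groth.Agent.Helper7.TowerB

theorem isIso_of_isPushout_of_faithfullyFlat {A B C D : CommRingCat.{u}} {φ : A ⟶ B} {γ : A ⟶ C}
    {β : B ⟶ D} {ψ : C ⟶ D} (sq : IsPushout φ γ β ψ) [Flat (Spec.map γ)]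
    [Surjective (Spec.map γ)] [IsIso ψ] : IsIso φ := by
  have h1 : IsPullback ψ.op β.op γ.op φ.op := sq.op
  have h2 : IsPullback (Spec.map ψ) (Spec.map β) (Spec.map γ) (Spec.map φ) :=
    h1.map Scheme.Spec
  have h3 : IsIso (Spec.map φ) :=
    MorphismProperty.of_isPullback_of_descendsAlong (P := MorphismProperty.isomorphisms Scheme.{u})
      (Q := @Surjective ⊓ @Flat ⊓ @QuasiCompact) h2
      ⟨⟨inferInstance, inferInstance⟩, inferInstance⟩ (inferInstanceAs (IsIso (Spec.map ψ)))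
  have h4 : IsIso φ.op := by
    have : IsIso (Scheme.Spec.map φ.op) := h3
    exact isIso_of_reflects_iso φ.op Scheme.Spec
  exact isIso_of_op φ

section

variable {X Y S T : Scheme.{u}} {f : T ⟶ S} {g : Y ⟶ X} {iX : X ⟶ S} {iY : Y ⟶ T}

theorem preimage_le (H : IsPullback g iY iX f) {US : S.Opens} {UT : T.Opens}
    (hUST : UT ≤ f ⁻¹ᵁ US) : iY ⁻¹ᵁ UT ≤ g ⁻¹ᵁ (iX ⁻¹ᵁ US) := by
  intro y hy
  have h1 : f.base (iY.base y) ∈ US := hUST hy
  show iX.base (g.base y) ∈ US
  have h2 : iX.base (g.base y) = f.base (iY.base y) := by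
    rw [← Scheme.Hom.comp_apply, ← Scheme.Hom.comp_apply, H.w]
  rw [h2]; exact h1

/-- flat base change for sections: the pushout square -/
theorem isPushout_sections (H : IsPullback g iY iX f) [Flat f] [QuasiCompact iX]
    [QuasiSeparated iX] {US : S.Opens} {UT : T.Opens} (hUS : IsAffineOpen US)
    (hUT : IsAffineOpen UT) (hUST : UT ≤ f ⁻¹ᵁ US) :
    IsPushout (iX.app US) (f.appLE US UT hUST)
      (g.appLE (iX ⁻¹ᵁ US) (iY ⁻¹ᵁ UT) (preimage_le H hUST)) (iY.app UT) := by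
  have hUY : iY ⁻¹ᵁ UT = g ⁻¹ᵁ (iX ⁻¹ᵁ US) ⊓ iY ⁻¹ᵁ UT :=
    (inf_eq_right.mpr (preimage_le H hUST)).symm
  have h := isIso_pushoutSection_of_isQuasiSeparated_of_flat_right H hUST
    (le_refl (iX ⁻¹ᵁ US)) hUY hUS hUT (iX.isCompact_preimage hUS.isCompact)
    (iX.isQuasiSeparated_preimage hUS.isQuasiSeparated)
  have h2 := (isIso_pushoutSection_iff H hUST (le_refl (iX ⁻¹ᵁ US)) hUY).mp h
  rw [Scheme.Hom.app_eq_appLE, Scheme.Hom.app_eq_appLE]
  exact h2

/-- base change of a contraction along a flat morphism, on affine opens -/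
theorem isIso_app_baseChange (H : IsPullback g iY iX f) [Flat f] [QuasiCompact iX]
    [QuasiSeparated iX] {US : S.Opens} {UT : T.Opens} (hUS : IsAffineOpen US)
    (hUT : IsAffineOpen UT) (hUST : UT ≤ f ⁻¹ᵁ US) (h : IsIso (iX.app US)) :
    IsIso (iY.app UT) :=
  (isPushout_sections H hUS hUT hUST).isIso_inr_of_isIso

end

section

variable {S T : Scheme.{u}} {f : T ⟶ S}

theorem surjective_SpecMap_appLE {US : S.Opens} {UT : T.Opens} (hUS : IsAffineOpen US)
    (hUT : IsAffineOpen UT) (hUST : UT ≤ f ⁻¹ᵁ US)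
    (hsurj : ∀ s ∈ US, ∃ t ∈ UT, f.base t = s) :
    Surjective (Spec.map (f.appLE US UT hUST)) := by
  refine ⟨fun p => ?_⟩
  have hp : hUS.fromSpec.base p ∈ US := by
    have : hUS.fromSpec.base p ∈ Set.range hUS.fromSpec.base := ⟨p, rfl⟩
    rw [hUS.range_fromSpec] at this
    exact this
  obtain ⟨t, ht, hft⟩ := hsurj _ hp
  have ht' : t ∈ Set.range hUT.fromSpec.base := by
    rw [hUT.range_fromSpec]; exact ht
  obtain ⟨p', hp'⟩ := ht'
  refine ⟨p', ?_⟩
  apply hUS.fromSpec.isOpenEmbedding.injective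
  rw [← Scheme.Hom.comp_apply, hUS.SpecMap_appLE_fromSpec f hUT hUST, Scheme.Hom.comp_apply, hp',
    hft]

end

section

variable {X Y S T : Scheme.{u}} {f : T ⟶ S} {g : Y ⟶ X} {iX : X ⟶ S} {iY : Y ⟶ T}

/-- flat descent of a contraction, on affine opens -/
theorem isIso_app_descend (H : IsPullback g iY iX f) [Flat f] [QuasiCompact iX]
    [QuasiSeparated iX] {US : S.Opens} {UT : T.Opens} (hUS : IsAffineOpen US)
    (hUT : IsAffineOpen UT) (hUST : UT ≤ f ⁻¹ᵁ US)
    (hsurj : ∀ s ∈ US, ∃ t ∈ UT, f.base t = s) (h : IsIso (iY.app UT)) :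
    IsIso (iX.app US) := by
  haveI : Flat (Spec.map (f.appLE US UT hUST)) :=
    Flat.SpecMap_iff.mpr (f.flat_appLE hUS hUT hUST)
  haveI : Surjective (Spec.map (f.appLE US UT hUST)) :=
    surjective_SpecMap_appLE hUS hUT hUST hsurj
  exact isIso_of_isPushout_of_faithfullyFlat (isPushout_sections H hUS hUT hUST)

end

section

variable {S T : Scheme.{u}} (f : T ⟶ S)

/-- affine opens of the target which are the image of an affine open of the source -/
def coveredAffine : Set S.Opens :=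
  {W | IsAffineOpen W ∧ ∃ V : T.Opens, IsAffineOpen V ∧ ∃ _ : V ≤ f ⁻¹ᵁ W,
    ∀ s ∈ W, ∃ t ∈ V, f.base t = s}

theorem isBasis_coveredAffine [Surjective f] [UniversallyOpen f] :
    Opens.IsBasis (coveredAffine f) := by
  rw [Opens.isBasis_iff_nbhd]
  intro N x' hx'
  obtain ⟨U, hU, hxU, hUN⟩ := Opens.isBasis_iff_nbhd.mp S.isBasis_affineOpens hx'
  obtain ⟨x, rfl⟩ := f.surjective x'
  have hxU' : x ∈ f ⁻¹ᵁ U := hxU
  obtain ⟨V, hV, hxV, hVU⟩ := Opens.isBasis_iff_nbhd.mp T.isBasis_affineOpens hxU'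
  let I : S.Opens := ⟨f.base '' (V : Set T), f.isOpenMap _ V.2⟩
  have hxI : f.base x ∈ I := ⟨x, hxV, rfl⟩
  obtain ⟨s, hsI, hxs⟩ := IsAffineOpen.exists_basicOpen_le hU ⟨f.base x, hxI⟩ hxU
  refine ⟨S.basicOpen s, ⟨hU.basicOpen s, T.basicOpen (f.appLE U V hVU s), hV.basicOpen _, ?_, ?_⟩,
    hxs, (S.basicOpen_le s).trans hUN⟩
  · rw [Scheme.basicOpen_appLE]; exact inf_le_right
  · intro y hy
    obtain ⟨t, ht, rfl⟩ := hsI hy
    refine ⟨t, ?_, rfl⟩
    rw [Scheme.basicOpen_appLE]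
    exact ⟨ht, hy⟩

end

/-- If `f.app U` is an isomorphism for all `U` in a basis, then for all opens. -/
theorem isIso_app_of_basis {X Y : Scheme.{u}} (f : X ⟶ Y) (B : Set Y.Opens)
    (hB : Opens.IsBasis B) (h : ∀ U ∈ B, IsIso (f.app U)) (V : Y.Opens) : IsIso (f.app V) := by
  let φ : Y.sheaf ⟶ (TopCat.Sheaf.pushforward CommRingCat f.base).obj X.sheaf := ⟨f.c⟩
  have hB' : Opens.IsBasis (Set.range (fun U : B => (U.1 : Y.Opens))) := by
    have : Set.range (fun U : B => (U.1 : Y.Opens)) = B := Subtype.range_coe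
    rw [this]
    exact hB
  have hφ : IsIso φ :=
    TopCat.Sheaf.isIso_iff_isIso_basis (B := fun U : B => (U.1 : Y.Opens)) hB'
      (fun U => h U.1 U.2)
  have h2 : IsIso ((TopCat.Sheaf.forget CommRingCat Y.toTopCat).map φ) := inferInstance
  have h3 : IsIso (((TopCat.Sheaf.forget CommRingCat Y.toTopCat).map φ).app (op V)) :=
    inferInstance
  exact h3

/-- flat descent of contractions along an fppf covering -/
theorem isIso_app_of_cover {X Y S T : Scheme.{u}} {f : T ⟶ S} {g : Y ⟶ X} {iX : X ⟶ S}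
    {iY : Y ⟶ T} (H : IsPullback g iY iX f) [Flat f] [Surjective f] [UniversallyOpen f]
    [QuasiCompact iX] [QuasiSeparated iX]
    (h : ∀ V : T.Opens, IsAffineOpen V → IsIso (iY.app V)) (U : S.Opens) : IsIso (iX.app U) := by
  refine isIso_app_of_basis iX (coveredAffine f) (isBasis_coveredAffine f) ?_ U
  rintro W ⟨hW, V, hV, hVW, hsurj⟩
  exact isIso_app_descend H hW hV hVW hsurj (h V hV)

end Groth.Agent.Helper7.TowerB
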