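import Mathlib
import Groth.Agent.Lib.Helper12.Git61C
import Groth.Agent.Lib.Helper7.TowerB
import Groth.Agent.Lib.Helper7.FibQuotA

/-!
# Factorization through a contraction, and flat base change of contractions (helper7)
-/

set_option autoImplicit false
set_option linter.style.haveILetI false
universe u
open CategoryTheory CategoryTheory.Limits AlgebraicGeometry TopologicalSpace Opposite

namespace Groth.Agent.Helper7.FacA

/-- Global factorization: a closed morphism `ξ` with `O_S ≅ ξ_* O_X`; any morphism constant on the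
fibres of `ξ` factors through `ξ`. -/
theorem exists_factor {X S Y : Scheme.{u}} (ξ : X ⟶ S) (hcl : IsClosedMap ξ.base)
    (h0 : ∀ U : S.Opens, Function.Bijective (ξ.app U).hom) (f : X ⟶ Y)
    (hc : ∀ x x' : X, ξ.base x = ξ.base x' → f.base x = f.base x') :
    ∃ r : S ⟶ Y, ξ ≫ r = f := by
  have h0i : ∀ U, Function.Injective (ξ.app U).hom := fun U => (h0 U).injective
  have hsurj := Groth.Agent.Helper12.Git61.surjective_of_app_injective ξ hcl h0i
  have hloc : ∀ s : S, ∃ (W : S.Opens) (r : (W : Scheme.{u}) ⟶ Y),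
      s ∈ W ∧ (ξ ∣_ W) ≫ r = (ξ ⁻¹ᵁ W).ι ≫ f := fun s => by
    obtain ⟨x₀, hx₀⟩ := hsurj s
    exact Groth.Agent.Helper12.Git61.exists_nhd_factor ξ hcl h0 f s
      ⟨f.base x₀, fun x hx => hc x x₀ (hx.trans hx₀.symm)⟩
  choose Wf rf hWf hrf using hloc
  obtain ⟨rU, hfac⟩ := Groth.Agent.Helper12.Git61.exists_glue_factor ξ hsurj h0i f Wf rf hrf
  have htop : (⨆ s, Wf s : S.Opens) = ⊤ := by
    rw [eq_top_iff]; intro s _; exact Opens.mem_iSup.mpr ⟨s, hWf s⟩
  let τ' : S ⟶ ((⨆ s, Wf s : S.Opens) : Scheme.{u}) :=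
    IsOpenImmersion.lift (⨆ s, Wf s).ι (𝟙 S) (by rw [Scheme.Opens.range_ι, htop]; simp)
  have hτ' : τ' ≫ (⨆ s, Wf s).ι = 𝟙 S := IsOpenImmersion.lift_fac _ _ _
  refine ⟨τ' ≫ rU, ?_⟩
  have := Groth.Agent.Helper12.Git61.factor_of_lift ξ f _ rU hfac (𝟙 X) ξ τ'
    (by rw [hτ', Category.id_comp, Category.comp_id])
  rw [this, Category.id_comp]

/-- the basis of affine opens of `T` lying over an affine open of `S` -/
def overAffine {S T : Scheme.{u}} (f : T ⟶ S) : Set T.Opens :=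
  {V | IsAffineOpen V ∧ ∃ W : S.Opens, IsAffineOpen W ∧ V ≤ f ⁻¹ᵁ W}

theorem isBasis_overAffine {S T : Scheme.{u}} (f : T ⟶ S) : Opens.IsBasis (overAffine f) := by
  rw [Opens.isBasis_iff_nbhd]
  intro N x hx
  obtain ⟨U, hU, hxU, -⟩ := Opens.isBasis_iff_nbhd.mp S.isBasis_affineOpens
    (show f.base x ∈ (⊤ : S.Opens) from trivial)
  have hxU' : x ∈ f ⁻¹ᵁ U ⊓ N := ⟨hxU, hx⟩
  obtain ⟨V, hV, hxV, hVU⟩ := Opens.isBasis_iff_nbhd.mp T.isBasis_affineOpens hxU'
  exact ⟨V, ⟨hV, U, hU, hVU.trans inf_le_left⟩, hxV, hVU.trans inf_le_right⟩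

/-- flat base change of a contraction is a contraction -/
theorem isIso_app_of_isPullback {X Y S T : Scheme.{u}} {f : T ⟶ S} {g : Y ⟶ X} {iX : X ⟶ S}
    {iY : Y ⟶ T} (H : IsPullback g iY iX f) [Flat f] [QuasiCompact iX] [QuasiSeparated iX]
    (h : ∀ U : S.Opens, IsIso (iX.app U)) (V : T.Opens) : IsIso (iY.app V) := by
  refine Groth.Agent.Helper7.TowerB.isIso_app_of_basis iY (overAffine f) (isBasis_overAffine f) ?_ V
  rintro V' ⟨hV', W, hW, hVW⟩
  exact Groth.Agent.Helper7.TowerB.isIso_app_baseChange H hW hV' hVW (h W)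

end Groth.Agent.Helper7.FacA
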