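import Mathlib
import Groth.Agent.Lib.Helper7.FacA

/-!
# Contractions over a field: stability under products, factorization (helper7)
-/

set_option autoImplicit false
set_option linter.style.haveILetI false
universe u
open CategoryTheory CategoryTheory.Limits AlgebraicGeometry TopologicalSpace Opposite
  MonoidalCategory CartesianMonoidalCategory

namespace Groth.Agent.Helper7.FacA

variable {k : Type u} [Field k]

theorem whiskerLeft_contraction (T : Over (Spec (CommRingCat.of k)))
    {X Y : Over (Spec (CommRingCat.of k))}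
    (f : X ⟶ Y) [IsProper f.left] (hf : ∀ U : Y.left.Opens, IsIso (f.left.app U)) :
    IsProper (T ◁ f).left ∧ ∀ V : (T ⊗ Y).left.Opens, IsIso ((T ◁ f).left.app V) := by
  have sq : IsPullback (T ◁ f).left (snd T X).left (snd T Y).left f.left :=
    (Groth.Agent.Helper7.ThirdIso.isPullback_whiskerLeft T f).map (Over.forget _)
  have sq2 : IsPullback (fst T Y).left (snd T Y).left (toUnit T).left (toUnit Y).left :=
    (Groth.Agent.Helper7.ThirdIso.isPullback_fst_snd_toUnit T Y).map (Over.forget _)
  haveI hT : Flat T.hom := inferInstance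
  haveI : Flat (toUnit T).left := hT
  haveI : Flat (snd T Y).left := MorphismProperty.of_isPullback (P := @Flat) sq2 inferInstance
  haveI : IsProper (T ◁ f).left :=
    MorphismProperty.of_isPullback (P := @IsProper) sq.flip inferInstance
  exact ⟨inferInstance, fun V => isIso_app_of_isPullback sq.flip hf V⟩

theorem surjective_whiskerLeft (T : Over (Spec (CommRingCat.of k)))
    {X Y : Over (Spec (CommRingCat.of k))}
    (f : X ⟶ Y) [IsProper f.left] (hf : ∀ U : Y.left.Opens, IsIso (f.left.app U)) :
    Function.Surjective (T ◁ f).left.base := by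
  obtain ⟨h1, h2⟩ := whiskerLeft_contraction T f hf
  exact Groth.Agent.Helper12.Git61.surjective_of_app_injective _ (T ◁ f).left.isClosedMap
    (fun U => by haveI := h2 U; exact (ConcreteCategory.bijective_of_isIso _).1)

theorem epi_whiskerLeft_left (T : Over (Spec (CommRingCat.of k)))
    {X Y : Over (Spec (CommRingCat.of k))}
    (f : X ⟶ Y) [IsProper f.left] (hf : ∀ U : Y.left.Opens, IsIso (f.left.app U)) :
    Epi (T ◁ f).left := by
  obtain ⟨h1, h2⟩ := whiskerLeft_contraction T f hf
  exact Groth.Agent.Helper12.Git61.epi_of_app_injective _ (surjective_whiskerLeft T f hf)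
    (fun U => by haveI := h2 U; exact (ConcreteCategory.bijective_of_isIso _).1)

theorem epi_whiskerLeft (T : Over (Spec (CommRingCat.of k)))
    {X Y : Over (Spec (CommRingCat.of k))}
    (f : X ⟶ Y) [IsProper f.left] (hf : ∀ U : Y.left.Opens, IsIso (f.left.app U)) :
    Epi (T ◁ f) := by
  haveI := epi_whiskerLeft_left T f hf
  exact (Over.forget _).epi_of_epi_map ‹Epi (T ◁ f).left›

theorem exists_factor_whiskerLeft (T : Over (Spec (CommRingCat.of k)))
    {X Y Z : Over (Spec (CommRingCat.of k))}
    (f : X ⟶ Y) [IsProper f.left] (hf : ∀ U : Y.left.Opens, IsIso (f.left.app U))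
    (φ : T ⊗ X ⟶ Z)
    (hc : ∀ p q : ↥(T ⊗ X).left, (T ◁ f).left.base p = (T ◁ f).left.base q →
      φ.left.base p = φ.left.base q) :
    ∃ ψ : T ⊗ Y ⟶ Z, (T ◁ f) ≫ ψ = φ := by
  obtain ⟨h1, h2⟩ := whiskerLeft_contraction T f hf
  obtain ⟨r, hr⟩ := exists_factor (T ◁ f).left (T ◁ f).left.isClosedMap
    (fun U => by haveI := h2 U; exact ConcreteCategory.bijective_of_isIso _) φ.left hc
  haveI := epi_whiskerLeft_left T f hf
  have hw : r ≫ Z.hom = (T ⊗ Y).hom := by
    rw [← cancel_epi (T ◁ f).left, ← Category.assoc, hr, Over.w, Over.w]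
  refine ⟨Over.homMk r hw, ?_⟩
  ext
  exact hr

end Groth.Agent.Helper7.FacA
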