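import Mathlib

/-!
# Rational simplicial subcones (helper7)

Pure linear algebra over `ℚ ⊂ ℝ` used for the common-subcone lemma of formal fans: a nonnegative real
solution of an integral homogeneous linear system is a nonnegative combination of linearly independent
nonnegative integral solutions.
-/

set_option autoImplicit false
set_option linter.unusedSectionVars false
set_option linter.style.haveILetI false

namespace Groth.Agent.Helper7.FanCone

open Finset

/-- a common denominator of finitely many rationals -/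
theorem exists_common_den {κ : Type*} [Fintype κ] (x : κ → ℚ) :
    ∃ N : ℕ, 0 < N ∧ ∀ i, ∃ z : ℤ, (z : ℚ) = (N : ℚ) * x i := by
  classical
  refine ⟨∏ i, (x i).den, Finset.prod_pos (fun i _ => (x i).den_pos), fun i => ?_⟩
  obtain ⟨M, hM⟩ : (x i).den ∣ ∏ i, (x i).den := Finset.dvd_prod_of_mem _ (Finset.mem_univ i)
  refine ⟨(M : ℤ) * (x i).num, ?_⟩
  rw [hM]
  push_cast
  have := Rat.mul_den_eq_num (x i)
  rw [← this]
  ring

/-- **Lemma B**: a positive real vector lies in the nonnegative cone of linearly independent rational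
vectors arbitrarily close to it. -/
theorem lemmaB {κ : Type*} [Fintype κ] [DecidableEq κ] (r : κ → ℝ) (hr : ∀ j, 0 < r j) (δ : ℝ)
    (hδ : 0 < δ) :
    ∃ (s : κ → κ → ℚ) (t : κ → ℝ), (∀ l j, |(s l j : ℝ) - r j| < δ) ∧ (∀ l, 0 ≤ t l) ∧
      (∀ j, r j = ∑ l, t l * (s l j : ℝ)) ∧
      (∀ c : κ → ℚ, (∀ j, ∑ l, c l * s l j = 0) → c = 0) := by
  set D : ℝ := (Fintype.card κ : ℝ) + 1 with hD
  have hDpos : 0 < D := by positivity
  have hb : ∀ j, ∃ b : ℚ, r j < b ∧ (b : ℝ) < r j + δ := fun j => exists_rat_btwn (by linarith)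
  choose b hb1 hb2 using hb
  have ha : ∀ j, ∃ a : ℚ, max (max 0 (r j - δ)) (r j - (b j - r j) / D) < a ∧ (a : ℝ) < r j :=
    fun j => exists_rat_btwn (by
      have : 0 < ((b j : ℝ) - r j) / D := div_pos (by linarith [hb1 j]) hDpos
      simp only [max_lt_iff]
      exact ⟨⟨hr j, by linarith⟩, by linarith⟩)
  choose a ha1 ha2 using ha
  have ha0 : ∀ j, (0 : ℝ) < a j := fun j =>
    lt_of_le_of_lt (le_trans (le_max_left _ _) (le_max_left _ _)) (ha1 j)
  have haδ : ∀ j, r j - δ < a j := fun j =>
    lt_of_le_of_lt (le_trans (le_max_right _ _) (le_max_left _ _)) (ha1 j)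
  have haD : ∀ j, r j - ((b j : ℝ) - r j) / D < a j := fun j =>
    lt_of_le_of_lt (le_max_right _ _) (ha1 j)
  set β : κ → ℚ := fun j => b j - a j with hβdef
  have hβ : ∀ j, (0 : ℝ) < β j := by
    intro j
    have : ((β j : ℚ) : ℝ) = (b j : ℝ) - a j := by simp [hβdef]
    rw [this]; linarith [ha2 j, hb1 j]
  have hβq : ∀ j, (0 : ℚ) < β j := fun j => by exact_mod_cast hβ j
  have ha0q : ∀ j, (0 : ℚ) < a j := fun j => by exact_mod_cast ha0 j
  have hβeq : ∀ j, ((β j : ℚ) : ℝ) = (b j : ℝ) - a j := fun j => by simp [hβdef]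
  -- the constants
  set A : ℝ := ∑ j, (a j : ℝ) / β j with hA
  set R : ℝ := ∑ j, r j / β j with hR
  have hA0 : 0 ≤ A := Finset.sum_nonneg (fun j _ => (div_pos (ha0 j) (hβ j)).le)
  have hR0 : 0 ≤ R := Finset.sum_nonneg (fun j _ => (div_pos (hr j) (hβ j)).le)
  have h1A : 0 < 1 + A := by linarith
  set T : ℝ := R / (1 + A) with hT
  have hT0 : 0 ≤ T := div_nonneg hR0 h1A.le
  have hTA : T * (1 + A) = R := by rw [hT]; field_simp
  -- `T ≤ 1`
  have hterm : ∀ j, (r j - a j) / β j ≤ 1 / D := by
    intro j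
    rw [div_le_div_iff₀ (hβ j) hDpos, one_mul]
    have h1 := haD j
    have h2 : r j - (a j : ℝ) < ((b j : ℝ) - r j) / D := by linarith
    have h3 : (r j - (a j : ℝ)) * D < (b j : ℝ) - r j := by
      rwa [lt_div_iff₀ hDpos] at h2
    rw [hβeq j]
    linarith [ha2 j]
  have hRA : R - A ≤ 1 := by
    have h1 : R - A = ∑ j, (r j - a j) / β j := by
      rw [hR, hA, ← Finset.sum_sub_distrib]
      exact Finset.sum_congr rfl (fun j _ => by rw [sub_div])
    rw [h1]
    calc ∑ j, (r j - a j) / β j ≤ ∑ _j : κ, 1 / D := Finset.sum_le_sum (fun j _ => hterm j)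
      _ = (Fintype.card κ : ℝ) * (1 / D) := by
          rw [Finset.sum_const, Finset.card_univ, nsmul_eq_mul]
      _ ≤ 1 := by
          rw [mul_one_div, div_le_one hDpos, hD]
          linarith
  have hT1 : T ≤ 1 := by
    rw [hT, div_le_one h1A]; linarith
  -- the vectors
  refine ⟨fun l j => a j + if l = j then β l else 0, fun l => (r l - T * a l) / β l, ?_, ?_, ?_, ?_⟩
  · intro l j
    by_cases hlj : l = j
    · subst hlj
      simp only [if_true]
      have : (((a l + β l : ℚ)) : ℝ) = b l := by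
        push_cast; rw [hβeq l]; ring
      rw [this, abs_lt]
      constructor <;> linarith [hb1 l, hb2 l]
    · simp only [if_neg hlj, add_zero]
      rw [abs_lt]
      constructor <;> linarith [ha2 j, haδ j]
  · intro l
    apply div_nonneg _ (hβ l).le
    have : T * a l ≤ 1 * a l := mul_le_mul_of_nonneg_right hT1 (ha0 l).le
    linarith [ha2 l]
  · intro j
    have hsum : ∑ l, (r l - T * a l) / β l = T := by
      have : ∑ l, (r l - T * a l) / β l = R - T * A := by
        rw [hR, hA, Finset.mul_sum, ← Finset.sum_sub_distrib]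
        exact Finset.sum_congr rfl (fun l _ => by rw [sub_div, mul_div_assoc])
      rw [this]; linarith
    have h2 : ∀ l, (r l - T * a l) / β l * (((a j + if l = j then β l else 0 : ℚ)) : ℝ) =
        (r l - T * a l) / β l * a j + if l = j then (r l - T * a l) else 0 := by
      intro l
      by_cases hlj : l = j
      · simp only [if_pos hlj]
        push_cast
        rw [mul_add, div_mul_cancel₀ _ (hβ l).ne']
      · simp only [if_neg hlj]
        push_cast
        ring
    rw [Finset.sum_congr rfl (fun l _ => h2 l), Finset.sum_add_distrib, ← Finset.sum_mul, hsum,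
      Finset.sum_ite_eq' Finset.univ j]
    simp
  · intro c hc
    set C : ℚ := ∑ l, c l with hC
    have h1 : ∀ j, C * a j + c j * β j = 0 := by
      intro j
      have := hc j
      have h2 : ∀ l, c l * (a j + if l = j then β l else 0) =
          c l * a j + if l = j then c l * β l else 0 := by
        intro l
        by_cases hlj : l = j
        · simp only [if_pos hlj]; ring
        · simp only [if_neg hlj]; ring
      rw [Finset.sum_congr rfl (fun l _ => h2 l), Finset.sum_add_distrib, ← Finset.sum_mul,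
        Finset.sum_ite_eq' Finset.univ j] at this
      simpa using this
    have h2 : ∀ j, c j = -C * (a j / β j) := by
      intro j
      have := h1 j
      field_simp [(hβq j).ne']
      linarith
    have h3 : C * (1 + ∑ j, a j / β j) = 0 := by
      have : C = ∑ j, -C * (a j / β j) := by
        conv_lhs => rw [hC]
        exact Finset.sum_congr rfl (fun j _ => h2 j)
      rw [← Finset.mul_sum] at this
      linarith
    have h4 : (0 : ℚ) < 1 + ∑ j, a j / β j := by
      have : (0 : ℚ) ≤ ∑ j, a j / β j :=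
        Finset.sum_nonneg (fun j _ => (div_pos (ha0q j) (hβq j)).le)
      linarith
    have hC0 : C = 0 := by
      rcases mul_eq_zero.mp h3 with h | h
      · exact h
      · exact absurd h h4.ne'
    funext j
    rw [h2 j, hC0]
    simp

/-- a positive lower bound for the positive members of a finite family -/
theorem exists_pos_lt {ι : Type*} [Fintype ι] (p : ι → ℝ) :
    ∃ ε : ℝ, 0 < ε ∧ ∀ i, 0 < p i → ε < p i := by
  classical
  have key : ∀ s : Finset ι, ∃ ε : ℝ, 0 < ε ∧ ∀ i ∈ s, 0 < p i → ε < p i := by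
    intro s
    induction s using Finset.induction_on with
    | empty => exact ⟨1, one_pos, fun i hi => absurd hi (Finset.notMem_empty i)⟩
    | insert i₀ s _ ih =>
      obtain ⟨ε, hε, h⟩ := ih
      by_cases h0 : 0 < p i₀
      · refine ⟨min ε (p i₀ / 2), lt_min hε (by linarith), fun i hi hpi => ?_⟩
        rcases Finset.mem_insert.mp hi with rfl | hi
        · exact lt_of_le_of_lt (min_le_right _ _) (by linarith)
        · exact lt_of_le_of_lt (min_le_left _ _) (h i hi hpi)
      · refine ⟨ε, hε, fun i hi hpi => ?_⟩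
        rcases Finset.mem_insert.mp hi with rfl | hi
        · exact absurd hpi h0
        · exact h i hi hpi
  obtain ⟨ε, hε, h⟩ := key Finset.univ
  exact ⟨ε, hε, fun i => h i (Finset.mem_univ i)⟩

/-- **Lemma A**: a nonnegative real solution of an integral homogeneous linear system is a nonnegative
combination of linearly independent nonnegative integral solutions. -/
theorem lemmaA {ι ν : Type} [Fintype ι] [Fintype ν] (T : ν → ι → ℤ) (p : ι → ℝ)
    (hp0 : ∀ i, 0 ≤ p i) (hT : ∀ a, ∑ i, (T a i : ℝ) * p i = 0) :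
    ∃ (κ : Type) (_ : Fintype κ) (w : κ → ι → ℤ) (t : κ → ℝ), (∀ l i, 0 ≤ w l i) ∧
      (∀ l a, ∑ i, T a i * w l i = 0) ∧
      (∀ c : κ → ℤ, (∀ i, ∑ l, c l * w l i = 0) → c = 0) ∧ (∀ l, 0 ≤ t l) ∧
      (∀ i, p i = ∑ l, t l * (w l i : ℝ)) := by
  classical
  obtain ⟨κ, a, ha_inj, hspan, hli⟩ := exists_linearIndependent' ℚ p
  haveI : Finite κ := Finite.of_injective a ha_inj
  haveI : Fintype κ := Fintype.ofFinite κ
  set r : κ → ℝ := p ∘ a with hr
  have hrpos : ∀ j, 0 < r j := fun j => lt_of_le_of_ne (hp0 _) (Ne.symm (hli.ne_zero j))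
  have hmem : ∀ i, p i ∈ Submodule.span ℚ (Set.range r) := by
    intro i; rw [hspan]; exact Submodule.subset_span ⟨i, rfl⟩
  have hq : ∀ i, ∃ q : κ → ℚ, ∑ j, q j • r j = p i :=
    fun i => (Submodule.mem_span_range_iff_exists_fun ℚ).mp (hmem i)
  choose q hq using hq
  have hq' : ∀ i, ∑ j, (q i j : ℝ) * r j = p i := by
    intro i
    rw [← hq i]
    exact Finset.sum_congr rfl (fun j _ => (Rat.smul_def _ _).symm)
  have hind : ∀ c : κ → ℚ, ∑ j, (c j : ℝ) * r j = 0 → c = 0 := by
    intro c hc
    funext j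
    refine Fintype.linearIndependent_iff.mp hli c ?_ j
    rw [← hc]
    exact Finset.sum_congr rfl (fun j _ => Rat.smul_def _ _)
  have hqa : ∀ j j', q (a j) j' = if j' = j then 1 else 0 := by
    intro j
    have h1 : ∑ j', (((q (a j) j' - if j' = j then 1 else 0 : ℚ)) : ℝ) * r j' = 0 := by
      have h2 : ∀ j', (((q (a j) j' - if j' = j then 1 else 0 : ℚ)) : ℝ) * r j' =
          (q (a j) j' : ℝ) * r j' - if j' = j then r j' else 0 := by
        intro j'
        by_cases h : j' = j
        · simp only [if_pos h]; push_cast; ring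
        · simp only [if_neg h]; push_cast; ring
      rw [Finset.sum_congr rfl (fun j' _ => h2 j'), Finset.sum_sub_distrib, hq' (a j),
        Finset.sum_ite_eq' Finset.univ j]
      simp [hr]
    have h3 := hind _ h1
    intro j'
    have := congrFun h3 j'
    simpa [sub_eq_zero] using this
  have hq0 : ∀ i, p i = 0 → ∀ j, q i j = 0 := by
    intro i hi
    have := hind (q i) (by rw [hq' i, hi])
    intro j; exact congrFun this j
  have hTq : ∀ a' j, ∑ i, (T a' i : ℚ) * q i j = 0 := by
    intro a'
    have h1 : ∑ j, (((∑ i, (T a' i : ℚ) * q i j : ℚ)) : ℝ) * r j = 0 := by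
      have h2 : ∀ j, (((∑ i, (T a' i : ℚ) * q i j : ℚ)) : ℝ) * r j =
          ∑ i, (T a' i : ℝ) * ((q i j : ℝ) * r j) := by
        intro j
        push_cast
        rw [Finset.sum_mul]
        exact Finset.sum_congr rfl (fun i _ => by ring)
      rw [Finset.sum_congr rfl (fun j _ => h2 j), Finset.sum_comm]
      rw [← hT a']
      refine Finset.sum_congr rfl (fun i _ => ?_)
      rw [← Finset.mul_sum, hq' i]
    intro j
    exact congrFun (hind _ h1) j
  -- the neighbourhood size
  set Q : ℝ := 1 + ∑ i, ∑ j, |(q i j : ℝ)| with hQ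
  have hQ1 : 1 ≤ Q := by
    have : 0 ≤ ∑ i, ∑ j, |(q i j : ℝ)| :=
      Finset.sum_nonneg (fun i _ => Finset.sum_nonneg (fun j _ => abs_nonneg _))
    linarith
  have hQpos : 0 < Q := by linarith
  obtain ⟨ε, hε, hεp⟩ := exists_pos_lt p
  obtain ⟨s, t, hs_close, ht0, hrt, hs_ind⟩ := lemmaB r hrpos (ε / Q) (div_pos hε hQpos)
  -- the rational vectors
  set W : κ → ι → ℚ := fun l i => ∑ j, q i j * s l j with hW
  have hWreal : ∀ l i, ((W l i : ℚ) : ℝ) = p i + ∑ j, (q i j : ℝ) * ((s l j : ℝ) - r j) := by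
    intro l i
    rw [← hq' i, ← Finset.sum_add_distrib, hW]
    push_cast
    exact Finset.sum_congr rfl (fun j _ => by ring)
  have hWnonneg : ∀ l i, 0 ≤ W l i := by
    intro l i
    rcases (hp0 i).eq_or_lt with h | h
    · have : W l i = 0 := by
        rw [hW]
        exact Finset.sum_eq_zero (fun j _ => by rw [hq0 i h.symm j, zero_mul])
      rw [this]
    · have h1 : |∑ j, (q i j : ℝ) * ((s l j : ℝ) - r j)| ≤ (∑ j, |(q i j : ℝ)|) * (ε / Q) := by
        refine le_trans (Finset.abs_sum_le_sum_abs _ _) ?_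
        rw [Finset.sum_mul]
        refine Finset.sum_le_sum (fun j _ => ?_)
        rw [abs_mul]
        exact mul_le_mul_of_nonneg_left (hs_close l j).le (abs_nonneg _)
      have h2 : (∑ j, |(q i j : ℝ)|) ≤ Q := by
        have h3 : (∑ j, |(q i j : ℝ)|) ≤ ∑ i', ∑ j, |(q i' j : ℝ)| :=
          Finset.single_le_sum (f := fun i' => ∑ j, |(q i' j : ℝ)|)
            (fun i' _ => Finset.sum_nonneg (fun j _ => abs_nonneg _)) (Finset.mem_univ i)
        linarith
      have h4 : (∑ j, |(q i j : ℝ)|) * (ε / Q) ≤ ε := by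
        calc (∑ j, |(q i j : ℝ)|) * (ε / Q) ≤ Q * (ε / Q) :=
              mul_le_mul_of_nonneg_right h2 (div_pos hε hQpos).le
          _ = ε := by field_simp
      have h5 : (0 : ℝ) ≤ ((W l i : ℚ) : ℝ) := by
        rw [hWreal l i]
        have := neg_abs_le (∑ j, (q i j : ℝ) * ((s l j : ℝ) - r j))
        linarith [hεp i h]
      exact_mod_cast h5
  have hWT : ∀ l a', ∑ i, (T a' i : ℚ) * W l i = 0 := by
    intro l a'
    have h1 : ∀ i, (T a' i : ℚ) * W l i = ∑ j, s l j * ((T a' i : ℚ) * q i j) := by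
      intro i
      rw [hW, Finset.mul_sum]
      exact Finset.sum_congr rfl (fun j _ => by ring)
    rw [Finset.sum_congr rfl (fun i _ => h1 i), Finset.sum_comm]
    refine Finset.sum_eq_zero (fun j _ => ?_)
    rw [← Finset.mul_sum, hTq a' j, mul_zero]
  have hWp : ∀ i, p i = ∑ l, t l * ((W l i : ℚ) : ℝ) := by
    intro i
    have h1 : ∀ l, t l * ((W l i : ℚ) : ℝ) = ∑ j, (q i j : ℝ) * (t l * (s l j : ℝ)) := by
      intro l
      rw [hW]
      push_cast
      rw [Finset.mul_sum]
      exact Finset.sum_congr rfl (fun j _ => by ring)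
    rw [Finset.sum_congr rfl (fun l _ => h1 l), Finset.sum_comm, ← hq' i]
    refine Finset.sum_congr rfl (fun j _ => ?_)
    rw [← Finset.mul_sum, ← hrt j]
  have hWind : ∀ c : κ → ℚ, (∀ i, ∑ l, c l * W l i = 0) → c = 0 := by
    intro c hc
    apply hs_ind
    intro j
    have h1 : ∀ l, W l (a j) = s l j := by
      intro l
      rw [hW]
      simp only [hqa j]
      simp [Finset.sum_ite_eq']
    have := hc (a j)
    simpa [h1] using this
  -- clear denominators
  obtain ⟨N, hN, hz⟩ := exists_common_den (fun x : κ × ι => W x.1 x.2)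
  choose z hz using hz
  have hNq : (0 : ℚ) < N := by exact_mod_cast hN
  have hNr : (0 : ℝ) < N := by exact_mod_cast hN
  refine ⟨κ, inferInstance, fun l i => z (l, i), fun l => t l / N, ?_, ?_, ?_, ?_, ?_⟩
  · intro l i
    have : (0 : ℚ) ≤ (z (l, i) : ℚ) := by
      rw [hz (l, i)]
      exact mul_nonneg hNq.le (hWnonneg l i)
    exact_mod_cast this
  · intro l a'
    have : ((∑ i, T a' i * z (l, i) : ℤ) : ℚ) = 0 := by
      push_cast
      have h1 : ∀ i, (T a' i : ℚ) * (z (l, i) : ℚ) = (N : ℚ) * ((T a' i : ℚ) * W l i) := by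
        intro i
        rw [hz (l, i)]
        ring
      rw [Finset.sum_congr rfl (fun i _ => h1 i), ← Finset.mul_sum, hWT l a', mul_zero]
    exact_mod_cast this
  · intro c hc
    have h1 : (fun l => (c l : ℚ)) = 0 := by
      apply hWind
      intro i
      have h2 : ((∑ l, c l * z (l, i) : ℤ) : ℚ) = 0 := by rw [hc i]; simp
      push_cast at h2
      have h3 : ∀ l, (c l : ℚ) * (z (l, i) : ℚ) = (N : ℚ) * ((c l : ℚ) * W l i) := by
        intro l
        rw [hz (l, i)]
        ring
      rw [Finset.sum_congr rfl (fun l _ => h3 l), ← Finset.mul_sum] at h2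
      rcases mul_eq_zero.mp h2 with h | h
      · exact absurd h hNq.ne'
      · exact h
    funext l
    have := congrFun h1 l
    simpa using this
  · intro l
    exact div_nonneg (ht0 l) hNr.le
  · intro i
    rw [hWp i]
    refine Finset.sum_congr rfl (fun l _ => ?_)
    have h1 : ((z (l, i) : ℤ) : ℝ) = (N : ℝ) * ((W l i : ℚ) : ℝ) := by
      have := congrArg (fun x : ℚ => (x : ℝ)) (hz (l, i))
      simpa using this
    rw [h1]
    field_simp

end Groth.Agent.Helper7.FanCone
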