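import Groth.Prelude.Def_W4c6instabfans3FanCvx
import Mathlib
import Groth.Agent.Lib.Helper7.FanCone

/-!
# Formal fans: the common-subcone lemma (helper7)
-/

set_option autoImplicit false
set_option linter.unusedSectionVars false
set_option linter.style.haveILetI false

universe u

open CategoryTheory Opposite Instab
open Instab Instab.Fan

namespace Groth.Agent.Helper7.FanBasic

/-! ### the real matrix action -/

theorem toLin_apply_eq_sum {k n : ICone} (φ : k ⟶ n) (x : Fin k.dim → ℤ) (j : Fin n.dim) :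
    φ.toLin x j = ∑ l, φ.toLin (Pi.single l 1) j * x l := by
  classical
  have hx : x = ∑ l, x l • (Pi.single l (1 : ℤ) : Fin k.dim → ℤ) := by
    funext i
    simp [Finset.sum_apply, Pi.single_apply]
  conv_lhs => rw [hx]
  rw [map_sum, Finset.sum_apply]
  refine Finset.sum_congr rfl (fun l _ => ?_)
  rw [map_smul, Pi.smul_apply, smul_eq_mul, mul_comm]

theorem realMap_id (n : ICone) (v : Fin n.dim → ℝ) : (𝟙 n : n ⟶ n).realMap v = v := by
  classical
  funext j
  unfold ICone.Hom.realMap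
  have : (𝟙 n : n ⟶ n).toLin = LinearMap.id := rfl
  rw [this]
  simp only [LinearMap.id_coe, id_eq]
  rw [Finset.sum_eq_single j]
  · simp
  · intro i _ hij
    simp [Ne.symm hij]
  · intro h; exact absurd (Finset.mem_univ j) h

theorem realMap_comp {k n m : ICone} (φ : k ⟶ n) (ψ : n ⟶ m) (v : Fin k.dim → ℝ) :
    (φ ≫ ψ).realMap v = ψ.realMap (φ.realMap v) := by
  funext j
  unfold ICone.Hom.realMap
  have h1 : (φ ≫ ψ).toLin = ψ.toLin.comp φ.toLin := rfl
  rw [h1]
  simp only [LinearMap.comp_apply]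
  have h2 : ∀ i, ((ψ.toLin (φ.toLin (Pi.single i 1)) j : ℤ) : ℝ) * v i =
      ∑ l, (ψ.toLin (Pi.single l 1) j : ℝ) * ((φ.toLin (Pi.single i 1) l : ℝ) * v i) := by
    intro i
    rw [toLin_apply_eq_sum ψ]
    push_cast
    rw [Finset.sum_mul]
    exact Finset.sum_congr rfl (fun l _ => by ring)
  rw [Finset.sum_congr rfl (fun i _ => h2 i), Finset.sum_comm]
  refine Finset.sum_congr rfl (fun l _ => ?_)
  rw [Finset.mul_sum]

theorem realMap_smul {k n : ICone} (φ : k ⟶ n) (c : ℝ) (v : Fin k.dim → ℝ) :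
    φ.realMap (c • v) = c • φ.realMap v := by
  funext j
  unfold ICone.Hom.realMap
  simp only [Pi.smul_apply, smul_eq_mul, Finset.mul_sum]
  exact Finset.sum_congr rfl (fun i _ => by ring)

theorem realMap_add {k n : ICone} (φ : k ⟶ n) (v w : Fin k.dim → ℝ) :
    φ.realMap (v + w) = φ.realMap v + φ.realMap w := by
  funext j
  unfold ICone.Hom.realMap
  simp only [Pi.add_apply, mul_add, Finset.sum_add_distrib]

theorem toLin_single_nonneg {k n : ICone} (φ : k ⟶ n) (i : Fin k.dim) (j : Fin n.dim) :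
    0 ≤ φ.toLin (Pi.single i 1) j := by
  classical
  refine φ.nonneg _ (fun i' => ?_) j
  by_cases h : i' = i
  · subst h; simp
  · simp [h]

theorem realMap_nonneg {k n : ICone} (φ : k ⟶ n) (v : Fin k.dim → ℝ) (hv : ∀ i, 0 ≤ v i)
    (j : Fin n.dim) : 0 ≤ φ.realMap v j := by
  unfold ICone.Hom.realMap
  refine Finset.sum_nonneg (fun i _ => mul_nonneg ?_ (hv i))
  exact_mod_cast toLin_single_nonneg φ i j

/-! ### gluing -/

variable {F : Fan.{u}}

theorem mk_glue {k n : ICone} (φ : k ⟶ n) (ξ : F.obj (op n)) (v : Orth k) (w : Orth n) (c : ℝ)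
    (hc : 0 < c) (h : w.1 = c • φ.realMap v.1) : P.mk (F.map φ.op ξ) v = P.mk ξ w :=
  Quot.sound (Rel.glue φ ξ v w c hc h)

theorem mk_smul {n : ICone} (ξ : F.obj (op n)) (v w : Orth n) (c : ℝ) (hc : 0 < c)
    (h : w.1 = c • v.1) : P.mk ξ v = P.mk ξ w := by
  have hr := mk_glue (F := F) (𝟙 n) ξ v w c hc (by rw [realMap_id]; exact h)
  have hid : (ConcreteCategory.hom (F.map (𝟙 n).op)) ξ = ξ := by simp
  rw [hid] at hr
  exact hr

/-- the "common sub-cone" relation -/
def Common (F : Fan.{u}) (a b : Pt F) : Prop :=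
  ∃ (k : ICone) (φ₁ : k ⟶ a.1.1) (φ₂ : k ⟶ b.1.1) (y : Orth k) (c₁ c₂ : ℝ),
    F.map φ₁.op a.1.2 = F.map φ₂.op b.1.2 ∧ 0 < c₁ ∧ 0 < c₂ ∧
      a.2.1 = c₁ • φ₁.realMap y.1 ∧ b.2.1 = c₂ • φ₂.realMap y.1

theorem Common.refl (a : Pt F) : Common F a a :=
  ⟨a.1.1, 𝟙 _, 𝟙 _, a.2, 1, 1, rfl, one_pos, one_pos, by rw [realMap_id, one_smul],
    by rw [realMap_id, one_smul]⟩

theorem Common.symm {a b : Pt F} (h : Common F a b) : Common F b a := by
  obtain ⟨k, φ₁, φ₂, y, c₁, c₂, h1, hc₁, hc₂, h2, h3⟩ := h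
  exact ⟨k, φ₂, φ₁, y, c₂, c₁, h1.symm, hc₂, hc₁, h3, h2⟩

theorem common_of_rel {a b : Pt F} (h : Rel F a b) : Common F a b := by
  obtain ⟨φ, ξ, v, w, c, hc, hw⟩ := h
  refine ⟨_, 𝟙 _, φ, v, 1, c, ?_, one_pos, hc, ?_, hw⟩
  · simp
  · rw [realMap_id, one_smul]

theorem mk_eq_of_common {a b : Pt F} (h : Common F a b) :
    (Quot.mk (Rel F) a : P F) = Quot.mk (Rel F) b := by
  obtain ⟨k, φ₁, φ₂, y, c₁, c₂, h1, hc₁, hc₂, h2, h3⟩ := h
  obtain ⟨⟨n₁, σ₁⟩, v₁⟩ := a
  obtain ⟨⟨n₂, σ₂⟩, v₂⟩ := b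
  have e1 : P.mk (F.map φ₁.op σ₁) y = P.mk σ₁ v₁ := mk_glue φ₁ σ₁ y v₁ c₁ hc₁ h2
  have e2 : P.mk (F.map φ₂.op σ₂) y = P.mk σ₂ v₂ := mk_glue φ₂ σ₂ y v₂ c₂ hc₂ h3
  change P.mk σ₁ v₁ = P.mk σ₂ v₂
  rw [← e1, ← e2]
  exact congrArg (fun τ => P.mk τ y) h1

/-! ### the key geometric lemma -/

/-- a cone morphism from a family of nonnegative integral vectors -/
noncomputable def linOf {d m : ℕ} (w : Fin d → Fin m → ℤ) : (Fin d → ℤ) →ₗ[ℤ] (Fin m → ℤ) :=
  Fintype.linearCombination ℤ w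

theorem linOf_apply {d m : ℕ} (w : Fin d → Fin m → ℤ) (c : Fin d → ℤ) (i : Fin m) :
    linOf w c i = ∑ l, c l * w l i := by
  unfold linOf
  rw [Fintype.linearCombination_apply, Finset.sum_apply]
  exact Finset.sum_congr rfl (fun l _ => by rw [Pi.smul_apply, smul_eq_mul])

theorem linOf_single {d m : ℕ} (w : Fin d → Fin m → ℤ) (l : Fin d) :
    linOf w (Pi.single l 1) = w l := by
  classical
  funext i
  rw [linOf_apply, Finset.sum_eq_single l]
  · simp
  · intro l' _ h; simp [h]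
  · intro h; exact absurd (Finset.mem_univ l) h

/-- **Key geometric lemma**: two cone morphisms into `[n]` whose real images share a ray through given
points of the orthants are dominated by a common cone through that ray. -/
theorem kgl {k k' n : ICone} (φ : k ⟶ n) (ψ : k' ⟶ n) (y : Orth k) (y' : Orth k') (c : ℝ)
    (hc : 0 < c) (h : ψ.realMap y'.1 = c • φ.realMap y.1) :
    ∃ (j : ICone) (α : j ⟶ k) (β : j ⟶ k') (z : Orth j) (a b : ℝ), α ≫ φ = β ≫ ψ ∧ 0 < a ∧ 0 < b ∧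
      y.1 = a • α.realMap z.1 ∧ y'.1 = b • β.realMap z.1 := by
  classical
  -- the linear system
  let T : Fin n.dim → (Fin k.dim ⊕ Fin k'.dim) → ℤ := fun a' =>
    Sum.elim (fun i => φ.toLin (Pi.single i 1) a') (fun i' => - ψ.toLin (Pi.single i' 1) a')
  let p : (Fin k.dim ⊕ Fin k'.dim) → ℝ := Sum.elim y.1 (fun i' => c⁻¹ * y'.1 i')
  have hp0 : ∀ i, 0 ≤ p i := by
    rintro (i | i')
    · exact y.2.1 i
    · exact mul_nonneg (inv_pos.mpr hc).le (y'.2.1 i')
  have hT : ∀ a', ∑ i, (T a' i : ℝ) * p i = 0 := by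
    intro a'
    rw [Fintype.sum_sum_type]
    simp only [T, p, Sum.elim_inl, Sum.elim_inr]
    have h1 := congrFun h a'
    simp only [ICone.Hom.realMap, Pi.smul_apply, smul_eq_mul] at h1
    have h2 : ∑ i', ((- ψ.toLin (Pi.single i' 1) a' : ℤ) : ℝ) * (c⁻¹ * y'.1 i') =
        - (c⁻¹ * ∑ i', (ψ.toLin (Pi.single i' 1) a' : ℝ) * y'.1 i') := by
      rw [Finset.mul_sum, ← Finset.sum_neg_distrib]
      refine Finset.sum_congr rfl (fun i' _ => ?_)
      push_cast
      ring
    rw [h2, h1]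
    field_simp
    ring
  obtain ⟨κ, _, w, t, hw0, hwT, hwind, ht0, hpt⟩ := FanCone.lemmaA T p hp0 hT
  -- `κ` is nonempty
  have hκ : 0 < Fintype.card κ := by
    rw [Fintype.card_pos_iff]
    by_contra hne
    rw [not_nonempty_iff] at hne
    apply y.2.2
    funext i
    have := hpt (Sum.inl i)
    simpa [p] using this
  let d : ℕ+ := ⟨Fintype.card κ, hκ⟩
  let e : κ ≃ Fin d := Fintype.equivFin κ
  let j : ICone := ⟨d⟩
  let u : Fin d → Fin k.dim → ℤ := fun l i => w (e.symm l) (Sum.inl i)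
  let u' : Fin d → Fin k'.dim → ℤ := fun l i' => w (e.symm l) (Sum.inr i')
  -- `φ u_l = ψ u'_l`
  have hφψ : ∀ l, φ.toLin (u l) = ψ.toLin (u' l) := by
    intro l
    funext a'
    rw [toLin_apply_eq_sum φ, toLin_apply_eq_sum ψ]
    have := hwT (e.symm l) a'
    rw [Fintype.sum_sum_type] at this
    simp only [T, Sum.elim_inl, Sum.elim_inr, neg_mul, Finset.sum_neg_distrib] at this
    linarith
  have hcomp : ∀ x : Fin d → ℤ, φ.toLin (linOf u x) = ψ.toLin (linOf u' x) := by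
    intro x
    unfold linOf
    rw [Fintype.linearCombination_apply, Fintype.linearCombination_apply, map_sum, map_sum]
    exact Finset.sum_congr rfl (fun l _ => by rw [map_smul, map_smul, hφψ l])
  have hzero : ∀ x : Fin d → ℤ, linOf u x = 0 → linOf u' x = 0 → x = 0 := by
    intro x h1 h2
    have h3 : (fun l' : κ => x (e l')) = 0 := by
      apply hwind
      rintro (i | i')
      · have := congrFun h1 i
        rw [linOf_apply, Pi.zero_apply] at this
        rw [← e.symm.sum_comp]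
        simpa [u] using this
      · have := congrFun h2 i'
        rw [linOf_apply, Pi.zero_apply] at this
        rw [← e.symm.sum_comp]
        simpa [u'] using this
    funext l
    have := congrFun h3 (e.symm l)
    simpa using this
  let α : j ⟶ k :=
    { toLin := linOf u
      injective := by
        rw [injective_iff_map_eq_zero]
        intro x hx
        refine hzero x hx ?_
        apply ψ.injective
        rw [← hcomp x, hx, map_zero, map_zero]
      nonneg := by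
        intro x hx i
        rw [linOf_apply]
        exact Finset.sum_nonneg (fun l _ => mul_nonneg (hx l) (hw0 _ _)) }
  let β : j ⟶ k' :=
    { toLin := linOf u'
      injective := by
        rw [injective_iff_map_eq_zero]
        intro x hx
        refine hzero x ?_ hx
        apply φ.injective
        rw [hcomp x, hx, map_zero, map_zero]
      nonneg := by
        intro x hx i
        rw [linOf_apply]
        exact Finset.sum_nonneg (fun l _ => mul_nonneg (hx l) (hw0 _ _)) }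
  have hz0 : ∀ l : Fin d, 0 ≤ t (e.symm l) := fun l => ht0 _
  have hzne : (fun l : Fin d => t (e.symm l)) ≠ 0 := by
    intro hz
    apply y.2.2
    funext i
    have := hpt (Sum.inl i)
    rw [← e.symm.sum_comp] at this
    simp only [p, Sum.elim_inl] at this
    rw [this]
    refine Finset.sum_eq_zero (fun l _ => ?_)
    have := congrFun hz l
    simp only [Pi.zero_apply] at this
    rw [this, zero_mul]
  let z : Orth j := ⟨fun l : Fin d => t (e.symm l), hz0, hzne⟩
  refine ⟨j, α, β, z, 1, c, ?_, one_pos, hc, ?_, ?_⟩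
  · apply ICone.Hom.ext
    change φ.toLin.comp (linOf u) = ψ.toLin.comp (linOf u')
    exact LinearMap.ext hcomp
  · rw [one_smul]
    funext i
    have := hpt (Sum.inl i)
    rw [← e.symm.sum_comp] at this
    simp only [p, Sum.elim_inl] at this
    rw [this]
    unfold ICone.Hom.realMap
    refine Finset.sum_congr rfl (fun l _ => ?_)
    change _ = ((linOf u (Pi.single l 1) i : ℤ) : ℝ) * t (e.symm l)
    rw [linOf_single]
    ring
  · funext i'
    have := hpt (Sum.inr i')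
    rw [← e.symm.sum_comp] at this
    simp only [p, Sum.elim_inr] at this
    have h2 : y'.1 i' = c * (c⁻¹ * y'.1 i') := by field_simp
    rw [h2, this, Pi.smul_apply, smul_eq_mul]
    congr 1
    unfold ICone.Hom.realMap
    refine Finset.sum_congr rfl (fun l _ => ?_)
    change _ = ((linOf u' (Pi.single l 1) i' : ℤ) : ℝ) * t (e.symm l)
    rw [linOf_single]
    ring

/-! ### the common-subcone relation is an equivalence relation -/

theorem Common.trans {a b c : Pt F} (hab : Common F a b) (hbc : Common F b c) : Common F a c := by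
  obtain ⟨k, φ₁, φ₂, y, c₁, c₂, h1, hc₁, hc₂, h2, h3⟩ := hab
  obtain ⟨k', ψ₂, ψ₃, y', d₂, d₃, g1, hd₂, hd₃, g2, g3⟩ := hbc
  -- `ψ₂ y' = (c₂ / d₂) • φ₂ y`
  have hprop : ψ₂.realMap y'.1 = (c₂ / d₂) • φ₂.realMap y.1 := by
    have h4 : d₂ • ψ₂.realMap y'.1 = c₂ • φ₂.realMap y.1 := by rw [← g2, ← h3]
    have h5 : ψ₂.realMap y'.1 = d₂⁻¹ • (d₂ • ψ₂.realMap y'.1) := by
      rw [smul_smul, inv_mul_cancel₀ hd₂.ne', one_smul]
    rw [h5, h4, smul_smul]
    congr 1
    field_simp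
  obtain ⟨j, α, β, z, a', b', hαβ, ha', hb', hy, hy'⟩ :=
    kgl φ₂ ψ₂ y y' (c₂ / d₂) (div_pos hc₂ hd₂) hprop
  refine ⟨j, α ≫ φ₁, β ≫ ψ₃, z, c₁ * a', d₃ * b', ?_, mul_pos hc₁ ha', mul_pos hd₃ hb', ?_, ?_⟩
  · have e1 : F.map (α ≫ φ₁).op a.1.2 = F.map α.op (F.map φ₁.op a.1.2) := by simp
    have e2 : F.map (β ≫ ψ₃).op c.1.2 = F.map β.op (F.map ψ₃.op c.1.2) := by simp
    have e3 : F.map α.op (F.map φ₂.op b.1.2) = F.map (α ≫ φ₂).op b.1.2 := by simp
    have e4 : F.map β.op (F.map ψ₂.op b.1.2) = F.map (β ≫ ψ₂).op b.1.2 := by simp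
    rw [e1, e2, h1, ← g1, e3, e4, hαβ]
  · rw [h2, hy, realMap_smul, realMap_comp, smul_smul]
  · rw [g3, hy', realMap_smul, realMap_comp, smul_smul]

theorem common_of_eqvGen {a b : Pt F} (h : Relation.EqvGen (Rel F) a b) : Common F a b := by
  induction h with
  | rel a b h => exact common_of_rel h
  | refl a => exact Common.refl a
  | symm a b _ ih => exact ih.symm
  | trans a b c _ _ ih1 ih2 => exact ih1.trans ih2

theorem common_iff {a b : Pt F} :
    (Quot.mk (Rel F) a : P F) = Quot.mk (Rel F) b ↔ Common F a b :=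
  ⟨fun h => common_of_eqvGen (Quot.eqvGen_exact h), mk_eq_of_common⟩

/-- **The common-subcone lemma** (statement of S19361). -/
theorem mk_eq_mk_iff {n₁ n₂ : ICone} (σ₁ : F.obj (op n₁)) (σ₂ : F.obj (op n₂)) (v₁ : Orth n₁)
    (v₂ : Orth n₂) :
    P.mk σ₁ v₁ = P.mk σ₂ v₂ ↔
      ∃ (k : ICone) (φ₁ : k ⟶ n₁) (φ₂ : k ⟶ n₂) (y : Orth k) (c₁ c₂ : ℝ),
        F.map φ₁.op σ₁ = F.map φ₂.op σ₂ ∧ 0 < c₁ ∧ 0 < c₂ ∧
          v₁.1 = c₁ • φ₁.realMap y.1 ∧ v₂.1 = c₂ • φ₂.realMap y.1 :=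
  common_iff (a := ⟨⟨n₁, σ₁⟩, v₁⟩) (b := ⟨⟨n₂, σ₂⟩, v₂⟩)

end Groth.Agent.Helper7.FanBasic
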