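import Mathlib

/-!
# Conic Carathéodory and closedness of finitely generated cones (helper7)
-/

set_option autoImplicit false
set_option linter.unusedSectionVars false
set_option linter.style.haveILetI false

namespace Groth.Agent.Helper7.FanCara

open Finset

/-- **Conic Carathéodory**: a nonnegative combination of finitely many vectors is a nonnegative
combination of a linearly independent subfamily. -/
theorem conic_caratheodory {α E : Type*} [AddCommGroup E] [Module ℝ E] [DecidableEq α] (u : α → E)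
    (S : Finset α) :
    ∀ c : α → ℝ, (∀ g, 0 ≤ c g) →
      ∃ J ⊆ S, LinearIndepOn ℝ u (J : Set α) ∧ ∃ d : α → ℝ, (∀ g, 0 ≤ d g) ∧
        ∑ g ∈ S, c g • u g = ∑ g ∈ J, d g • u g := by
  induction S using Finset.strongInduction with
  | H S ih =>
    intro c hc
    by_cases hli : LinearIndepOn ℝ u (S : Set α)
    · exact ⟨S, subset_rfl, hli, c, hc, rfl⟩
    · rw [not_linearIndepOn_finset_iff] at hli
      obtain ⟨f, hf, g₁, hg₁S, hg₁⟩ := hli
      -- normalize the sign
      obtain ⟨μ, hμ, hμ1⟩ : ∃ μ : α → ℝ, ∑ g ∈ S, μ g • u g = 0 ∧ 0 < μ g₁ := by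
        rcases lt_or_gt_of_ne hg₁ with h | h
        · refine ⟨fun g => - f g, ?_, by simpa using h⟩
          simp only [neg_smul, Finset.sum_neg_distrib, hf, neg_zero]
        · exact ⟨f, hf, h⟩
      set P := S.filter (fun g => 0 < μ g) with hP
      have hPne : P.Nonempty := ⟨g₁, Finset.mem_filter.mpr ⟨hg₁S, hμ1⟩⟩
      obtain ⟨g₀, hg₀P, hmin⟩ := Finset.exists_min_image P (fun g => c g / μ g) hPne
      have hg₀S : g₀ ∈ S := (Finset.mem_filter.mp hg₀P).1
      have hμ0 : 0 < μ g₀ := (Finset.mem_filter.mp hg₀P).2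
      set t : ℝ := c g₀ / μ g₀ with ht
      have ht0 : 0 ≤ t := div_nonneg (hc g₀) hμ0.le
      set c' : α → ℝ := fun g => if g ∈ S then c g - t * μ g else 0 with hc'
      have hc'0 : ∀ g, 0 ≤ c' g := by
        intro g
        simp only [hc']
        split_ifs with hgS
        · by_cases hμg : 0 < μ g
          · have h1 := hmin g (Finset.mem_filter.mpr ⟨hgS, hμg⟩)
            have h2 : t * μ g ≤ c g := by
              have := (le_div_iff₀ hμg).mp h1
              exact this
            linarith
          · have h1 : t * μ g ≤ 0 := mul_nonpos_of_nonneg_of_nonpos ht0 (not_lt.mp hμg)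
            linarith [hc g]
        · exact le_rfl
      have hc'g₀ : c' g₀ = 0 := by
        simp only [hc', if_pos hg₀S, ht]
        field_simp
        ring
      have hsum : ∑ g ∈ S, c g • u g = ∑ g ∈ S.erase g₀, c' g • u g := by
        have h1 : ∑ g ∈ S, c' g • u g = ∑ g ∈ S, c g • u g := by
          have h2 : ∀ g ∈ S, c' g • u g = c g • u g - t • (μ g • u g) := by
            intro g hg
            simp only [hc', if_pos hg, sub_smul, mul_smul]
          rw [Finset.sum_congr rfl h2, Finset.sum_sub_distrib, ← Finset.smul_sum, hμ, smul_zero,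
            sub_zero]
        rw [← h1, ← Finset.add_sum_erase S _ hg₀S, hc'g₀, zero_smul, zero_add]
      obtain ⟨J, hJ, hJli, d, hd, hJsum⟩ := ih (S.erase g₀) (Finset.erase_ssubset hg₀S) c' hc'0
      exact ⟨J, hJ.trans (Finset.erase_subset _ _), hJli, d, hd, hsum.trans hJsum⟩

/-- a simplicial cone of `ℝ^N` is closed -/
theorem isClosed_simplicial {α : Type*} {N : ℕ} (u : α → Fin N → ℝ) (J : Finset α)
    (hJ : LinearIndepOn ℝ u (J : Set α)) :
    IsClosed {x : Fin N → ℝ | ∃ d : α → ℝ, (∀ g, 0 ≤ d g) ∧ x = ∑ g ∈ J, d g • u g} := by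
  classical
  let L : (J → ℝ) →ₗ[ℝ] (Fin N → ℝ) := Fintype.linearCombination ℝ (fun g : J => u g.1)
  have hL : LinearMap.ker L = ⊥ := by
    rw [LinearMap.ker_eq_bot]
    exact (linearIndependent_iff_injective_fintypeLinearCombination.mp hJ.linearIndependent)
  have hemb : Topology.IsClosedEmbedding L := LinearMap.isClosedEmbedding_of_injective hL
  have hcl : IsClosed {d : J → ℝ | ∀ g, 0 ≤ d g} := by
    have : {d : J → ℝ | ∀ g, 0 ≤ d g} = ⋂ g, {d : J → ℝ | 0 ≤ d g} := by
      ext d; simp
    rw [this]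
    exact isClosed_iInter (fun g => isClosed_le continuous_const (continuous_apply g))
  have heq : {x : Fin N → ℝ | ∃ d : α → ℝ, (∀ g, 0 ≤ d g) ∧ x = ∑ g ∈ J, d g • u g} =
      L '' {d : J → ℝ | ∀ g, 0 ≤ d g} := by
    ext x
    constructor
    · rintro ⟨d, hd, rfl⟩
      refine ⟨fun g => d g.1, fun g => hd g.1, ?_⟩
      simp only [L, Fintype.linearCombination_apply]
      exact (Finset.sum_coe_sort J (fun g => d g • u g))
    · rintro ⟨d, hd, rfl⟩
      refine ⟨fun g => if h : g ∈ J then d ⟨g, h⟩ else 0, fun g => ?_, ?_⟩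
      · dsimp only
        split_ifs with h
        · exact hd _
        · exact le_rfl
      · simp only [L, Fintype.linearCombination_apply]
        rw [← Finset.sum_coe_sort J]
        refine Finset.sum_congr rfl (fun g _ => ?_)
        rw [dif_pos g.2]
  rw [heq]
  exact hemb.isClosedMap _ hcl

/-- a finitely generated cone of `ℝ^N` is closed -/
theorem isClosed_cone {α : Type*} {N : ℕ} (u : α → Fin N → ℝ) (S : Finset α) :
    IsClosed {x : Fin N → ℝ | ∃ c : α → ℝ, (∀ g, 0 ≤ c g) ∧ x = ∑ g ∈ S, c g • u g} := by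
  classical
  have heq : {x : Fin N → ℝ | ∃ c : α → ℝ, (∀ g, 0 ≤ c g) ∧ x = ∑ g ∈ S, c g • u g} =
      ⋃ (J : Finset α) (_ : J ∈ S.powerset.filter (fun J : Finset α => LinearIndepOn ℝ u (J : Set α))),
        {x : Fin N → ℝ | ∃ d : α → ℝ, (∀ g, 0 ≤ d g) ∧ x = ∑ g ∈ J, d g • u g} := by
    ext x
    simp only [Set.mem_iUnion, Set.mem_ofPred_eq, Finset.mem_filter, Finset.mem_powerset,
      exists_prop]
    constructor
    · rintro ⟨c, hc, rfl⟩
      obtain ⟨J, hJS, hJli, d, hd, hsum⟩ := conic_caratheodory u S c hc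
      exact ⟨J, ⟨hJS, hJli⟩, d, hd, hsum⟩
    · rintro ⟨J, ⟨hJS, -⟩, d, hd, rfl⟩
      refine ⟨fun g => if g ∈ J then d g else 0, fun g => ?_, ?_⟩
      · dsimp only
        split_ifs
        · exact hd g
        · exact le_rfl
      · rw [← Finset.sum_subset hJS]
        · exact Finset.sum_congr rfl (fun g hg => by dsimp only; rw [if_pos hg])
        · intro g _ hgJ
          dsimp only
          rw [if_neg hgJ, zero_smul]
  rw [heq]
  refine Set.Finite.isClosed_biUnion (Finset.finite_toSet _) (fun J hJ => ?_)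
  exact isClosed_simplicial u J (Finset.mem_filter.mp hJ).2

end Groth.Agent.Helper7.FanCara
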