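import Groth.Agent.Lib.Helper7.FanBasic

/-!
# Formal fans: maps on projective realizations (helper7)
-/

set_option autoImplicit false
set_option linter.unusedSectionVars false
set_option linter.style.haveILetI false

universe u

open CategoryTheory Opposite Instab
open Instab Instab.Fan

namespace Groth.Agent.Helper7.FanMaps

open Groth.Agent.Helper7.FanBasic

variable {F G : Fan.{u}}

theorem map_mk (f : F ⟶ G) {n : ICone} (ξ : F.obj (op n)) (v : Orth n) :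
    P.map f (P.mk ξ v) = P.mk (f.app (op n) ξ) v := rfl

theorem exists_rep (x : P F) : ∃ (n : ICone) (ξ : F.obj (op n)) (v : Orth n), x = P.mk ξ v := by
  induction x using Quot.ind with
  | mk a => exact ⟨a.1.1, a.1.2, a.2, rfl⟩

theorem naturality' (f : F ⟶ G) {k n : ICone} (φ : k ⟶ n) (ξ : F.obj (op n)) :
    f.app (op k) (F.map φ.op ξ) = G.map φ.op (f.app (op n) ξ) :=
  NatTrans.naturality_apply f φ.op ξ

/-- injectivity on cones gives injectivity on realizations -/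
theorem map_injective (f : F ⟶ G) (hf : ∀ n : ICone, Function.Injective (f.app (op n))) :
    Function.Injective (P.map f) := by
  intro x x' h
  obtain ⟨n, ξ, v, rfl⟩ := exists_rep x
  obtain ⟨n', ξ', v', rfl⟩ := exists_rep x'
  rw [map_mk, map_mk, mk_eq_mk_iff] at h
  obtain ⟨k, φ₁, φ₂, y, c₁, c₂, h1, hc₁, hc₂, h2, h3⟩ := h
  rw [mk_eq_mk_iff]
  refine ⟨k, φ₁, φ₂, y, c₁, c₂, ?_, hc₁, hc₂, h2, h3⟩
  apply hf k
  rw [naturality', naturality', h1]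

theorem map_surjective (f : F ⟶ G) (hf : ∀ n : ICone, Function.Surjective (f.app (op n))) :
    Function.Surjective (P.map f) := by
  intro y
  obtain ⟨n, τ, v, rfl⟩ := exists_rep y
  obtain ⟨ξ, rfl⟩ := hf n τ
  exact ⟨P.mk ξ v, rfl⟩

theorem range_map (f : F ⟶ G) :
    Set.range (P.map f) =
      {x | ∃ (n : ICone) (ξ : F.obj (op n)) (v : Orth n), x = P.mk (f.app (op n) ξ) v} := by
  ext x
  constructor
  · rintro ⟨y, rfl⟩
    obtain ⟨n, ξ, v, rfl⟩ := exists_rep y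
    exact ⟨n, ξ, v, rfl⟩
  · rintro ⟨n, ξ, v, rfl⟩
    exact ⟨P.mk ξ v, rfl⟩

theorem range_map_ι (S : Subfunctor F) :
    Set.range (P.map S.ι) =
      {x | ∃ (n : ICone) (σ : F.obj (op n)) (v : Orth n), σ ∈ S.obj (op n) ∧ x = P.mk σ v} := by
  rw [range_map]
  ext x
  constructor
  · rintro ⟨n, ξ, v, rfl⟩
    exact ⟨n, ξ.1, v, ξ.2, rfl⟩
  · rintro ⟨n, σ, v, hσ, rfl⟩
    exact ⟨n, ⟨σ, hσ⟩, v, rfl⟩

/-- statement of S19362 (1) -/
theorem range_map_eq_range_ι (f : F ⟶ G) :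
    Set.range (P.map f) = Set.range (P.map (Subfunctor.range f).ι) := by
  rw [range_map, range_map_ι]
  ext x
  constructor
  · rintro ⟨n, ξ, v, rfl⟩
    exact ⟨n, f.app (op n) ξ, v, ⟨ξ, rfl⟩, rfl⟩
  · rintro ⟨n, σ, v, ⟨ξ, rfl⟩, rfl⟩
    exact ⟨n, ξ, v, rfl⟩

/-- realizable subsets are closed under intersections -/
theorem isRealizable_inter (U V : Set (P F)) (hU : IsRealizable U) (hV : IsRealizable V) :
    IsRealizable (U ∩ V) := by
  obtain ⟨S, rfl⟩ := hU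
  obtain ⟨T, rfl⟩ := hV
  refine ⟨S ⊓ T, ?_⟩
  rw [range_map_ι, range_map_ι, range_map_ι]
  ext x
  constructor
  · rintro ⟨⟨n, σ, v, hσ, rfl⟩, ⟨n', τ, w, hτ, h⟩⟩
    rw [mk_eq_mk_iff] at h
    obtain ⟨k, φ₁, φ₂, y, c₁, c₂, h1, hc₁, hc₂, h2, h3⟩ := h
    refine ⟨k, F.map φ₁.op σ, y, ⟨S.map φ₁.op hσ, ?_⟩, (mk_glue φ₁ σ y v c₁ hc₁ h2).symm⟩
    rw [h1]
    exact T.map φ₂.op hτ
  · rintro ⟨n, σ, v, ⟨hσ, hτ⟩, rfl⟩
    exact ⟨⟨n, σ, v, hσ, rfl⟩, ⟨n, σ, v, hτ, rfl⟩⟩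

/-- realizable subsets are closed under arbitrary unions -/
theorem isRealizable_iUnion {ι : Type*} (U : ι → Set (P F)) (hU : ∀ i, IsRealizable (U i)) :
    IsRealizable (Set.iUnion U) := by
  choose S hS using hU
  refine ⟨⨆ i, S i, ?_⟩
  rw [range_map_ι]
  ext x
  simp only [Set.mem_iUnion, Set.mem_ofPred_eq, Subfunctor.iSup_obj]
  constructor
  · rintro ⟨i, hx⟩
    rw [hS i, range_map_ι] at hx
    obtain ⟨n, σ, v, hσ, rfl⟩ := hx
    exact ⟨n, σ, v, ⟨i, hσ⟩, rfl⟩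
  · rintro ⟨n, σ, v, ⟨i, hσ⟩, rfl⟩
    refine ⟨i, ?_⟩
    rw [hS i, range_map_ι]
    exact ⟨n, σ, v, hσ, rfl⟩

end Groth.Agent.Helper7.FanMaps
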