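import Groth.Agent.Lib.Helper7.FanMaps

/-!
# Formal fans: fibre products (helper7)
-/

set_option autoImplicit false
set_option linter.unusedSectionVars false
set_option linter.style.haveILetI false

universe u

open CategoryTheory Opposite Instab
open Instab Instab.Fan

namespace Groth.Agent.Helper7.FanPullback

open Groth.Agent.Helper7.FanBasic Groth.Agent.Helper7.FanMaps

variable {F F' G : Fan.{u}}

theorem map_comp {F₁ F₂ F₃ : Fan.{u}} (a : F₁ ⟶ F₂) (b : F₂ ⟶ F₃) (x : P F₁) :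
    P.map (a ≫ b) x = P.map b (P.map a x) := by
  obtain ⟨n, ξ, v, rfl⟩ := exists_rep x
  rfl

theorem coneMap_comp {n : ICone} (σ : F.obj (op n)) (f : F ⟶ G) :
    coneMap σ ≫ f = coneMap (f.app (op n) σ) := by
  unfold coneMap
  exact uliftYonedaEquiv_symm_comp _ _

theorem coneMap_app {n k : ICone} (σ : F.obj (op n)) (φ : k ⟶ n) :
    (coneMap σ).app (op k) (ULift.up φ) = F.map φ.op σ := by
  unfold coneMap
  simp

/-- the element of a fibre product given by a compatible pair -/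
noncomputable def pbElem (f : F ⟶ G) (g : F' ⟶ G) {k : ICone} (τ : F.obj (op k))
    (τ' : F'.obj (op k)) (h : f.app _ τ = g.app _ τ') : (Limits.pullback f g).obj (op k) :=
  uliftYonedaEquiv.{u} (Limits.pullback.lift (coneMap τ) (coneMap τ') (by
    rw [coneMap_comp, coneMap_comp, h]))

theorem pbElem_fst (f : F ⟶ G) (g : F' ⟶ G) {k : ICone} (τ : F.obj (op k))
    (τ' : F'.obj (op k)) (h : f.app _ τ = g.app _ τ') :
    (Limits.pullback.fst f g).app _ (pbElem f g τ τ' h) = τ := by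
  unfold pbElem
  rw [← uliftYonedaEquiv_comp, Limits.pullback.lift_fst]
  exact Equiv.apply_symm_apply _ _

theorem pbElem_snd (f : F ⟶ G) (g : F' ⟶ G) {k : ICone} (τ : F.obj (op k))
    (τ' : F'.obj (op k)) (h : f.app _ τ = g.app _ τ') :
    (Limits.pullback.snd f g).app _ (pbElem f g τ τ' h) = τ' := by
  unfold pbElem
  rw [← uliftYonedaEquiv_comp, Limits.pullback.lift_snd]
  exact Equiv.apply_symm_apply _ _

theorem pb_condition (f : F ⟶ G) (g : F' ⟶ G) {k : ICone} (ρ : (Limits.pullback f g).obj (op k)) :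
    f.app _ ((Limits.pullback.fst f g).app _ ρ) = g.app _ ((Limits.pullback.snd f g).app _ ρ) := by
  have := congrArg (fun t => t.app (op k) ρ) (Limits.pullback.condition (f := f) (g := g))
  simpa using this

theorem pb_ext (f : F ⟶ G) (g : F' ⟶ G) {k : ICone} (ρ₁ ρ₂ : (Limits.pullback f g).obj (op k))
    (h1 : (Limits.pullback.fst f g).app _ ρ₁ = (Limits.pullback.fst f g).app _ ρ₂)
    (h2 : (Limits.pullback.snd f g).app _ ρ₁ = (Limits.pullback.snd f g).app _ ρ₂) : ρ₁ = ρ₂ := by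
  apply uliftYonedaEquiv.{u}.symm.injective
  apply Limits.pullback.hom_ext
  · rw [uliftYonedaEquiv_symm_comp, uliftYonedaEquiv_symm_comp, h1]
  · rw [uliftYonedaEquiv_symm_comp, uliftYonedaEquiv_symm_comp, h2]

/-- statement of S19360 -/
theorem exists_lift (f : F ⟶ G) (g : F' ⟶ G) (x : P F) (x' : P F')
    (h : P.map f x = P.map g x') :
    ∃ y : P (Limits.pullback f g),
      P.map (Limits.pullback.fst f g) y = x ∧ P.map (Limits.pullback.snd f g) y = x' := by
  obtain ⟨n, σ, v, rfl⟩ := exists_rep x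
  obtain ⟨n', σ', v', rfl⟩ := exists_rep x'
  rw [map_mk, map_mk, mk_eq_mk_iff] at h
  obtain ⟨k, φ₁, φ₂, y, c₁, c₂, h1, hc₁, hc₂, h2, h3⟩ := h
  have hτ : f.app _ (F.map φ₁.op σ) = g.app _ (F'.map φ₂.op σ') := by
    rw [naturality', naturality', h1]
  refine ⟨P.mk (pbElem f g _ _ hτ) y, ?_, ?_⟩
  · rw [map_mk, pbElem_fst]
    exact mk_glue φ₁ σ y v c₁ hc₁ h2
  · rw [map_mk, pbElem_snd]
    exact mk_glue φ₂ σ' y v' c₂ hc₂ h3

/-- statement of S19362 (2) -/
theorem range_snd (f : F ⟶ G) (g : F' ⟶ G) :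
    Set.range (P.map (Limits.pullback.snd f g)) = P.map g ⁻¹' Set.range (P.map f) := by
  ext x'
  constructor
  · rintro ⟨z, rfl⟩
    refine ⟨P.map (Limits.pullback.fst f g) z, ?_⟩
    rw [← map_comp, ← map_comp, Limits.pullback.condition]
  · rintro ⟨x, hx⟩
    obtain ⟨z, -, hz⟩ := exists_lift f g x x' hx
    exact ⟨z, hz⟩

end Groth.Agent.Helper7.FanPullback
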