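import Groth.Agent.Lib.Helper7.FanSeq
import Groth.Agent.Lib.Helper7.FanCara

/-!
# Formal fans: the fan of a family of rational polyhedral cones (helper7)
-/

set_option autoImplicit false
set_option linter.unusedSectionVars false
set_option linter.style.haveILetI false

open CategoryTheory Opposite Instab
open Instab Instab.Fan

namespace Groth.Agent.Helper7.FanRays

open Groth.Agent.Helper7.FanBasic Groth.Agent.Helper7.FanMaps Groth.Agent.Helper7.FanTop
  Groth.Agent.Helper7.FanTop2 Groth.Agent.Helper7.FanSeq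
open Groth.Agent.Lib.Helper6.FanMax (approxOrth tendsto_approxOrth approx approx_val)

variable {N : ℕ}

/-! ### the real extension of an integral linear map -/

/-- the real extension of an integral linear map -/
def realExt {k : ℕ} (φ : (Fin k → ℤ) →ₗ[ℤ] (Fin N → ℤ)) (v : Fin k → ℝ) : Fin N → ℝ :=
  fun j => ∑ i, (φ (Pi.single i 1) j : ℝ) * v i

theorem lin_apply_eq_sum {k : ℕ} (φ : (Fin k → ℤ) →ₗ[ℤ] (Fin N → ℤ)) (x : Fin k → ℤ)
    (j : Fin N) : φ x j = ∑ l, φ (Pi.single l 1) j * x l := by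
  classical
  have hx : x = ∑ l, x l • (Pi.single l (1 : ℤ) : Fin k → ℤ) := by
    funext i
    simp [Finset.sum_apply, Pi.single_apply]
  conv_lhs => rw [hx]
  rw [map_sum, Finset.sum_apply]
  refine Finset.sum_congr rfl (fun l _ => ?_)
  rw [map_smul, Pi.smul_apply, smul_eq_mul, mul_comm]

theorem realExt_intCast {k : ℕ} (φ : (Fin k → ℤ) →ₗ[ℤ] (Fin N → ℤ)) (z : Fin k → ℤ) :
    realExt φ (fun i => (z i : ℝ)) = fun j => (φ z j : ℝ) := by
  funext j
  unfold realExt
  rw [lin_apply_eq_sum φ z j]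
  push_cast
  rfl

theorem realExt_smul {k : ℕ} (φ : (Fin k → ℤ) →ₗ[ℤ] (Fin N → ℤ)) (c : ℝ) (v : Fin k → ℝ) :
    realExt φ (c • v) = c • realExt φ v := by
  funext j
  unfold realExt
  simp only [Pi.smul_apply, smul_eq_mul, Finset.mul_sum]
  exact Finset.sum_congr rfl (fun i _ => by ring)

theorem realExt_comp {k n : ICone} (φ : (Fin n.dim → ℤ) →ₗ[ℤ] (Fin N → ℤ)) (ψ : k ⟶ n)
    (v : Fin k.dim → ℝ) : realExt (φ.comp ψ.toLin) v = realExt φ (ψ.realMap v) := by
  funext j
  unfold realExt ICone.Hom.realMap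
  simp only [LinearMap.comp_apply]
  have h2 : ∀ i, ((φ (ψ.toLin (Pi.single i 1)) j : ℤ) : ℝ) * v i =
      ∑ l, (φ (Pi.single l 1) j : ℝ) * ((ψ.toLin (Pi.single i 1) l : ℝ) * v i) := by
    intro i
    rw [lin_apply_eq_sum φ]
    push_cast
    rw [Finset.sum_mul]
    exact Finset.sum_congr rfl (fun l _ => by ring)
  rw [Finset.sum_congr rfl (fun i _ => h2 i), Finset.sum_comm]
  refine Finset.sum_congr rfl (fun l _ => ?_)
  rw [Finset.mul_sum]

theorem continuous_realExt {k : ℕ} (φ : (Fin k → ℤ) →ₗ[ℤ] (Fin N → ℤ)) :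
    Continuous (realExt φ) := by
  unfold realExt
  exact continuous_pi (fun j => continuous_finsetSum _ (fun i _ =>
    continuous_const.mul (continuous_apply i)))

/-- the real extension of an injective integral map does not kill nonzero nonnegative vectors -/
theorem realExt_ne_zero {k : ℕ} (φ : (Fin k → ℤ) →ₗ[ℤ] (Fin N → ℤ)) (hφ : Function.Injective φ)
    (v : Fin k → ℝ) (hv0 : ∀ i, 0 ≤ v i) (hv : v ≠ 0) : realExt φ v ≠ 0 := by
  intro h0
  apply hv
  obtain ⟨κ, _, w, t, -, hwT, -, -, hpt⟩ := FanCone.lemmaA (ι := Fin k) (ν := Fin N)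
    (fun a i => φ (Pi.single i 1) a) v hv0 (fun a => by
      have := congrFun h0 a
      simpa [realExt] using this)
  have hw : ∀ l, w l = 0 := by
    intro l
    apply hφ
    rw [map_zero]
    funext a
    rw [lin_apply_eq_sum φ (w l) a]
    exact hwT l a
  funext i
  rw [hpt i]
  refine Finset.sum_eq_zero (fun l _ => ?_)
  rw [hw l]
  simp

/-! ### the key geometric lemma for arbitrary injective integral maps -/

theorem kglLin {k k' : ICone} (φ : (Fin k.dim → ℤ) →ₗ[ℤ] (Fin N → ℤ))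
    (ψ : (Fin k'.dim → ℤ) →ₗ[ℤ] (Fin N → ℤ)) (hφ : Function.Injective φ)
    (hψ : Function.Injective ψ) (y : Orth k) (y' : Orth k') (c : ℝ)
    (hc : 0 < c) (h : realExt ψ y'.1 = c • realExt φ y.1) :
    ∃ (j : ICone) (α : j ⟶ k) (β : j ⟶ k') (z : Orth j) (a b : ℝ),
      φ.comp α.toLin = ψ.comp β.toLin ∧ 0 < a ∧ 0 < b ∧
      y.1 = a • α.realMap z.1 ∧ y'.1 = b • β.realMap z.1 := by
  classical
  -- the linear system
  let T : Fin N → (Fin k.dim ⊕ Fin k'.dim) → ℤ := fun a' =>
    Sum.elim (fun i => φ (Pi.single i 1) a') (fun i' => - ψ (Pi.single i' 1) a')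
  let p : (Fin k.dim ⊕ Fin k'.dim) → ℝ := Sum.elim y.1 (fun i' => c⁻¹ * y'.1 i')
  have hp0 : ∀ i, 0 ≤ p i := by
    rintro (i | i')
    · exact y.2.1 i
    · exact mul_nonneg (inv_pos.mpr hc).le (y'.2.1 i')
  have hT : ∀ a', ∑ i, (T a' i : ℝ) * p i = 0 := by
    intro a'
    rw [Fintype.sum_sum_type]
    simp only [T, p, Sum.elim_inl, Sum.elim_inr]
    have h1 := congrFun h a'
    simp only [realExt, Pi.smul_apply, smul_eq_mul] at h1
    have h2 : ∑ i', ((- ψ (Pi.single i' 1) a' : ℤ) : ℝ) * (c⁻¹ * y'.1 i') =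
        - (c⁻¹ * ∑ i', (ψ (Pi.single i' 1) a' : ℝ) * y'.1 i') := by
      rw [Finset.mul_sum, ← Finset.sum_neg_distrib]
      refine Finset.sum_congr rfl (fun i' _ => ?_)
      push_cast
      ring
    rw [h2, h1]
    field_simp
    ring
  obtain ⟨κ, _, w, t, hw0, hwT, hwind, ht0, hpt⟩ := FanCone.lemmaA T p hp0 hT
  -- `κ` is nonempty
  have hκ : 0 < Fintype.card κ := by
    rw [Fintype.card_pos_iff]
    by_contra hne
    rw [not_nonempty_iff] at hne
    apply y.2.2
    funext i
    have := hpt (Sum.inl i)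
    simpa [p] using this
  let d : ℕ+ := ⟨Fintype.card κ, hκ⟩
  let e : κ ≃ Fin d := Fintype.equivFin κ
  let j : ICone := ⟨d⟩
  let u : Fin d → Fin k.dim → ℤ := fun l i => w (e.symm l) (Sum.inl i)
  let u' : Fin d → Fin k'.dim → ℤ := fun l i' => w (e.symm l) (Sum.inr i')
  -- `φ u_l = ψ u'_l`
  have hφψ : ∀ l, φ (u l) = ψ (u' l) := by
    intro l
    funext a'
    rw [lin_apply_eq_sum φ, lin_apply_eq_sum ψ]
    have := hwT (e.symm l) a'
    rw [Fintype.sum_sum_type] at this
    simp only [T, Sum.elim_inl, Sum.elim_inr, neg_mul, Finset.sum_neg_distrib] at this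
    linarith
  have hcomp : ∀ x : Fin d → ℤ, φ (linOf u x) = ψ (linOf u' x) := by
    intro x
    unfold linOf
    rw [Fintype.linearCombination_apply, Fintype.linearCombination_apply, map_sum, map_sum]
    exact Finset.sum_congr rfl (fun l _ => by rw [map_smul, map_smul, hφψ l])
  have hzero : ∀ x : Fin d → ℤ, linOf u x = 0 → linOf u' x = 0 → x = 0 := by
    intro x h1 h2
    have h3 : (fun l' : κ => x (e l')) = 0 := by
      apply hwind
      rintro (i | i')
      · have := congrFun h1 i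
        rw [linOf_apply, Pi.zero_apply] at this
        rw [← e.symm.sum_comp]
        simpa [u] using this
      · have := congrFun h2 i'
        rw [linOf_apply, Pi.zero_apply] at this
        rw [← e.symm.sum_comp]
        simpa [u'] using this
    funext l
    have := congrFun h3 (e.symm l)
    simpa using this
  let α : j ⟶ k :=
    { toLin := linOf u
      injective := by
        rw [injective_iff_map_eq_zero]
        intro x hx
        refine hzero x hx ?_
        apply hψ
        rw [← hcomp x, hx, map_zero, map_zero]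
      nonneg := by
        intro x hx i
        rw [linOf_apply]
        exact Finset.sum_nonneg (fun l _ => mul_nonneg (hx l) (hw0 _ _)) }
  let β : j ⟶ k' :=
    { toLin := linOf u'
      injective := by
        rw [injective_iff_map_eq_zero]
        intro x hx
        refine hzero x ?_ hx
        apply hφ
        rw [hcomp x, hx, map_zero, map_zero]
      nonneg := by
        intro x hx i
        rw [linOf_apply]
        exact Finset.sum_nonneg (fun l _ => mul_nonneg (hx l) (hw0 _ _)) }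
  have hz0 : ∀ l : Fin d, 0 ≤ t (e.symm l) := fun l => ht0 _
  have hzne : (fun l : Fin d => t (e.symm l)) ≠ 0 := by
    intro hz
    apply y.2.2
    funext i
    have := hpt (Sum.inl i)
    rw [← e.symm.sum_comp] at this
    simp only [p, Sum.elim_inl] at this
    rw [this]
    refine Finset.sum_eq_zero (fun l _ => ?_)
    have := congrFun hz l
    simp only [Pi.zero_apply] at this
    rw [this, zero_mul]
  let z : Orth j := ⟨fun l : Fin d => t (e.symm l), hz0, hzne⟩
  refine ⟨j, α, β, z, 1, c, ?_, one_pos, hc, ?_, ?_⟩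
  · exact LinearMap.ext hcomp
  · rw [one_smul]
    funext i
    have := hpt (Sum.inl i)
    rw [← e.symm.sum_comp] at this
    simp only [p, Sum.elim_inl] at this
    rw [this]
    unfold ICone.Hom.realMap
    refine Finset.sum_congr rfl (fun l _ => ?_)
    change _ = ((linOf u (Pi.single l 1) i : ℤ) : ℝ) * t (e.symm l)
    rw [linOf_single]
    ring
  · funext i'
    have := hpt (Sum.inr i')
    rw [← e.symm.sum_comp] at this
    simp only [p, Sum.elim_inr] at this
    have h2 : y'.1 i' = c * (c⁻¹ * y'.1 i') := by field_simp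
    rw [h2, this, Pi.smul_apply, smul_eq_mul]
    congr 1
    unfold ICone.Hom.realMap
    refine Finset.sum_congr rfl (fun l _ => ?_)
    change _ = ((linOf u' (Pi.single l 1) i' : ℤ) : ℝ) * t (e.symm l)
    rw [linOf_single]
    ring

/-! ### the space of rays -/

/-- the normalization map from rays to the unit sphere -/
noncomputable def nrm : Rays N → (Fin N → ℝ) :=
  Quot.lift (fun w : {w : Fin N → ℝ // w ≠ 0} => ‖w.1‖⁻¹ • w.1) (by
    rintro v w ⟨c, hc, h⟩
    have hv : ‖v.1‖ ≠ 0 := norm_ne_zero_iff.mpr v.2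
    rw [h, norm_smul, Real.norm_of_nonneg hc.le, smul_smul]
    congr 1
    field_simp)

theorem nrm_mk (w : {w : Fin N → ℝ // w ≠ 0}) : nrm (Quot.mk _ w : Rays N) = ‖w.1‖⁻¹ • w.1 := rfl

theorem continuous_nrm : Continuous (nrm (N := N)) := by
  apply continuous_quot_lift
  exact (continuous_subtype_val.norm.inv₀ (fun w => norm_ne_zero_iff.mpr w.2)).smul
    continuous_subtype_val

theorem rays_eq_iff (v w : {w : Fin N → ℝ // w ≠ 0}) :
    (Quot.mk _ v : Rays N) = Quot.mk _ w ↔ ∃ c : ℝ, 0 < c ∧ w.1 = c • v.1 := by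
  constructor
  · intro h
    have h1 := congrArg nrm h
    rw [nrm_mk, nrm_mk] at h1
    have hv : 0 < ‖v.1‖ := norm_pos_iff.mpr v.2
    have hw : 0 < ‖w.1‖ := norm_pos_iff.mpr w.2
    refine ⟨‖w.1‖ * ‖v.1‖⁻¹, mul_pos hw (inv_pos.mpr hv), ?_⟩
    rw [← smul_smul, h1, smul_smul, mul_inv_cancel₀ hw.ne', one_smul]
  · rintro ⟨c, hc, h⟩
    exact Quot.sound ⟨c, hc, h⟩

theorem nrm_injective : Function.Injective (nrm (N := N)) := by
  intro r r' h
  induction r using Quot.inductionOn with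
  | h v =>
    induction r' using Quot.inductionOn with
    | h w =>
      rw [nrm_mk, nrm_mk] at h
      have hv : 0 < ‖v.1‖ := norm_pos_iff.mpr v.2
      have hw : 0 < ‖w.1‖ := norm_pos_iff.mpr w.2
      refine Quot.sound ⟨‖w.1‖ * ‖v.1‖⁻¹, mul_pos hw (inv_pos.mpr hv), ?_⟩
      rw [← smul_smul, h, smul_smul, mul_inv_cancel₀ hw.ne', one_smul]

instance instT2Rays : T2Space (Rays N) :=
  T2Space.of_injective_continuous nrm_injective continuous_nrm

/-! ### the map from the realization of `R(K)` to rays -/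

section RFan

variable {ι : Type} (K : ι → Set (Fin N → ℝ))

theorem toVec_eq (n : ICone) (φ : RFan.Cone K n) (v : Fin n.dim → ℝ) :
    RFan.toVec K n φ v = realExt φ.1 v := rfl

theorem toVec_ne_zero (n : ICone) (φ : RFan.Cone K n) (v : Orth n) :
    RFan.toVec K n φ v.1 ≠ 0 :=
  realExt_ne_zero φ.1 φ.2.1 v.1 v.2.1 v.2.2

/-- the map to rays on the disjoint union -/
noncomputable def g₀ : Pt (RFan K) → Rays N := fun p =>
  Quot.mk _ ⟨RFan.toVec K p.1.1 p.1.2 p.2.1, toVec_ne_zero K p.1.1 p.1.2 p.2⟩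

theorem map_val {k n : ICone} (ψ : k ⟶ n) (φ : (RFan K).obj (op n)) :
    ((RFan K).map ψ.op φ).1 = φ.1.comp ψ.toLin := rfl

theorem g₀_rel (a b : Pt (RFan K)) (h : Rel (RFan K) a b) : g₀ K a = g₀ K b := by
  obtain ⟨ψ, ξ, v, w, c, hc, hw⟩ := h
  apply Quot.sound
  refine ⟨c, hc, ?_⟩
  change RFan.toVec K _ ξ w.1 = c • RFan.toVec K _ ((RFan K).map ψ.op ξ) v.1
  rw [toVec_eq, toVec_eq, map_val, realExt_comp, hw, realExt_smul]

/-- the map from the projective realization of `R(K)` to the space of rays -/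
noncomputable def g : P (RFan K) → Rays N := Quot.lift (g₀ K) (g₀_rel K)

theorem g_mk (n : ICone) (φ : (RFan K).obj (op n)) (v : Orth n)
    (h : RFan.toVec K n φ v.1 ≠ 0) :
    g K (P.mk φ v) = Quot.mk _ ⟨RFan.toVec K n φ v.1, h⟩ := rfl

theorem continuous_g : Continuous (g K) := by
  apply continuous_quot_lift
  apply continuous_sigma
  rintro ⟨n, φ⟩
  apply continuous_quot_mk.comp
  apply Continuous.subtype_mk
  exact (continuous_realExt φ.1).comp (continuous_val n)

theorem g_injective : Function.Injective (g K) := by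
  intro x x' h
  obtain ⟨n, φ, v, rfl⟩ := exists_rep x
  obtain ⟨n', ψ, v', rfl⟩ := exists_rep x'
  rw [g_mk K n φ v (toVec_ne_zero K n φ v), g_mk K n' ψ v' (toVec_ne_zero K n' ψ v')] at h
  obtain ⟨c, hc, h⟩ := (rays_eq_iff _ _).mp h
  obtain ⟨j, α, β, z, a, b, hαβ, ha, hb, hy, hy'⟩ := kglLin φ.1 ψ.1 φ.2.1 ψ.2.1 v v' c hc h
  have e : (RFan K).map α.op φ = (RFan K).map β.op ψ := Subtype.ext hαβ
  rw [← mk_glue α φ z v a ha hy, ← mk_glue β ψ z v' b hb hy', e]

end RFan

/-! ### rational polyhedral cones -/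

/-- the real vector of an integral vector -/
def cst (g : Fin N → ℤ) : Fin N → ℝ := fun j => (g j : ℝ)

/-- the cone generated by a finite set of integral vectors -/
def coneOf (S : Finset (Fin N → ℤ)) : Set (Fin N → ℝ) :=
  {x | ∃ c : (Fin N → ℤ) → ℝ, (∀ g, 0 ≤ c g) ∧ x = Finset.sum S fun g => c g • cst g}

theorem isClosed_coneOf (S : Finset (Fin N → ℤ)) : IsClosed (coneOf S) :=
  FanCara.isClosed_cone cst S

theorem coneOf_mono {J S : Finset (Fin N → ℤ)} (h : J ⊆ S) : coneOf J ⊆ coneOf S := by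
  classical
  rintro x ⟨d, hd, rfl⟩
  refine ⟨fun g => if g ∈ J then d g else 0, fun g => ?_, ?_⟩
  · dsimp only
    split_ifs
    · exact hd g
    · exact le_rfl
  · rw [← Finset.sum_subset h]
    · exact Finset.sum_congr rfl (fun g hg => by dsimp only; rw [if_pos hg])
    · intro g _ hgJ
      dsimp only
      rw [if_neg hgJ, zero_smul]

theorem smul_mem_coneOf (S : Finset (Fin N → ℤ)) (x : Fin N → ℝ) (hx : x ∈ coneOf S) (t : ℝ)
    (ht : 0 ≤ t) : t • x ∈ coneOf S := by
  obtain ⟨c, hc, rfl⟩ := hx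
  refine ⟨fun g => t * c g, fun g => mul_nonneg ht (hc g), ?_⟩
  rw [Finset.smul_sum]
  exact Finset.sum_congr rfl (fun g _ => by rw [smul_smul])

/-- the family of vectors of a finite set, indexed by `Fin` -/
noncomputable def famJ (J : Finset (Fin N → ℤ)) : Fin J.card → Fin N → ℤ :=
  fun i => (J.equivFin.symm i).1

theorem famJ_mem (J : Finset (Fin N → ℤ)) (i : Fin J.card) : famJ J i ∈ J :=
  (J.equivFin.symm i).2

theorem sum_famJ {M : Type*} [AddCommMonoid M] (J : Finset (Fin N → ℤ)) (F : (Fin N → ℤ) → M) :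
    ∑ i, F (famJ J i) = ∑ g ∈ J, F g := by
  rw [← Finset.sum_coe_sort J F]
  exact J.equivFin.symm.sum_comp (fun g : J => F g.1)

theorem equivFin_famJ (J : Finset (Fin N → ℤ)) (i : Fin J.card) :
    J.equivFin ⟨famJ J i, famJ_mem J i⟩ = i := by
  unfold famJ
  simp

theorem realExt_linOf {d : ℕ} (fam : Fin d → Fin N → ℤ) (z : Fin d → ℝ) :
    realExt (linOf fam) z = ∑ i, z i • cst (fam i) := by
  funext j
  unfold realExt
  rw [Finset.sum_apply]
  refine Finset.sum_congr rfl (fun i _ => ?_)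
  rw [linOf_single, Pi.smul_apply, smul_eq_mul, mul_comm]
  rfl

theorem linOf_injective {d : ℕ} (fam : Fin d → Fin N → ℤ)
    (hli : LinearIndependent ℝ (fun i => cst (fam i))) : Function.Injective (linOf fam) := by
  rw [injective_iff_map_eq_zero]
  intro x hx
  have h1 : realExt (linOf fam) (fun i => (x i : ℝ)) = 0 := by
    rw [realExt_intCast, hx]
    funext j
    simp
  rw [realExt_linOf] at h1
  funext i
  have := Fintype.linearIndependent_iff.mp hli (fun i => (x i : ℝ)) h1 i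
  exact_mod_cast this

theorem linearIndependent_famJ (J : Finset (Fin N → ℤ))
    (hJ : LinearIndepOn ℝ cst (J : Set (Fin N → ℤ))) :
    LinearIndependent ℝ (fun i => cst (famJ J i)) :=
  hJ.linearIndependent.comp J.equivFin.symm J.equivFin.symm.injective

theorem sum_mem_coneOf (J : Finset (Fin N → ℤ)) (z : Fin J.card → ℝ) (hz : ∀ i, 0 ≤ z i) :
    ∑ i, z i • cst (famJ J i) ∈ coneOf J := by
  classical
  refine ⟨fun g => if h : g ∈ J then z (J.equivFin ⟨g, h⟩) else 0, fun g => ?_, ?_⟩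
  · dsimp only
    split_ifs
    · exact hz _
    · exact le_rfl
  · rw [← sum_famJ J]
    refine Finset.sum_congr rfl (fun i _ => ?_)
    dsimp only
    rw [dif_pos (famJ_mem J i), equivFin_famJ]

/-- a nonzero vector of a rational polyhedral cone lies in the simplicial cone of a linearly
independent subfamily of generators -/
theorem exists_cell (S : Finset (Fin N → ℤ)) (w : Fin N → ℝ) (hw0 : w ≠ 0) (hw : w ∈ coneOf S) :
    ∃ J ⊆ S, ∃ (h0 : 0 < J.card), LinearIndependent ℝ (fun i => cst (famJ J i)) ∧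
      ∃ z : Orth ⟨⟨J.card, h0⟩⟩, realExt (linOf (famJ J)) z.1 = w := by
  classical
  obtain ⟨c, hc, rfl⟩ := hw
  obtain ⟨J, hJS, hJli, d, hd, hsum⟩ := FanCara.conic_caratheodory cst S c hc
  have h0 : 0 < J.card := by
    rw [Finset.card_pos]
    by_contra hne
    rw [Finset.not_nonempty_iff_eq_empty] at hne
    apply hw0
    rw [hsum, hne, Finset.sum_empty]
  have hsum' : ∑ i, d (famJ J i) • cst (famJ J i) = ∑ g ∈ S, c g • cst g := by
    rw [hsum]
    exact sum_famJ J (fun g => d g • cst g)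
  refine ⟨J, hJS, h0, linearIndependent_famJ J hJli, ⟨fun i => d (famJ J i), fun i => hd _, ?_⟩, ?_⟩
  · intro hz
    apply hw0
    rw [← hsum']
    refine Finset.sum_eq_zero (fun i _ => ?_)
    have : d (famJ J i) = 0 := congrFun hz i
    rw [this, zero_smul]
  · rw [realExt_linOf]
    exact hsum'

/-! ### the image of the map to rays -/

/-- the real extension of an integral map sending nonnegative integral vectors into a closed cone
sends the nonnegative orthant into that cone -/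
theorem realExt_mem {n : ICone} (C : Set (Fin N → ℝ)) (hC : IsClosed C)
    (hCs : ∀ x ∈ C, ∀ t : ℝ, 0 ≤ t → t • x ∈ C) (φ : (Fin n.dim → ℤ) →ₗ[ℤ] (Fin N → ℤ))
    (hφ : ∀ v : Fin n.dim → ℤ, (∀ i, 0 ≤ v i) → (fun j => (φ v j : ℝ)) ∈ C) (v : Orth n) :
    realExt φ v.1 ∈ C := by
  have hA : IsClosed {w : Orth n | realExt φ w.1 ∈ C} :=
    hC.preimage ((continuous_realExt φ).comp (continuous_val n))
  refine mem_of_approx _ hA v (fun M => ?_)
  change realExt φ (approx v M) ∈ C
  have hpos : (0 : ℝ) < (M : ℝ) + 1 := by positivity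
  have h1 : approx v M = ((M : ℝ) + 1)⁻¹ • (fun i => ((⌈((M : ℝ) + 1) * v.1 i⌉ : ℤ) : ℝ)) := by
    funext i
    rw [approx_val, Pi.smul_apply, smul_eq_mul]
    field_simp
  rw [h1, realExt_smul, realExt_intCast]
  refine hCs _ (hφ _ (fun i => ?_)) _ (inv_pos.mpr hpos).le
  exact Int.ceil_nonneg (mul_nonneg hpos.le (v.2.1 i))

section Main

variable {ι : Type} (K : ι → Set (Fin N → ℝ)) {m : ι → ℕ}
  (gen : ∀ a, Fin (m a) → Finset (Fin N → ℤ)) (hgen : ∀ a, K a = ⋃ l, coneOf (gen a l))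

include hgen

theorem isClosed_K (a : ι) : IsClosed (K a) := by
  rw [hgen a]
  exact isClosed_iUnion_of_finite (fun l => isClosed_coneOf _)

theorem smul_mem_K (a : ι) (x : Fin N → ℝ) (hx : x ∈ K a) (t : ℝ) (ht : 0 ≤ t) : t • x ∈ K a := by
  rw [hgen a] at hx ⊢
  obtain ⟨l, hl⟩ := Set.mem_iUnion.mp hx
  exact Set.mem_iUnion.mpr ⟨l, smul_mem_coneOf _ x hl t ht⟩

/-- the vector of a point of the realization lies in the cone indexing its cell -/
theorem toVec_mem {n : ICone} (φ : RFan.Cone K n) (v : Orth n) :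
    RFan.toVec K n φ v.1 ∈ Set.iUnion K := by
  obtain ⟨a, ha⟩ := φ.2.2
  exact Set.mem_iUnion.mpr ⟨a, realExt_mem (K a) (isClosed_K K gen hgen a)
    (smul_mem_K K gen hgen a) φ.1 ha v⟩

/-- every nonzero vector of `⋃ K a` is the vector of a point in a cell spanned by linearly independent
generators -/
theorem exists_preimage (a : ι) (w : Fin N → ℝ) (hw0 : w ≠ 0) (hw : w ∈ K a) :
    ∃ (l : Fin (m a)) (J : Finset (Fin N → ℤ)) (_ : J ∈ (gen a l).powerset) (h0 : 0 < J.card)
      (hinj : Function.Injective (linOf (famJ J)))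
      (hK' : ∃ a, ∀ v : Fin J.card → ℤ, (∀ i, 0 ≤ v i) →
        (fun j => (linOf (famJ J) v j : ℝ)) ∈ K a) (z : Orth ⟨⟨J.card, h0⟩⟩),
      RFan.toVec K ⟨⟨J.card, h0⟩⟩ ⟨linOf (famJ J), hinj, hK'⟩ z.1 = w := by
  have hw' := hw
  rw [hgen a] at hw'
  obtain ⟨l, hl⟩ := Set.mem_iUnion.mp hw'
  obtain ⟨J, hJS, h0, hli, z, hz⟩ := exists_cell (gen a l) w hw0 hl
  refine ⟨l, J, Finset.mem_powerset.mpr hJS, h0, linOf_injective _ hli, ⟨a, fun v hv => ?_⟩, z, hz⟩
  rw [hgen a]
  refine Set.mem_iUnion.mpr ⟨l, coneOf_mono hJS ?_⟩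
  have h1 := realExt_intCast (linOf (famJ J)) v
  rw [realExt_linOf] at h1
  rw [← h1]
  exact sum_mem_coneOf J _ (fun i => by exact_mod_cast hv i)

theorem compactSpace_P [Finite ι] : CompactSpace (P (RFan K)) := by
  constructor
  have hcov : (Set.univ : Set (P (RFan K))) =
      ⋃ (t : Σ a : ι, Σ l : Fin (m a), ((gen a l).powerset : Set (Finset (Fin N → ℤ)))),
        ⋃ (h0 : 0 < t.2.2.1.card), ⋃ (hinj : Function.Injective (linOf (famJ t.2.2.1))),
          ⋃ (hK' : ∃ a, ∀ v : Fin t.2.2.1.card → ℤ, (∀ i, 0 ≤ v i) →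
            (fun j => (linOf (famJ t.2.2.1) v j : ℝ)) ∈ K a),
            P.mk (F := RFan K) (n := ⟨⟨t.2.2.1.card, h0⟩⟩) ⟨linOf (famJ t.2.2.1), hinj, hK'⟩ ''
              simplex ⟨⟨t.2.2.1.card, h0⟩⟩ := by
    symm
    rw [Set.eq_univ_iff_forall]
    intro x
    obtain ⟨n, φ, v, rfl⟩ := exists_rep x
    obtain ⟨a, ha⟩ := φ.2.2
    have hw : RFan.toVec K n φ v.1 ∈ K a :=
      realExt_mem (K a) (isClosed_K K gen hgen a) (smul_mem_K K gen hgen a) φ.1 ha v
    obtain ⟨l, J, hJ, h0, hinj, hK', z, hz⟩ :=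
      exists_preimage K gen hgen a _ (toVec_ne_zero K n φ v) hw
    have key : P.mk (F := RFan K) (n := ⟨⟨J.card, h0⟩⟩) ⟨linOf (famJ J), hinj, hK'⟩ z =
        P.mk φ v := by
      apply g_injective K
      rw [g_mk K _ _ z (toVec_ne_zero K _ _ z), g_mk K n φ v (toVec_ne_zero K n φ v)]
      congr 1
      exact Subtype.ext hz
    simp only [Set.mem_iUnion]
    refine ⟨⟨a, l, ⟨J, hJ⟩⟩, h0, hinj, hK', nu z, nu_mem_simplex z, ?_⟩
    exact (mk_nu _ z).trans key
  rw [hcov]
  exact isCompact_iUnion fun t => isCompact_iUnion fun h0 => isCompact_iUnion fun hinj =>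
    isCompact_iUnion fun hK' => (isCompact_simplex _).image (continuous_mk _)

/-- statement of S19372 -/
theorem main [Finite ι] :
    ∃ g : Fan.P (RFan K) → Fan.Rays N,
      (∀ (n : ICone) (φ : (RFan K).obj (op n)) (v : Fan.Orth n) (h : RFan.toVec K n φ v.1 ≠ 0),
        g (Fan.P.mk φ v) = Quot.mk _ ⟨RFan.toVec K n φ v.1, h⟩) ∧
      Topology.IsEmbedding g ∧
      Set.range g = {r | ∃ w : {w : Fin N → ℝ // w ≠ 0}, r = Quot.mk _ w ∧ w.1 ∈ Set.iUnion K} := by
  refine ⟨g K, fun n φ v h => g_mk K n φ v h, ?_, ?_⟩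
  · haveI := compactSpace_P K gen hgen
    exact ((continuous_g K).isClosedEmbedding (g_injective K)).isEmbedding
  · ext r
    constructor
    · rintro ⟨x, rfl⟩
      obtain ⟨n, φ, v, rfl⟩ := exists_rep x
      exact ⟨⟨_, toVec_ne_zero K n φ v⟩, g_mk K n φ v _, toVec_mem K gen hgen φ v⟩
    · rintro ⟨w, rfl, hw⟩
      obtain ⟨a, ha⟩ := Set.mem_iUnion.mp hw
      obtain ⟨l, J, hJ, h0, hinj, hK', z, hz⟩ := exists_preimage K gen hgen a w.1 w.2 ha
      refine ⟨P.mk (F := RFan K) (n := ⟨⟨J.card, h0⟩⟩) ⟨linOf (famJ J), hinj, hK'⟩ z, ?_⟩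
      rw [g_mk K _ _ z (toVec_ne_zero K _ _ z)]
      congr 1
      exact Subtype.ext hz

end Main

end Groth.Agent.Helper7.FanRays
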