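import Groth.Agent.Lib.Helper7.FanPullback

/-!
# Formal fans: representable fans, bounded maps, quasi-separated fans (helper7)
-/

set_option autoImplicit false
set_option linter.unusedSectionVars false
set_option linter.style.haveILetI false

universe u

open CategoryTheory Opposite Instab
open Instab Instab.Fan

namespace Groth.Agent.Helper7.FanRep

open Groth.Agent.Helper7.FanBasic Groth.Agent.Helper7.FanMaps Groth.Agent.Helper7.FanPullback

variable {F G : Fan.{u}}

theorem rep_map_down {n k k' : ICone} (ψ : k' ⟶ k) (x : (uliftYoneda.{u}.obj n).obj (op k)) :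
    ((uliftYoneda.{u}.obj n).map ψ.op x).down = ψ ≫ x.down := rfl

/-- equality of points of a representable fan -/
theorem rep_mk_eq {n k₁ k₂ : ICone} (x₁ : (uliftYoneda.{u}.obj n).obj (op k₁))
    (x₂ : (uliftYoneda.{u}.obj n).obj (op k₂)) (v₁ : Orth k₁) (v₂ : Orth k₂)
    (h : P.mk x₁ v₁ = P.mk x₂ v₂) :
    ∃ c : ℝ, 0 < c ∧ x₁.down.realMap v₁.1 = c • x₂.down.realMap v₂.1 := by
  rw [mk_eq_mk_iff] at h
  obtain ⟨k, ψ₁, ψ₂, y, c₁, c₂, h1, hc₁, hc₂, h2, h3⟩ := h
  have h4 : ψ₁ ≫ x₁.down = ψ₂ ≫ x₂.down := by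
    have := congrArg ULift.down h1
    rwa [rep_map_down, rep_map_down] at this
  refine ⟨c₁ / c₂, div_pos hc₁ hc₂, ?_⟩
  rw [h2, h3, realMap_smul, realMap_smul, ← realMap_comp, ← realMap_comp, h4, smul_smul]
  congr 1
  field_simp

/-- a cone morphism maps nonzero nonnegative vectors to nonzero vectors -/
theorem realMap_ne_zero {k n : ICone} (φ : k ⟶ n) (v : Orth k) : φ.realMap v.1 ≠ 0 := by
  classical
  intro h0
  -- a positive coordinate of `v`
  have hex : ∃ i, 0 < v.1 i := by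
    by_contra hne
    push Not at hne
    apply v.2.2
    funext i
    exact le_antisymm (hne i) (v.2.1 i)
  obtain ⟨i, hi⟩ := hex
  -- a positive coordinate of `φ e_i`
  have hne : φ.toLin (Pi.single i 1) ≠ 0 := by
    intro h
    have h1 : (Pi.single i 1 : Fin k.dim → ℤ) = 0 := by
      apply φ.injective
      rw [h, map_zero]
    have := congrFun h1 i
    simp at this
  have hex2 : ∃ j, 0 < φ.toLin (Pi.single i 1) j := by
    by_contra hne2
    push Not at hne2
    apply hne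
    funext j
    exact le_antisymm (hne2 j) (toLin_single_nonneg φ i j)
  obtain ⟨j, hj⟩ := hex2
  have h1 := congrFun h0 j
  unfold ICone.Hom.realMap at h1
  simp only [Pi.zero_apply] at h1
  have h2 : 0 < ∑ i', ((φ.toLin (Pi.single i' 1) j : ℤ) : ℝ) * v.1 i' := by
    refine Finset.sum_pos' (fun i' _ => mul_nonneg ?_ (v.2.1 i')) ⟨i, Finset.mem_univ i, ?_⟩
    · exact_mod_cast toLin_single_nonneg φ i' j
    · exact mul_pos (by exact_mod_cast hj) hi
  linarith

/-- the image of a point of an orthant under a cone morphism -/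
noncomputable def pushOrth {k n : ICone} (φ : k ⟶ n) (v : Orth k) : Orth n :=
  ⟨φ.realMap v.1, realMap_nonneg φ v.1 v.2.1, realMap_ne_zero φ v⟩

theorem pushOrth_val {k n : ICone} (φ : k ⟶ n) (v : Orth k) :
    (pushOrth φ v).1 = φ.realMap v.1 := rfl

theorem mk_map_eq_mk_pushOrth {k n : ICone} (φ : k ⟶ n) (ξ : F.obj (op n)) (v : Orth k) :
    P.mk (F.map φ.op ξ) v = P.mk ξ (pushOrth φ v) :=
  mk_glue φ ξ v (pushOrth φ v) 1 one_pos (by rw [one_smul]; rfl)

/-- statement of S19373 -/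
theorem exists_finset_pairs (hG : G.IsQuasiSeparated) {n n' : ICone} (ξ : G.obj (op n))
    (ξ' : G.obj (op n')) :
    ∃ s : Finset (Σ k : ICone, (k ⟶ n) × (k ⟶ n')),
      (∀ e ∈ s, G.map e.2.1.op ξ = G.map e.2.2.op ξ') ∧
      ∀ (v : Orth n) (w : Orth n'), P.mk ξ v = P.mk ξ' w ↔
        ∃ e ∈ s, ∃ (y : Orth e.1) (c c' : ℝ), 0 < c ∧ 0 < c' ∧
          v.1 = c • e.2.1.realMap y.1 ∧ w.1 = c' • e.2.2.realMap y.1 := by
  classical
  obtain ⟨s, hs⟩ := hG n n' ξ ξ'
  let conv : (Σ m : ICone, (Limits.pullback (coneMap ξ) (coneMap ξ')).obj (op m)) →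
      Σ k : ICone, (k ⟶ n) × (k ⟶ n') := fun e =>
    ⟨e.1, (((Limits.pullback.fst (coneMap ξ) (coneMap ξ')).app _ e.2).down,
      ((Limits.pullback.snd (coneMap ξ) (coneMap ξ')).app _ e.2).down)⟩
  have hconv : ∀ e, G.map (conv e).2.1.op ξ = G.map (conv e).2.2.op ξ' := by
    intro e
    have := pb_condition (coneMap ξ) (coneMap ξ') e.2
    rw [← coneMap_app ξ, ← coneMap_app ξ']
    exact this
  refine ⟨s.image conv, ?_, ?_⟩
  · intro e he
    obtain ⟨e₀, -, rfl⟩ := Finset.mem_image.mp he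
    exact hconv e₀
  · intro v w
    constructor
    · intro h
      have h' : P.map (coneMap ξ) (P.mk (ULift.up (𝟙 n)) v) =
          P.map (coneMap ξ') (P.mk (ULift.up (𝟙 n')) w) := by
        rw [map_mk, map_mk, coneMap_app, coneMap_app]
        simpa using h
      obtain ⟨z, hz1, hz2⟩ := exists_lift _ _ _ _ h'
      obtain ⟨e, he, y, rfl⟩ := hs z
      refine ⟨conv e, Finset.mem_image_of_mem _ he, y, ?_⟩
      rw [map_mk] at hz1 hz2
      obtain ⟨c, hc, h1⟩ := rep_mk_eq _ _ _ _ hz1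
      obtain ⟨c', hc', h2⟩ := rep_mk_eq _ _ _ _ hz2
      rw [realMap_id] at h1 h2
      refine ⟨c⁻¹, c'⁻¹, inv_pos.mpr hc, inv_pos.mpr hc', ?_, ?_⟩
      · change v.1 = c⁻¹ • ICone.Hom.realMap _ y.1
        rw [h1, smul_smul, inv_mul_cancel₀ hc.ne', one_smul]
      · change w.1 = c'⁻¹ • ICone.Hom.realMap _ y.1
        rw [h2, smul_smul, inv_mul_cancel₀ hc'.ne', one_smul]
    · rintro ⟨e, he, y, c, c', hc, hc', h1, h2⟩
      obtain ⟨e₀, -, rfl⟩ := Finset.mem_image.mp he
      rw [mk_eq_mk_iff]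
      exact ⟨_, _, _, y, c, c', hconv e₀, hc, hc', h1, h2⟩

/-- representable fans are bounded -/
theorem isBounded_rep (n : ICone) : IsBounded (uliftYoneda.{u}.obj n) := by
  classical
  refine ⟨{⟨n, ULift.up (𝟙 n)⟩}, fun x => ?_⟩
  obtain ⟨k, x₀, v, rfl⟩ := exists_rep x
  refine ⟨_, Finset.mem_singleton_self _, pushOrth x₀.down v, ?_⟩
  change P.mk (ULift.up (𝟙 n)) (pushOrth x₀.down v) = P.mk x₀ v
  rw [← mk_map_eq_mk_pushOrth]
  congr 1

theorem app_fst_naturality {F' : Fan.{u}} (f : F ⟶ G) (g : F' ⟶ G) {k k' : ICone} (φ : k' ⟶ k)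
    (ρ : (Limits.pullback f g).obj (op k)) :
    (Limits.pullback.fst f g).app _ ((Limits.pullback f g).map φ.op ρ) =
      F.map φ.op ((Limits.pullback.fst f g).app _ ρ) :=
  naturality' _ φ ρ

theorem app_snd_naturality {F' : Fan.{u}} (f : F ⟶ G) (g : F' ⟶ G) {k k' : ICone} (φ : k' ⟶ k)
    (ρ : (Limits.pullback f g).obj (op k)) :
    (Limits.pullback.snd f g).app _ ((Limits.pullback f g).map φ.op ρ) =
      F'.map φ.op ((Limits.pullback.snd f g).app _ ρ) :=
  naturality' _ φ ρ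

/-- maps from bounded fans to quasi-separated fans are bounded -/
theorem isBoundedMap_of_isQuasiSeparated (hG : G.IsQuasiSeparated) (f : F ⟶ G)
    (hF : F.IsBounded) : IsBoundedMap f := by
  classical
  intro m τ
  obtain ⟨s, hs⟩ := hF
  have hB : ∀ e : (Σ n : ICone, F.obj (op n)),
      IsBounded (Limits.pullback (coneMap (f.app _ e.2)) (coneMap τ)) := fun e => hG _ _ _ _
  choose sB hsB using hB
  let θ : ∀ e : (Σ n : ICone, F.obj (op n)),
      Limits.pullback (coneMap (f.app _ e.2)) (coneMap τ) ⟶ Limits.pullback f (coneMap τ) :=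
    fun e => Limits.pullback.lift (Limits.pullback.fst _ _ ≫ coneMap e.2) (Limits.pullback.snd _ _)
      (by rw [Category.assoc, coneMap_comp, Limits.pullback.condition])
  have hθ1 : ∀ e, θ e ≫ Limits.pullback.fst f (coneMap τ) =
      Limits.pullback.fst _ _ ≫ coneMap e.2 := fun e => Limits.pullback.lift_fst _ _ _
  have hθ2 : ∀ e, θ e ≫ Limits.pullback.snd f (coneMap τ) = Limits.pullback.snd _ _ :=
    fun e => Limits.pullback.lift_snd _ _ _
  refine ⟨s.biUnion (fun e => (sB e).image (fun b => ⟨b.1, (θ e).app _ b.2⟩)), fun z => ?_⟩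
  obtain ⟨k, ρ, y, rfl⟩ := exists_rep z
  obtain ⟨e, he, v, hv⟩ := hs (P.mk ((Limits.pullback.fst f (coneMap τ)).app _ ρ) y)
  change P.mk e.2 v = P.mk ((Limits.pullback.fst f (coneMap τ)).app _ ρ) y at hv
  rw [mk_eq_mk_iff] at hv
  obtain ⟨k', φ₂, φ₁, y'', c₂, c₁, h1, hc₂, hc₁, h2, h3⟩ := hv
  set ψ : k ⟶ m := ((Limits.pullback.snd f (coneMap τ)).app _ ρ).down with hψ
  have hsnd : (Limits.pullback.snd f (coneMap τ)).app _ ρ = ULift.up ψ := rfl
  have hb : (coneMap (f.app _ e.2)).app _ (ULift.up φ₂) =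
      (coneMap τ).app _ (ULift.up (φ₁ ≫ ψ)) := by
    rw [coneMap_app, coneMap_app, ← naturality', h1, naturality', pb_condition f (coneMap τ) ρ,
      hsnd, coneMap_app]
    simp
  set b := pbElem (coneMap (f.app _ e.2)) (coneMap τ) (ULift.up φ₂) (ULift.up (φ₁ ≫ ψ)) hb
    with hbdef
  have hθb : (θ e).app _ b = (Limits.pullback f (coneMap τ)).map φ₁.op ρ := by
    apply pb_ext
    · have e1 : (Limits.pullback.fst f (coneMap τ)).app _ ((θ e).app _ b) =
          (θ e ≫ Limits.pullback.fst f (coneMap τ)).app _ b := by simp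
      rw [e1, hθ1 e, app_fst_naturality, ← h1]
      have e2 : (Limits.pullback.fst (coneMap (f.app _ e.2)) (coneMap τ) ≫ coneMap e.2).app _ b =
          (coneMap e.2).app _ ((Limits.pullback.fst (coneMap (f.app _ e.2)) (coneMap τ)).app _ b) := by
        simp
      rw [e2, hbdef, pbElem_fst, coneMap_app]
    · have e1 : (Limits.pullback.snd f (coneMap τ)).app _ ((θ e).app _ b) =
          (θ e ≫ Limits.pullback.snd f (coneMap τ)).app _ b := by simp
      rw [e1, hθ2 e, app_snd_naturality, hbdef, pbElem_snd, hsnd]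
      rfl
  have hz : P.mk ρ y = P.map (θ e) (P.mk b y'') := by
    rw [map_mk, hθb]
    exact (mk_glue φ₁ ρ y'' y c₁ hc₁ h3).symm
  obtain ⟨b₀, hb₀, y₀, hy₀⟩ := hsB e (P.mk b y'')
  change P.mk b₀.2 y₀ = P.mk b y'' at hy₀
  refine ⟨⟨b₀.1, (θ e).app _ b₀.2⟩, ?_, y₀, ?_⟩
  · rw [Finset.mem_biUnion]
    exact ⟨e, he, Finset.mem_image_of_mem _ hb₀⟩
  · change P.mk ((θ e).app _ b₀.2) y₀ = P.mk ρ y
    rw [hz, ← hy₀, map_mk]

/-- statement of S19359 -/
theorem isQuasiSeparated_iff (G : Fan.{u}) :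
    G.IsQuasiSeparated ↔ ∀ (F : Fan.{u}) (f : F ⟶ G), F.IsBounded → IsBoundedMap f := by
  constructor
  · intro hG F f hF
    exact isBoundedMap_of_isQuasiSeparated hG f hF
  · intro h n₀ n₁ σ₀ σ₁
    exact h _ (coneMap σ₀) (isBounded_rep n₀) n₁ σ₁

end Groth.Agent.Helper7.FanRep
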