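import Groth.Agent.Lib.Helper7.FanTop2

/-!
# Formal fans: convergent sequences in quasi-separated fans (helper7)
-/

set_option autoImplicit false
set_option linter.unusedSectionVars false
set_option linter.style.haveILetI false

universe u

open CategoryTheory Opposite Instab Filter
open Instab Instab.Fan

namespace Groth.Agent.Helper7.FanSeq

open Groth.Agent.Helper7.FanBasic Groth.Agent.Helper7.FanMaps Groth.Agent.Helper7.FanPullback
  Groth.Agent.Helper7.FanRep Groth.Agent.Helper7.FanTop Groth.Agent.Helper7.FanTop2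

variable {F : Fan.{u}}

instance instFirstCountableOrth (n : ICone) : FirstCountableTopology (Orth n) :=
  inferInstanceAs (FirstCountableTopology {v : Fin n.dim → ℝ // (∀ i, 0 ≤ v i) ∧ v ≠ 0})

theorem mk_nu {n : ICone} (ξ : F.obj (op n)) (v : Orth n) : P.mk ξ (nu v) = P.mk ξ v :=
  (mk_smul ξ v (nu v) _ (inv_pos.mpr (csum_pos v)) (nu_val v)).symm

/-- the image of the cone over a closed subset of the simplex is closed -/
theorem isClosed_mk_image_nu (hF : F.IsQuasiSeparated) {n : ICone} (ξ : F.obj (op n))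
    (K : Set (Orth n)) (hK : IsClosed K) : IsClosed (P.mk ξ '' (nu ⁻¹' K)) := by
  apply isClosed_mk_image hF ξ _ (hK.preimage (continuous_nu n))
  intro v w hv c hc hw
  change nu w ∈ K
  rw [nu_eq_of_smul v w c hc hw]
  exact hv

/-- points of a quasi-separated fan are closed -/
theorem isClosed_singleton' (hF : F.IsQuasiSeparated) (p : P F) : IsClosed ({p} : Set (P F)) := by
  obtain ⟨n, ξ, v, rfl⟩ := exists_rep p
  have h := isClosed_mk_image_nu hF ξ {nu v} isClosed_singleton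
  have heq : P.mk ξ '' (nu ⁻¹' {nu v}) = {P.mk ξ v} := by
    ext q
    constructor
    · rintro ⟨w, hw, rfl⟩
      have hw' : nu w = nu v := hw
      rw [Set.mem_singleton_iff, ← mk_nu ξ w, hw', mk_nu]
    · rintro rfl
      exact ⟨v, rfl, rfl⟩
  rwa [heq] at h

/-- statement of S19369 -/
theorem exists_subseq_lift (hF : F.IsQuasiSeparated) (x : ℕ → P F) (x₀ : P F)
    (hx : Tendsto x atTop (nhds x₀)) :
    ∃ (n : ICone) (σ : F.obj (op n)) (r : ℕ → ℕ) (v : ℕ → Orth n) (v₀ : Orth n),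
      StrictMono r ∧ (∀ j, P.mk σ (v j) = x (r j)) ∧ P.mk σ v₀ = x₀ ∧
        Tendsto v atTop (nhds v₀) := by
  classical
  by_cases h0 : ∃ᶠ i in atTop, x i = x₀
  · -- constant subsequence
    obtain ⟨r, hr, hxr⟩ := extraction_of_frequently_atTop h0
    obtain ⟨n, σ, v₀, rfl⟩ := exists_rep x₀
    exact ⟨n, σ, r, fun _ => v₀, v₀, hr, fun j => (hxr j).symm, rfl, tendsto_const_nhds⟩
  have hev : ∀ᶠ i in atTop, x i ≠ x₀ := by
    rw [Filter.not_frequently] at h0
    exact h0
  by_cases hA : ∃ (n : ICone) (ξ : F.obj (op n)), ∃ᶠ i in atTop, x i ∈ P.cell ξ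
  · obtain ⟨n, ξ, hfreq⟩ := hA
    obtain ⟨r₁, hr₁, hcell⟩ := extraction_of_frequently_atTop hfreq
    choose w₀ hw₀ using hcell
    -- normalized lifts
    let w : ℕ → Orth n := fun j => nu (w₀ j)
    have hw : ∀ j, P.mk ξ (w j) = x (r₁ j) := fun j => by rw [mk_nu]; exact hw₀ j
    obtain ⟨w', -, r₂, hr₂, hlim⟩ :=
      (isCompact_simplex n).tendsto_subseq (x := w) (fun j => nu_mem_simplex _)
    refine ⟨n, ξ, r₁ ∘ r₂, w ∘ r₂, w', hr₁.comp hr₂, fun j => hw (r₂ j), ?_, hlim⟩
    by_contra hne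
    -- the subsequence `y j = x (r₁ (r₂ j))` tends to `x₀`
    have hy : Tendsto (fun j => x (r₁ (r₂ j))) atTop (nhds x₀) :=
      hx.comp ((hr₁.comp hr₂).tendsto_atTop)
    -- eventually `y j ≠ x₀`
    have hev' : ∀ᶠ j in atTop, x (r₁ (r₂ j)) ≠ x₀ :=
      ((hr₁.comp hr₂).tendsto_atTop).eventually hev
    obtain ⟨J, hJ⟩ := eventually_atTop.mp hev'
    -- the closed set
    have hlimJ : Tendsto (fun j => w (r₂ (j + J))) atTop (nhds w') :=
      hlim.comp (tendsto_add_atTop_nat J)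
    have hKc : IsClosed (insert w' (Set.range (fun j => w (r₂ (j + J))))) :=
      hlimJ.isCompact_insert_range.isClosed
    have hZ := isClosed_mk_image_nu hF ξ _ hKc
    have hyZ : ∀ᶠ j in atTop, x (r₁ (r₂ j)) ∈
        P.mk ξ '' (nu ⁻¹' (insert w' (Set.range (fun j => w (r₂ (j + J)))))) := by
      refine eventually_atTop.mpr ⟨J, fun j hj => ?_⟩
      refine ⟨w (r₂ j), ?_, hw (r₂ j)⟩
      refine Or.inr ⟨j - J, ?_⟩
      change w (r₂ (j - J + J)) = nu (w (r₂ j))
      rw [Nat.sub_add_cancel hj]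
      -- `nu (nu _) = nu _`
      exact (nu_eq_of_smul _ _ _ (inv_pos.mpr (csum_pos _)) (nu_val (w₀ (r₂ j)))).symm
    have hx₀Z := hZ.mem_of_tendsto hy hyZ
    obtain ⟨u, hu, hux⟩ := hx₀Z
    rcases hu with hu | ⟨j, hj⟩
    · apply hne
      have hu' : nu u = w' := hu
      rw [← hux, ← mk_nu ξ u, hu']
    · have hj' : w (r₂ (j + J)) = nu u := hj
      apply hJ (j + J) (Nat.le_add_left _ _)
      rw [← hw (r₂ (j + J)), hj', mk_nu, hux]
  · -- every cell contains only finitely many terms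
    exfalso
    push Not at hA
    haveI : T1Space (P F) := ⟨fun p => isClosed_singleton' hF p⟩
    let D : Set (P F) := {p | (∃ i, x i = p) ∧ p ≠ x₀}
    have hD : IsClosed D := by
      rw [(quasiSeparated_topology hF).2]
      intro n ξ
      have hfin : {i | x i ∈ P.cell ξ}.Finite := by
        by_contra hinf
        have hfr : ∃ᶠ i in atTop, x i ∈ P.cell ξ := Nat.frequently_atTop_iff_infinite.mpr hinf
        exact hfr (hA n ξ)
      refine Set.Finite.isClosed (Set.Finite.subset (hfin.image x) ?_)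
      rintro p ⟨⟨⟨i, rfl⟩, -⟩, hpc⟩
      exact ⟨i, hpc, rfl⟩
    have hx₀D : x₀ ∉ D := fun h => h.2 rfl
    have hnhds : Dᶜ ∈ nhds x₀ := hD.isOpen_compl.mem_nhds hx₀D
    have h1 : ∀ᶠ i in atTop, x i ∈ Dᶜ := hx hnhds
    obtain ⟨i, hi1, hi2⟩ := (h1.and hev).exists
    exact hi1 ⟨⟨i, rfl⟩, hi2⟩

end Groth.Agent.Helper7.FanSeq
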