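import Groth.Agent.Lib.Helper7.FanRep

/-!
# Formal fans: topology of the projective realization (helper7)
-/

set_option autoImplicit false
set_option linter.unusedSectionVars false
set_option linter.style.haveILetI false

universe u

open CategoryTheory Opposite Instab
open Instab Instab.Fan

namespace Groth.Agent.Helper7.FanTop

open Groth.Agent.Helper7.FanBasic Groth.Agent.Helper7.FanMaps Groth.Agent.Helper7.FanPullback
  Groth.Agent.Helper7.FanRep

variable {F G : Fan.{u}}

/-! ### basic continuity -/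

theorem continuous_mk {n : ICone} (ξ : F.obj (op n)) : Continuous (fun v : Orth n => P.mk ξ v) := by
  have h1 : Continuous (fun v : Orth n => (⟨⟨n, ξ⟩, v⟩ : Pt F)) :=
    continuous_sigmaMk (σ := fun e : (Σ n : ICone, F.obj (op n)) => Orth e.1) (i := ⟨n, ξ⟩)
  exact continuous_quot_mk.comp h1

instance instT2Orth (n : ICone) : T2Space (Orth n) :=
  inferInstanceAs (T2Space {v : Fin n.dim → ℝ // (∀ i, 0 ≤ v i) ∧ v ≠ 0})

theorem isInducing_val (n : ICone) : Topology.IsInducing (fun v : Orth n => v.1) :=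
  Topology.IsInducing.subtypeVal

theorem isClosed_iff (S : Set (P F)) :
    IsClosed S ↔ ∀ (n : ICone) (ξ : F.obj (op n)), IsClosed {v : Orth n | P.mk ξ v ∈ S} := by
  have hq : Topology.IsQuotientMap (fun a : Pt F => (Quot.mk (Rel F) a : P F)) :=
    isQuotientMap_quot_mk
  refine Iff.trans (hq.isClosed_preimage (s := S)).symm ?_
  have h2 := isClosed_sigma_iff (σ := fun e : (Σ n : ICone, F.obj (op n)) => Orth e.1)
    (s := (fun a : Pt F => (Quot.mk (Rel F) a : P F)) ⁻¹' S)
  constructor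
  · intro h n ξ
    exact h2.mp h ⟨n, ξ⟩
  · intro h
    refine h2.mpr ?_
    rintro ⟨n, ξ⟩
    exact h n ξ

theorem continuous_map (f : F ⟶ G) : Continuous (P.map f) := by
  unfold P.map
  apply continuous_quot_lift
  apply continuous_quot_mk.comp
  apply continuous_sigma
  rintro ⟨n, ξ⟩
  exact continuous_sigmaMk (σ := fun e : (Σ n : ICone, G.obj (op n)) => Orth e.1)
    (i := ⟨n, f.app _ ξ⟩)

theorem continuous_val (n : ICone) : Continuous (fun v : Orth n => v.1) :=
  continuous_subtype_val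

theorem continuous_realMap {k n : ICone} (φ : k ⟶ n) : Continuous φ.realMap := by
  unfold ICone.Hom.realMap
  exact continuous_pi (fun j => continuous_finsetSum _ (fun i _ =>
    continuous_const.mul (continuous_apply i)))

theorem continuous_pushOrth {k n : ICone} (φ : k ⟶ n) : Continuous (pushOrth φ) :=
  Continuous.subtype_mk ((continuous_realMap φ).comp (continuous_val k)) _

/-! ### normalization -/

/-- the coordinate sum -/
noncomputable def csum {n : ICone} (v : Orth n) : ℝ := ∑ i, v.1 i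

theorem csum_pos {n : ICone} (v : Orth n) : 0 < csum v := by
  unfold csum
  have hex : ∃ i, 0 < v.1 i := by
    by_contra hne
    push Not at hne
    apply v.2.2
    funext i
    exact le_antisymm (hne i) (v.2.1 i)
  obtain ⟨i, hi⟩ := hex
  exact Finset.sum_pos' (fun i _ => v.2.1 i) ⟨i, Finset.mem_univ i, hi⟩

theorem continuous_csum (n : ICone) : Continuous (csum (n := n)) := by
  unfold csum
  exact continuous_finsetSum _ (fun i _ => (continuous_apply i).comp (continuous_val n))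

/-- rescaling a point of the orthant -/
noncomputable def scale {n : ICone} (c : ℝ) (hc : 0 < c) (v : Orth n) : Orth n :=
  ⟨c • v.1, fun i => mul_nonneg hc.le (v.2.1 i), fun h => v.2.2 (by
    have : c⁻¹ • (c • v.1) = 0 := by rw [h, smul_zero]
    rwa [smul_smul, inv_mul_cancel₀ hc.ne', one_smul] at this)⟩

theorem scale_val {n : ICone} (c : ℝ) (hc : 0 < c) (v : Orth n) : (scale c hc v).1 = c • v.1 := rfl

/-- normalization to the standard simplex -/
noncomputable def nu {n : ICone} (v : Orth n) : Orth n :=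
  scale (csum v)⁻¹ (inv_pos.mpr (csum_pos v)) v

theorem nu_val {n : ICone} (v : Orth n) : (nu v).1 = (csum v)⁻¹ • v.1 := rfl

theorem csum_nu {n : ICone} (v : Orth n) : csum (nu v) = 1 := by
  unfold csum
  rw [nu_val]
  simp only [Pi.smul_apply, smul_eq_mul]
  rw [← Finset.mul_sum]
  exact inv_mul_cancel₀ (csum_pos v).ne'

theorem continuous_nu (n : ICone) : Continuous (nu (n := n)) := by
  apply Continuous.subtype_mk
  exact ((continuous_csum n).inv₀ (fun v => (csum_pos v).ne')).smul (continuous_val n)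

theorem csum_smul {n : ICone} (v w : Orth n) (c : ℝ) (h : w.1 = c • v.1) :
    csum w = c * csum v := by
  unfold csum
  rw [h, Finset.mul_sum]
  rfl

theorem nu_eq_of_smul {n : ICone} (v w : Orth n) (c : ℝ) (hc : 0 < c) (h : w.1 = c • v.1) :
    nu w = nu v := by
  apply Subtype.ext
  rw [nu_val, nu_val, csum_smul v w c h, h, smul_smul]
  congr 1
  have := (csum_pos v).ne'
  field_simp

theorem exists_smul_of_nu_eq {n : ICone} (v w : Orth n) (h : nu w = nu v) :
    ∃ c : ℝ, 0 < c ∧ w.1 = c • v.1 := by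
  have h1 := congrArg Subtype.val h
  rw [nu_val, nu_val] at h1
  refine ⟨csum w * (csum v)⁻¹, mul_pos (csum_pos w) (inv_pos.mpr (csum_pos v)), ?_⟩
  have h2 : w.1 = csum w • ((csum w)⁻¹ • w.1) := by
    rw [smul_smul, mul_inv_cancel₀ (csum_pos w).ne', one_smul]
  rw [h2, h1, smul_smul]

/-- the standard simplex in the orthant -/
def simplex (n : ICone) : Set (Orth n) := {v | csum v = 1}

theorem nu_mem_simplex {n : ICone} (v : Orth n) : nu v ∈ simplex n := csum_nu v

theorem isCompact_simplex (n : ICone) : IsCompact (simplex n) := by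
  rw [(isInducing_val n).isCompact_iff]
  have h : ((fun v : Orth n => v.1) '' simplex n : Set (Fin n.dim → ℝ)) =
      stdSimplex ℝ (Fin n.dim) := by
    ext x
    constructor
    · rintro ⟨v, hv, rfl⟩
      exact ⟨v.2.1, hv⟩
    · rintro ⟨hx0, hx1⟩
      refine ⟨⟨x, hx0, ?_⟩, hx1, rfl⟩
      intro h0
      rw [h0] at hx1
      simp at hx1
  rw [h]
  exact isCompact_stdSimplex ℝ (Fin n.dim)

/-! ### the closed cone lemma -/

/-- the image of a closed, scaling-stable set of the orthant under a cone morphism is closed -/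
theorem isClosed_cone_image {k n : ICone} (φ : k ⟶ n) (C : Set (Orth k)) (hC : IsClosed C)
    (hCs : ∀ v w : Orth k, v ∈ C → ∀ c : ℝ, 0 < c → w.1 = c • v.1 → w ∈ C) :
    IsClosed {w : Orth n | ∃ y ∈ C, ∃ c : ℝ, 0 < c ∧ w.1 = c • φ.realMap y.1} := by
  have hK : IsCompact (C ∩ simplex k) := (isCompact_simplex k).inter_left hC
  have hK' : IsCompact ((fun y => nu (pushOrth φ y)) '' (C ∩ simplex k)) :=
    hK.image ((continuous_nu n).comp (continuous_pushOrth φ))
  have heq : {w : Orth n | ∃ y ∈ C, ∃ c : ℝ, 0 < c ∧ w.1 = c • φ.realMap y.1} =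
      nu ⁻¹' ((fun y => nu (pushOrth φ y)) '' (C ∩ simplex k)) := by
    ext w
    constructor
    · rintro ⟨y, hy, c, hc, hw⟩
      have hy1 : nu y ∈ C := hCs y (nu y) hy _ (inv_pos.mpr (csum_pos y)) (nu_val y)
      refine ⟨nu y, ⟨hy1, nu_mem_simplex y⟩, ?_⟩
      change nu (pushOrth φ (nu y)) = nu w
      have h1 : (pushOrth φ (nu y)).1 = (csum y)⁻¹ • (pushOrth φ y).1 := by
        rw [pushOrth_val, pushOrth_val, nu_val, realMap_smul]
      rw [nu_eq_of_smul _ _ _ (inv_pos.mpr (csum_pos y)) h1]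
      exact (nu_eq_of_smul (pushOrth φ y) w c hc hw).symm
    · rintro ⟨y, ⟨hy, -⟩, hyw⟩
      change nu (pushOrth φ y) = nu w at hyw
      obtain ⟨c, hc, h⟩ := exists_smul_of_nu_eq (pushOrth φ y) w hyw.symm
      exact ⟨y, hy, c, hc, h⟩
  rw [heq]
  exact hK'.isClosed.preimage (continuous_nu n)

/-! ### rays and cone morphisms -/

theorem hom_mono {j k n : ICone} (α β : j ⟶ k) (φ : k ⟶ n) (h : α ≫ φ = β ≫ φ) : α = β := by
  apply ICone.Hom.ext
  have h1 : φ.toLin.comp α.toLin = φ.toLin.comp β.toLin := congrArg ICone.Hom.toLin h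
  apply LinearMap.ext
  intro x
  apply φ.injective
  exact LinearMap.congr_fun h1 x

/-- a cone morphism is injective on rays of the orthant -/
theorem ray_injective {k n : ICone} (φ : k ⟶ n) (y y' : Orth k) (c : ℝ) (hc : 0 < c)
    (h : φ.realMap y'.1 = c • φ.realMap y.1) : ∃ c' : ℝ, 0 < c' ∧ y'.1 = c' • y.1 := by
  obtain ⟨j, α, β, z, a, b, hαβ, ha, hb, hy, hy'⟩ := kgl φ φ y y' c hc h
  have hαβ' : α = β := hom_mono α β φ hαβ
  subst hαβ'
  refine ⟨b / a, div_pos hb ha, ?_⟩
  rw [hy', hy, smul_smul]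
  congr 1
  field_simp

/-! ### bounded maps -/

/-- the structure of the fibres of a map of fans over a cone, in terms of the fibre product -/
theorem map_eq_mk_of_cell (ψ : F ⟶ G) {n : ICone} (ξ : G.obj (op n)) {m : ICone}
    (ρ : (Limits.pullback ψ (coneMap ξ)).obj (op m)) (y : Orth m) (v : Orth n) (c : ℝ) (hc : 0 < c)
    (hv : v.1 = c • ((Limits.pullback.snd ψ (coneMap ξ)).app _ ρ).down.realMap y.1) :
    P.map ψ (P.mk ((Limits.pullback.fst ψ (coneMap ξ)).app _ ρ) y) = P.mk ξ v := by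
  rw [map_mk, pb_condition ψ (coneMap ξ) ρ]
  have h1 : (Limits.pullback.snd ψ (coneMap ξ)).app _ ρ =
      ULift.up ((Limits.pullback.snd ψ (coneMap ξ)).app _ ρ).down := rfl
  rw [h1, coneMap_app]
  exact mk_glue _ ξ y v c hc hv

theorem exists_cell_of_map_eq_mk (ψ : F ⟶ G) {n : ICone} (ξ : G.obj (op n))
    (s : Finset (Σ m : ICone, (Limits.pullback ψ (coneMap ξ)).obj (op m)))
    (hs : ∀ z : P (Limits.pullback ψ (coneMap ξ)), ∃ e ∈ s, z ∈ P.cell e.2)
    (x : P F) (v : Orth n) (h : P.map ψ x = P.mk ξ v) :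
    ∃ e ∈ s, ∃ y : Orth e.1, x = P.mk ((Limits.pullback.fst ψ (coneMap ξ)).app _ e.2) y ∧
      ∃ c : ℝ, 0 < c ∧ v.1 = c • ((Limits.pullback.snd ψ (coneMap ξ)).app _ e.2).down.realMap y.1 := by
  have h' : P.map ψ x = P.map (coneMap ξ) (P.mk (ULift.up (𝟙 n)) v) := by
    rw [map_mk, coneMap_app, h]
    simp
  obtain ⟨z, hz1, hz2⟩ := exists_lift _ _ _ _ h'
  obtain ⟨e, he, y, rfl⟩ := hs z
  rw [map_mk] at hz1 hz2
  refine ⟨e, he, y, hz1.symm, ?_⟩
  obtain ⟨c, hc, h1⟩ := rep_mk_eq _ _ _ _ hz2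
  rw [realMap_id] at h1
  refine ⟨c⁻¹, inv_pos.mpr hc, ?_⟩
  rw [h1, smul_smul, inv_mul_cancel₀ hc.ne', one_smul]

/-- statement of S19363 -/
theorem bounded_map_props (ψ : F ⟶ G) (hψ : IsBoundedMap ψ) :
    IsClosedMap (P.map ψ) ∧ (∀ y : P G, (P.map ψ ⁻¹' {y}).Finite) ∧
    ∀ (n : ICone) (ξ : G.obj (op n)), ∃ s : Finset (Σ k : ICone, k ⟶ n),
      {v : Orth n | P.mk ξ v ∈ Set.range (P.map ψ)} =
        ⋃ e ∈ s, {v : Orth n | ∃ (y : Orth e.1) (c : ℝ), 0 < c ∧ v.1 = c • e.2.realMap y.1} := by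
  classical
  refine ⟨?_, ?_, ?_⟩
  · -- closed map
    intro C hC
    rw [isClosed_iff]
    intro n ξ
    obtain ⟨s, hs⟩ := hψ n ξ
    have heq : {v : Orth n | P.mk ξ v ∈ P.map ψ '' C} =
        ⋃ e ∈ s, {v : Orth n | ∃ y ∈ {y : Orth e.1 |
            P.mk ((Limits.pullback.fst ψ (coneMap ξ)).app _ e.2) y ∈ C}, ∃ c : ℝ, 0 < c ∧
          v.1 = c • ((Limits.pullback.snd ψ (coneMap ξ)).app _ e.2).down.realMap y.1} := by
      ext v
      simp only [Set.mem_iUnion, Set.mem_ofPred_eq, exists_prop]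
      constructor
      · rintro ⟨x, hxC, hx⟩
        obtain ⟨e, he, y, rfl, c, hc, hv⟩ := exists_cell_of_map_eq_mk ψ ξ s hs x v hx
        exact ⟨e, he, y, hxC, c, hc, hv⟩
      · rintro ⟨e, he, y, hy, c, hc, hv⟩
        exact ⟨_, hy, map_eq_mk_of_cell ψ ξ e.2 y v c hc hv⟩
    rw [heq]
    refine Set.Finite.isClosed_biUnion s.finite_toSet (fun e _ => ?_)
    apply isClosed_cone_image
    · exact hC.preimage (continuous_mk _)
    · intro v w hv c hc hw
      change P.mk _ w ∈ C
      rw [← mk_smul _ v w c hc hw]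
      exact hv
  · -- finite fibres
    intro y₀
    obtain ⟨n, ξ, v, rfl⟩ := exists_rep y₀
    obtain ⟨s, hs⟩ := hψ n ξ
    let g : (Σ m : ICone, (Limits.pullback ψ (coneMap ξ)).obj (op m)) → P F := fun e =>
      if h : ∃ y : Orth e.1, ∃ c : ℝ, 0 < c ∧
          v.1 = c • ((Limits.pullback.snd ψ (coneMap ξ)).app _ e.2).down.realMap y.1 then
        P.mk ((Limits.pullback.fst ψ (coneMap ξ)).app _ e.2) h.choose
      else P.mk ((Limits.pullback.fst ψ (coneMap ξ)).app _ e.2) (Orth.ones e.1)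
    refine Set.Finite.subset (s.finite_toSet.image g) ?_
    intro x hx
    have hx' : P.map ψ x = P.mk ξ v := hx
    obtain ⟨e, he, y, rfl, c, hc, hv⟩ := exists_cell_of_map_eq_mk ψ ξ s hs x v hx'
    refine ⟨e, he, ?_⟩
    have hex : ∃ y : Orth e.1, ∃ c : ℝ, 0 < c ∧
        v.1 = c • ((Limits.pullback.snd ψ (coneMap ξ)).app _ e.2).down.realMap y.1 :=
      ⟨y, c, hc, hv⟩
    simp only [g, dif_pos hex]
    obtain ⟨c', hc', hv'⟩ := hex.choose_spec
    -- `φ y = (c⁻¹ c') • φ y_e`
    have h1 : ((Limits.pullback.snd ψ (coneMap ξ)).app _ e.2).down.realMap y.1 =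
        (c⁻¹ * c') • ((Limits.pullback.snd ψ (coneMap ξ)).app _ e.2).down.realMap hex.choose.1 := by
      have h2 : c • ((Limits.pullback.snd ψ (coneMap ξ)).app _ e.2).down.realMap y.1 =
          c' • ((Limits.pullback.snd ψ (coneMap ξ)).app _ e.2).down.realMap hex.choose.1 := by
        rw [← hv, ← hv']
      have h3 : ((Limits.pullback.snd ψ (coneMap ξ)).app _ e.2).down.realMap y.1 =
          c⁻¹ • (c • ((Limits.pullback.snd ψ (coneMap ξ)).app _ e.2).down.realMap y.1) := by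
        rw [smul_smul, inv_mul_cancel₀ hc.ne', one_smul]
      rw [h3, h2, smul_smul]
    obtain ⟨c'', hc'', hy⟩ := ray_injective _ hex.choose y (c⁻¹ * c')
      (mul_pos (inv_pos.mpr hc) hc') h1
    exact mk_smul _ _ _ c'' hc'' hy
  · -- the image in a cell
    intro n ξ
    obtain ⟨s, hs⟩ := hψ n ξ
    refine ⟨s.image (fun e => ⟨e.1, ((Limits.pullback.snd ψ (coneMap ξ)).app _ e.2).down⟩), ?_⟩
    ext v
    simp only [Set.mem_iUnion, Set.mem_ofPred_eq, exists_prop, Finset.mem_image]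
    constructor
    · rintro ⟨x, hx⟩
      obtain ⟨e, he, y, -, c, hc, hv⟩ := exists_cell_of_map_eq_mk ψ ξ s hs x v hx
      exact ⟨_, ⟨e, he, rfl⟩, y, c, hc, hv⟩
    · rintro ⟨_, ⟨e, he, rfl⟩, y, c, hc, hv⟩
      exact ⟨_, map_eq_mk_of_cell ψ ξ e.2 y v c hc hv⟩

end Groth.Agent.Helper7.FanTop
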