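import Mathlib
import Groth.Agent.Lib.Helper7.SepFlat1

/-!
# Fibrewise criterion for separating families: associated primes avoiding an element (helper7)
-/

set_option autoImplicit false
set_option linter.style.haveILetI false
set_option linter.unusedSectionVars false

open TensorProduct

universe u

namespace Groth.Agent.Helper7.FibCrit

open Groth.Agent.Helper7.SepAbs Groth.Agent.Helper7.SepBC

section AssH

variable {B : Type u} [CommRing B] {M : Type u} [AddCommGroup M] [Module B M]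

/-- the ideal of elements `b` with `b • z` killed by a power of `h` -/
def torsIdeal (h : B) (z : M) : Ideal B where
  carrier := {b | ∃ n : ℕ, h ^ n • b • z = 0}
  add_mem' := by
    rintro a b ⟨n, hn⟩ ⟨m, hm⟩
    refine ⟨n + m, ?_⟩
    rw [add_smul, smul_add, pow_add, mul_smul, mul_smul, hm, smul_zero, add_zero, smul_comm, hn,
      smul_zero]
  zero_mem' := ⟨0, by simp⟩
  smul_mem' := by
    rintro c b ⟨n, hn⟩
    refine ⟨n, ?_⟩
    rw [smul_eq_mul, mul_smul, smul_comm, hn, smul_zero]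

lemma mem_torsIdeal {h : B} {z : M} {b : B} :
    b ∈ torsIdeal h z ↔ ∃ n : ℕ, h ^ n • b • z = 0 := Iff.rfl

/-- an element which is not `h`-power torsion has a multiple whose annihilator is a prime not
containing `h` -/
theorem exists_prime_ann [IsNoetherianRing B] (h : B) (x : M) (hx : ∀ n : ℕ, h ^ n • x ≠ 0) :
    ∃ (c : B) (P : Ideal B), P.IsPrime ∧ h ∉ P ∧ ∀ b : B, b ∈ P ↔ b • c • x = 0 := by
  let 𝒮 : Set (Ideal B) := {J | ∃ c : B, (∀ n : ℕ, h ^ n • c • x ≠ 0) ∧ J = torsIdeal h (c • x)}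
  have hne : 𝒮.Nonempty := ⟨torsIdeal h ((1 : B) • x), 1, by simpa using hx, rfl⟩
  obtain ⟨P, ⟨c₀, hc₀, rfl⟩, hmax⟩ :=
    set_has_maximal_iff_noetherian.mpr (inferInstance : IsNoetherian B B) 𝒮 hne
  have hhP : h ∉ torsIdeal h (c₀ • x) := by
    rintro ⟨n, hn⟩
    apply hc₀ (n + 1)
    rw [pow_succ, mul_smul]
    exact hn
  have hprime : (torsIdeal h (c₀ • x)).IsPrime := by
    refine ⟨?_, ?_⟩
    · intro htop
      have : (1 : B) ∈ torsIdeal h (c₀ • x) := htop ▸ Submodule.mem_top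
      obtain ⟨n, hn⟩ := this
      rw [one_smul] at hn
      exact hc₀ n hn
    · intro a b hab
      rw [or_iff_not_imp_left]
      intro ha
      have ha' : ∀ n : ℕ, h ^ n • (a * c₀) • x ≠ 0 := by
        intro n hn
        apply ha
        refine ⟨n, ?_⟩
        rw [← mul_smul a c₀]
        exact hn
      have hle : torsIdeal h (c₀ • x) ≤ torsIdeal h ((a * c₀) • x) := by
        rintro b' ⟨n, hn⟩
        refine ⟨n, ?_⟩
        rw [mul_smul, smul_comm b' a, smul_comm (h ^ n) a, hn, smul_zero]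
      have heq : torsIdeal h (c₀ • x) = torsIdeal h ((a * c₀) • x) := by
        by_contra hneq
        exact hmax _ ⟨a * c₀, ha', rfl⟩ (lt_of_le_of_ne hle hneq)
      rw [heq]
      obtain ⟨n, hn⟩ := hab
      refine ⟨n, ?_⟩
      rw [mul_smul, ← mul_smul b a, mul_comm b a]
      exact hn
  -- uniform exponent
  obtain ⟨G, hG⟩ := (isNoetherianRing_iff_ideal_fg B).mp inferInstance (torsIdeal h (c₀ • x))
  have hex : ∀ g : G, ∃ n : ℕ, h ^ n • (g : B) • c₀ • x = 0 := fun g =>
    (hG ▸ Ideal.subset_span g.2 : (g : B) ∈ torsIdeal h (c₀ • x))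
  choose ng hng using hex
  let n₀ := Finset.univ.sup ng
  have hunif : ∀ b ∈ torsIdeal h (c₀ • x), h ^ n₀ • b • c₀ • x = 0 := by
    intro b hb
    rw [← hG] at hb
    refine Submodule.span_induction (p := fun b _ => h ^ n₀ • b • c₀ • x = 0) ?_ ?_ ?_ ?_ hb
    · intro g hg
      have hle : ng ⟨g, hg⟩ ≤ n₀ := Finset.le_sup (Finset.mem_univ (⟨g, hg⟩ : G))
      obtain ⟨k, hk⟩ := Nat.exists_eq_add_of_le hle
      rw [hk, pow_add, mul_comm, mul_smul, hng ⟨g, hg⟩, smul_zero]
    · simp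
    · intro a b _ _ ha hb
      rw [add_smul, smul_add, ha, hb, add_zero]
    · intro r b _ hb
      rw [smul_eq_mul, mul_smul, smul_comm (h ^ n₀) r, hb, smul_zero]
  refine ⟨h ^ n₀ * c₀, torsIdeal h (c₀ • x), hprime, hhP, fun b => ⟨fun hb => ?_, fun hb => ?_⟩⟩
  · rw [mul_smul, smul_comm b (h ^ n₀)]
    exact hunif b hb
  · refine ⟨n₀, ?_⟩
    rw [mul_smul, smul_comm b (h ^ n₀)] at hb
    exact hb

end AssH

end Groth.Agent.Helper7.FibCrit
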