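import Mathlib
import Groth.Agent.Lib.Helper7.FibCrit1

/-!
# Fibrewise criterion for separating families: the core argument (helper7)
-/

set_option autoImplicit false
set_option linter.style.haveILetI false
set_option linter.unusedSectionVars false

open TensorProduct

universe u

namespace Groth.Agent.Helper7.FibCrit

open Groth.Agent.Helper7.SepAbs Groth.Agent.Helper7.SepBC

section Mu

variable {A : Type u} (B : Type u) [CommRing A] [CommRing B] [Algebra A B]
  (M : Type u) [AddCommGroup M] [Module B M] [Module A M] [IsScalarTower A B M] (I : Ideal A)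

/-- multiplication map `M ⊗ I → M` -/
noncomputable def mu : M ⊗[A] I →ₗ[B] M :=
  (TensorProduct.AlgebraTensorModule.rid A B M).toLinearMap ∘ₗ
    (TensorProduct.AlgebraTensorModule.lTensor B M (I.subtype : I →ₗ[A] A))

@[simp]
lemma mu_tmul (m : M) (a : I) : mu B M I (m ⊗ₜ a) = (a : A) • m := by
  simp [mu]

lemma mu_mem (z : M ⊗[A] I) :
    mu B M I z ∈ (I.map (algebraMap A B)) • (⊤ : Submodule B M) := by
  induction z using TensorProduct.induction_on with
  | zero => simp
  | tmul m a =>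
    rw [mu_tmul, ← algebraMap_smul B (a : A) m]
    exact Submodule.smul_mem_smul (Ideal.mem_map_of_mem _ a.2) Submodule.mem_top
  | add x y hx hy =>
    rw [map_add]
    exact Submodule.add_mem _ hx hy

lemma le_range_mu :
    (I.map (algebraMap A B)) • (⊤ : Submodule B M) ≤ LinearMap.range (mu B M I) := by
  rw [Submodule.smul_le]
  intro r hr
  refine Submodule.span_induction (p := fun r _ => ∀ n ∈ (⊤ : Submodule B M),
    r • n ∈ LinearMap.range (mu B M I)) ?_ ?_ ?_ ?_ hr
  · rintro _ ⟨a, ha, rfl⟩ n -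
    exact ⟨n ⊗ₜ ⟨a, ha⟩, by rw [mu_tmul, algebraMap_smul]⟩
  · intro n _
    rw [zero_smul]
    exact Submodule.zero_mem _
  · intro a b _ _ ha hb n hn
    rw [add_smul]
    exact Submodule.add_mem _ (ha n hn) (hb n hn)
  · intro c r _ hr n hn
    rw [smul_eq_mul, mul_smul]
    exact Submodule.smul_mem _ c (hr n hn)

lemma mu_mem_of_mem_smul (p : Ideal A) (z : M ⊗[A] I)
    (hz : z ∈ (p • ⊤ : Submodule A (M ⊗[A] I))) :
    mu B M I z ∈ ((p * I).map (algebraMap A B)) • (⊤ : Submodule B M) := by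
  rw [Ideal.map_mul, Submodule.mul_smul]
  refine Submodule.smul_induction_on hz ?_ ?_
  · intro a ha w _
    rw [LinearMap.map_smul_of_tower, ← algebraMap_smul B a (mu B M I w)]
    exact Submodule.smul_mem_smul (Ideal.mem_map_of_mem _ ha) (mu_mem B M I w)
  · intro x y hx hy
    rw [map_add]
    exact Submodule.add_mem _ hx hy

end Mu


section Core

variable {A B : Type u} [CommRing A] [CommRing B] [Algebra A B]
  {M : Type u} [AddCommGroup M] [Module B M] [Module A M] [IsScalarTower A B M]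
  {ι : Type u} {N : ι → Type u} [∀ i, AddCommGroup (N i)] [∀ i, Module B (N i)]
  [∀ i, Module A (N i)] [∀ i, IsScalarTower A B (N i)]

/-- the fibrewise condition at a prime `p` of `A` -/
def FibP (u : ∀ i, M →ₗ[B] N i) (p : Ideal A) : Prop :=
  ∀ (I : Ideal A) (h : B) (τ : M ⊗[A] I),
    (∀ i, ∃ n : ℕ, (LinearMap.rTensor I ((u i).restrictScalars A)) (h ^ n • τ) = 0) →
    ∃ (m : ℕ) (s : A), s ∉ p ∧ s • h ^ m • τ ∈ (p • ⊤ : Submodule A (M ⊗[A] I))

lemma mu_injective_of_flat (Q : Type u) [AddCommGroup Q] [Module B Q] [Module A Q]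
    [IsScalarTower A B Q] [Module.Flat A Q] (I : Ideal A) : Function.Injective (mu B Q I) := by
  have h1 : Function.Injective (LinearMap.lTensor Q (I.subtype : I →ₗ[A] A)) :=
    Module.Flat.lTensor_preserves_injective_linearMap _ Subtype.val_injective
  intro a b hab
  apply h1
  apply (TensorProduct.AlgebraTensorModule.rid A B Q).injective
  exact hab

lemma mu_natural {Q : Type u} [AddCommGroup Q] [Module B Q] [Module A Q] [IsScalarTower A B Q]
    (v : M →ₗ[B] Q) (I : Ideal A) (z : M ⊗[A] I) :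
    mu B Q I ((LinearMap.rTensor I (v.restrictScalars A)) z) = v (mu B M I z) := by
  induction z using TensorProduct.induction_on with
  | zero => simp
  | tmul m a => simp
  | add x y hx hy => simp only [map_add, hx, hy]

/-- **Core of the fibrewise criterion**: over a Noetherian ring `B`, a family of `B`-linear maps
from a finite module into `A`-flat modules which satisfies the fibrewise condition at every prime
of `A` is separating. -/
theorem hprop_of_fibP [IsNoetherianRing B] [Module.Finite B M] [∀ i, Module.Flat A (N i)]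
    (u : ∀ i, M →ₗ[B] N i) (hfib : ∀ (p : Ideal A) [p.IsPrime], FibP u p) : HProp u := by
  classical
  intro h x hx
  by_contra hcon
  push Not at hcon
  obtain ⟨c, P, hP, hhP, hann⟩ := exists_prime_ann h x hcon
  have hyK : Hyp u h (c • x) := hx.smul c
  generalize c • x = y at hann hyK
  let p : Ideal A := P.comap (algebraMap A B)
  haveI : p.IsPrime := Ideal.comap_isPrime _ _
  let 𝔞 : Ideal B := p.map (algebraMap A B)
  have h𝔞P : 𝔞 ≤ P := Ideal.map_comap_le
  let Ny : Submodule B M := Submodule.span B {y}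
  have h𝔞N : 𝔞 • Ny = ⊥ := by
    rw [eq_bot_iff, Submodule.smul_le]
    intro r hr n hn
    obtain ⟨b, rfl⟩ := Submodule.mem_span_singleton.mp hn
    rw [Submodule.mem_bot, smul_comm, (hann r).mp (h𝔞P hr), smul_zero]
  obtain ⟨k, hk⟩ := Ideal.exists_pow_inf_eq_pow_smul 𝔞 Ny
  have hAR : ∃ n, 𝔞 ^ (n + 1) • (⊤ : Submodule B M) ⊓ Ny = ⊥ := by
    refine ⟨k, ?_⟩
    rw [hk (k + 1) (Nat.le_succ k), Nat.add_sub_cancel_left, pow_one, eq_bot_iff]
    exact (Submodule.smul_mono le_rfl inf_le_right).trans h𝔞N.le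
  have hn₁ : 𝔞 ^ (Nat.find hAR + 1) • (⊤ : Submodule B M) ⊓ Ny = ⊥ := Nat.find_spec hAR
  have hn₁' : 𝔞 ^ (Nat.find hAR) • (⊤ : Submodule B M) ⊓ Ny ≠ ⊥ := by
    rcases Nat.eq_zero_or_pos (Nat.find hAR) with h0 | hpos
    · rw [h0, pow_zero, Ideal.one_eq_top, Submodule.top_smul, top_inf_eq]
      intro hbot
      have hy0 : y ∈ (⊥ : Submodule B M) := hbot ▸ Submodule.mem_span_singleton_self y
      have h1 : (1 : B) ∈ P := (hann 1).mpr (by rw [one_smul]; exact hy0)
      exact hP.ne_top ((Ideal.eq_top_iff_one _).mpr h1)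
    · have := Nat.find_min hAR (Nat.sub_one_lt hpos.ne')
      rwa [Nat.sub_add_cancel hpos] at this
  generalize Nat.find hAR = n₁ at hn₁ hn₁'
  obtain ⟨t, htmem, ht0⟩ := Submodule.exists_mem_ne_zero_of_ne_bot hn₁'
  obtain ⟨ht1, ht2⟩ := Submodule.mem_inf.mp htmem
  obtain ⟨b, rfl⟩ := Submodule.mem_span_singleton.mp ht2
  have ht1' : b • y ∈ LinearMap.range (mu B M (p ^ n₁)) :=
    le_range_mu B M (p ^ n₁) (by rwa [Ideal.map_pow])
  obtain ⟨τ, hτ⟩ := ht1'
  have hypτ : ∀ i, ∃ n : ℕ,
      (LinearMap.rTensor (p ^ n₁ : Ideal A) ((u i).restrictScalars A)) (h ^ n • τ) = 0 := by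
    intro i
    obtain ⟨n, hn⟩ := (hyK.smul b) i
    refine ⟨n, ?_⟩
    apply mu_injective_of_flat (B := B) (N i) (p ^ n₁)
    rw [map_zero, mu_natural, map_smul, hτ]
    exact hn
  obtain ⟨m, s, hs, hmem⟩ := hfib p (p ^ n₁) h τ hypτ
  have h1 := mu_mem_of_mem_smul B M (p ^ n₁) p _ hmem
  rw [LinearMap.map_smul_of_tower, map_smul, hτ, ← pow_succ', Ideal.map_pow] at h1
  have h2 : s • h ^ m • b • y ∈ Ny :=
    Submodule.smul_of_tower_mem _ s (Submodule.smul_mem _ _ (Submodule.smul_mem _ _
      (Submodule.mem_span_singleton_self y)))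
  have h3 : s • h ^ m • b • y ∈ (⊥ : Submodule B M) := hn₁ ▸ Submodule.mem_inf.mpr ⟨h1, h2⟩
  rw [Submodule.mem_bot, ← algebraMap_smul B s, ← mul_smul, ← mul_smul] at h3
  have h4 : algebraMap A B s * (h ^ m * b) ∈ P := (hann _).mpr (by rw [← mul_assoc]; exact h3)
  rcases hP.mem_or_mem h4 with h5 | h5
  · exact hs h5
  · rcases hP.mem_or_mem h5 with h6 | h6
    · exact hhP (hP.mem_of_pow_mem m h6)
    · exact ht0 ((hann b).mp h6)

end Core

end Groth.Agent.Helper7.FibCrit
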