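import Mathlib
import Groth.Agent.Lib.Helper7.FibCrit2

/-!
# Fibrewise criterion: the kernel of `Q → K ⊗ Q` for a field `K` (helper7)
-/

set_option autoImplicit false
set_option linter.style.haveILetI false
set_option linter.unusedSectionVars false

open TensorProduct

universe u

namespace Groth.Agent.Helper7.FibCrit

open Groth.Agent.Helper7.SepAbs Groth.Agent.Helper7.SepBC

section Kernel

/-- an element of `Q` dying in `K ⊗[A] Q`, `K` a field with `ker (A → K) = p`, is killed modulo
`p Q` by an element outside `p`. -/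
theorem exists_smul_mem_of_tmul_eq_zero {A : Type u} [CommRing A] (K : Type u) [Field K]
    [Algebra A K] (p : Ideal A) (hp : RingHom.ker (algebraMap A K) = p) (Q : Type u)
    [AddCommGroup Q] [Module A Q] (q : Q) (hq : (1 : K) ⊗ₜ[A] q = 0) :
    ∃ s : A, s ∉ p ∧ s • q ∈ (p • ⊤ : Submodule A Q) := by
  haveI hprime : p.IsPrime := hp ▸ RingHom.ker_isPrime _
  letI algRK : Algebra (A ⧸ p) K :=
    (Ideal.Quotient.lift p (algebraMap A K) (fun a ha => by
      rw [← hp] at ha
      exact ha)).toAlgebra
  haveI : IsScalarTower A (A ⧸ p) K := IsScalarTower.of_algebraMap_eq (fun a => rfl)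
  have hinj : Function.Injective (algebraMap (A ⧸ p) K) := by
    rw [injective_iff_map_eq_zero]
    intro r hr
    obtain ⟨a, rfl⟩ := Ideal.Quotient.mk_surjective r
    have : algebraMap A K a = 0 := hr
    rw [Ideal.Quotient.eq_zero_iff_mem, ← hp]
    exact this
  letI algκK : Algebra (FractionRing (A ⧸ p)) K := (IsFractionRing.lift hinj).toAlgebra
  haveI : IsScalarTower (A ⧸ p) (FractionRing (A ⧸ p)) K :=
    IsScalarTower.of_algebraMap_eq (fun r => (IsFractionRing.lift_algebraMap hinj r).symm)
  -- step 1: descend to the fraction field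
  have h1 : (1 : K) ⊗ₜ[FractionRing (A ⧸ p)]
      ((1 : FractionRing (A ⧸ p)) ⊗ₜ[A ⧸ p] ((1 : A ⧸ p) ⊗ₜ[A] q)) = 0 := by
    apply (TensorProduct.AlgebraTensorModule.cancelBaseChange (A ⧸ p) (FractionRing (A ⧸ p)) K K
      ((A ⧸ p) ⊗[A] Q)).injective
    rw [TensorProduct.AlgebraTensorModule.cancelBaseChange_tmul, one_smul, map_zero]
    apply (TensorProduct.AlgebraTensorModule.cancelBaseChange A (A ⧸ p) K K Q).injective
    rw [TensorProduct.AlgebraTensorModule.cancelBaseChange_tmul, one_smul, map_zero]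
    exact hq
  have h2 : (1 : FractionRing (A ⧸ p)) ⊗ₜ[A ⧸ p] ((1 : A ⧸ p) ⊗ₜ[A] q) = 0 := by
    have := Module.FaithfullyFlat.tensorProduct_mk_injective (A := FractionRing (A ⧸ p)) (B := K)
      (FractionRing (A ⧸ p) ⊗[A ⧸ p] ((A ⧸ p) ⊗[A] Q))
    apply this
    rw [map_zero]
    exact h1
  obtain ⟨⟨r, hr⟩, hr0⟩ := (IsLocalizedModule.eq_zero_iff (nonZeroDivisors (A ⧸ p))
    (TensorProduct.mk (A ⧸ p) (FractionRing (A ⧸ p)) ((A ⧸ p) ⊗[A] Q) 1)).mp h2
  obtain ⟨s, rfl⟩ := Ideal.Quotient.mk_surjective r
  refine ⟨s, fun hs => ?_, ?_⟩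
  · have : Ideal.Quotient.mk p s = 0 := Ideal.Quotient.eq_zero_iff_mem.mpr hs
    exact nonZeroDivisors.ne_zero hr this
  · have h3 : (Ideal.Quotient.mk p s) ⊗ₜ[A] q = (0 : (A ⧸ p) ⊗[A] Q) := by
      have h4 : (Ideal.Quotient.mk p s) • ((1 : A ⧸ p) ⊗ₜ[A] q) = 0 := hr0
      rwa [TensorProduct.smul_tmul', smul_eq_mul, mul_one] at h4
    have h5 := congrArg (TensorProduct.quotTensorEquivQuotSMul Q p) h3
    rw [TensorProduct.quotTensorEquivQuotSMul_mk_tmul, map_zero,
      Submodule.Quotient.mk_eq_zero] at h5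
    exact h5

end Kernel


section Theta

variable {A : Type u} (B : Type u) [CommRing A] [CommRing B] [Algebra A B]
  (K : Type u) [Field K] [Algebra A K]
  (C : Type u) [CommRing C] [Algebra B C] [Algebra K C] [Algebra A C] [IsScalarTower A B C]
  [IsScalarTower A K C]
  (E : Type u) [AddCommGroup E] [Module A E]
  {β : Type u} (b : Module.Basis β K (K ⊗[A] E))
  (M : Type u) [AddCommGroup M] [Module B M] [Module A M] [IsScalarTower A B M]

open Groth.Agent.Helper7.SepFlat

/-- coordinates of the image of `M ⊗ E` in the fibre -/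
noncomputable def theta [DecidableEq β] : M ⊗[A] E →ₗ[A] (β →₀ C ⊗[B] M) :=
  (Finsupp.mapRange.linearMap (poMap A B K C M)) ∘ₗ
    ((TensorProduct.equivFinsuppOfBasisRight (M := K ⊗[A] M) b).toLinearMap.restrictScalars A) ∘ₗ
    ((TensorProduct.AlgebraTensorModule.distribBaseChange A K M E).toLinearMap.restrictScalars A) ∘ₗ
    (TensorProduct.mk A K (M ⊗[A] E) 1)

variable {M}

lemma theta_tmul [DecidableEq β] (m : M) (e : E) (j : β) :
    theta B K C E b M (m ⊗ₜ e) j = algebraMap K C (b.repr (1 ⊗ₜ e) j) ⊗ₜ[B] m := by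
  simp [theta, TensorProduct.smul_tmul']

lemma theta_natural [DecidableEq β] {M' : Type u} [AddCommGroup M'] [Module B M'] [Module A M']
    [IsScalarTower A B M'] (v : M →ₗ[B] M') (z : M ⊗[A] E) (j : β) :
    theta B K C E b M' ((LinearMap.rTensor E (v.restrictScalars A)) z) j =
      (v.baseChange C) (theta B K C E b M z j) := by
  induction z using TensorProduct.induction_on with
  | zero => simp
  | tmul m e => simp [theta_tmul]
  | add x y hx hy => simp only [map_add, Finsupp.add_apply, hx, hy]

lemma theta_smul [DecidableEq β] (h : B) (z : M ⊗[A] E) (j : β) :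
    theta B K C E b M (h • z) j = algebraMap B C h • theta B K C E b M z j := by
  induction z using TensorProduct.induction_on with
  | zero => simp
  | tmul m e =>
    rw [TensorProduct.smul_tmul', theta_tmul, theta_tmul, TensorProduct.smul_tmul',
      ← TensorProduct.smul_tmul, Algebra.smul_def (R := B) (A := C), smul_eq_mul, mul_comm]
  | add x y hx hy => simp only [smul_add, map_add, Finsupp.add_apply, hx, hy]

variable [Algebra.IsPushout A B K C]

lemma tmul_eq_zero_of_theta [DecidableEq β] (z : M ⊗[A] E) (hz : theta B K C E b M z = 0) :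
    (1 : K) ⊗ₜ[A] z = 0 := by
  have h1 : Function.Injective (Finsupp.mapRange.linearMap (α := β) (poMap A B K C M)) :=
    Finsupp.mapRange_injective _ (map_zero _) (poMap_bijective A B K C M).1
  have h2 := h1 (hz.trans (map_zero _).symm)
  have h3 := (TensorProduct.equivFinsuppOfBasisRight (M := K ⊗[A] M) b).injective
    (h2.trans (map_zero _).symm)
  exact (TensorProduct.AlgebraTensorModule.distribBaseChange A K M E).injective
    (h3.trans (map_zero _).symm)

end Theta


section FibPOf

variable {A B : Type u} [CommRing A] [CommRing B] [Algebra A B]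
  {M : Type u} [AddCommGroup M] [Module B M] [Module A M] [IsScalarTower A B M]
  {ι : Type u} {N : ι → Type u} [∀ i, AddCommGroup (N i)] [∀ i, Module B (N i)]
  [∀ i, Module A (N i)] [∀ i, IsScalarTower A B (N i)]

/-- the fibrewise condition at `p` follows from the separation property of the family base
changed to a fibre ring `C = K ⊗ B`, `K` a field with `ker (A → K) = p`. -/
theorem fibP_of_hprop (u : ∀ i, M →ₗ[B] N i)
    (K : Type u) [Field K] [Algebra A K] (p : Ideal A) (hp : RingHom.ker (algebraMap A K) = p)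
    (C : Type u) [CommRing C] [Algebra B C] [Algebra K C] [Algebra A C] [IsScalarTower A B C]
    [IsScalarTower A K C] [Algebra.IsPushout A B K C]
    (H : HProp (fun i => (u i).baseChange C)) : FibP u p := by
  classical
  intro I h τ hyp
  let b := Module.Free.chooseBasis K (K ⊗[A] I)
  have hc : ∀ j, ∃ m : ℕ, (algebraMap B C h) ^ m • theta B K C I b M τ j = 0 := by
    intro j
    apply H
    intro i
    obtain ⟨n, hn⟩ := hyp i
    refine ⟨n, ?_⟩
    have := theta_natural B K C I b (u i) (h ^ n • τ) j
    rw [hn, map_zero, Finsupp.zero_apply, theta_smul, map_pow] at this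
    exact this.symm
  choose mj hmj using hc
  have hzero : theta B K C I b M (h ^ ((theta B K C I b M τ).support.sup mj) • τ) = 0 := by
    ext j
    rw [theta_smul, map_pow, Finsupp.zero_apply]
    by_cases hj : j ∈ (theta B K C I b M τ).support
    · have hle : mj j ≤ (theta B K C I b M τ).support.sup mj := Finset.le_sup hj
      obtain ⟨k, hk⟩ := Nat.exists_eq_add_of_le hle
      rw [hk, pow_add, mul_comm, mul_smul, hmj j, smul_zero]
    · rw [Finsupp.notMem_support_iff.mp hj, smul_zero]
  obtain ⟨s, hs, hmem⟩ := exists_smul_mem_of_tmul_eq_zero K p hp _ _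
    (tmul_eq_zero_of_theta B K C I b _ hzero)
  exact ⟨_, s, hs, hmem⟩

end FibPOf

end Groth.Agent.Helper7.FibCrit
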