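import Mathlib
import Groth.Agent.Lib.Helper7.FibCrit3
import Groth.Agent.Lib.Helper7.SepCore

/-!
# Fibrewise criterion: the condition on all fields, ascent, and the Noetherian statement (helper7)
-/

set_option autoImplicit false
set_option linter.style.haveILetI false
set_option linter.unusedSectionVars false

open TensorProduct

universe u

namespace Groth.Agent.Helper7.FibCrit

open Groth.Agent.Helper7.SepAbs Groth.Agent.Helper7.SepBC Groth.Agent.Helper7.SepCore

section Transfer

variable {B : Type u} [CommRing B] {M : Type u} [AddCommGroup M] [Module B M]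
  {ι : Type u} {N : ι → Type u} [∀ i, AddCommGroup (N i)] [∀ i, Module B (N i)]
  (u : ∀ i, M →ₗ[B] N i)

/-- transfer of the separation property of a base-changed family along an isomorphism of
algebras -/
theorem hprop_baseChange_of_algEquiv {C C' : Type u} [CommRing C] [CommRing C'] [Algebra B C]
    [Algebra B C'] (e : C ≃ₐ[B] C') (H : HProp (fun i => (u i).baseChange C)) :
    HProp (fun i => (u i).baseChange C') := by
  refine HProp.of_family (e.symm : C' →+* C) _ (L := Unit)
    (M' := fun _ => C ⊗[B] M) (N' := fun _ i => C ⊗[B] N i)
    (fun _ i => (u i).baseChange C)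
    (fun _ => (LinearMap.rTensor M e.symm.toLinearMap).toAddMonoidHom) ?_ ?_
    (fun _ i => (LinearMap.rTensor (N i) e.symm.toLinearMap).toAddMonoidHom) ?_ (fun _ => H)
  · intro _ c x
    induction x using TensorProduct.induction_on with
    | zero => simp
    | tmul c' m =>
      simp only [LinearMap.toAddMonoidHom_coe, TensorProduct.smul_tmul', smul_eq_mul,
        LinearMap.rTensor_tmul, AlgEquiv.toLinearMap_apply, map_mul]
      rfl
    | add x y hx hy => simp only [smul_add, map_add, hx, hy]
  · intro x hx
    have h0 := hx ()
    have hinj : Function.Injective (LinearMap.rTensor M e.symm.toLinearMap) :=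
      (LinearEquiv.rTensor M e.symm.toLinearEquiv).injective
    exact hinj (by rw [map_zero]; exact h0)
  · intro _ i x
    induction x using TensorProduct.induction_on with
    | zero => simp
    | tmul c' m => simp
    | add x y hx hy => simp only [map_add, hx, hy]

/-- transitivity of base change for the separation property -/
theorem hprop_baseChange_trans {C D : Type u} [CommRing C] [CommRing D] [Algebra B C] [Algebra C D]
    [Algebra B D] [IsScalarTower B C D]
    (H : HProp (fun i => ((u i).baseChange C).baseChange D)) :
    HProp (fun i => (u i).baseChange D) := by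
  refine HProp.of_injective _ _
    (TensorProduct.AlgebraTensorModule.cancelBaseChange B C D D M).symm.toLinearMap
    (TensorProduct.AlgebraTensorModule.cancelBaseChange B C D D M).symm.injective
    (fun i => (TensorProduct.AlgebraTensorModule.cancelBaseChange B C D D (N i)).symm.toLinearMap)
    ?_ H
  intro i x
  induction x using TensorProduct.induction_on with
  | zero => simp
  | tmul d m =>
    simp only [LinearMap.baseChange_tmul, LinearEquiv.coe_coe,
      TensorProduct.AlgebraTensorModule.cancelBaseChange_symm_tmul]
  | add x y hx hy => simp only [map_add, hx, hy]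

/-- the converse of `hprop_baseChange_trans` -/
theorem hprop_baseChange_trans' {C D : Type u} [CommRing C] [CommRing D] [Algebra B C]
    [Algebra C D] [Algebra B D] [IsScalarTower B C D]
    (H : HProp (fun i => (u i).baseChange D)) :
    HProp (fun i => ((u i).baseChange C).baseChange D) := by
  refine HProp.of_injective _ _
    (TensorProduct.AlgebraTensorModule.cancelBaseChange B C D D M).toLinearMap
    (TensorProduct.AlgebraTensorModule.cancelBaseChange B C D D M).injective
    (fun i => (TensorProduct.AlgebraTensorModule.cancelBaseChange B C D D (N i)).toLinearMap)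
    ?_ H
  intro i x
  induction x using TensorProduct.induction_on with
  | zero => simp
  | tmul d y =>
    induction y using TensorProduct.induction_on with
    | zero => simp
    | tmul c m =>
      simp only [LinearMap.baseChange_tmul, LinearEquiv.coe_coe,
        TensorProduct.AlgebraTensorModule.cancelBaseChange_tmul]
    | add y₁ y₂ h₁ h₂ => simp only [tmul_add, map_add, h₁, h₂]
  | add x y hx hy => simp only [map_add, hx, hy]

end Transfer


section Ascent

variable {A B : Type u} [CommRing A] [CommRing B] [Algebra A B]
  {M : Type u} [AddCommGroup M] [Module B M]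
  {ι : Type u} {N : ι → Type u} [∀ i, AddCommGroup (N i)] [∀ i, Module B (N i)]
  (u : ∀ i, M →ₗ[B] N i)

/-- **Ascent along a field extension.** -/
theorem hprop_ascent
    (k : Type u) [CommRing k] (hk : IsField k) [Algebra A k]
    (Ck : Type u) [CommRing Ck] [Algebra B Ck] [Algebra k Ck] [Algebra A Ck] [IsScalarTower A B Ck]
    [IsScalarTower A k Ck] [Algebra.IsPushout A B k Ck]
    (H : HProp (fun i => (u i).baseChange Ck))
    (K : Type u) [Field K] [Algebra A K] [Algebra k K] [IsScalarTower A k K]
    (C : Type u) [CommRing C] [Algebra B C] [Algebra K C] [Algebra A C] [IsScalarTower A B C]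
    [IsScalarTower A K C] [Algebra.IsPushout A B K C] :
    HProp (fun i => (u i).baseChange C) := by
  letI algkC : Algebra k C := ((algebraMap K C).comp (algebraMap k K)).toAlgebra
  haveI tkKC : IsScalarTower k K C := IsScalarTower.of_algebraMap_eq (fun _ => rfl)
  haveI tAkC : IsScalarTower A k C := IsScalarTower.of_algebraMap_eq (fun a => by
    rw [IsScalarTower.algebraMap_apply A K C, IsScalarTower.algebraMap_apply A k K]
    rfl)
  let desc : Ck →ₐ[A] C := Algebra.pushoutDesc Ck (IsScalarTower.toAlgHom A B C)
    (IsScalarTower.toAlgHom A k C) (fun _ _ => mul_comm _ _)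
  letI algCkC : Algebra Ck C := desc.toRingHom.toAlgebra
  haveI tBCkC : IsScalarTower B Ck C := IsScalarTower.of_algebraMap_eq (fun b => by
    have := Algebra.pushoutDesc_left Ck (IsScalarTower.toAlgHom A B C)
      (IsScalarTower.toAlgHom A k C) (fun _ _ => mul_comm _ _) b
    exact this.symm)
  haveI tkCkC : IsScalarTower k Ck C := IsScalarTower.of_algebraMap_eq (fun b => by
    have := Algebra.pushoutDesc_right Ck (IsScalarTower.toAlgHom A B C)
      (IsScalarTower.toAlgHom A k C) (fun _ _ => mul_comm _ _) b
    exact this.symm)
  haveI tACkC : IsScalarTower A Ck C := IsScalarTower.of_algebraMap_eq (fun a => by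
    have := desc.commutes a
    exact this.symm)
  haveI hpo1 : Algebra.IsPushout A k B Ck := Algebra.IsPushout.symm inferInstance
  have hpo2 : Algebra.IsPushout A K B C := Algebra.IsPushout.symm inferInstance
  have hpo3 : Algebra.IsPushout k K Ck C := (Algebra.IsPushout.comp_iff A k B Ck).mp hpo2
  haveI hpo4 : Algebra.IsPushout k Ck K C := Algebra.IsPushout.symm hpo3
  have hP : PresH Ck C := presH_of_isPushout (k := k) (A := Ck) (B := K) (C := C) hk
  exact hprop_baseChange_trans u (hP ι (Ck ⊗[B] M) (fun i => Ck ⊗[B] N i)
    (fun i => (u i).baseChange Ck) H)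

end Ascent

end Groth.Agent.Helper7.FibCrit
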