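import Mathlib
import Groth.Agent.Lib.Helper7.FibCrit4

/-!
# Fibrewise criterion for separating families: Noetherian statement and base change of finite
type (helper7)
-/

set_option autoImplicit false
set_option linter.style.haveILetI false
set_option linter.unusedSectionVars false

open TensorProduct

universe u

namespace Groth.Agent.Helper7.FibCrit

open Groth.Agent.Helper7.SepAbs Groth.Agent.Helper7.SepBC Groth.Agent.Helper7.SepCore
  Groth.Agent.Helper7.SepFlat

section FibAll

variable {B : Type u} [CommRing B]
  {M : Type u} [AddCommGroup M] [Module B M]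
  {ι : Type u} {N : ι → Type u} [∀ i, AddCommGroup (N i)] [∀ i, Module B (N i)]

/-- the family is separating on every fibre `K ⊗ B`, `K` a field over `A` -/
def FibAll (A : Type u) [CommRing A] [Algebra A B] (u : ∀ i, M →ₗ[B] N i) : Prop :=
  ∀ (K : Type u) [Field K] [Algebra A K] (C : Type u) [CommRing C] [Algebra B C] [Algebra K C]
    [Algebra A C] [IsScalarTower A B C] [IsScalarTower A K C] [Algebra.IsPushout A B K C],
    HProp (fun i => (u i).baseChange C)

attribute [local instance] Algebra.TensorProduct.rightAlgebra

/-- **Fibrewise criterion, Noetherian form.** -/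
theorem hprop_of_fibAll (A : Type u) [CommRing A] [Algebra A B] [IsNoetherianRing B]
    [Module.Finite B M] (u : ∀ i, M →ₗ[B] N i)
    (hflat : ∀ i, letI := Module.compHom (N i) (algebraMap A B); Module.Flat A (N i))
    (hfib : FibAll A u) : HProp u := by
  letI : Module A M := Module.compHom M (algebraMap A B)
  haveI : IsScalarTower A B M := IsScalarTower.of_algebraMap_smul fun _ _ => rfl
  letI : ∀ i, Module A (N i) := fun i => Module.compHom (N i) (algebraMap A B)
  haveI : ∀ i, IsScalarTower A B (N i) := fun i =>
    IsScalarTower.of_algebraMap_smul fun _ _ => rfl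
  haveI : ∀ i, Module.Flat A (N i) := hflat
  refine hprop_of_fibP (A := A) u ?_
  intro p _
  have hker : RingHom.ker (algebraMap A (FractionRing (A ⧸ p))) = p := by
    ext a
    rw [RingHom.mem_ker, IsScalarTower.algebraMap_apply A (A ⧸ p) (FractionRing (A ⧸ p)),
      map_eq_zero_iff _ (IsFractionRing.injective (A ⧸ p) (FractionRing (A ⧸ p))),
      Ideal.Quotient.algebraMap_eq, Ideal.Quotient.eq_zero_iff_mem]
  exact fibP_of_hprop u (FractionRing (A ⧸ p)) p hker (FractionRing (A ⧸ p) ⊗[A] B)
    (hfib (FractionRing (A ⧸ p)) (FractionRing (A ⧸ p) ⊗[A] B))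

end FibAll


section FiniteType

variable {A B : Type u} [CommRing A] [CommRing B] [Algebra A B]
  {M : Type u} [AddCommGroup M] [Module B M]
  {ι : Type u} {N : ι → Type u} [∀ i, AddCommGroup (N i)] [∀ i, Module B (N i)]

/-- the condition on all fields is stable under base change -/
theorem fibAll_baseChange (u : ∀ i, M →ₗ[B] N i) (hfib : FibAll A u)
    (A' : Type u) [CommRing A'] [Algebra A A']
    (C' : Type u) [CommRing C'] [Algebra B C'] [Algebra A' C'] [Algebra A C'] [IsScalarTower A B C']
    [IsScalarTower A A' C'] [Algebra.IsPushout A B A' C'] :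
    FibAll A' (fun i => (u i).baseChange C') := by
  intro K _ _ C'' _ _ _ _ _ _ _
  letI algAK : Algebra A K := ((algebraMap A' K).comp (algebraMap A A')).toAlgebra
  haveI : IsScalarTower A A' K := IsScalarTower.of_algebraMap_eq (fun _ => rfl)
  letI algBC : Algebra B C'' := ((algebraMap C' C'').comp (algebraMap B C')).toAlgebra
  haveI : IsScalarTower B C' C'' := IsScalarTower.of_algebraMap_eq (fun _ => rfl)
  letI algAC : Algebra A C'' := ((algebraMap A' C'').comp (algebraMap A A')).toAlgebra
  haveI : IsScalarTower A A' C'' := IsScalarTower.of_algebraMap_eq (fun _ => rfl)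
  haveI : IsScalarTower A C' C'' := IsScalarTower.of_algebraMap_eq (fun a => by
    rw [IsScalarTower.algebraMap_apply A A' C'', IsScalarTower.algebraMap_apply A' C' C'',
      ← IsScalarTower.algebraMap_apply A A' C'])
  haveI : IsScalarTower A B C'' := IsScalarTower.of_algebraMap_eq (fun a => by
    rw [IsScalarTower.algebraMap_apply A C' C'', IsScalarTower.algebraMap_apply A B C',
      ← IsScalarTower.algebraMap_apply B C' C''])
  haveI : IsScalarTower A K C'' := IsScalarTower.of_algebraMap_eq (fun a => by
    rw [IsScalarTower.algebraMap_apply A A' C'', IsScalarTower.algebraMap_apply A' K C'',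
      ← IsScalarTower.algebraMap_apply A A' K])
  haveI hpo1 : Algebra.IsPushout A A' B C' := Algebra.IsPushout.symm inferInstance
  have hpo2 : Algebra.IsPushout A' K C' C'' := Algebra.IsPushout.symm inferInstance
  have hpo3 : Algebra.IsPushout A K B C'' := (Algebra.IsPushout.comp_iff A A' B C').mpr hpo2
  haveI hpo4 : Algebra.IsPushout A B K C'' := Algebra.IsPushout.symm hpo3
  exact hprop_baseChange_trans' u (hfib K C'')

attribute [local instance] Algebra.TensorProduct.rightAlgebra

/-- **Fibrewise criterion: base change of finite type.** -/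
theorem hprop_baseChange_of_finiteType [IsNoetherianRing B] [Module.Finite B M]
    (u : ∀ i, M →ₗ[B] N i)
    (hflat : ∀ i, letI := Module.compHom (N i) (algebraMap A B); Module.Flat A (N i))
    (hfib : FibAll A u)
    (A' : Type u) [CommRing A'] [Algebra A A'] [Algebra.FiniteType A A']
    (C' : Type u) [CommRing C'] [Algebra B C'] [Algebra A' C'] [Algebra A C'] [IsScalarTower A B C']
    [IsScalarTower A A' C'] [Algebra.IsPushout A B A' C'] :
    HProp (fun i => (u i).baseChange C') := by
  haveI hft : Algebra.FiniteType B C' :=
    Algebra.FiniteType.equiv (inferInstance : Algebra.FiniteType B (B ⊗[A] A'))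
      (Algebra.IsPushout.equiv A B A' C')
  haveI : IsNoetherianRing C' := Algebra.FiniteType.isNoetherianRing B C'
  refine hprop_of_fibAll A' (fun i => (u i).baseChange C') ?_ (fibAll_baseChange u hfib A' C')
  intro i
  letI : Module A (N i) := Module.compHom (N i) (algebraMap A B)
  haveI : IsScalarTower A B (N i) := IsScalarTower.of_algebraMap_smul fun _ _ => rfl
  haveI : Module.Flat A (N i) := hflat i
  letI : Module A' (C' ⊗[B] N i) := Module.compHom (C' ⊗[B] N i) (algebraMap A' C')
  let e : A' ⊗[A] N i ≃ₗ[A'] C' ⊗[B] N i :=
    { (LinearEquiv.ofBijective (poMap A B A' C' (N i)) (poMap_bijective A B A' C' (N i))) with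
      map_smul' := fun c z => poMap_smul A B A' C' (N i) c z }
  exact Module.Flat.of_linearEquiv e.symm

end FiniteType

end Groth.Agent.Helper7.FibCrit
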