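import Mathlib
import Groth.Agent.Lib.Helper7.FibCrit5

/-!
# Fibrewise criterion for separating families: arbitrary base change (helper7)
-/

set_option autoImplicit false
set_option linter.style.haveILetI false
set_option linter.unusedSectionVars false

open TensorProduct

universe u

namespace Groth.Agent.Helper7.FibCrit

open Groth.Agent.Helper7.SepAbs Groth.Agent.Helper7.SepBC Groth.Agent.Helper7.SepCore
  Groth.Agent.Helper7.SepFlat

attribute [local instance] Algebra.TensorProduct.rightAlgebra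

section Sub

variable {A : Type u} (B : Type u) [CommRing A] [CommRing B] [Algebra A B]
  (A' : Type u) [CommRing A'] [Algebra A A']

/-- the map `B ⊗ T → B ⊗ A'` for a subalgebra `T` of `A'` -/
noncomputable def jT (T : Subalgebra A A') : B ⊗[A] T →ₐ[B] B ⊗[A] A' :=
  Algebra.TensorProduct.map (AlgHom.id B B) T.val

@[simp]
lemma jT_tmul (T : Subalgebra A A') (b : B) (t : T) : jT B A' T (b ⊗ₜ t) = b ⊗ₜ (t : A') := by
  simp [jT]

lemma range_jT_mono {T₁ T₂ : Subalgebra A A'} (h : T₁ ≤ T₂) :
    (jT B A' T₁).range ≤ (jT B A' T₂).range := by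
  rintro _ ⟨c, rfl⟩
  refine ⟨Algebra.TensorProduct.map (AlgHom.id B B) (Subalgebra.inclusion h) c, ?_⟩
  induction c using TensorProduct.induction_on with
  | zero => simp
  | tmul b t => simp
  | add x y hx hy => simp only [map_add, hx, hy]

lemma exists_fg_mem_range_jT (c : B ⊗[A] A') :
    ∃ T : Subalgebra A A', T.FG ∧ c ∈ (jT B A' T).range := by
  induction c using TensorProduct.induction_on with
  | zero => exact ⟨⊥, Subalgebra.fg_bot, Subalgebra.zero_mem _⟩
  | tmul b a =>
    refine ⟨Algebra.adjoin A {a}, ?_, ⟨b ⊗ₜ ⟨a, Algebra.subset_adjoin (Set.mem_singleton a)⟩, ?_⟩⟩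
    · have := Subalgebra.fg_adjoin_finset (R := A) ({a} : Finset A')
      simpa using this
    · simp
  | add x y hx hy =>
    obtain ⟨T₁, h₁, m₁⟩ := hx
    obtain ⟨T₂, h₂, m₂⟩ := hy
    exact ⟨T₁ ⊔ T₂, h₁.sup h₂, Subalgebra.add_mem _ (range_jT_mono B A' le_sup_left m₁)
      (range_jT_mono B A' le_sup_right m₂)⟩

variable (P : Type u) [AddCommGroup P] [Module B P]

/-- the induced map on modules -/
noncomputable def JT (T : Subalgebra A A') : (B ⊗[A] T) ⊗[B] P →ₗ[B] (B ⊗[A] A') ⊗[B] P :=
  LinearMap.rTensor P (jT B A' T).toLinearMap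

variable {P}

@[simp]
lemma JT_tmul (T : Subalgebra A A') (c : B ⊗[A] T) (m : P) :
    JT B A' P T (c ⊗ₜ m) = jT B A' T c ⊗ₜ m := rfl

lemma JT_smul (T : Subalgebra A A') (c : B ⊗[A] T) (z : (B ⊗[A] T) ⊗[B] P) :
    JT B A' P T (c • z) = jT B A' T c • JT B A' P T z := by
  induction z using TensorProduct.induction_on with
  | zero => simp
  | tmul c' m => simp [TensorProduct.smul_tmul', map_mul]
  | add x y hx hy => simp only [smul_add, map_add, hx, hy]

lemma JT_natural {P' : Type u} [AddCommGroup P'] [Module B P'] (T : Subalgebra A A')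
    (v : P →ₗ[B] P') (z : (B ⊗[A] T) ⊗[B] P) :
    (v.baseChange (B ⊗[A] A')) (JT B A' P T z) = JT B A' P' T (v.baseChange (B ⊗[A] T) z) := by
  induction z using TensorProduct.induction_on with
  | zero => simp
  | tmul c m => simp
  | add x y hx hy => simp only [map_add, hx, hy]

lemma range_JT_mono {T₁ T₂ : Subalgebra A A'} (h : T₁ ≤ T₂) :
    LinearMap.range (JT B A' P T₁) ≤ LinearMap.range (JT B A' P T₂) := by
  rintro _ ⟨z, rfl⟩
  induction z using TensorProduct.induction_on with
  | zero => simp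
  | tmul c m =>
    obtain ⟨c', hc'⟩ := range_jT_mono B A' h ⟨c, rfl⟩
    exact ⟨c' ⊗ₜ m, by rw [JT_tmul, JT_tmul]; congr 1⟩
  | add x y hx hy =>
    rw [map_add]
    exact Submodule.add_mem _ hx hy

variable (P) in
lemma exists_fg_mem_range_JT (x : (B ⊗[A] A') ⊗[B] P) :
    ∃ T : Subalgebra A A', T.FG ∧ x ∈ LinearMap.range (JT B A' P T) := by
  induction x using TensorProduct.induction_on with
  | zero => exact ⟨⊥, Subalgebra.fg_bot, Submodule.zero_mem _⟩
  | tmul c m =>
    obtain ⟨T, hT, c', rfl⟩ := exists_fg_mem_range_jT B A' c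
    exact ⟨T, hT, c' ⊗ₜ m, rfl⟩
  | add x y hx hy =>
    obtain ⟨T₁, h₁, m₁⟩ := hx
    obtain ⟨T₂, h₂, m₂⟩ := hy
    exact ⟨T₁ ⊔ T₂, h₁.sup h₂, Submodule.add_mem _ (range_JT_mono B A' le_sup_left m₁)
      (range_JT_mono B A' le_sup_right m₂)⟩

lemma JT_injective_of_flat (T : Subalgebra A A') [Module A P] [IsScalarTower A B P]
    [Module.Flat A P] : Function.Injective (JT B A' P T) := by
  have hsq : ∀ w : T ⊗[A] P, JT B A' P T (poMap A B T (B ⊗[A] T) P w) =
      poMap A B A' (B ⊗[A] A') P (LinearMap.rTensor P T.val.toLinearMap w) := by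
    intro w
    induction w using TensorProduct.induction_on with
    | zero => simp
    | tmul t m =>
      simp only [poMap_tmul, JT_tmul, LinearMap.rTensor_tmul, AlgHom.toLinearMap_apply,
        Subalgebra.coe_val]
      congr 1
    | add x y hx hy => simp only [map_add, hx, hy]
  have hinj : Function.Injective (LinearMap.rTensor P T.val.toLinearMap) :=
    Module.Flat.rTensor_preserves_injective_linearMap _ Subtype.val_injective
  intro z z' hzz
  obtain ⟨w, rfl⟩ := (poMap_bijective A B T (B ⊗[A] T) P).2 z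
  obtain ⟨w', rfl⟩ := (poMap_bijective A B T (B ⊗[A] T) P).2 z'
  rw [hsq, hsq] at hzz
  rw [hinj ((poMap_bijective A B A' (B ⊗[A] A') P).1 hzz)]

end Sub


section General

variable {A B : Type u} [CommRing A] [CommRing B] [Algebra A B]
  {M : Type u} [AddCommGroup M] [Module B M]
  {ι : Type u} {N : ι → Type u} [∀ i, AddCommGroup (N i)] [∀ i, Module B (N i)]

/-- **Fibrewise criterion, tensor form**: arbitrary base change. -/
theorem hprop_baseChange_tensor [IsNoetherianRing B] [Module.Finite B M]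
    (u : ∀ i, M →ₗ[B] N i)
    (hflat : ∀ i, letI := Module.compHom (N i) (algebraMap A B); Module.Flat A (N i))
    (hfib : FibAll A u) (A' : Type u) [CommRing A'] [Algebra A A'] :
    HProp (fun i => (u i).baseChange (B ⊗[A] A')) := by
  intro h x hx
  obtain ⟨T₁, hT₁, hm₁⟩ := exists_fg_mem_range_jT B A' h
  obtain ⟨T₂, hT₂, hm₂⟩ := exists_fg_mem_range_JT B A' M x
  obtain ⟨h'', rfl⟩ := range_jT_mono B A' (le_sup_left : T₁ ≤ T₁ ⊔ T₂) hm₁
  obtain ⟨x'', rfl⟩ := range_JT_mono B A' (le_sup_right : T₂ ≤ T₁ ⊔ T₂) hm₂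
  have hfg : (T₁ ⊔ T₂).FG := hT₁.sup hT₂
  generalize T₁ ⊔ T₂ = T at h'' x'' hfg hx
  haveI : Algebra.FiniteType A T := (Subalgebra.fg_iff_finiteType T).mp hfg
  have H := hprop_baseChange_of_finiteType u hflat hfib T (B ⊗[A] T)
  have hyp : ∀ i, ∃ n : ℕ, ((u i).baseChange (B ⊗[A] T)) (h'' ^ n • x'') = 0 := by
    intro i
    obtain ⟨n, hn⟩ := hx i
    refine ⟨n, ?_⟩
    letI : Module A (N i) := Module.compHom (N i) (algebraMap A B)
    haveI : IsScalarTower A B (N i) := IsScalarTower.of_algebraMap_smul fun _ _ => rfl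
    haveI : Module.Flat A (N i) := hflat i
    apply JT_injective_of_flat B A' T (P := N i)
    rw [map_zero, ← JT_natural, JT_smul, map_pow]
    exact hn
  obtain ⟨n, hn⟩ := H h'' x'' hyp
  refine ⟨n, ?_⟩
  have := congrArg (JT B A' M T) hn
  rw [JT_smul, map_pow, map_zero] at this
  exact this

/-- **Fibrewise criterion, pushout form.** Let `B` be a Noetherian `A`-algebra, `u i : M → N i`
a family of `B`-linear maps from a finite `B`-module into `A`-flat modules. If the family is
separating on all fibres, it is separating after every base change `A → A'`. -/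
theorem hprop_baseChange_of_fibAll [IsNoetherianRing B] [Module.Finite B M]
    (u : ∀ i, M →ₗ[B] N i)
    (hflat : ∀ i, letI := Module.compHom (N i) (algebraMap A B); Module.Flat A (N i))
    (hfib : FibAll A u) (A' : Type u) [CommRing A'] [Algebra A A']
    (C' : Type u) [CommRing C'] [Algebra B C'] [Algebra A' C'] [Algebra A C'] [IsScalarTower A B C']
    [IsScalarTower A A' C'] [Algebra.IsPushout A B A' C'] :
    HProp (fun i => (u i).baseChange C') :=
  hprop_baseChange_of_algEquiv u (Algebra.IsPushout.equiv A B A' C')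
    (hprop_baseChange_tensor u hflat hfib A')

end General

end Groth.Agent.Helper7.FibCrit
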