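import Mathlib
import Groth.Prelude.Def_Coh
import Groth.Prelude.Def_FlatMod2
import Groth.Agent.Lib.Helper7.FibCrit6
import Groth.Agent.Lib.Helper7.SepGeom
import Groth.Agent.Lib.Helper7.SchDomChart
import Groth.Agent.Lib.Helper21.ModFlat1
import Groth.Agent.Lib.Helper13.FinAffine2

/-!
# Fibrewise criterion for separating families: geometric preliminaries (helper7)

Some small lemmas on residue fields are adapted from helper16's `GenRed`/`GenGR`/`FibMod` files.
-/

set_option autoImplicit false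
set_option linter.style.haveILetI false
set_option linter.unusedSectionVars false

open CategoryTheory AlgebraicGeometry Limits Opposite TopologicalSpace TensorProduct

universe u

namespace Groth.Agent.Helper7.FibCritGeom

open Groth.Agent.Helper7.SepAbs Groth.Agent.Helper7.SepBC Groth.Agent.Helper7.SepCore
  Groth.Agent.Helper7.FibCrit Groth.Agent.Helper7.SchDom

section BaseChangeTransfer

/-- `HProp` passes from the abstract base change to a base change in `IsBaseChange` form -/
theorem hprop_of_isBaseChange' {A C : Type u} [CommRing A] [CommRing C] [Algebra A C] {ι : Type u}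
    {M M' : Type u} [AddCommGroup M] [Module A M] [AddCommGroup M'] [Module C M'] [Module A M']
    [IsScalarTower A C M']
    {N N' : ι → Type u} [∀ i, AddCommGroup (N i)] [∀ i, Module A (N i)]
    [∀ i, AddCommGroup (N' i)] [∀ i, Module C (N' i)] [∀ i, Module A (N' i)]
    [∀ i, IsScalarTower A C (N' i)]
    (j : M →ₗ[A] M') (hj : IsBaseChange C j) (jN : ∀ i, N i →ₗ[A] N' i)
    (hjN : ∀ i, IsBaseChange C (jN i))
    (u : ∀ i, M →ₗ[A] N i) (u' : ∀ i, M' →ₗ[C] N' i) (hcomm : ∀ i m, u' i (j m) = jN i (u i m))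
    (H1 : HProp (fun i => (u i).baseChange C)) : HProp u' := by
  refine HProp.of_injective _ _ hj.equiv.symm.toLinearMap hj.equiv.symm.injective
    (fun i => (hjN i).equiv.symm.toLinearMap) (fun i x => ?_) H1
  apply (hjN i).equiv.injective
  simp only [LinearEquiv.coe_coe, LinearEquiv.apply_symm_apply]
  obtain ⟨y, rfl⟩ := hj.equiv.surjective x
  rw [LinearEquiv.symm_apply_apply]
  induction y using TensorProduct.induction_on with
  | zero => simp
  | tmul c m =>
    rw [LinearMap.baseChange_tmul, IsBaseChange.equiv_tmul, IsBaseChange.equiv_tmul, map_smul,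
      hcomm]
  | add y₁ y₂ e₁ e₂ => simp only [map_add, e₁, e₂]

/-- the converse transfer -/
theorem hprop_baseChange_of_isBaseChange {A C : Type u} [CommRing A] [CommRing C] [Algebra A C]
    {ι : Type u}
    {M M' : Type u} [AddCommGroup M] [Module A M] [AddCommGroup M'] [Module C M'] [Module A M']
    [IsScalarTower A C M']
    {N N' : ι → Type u} [∀ i, AddCommGroup (N i)] [∀ i, Module A (N i)]
    [∀ i, AddCommGroup (N' i)] [∀ i, Module C (N' i)] [∀ i, Module A (N' i)]
    [∀ i, IsScalarTower A C (N' i)]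
    (j : M →ₗ[A] M') (hj : IsBaseChange C j) (jN : ∀ i, N i →ₗ[A] N' i)
    (hjN : ∀ i, IsBaseChange C (jN i))
    (u : ∀ i, M →ₗ[A] N i) (u' : ∀ i, M' →ₗ[C] N' i) (hcomm : ∀ i m, u' i (j m) = jN i (u i m))
    (H1 : HProp u') : HProp (fun i => (u i).baseChange C) := by
  refine HProp.of_injective _ _ hj.equiv.toLinearMap hj.equiv.injective
    (fun i => (hjN i).equiv.toLinearMap) (fun i y => ?_) H1
  simp only [LinearEquiv.coe_coe]
  induction y using TensorProduct.induction_on with
  | zero => simp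
  | tmul c m =>
    rw [LinearMap.baseChange_tmul, IsBaseChange.equiv_tmul, IsBaseChange.equiv_tmul, map_smul,
      hcomm]
  | add y₁ y₂ e₁ e₂ => simp only [map_add, e₁, e₂]

end BaseChangeTransfer

section Residue

variable {S : Scheme.{u}}

lemma top_le_preimage (s : S) (V : S.Opens) (hs : s ∈ V) :
    (⊤ : (Spec (S.residueField s)).Opens) ≤ (S.fromSpecResidueField s) ⁻¹ᵁ V := by
  intro z _
  show S.fromSpecResidueField s z ∈ V
  rw [Scheme.fromSpecResidueField_apply]
  exact hs

lemma isField_ΓSpec_residueField (s : S) : IsField Γ(Spec (S.residueField s), ⊤) :=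
  (Scheme.ΓSpecIso (S.residueField s)).commRingCatIsoToRingEquiv.toMulEquiv.isField
    (Field.toIsField (S.residueField s))

theorem appLE_specMap_fromSpec {L : Type u} [Field L] (W : S.Opens) (hW : IsAffineOpen W)
    (φ : Γ(S, W) →+* L) (hc : ⊤ ≤ (Spec.map (CommRingCat.ofHom φ) ≫ hW.fromSpec) ⁻¹ᵁ W) :
    (((Spec.map (CommRingCat.ofHom φ) ≫ hW.fromSpec).appLE W ⊤ hc) ≫
      (Scheme.ΓSpecIso (.of L)).hom).hom = φ := by
  have h1 : ((Spec.map (CommRingCat.ofHom φ) ≫ hW.fromSpec).appLE W ⊤ hc) ≫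
      (Scheme.ΓSpecIso (.of L)).hom = CommRingCat.ofHom φ := by
    rw [Scheme.Hom.comp_appLE, hW.fromSpec_app_self, Category.assoc, Category.assoc,
      Scheme.Hom.map_appLE_assoc]
    have h2 : ∀ e, (Spec.map (CommRingCat.ofHom φ)).appLE ⊤ ⊤ e =
        (Spec.map (CommRingCat.ofHom φ)).appTop := by
      intro e
      simp [Scheme.Hom.appLE]
    rw [h2, ← Scheme.ΓSpecIso_inv_naturality_assoc, Iso.inv_hom_id, Category.comp_id]
  rw [h1]
  rfl

/-- a ring map from the sections over an affine open to a field factors through the residue field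
of a point of that open -/
theorem exists_residue_lift {V : S.Opens} (hV : IsAffineOpen V) (K : Type u) [Field K]
    (φ : Γ(S, V) →+* K) :
    ∃ (s : S) (hs : s ∈ V) (ψ' : Γ(Spec (S.residueField s), ⊤) →+* K),
      ∀ a, ψ' (((S.fromSpecResidueField s).appLE V ⊤ (top_le_preimage s V hs)).hom a) = φ a := by
  obtain ⟨σ, hσdef⟩ : ∃ σ : Spec (.of K) ⟶ S,
      σ = Spec.map (CommRingCat.ofHom φ) ≫ hV.fromSpec := ⟨_, rfl⟩
  have hmem : ∀ z, σ z ∈ V := by
    intro z
    subst hσdef
    have : hV.fromSpec (Spec.map (CommRingCat.ofHom φ) z) ∈ hV.fromSpec.opensRange := ⟨_, rfl⟩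
    rw [hV.opensRange_fromSpec] at this
    exact this
  have hc : ⊤ ≤ σ ⁻¹ᵁ V := fun z _ => hmem z
  have key : ((σ.appLE V ⊤ hc) ≫ (Scheme.ΓSpecIso (.of K)).hom).hom = φ := by
    subst hσdef
    exact appLE_specMap_fromSpec V hV φ hc
  clear hσdef
  obtain ⟨s, θ, hσ⟩ : ∃ (s : S) (θ : S.residueField s ⟶ .of K),
      Spec.map θ ≫ S.fromSpecResidueField s = σ :=
    ⟨_, _, (Scheme.SpecToEquivOfField K S).left_inv σ⟩
  subst hσ
  have hs : s ∈ V := by
    have h1 := hmem (IsLocalRing.closedPoint K)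
    have h2 : (Spec.map θ ≫ S.fromSpecResidueField s) (IsLocalRing.closedPoint K) = s :=
      Scheme.fromSpecResidueField_apply s _
    rwa [h2] at h1
  have e1 : (S.fromSpecResidueField s).appLE V ⊤ (top_le_preimage s V hs) ≫
      (Spec.map θ).appLE ⊤ ⊤ le_top =
      (Spec.map θ ≫ S.fromSpecResidueField s).appLE V ⊤ hc :=
    Scheme.Hom.appLE_comp_appLE _ _ _ _ _ _ _
  have e3 : ((S.fromSpecResidueField s).appLE V ⊤ (top_le_preimage s V hs) ≫
      ((Spec.map θ).appLE ⊤ ⊤ le_top ≫ (Scheme.ΓSpecIso (.of K)).hom)).hom = φ := by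
    rw [← Category.assoc, e1]
    exact key
  exact ⟨s, hs, ((Spec.map θ).appLE ⊤ ⊤ le_top ≫ (Scheme.ΓSpecIso (.of K)).hom).hom,
    fun a => congrArg (fun f => f a) e3⟩

end Residue

end Groth.Agent.Helper7.FibCritGeom
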