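import Mathlib
import Groth.Agent.Lib.Helper7.FibCritGeom1

/-!
# Fibrewise criterion for separating families of homomorphisms of modules (helper7)
-/

set_option autoImplicit false
set_option linter.style.haveILetI false
set_option linter.unusedSectionVars false

open CategoryTheory AlgebraicGeometry Limits Opposite TopologicalSpace TensorProduct

universe u

namespace Groth.Agent.Helper7.FibCritGeom

open Groth.Agent.Helper7.SepAbs Groth.Agent.Helper7.SepBC Groth.Agent.Helper7.SepCore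
  Groth.Agent.Helper7.FibCrit Groth.Agent.Helper7.SchDom Groth.Agent.Helper7.SepGeom
  Groth.Agent.Helper7.ChartBC

variable {X S : Scheme.{u}} (p : X ⟶ S) (F : X.Modules) [F.IsQuasicoherent] {ι : Type u}
  (G : ι → X.Modules) [∀ i, (G i).IsQuasicoherent] (u : ∀ i, F ⟶ G i)

/-- the family is separating on every fibre -/
def FibSep : Prop :=
  ∀ s : S, ∀ (V : (p.fiber s).Opens)
    (t : Γ((Scheme.Modules.pullback (p.fiberι s)).obj F, V)),
    (∀ i, ((Scheme.Modules.pullback (p.fiberι s)).map (u i)).app V t = 0) → t = 0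

set_option maxHeartbeats 6400000 in
set_option synthInstance.maxHeartbeats 400000 in
/-- the sections over an affine chart are separating on all fibres, in the ring-theoretic sense -/
theorem fibAll_sections (hfib : FibSep p F G u) {V : S.Opens} (hV : IsAffineOpen V)
    {U : X.Opens} (hU : IsAffineOpen U) (eUV : U ≤ p ⁻¹ᵁ V) :
    letI := (p.appLE V U eUV).hom.toAlgebra
    FibAll Γ(S, V) (fun i => appLin (u i) U) := by
  letI algAB : Algebra Γ(S, V) Γ(X, U) := (p.appLE V U eUV).hom.toAlgebra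
  intro K _ algAK C _ algBC algKC algAC tABC tAKC hpoC
  obtain ⟨s, hs, ψ', hψ'⟩ := exists_residue_lift hV K (algebraMap Γ(S, V) K)
  have H : IsPullback (p.fiberι s) (p.fiberToSpecResidueField s) p (S.fromSpecResidueField s) :=
    IsPullback.of_hasPullback p (S.fromSpecResidueField s)
  have hT : IsAffineOpen (⊤ : (Spec (S.residueField s)).Opens) := isAffineOpen_top _
  have eT := top_le_preimage s V hs
  have hUs : IsAffineOpen ((p.fiberι s) ⁻¹ᵁ U ⊓ (p.fiberToSpecResidueField s) ⁻¹ᵁ ⊤) :=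
    isAffineOpen_chart H hV hU eUV hT eT
  have hpo := isPushout_chart H hV hU eUV hT eT
  letI algAk : Algebra Γ(S, V) Γ(Spec (S.residueField s), ⊤) :=
    ((S.fromSpecResidueField s).appLE V ⊤ eT).hom.toAlgebra
  letI algBCk : Algebra Γ(X, U)
      Γ(p.fiber s, (p.fiberι s) ⁻¹ᵁ U ⊓ (p.fiberToSpecResidueField s) ⁻¹ᵁ ⊤) :=
    ((p.fiberι s).appLE U
      ((p.fiberι s) ⁻¹ᵁ U ⊓ (p.fiberToSpecResidueField s) ⁻¹ᵁ ⊤) inf_le_left).hom.toAlgebra
  letI algkCk : Algebra Γ(Spec (S.residueField s), ⊤)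
      Γ(p.fiber s, (p.fiberι s) ⁻¹ᵁ U ⊓ (p.fiberToSpecResidueField s) ⁻¹ᵁ ⊤) :=
    ((p.fiberToSpecResidueField s).appLE ⊤
      ((p.fiberι s) ⁻¹ᵁ U ⊓ (p.fiberToSpecResidueField s) ⁻¹ᵁ ⊤) inf_le_right).hom.toAlgebra
  letI algACk : Algebra Γ(S, V)
      Γ(p.fiber s, (p.fiberι s) ⁻¹ᵁ U ⊓ (p.fiberToSpecResidueField s) ⁻¹ᵁ ⊤) :=
    ((algebraMap Γ(X, U) _).comp (algebraMap Γ(S, V) Γ(X, U))).toAlgebra
  haveI : IsScalarTower Γ(S, V) Γ(X, U)
      Γ(p.fiber s, (p.fiberι s) ⁻¹ᵁ U ⊓ (p.fiberToSpecResidueField s) ⁻¹ᵁ ⊤) :=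
    IsScalarTower.of_algebraMap_eq (fun _ => rfl)
  haveI : IsScalarTower Γ(S, V) Γ(Spec (S.residueField s), ⊤)
      Γ(p.fiber s, (p.fiberι s) ⁻¹ᵁ U ⊓ (p.fiberToSpecResidueField s) ⁻¹ᵁ ⊤) := by
    refine IsScalarTower.of_algebraMap_eq (fun r => ?_)
    have hw := hpo.w
    exact congr($hw r)
  haveI : Algebra.IsPushout Γ(S, V) Γ(X, U) Γ(Spec (S.residueField s), ⊤)
      Γ(p.fiber s, (p.fiberι s) ⁻¹ᵁ U ⊓ (p.fiberToSpecResidueField s) ⁻¹ᵁ ⊤) :=
    CommRingCat.isPushout_iff_isPushout.mp hpo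
  letI algkK : Algebra Γ(Spec (S.residueField s), ⊤) K := ψ'.toAlgebra
  haveI : IsScalarTower Γ(S, V) Γ(Spec (S.residueField s), ⊤) K :=
    IsScalarTower.of_algebraMap_eq (fun a => (hψ' a).symm)
  have H1 : HProp (fun i => appLin ((Scheme.Modules.pullback (p.fiberι s)).map (u i))
      ((p.fiberι s) ⁻¹ᵁ U ⊓ (p.fiberToSpecResidueField s) ⁻¹ᵁ ⊤)) :=
    hprop_of_isSep _ _ _ (hfib s) hUs
  letI modF : Module Γ(X, U) Γ((Scheme.Modules.pullback (p.fiberι s)).obj F,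
      (p.fiberι s) ⁻¹ᵁ U ⊓ (p.fiberToSpecResidueField s) ⁻¹ᵁ ⊤) :=
    Module.compHom _ ((p.fiberι s).appLE U
      ((p.fiberι s) ⁻¹ᵁ U ⊓ (p.fiberToSpecResidueField s) ⁻¹ᵁ ⊤) inf_le_left).hom
  haveI : IsScalarTower Γ(X, U)
      Γ(p.fiber s, (p.fiberι s) ⁻¹ᵁ U ⊓ (p.fiberToSpecResidueField s) ⁻¹ᵁ ⊤)
      Γ((Scheme.Modules.pullback (p.fiberι s)).obj F,
        (p.fiberι s) ⁻¹ᵁ U ⊓ (p.fiberToSpecResidueField s) ⁻¹ᵁ ⊤) :=
    IsScalarTower.of_algebraMap_smul fun _ _ => rfl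
  letI modG : ∀ i, Module Γ(X, U) Γ((Scheme.Modules.pullback (p.fiberι s)).obj (G i),
      (p.fiberι s) ⁻¹ᵁ U ⊓ (p.fiberToSpecResidueField s) ⁻¹ᵁ ⊤) :=
    fun i => Module.compHom _ ((p.fiberι s).appLE U
      ((p.fiberι s) ⁻¹ᵁ U ⊓ (p.fiberToSpecResidueField s) ⁻¹ᵁ ⊤) inf_le_left).hom
  haveI : ∀ i, IsScalarTower Γ(X, U)
      Γ(p.fiber s, (p.fiberι s) ⁻¹ᵁ U ⊓ (p.fiberToSpecResidueField s) ⁻¹ᵁ ⊤)
      Γ((Scheme.Modules.pullback (p.fiberι s)).obj (G i),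
        (p.fiberι s) ⁻¹ᵁ U ⊓ (p.fiberToSpecResidueField s) ⁻¹ᵁ ⊤) :=
    fun i => IsScalarTower.of_algebraMap_smul fun _ _ => rfl
  obtain ⟨j, hj, hjm⟩ := exists_isBaseChange_sections (p.fiberι s) F hU hUs inf_le_left
  have hG := fun i => exists_isBaseChange_sections (p.fiberι s) (G i) hU hUs inf_le_left
  choose jN hjN hjNm using hG
  have H2 : HProp (fun i => (appLin (u i) U).baseChange
      Γ(p.fiber s, (p.fiberι s) ⁻¹ᵁ U ⊓ (p.fiberToSpecResidueField s) ⁻¹ᵁ ⊤)) := by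
    refine hprop_baseChange_of_isBaseChange j hj jN hjN (fun i => appLin (u i) U) _
      (fun i m => ?_) H1
    rw [hjm, hjNm, appLin_apply, appLin_apply, map_app_pullRes]
  exact hprop_ascent (A := Γ(S, V)) (fun i => appLin (u i) U) Γ(Spec (S.residueField s), ⊤)
    (isField_ΓSpec_residueField s)
    Γ(p.fiber s, (p.fiberι s) ⁻¹ᵁ U ⊓ (p.fiberToSpecResidueField s) ⁻¹ᵁ ⊤) H2 K C

set_option maxHeartbeats 6400000 in
set_option synthInstance.maxHeartbeats 400000 in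
/-- **Fibrewise criterion**: a family which is separating on all fibres is universally
separating (locally Noetherian source, coherent `F`, flat targets). -/
theorem isSep_pullback_of_fibSep [IsLocallyNoetherian X]
    [SheafOfModules.IsFiniteType (R := X.ringCatSheaf) F]
    (hG : ∀ i, FlatMod.IsFlatOver p (G i)) (hfib : FibSep p F G u) {S' : Scheme.{u}}
    (g : S' ⟶ S) :
    ∀ (V : (pullback p g).Opens)
      (t : Γ((Scheme.Modules.pullback (pullback.fst p g)).obj F, V)),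
      (∀ i, ((Scheme.Modules.pullback (pullback.fst p g)).map (u i)).app V t = 0) → t = 0 := by
  apply isSep_of_hprop
  intro x'
  obtain ⟨V, hV, hxV, -⟩ := Opens.isBasis_iff_nbhd.mp S.isBasis_affineOpens
    (Opens.mem_top (p (pullback.fst p g x')))
  obtain ⟨U, hU, hxU, eUV⟩ := Opens.isBasis_iff_nbhd.mp X.isBasis_affineOpens
    (show pullback.fst p g x' ∈ p ⁻¹ᵁ V from hxV)
  have hgx : pullback.snd p g x' ∈ g ⁻¹ᵁ V := by
    change (pullback.snd p g ≫ g) x' ∈ V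
    rw [← pullback.condition]
    exact hxV
  obtain ⟨W, hW, hxW, eW⟩ := Opens.isBasis_iff_nbhd.mp S'.isBasis_affineOpens hgx
  have H : IsPullback (pullback.fst p g) (pullback.snd p g) p g := IsPullback.of_hasPullback p g
  have hU' : IsAffineOpen ((pullback.fst p g) ⁻¹ᵁ U ⊓ (pullback.snd p g) ⁻¹ᵁ W) :=
    isAffineOpen_chart H hV hU eUV hW eW
  have hpo := isPushout_chart H hV hU eUV hW eW
  refine ⟨_, hU', ⟨hxU, hxW⟩, ?_⟩
  letI algAB : Algebra Γ(S, V) Γ(X, U) := (p.appLE V U eUV).hom.toAlgebra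
  letI algAA' : Algebra Γ(S, V) Γ(S', W) := (g.appLE V W eW).hom.toAlgebra
  letI algBC' : Algebra Γ(X, U)
      Γ(pullback p g, (pullback.fst p g) ⁻¹ᵁ U ⊓ (pullback.snd p g) ⁻¹ᵁ W) :=
    ((pullback.fst p g).appLE U
      ((pullback.fst p g) ⁻¹ᵁ U ⊓ (pullback.snd p g) ⁻¹ᵁ W) inf_le_left).hom.toAlgebra
  letI algA'C' : Algebra Γ(S', W)
      Γ(pullback p g, (pullback.fst p g) ⁻¹ᵁ U ⊓ (pullback.snd p g) ⁻¹ᵁ W) :=
    ((pullback.snd p g).appLE W
      ((pullback.fst p g) ⁻¹ᵁ U ⊓ (pullback.snd p g) ⁻¹ᵁ W) inf_le_right).hom.toAlgebra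
  letI algAC' : Algebra Γ(S, V)
      Γ(pullback p g, (pullback.fst p g) ⁻¹ᵁ U ⊓ (pullback.snd p g) ⁻¹ᵁ W) :=
    ((algebraMap Γ(X, U) _).comp (algebraMap Γ(S, V) Γ(X, U))).toAlgebra
  haveI : IsScalarTower Γ(S, V) Γ(X, U)
      Γ(pullback p g, (pullback.fst p g) ⁻¹ᵁ U ⊓ (pullback.snd p g) ⁻¹ᵁ W) :=
    IsScalarTower.of_algebraMap_eq (fun _ => rfl)
  haveI : IsScalarTower Γ(S, V) Γ(S', W)
      Γ(pullback p g, (pullback.fst p g) ⁻¹ᵁ U ⊓ (pullback.snd p g) ⁻¹ᵁ W) := by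
    refine IsScalarTower.of_algebraMap_eq (fun r => ?_)
    have hw := hpo.w
    exact congr($hw r)
  haveI : Algebra.IsPushout Γ(S, V) Γ(X, U) Γ(S', W)
      Γ(pullback p g, (pullback.fst p g) ⁻¹ᵁ U ⊓ (pullback.snd p g) ⁻¹ᵁ W) :=
    CommRingCat.isPushout_iff_isPushout.mp hpo
  haveI : IsNoetherianRing Γ(X, U) := IsLocallyNoetherian.component_noetherian ⟨U, hU⟩
  haveI : Module.Finite Γ(X, U) Γ(F, U) :=
    Groth.Agent.Helper13.FinType.finite_sections_of_isFiniteType F hU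
  have hflat : ∀ i, letI := Module.compHom Γ(G i, U) (algebraMap Γ(S, V) Γ(X, U))
      Module.Flat Γ(S, V) Γ(G i, U) := fun i =>
    Groth.Agent.Helper13.FlatOver.flat_sections_of_isFlatOverAt p (G i) hU hV eUV
      (fun x _ => hG i x)
  have H2 := hprop_baseChange_of_fibAll (A := Γ(S, V)) (fun i => appLin (u i) U) hflat
    (fibAll_sections p F G u hfib hV hU eUV) Γ(S', W)
    Γ(pullback p g, (pullback.fst p g) ⁻¹ᵁ U ⊓ (pullback.snd p g) ⁻¹ᵁ W)
  letI modF : Module Γ(X, U) Γ((Scheme.Modules.pullback (pullback.fst p g)).obj F,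
      (pullback.fst p g) ⁻¹ᵁ U ⊓ (pullback.snd p g) ⁻¹ᵁ W) :=
    Module.compHom _ ((pullback.fst p g).appLE U
      ((pullback.fst p g) ⁻¹ᵁ U ⊓ (pullback.snd p g) ⁻¹ᵁ W) inf_le_left).hom
  haveI : IsScalarTower Γ(X, U)
      Γ(pullback p g, (pullback.fst p g) ⁻¹ᵁ U ⊓ (pullback.snd p g) ⁻¹ᵁ W)
      Γ((Scheme.Modules.pullback (pullback.fst p g)).obj F,
        (pullback.fst p g) ⁻¹ᵁ U ⊓ (pullback.snd p g) ⁻¹ᵁ W) :=
    IsScalarTower.of_algebraMap_smul fun _ _ => rfl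
  letI modG : ∀ i, Module Γ(X, U) Γ((Scheme.Modules.pullback (pullback.fst p g)).obj (G i),
      (pullback.fst p g) ⁻¹ᵁ U ⊓ (pullback.snd p g) ⁻¹ᵁ W) :=
    fun i => Module.compHom _ ((pullback.fst p g).appLE U
      ((pullback.fst p g) ⁻¹ᵁ U ⊓ (pullback.snd p g) ⁻¹ᵁ W) inf_le_left).hom
  haveI : ∀ i, IsScalarTower Γ(X, U)
      Γ(pullback p g, (pullback.fst p g) ⁻¹ᵁ U ⊓ (pullback.snd p g) ⁻¹ᵁ W)
      Γ((Scheme.Modules.pullback (pullback.fst p g)).obj (G i),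
        (pullback.fst p g) ⁻¹ᵁ U ⊓ (pullback.snd p g) ⁻¹ᵁ W) :=
    fun i => IsScalarTower.of_algebraMap_smul fun _ _ => rfl
  obtain ⟨j, hj, hjm⟩ := exists_isBaseChange_sections (pullback.fst p g) F hU hU' inf_le_left
  have hGb := fun i => exists_isBaseChange_sections (pullback.fst p g) (G i) hU hU' inf_le_left
  choose jN hjN hjNm using hGb
  refine hprop_of_isBaseChange' j hj jN hjN (fun i => appLin (u i) U) _ (fun i m => ?_) H2
  rw [hjm, hjNm, appLin_apply, appLin_apply, map_app_pullRes]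

/-- the fibrewise criterion, as an equivalence -/
theorem univSep_iff_fibSep [IsLocallyNoetherian X]
    [SheafOfModules.IsFiniteType (R := X.ringCatSheaf) F]
    (hG : ∀ i, FlatMod.IsFlatOver p (G i)) :
    (∀ (S' : Scheme.{u}) (g : S' ⟶ S), ∀ (V : (pullback p g).Opens)
      (t : Γ((Scheme.Modules.pullback (pullback.fst p g)).obj F, V)),
      (∀ i, ((Scheme.Modules.pullback (pullback.fst p g)).map (u i)).app V t = 0) → t = 0) ↔
      FibSep p F G u :=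
  ⟨fun h s => h (Spec (S.residueField s)) (S.fromSpecResidueField s),
    fun h _ g => isSep_pullback_of_fibSep p F G u hG h g⟩

end Groth.Agent.Helper7.FibCritGeom
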