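import Mathlib
import Groth.Agent.Lib.Helper7.FibCritGeom2

/-!
# Fibrewise criterion for schematically dominant families: charts (helper7)
-/

set_option autoImplicit false
set_option linter.style.haveILetI false
set_option linter.unusedSectionVars false

open CategoryTheory AlgebraicGeometry Limits Opposite TopologicalSpace TensorProduct

universe u

namespace Groth.Agent.Helper7.FibCritGeom

open Groth.Agent.Helper7.SepAbs Groth.Agent.Helper7.SepBC Groth.Agent.Helper7.SepCore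
  Groth.Agent.Helper7.FibCrit Groth.Agent.Helper7.SchDom Groth.Agent.Helper7.SepGeom
  Groth.Agent.Helper7.ChartBC

/-- flatness does not depend on the way the module structure is presented -/
lemma flat_of_smul_eq {A N : Type*} [CommRing A] [AddCommGroup N] (m₁ m₂ : Module A N)
    (h : ∀ (a : A) (n : N), (letI := m₁; a • n) = (letI := m₂; a • n))
    (hf : @Module.Flat A N _ _ m₁) : @Module.Flat A N _ _ m₂ := by
  have : m₁ = m₂ := Module.ext' m₁ m₂ h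
  subst this
  exact hf

section Cover

variable {X : Scheme.{u}} {ι : Type u} {Z : ι → Scheme.{u}} (f : ∀ i, Z i ⟶ X)

/-- variant of `ringHProp_of_isSchDom` where the vanishing is only known on a cover -/
theorem exists_pow_mul_eq_zero_of_isSchDom_cover (h : IsSchDom f) {U : X.Opens}
    (hU : IsAffineOpen U) (a x : Γ(X, U))
    (hx : ∀ (i : ι) (z : Z i), z ∈ f i ⁻¹ᵁ U → ∃ (T : (Z i).Opens) (e : T ≤ f i ⁻¹ᵁ U),
      z ∈ T ∧ ∃ n : ℕ, (f i).appLE U T e (a ^ n * x) = 0) : ∃ n : ℕ, a ^ n * x = 0 := by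
  have h1 : X.presheaf.map (homOfLE (X.basicOpen_le a)).op x = 0 := by
    apply h (X.basicOpen a)
    intro i
    refine TopCat.Presheaf.section_ext (Z i).sheaf _ _ 0 (fun z hz => ?_)
    obtain ⟨T, eT, hzT, n, hn⟩ := hx i z
      (show z ∈ f i ⁻¹ᵁ U from (f i).preimage_mono (X.basicOpen_le a) hz)
    have hTa : (Z i).basicOpen ((f i).appLE U T eT a) = T ⊓ (f i) ⁻¹ᵁ (X.basicOpen a) :=
      Scheme.basicOpen_appLE (f i) T U eT a
    have hzTa : z ∈ (Z i).basicOpen ((f i).appLE U T eT a) := by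
      rw [hTa]
      exact ⟨hzT, hz⟩
    have hle : (Z i).basicOpen ((f i).appLE U T eT a) ≤ (f i) ⁻¹ᵁ (X.basicOpen a) := by
      rw [hTa]
      exact inf_le_right
    have e1 : (Z i).presheaf.map (homOfLE hle).op ((f i).app (X.basicOpen a)
        (X.presheaf.map (homOfLE (X.basicOpen_le a)).op x)) =
        (Z i).presheaf.map (homOfLE ((Z i).basicOpen_le ((f i).appLE U T eT a))).op
          ((f i).appLE U T eT x) := by
      rw [app_apply, appLE_res, res_appLE, appLE_res]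
    have e2 : (Z i).presheaf.map (homOfLE ((Z i).basicOpen_le ((f i).appLE U T eT a))).op
        ((f i).appLE U T eT x) = 0 := by
      have hunit := RingedSpace.isUnit_res_basicOpen (Z i).toRingedSpace
        ((f i).appLE U T eT a)
      have h3 := congrArg
        ((Z i).presheaf.map (homOfLE ((Z i).basicOpen_le ((f i).appLE U T eT a))).op) hn
      rw [map_mul, map_pow, map_mul, map_pow, map_zero] at h3
      exact (hunit.pow n).mul_left_cancel (h3.trans (mul_zero _).symm)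
    have h4 := TopCat.Presheaf.germ_res_apply (Z i).presheaf (homOfLE hle) z hzTa
      ((f i).app (X.basicOpen a) (X.presheaf.map (homOfLE (X.basicOpen_le a)).op x))
    change (Z i).presheaf.germ (f i ⁻¹ᵁ X.basicOpen a) z hz ((f i).app (X.basicOpen a)
      (X.presheaf.map (homOfLE (X.basicOpen_le a)).op x)) =
      (Z i).presheaf.germ (f i ⁻¹ᵁ X.basicOpen a) z hz 0
    rw [map_zero]
    refine h4.symm.trans ?_
    rw [e1, e2, map_zero]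
  exact exists_pow_mul_eq_zero_of_res_basicOpen_eq_zero_of_isAffineOpen X hU x a h1

/-- affine opens of the members of the family lying over `U` -/
def AffBelow (U : X.Opens) : Type u :=
  Σ i, {T : (Z i).Opens // IsAffineOpen T ∧ T ≤ f i ⁻¹ᵁ U}

/-- the ring of sections over a member of `AffBelow` -/
def Sec (U : X.Opens) (j : AffBelow f U) : Type u := Γ(Z j.1, j.2.1)

noncomputable instance (U : X.Opens) (j : AffBelow f U) : CommRing (Sec f U j) :=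
  inferInstanceAs (CommRing Γ(Z j.1, j.2.1))

noncomputable instance (U : X.Opens) (j : AffBelow f U) : Algebra Γ(X, U) (Sec f U j) :=
  ((f j.1).appLE U j.2.1 j.2.2.2).hom.toAlgebra

lemma ringHProp_of_hprop {U : X.Opens}
    (h : HProp (fun j : AffBelow f U => Algebra.linearMap Γ(X, U) (Sec f U j))) :
    RingHProp f U := by
  intro a x hx
  exact h a x (fun j => hx j.1 j.2.1 j.2.2.1 j.2.2.2)

end Cover

section Transfer

variable {X' Y' X Y : Scheme.{u}} {pr₁ : X' ⟶ X} {pr₂ : X' ⟶ Y'} {p : X ⟶ Y} {q : Y' ⟶ Y}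
  (H : IsPullback pr₁ pr₂ p q)
  {ι : Type u} {Z Z' : ι → Scheme.{u}} (f : ∀ i, Z i ⟶ X) {pz₁ : ∀ i, Z' i ⟶ Z i}
  {pz₂ : ∀ i, Z' i ⟶ Y'}
  (HZ : ∀ i, IsPullback (pz₁ i) (pz₂ i) (f i ≫ p) q) (f' : ∀ i, Z' i ⟶ X')
  (hf₁ : ∀ i, f' i ≫ pr₁ = pz₁ i ≫ f i) (hf₂ : ∀ i, f' i ≫ pr₂ = pz₂ i)
  {V : Y.Opens} (hV : IsAffineOpen V) {U : X.Opens} (hU : IsAffineOpen U) (eUV : U ≤ p ⁻¹ᵁ V)
  {W : Y'.Opens} (hW : IsAffineOpen W) (eW : W ≤ q ⁻¹ᵁ V)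

include H HZ hf₁ hf₂ hV hU eUV hW eW in
set_option maxHeartbeats 6400000 in
set_option synthInstance.maxHeartbeats 400000 in
/-- the separation property of the abstract base change of the family of section rings is
equivalent to the separation property on the chart of the base change -/
theorem chart_transfer :
    letI := (pr₁.appLE U (pr₁ ⁻¹ᵁ U ⊓ pr₂ ⁻¹ᵁ W) inf_le_left).hom.toAlgebra
    (HProp (fun j : AffBelow f U => (Algebra.linearMap Γ(X, U) (Sec f U j)).baseChange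
        Γ(X', pr₁ ⁻¹ᵁ U ⊓ pr₂ ⁻¹ᵁ W)) → RingHProp f' (pr₁ ⁻¹ᵁ U ⊓ pr₂ ⁻¹ᵁ W)) ∧
    (IsSchDom f' → HProp (fun j : AffBelow f U =>
      (Algebra.linearMap Γ(X, U) (Sec f U j)).baseChange Γ(X', pr₁ ⁻¹ᵁ U ⊓ pr₂ ⁻¹ᵁ W))) := by
  letI algAC : Algebra Γ(X, U) Γ(X', pr₁ ⁻¹ᵁ U ⊓ pr₂ ⁻¹ᵁ W) :=
    (pr₁.appLE U (pr₁ ⁻¹ᵁ U ⊓ pr₂ ⁻¹ᵁ W) inf_le_left).hom.toAlgebra
  have hU' : IsAffineOpen (pr₁ ⁻¹ᵁ U ⊓ pr₂ ⁻¹ᵁ W) := isAffineOpen_chart H hV hU eUV hW eW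
  let T' : ∀ j : AffBelow f U, (Z' j.1).Opens := fun j => (pz₁ j.1) ⁻¹ᵁ j.2.1 ⊓ (pz₂ j.1) ⁻¹ᵁ W
  have hT'le : ∀ j : AffBelow f U, T' j ≤ f' j.1 ⁻¹ᵁ (pr₁ ⁻¹ᵁ U ⊓ pr₂ ⁻¹ᵁ W) := fun j =>
    chart_le (f j.1) (f' j.1) (hf₁ j.1) (hf₂ j.1) j.2.2.2
  have hT'aff : ∀ j : AffBelow f U, IsAffineOpen (T' j) := fun j =>
    isAffineOpen_chart (HZ j.1) hV j.2.2.1 (fun z hz => eUV (j.2.2.2 hz)) hW eW
  let N' : AffBelow f U → Type u := fun j => Γ(Z' j.1, T' j)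
  letI algCN' : ∀ j, Algebra Γ(X', pr₁ ⁻¹ᵁ U ⊓ pr₂ ⁻¹ᵁ W) (N' j) := fun j =>
    ((f' j.1).appLE (pr₁ ⁻¹ᵁ U ⊓ pr₂ ⁻¹ᵁ W) (T' j) (hT'le j)).hom.toAlgebra
  letI algNN' : ∀ j, Algebra (Sec f U j) (N' j) := fun j =>
    ((pz₁ j.1).appLE j.2.1 (T' j) inf_le_left).hom.toAlgebra
  letI algAN' : ∀ j, Algebra Γ(X, U) (N' j) := fun j =>
    ((algebraMap Γ(X', pr₁ ⁻¹ᵁ U ⊓ pr₂ ⁻¹ᵁ W) (N' j)).comp
      (algebraMap Γ(X, U) Γ(X', pr₁ ⁻¹ᵁ U ⊓ pr₂ ⁻¹ᵁ W))).toAlgebra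
  haveI tACN' : ∀ j, IsScalarTower Γ(X, U) Γ(X', pr₁ ⁻¹ᵁ U ⊓ pr₂ ⁻¹ᵁ W) (N' j) := fun j =>
    IsScalarTower.of_algebraMap_eq (fun _ => rfl)
  have hpo : ∀ j : AffBelow f U, IsPushout ((f j.1).appLE U j.2.1 j.2.2.2)
      (pr₁.appLE U (pr₁ ⁻¹ᵁ U ⊓ pr₂ ⁻¹ᵁ W) inf_le_left)
      ((pz₁ j.1).appLE j.2.1 (T' j) inf_le_left)
      ((f' j.1).appLE (pr₁ ⁻¹ᵁ U ⊓ pr₂ ⁻¹ᵁ W) (T' j) (hT'le j)) := fun j =>
    isPushout_chart_paste H (f j.1) (HZ j.1) (f' j.1) (hf₁ j.1) (hf₂ j.1) hV hU eUV hW eW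
      j.2.2.1 j.2.2.2
  haveI tANN' : ∀ j, IsScalarTower Γ(X, U) (Sec f U j) (N' j) := fun j => by
    refine IsScalarTower.of_algebraMap_eq (fun r => ?_)
    have hw := (hpo j).w
    exact (congr($hw r)).symm
  haveI hIP : ∀ j, Algebra.IsPushout Γ(X, U) (Sec f U j) Γ(X', pr₁ ⁻¹ᵁ U ⊓ pr₂ ⁻¹ᵁ W) (N' j) :=
    fun j => CommRingCat.isPushout_iff_isPushout.mp (hpo j)
  have hbc : ∀ j, IsBaseChange Γ(X', pr₁ ⁻¹ᵁ U ⊓ pr₂ ⁻¹ᵁ W)
      (IsScalarTower.toAlgHom Γ(X, U) (Sec f U j) (N' j)).toLinearMap := fun j =>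
    (Algebra.IsPushout.symm (hIP j)).out
  have hcomm : ∀ (j : AffBelow f U) (a : Γ(X, U)),
      Algebra.linearMap Γ(X', pr₁ ⁻¹ᵁ U ⊓ pr₂ ⁻¹ᵁ W) (N' j)
        (Algebra.linearMap Γ(X, U) Γ(X', pr₁ ⁻¹ᵁ U ⊓ pr₂ ⁻¹ᵁ W) a) =
      (IsScalarTower.toAlgHom Γ(X, U) (Sec f U j) (N' j)).toLinearMap
        (Algebra.linearMap Γ(X, U) (Sec f U j) a) := by
    intro j a
    change algebraMap Γ(X', pr₁ ⁻¹ᵁ U ⊓ pr₂ ⁻¹ᵁ W) (N' j)
      (algebraMap Γ(X, U) Γ(X', pr₁ ⁻¹ᵁ U ⊓ pr₂ ⁻¹ᵁ W) a) =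
      algebraMap (Sec f U j) (N' j) (algebraMap Γ(X, U) (Sec f U j) a)
    rw [← IsScalarTower.algebraMap_apply, ← IsScalarTower.algebraMap_apply]
  constructor
  · intro H1base
    have H1 : HProp (fun j : AffBelow f U =>
        Algebra.linearMap Γ(X', pr₁ ⁻¹ᵁ U ⊓ pr₂ ⁻¹ᵁ W) (N' j)) :=
      hprop_of_isBaseChange'
        (Algebra.linearMap Γ(X, U) Γ(X', pr₁ ⁻¹ᵁ U ⊓ pr₂ ⁻¹ᵁ W)) (IsBaseChange.linearMap _ _)
        (fun j => (IsScalarTower.toAlgHom Γ(X, U) (Sec f U j) (N' j)).toLinearMap) hbc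
        (fun j => Algebra.linearMap Γ(X, U) (Sec f U j)) _ hcomm H1base
    intro hh c hyp
    exact H1 hh c (fun j => hyp j.1 (T' j) (hT'aff j) (hT'le j))
  · intro hdom
    have H1 : HProp (fun j : AffBelow f U =>
        Algebra.linearMap Γ(X', pr₁ ⁻¹ᵁ U ⊓ pr₂ ⁻¹ᵁ W) (N' j)) := by
      intro hh c hyp
      refine exists_pow_mul_eq_zero_of_isSchDom_cover f' hdom hU' hh c (fun i z hz => ?_)
      have hz1 : pz₁ i z ∈ f i ⁻¹ᵁ U := by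
        change (pz₁ i ≫ f i) z ∈ U
        rw [← hf₁]
        exact hz.1
      obtain ⟨T, hT, hzT, eT⟩ := Opens.isBasis_iff_nbhd.mp (Z i).isBasis_affineOpens hz1
      have hz2 : pz₂ i z ∈ W := by
        rw [← hf₂]
        exact hz.2
      obtain ⟨n, hn⟩ := hyp ⟨i, T, hT, eT⟩
      exact ⟨T' ⟨i, T, hT, eT⟩, hT'le ⟨i, T, hT, eT⟩, ⟨hzT, hz2⟩, n, hn⟩
    exact hprop_baseChange_of_isBaseChange
      (Algebra.linearMap Γ(X, U) Γ(X', pr₁ ⁻¹ᵁ U ⊓ pr₂ ⁻¹ᵁ W)) (IsBaseChange.linearMap _ _)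
      (fun j => (IsScalarTower.toAlgHom Γ(X, U) (Sec f U j) (N' j)).toLinearMap) hbc
      (fun j => Algebra.linearMap Γ(X, U) (Sec f U j)) _ hcomm H1

end Transfer

end Groth.Agent.Helper7.FibCritGeom
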