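import Mathlib
import Groth.Prelude.Def_MoreMor
import Groth.Agent.Lib.Helper7.FibCritGeom3

/-!
# Fibrewise criterion for universally schematically dominant families (helper7)
-/

set_option autoImplicit false
set_option linter.style.haveILetI false
set_option linter.unusedSectionVars false

open CategoryTheory AlgebraicGeometry Limits Opposite TopologicalSpace TensorProduct

universe u

namespace Groth.Agent.Helper7.FibCritGeom

open Groth.Agent.Helper7.SepAbs Groth.Agent.Helper7.SepBC Groth.Agent.Helper7.SepCore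
  Groth.Agent.Helper7.FibCrit Groth.Agent.Helper7.SchDom Groth.Agent.Helper7.SepGeom
  Groth.Agent.Helper7.ChartBC

variable {X S : Scheme.{u}} (p : X ⟶ S) {ι : Type u} (Z : ι → Scheme.{u}) (f : ∀ i, Z i ⟶ X)

lemma fiberMap_fst (i : ι) (s : S) :
    MoreMor.fiberMap (f i) p s ≫ p.fiberι s = (f i ≫ p).fiberι s ≫ f i :=
  pullback.lift_fst _ _ _

lemma fiberMap_snd (i : ι) (s : S) :
    MoreMor.fiberMap (f i) p s ≫ p.fiberToSpecResidueField s =
      (f i ≫ p).fiberToSpecResidueField s :=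
  pullback.lift_snd _ _ _

lemma fiberMap_eq_map (i : ι) (s : S) :
    MoreMor.fiberMap (f i) p s =
      pullback.map (f i ≫ p) (S.fromSpecResidueField s) p (S.fromSpecResidueField s) (f i)
        (𝟙 _) (𝟙 S) (Category.comp_id _) ((Category.comp_id _).trans (Category.id_comp _).symm) := by
  apply pullback.hom_ext
  · exact (fiberMap_fst p Z f i s).trans (pullback.lift_fst _ _ _).symm
  · exact (fiberMap_snd p Z f i s).trans
      ((pullback.lift_snd _ _ _).trans (Category.comp_id _)).symm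

set_option maxHeartbeats 6400000 in
set_option synthInstance.maxHeartbeats 400000 in
/-- the family of section rings over an affine chart is separating on all fibres, in the
ring-theoretic sense -/
theorem fibAll_sec (hfib : ∀ s : S, IsSchDom (fun i => MoreMor.fiberMap (f i) p s))
    {V : S.Opens} (hV : IsAffineOpen V) {U : X.Opens} (hU : IsAffineOpen U)
    (eUV : U ≤ p ⁻¹ᵁ V) :
    letI := (p.appLE V U eUV).hom.toAlgebra
    FibAll Γ(S, V) (fun j : AffBelow f U => Algebra.linearMap Γ(X, U) (Sec f U j)) := by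
  letI algAB : Algebra Γ(S, V) Γ(X, U) := (p.appLE V U eUV).hom.toAlgebra
  intro K _ algAK C _ algBC algKC algAC tABC tAKC hpoC
  obtain ⟨s, hs, ψ', hψ'⟩ := exists_residue_lift hV K (algebraMap Γ(S, V) K)
  have H : IsPullback (p.fiberι s) (p.fiberToSpecResidueField s) p (S.fromSpecResidueField s) :=
    IsPullback.of_hasPullback p (S.fromSpecResidueField s)
  have hT : IsAffineOpen (⊤ : (Spec (S.residueField s)).Opens) := isAffineOpen_top _
  have eT := top_le_preimage s V hs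
  have hUs : IsAffineOpen ((p.fiberι s) ⁻¹ᵁ U ⊓ (p.fiberToSpecResidueField s) ⁻¹ᵁ ⊤) :=
    isAffineOpen_chart H hV hU eUV hT eT
  have hpo := isPushout_chart H hV hU eUV hT eT
  letI algAk : Algebra Γ(S, V) Γ(Spec (S.residueField s), ⊤) :=
    ((S.fromSpecResidueField s).appLE V ⊤ eT).hom.toAlgebra
  letI algBCk : Algebra Γ(X, U)
      Γ(p.fiber s, (p.fiberι s) ⁻¹ᵁ U ⊓ (p.fiberToSpecResidueField s) ⁻¹ᵁ ⊤) :=
    ((p.fiberι s).appLE U
      ((p.fiberι s) ⁻¹ᵁ U ⊓ (p.fiberToSpecResidueField s) ⁻¹ᵁ ⊤) inf_le_left).hom.toAlgebra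
  letI algkCk : Algebra Γ(Spec (S.residueField s), ⊤)
      Γ(p.fiber s, (p.fiberι s) ⁻¹ᵁ U ⊓ (p.fiberToSpecResidueField s) ⁻¹ᵁ ⊤) :=
    ((p.fiberToSpecResidueField s).appLE ⊤
      ((p.fiberι s) ⁻¹ᵁ U ⊓ (p.fiberToSpecResidueField s) ⁻¹ᵁ ⊤) inf_le_right).hom.toAlgebra
  letI algACk : Algebra Γ(S, V)
      Γ(p.fiber s, (p.fiberι s) ⁻¹ᵁ U ⊓ (p.fiberToSpecResidueField s) ⁻¹ᵁ ⊤) :=
    ((algebraMap Γ(X, U) _).comp (algebraMap Γ(S, V) Γ(X, U))).toAlgebra
  haveI : IsScalarTower Γ(S, V) Γ(X, U)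
      Γ(p.fiber s, (p.fiberι s) ⁻¹ᵁ U ⊓ (p.fiberToSpecResidueField s) ⁻¹ᵁ ⊤) :=
    IsScalarTower.of_algebraMap_eq (fun _ => rfl)
  haveI : IsScalarTower Γ(S, V) Γ(Spec (S.residueField s), ⊤)
      Γ(p.fiber s, (p.fiberι s) ⁻¹ᵁ U ⊓ (p.fiberToSpecResidueField s) ⁻¹ᵁ ⊤) := by
    refine IsScalarTower.of_algebraMap_eq (fun r => ?_)
    have hw := hpo.w
    exact congr($hw r)
  haveI : Algebra.IsPushout Γ(S, V) Γ(X, U) Γ(Spec (S.residueField s), ⊤)
      Γ(p.fiber s, (p.fiberι s) ⁻¹ᵁ U ⊓ (p.fiberToSpecResidueField s) ⁻¹ᵁ ⊤) :=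
    CommRingCat.isPushout_iff_isPushout.mp hpo
  letI algkK : Algebra Γ(Spec (S.residueField s), ⊤) K := ψ'.toAlgebra
  haveI : IsScalarTower Γ(S, V) Γ(Spec (S.residueField s), ⊤) K :=
    IsScalarTower.of_algebraMap_eq (fun a => (hψ' a).symm)
  have H2 : HProp (fun j : AffBelow f U => (Algebra.linearMap Γ(X, U) (Sec f U j)).baseChange
      Γ(p.fiber s, (p.fiberι s) ⁻¹ᵁ U ⊓ (p.fiberToSpecResidueField s) ⁻¹ᵁ ⊤)) :=
    (chart_transfer H f
      (pz₁ := fun i => (f i ≫ p).fiberι s)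
      (pz₂ := fun i => (f i ≫ p).fiberToSpecResidueField s)
      (fun i => IsPullback.of_hasPullback (f i ≫ p) (S.fromSpecResidueField s))
      (fun i => MoreMor.fiberMap (f i) p s) (fun i => fiberMap_fst p Z f i s)
      (fun i => fiberMap_snd p Z f i s) hV hU eUV hT eT).2 (hfib s)
  exact hprop_ascent (A := Γ(S, V))
    (fun j : AffBelow f U => Algebra.linearMap Γ(X, U) (Sec f U j))
    Γ(Spec (S.residueField s), ⊤) (isField_ΓSpec_residueField s)
    Γ(p.fiber s, (p.fiberι s) ⁻¹ᵁ U ⊓ (p.fiberToSpecResidueField s) ⁻¹ᵁ ⊤) H2 K C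

set_option maxHeartbeats 6400000 in
set_option synthInstance.maxHeartbeats 400000 in
/-- **Fibrewise criterion**: a family which is schematically dominant on all fibres is
universally schematically dominant (locally Noetherian target `X`, members flat over `S`). -/
theorem isSchDom_pullback_of_fib [IsLocallyNoetherian X] [∀ i, Flat (f i ≫ p)]
    (hfib : ∀ s : S, IsSchDom (fun i => MoreMor.fiberMap (f i) p s)) {S' : Scheme.{u}}
    (g : S' ⟶ S) :
    IsSchDom (fun i => pullback.map (f i ≫ p) g p g (f i) (𝟙 S') (𝟙 S) (Category.comp_id _)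
      ((Category.comp_id _).trans (Category.id_comp _).symm)) := by
  apply isSchDom_of_ringHProp
  intro x'
  obtain ⟨V, hV, hxV, -⟩ := Opens.isBasis_iff_nbhd.mp S.isBasis_affineOpens
    (Opens.mem_top (p (pullback.fst p g x')))
  obtain ⟨U, hU, hxU, eUV⟩ := Opens.isBasis_iff_nbhd.mp X.isBasis_affineOpens
    (show pullback.fst p g x' ∈ p ⁻¹ᵁ V from hxV)
  have hgx : pullback.snd p g x' ∈ g ⁻¹ᵁ V := by
    change (pullback.snd p g ≫ g) x' ∈ V
    rw [← pullback.condition]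
    exact hxV
  obtain ⟨W, hW, hxW, eW⟩ := Opens.isBasis_iff_nbhd.mp S'.isBasis_affineOpens hgx
  have H : IsPullback (pullback.fst p g) (pullback.snd p g) p g := IsPullback.of_hasPullback p g
  have hU' : IsAffineOpen ((pullback.fst p g) ⁻¹ᵁ U ⊓ (pullback.snd p g) ⁻¹ᵁ W) :=
    isAffineOpen_chart H hV hU eUV hW eW
  have hpo := isPushout_chart H hV hU eUV hW eW
  refine ⟨_, hU', ⟨hxU, hxW⟩, ?_⟩
  letI algAB : Algebra Γ(S, V) Γ(X, U) := (p.appLE V U eUV).hom.toAlgebra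
  letI algAA' : Algebra Γ(S, V) Γ(S', W) := (g.appLE V W eW).hom.toAlgebra
  letI algBC' : Algebra Γ(X, U)
      Γ(pullback p g, (pullback.fst p g) ⁻¹ᵁ U ⊓ (pullback.snd p g) ⁻¹ᵁ W) :=
    ((pullback.fst p g).appLE U
      ((pullback.fst p g) ⁻¹ᵁ U ⊓ (pullback.snd p g) ⁻¹ᵁ W) inf_le_left).hom.toAlgebra
  letI algA'C' : Algebra Γ(S', W)
      Γ(pullback p g, (pullback.fst p g) ⁻¹ᵁ U ⊓ (pullback.snd p g) ⁻¹ᵁ W) :=
    ((pullback.snd p g).appLE W
      ((pullback.fst p g) ⁻¹ᵁ U ⊓ (pullback.snd p g) ⁻¹ᵁ W) inf_le_right).hom.toAlgebra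
  letI algAC' : Algebra Γ(S, V)
      Γ(pullback p g, (pullback.fst p g) ⁻¹ᵁ U ⊓ (pullback.snd p g) ⁻¹ᵁ W) :=
    ((algebraMap Γ(X, U) _).comp (algebraMap Γ(S, V) Γ(X, U))).toAlgebra
  haveI : IsScalarTower Γ(S, V) Γ(X, U)
      Γ(pullback p g, (pullback.fst p g) ⁻¹ᵁ U ⊓ (pullback.snd p g) ⁻¹ᵁ W) :=
    IsScalarTower.of_algebraMap_eq (fun _ => rfl)
  haveI : IsScalarTower Γ(S, V) Γ(S', W)
      Γ(pullback p g, (pullback.fst p g) ⁻¹ᵁ U ⊓ (pullback.snd p g) ⁻¹ᵁ W) := by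
    refine IsScalarTower.of_algebraMap_eq (fun r => ?_)
    have hw := hpo.w
    exact congr($hw r)
  haveI : Algebra.IsPushout Γ(S, V) Γ(X, U) Γ(S', W)
      Γ(pullback p g, (pullback.fst p g) ⁻¹ᵁ U ⊓ (pullback.snd p g) ⁻¹ᵁ W) :=
    CommRingCat.isPushout_iff_isPushout.mp hpo
  haveI : IsNoetherianRing Γ(X, U) := IsLocallyNoetherian.component_noetherian ⟨U, hU⟩
  have hflat : ∀ j : AffBelow f U,
      letI := Module.compHom (Sec f U j) (algebraMap Γ(S, V) Γ(X, U))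
      Module.Flat Γ(S, V) (Sec f U j) := by
    intro j
    have eTV : j.2.1 ≤ (f j.1 ≫ p) ⁻¹ᵁ V := fun z hz => eUV (j.2.2.2 hz)
    have hfl : ((f j.1 ≫ p).appLE V j.2.1 eTV).hom.Flat :=
      HasRingHomProperty.appLE @Flat (f j.1 ≫ p) inferInstance ⟨V, hV⟩ ⟨j.2.1, j.2.2.1⟩ eTV
    refine flat_of_smul_eq
      (@Algebra.toModule _ _ _ _ ((f j.1 ≫ p).appLE V j.2.1 eTV).hom.toAlgebra) _ ?_ hfl
    intro a n
    have e1 : (f j.1 ≫ p).appLE V j.2.1 eTV = p.appLE V U eUV ≫ (f j.1).appLE U j.2.1 j.2.2.2 := by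
      rw [Scheme.Hom.appLE_comp_appLE]
    change ((f j.1 ≫ p).appLE V j.2.1 eTV).hom a * n =
      ((f j.1).appLE U j.2.1 j.2.2.2).hom ((p.appLE V U eUV).hom a) * n
    rw [e1]
    rfl
  have H2 := hprop_baseChange_of_fibAll (A := Γ(S, V))
    (fun j : AffBelow f U => Algebra.linearMap Γ(X, U) (Sec f U j)) hflat
    (fibAll_sec p Z f hfib hV hU eUV) Γ(S', W)
    Γ(pullback p g, (pullback.fst p g) ⁻¹ᵁ U ⊓ (pullback.snd p g) ⁻¹ᵁ W)
  refine (chart_transfer H f (fun i => IsPullback.of_hasPullback (f i ≫ p) g) _ (fun i => ?_)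
    (fun i => ?_) hV hU eUV hW eW).1 H2
  · simp only [pullback.map]
    exact pullback.lift_fst _ _ _
  · simp only [pullback.map]
    exact (pullback.lift_snd _ _ _).trans (Category.comp_id _)

/-- the fibrewise criterion for universally schematically dominant families -/
theorem univSchDom_iff_fib [IsLocallyNoetherian X] [∀ i, Flat (f i ≫ p)] :
    (∀ (S' : Scheme.{u}) (g : S' ⟶ S),
      IsSchDom (fun i => pullback.map (f i ≫ p) g p g (f i) (𝟙 S') (𝟙 S) (Category.comp_id _)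
        ((Category.comp_id _).trans (Category.id_comp _).symm))) ↔
    ∀ s : S, IsSchDom (fun i => MoreMor.fiberMap (f i) p s) := by
  constructor
  · intro h s
    have h1 := h (Spec (S.residueField s)) (S.fromSpecResidueField s)
    intro V t ht
    refine h1 V t (fun i => ?_)
    have h2 : (MoreMor.fiberMap (f i) p s).app V t = 0 := ht i
    rw [fiberMap_eq_map] at h2
    exact h2
  · intro h S' g
    exact isSchDom_pullback_of_fib p Z f h g

end Groth.Agent.Helper7.FibCritGeom
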