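import Mathlib

/-!
# Fibrewise injectivity of a map presented by matrices (helper7)

For a ring map `π : S → T` behaving like `S → S_q / 𝔭 S_q` (units off `q`, kernel `𝔭 S` up to
`q`-units, denominators off `q`), injectivity modulo `𝔭` at `q` of the map
`S^a / J → S^b` induced by a matrix `ψ` is equivalent to `ker (ψ ⊗ T) = J T`.
-/

set_option autoImplicit false
set_option linter.style.haveILetI false
set_option linter.unusedSectionVars false

universe u

open Function

namespace Groth.Agent.Helper7.FibMatrix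

section Pi

variable {S : Type*} [CommRing S] (I : Ideal S) {b : ℕ}

theorem mem_smul_top_pi_iff (y : Fin b → S) :
    y ∈ I • (⊤ : Submodule S (Fin b → S)) ↔ ∀ k, y k ∈ I := by
  constructor
  · intro hy
    refine Submodule.smul_induction_on hy ?_ ?_
    · intro r hr m _ k
      rw [Pi.smul_apply, smul_eq_mul]
      exact I.mul_mem_right _ hr
    · intro y₁ y₂ h₁ h₂ k
      rw [Pi.add_apply]
      exact I.add_mem (h₁ k) (h₂ k)
  · intro hy
    rw [pi_eq_sum_univ' y]
    refine Submodule.sum_mem _ fun k _ => ?_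
    exact Submodule.smul_mem_smul (hy k) Submodule.mem_top

end Pi

section Main

variable {S T : Type u} [CommRing S] [CommRing T] (π : S →+* T) (q : Ideal S) [hq : q.IsPrime]
  (PS : Ideal S)
  (h1 : ∀ t, t ∉ q → IsUnit (π t))
  (h2 : ∀ y, π y = 0 ↔ ∃ t, t ∉ q ∧ t * y ∈ PS)
  (h3 : ∀ w : T, ∃ s t, t ∉ q ∧ π t * w = π s)

include h2 in
theorem map_eq_zero_of_mem {y : S} (hy : y ∈ PS) : π y = 0 :=
  (h2 y).mpr ⟨1, fun h => hq.ne_top ((Ideal.eq_top_iff_one q).mpr h), by rwa [one_mul]⟩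

include hq h3 in
/-- clearing denominators of a vector. -/
theorem exists_clear {a : ℕ} (w : Fin a → T) :
    ∃ (v : Fin a → S) (t : S), t ∉ q ∧ ∀ k, π t * w k = π (v k) := by
  classical
  choose s t ht hst using fun k => h3 (w k)
  refine ⟨fun k => s k * ∏ l ∈ Finset.univ.erase k, t l, ∏ l, t l, ?_, fun k => ?_⟩
  · intro hmem
    obtain ⟨l, -, hl⟩ := (Ideal.IsPrime.prod_mem_iff).mp hmem
    exact ht l hl
  · rw [← Finset.mul_prod_erase Finset.univ t (Finset.mem_univ k), map_mul, map_mul,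
      mul_right_comm, hst k]

include hq h1 h2 in
/-- vanishing of a vector in `T`. -/
theorem forall_map_eq_zero_iff {b : ℕ} (y : Fin b → S) :
    (∀ k, π (y k) = 0) ↔ ∃ t, t ∉ q ∧ ∀ k, t * y k ∈ PS := by
  classical
  constructor
  · intro hy
    choose t ht hty using fun k => (h2 (y k)).mp (hy k)
    refine ⟨∏ l, t l, ?_, fun k => ?_⟩
    · intro hmem
      obtain ⟨l, -, hl⟩ := (Ideal.IsPrime.prod_mem_iff).mp hmem
      exact ht l hl
    · rw [← Finset.mul_prod_erase Finset.univ t (Finset.mem_univ k), mul_right_comm]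
      exact PS.mul_mem_right _ (hty k)
  · rintro ⟨t, ht, hty⟩ k
    have h0 : π t * π (y k) = 0 := by
      rw [← map_mul]
      exact map_eq_zero_of_mem π q PS h2 (hty k)
    exact ((h1 t ht).mul_right_eq_zero).mp h0

variable {a b : ℕ} (ψ : Matrix (Fin b) (Fin a) S) (J : Submodule S (Fin a → S))
  (hJ : J ≤ LinearMap.ker (Matrix.mulVecLin ψ))

theorem mulVecLin_map_comp (v : Fin a → S) :
    Matrix.mulVecLin (ψ.map π) (fun k => π (v k)) = fun k => π (Matrix.mulVecLin ψ v k) := by
  ext k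
  simp only [Matrix.mulVecLin_apply, Matrix.mulVec, dotProduct, Matrix.map_apply, map_sum,
    map_mul]

/-- the fibrewise injectivity condition at `q` (elementwise form). -/
def FibInj : Prop :=
  ∀ x : (Fin a → S) ⧸ J,
    (∃ t, t ∉ q ∧ t • (J.liftQ (Matrix.mulVecLin ψ) hJ) x ∈
      PS • (⊤ : Submodule S (Fin b → S))) →
    ∃ t', t' ∉ q ∧ t' • x ∈ PS • (⊤ : Submodule S ((Fin a → S) ⧸ J))

theorem mem_smul_top_quot_iff (v : Fin a → S) :
    (Submodule.Quotient.mk v : (Fin a → S) ⧸ J) ∈ PS • (⊤ : Submodule S ((Fin a → S) ⧸ J)) ↔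
      ∃ j ∈ J, ∀ k, (v - j) k ∈ PS := by
  have hmap : PS • (⊤ : Submodule S ((Fin a → S) ⧸ J)) =
      (PS • (⊤ : Submodule S (Fin a → S))).map J.mkQ := by
    rw [Submodule.map_smul'', Submodule.map_top, Submodule.range_mkQ]
  rw [hmap]
  constructor
  · rintro ⟨z, hz, hzv⟩
    have : z - v ∈ J := by
      rw [← Submodule.Quotient.mk_eq_zero, Submodule.Quotient.mk_sub]
      rw [Submodule.mkQ_apply] at hzv
      rw [hzv, sub_self]
    refine ⟨v - z, by simpa using J.neg_mem this, fun k => ?_⟩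
    have h : v - (v - z) = z := by abel
    rw [h]
    exact (mem_smul_top_pi_iff PS z).mp hz k
  · rintro ⟨j, hj, hk⟩
    refine ⟨v - j, (mem_smul_top_pi_iff PS _).mpr hk, ?_⟩
    rw [Submodule.mkQ_apply, Submodule.Quotient.mk_sub, (Submodule.Quotient.mk_eq_zero J).mpr hj,
      sub_zero]

include hq h1 h2 h3 in
set_option maxHeartbeats 800000 in
theorem fibInj_iff :
    FibInj q PS ψ J hJ ↔
      LinearMap.ker (Matrix.mulVecLin (ψ.map π)) =
        Submodule.span T ((fun v : Fin a → S => fun k => π (v k)) '' (J : Set (Fin a → S))) := by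
  classical
  have hle : Submodule.span T ((fun v : Fin a → S => fun k => π (v k)) '' (J : Set (Fin a → S))) ≤
      LinearMap.ker (Matrix.mulVecLin (ψ.map π)) := by
    rw [Submodule.span_le]
    rintro _ ⟨v, hv, rfl⟩
    rw [SetLike.mem_coe, LinearMap.mem_ker, mulVecLin_map_comp]
    have : Matrix.mulVecLin ψ v = 0 := hJ hv
    rw [this]
    ext k
    simp
  constructor
  · intro hfib
    refine le_antisymm ?_ hle
    intro w hw
    rw [LinearMap.mem_ker] at hw
    obtain ⟨v, t₁, ht₁, hv⟩ := exists_clear π q h3 w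
    have hv' : (fun k => π (v k)) = π t₁ • w := by
      ext k
      rw [Pi.smul_apply, smul_eq_mul, hv]
    -- `ψ v` vanishes in `T`
    have h0 : ∀ k, π (Matrix.mulVecLin ψ v k) = 0 := by
      have := mulVecLin_map_comp π ψ v
      rw [hv', map_smul, hw, smul_zero] at this
      intro k
      exact (congrFun this k).symm
    obtain ⟨t₂, ht₂, ht₂v⟩ := (forall_map_eq_zero_iff π q PS h1 h2 _).mp h0
    obtain ⟨t', ht', hx⟩ := hfib (Submodule.Quotient.mk v) ⟨t₂, ht₂, by
      rw [Submodule.liftQ_apply, mem_smul_top_pi_iff]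
      intro k
      rw [Pi.smul_apply, smul_eq_mul]
      exact ht₂v k⟩
    rw [← Submodule.Quotient.mk_smul, mem_smul_top_quot_iff] at hx
    obtain ⟨j, hj, hjk⟩ := hx
    -- `π t' * π t₁ * w = π ∘ j`
    have hw' : (π t' * π t₁) • w = fun k => π (j k) := by
      ext k
      have hz : π ((t' • v - j) k) = 0 := map_eq_zero_of_mem π q PS h2 (hjk k)
      rw [Pi.sub_apply, Pi.smul_apply, smul_eq_mul, map_sub, map_mul, sub_eq_zero] at hz
      rw [Pi.smul_apply, smul_eq_mul, mul_assoc, hv k, hz]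
    have hu : IsUnit (π t' * π t₁) := (h1 t' ht').mul (h1 t₁ ht₁)
    have : w = (hu.unit⁻¹ : Tˣ) • (fun k => π (j k)) := by
      rw [← hw', Units.smul_def, smul_smul, IsUnit.val_inv_mul, one_smul]
    rw [this]
    exact Submodule.smul_mem _ _ (Submodule.subset_span ⟨j, hj, rfl⟩)
  · intro hker x hx
    obtain ⟨v, rfl⟩ := Submodule.Quotient.mk_surjective J x
    obtain ⟨t, ht, htx⟩ := hx
    rw [Submodule.liftQ_apply, mem_smul_top_pi_iff] at htx
    -- `π ∘ v` is in the kernel
    have hmem : (fun k => π (v k)) ∈ LinearMap.ker (Matrix.mulVecLin (ψ.map π)) := by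
      rw [LinearMap.mem_ker, mulVecLin_map_comp]
      ext k
      have := (forall_map_eq_zero_iff π q PS h1 h2 (Matrix.mulVecLin ψ v)).mpr
        ⟨t, ht, fun k => by simpa using htx k⟩
      exact this k
    rw [hker] at hmem
    -- elements of the span: `π t' • (π ∘ v) = π ∘ j` up to `PS`
    have key : ∀ z ∈ Submodule.span T ((fun v : Fin a → S => fun k => π (v k)) ''
        (J : Set (Fin a → S))), ∃ (t' : S) (j : Fin a → S), t' ∉ q ∧ j ∈ J ∧
          ∀ k, π t' * z k = π (j k) := by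
      intro z hz
      induction hz using Submodule.span_induction with
      | mem z hz =>
        obtain ⟨j, hj, rfl⟩ := hz
        exact ⟨1, j, fun h => hq.ne_top ((Ideal.eq_top_iff_one q).mpr h), hj,
          fun k => by rw [map_one, one_mul]⟩
      | zero =>
        exact ⟨1, 0, fun h => hq.ne_top ((Ideal.eq_top_iff_one q).mpr h), J.zero_mem,
          fun k => by simp⟩
      | add z₁ z₂ _ _ ih₁ ih₂ =>
        obtain ⟨t₁, j₁, ht₁, hj₁, h₁⟩ := ih₁
        obtain ⟨t₂, j₂, ht₂, hj₂, h₂⟩ := ih₂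
        refine ⟨t₁ * t₂, t₂ • j₁ + t₁ • j₂, fun h => (hq.mem_or_mem h).elim ht₁ ht₂,
          J.add_mem (J.smul_mem _ hj₁) (J.smul_mem _ hj₂), fun k => ?_⟩
        simp only [Pi.add_apply, Pi.smul_apply, smul_eq_mul, map_add, map_mul, ← h₁, ← h₂]
        ring
      | smul c z _ ih =>
        obtain ⟨t₁, j₁, ht₁, hj₁, h₁⟩ := ih
        obtain ⟨s, t₂, ht₂, hst⟩ := h3 c
        refine ⟨t₂ * t₁, s • j₁, fun h => (hq.mem_or_mem h).elim ht₂ ht₁, J.smul_mem _ hj₁,
          fun k => ?_⟩
        simp only [Pi.smul_apply, smul_eq_mul, map_mul, ← h₁, ← hst]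
        ring
    obtain ⟨t', j, ht', hj, hk⟩ := key _ hmem
    -- `t' v - j` vanishes in `T`
    have h0 : ∀ k, π ((t' • v - j) k) = 0 := by
      intro k
      rw [Pi.sub_apply, Pi.smul_apply, smul_eq_mul, map_sub, map_mul, hk k, sub_self]
    obtain ⟨t₂, ht₂, ht₂v⟩ := (forall_map_eq_zero_iff π q PS h1 h2 _).mp h0
    refine ⟨t₂ * t', fun h => (hq.mem_or_mem h).elim ht₂ ht', ?_⟩
    rw [← Submodule.Quotient.mk_smul, mem_smul_top_quot_iff]
    refine ⟨t₂ • j, J.smul_mem _ hj, fun k => ?_⟩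
    have : ((t₂ * t') • v - t₂ • j) k = t₂ * (t' • v - j) k := by
      simp only [Pi.sub_apply, Pi.smul_apply, smul_eq_mul]
      ring
    rw [this]
    exact ht₂v k

end Main

end Groth.Agent.Helper7.FibMatrix
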