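import Mathlib
import Groth.Prelude.Def_EGA4b
import Groth.Agent.Lib.Helper7.FibMatrix
import Groth.Agent.Lib.Helper7.InjFlatGlobal
import Groth.Agent.Lib.Helper7.LocTransfer
import Groth.Agent.Lib.Helper7.CokerOpenGlobal
import Groth.Agent.Lib.Helper21.FL1

/-!
# Fibrewise exactness of complexes of finite free modules (helper7)
-/

set_option autoImplicit false
set_option linter.style.haveILetI false
set_option linter.unusedSectionVars false

universe u

open Function

namespace Groth.Agent.Helper7.FibExact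

open Groth.Agent.Helper7.FibMatrix Groth.Agent.Helper7.FibInj Groth.Agent.Helper7.LocTransfer

section FibLoc

variable (R S : Type u) [CommRing R] [CommRing S] [Algebra R S] (q : Ideal S) [hq : q.IsPrime]

theorem fibLoc_isUnit (t : S) (ht : t ∉ q) :
    IsUnit (algebraMap S (EGA4.FibLocRing R S q) t) := by
  have h1 : IsUnit (algebraMap S (Localization.AtPrime q) t) :=
    IsLocalization.map_units (Localization.AtPrime q) (⟨t, ht⟩ : q.primeCompl)
  rw [IsScalarTower.algebraMap_apply S (Localization.AtPrime q) (EGA4.FibLocRing R S q)]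
  exact h1.map _

theorem fibLoc_eq_zero_iff (y : S) :
    algebraMap S (EGA4.FibLocRing R S q) y = 0 ↔
      ∃ t, t ∉ q ∧ t * y ∈ (q.comap (algebraMap R S)).map (algebraMap R S) := by
  rw [IsScalarTower.algebraMap_apply S (Localization.AtPrime q) (EGA4.FibLocRing R S q)]
  change Ideal.Quotient.mk _ _ = 0 ↔ _
  rw [Ideal.Quotient.eq_zero_iff_mem]
  have hmap : (q.comap (algebraMap R S)).map (algebraMap R (Localization.AtPrime q)) =
      ((q.comap (algebraMap R S)).map (algebraMap R S)).map
        (algebraMap S (Localization.AtPrime q)) := by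
    rw [Ideal.map_map, ← IsScalarTower.algebraMap_eq]
  rw [hmap, IsLocalization.mem_map_algebraMap_iff q.primeCompl]
  constructor
  · rintro ⟨⟨i, t⟩, h⟩
    have h' : algebraMap S (Localization.AtPrime q) (y * (t : S)) =
        algebraMap S (Localization.AtPrime q) (i : S) := by
      rw [map_mul]
      exact h
    obtain ⟨c, hc⟩ := (IsLocalization.eq_iff_exists q.primeCompl _).mp h'
    refine ⟨(c : S) * (t : S), fun hm => (hq.mem_or_mem hm).elim c.2 t.2, ?_⟩
    have : (c : S) * (t : S) * y = (c : S) * (i : S) := by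
      rw [← hc]; ring
    rw [this]
    exact Ideal.mul_mem_left _ _ i.2
  · rintro ⟨t, ht, hty⟩
    refine ⟨(⟨t * y, hty⟩, ⟨t, ht⟩), ?_⟩
    change algebraMap S (Localization.AtPrime q) y * algebraMap S (Localization.AtPrime q) t =
      algebraMap S (Localization.AtPrime q) (t * y)
    rw [map_mul, mul_comm]

theorem fibLoc_exists_clear (w : EGA4.FibLocRing R S q) :
    ∃ s t, t ∉ q ∧ algebraMap S (EGA4.FibLocRing R S q) t * w =
      algebraMap S (EGA4.FibLocRing R S q) s := by
  obtain ⟨z, rfl⟩ := Ideal.Quotient.mk_surjective w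
  obtain ⟨⟨s, t⟩, hst⟩ := IsLocalization.surj q.primeCompl z
  refine ⟨s, t, t.2, ?_⟩
  rw [IsScalarTower.algebraMap_apply S (Localization.AtPrime q) (EGA4.FibLocRing R S q),
    IsScalarTower.algebraMap_apply S (Localization.AtPrime q) (EGA4.FibLocRing R S q)]
  change Ideal.Quotient.mk _ _ * Ideal.Quotient.mk _ z = Ideal.Quotient.mk _ _
  rw [← map_mul, mul_comm]
  exact congrArg _ hst

end FibLoc

section Converse

variable {R B M N : Type u} [CommRing R] [CommRing B] [Algebra R B]
  [AddCommGroup M] [Module B M] [Module R M] [IsScalarTower R B M]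
  [AddCommGroup N] [Module B N] [Module R N] [IsScalarTower R B N]

/-- Converse of `InjFlatGlobal.global_inj_flat`: injectivity at `Q` with cokernel flat at `Q`
implies fibrewise injectivity at `Q`. -/
theorem fibInj_of_locInj_flat (u : M →ₗ[B] N) (Q : Ideal B) [Q.IsPrime]
    (hinj : ∀ x : M, u x = 0 → ∃ t : B, t ∉ Q ∧ t • x = 0)
    [Module.Flat R (LocalizedModule Q.primeCompl (N ⧸ LinearMap.range u))]
    (x : M) (hx : ∃ t : B, t ∉ Q ∧ t • u x ∈
      ((Q.comap (algebraMap R B)).map (algebraMap R B)) • (⊤ : Submodule B N)) :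
    ∃ t' : B, t' ∉ Q ∧ t' • x ∈
      ((Q.comap (algebraMap R B)).map (algebraMap R B)) • (⊤ : Submodule B M) := by
  set W := Q.primeCompl with hW
  set p := Q.comap (algebraMap R B) with hp
  let fM := LocalizedModule.mkLinearMap W M
  let fN := LocalizedModule.mkLinearMap W N
  let v : LocalizedModule W M →ₗ[B] LocalizedModule W N := IsLocalizedModule.map W fM fN u
  have hcomm : ∀ y, fN (u y) = v (fM y) := fun y => (IsLocalizedModule.map_apply W fM fN u y).symm
  have hvinj : Injective v :=
    injective_of_locInj (B := B) (S := B) W fM fN u v hcomm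
      (fun y hy => by obtain ⟨t, ht, hty⟩ := hinj y hy; exact ⟨t, ht, hty⟩)
  obtain ⟨e⟩ := exists_linearEquiv_coker (R := R) (B := B) (S := B) W fM fN u v hcomm
  haveI : Module.Flat R (LocalizedModule W N ⧸ LinearMap.range v) :=
    Module.Flat.of_linearEquiv e
  obtain ⟨t, ht, htx⟩ := hx
  have h1 : fN (u x) ∈ p • (⊤ : Submodule R (LocalizedModule W N)) :=
    map_mem_of_smul_mem W fN p (u x) t ht ((mem_map_smul_top_iff p _).mp htx)
  rw [hcomm] at h1
  have h2 := mem_of_map_mem_of_flat_coker v hvinj p (fM x) ((mem_map_smul_top_iff p _).mpr h1)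
  obtain ⟨t', ht', ht'x⟩ := exists_smul_mem_of_map_mem W fM p x ((mem_map_smul_top_iff p _).mp h2)
  exact ⟨t', ht', (mem_map_smul_top_iff p _).mpr ht'x⟩

end Converse

section Span

variable {S T : Type u} [CommRing S] [CommRing T] (π : S →+* T) {a c : ℕ}
  (χ : Matrix (Fin a) (Fin c) S)

theorem span_image_range :
    Submodule.span T ((fun v : Fin a → S => fun k => π (v k)) ''
      (LinearMap.range (Matrix.mulVecLin χ) : Set (Fin a → S))) =
      LinearMap.range (Matrix.mulVecLin (χ.map π)) := by
  classical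
  apply le_antisymm
  · rw [Submodule.span_le]
    rintro _ ⟨_, ⟨v, rfl⟩, rfl⟩
    exact ⟨fun k => π (v k), mulVecLin_map_comp π χ v⟩
  · rintro _ ⟨w, rfl⟩
    rw [pi_eq_sum_univ' w, map_sum]
    refine Submodule.sum_mem _ fun k _ => ?_
    rw [map_smul]
    refine Submodule.smul_mem _ _ (Submodule.subset_span ?_)
    refine ⟨Matrix.mulVecLin χ (Pi.single k 1), ⟨_, rfl⟩, ?_⟩
    change (fun l => π (Matrix.mulVecLin χ (Pi.single k 1) l)) = _
    rw [← mulVecLin_map_comp]
    congr 1
    ext l
    by_cases hlk : l = k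
    · subst hlk; simp
    · simp [Pi.single_eq_of_ne hlk]

theorem span_image_bot :
    Submodule.span T ((fun v : Fin a → S => fun k => π (v k)) ''
      ((⊥ : Submodule S (Fin a → S)) : Set (Fin a → S))) = ⊥ := by
  rw [Submodule.span_eq_bot]
  rintro _ ⟨v, hv, rfl⟩
  have : v = 0 := hv
  subst this
  ext k
  simp

end Span

section Step

variable (R S : Type u) [CommRing R] [IsNoetherianRing R] [CommRing S] [Algebra R S]
  [Algebra.FiniteType R S] [Module.Flat R S]
  {a b : ℕ} (ψ : Matrix (Fin b) (Fin a) S) (J : Submodule S (Fin a → S))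
  (hJ : J ≤ LinearMap.ker (Matrix.mulVecLin ψ))

/-- the locus where the induced map `S^a / J → S^b` is injective with flat cokernel. -/
def U : Set (PrimeSpectrum S) :=
  {q | (∀ x : (Fin a → S) ⧸ J, (J.liftQ (Matrix.mulVecLin ψ) hJ) x = 0 →
      ∃ t : S, t ∉ q.asIdeal ∧ t • x = 0) ∧
    Module.Flat R (LocalizedModule q.asIdeal.primeCompl
      ((Fin b → S) ⧸ LinearMap.range (J.liftQ (Matrix.mulVecLin ψ) hJ)))}

theorem isOpen_U : IsOpen (U R S ψ J hJ) := by
  haveI : IsNoetherianRing S := Algebra.FiniteType.isNoetherianRing R S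
  haveI : Algebra.FinitePresentation R S := Algebra.FinitePresentation.of_finiteType.mp inferInstance
  haveI : Module.FinitePresentation S ((Fin a → S) ⧸ J) :=
    Module.finitePresentation_of_surjective J.mkQ (Submodule.mkQ_surjective _)
      (by rw [Submodule.ker_mkQ]; exact IsNoetherian.noetherian J)
  exact Groth.Agent.Helper7.CokerOpenGlobal.isOpen_inj_flat_coker (R := R)
    (J.liftQ (Matrix.mulVecLin ψ) hJ)

set_option maxHeartbeats 800000 in
theorem mem_U_iff (q : PrimeSpectrum S) :
    q ∈ U R S ψ J hJ ↔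
      LinearMap.ker (Matrix.mulVecLin (ψ.map (algebraMap S (EGA4.FibLocRing R S q.asIdeal)))) =
        Submodule.span (EGA4.FibLocRing R S q.asIdeal)
          ((fun v : Fin a → S => fun k => algebraMap S (EGA4.FibLocRing R S q.asIdeal) (v k)) ''
            (J : Set (Fin a → S))) := by
  haveI : IsNoetherianRing S := Algebra.FiniteType.isNoetherianRing R S
  haveI : Algebra.FinitePresentation R S := Algebra.FinitePresentation.of_finiteType.mp inferInstance
  haveI : Module.FinitePresentation S ((Fin a → S) ⧸ J) :=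
    Module.finitePresentation_of_surjective J.mkQ (Submodule.mkQ_surjective _)
      (by rw [Submodule.ker_mkQ]; exact IsNoetherian.noetherian J)
  rw [← fibInj_iff (algebraMap S (EGA4.FibLocRing R S q.asIdeal)) q.asIdeal
    ((q.asIdeal.comap (algebraMap R S)).map (algebraMap R S))
    (fibLoc_isUnit R S q.asIdeal) (fibLoc_eq_zero_iff R S q.asIdeal)
    (fibLoc_exists_clear R S q.asIdeal) ψ J hJ]
  constructor
  · rintro ⟨hinj, hflat⟩ x hx
    haveI := hflat
    exact fibInj_of_locInj_flat (R := R) _ q.asIdeal hinj x hx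
  · intro hfib
    haveI : Module.Flat R (Fin b → S) :=
      Module.Flat.trans R S (Fin b → S)
    haveI : Module.Flat R (LocalizedModule q.asIdeal.primeCompl (Fin b → S)) :=
      Groth.Agent.Helper21.FL.flat_of_isLocalizedModule q.asIdeal.primeCompl
        (LocalizedModule.mkLinearMap q.asIdeal.primeCompl (Fin b → S))
    exact Groth.Agent.Helper7.InjFlatGlobal.global_inj_flat (R := R)
      (J.liftQ (Matrix.mulVecLin ψ) hJ) q.asIdeal hfib

end Step

end Groth.Agent.Helper7.FibExact
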