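import Mathlib
universe u
open AlgebraicGeometry CategoryTheory CategoryTheory.Limits TensorProduct

namespace Groth.Agent.Helper7.FibImm

/-- **Nakayama**: a finite algebra all of whose fibres are generated by `1` is a quotient. -/
theorem surjective_algebraMap_of_fiber {R S : Type u} [CommRing R] [CommRing S] [Algebra R S]
    [Module.Finite R S]
    (h : ∀ p : PrimeSpectrum R,
      Function.Surjective (algebraMap p.asIdeal.ResidueField (p.asIdeal.Fiber S))) :
    Function.Surjective (algebraMap R S) := by
  let N : Submodule R S := LinearMap.range (Algebra.linearMap R S)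
  suffices hN : Subsingleton (S ⧸ N) by
    intro s
    have : N.mkQ s = 0 := Subsingleton.elim _ _
    rw [Submodule.mkQ_apply, Submodule.Quotient.mk_eq_zero] at this
    obtain ⟨r, hr⟩ := this
    exact ⟨r, hr⟩
  rw [← Module.support_eq_empty_iff (R := R), Set.eq_empty_iff_forall_notMem]
  intro p hp
  rw [Module.mem_support_iff_nontrivial_residueField_tensorProduct] at hp
  rw [← not_subsingleton_iff_nontrivial] at hp
  apply hp
  have hsurj : Function.Surjective (LinearMap.lTensor p.asIdeal.ResidueField N.mkQ) :=
    LinearMap.lTensor_surjective _ N.mkQ_surjective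
  refine ⟨fun a b => ?_⟩
  suffices H : ∀ z : p.asIdeal.ResidueField ⊗[R] (S ⧸ N), z = 0 by rw [H a, H b]
  intro z
  obtain ⟨w, rfl⟩ := hsurj z
  obtain ⟨c, rfl⟩ := h p w
  rw [Algebra.TensorProduct.algebraMap_apply, Algebra.algebraMap_self, RingHom.id_apply,
    LinearMap.lTensor_tmul]
  have : N.mkQ (1 : S) = 0 := by
    rw [Submodule.mkQ_apply, Submodule.Quotient.mk_eq_zero]
    exact ⟨1, by simp⟩
  rw [this, tmul_zero]

set_option backward.isDefEq.respectTransparency false in
theorem isClosedImmersion_SpecMap_of_fiber {R S : CommRingCat.{u}} (φ : R ⟶ S)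
    (hfin : φ.hom.Finite)
    (h : ∀ y : Spec R, IsEmpty ((Spec.map φ).fiber y) ∨
      IsIso ((Spec.map φ).fiberToSpecResidueField y)) :
    IsClosedImmersion (Spec.map φ) := by
  algebraize [φ.hom]
  apply IsClosedImmersion.spec_of_surjective
  change Function.Surjective (algebraMap R S)
  apply surjective_algebraMap_of_fiber
  intro p
  have e := Spec.fiberToSpecResidueFieldIso R S p
  rcases h p with h1 | h1
  · have : IsEmpty ((Spec.map (CommRingCat.ofHom (algebraMap R S))).fiber p) := h1
    have h2 : IsEmpty (Spec (.of (p.asIdeal.Fiber S))) :=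
      ⟨fun x => this.false (e.inv.left x)⟩
    have h3 : Subsingleton (p.asIdeal.Fiber S) := PrimeSpectrum.isEmpty_iff_subsingleton.1 h2
    exact Function.surjective_to_subsingleton _
  · have h1' : IsIso ((Spec.map (CommRingCat.ofHom (algebraMap R S))).fiberToSpecResidueField p) :=
      h1
    have h2 : IsIso (Spec.map (CommRingCat.ofHom
        (algebraMap p.asIdeal.ResidueField (p.asIdeal.Fiber S)))) :=
      ((MorphismProperty.isomorphisms Scheme).arrow_iso_iff e).1 h1'
    exact (isIso_SpecMap_iff.1 h2).2

theorem isClosedImmersion_of_fiber_of_Spec_Spec {R S : CommRingCat.{u}} (g : Spec S ⟶ Spec R)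
    [IsFinite g]
    (h : ∀ y : Spec R, IsEmpty (g.fiber y) ∨ IsIso (g.fiberToSpecResidueField y)) :
    IsClosedImmersion g := by
  obtain ⟨φ, rfl⟩ := Spec.map_surjective g
  exact isClosedImmersion_SpecMap_of_fiber φ ((IsFinite.SpecMap_iff φ).1 inferInstance) h

/-- the fibre condition is stable under base change -/
theorem fiber_condition_of_isPullback {P X Y Z : Scheme.{u}} {fst : P ⟶ X}
    {snd : P ⟶ Y} {f : X ⟶ Z} {g : Y ⟶ Z} (H : IsPullback fst snd f g)
    (h : ∀ z : Z, IsEmpty (f.fiber z) ∨ IsIso (f.fiberToSpecResidueField z)) (y : Y) :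
    IsEmpty (snd.fiber y) ∨ IsIso (snd.fiberToSpecResidueField y) := by
  have sq := isPullback_fiberToSpecResidueField_of_isPullback H y
  rcases h (g y) with h1 | h1
  · left
    exact ⟨fun x => h1.false ((pullback.map _ _ _ _ fst (Spec.map (g.residueFieldMap y)) g H.w.symm
      (by simp) : snd.fiber y ⟶ f.fiber (g y)) x)⟩
  · right
    exact MorphismProperty.of_isPullback (P := MorphismProperty.isomorphisms Scheme) sq h1

theorem isClosedImmersion_of_fiber_of_Spec {X : Scheme.{u}} {R : CommRingCat.{u}}
    (f : X ⟶ Spec R) [IsFinite f]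
    (h : ∀ y : Spec R, IsEmpty (f.fiber y) ∨ IsIso (f.fiberToSpecResidueField y)) :
    IsClosedImmersion f := by
  have : IsAffine X := isAffine_of_isAffineHom f
  have H : IsPullback X.isoSpec.inv (X.isoSpec.inv ≫ f) f (𝟙 _) :=
    IsPullback.of_horiz_isIso ⟨by simp⟩
  have h1 : IsClosedImmersion (X.isoSpec.inv ≫ f) :=
    isClosedImmersion_of_fiber_of_Spec_Spec _ (fiber_condition_of_isPullback H h)
  exact (MorphismProperty.cancel_left_of_respectsIso @IsClosedImmersion X.isoSpec.inv f).1 h1

theorem isClosedImmersion_of_fiber {X Y : Scheme.{u}} (f : X ⟶ Y) [IsProper f]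
    (h : ∀ y : Y, IsEmpty (f.fiber y) ∨ IsIso (f.fiberToSpecResidueField y)) :
    IsClosedImmersion f := by
  have hqf : LocallyQuasiFinite f := by
    refine .of_fiberToSpecResidueField f fun y => ?_
    rcases h y with h1 | h1 <;> infer_instance
  have hfin : IsFinite f := .of_isProper_of_locallyQuasiFinite f
  rw [IsZariskiLocalAtTarget.iff_of_openCover (P := @IsClosedImmersion) Y.affineCover]
  intro i
  have : IsFinite (pullback.snd f (Y.affineCover.f i)) :=
    MorphismProperty.pullback_snd (P := @IsFinite) _ _ inferInstance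
  exact @isClosedImmersion_of_fiber_of_Spec _ _ (pullback.snd f (Y.affineCover.f i)) this
    (fiber_condition_of_isPullback (IsPullback.of_hasPullback f (Y.affineCover.f i)) h)

theorem fiber_condition_of_isClosedImmersion {X Y : Scheme.{u}} (f : X ⟶ Y) [IsClosedImmersion f]
    (y : Y) : IsEmpty (f.fiber y) ∨ IsIso (f.fiberToSpecResidueField y) := by
  have hcl : IsClosedImmersion (f.fiberToSpecResidueField y) :=
    MorphismProperty.pullback_snd (P := @IsClosedImmersion) _ _ inferInstance
  by_cases hE : IsEmpty (f.fiber y)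
  · exact Or.inl hE
  right
  rw [not_isEmpty_iff] at hE
  obtain ⟨h1, h2⟩ := IsClosedImmersion.isAffine_surjective_of_isAffine
    (f.fiberToSpecResidueField y)
  have : Nonempty (⊤ : (f.fiber y).Opens) := ⟨⟨hE.some, trivial⟩⟩
  have hnt : Nontrivial Γ(f.fiber y, ⊤) := inferInstance
  have hinj : Function.Injective (f.fiberToSpecResidueField y).appTop.hom := by
    have : Function.Injective ((f.fiberToSpecResidueField y).appTop.hom ∘
        (Scheme.ΓSpecIso (Y.residueField y)).inv.hom) :=
      (RingHom.injective ((f.fiberToSpecResidueField y).appTop.hom.comp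
        (Scheme.ΓSpecIso (Y.residueField y)).inv.hom))
    exact Function.Injective.of_comp_right this
      (ConcreteCategory.bijective_of_isIso (Scheme.ΓSpecIso (Y.residueField y)).inv).2
  have : IsIso (f.fiberToSpecResidueField y).appTop :=
    (ConcreteCategory.isIso_iff_bijective _).2 ⟨hinj, h2⟩
  exact (HasAffineProperty.iff_of_isAffine (P := MorphismProperty.isomorphisms Scheme)).2 ⟨h1, this⟩

end Groth.Agent.Helper7.FibImm
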