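import Mathlib
import Groth.Agent.Lib.Helper7.FibQuotA
import Groth.Agent.Lib.Helper18.GrpFppf3
import Groth.Agent.Lib.Helper18.GrpGenFlat
import Groth.Agent.Lib.Helper21.AffDesc
import Groth.Agent.Lib.Helper9.FTDesc
import Groth.Agent.Lib.Helper9.RatSec
import Groth.Agent.Lib.Helper12.CartierSm
import Groth.Prelude.Def_RedSub

/-!
# Affineness of `G/G'` from affineness of `G₀/G₀'` and `G₁/G₁'` (helper7)
-/

set_option autoImplicit false
set_option linter.style.haveILetI false
set_option linter.unusedSectionVars false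
universe u

open CategoryTheory CategoryTheory.Limits MonoidalCategory CartesianMonoidalCategory MonObj
  AlgebraicGeometry

namespace Groth.Agent.Helper7.ThirdIso

section General

variable {C : Type*} [Category C] [CartesianMonoidalCategory C]

theorem isMonHom_of_comp_mono {A B D : C} [MonObj A] [MonObj B] [MonObj D] (f : A ⟶ B)
    (g : B ⟶ D) [IsMonHom g] [Mono g] [IsMonHom (f ≫ g)] : IsMonHom f := by
  constructor
  · rw [← cancel_mono g, Category.assoc, IsMonHom.one_hom (f := f ≫ g), IsMonHom.one_hom (f := g)]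
  · rw [← cancel_mono g, Category.assoc, IsMonHom.mul_hom (f := f ≫ g), Category.assoc,
      IsMonHom.mul_hom (f := g)]
    simp

end General

variable {S : Scheme.{u}}

/-- fpqc coverings (by one quasi-compact morphism) in `Over S` -/
def fpqcOver (S : Scheme.{u}) : MorphismProperty (Over S) :=
  fun _ _ f => Surjective f.left ∧ Flat f.left ∧ QuasiCompact f.left

theorem quasiCompact_of_comp_surjective {X Y Z : Scheme.{u}} (f : X ⟶ Y) (g : Y ⟶ Z)
    [Surjective f] [QuasiCompact (f ≫ g)] : QuasiCompact g := by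
  constructor
  intro U hU hUc
  have h1 : IsCompact ((f ≫ g).base ⁻¹' U) := QuasiCompact.isCompact_preimage _ hU hUc
  have h2 : g.base ⁻¹' U = f.base '' ((f ≫ g).base ⁻¹' U) := by
    ext y
    constructor
    · intro hy
      obtain ⟨x, rfl⟩ := f.surjective y
      exact ⟨x, by simpa using hy, rfl⟩
    · rintro ⟨x, hx, rfl⟩
      simpa using hx
  rw [h2]
  exact h1.image f.continuous

theorem coverClass_fpqcOver : CoverClass (fpqcOver S) where
  bc := ⟨by
    rintro X Y Y' B f g f' g' sq ⟨h1, h2, h3⟩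
    have sq' : IsPullback f'.left g'.left g.left f.left := sq.map (Over.forget S)
    exact ⟨MorphismProperty.of_isPullback (P := @Surjective) sq' h1,
      MorphismProperty.of_isPullback (P := @Flat) sq' h2,
      MorphismProperty.of_isPullback (P := @QuasiCompact) sq' h3⟩⟩
  comp := ⟨by
    rintro X Y Z f g ⟨h1, h2, h3⟩ ⟨h1', h2', h3'⟩
    refine ⟨?_, ?_, ?_⟩ <;> rw [Over.comp_left] <;> infer_instance⟩
  of_iso := by
    intro X Y f hf
    haveI : IsIso f.left := (Over.forget S).map_isIso f
    exact ⟨inferInstance, inferInstance, inferInstance⟩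
  cancel := by
    rintro X Y Z f g ⟨h1, h2, h3⟩ ⟨h1', h2', h3'⟩
    rw [Over.comp_left] at h1' h2' h3'
    refine ⟨?_, ?_, ?_⟩
    · exact Surjective.of_comp f.left g.left
    · exact Groth.Agent.Helper18.GrpFppf.flat_of_comp_of_surjective f.left g.left
    · exact quasiCompact_of_comp_surjective f.left g.left
  epi := by
    rintro X Y f ⟨h1, h2, h3⟩
    haveI : Epi f.left := Flat.epi_of_flat_of_surjective f.left
    exact Over.epi_of_epi_left f
  iso := by
    rintro X Y f ⟨h1, h2, h3⟩ hm
    haveI : Mono f.left := inferInstance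
    haveI : IsIso f.left := Flat.isIso_of_surjective_of_mono f.left
    haveI : IsIso ((Over.forget S).map f) := ‹IsIso f.left›
    exact isIso_of_reflects_iso f (Over.forget S)

theorem desc_fpqcOver {X Y Z : Over S} (f : X ⟶ Y) (φ : X ⟶ Z) (hf : fpqcOver S f)
    (h : ∀ {T : Over S} (a b : T ⟶ X), a ≫ f = b ≫ f → a ≫ φ = b ≫ φ) :
    ∃ φ' : Y ⟶ Z, f ≫ φ' = φ := by
  obtain ⟨h1, h2, h3⟩ := hf
  haveI : EffectiveEpi f.left := inferInstance
  exact Groth.Agent.Helper18.GrpFppf.exists_desc_of_cover f φ h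

section Main

variable {k : Type u} [Field k] [CharZero k]

theorem affine_quotient
    (G : Over (Spec (CommRingCat.of k))) [GrpObj G] [IsAffine G.left] [LocallyOfFiniteType G.hom]
    (G' : Over (Spec (CommRingCat.of k))) [GrpObj G'] (i' : G' ⟶ G) [IsMonHom i']
    (hi' : IsClosedImmersion i'.left)
    (G₀ : Over (Spec (CommRingCat.of k))) [GrpObj G₀] (i₀ : G₀ ⟶ G) [IsMonHom i₀]
    (hi₀ : IsClosedImmersion i₀.left)
    (G₁ : Over (Spec (CommRingCat.of k))) [GrpObj G₁] (q₁ : G ⟶ G₁) [IsMonHom q₁]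
    (hq₁ : RedSub.IsQuotient i₀ q₁)
    (G₀' : Over (Spec (CommRingCat.of k))) [GrpObj G₀'] (j : G₀' ⟶ G₀) (j' : G₀' ⟶ G')
    (hj : IsPullback j j' i₀ i')
    (G₁' : Over (Spec (CommRingCat.of k))) [GrpObj G₁'] (i₁' : G₁' ⟶ G₁) [IsMonHom i₁']
    (hi₁' : IsClosedImmersion i₁'.left)
    (p : G' ⟶ G₁') (hp : p ≫ i₁' = i' ≫ q₁) (hps : Surjective p.left)
    (Qa : Over (Spec (CommRingCat.of k))) (qa : G₀ ⟶ Qa) (hqa : RedSub.IsQuotient j qa)
    (ha : IsAffine Qa.left)
    (Qb : Over (Spec (CommRingCat.of k))) (qb : G₁ ⟶ Qb) (hqb : RedSub.IsQuotient i₁' qb)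
    (hb : IsAffine Qb.left)
    (Q : Over (Spec (CommRingCat.of k))) (q : G ⟶ Q) (hq : RedSub.IsQuotient i' q) :
    IsAffine Q.left := by
  obtain ⟨q₁s, q₁f, q₁p, q₁pb⟩ := hq₁
  obtain ⟨qas, qaf, qap, qapb⟩ := hqa
  obtain ⟨qbs, qbf, qbp, qbpb⟩ := hqb
  obtain ⟨qs, qf, qp, qpb⟩ := hq
  haveI := hi'
  haveI := hi₀
  haveI := hi₁'
  haveI := hps
  haveI := ha
  haveI := hb
  -- Noetherian spaces
  haveI : IsLocallyNoetherian G.left := LocallyOfFiniteType.isLocallyNoetherian G.hom
  haveI : IsNoetherian G.left := { }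
  haveI : TopologicalSpace.NoetherianSpace G.left := inferInstance
  haveI : TopologicalSpace.NoetherianSpace G'.left :=
    (i'.left.isClosedEmbedding.isInducing).noetherianSpace
  haveI : TopologicalSpace.NoetherianSpace G₀.left :=
    (i₀.left.isClosedEmbedding.isInducing).noetherianSpace
  haveI : TopologicalSpace.NoetherianSpace G₁.left :=
    TopologicalSpace.noetherianSpace_of_surjective q₁.left.base q₁.left.continuous
      q₁.left.surjective
  haveI : Mono i₀ := by
    haveI : Mono i₀.left := inferInstance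
    exact Over.mono_of_mono_left i₀
  haveI : Mono i₁' := by
    haveI : Mono i₁'.left := inferInstance
    exact Over.mono_of_mono_left i₁'
  -- p is flat
  haveI : LocallyOfFiniteType G₁.hom :=
    Groth.Agent.Helper9.FTDesc.locallyOfFiniteType_of_comp_fppf_surjective q₁.left G₁.hom
      (by rw [Over.w]; infer_instance)
  haveI : LocallyOfFiniteType G₁'.hom := by rw [← Over.w i₁']; infer_instance
  haveI : LocallyOfFiniteType G'.hom := by rw [← Over.w i']; infer_instance
  haveI : QuasiCompact G'.hom := inferInstance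
  haveI : Smooth G₁'.hom := Groth.Agent.Helper12.CartierSm.smooth_of_charZero k G₁'
  haveI : IsReduced G₁'.left := Groth.Agent.Helper9.RatSec.isReduced_of_smooth G₁'.hom
  haveI : IsMonHom (p ≫ i₁') := by rw [hp]; infer_instance
  haveI : IsMonHom p := isMonHom_of_comp_mono p i₁'
  haveI : Flat p.left :=
    Groth.Agent.Helper18.GrpFppf.flat_of_surjective_hom_of_isReduced G' G₁' p
  -- covers
  have hE := coverClass_fpqcOver (S := Spec (CommRingCat.of k))
  have hEG' : fpqcOver (Spec (CommRingCat.of k)) (toUnit G') := by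
    refine ⟨?_, ?_, ?_⟩
    · show Surjective G'.hom
      exact Groth.Agent.Helper18.GrpFppf.surjective_hom G'
    · show Flat G'.hom
      infer_instance
    · show QuasiCompact G'.hom
      infer_instance
  obtain ⟨r, ψ', hr, hpb⟩ := fibration hE
    (fun {X Y Z} f φ hf h => desc_fpqcOver f φ hf h) i' i₀ q₁ ⟨q₁s, q₁f, inferInstance⟩ q₁pb
    j j' hj i₁' p hp ⟨hps, inferInstance, inferInstance⟩ hEG'
    qa ⟨qas, qaf, inferInstance⟩ qapb qb ⟨qbs, qbf, inferInstance⟩ qbpb
    q ⟨qs, qf, inferInstance⟩ qpb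
  have sq : IsPullback (fst G Qa).left ψ'.left (q₁ ≫ qb).left r.left :=
    (hpb.map (Over.forget _)).flip
  haveI : IsAffineHom (fst G Qa).left := by
    show IsAffineHom (pullback.fst G.hom Qa.hom)
    infer_instance
  haveI := Groth.Agent.Helper21.AffDesc.affine.{u}
  have hcov : (@Surjective ⊓ @Flat ⊓ @QuasiCompact : MorphismProperty Scheme.{u})
      (q₁ ≫ qb).left := by
    refine ⟨⟨?_, ?_⟩, inferInstance⟩
    · rw [Over.comp_left]; infer_instance
    · rw [Over.comp_left]; infer_instance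
  have hr_aff : IsAffineHom r.left :=
    MorphismProperty.of_isPullback_of_descendsAlong (P := @IsAffineHom)
      (Q := @Surjective ⊓ @Flat ⊓ @QuasiCompact) sq hcov inferInstance
  exact isAffine_of_isAffineHom r.left

end Main

end Groth.Agent.Helper7.ThirdIso
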