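import Mathlib
import Groth.Agent.Lib.Helper13.QCohStalk

/-!
# Multiplication by a global section as an endomorphism of an `O_X`-module (helper7)
-/

set_option autoImplicit false
set_option linter.style.haveILetI false
set_option linter.unusedSectionVars false

open CategoryTheory AlgebraicGeometry Limits Opposite TopologicalSpace

universe u

namespace Groth.Agent.Helper7.MulSec

open Groth.Agent.Helper13.QCoh

variable {X : Scheme.{u}}

/-- restriction of a global section -/
noncomputable def resTop (g : Γ(X, ⊤)) (U : X.Opens) : Γ(X, U) :=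
  X.presheaf.map (homOfLE (le_top : U ≤ ⊤)).op g

lemma resTop_map (g : Γ(X, ⊤)) {U V : X.Opens} (i : U ⟶ V) :
    X.presheaf.map i.op (resTop g V) = resTop g U := by
  unfold resTop
  rw [← CommRingCat.comp_apply, ← Functor.map_comp]
  rfl

lemma germ_resTop (g : Γ(X, ⊤)) (U : X.Opens) (x : X) (hx : x ∈ U) :
    X.presheaf.germ U x hx (resTop g U) = X.presheaf.germ ⊤ x trivial g := by
  unfold resTop
  exact TopCat.Presheaf.germ_res_apply X.presheaf (homOfLE (le_top : U ≤ ⊤)) x hx g

/-- multiplication by a global section as a morphism of abelian presheaves -/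
noncomputable def mulPre (g : Γ(X, ⊤)) (M : X.Modules) : M.presheaf ⟶ M.presheaf where
  app U := M.smul (resTop g U.unop)
  naturality U V i := by
    have h := Scheme.Modules.map_comp_smul (M := M) i.unop (resTop g U.unop)
    rw [resTop_map] at h
    exact h.symm

/-- multiplication by a global section -/
noncomputable def mulSec (g : Γ(X, ⊤)) (M : X.Modules) : M ⟶ M :=
  ⟨PresheafOfModules.homMk (mulPre g M) (fun U r m => by
    obtain ⟨U⟩ := U
    have h : ∀ (a b : Γ(X, U)) (m : Γ(M, U)), a • (b • m) = b • (a • m) :=
      fun a b m => smul_comm a b m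
    exact h (resTop g U) r m)⟩

lemma mulSec_app (g : Γ(X, ⊤)) (M : X.Modules) (U : X.Opens) (m : Γ(M, U)) :
    (mulSec g M).app U m = resTop g U • m := rfl

lemma stalkMap_mulSec (g : Γ(X, ⊤)) (M : X.Modules) (x : X) (m : M.presheaf.stalk x) :
    stalkMap (mulSec g M) x m = X.presheaf.germ ⊤ x trivial g • m := by
  obtain ⟨U, hxU, m₀, rfl⟩ := TopCat.Presheaf.exists_germ_eq M.presheaf m
  rw [stalkMap_germ, mulSec_app, germ_smul, germ_resTop]

end Groth.Agent.Helper7.MulSec
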