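import Mathlib
import Groth.Agent.Lib.Helper7.MulSec
import Groth.Agent.Lib.Helper7.StalkInjFlatOpen
import Groth.Agent.Lib.Helper13.FinAffine2
import Groth.Agent.Lib.Helper13.FinTypeEpi
import Groth.Agent.Lib.Helper13.FinPresAffine

/-!
# Openness of the locus where global sections are fibrewise weakly regular (helper7)
-/

set_option autoImplicit false
set_option linter.style.haveILetI false
set_option linter.unusedSectionVars false

open CategoryTheory AlgebraicGeometry Limits Opposite TopologicalSpace Function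
open scoped Pointwise

universe u

namespace Groth.Agent.Helper7.FibRegOpen

open Groth.Agent.Helper13.QCoh Groth.Agent.Helper13.QCohLoc Groth.Agent.Helper3.CohLenAdd
  Groth.Agent.Helper7.StalkInjFlat Groth.Agent.Helper7.MulSec RingTheory.Sequence

section Alg

variable {R : Type*} [CommRing R] {N C : Type*} [AddCommGroup N] [Module R N]
  [AddCommGroup C] [Module R C]

/-- `(N/JN)/r(N/JN) ≃ (N/rN)/J(N/rN)` -/
noncomputable def quotSwap (J : Ideal R) (r : R) :
    QuotSMulTop r (N ⧸ J • (⊤ : Submodule R N)) ≃ₗ[R]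
      (QuotSMulTop r N) ⧸ J • (⊤ : Submodule R (QuotSMulTop r N)) := by
  have h1 : r • (⊤ : Submodule R (N ⧸ J • (⊤ : Submodule R N))) =
      (r • (⊤ : Submodule R N)).map (J • (⊤ : Submodule R N)).mkQ := by
    rw [Submodule.map_pointwise_smul, Submodule.map_top, Submodule.range_mkQ]
  have h2 : J • (⊤ : Submodule R (QuotSMulTop r N)) =
      (J • (⊤ : Submodule R N)).map (r • (⊤ : Submodule R N)).mkQ := by
    rw [Submodule.map_smul'', Submodule.map_top, Submodule.range_mkQ]
  exact (Submodule.quotEquivOfEq _ _ h1).trans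
    ((Submodule.quotientQuotientEquivQuotientSup _ _).trans
      ((Submodule.quotEquivOfEq _ _ (sup_comm _ _)).trans
        ((Submodule.quotientQuotientEquivQuotientSup _ _).symm.trans
          (Submodule.quotEquivOfEq _ _ h2.symm))))

/-- a linear equivalence induces an equivalence on the quotients by `J • ⊤` -/
noncomputable def quotSMulCongr (J : Ideal R) (e : N ≃ₗ[R] C) :
    (N ⧸ J • (⊤ : Submodule R N)) ≃ₗ[R] (C ⧸ J • (⊤ : Submodule R C)) :=
  Submodule.Quotient.equiv _ _ e (by
    rw [Submodule.map_smul'', Submodule.map_top, LinearEquiv.range])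

theorem alg_step (J : Ideal R) (r : R) (v : N →ₗ[R] N) (hv : ∀ m, v m = r • m)
    (ec : (N ⧸ LinearMap.range v) ≃ₗ[R] C) (rs : List R) :
    IsWeaklyRegular (QuotSMulTop r (N ⧸ J • (⊤ : Submodule R N))) rs ↔
      IsWeaklyRegular (C ⧸ J • (⊤ : Submodule R C)) rs := by
  have hr : LinearMap.range v = r • (⊤ : Submodule R N) := by
    ext z
    constructor
    · rintro ⟨m, rfl⟩
      rw [hv]
      exact Submodule.smul_mem_pointwise_smul m r ⊤ Submodule.mem_top
    · intro hz
      obtain ⟨m, -, rfl⟩ := (Submodule.mem_smul_pointwise_iff_exists z r ⊤).mp hz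
      exact ⟨m, hv m⟩
  let e1 : QuotSMulTop r N ≃ₗ[R] C := (Submodule.quotEquivOfEq _ _ hr.symm).trans ec
  exact ((quotSwap J r).trans (quotSMulCongr J e1)).isWeaklyRegular_congr rs

end Alg

section Point

variable {X Y : Scheme.{u}} (f : X ⟶ Y) [LocallyOfFinitePresentation f] (F : X.Modules)
  [F.IsQuasicoherent]
  [hF : SheafOfModules.IsFinitePresentation (R := X.ringCatSheaf) F]

/-- the fibre module of `F` at `x` -/
abbrev fib (x : X) : Type u :=
  ↑(F.presheaf.stalk x) ⧸ (Ideal.map (f.stalkMap x).hom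
      (IsLocalRing.maximalIdeal ↑(Y.presheaf.stalk (f x))) •
    (⊤ : Submodule ↑(X.presheaf.stalk x) ↑(F.presheaf.stalk x)))

theorem point_iff (g : Γ(X, ⊤)) (x : X) (rs : List ↑(X.presheaf.stalk x))
    (hflat : FlatMod.IsFlatOverAt f F x) :
    IsWeaklyRegular (fib f F x) (X.presheaf.germ ⊤ x trivial g :: rs) ↔
      ((Injective (stalkMap (mulSec g F) x) ∧
          FlatMod.IsFlatOverAt f (cokernel (mulSec g F)) x) ∧
        IsWeaklyRegular (fib f (cokernel (mulSec g F)) x) rs) := by
  rw [isWeaklyRegular_cons_iff]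
  obtain ⟨ec⟩ := exists_linearEquiv_stalk_cokernel (mulSec g F) x
  have h2 := alg_step (Ideal.map (f.stalkMap x).hom
      (IsLocalRing.maximalIdeal ↑(Y.presheaf.stalk (f x)))) (X.presheaf.germ ⊤ x trivial g)
    (stalkLin (mulSec g F) x) (fun m => stalkMap_mulSec g F x m) ec rs
  have h1 : IsSMulRegular (fib f F x) (X.presheaf.germ ⊤ x trivial g) ↔
      (Injective (stalkMap (mulSec g F) x) ∧
          FlatMod.IsFlatOverAt f (cokernel (mulSec g F)) x) := by
    rw [Groth.Agent.Helper7.StalkInjFlat.main f F F (mulSec g F) x hflat,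
      isSMulRegular_quotient_iff_mem_of_smul_mem]
    refine forall_congr' (fun m => ?_)
    rw [stalkMap_mulSec]
  rw [h1, h2]

end Point

section Open

variable {X Y : Scheme.{u}} [IsLocallyNoetherian X] (f : X ⟶ Y) [LocallyOfFinitePresentation f]

theorem isFP_of_coh (F : X.Modules) [F.IsQuasicoherent]
    [SheafOfModules.IsFiniteType (R := X.ringCatSheaf) F] :
    SheafOfModules.IsFinitePresentation (R := X.ringCatSheaf) F := by
  rw [Groth.Agent.Helper13.LocFree.isFinitePresentation_iff_finitePresentation_sections]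
  intro U hU
  haveI : IsNoetherianRing Γ(X, U) := IsLocallyNoetherian.component_noetherian ⟨U, hU⟩
  haveI := Groth.Agent.Helper13.FinType.finite_sections_of_isFiniteType F hU
  exact Module.finitePresentation_of_finite _ _

set_option maxHeartbeats 1600000 in
theorem isOpen_aux (gs : List Γ(X, ⊤)) : ∀ (F : X.Modules) [F.IsQuasicoherent]
    [SheafOfModules.IsFiniteType (R := X.ringCatSheaf) F],
    IsOpen {x : X | FlatMod.IsFlatOverAt f F x ∧
      IsWeaklyRegular (fib f F x) (gs.map (fun g => X.presheaf.germ ⊤ x trivial g))} := by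
  induction gs with
  | nil =>
    intro F _ _
    haveI := isFP_of_coh F
    have h : {x : X | FlatMod.IsFlatOverAt f F x ∧
        IsWeaklyRegular (fib f F x)
          (([] : List Γ(X, ⊤)).map (fun g => X.presheaf.germ ⊤ x trivial g))} =
        {x | FlatMod.IsFlatOverAt f F x} := by
      ext x
      simp only [Set.mem_ofPred_eq, List.map_nil]
      exact ⟨fun h => h.1, fun h => ⟨h, IsWeaklyRegular.nil _ _⟩⟩
    rw [h]
    exact Groth.Agent.Helper21.ModFlat.isOpen_flatLocus_module f F
  | cons g gs ih =>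
    intro F _ _
    haveI := isFP_of_coh F
    haveI : (cokernel (mulSec g F)).IsQuasicoherent :=
      Groth.Agent.Helper13.QCohLocal.isQuasicoherent_cokernel (mulSec g F)
    have hepi : Epi (cokernel.π (mulSec g F)) := inferInstance
    have hft : SheafOfModules.IsFiniteType (R := X.ringCatSheaf)
        (cokernel (mulSec g F) : X.Modules) :=
      @Groth.Agent.Helper13.FinType.isFiniteType_of_epi _ _ _ (cokernel.π (mulSec g F)) hepi _
    have h := @ih (cokernel (mulSec g F)) _ hft
    have h1 := Groth.Agent.Helper21.ModFlat.isOpen_flatLocus_module f F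
    have h2 := Groth.Agent.Helper7.StalkInjFlatOpen.isOpen_main f F F (mulSec g F)
    convert (h1.inter h2).inter h using 1
    ext x
    simp only [Set.mem_ofPred_eq, Set.mem_inter_iff, List.map_cons]
    constructor
    · rintro ⟨hfl, hreg⟩
      obtain ⟨hifc, hreg'⟩ := (point_iff f F g x _ hfl).mp hreg
      exact ⟨⟨hfl, hifc⟩, hifc.2, hreg'⟩
    · rintro ⟨⟨hfl, hifc⟩, -, hreg'⟩
      exact ⟨hfl, (point_iff f F g x _ hfl).mpr ⟨hifc, hreg'⟩⟩

end Open

section Final

theorem main {X Y : Scheme.{u}} [IsLocallyNoetherian Y] (f : X ⟶ Y)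
    [LocallyOfFiniteType f] (F : X.Modules) (hF : Coh.IsCoh F) (hflat : FlatMod.IsFlatOver f F)
    (n : ℕ) (g : Fin n → Γ(X, ⊤)) :
    IsOpen {x : X |
      RingTheory.Sequence.IsWeaklyRegular
        (↑(F.presheaf.stalk x) ⧸ (Ideal.map (f.stalkMap x).hom
            (IsLocalRing.maximalIdeal ↑(Y.presheaf.stalk (f x))) •
          (⊤ : Submodule ↑(X.presheaf.stalk x) ↑(F.presheaf.stalk x))))
        (List.ofFn fun i => (X.presheaf.germ ⊤ x trivial) (g i))} := by
  haveI : IsLocallyNoetherian X := LocallyOfFiniteType.isLocallyNoetherian f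
  haveI : LocallyOfFinitePresentation f :=
    LocallyOfFinitePresentation.iff_locallyOfFiniteType.mpr inferInstance
  haveI : F.IsQuasicoherent := hF.1
  haveI : SheafOfModules.IsFiniteType (R := X.ringCatSheaf) F := hF.2
  have h := isOpen_aux f (List.ofFn g) F
  convert h using 1
  ext x
  simp only [Set.mem_ofPred_eq, List.map_ofFn]
  exact ⟨fun h => ⟨hflat x, h⟩, fun h => h.2⟩

end Final

end Groth.Agent.Helper7.FibRegOpen
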