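import Mathlib
import Groth.Prelude.Def_AnPts
import Groth.Agent.Lib.Helper7.EtaleLH5
import Groth.Agent.Lib.Helper7.Density2

set_option autoImplicit false
open CategoryTheory AlgebraicGeometry Topology TopologicalSpace Opposite Polynomial
open An

namespace Groth.Agent.Helper7.AnPts

variable {X : Scheme.{0}} [X.Over An.SC] {Y : Scheme.{0}} [Y.Over An.SC]

/-- the restricted map on points over an open -/
noncomputable def mapRes (g : X ⟶ Y) [g.IsOver An.SC] {U : X.Opens} {V : Y.Opens}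
    (e : U ≤ g ⁻¹ᵁ V) : ptsIn U → ptsIn V := fun x =>
  ⟨An.Pts.map g x.1, by change (An.Pts.map g x.1).pt ∈ V; rw [An.Pts.pt_map]; exact e x.2⟩

theorem continuous_mapRes (g : X ⟶ Y) [g.IsOver An.SC] {U : X.Opens} {V : Y.Opens}
    (e : U ≤ g ⁻¹ᵁ V) : Continuous (mapRes g e) :=
  Continuous.subtype_mk ((An.Pts.continuous_map g).comp continuous_subtype_val) _

theorem t2Space_ptsIn [LocallyOfFiniteType (X ↘ An.SC)] {U : X.Opens} (hU : IsAffineOpen U) :
    T2Space (ptsIn U) := by
  obtain ⟨n, s, hs⟩ := exists_generators hU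
  exact (isClosedEmbedding_evS hU s hs).isEmbedding.t2Space

/-- integrality bound: for a finite morphism, values of functions upstairs are bounded in terms
of the point downstairs -/
theorem exists_bound_of_integral (g : X ⟶ Y) [g.IsOver An.SC] {U : X.Opens} {V : Y.Opens}
    (e : U ≤ g ⁻¹ᵁ V) (a : Γ(X, U)) (ha : (g.appLE V U e).hom.IsIntegralElem a) :
    ∃ G : ptsIn V → ℝ, Continuous G ∧ ∀ x : ptsIn U, ‖evHom x.1 U x.2 a‖ ≤ G (mapRes g e x) := by
  obtain ⟨Q, hQm, hQ⟩ := ha
  refine ⟨fun y => 1 + ∑ i ∈ Finset.range Q.natDegree, ‖evHom y.1 V y.2 (Q.coeff i)‖, ?_, ?_⟩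
  · refine continuous_const.add (continuous_finsetSum _ fun i _ => ?_)
    exact ((continuous_apply (Q.coeff i)).comp (continuous_evU V)).norm
  · intro x
    have h1 : eval₂ ((evHom x.1 U x.2).comp (g.appLE V U e).hom) (evHom x.1 U x.2 a) Q = 0 := by
      rw [← Polynomial.hom_eval₂, hQ, map_zero]
    rw [← evHom_map_eq g e x.1 x.2] at h1
    have hroot : (Q.map (evHom (mapRes g e x).1 V (mapRes g e x).2)).IsRoot
        (evHom x.1 U x.2 a) := by
      rw [IsRoot.def, Polynomial.eval_map]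
      exact h1
    have h2 := Density.norm_le_of_isRoot_monic _ (hQm.map _) _ hroot
    rw [hQm.natDegree_map] at h2
    simp only [coeff_map] at h2
    exact h2

theorem isProperMap_mapRes_of_isFinite [LocallyOfFiniteType (X ↘ An.SC)]
    [LocallyOfFiniteType (Y ↘ An.SC)] (g : X ⟶ Y) [g.IsOver An.SC] [IsFinite g]
    {V : Y.Opens} (hV : IsAffineOpen V) :
    IsProperMap (mapRes g (le_refl (g ⁻¹ᵁ V))) := by
  have hU : IsAffineOpen (g ⁻¹ᵁ V) := hV.preimage g
  have : T2Space (ptsIn V) := t2Space_ptsIn hV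
  have : LocallyCompactSpace (ptsIn V) := locallyCompactSpace_ptsIn hV
  rw [isProperMap_iff_isCompact_preimage]
  refine ⟨continuous_mapRes g _, fun K hK => ?_⟩
  obtain ⟨n, s, hs⟩ := exists_generators hU
  have hce := isClosedEmbedding_evS hU s hs
  have hfin : (g.appLE V (g ⁻¹ᵁ V) le_rfl).hom.Finite := by
    rw [← Scheme.Hom.app_eq_appLE]
    exact g.finite_app V hV
  have hint : ∀ a, (g.appLE V (g ⁻¹ᵁ V) le_rfl).hom.IsIntegralElem a := hfin.to_isIntegral
  choose G hG hGb using fun i => exists_bound_of_integral g (le_refl (g ⁻¹ᵁ V)) (s i) (hint (s i))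
  -- bound on the compact set
  have hbdd : ∃ M : ℝ, ∀ i, ∀ y ∈ K, G i y ≤ M := by
    have : ∀ i, ∃ M : ℝ, ∀ y ∈ K, G i y ≤ M := fun i => by
      obtain ⟨M, hM⟩ := hK.exists_bound_of_continuousOn (hG i).continuousOn
      exact ⟨M, fun y hy => (le_abs_self _).trans (hM y hy)⟩
    choose M hM using this
    refine ⟨∑ i, |M i|, fun i y hy => (hM i y hy).trans ((le_abs_self _).trans ?_)⟩
    exact Finset.single_le_sum (f := fun i => |M i|) (fun _ _ => abs_nonneg _) (Finset.mem_univ i)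
  obtain ⟨M, hM⟩ := hbdd
  have hsub : mapRes g (le_refl (g ⁻¹ᵁ V)) ⁻¹' K ⊆ evS (g ⁻¹ᵁ V) s ⁻¹' Metric.closedBall 0 (max M 0) := by
    intro x hx
    rw [Set.mem_preimage, mem_closedBall_zero_iff, pi_norm_le_iff_of_nonneg (le_max_right _ _)]
    intro i
    exact ((hGb i x).trans (hM i _ hx)).trans (le_max_left _ _)
  refine IsCompact.of_isClosed_subset (hce.isCompact_preimage (isCompact_closedBall _ _))
    (hK.isClosed.preimage (continuous_mapRes g _)) hsub

end Groth.Agent.Helper7.AnPts
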