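import Mathlib
import Groth.Prelude.Def_AnPts
import Groth.Agent.Lib.Helper7.FinEt1

set_option autoImplicit false
open CategoryTheory AlgebraicGeometry Topology TopologicalSpace Opposite Polynomial
open An

namespace Groth.Agent.Helper7.AnPts

variable {X : Scheme.{0}} [X.Over An.SC] {Y : Scheme.{0}} [Y.Over An.SC]
  [LocallyOfFiniteType (X ↘ An.SC)] [LocallyOfFiniteType (Y ↘ An.SC)]

omit [LocallyOfFiniteType (Y ↘ An.SC)] in
theorem finite_fiber_map (f : X ⟶ Y) [f.IsOver An.SC] [IsFinite f] (y : An.Pts Y) :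
    (An.Pts.map f ⁻¹' {y}).Finite := by
  have h1 : (f ⁻¹' {y.pt}).Finite := f.finite_preimage_singleton y.pt
  have h2 : (An.Pts.pt ⁻¹' (f ⁻¹' {y.pt}) : Set (An.Pts X)).Finite :=
    h1.preimage (pt_injective X).injOn
  refine h2.subset ?_
  intro x hx
  change f x.pt ∈ ({y.pt} : Set Y)
  rw [← An.Pts.pt_map, Set.mem_singleton_iff.1 hx]
  rfl

theorem isCoveringMap_mapRes (f : X ⟶ Y) [f.IsOver An.SC] [IsFinite f] [Etale f]
    {V : Y.Opens} (hV : IsAffineOpen V) :
    IsCoveringMap (mapRes f (le_refl (f ⁻¹ᵁ V))) := by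
  have hU : IsAffineOpen (f ⁻¹ᵁ V) := hV.preimage f
  have : T2Space (ptsIn (f ⁻¹ᵁ V)) := t2Space_ptsIn hU
  rw [isCoveringMap_iff_isCoveringMapOn_univ]
  refine IsClosedMap.isCoveringMapOn_of_isLocalHomeomorphOn
    (isProperMap_mapRes_of_isFinite f hV).isClosedMap ?_ ?_
  · intro y _
    have h1 := finite_fiber_map f y.1
    have h2 : (Subtype.val ⁻¹' (An.Pts.map f ⁻¹' {y.1}) : Set (ptsIn (f ⁻¹ᵁ V))).Finite :=
      h1.preimage Subtype.val_injective.injOn
    refine h2.subset ?_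
    intro x hx
    exact congrArg Subtype.val (Set.mem_singleton_iff.1 hx)
  · apply IsLocalHomeomorph.isLocalHomeomorphOn
    have hg : IsLocalHomeomorph (Subtype.val : ptsIn V → An.Pts Y) :=
      (isOpen_ptsIn V).isOpenEmbedding_subtypeVal.isLocalHomeomorph
    have hgf : IsLocalHomeomorph ((Subtype.val : ptsIn V → An.Pts Y) ∘
        mapRes f (le_refl (f ⁻¹ᵁ V))) := by
      have : (Subtype.val : ptsIn V → An.Pts Y) ∘ mapRes f (le_refl (f ⁻¹ᵁ V)) =
          An.Pts.map f ∘ (Subtype.val : ptsIn (f ⁻¹ᵁ V) → An.Pts X) := rfl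
      rw [this]
      exact (isLocalHomeomorph_map_of_etale f).comp
        (isOpen_ptsIn (f ⁻¹ᵁ V)).isOpenEmbedding_subtypeVal.isLocalHomeomorph
    exact IsLocalHomeomorph.of_comp hgf hg (continuous_mapRes f _)

theorem isCoveringMap_map_of_finite_etale (f : X ⟶ Y) [f.IsOver An.SC] [IsFinite f] [Etale f] :
    IsCoveringMap (An.Pts.map f) ∧ ∀ y : An.Pts Y, (An.Pts.map f ⁻¹' {y}).Finite := by
  refine ⟨?_, finite_fiber_map f⟩
  intro y
  obtain ⟨V', hV', hyV, -⟩ :=
    (Y.isBasis_affineOpens).exists_subset_of_mem_open (Set.mem_univ y.pt) isOpen_univ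
  obtain ⟨V, hV, rfl⟩ := hV'
  have hfs : IsOpen (An.Pts.map f ⁻¹' ptsIn V) := (isOpen_ptsIn V).preimage (An.Pts.continuous_map f)
  have hcov : IsCoveringMap ((ptsIn V).restrictPreimage (An.Pts.map f)) := by
    have h1 := (isCoveringMap_mapRes f hV).comp_homeomorph
      (Homeomorph.setCongr (preimage_ptsIn f V))
    exact h1
  exact IsCoveringMapOn.of_isCoveringMap_restrictPreimage (f := An.Pts.map f) (s := ptsIn V)
    (isOpen_ptsIn V) hfs hcov y hyV

end Groth.Agent.Helper7.AnPts
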