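import Mathlib

/-!
# Realizing a finite residue field extension by a finite free algebra (helper7)

Given a prime `p` of `R` and a finite extension `k'` of `κ(p)`, there is a finite free `R`-algebra
`S` with an `R`-algebra map `S → k'` whose image generates `k'` as a field.
-/

set_option autoImplicit false
set_option linter.style.haveILetI false
set_option linter.unusedSectionVars false

universe u

namespace Groth.Agent.Helper7.FinFree

open Polynomial

/-- inductive core: adjoin integral generators one at a time -/
theorem exists_finite_free_aux (n : ℕ) : ∀ (R : Type u) [CommRing R] (k' : Type u) [Field k']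
    [Algebra R k'] (a : Fin n → k'), (∀ i, IsIntegral R (a i)) →
    Subfield.closure (Set.range (algebraMap R k') ∪ Set.range a) = ⊤ →
    ∃ (S : Type u) (_ : CommRing S) (_ : Algebra R S) (_ : Algebra S k') (_ : IsScalarTower R S k'),
      Module.Finite R S ∧ Module.Free R S ∧
        Subfield.closure (Set.range (algebraMap S k')) = ⊤ := by
  induction n with
  | zero =>
    intro R _ k' _ _ a _ h
    refine ⟨R, inferInstance, inferInstance, inferInstance, inferInstance, inferInstance,
      inferInstance, ?_⟩
    have : Set.range a = ∅ := Set.range_eq_empty a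
    rw [this, Set.union_empty] at h
    exact h
  | succ n ih =>
    intro R _ k' _ _ a ha h
    obtain ⟨g, hg, hg0⟩ := ha 0
    let S₁ := AdjoinRoot g
    let f₁ : S₁ →+* k' := AdjoinRoot.lift (algebraMap R k') (a 0) hg0
    letI : Algebra S₁ k' := f₁.toAlgebra
    haveI : IsScalarTower R S₁ k' := IsScalarTower.of_algebraMap_eq (fun r => by
      change _ = f₁ (AdjoinRoot.of g r)
      rw [AdjoinRoot.lift_of])
    have hroot : algebraMap S₁ k' (AdjoinRoot.root g) = a 0 := AdjoinRoot.lift_root hg0
    have hcl : Subfield.closure (Set.range (algebraMap S₁ k') ∪ Set.range (Fin.tail a)) = ⊤ := by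
      rw [eq_top_iff, ← h, Subfield.closure_le]
      rintro x (⟨r, rfl⟩ | ⟨i, rfl⟩)
      · apply Subfield.subset_closure
        left
        exact ⟨algebraMap R S₁ r, (IsScalarTower.algebraMap_apply R S₁ k' r).symm⟩
      · apply Subfield.subset_closure
        refine Fin.cases ?_ (fun j => ?_) i
        · left
          exact ⟨AdjoinRoot.root g, hroot⟩
        · right
          exact ⟨j, rfl⟩
    obtain ⟨S, iS, iS₁S, iSk, itow, hfin, hfree, hS⟩ :=
      ih S₁ k' (Fin.tail a) (fun i => (ha i.succ).tower_top) hcl
    letI : Algebra R S := ((algebraMap S₁ S).comp (algebraMap R S₁)).toAlgebra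
    haveI : IsScalarTower R S₁ S := IsScalarTower.of_algebraMap_eq (fun _ => rfl)
    haveI : IsScalarTower R S k' := IsScalarTower.of_algebraMap_eq (fun r => by
      change _ = algebraMap S k' (algebraMap S₁ S (algebraMap R S₁ r))
      rw [← IsScalarTower.algebraMap_apply S₁ S k', ← IsScalarTower.algebraMap_apply R S₁ k'])
    haveI : Module.Finite R S₁ := (AdjoinRoot.powerBasis' hg).finite
    haveI : Module.Free R S₁ := Module.Free.of_basis (AdjoinRoot.powerBasis' hg).basis
    refine ⟨S, iS, inferInstance, iSk, inferInstance, Module.Finite.trans S₁ S,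
      Module.Free.trans (R := R) (S := S₁) (M := S), hS⟩

/-- **Lemma L**: a finite extension `k'` of the residue field at a prime `p` of `R` is the
"residue field" of a finite free `R`-algebra `S` along some `R`-algebra map `S → k'`. -/
theorem exists_finite_free (R : Type u) [CommRing R] (p : Ideal R) [p.IsPrime] (k' : Type u)
    [Field k'] [Algebra R k'] [Algebra p.ResidueField k'] [IsScalarTower R p.ResidueField k']
    [Module.Finite p.ResidueField k'] :
    ∃ (S : Type u) (_ : CommRing S) (_ : Algebra R S) (_ : Algebra S k') (_ : IsScalarTower R S k'),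
      Module.Finite R S ∧ Module.Free R S ∧
        Subfield.closure (Set.range (algebraMap S k')) = ⊤ := by
  classical
  let κ := p.ResidueField
  letI : Algebra (R ⧸ p) k' := ((algebraMap κ k').comp (algebraMap (R ⧸ p) κ)).toAlgebra
  haveI : IsScalarTower (R ⧸ p) κ k' := IsScalarTower.of_algebraMap_eq (fun _ => rfl)
  haveI : IsScalarTower R (R ⧸ p) k' := IsScalarTower.of_algebraMap_eq (fun r => by
    change _ = algebraMap κ k' (algebraMap (R ⧸ p) κ (algebraMap R (R ⧸ p) r))
    rw [← IsScalarTower.algebraMap_apply R (R ⧸ p) κ, ← IsScalarTower.algebraMap_apply R κ k'])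
  haveI : Algebra.IsAlgebraic κ k' := Algebra.IsAlgebraic.of_finite κ k'
  haveI : Algebra.IsAlgebraic (R ⧸ p) k' := (IsFractionRing.comap_isAlgebraic_iff (K := κ)).mpr
    inferInstance
  haveI : Algebra.IsIntegral R (R ⧸ p) :=
    Algebra.isIntegral_of_surjective Ideal.Quotient.mk_surjective
  have hinj : Function.Injective (algebraMap (R ⧸ p) k') := by
    change Function.Injective ((algebraMap κ k').comp (algebraMap (R ⧸ p) κ))
    exact (algebraMap κ k').injective.comp (IsFractionRing.injective (R ⧸ p) κ)
  let n := Module.finrank κ k'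
  let b : Module.Basis (Fin n) κ k' := Module.finBasis κ k'
  have hy : ∀ i, ∃ y : R, algebraMap R k' y ≠ 0 ∧ IsIntegral R (algebraMap R k' y * b i) := by
    intro i
    obtain ⟨y, hy0, hyi⟩ := IsAlgebraic.exists_integral_multiple
      (Algebra.IsAlgebraic.isAlgebraic (R := R ⧸ p) (b i))
    obtain ⟨r, rfl⟩ := Ideal.Quotient.mk_surjective y
    refine ⟨r, ?_, ?_⟩
    · rw [IsScalarTower.algebraMap_apply R (R ⧸ p) k']
      exact fun h0 => hy0 (hinj (by rw [map_zero]; exact h0))
    · have h1 : IsIntegral R ((Ideal.Quotient.mk p r) • b i) := isIntegral_trans _ hyi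
      rwa [Algebra.smul_def, ← Ideal.Quotient.algebraMap_eq,
        ← IsScalarTower.algebraMap_apply R (R ⧸ p) k'] at h1
  choose y hy0 hyint using hy
  let a : Fin n → k' := fun i => algebraMap R k' (y i) * b i
  refine exists_finite_free_aux n R k' a hyint ?_
  rw [eq_top_iff]
  intro x _
  set F := Subfield.closure (Set.range (algebraMap R k') ∪ Set.range a) with hF
  have hR : ∀ r : R, algebraMap R k' r ∈ F := fun r =>
    Subfield.subset_closure (Or.inl ⟨r, rfl⟩)
  have hκ : ∀ c : κ, algebraMap κ k' c ∈ F := by
    intro c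
    obtain ⟨u, v, hv, rfl⟩ := IsFractionRing.div_surjective (A := R ⧸ p) c
    obtain ⟨r, rfl⟩ := Ideal.Quotient.mk_surjective u
    obtain ⟨s, rfl⟩ := Ideal.Quotient.mk_surjective v
    rw [map_div₀]
    apply F.div_mem
    · have : algebraMap κ k' (algebraMap (R ⧸ p) κ (Ideal.Quotient.mk p r)) = algebraMap R k' r := by
        rw [← Ideal.Quotient.algebraMap_eq, ← IsScalarTower.algebraMap_apply R (R ⧸ p) κ,
          ← IsScalarTower.algebraMap_apply R κ k']
      rw [this]; exact hR r
    · have : algebraMap κ k' (algebraMap (R ⧸ p) κ (Ideal.Quotient.mk p s)) = algebraMap R k' s := by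
        rw [← Ideal.Quotient.algebraMap_eq, ← IsScalarTower.algebraMap_apply R (R ⧸ p) κ,
          ← IsScalarTower.algebraMap_apply R κ k']
      rw [this]; exact hR s
  have hb : ∀ i, b i ∈ F := by
    intro i
    have h1 : a i ∈ F := Subfield.subset_closure (Or.inr ⟨i, rfl⟩)
    have h2 : b i = a i / algebraMap R k' (y i) := by
      rw [eq_div_iff (hy0 i)]
      exact mul_comm _ _
    rw [h2]
    exact F.div_mem h1 (hR _)
  rw [← b.sum_repr x]
  refine F.sum_mem (fun i _ => ?_)
  rw [Algebra.smul_def]
  exact F.mul_mem (hκ _) (hb i)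

end Groth.Agent.Helper7.FinFree
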