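import Groth.Agent.Lib.Helper7.FibQuotA

set_option autoImplicit false
set_option linter.style.haveILetI false
universe u
open CategoryTheory CategoryTheory.Limits AlgebraicGeometry MonoidalCategory CartesianMonoidalCategory
  MonObj

namespace Groth.Agent.Helper7.FinQuot

variable {k : Type u} [Field k]

/-- over a field, the projection from a fibre of `fst` to the second factor is an open map -/
theorem isOpen_image_snd_inter_fibre (A B : Over (Spec (CommRingCat.of k)))
    (R : Set (A ⊗ B).left) (hR : IsOpen R) (y : A.left) :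
    IsOpen ((snd A B).left.base '' (R ∩ (fst A B).left.base ⁻¹' {y})) := by
  let f := (fst A B).left
  have sq1 : IsPullback (f.fiberToSpecResidueField y) (f.fiberι y)
      (A.left.fromSpecResidueField y) f :=
    (IsPullback.of_hasPullback f (A.left.fromSpecResidueField y)).flip
  have sq2 : IsPullback (fst A B).left (snd A B).left A.hom B.hom :=
    (ThirdIso.isPullback_fst_snd_toUnit A B).map (Over.forget (Spec (CommRingCat.of k)))
  have sq3 := sq1.paste_vert sq2
  haveI : UniversallyOpen (A.left.fromSpecResidueField y ≫ A.hom) := inferInstance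
  have hop : UniversallyOpen (f.fiberι y ≫ (snd A B).left) :=
    MorphismProperty.of_isPullback (P := @UniversallyOpen) sq3 inferInstance
  have heq : (snd A B).left.base '' (R ∩ (fst A B).left.base ⁻¹' {y}) =
      (f.fiberι y ≫ (snd A B).left).base '' ((f.fiberι y).base ⁻¹' R) := by
    rw [← f.range_fiberι y]
    ext b
    constructor
    · rintro ⟨z, ⟨hzR, ⟨w, rfl⟩⟩, rfl⟩
      exact ⟨w, hzR, rfl⟩
    · rintro ⟨w, hw, rfl⟩
      exact ⟨(f.fiberι y).base w, ⟨hw, ⟨w, rfl⟩⟩, rfl⟩
  rw [heq]
  exact (f.fiberι y ≫ (snd A B).left).isOpenMap _ (hR.preimage (f.fiberι y).continuous)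

end Groth.Agent.Helper7.FinQuot
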