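import Groth.Agent.Lib.Helper7.FibQuotA

set_option autoImplicit false
set_option linter.style.haveILetI false
universe v u
open CategoryTheory CategoryTheory.Limits AlgebraicGeometry MonoidalCategory CartesianMonoidalCategory
  MonObj

namespace Groth.Agent.Helper7.FinQuot

/-- a morphism from a reduced scheme landing set-theoretically in a closed subscheme factors
through it -/
theorem exists_lift_of_isReduced {Z W Y : Scheme.{u}} [IsReduced Z] (f : Z ⟶ Y) (i : W ⟶ Y)
    [IsClosedImmersion i] (h : Set.range f.base ⊆ Set.range i.base) :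
    ∃ l : Z ⟶ W, l ≫ i = f := by
  haveI : Surjective (pullback.fst f i) := by
    rw [surjective_iff, ← Set.range_eq_univ, Scheme.Pullback.range_fst]
    exact Set.eq_univ_of_forall (fun z => h ⟨z, rfl⟩)
  haveI : IsIso (pullback.fst f i) := isIso_of_isClosedImmersion_of_surjective _
  exact ⟨inv (pullback.fst f i) ≫ pullback.snd f i, by
    rw [Category.assoc, ← pullback.condition, IsIso.inv_hom_id_assoc]⟩

section Cat

variable {C : Type u} [Category.{v} C] [CartesianMonoidalCategory C]

theorem isPullback_fibre_pt (A B : C) (p : 𝟙_ C ⟶ A) :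
    IsPullback (lift (toUnit B ≫ p) (𝟙 B)) (toUnit B) (fst A B) p := by
  apply ThirdIso.isPullback_of_pts
  · rw [lift_fst]
  · intro T x y hxy
    refine ⟨x ≫ snd A B, ?_, toUnit_unique _ _⟩
    apply CartesianMonoidalCategory.hom_ext
    · rw [Category.assoc, lift_fst, hxy, ← Category.assoc]
      congr 1
      exact toUnit_unique _ _
    · rw [Category.assoc, lift_snd, Category.comp_id]
  · intro T z z' h1 _
    have := congrArg (· ≫ snd A B) h1
    simpa using this

end Cat

end Groth.Agent.Helper7.FinQuot
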