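import Groth.Agent.Lib.Helper7.FibQuotA
import Groth.Agent.Lib.Helper7.FinQuotA

set_option autoImplicit false
set_option linter.style.haveILetI false
universe v u
open CategoryTheory CategoryTheory.Limits AlgebraicGeometry MonoidalCategory CartesianMonoidalCategory
  MonObj

namespace Groth.Agent.Helper7.FinQuot

section Cat

variable {C : Type u} [Category.{v} C] [CartesianMonoidalCategory C] (G : C) [GrpObj G]

/-- the map `(a, b) ↦ (a, a b)` -/
def sh : G ⊗ G ≅ G ⊗ G where
  hom := lift (fst G G) (fst G G * snd G G)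
  inv := lift (fst G G) ((fst G G)⁻¹ * snd G G)
  hom_inv_id := by
    apply CartesianMonoidalCategory.hom_ext
    · rw [Category.assoc, lift_fst, lift_fst, Category.id_comp]
    · rw [Category.assoc, lift_snd, MonObj.comp_mul, GrpObj.comp_inv, lift_fst, lift_snd,
        Category.id_comp, inv_mul_cancel_left]
  inv_hom_id := by
    apply CartesianMonoidalCategory.hom_ext
    · rw [Category.assoc, lift_fst, lift_fst, Category.id_comp]
    · rw [Category.assoc, lift_snd, MonObj.comp_mul, lift_fst, lift_snd,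
        Category.id_comp, mul_inv_cancel_left]

theorem whiskerLeft_sh {H : C} (i : H ⟶ G) :
    (G ◁ i) ≫ (sh G).hom = lift (fst G H) ((G ◁ i) ≫ μ[G]) := by
  apply CartesianMonoidalCategory.hom_ext
  · simp [sh]
  · rw [Category.assoc, lift_snd]
    simp only [sh, lift_snd]
    rw [Hom.mul_def]
    have : lift (fst G G) (snd G G) = 𝟙 (G ⊗ G) := by
      apply CartesianMonoidalCategory.hom_ext <;> simp
    rw [this, Category.id_comp]

end Cat

variable {k : Type u} [Field k] {G G₀ X : Over (Spec (CommRingCat.of k))} [GrpObj G]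

theorem isOpen_range_sigma (r₀ : G₀ ⟶ G) (hU : IsOpen (Set.range r₀.left.base)) :
    IsOpen (Set.range (lift (fst G G₀) ((G ◁ r₀) ≫ μ[G])).left.base) := by
  rw [← whiskerLeft_sh, Over.comp_left, Scheme.Hom.comp_base, TopCat.coe_comp, Set.range_comp]
  have h1 : Set.range (G ◁ r₀).left.base = (snd G G).left.base ⁻¹' Set.range r₀.left.base := by
    have sq : IsPullback (snd G G₀).left (G ◁ r₀).left r₀.left (snd G G).left :=
      (ThirdIso.isPullback_whiskerLeft G r₀).flip.map (Over.forget _)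
    have := Scheme.image_preimage_eq_of_isPullback sq Set.univ
    simpa using this
  rw [h1]
  haveI : IsIso (sh G).hom.left := (Over.forget _).map_isIso (sh G).hom
  exact (sh G).hom.left.isOpenEmbedding.isOpenMap _ (hU.preimage (snd G G).left.continuous)

theorem left_apply {A B D : Over (Spec (CommRingCat.of k))} (f : A ⟶ B) (g : B ⟶ D) (a : A.left) :
    (f ≫ g).left.base a = g.left.base (f.left.base a) := rfl

theorem locally_const [GrpObj G₀] (r₀ : G₀ ⟶ G) [IsMonHom r₀] (q : G ⟶ X)
    (hw : fst G G₀ ≫ q = ((G ◁ r₀) ≫ μ[G]) ≫ q)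
    (hU : IsOpen (Set.range r₀.left.base)) (y : G.left) :
    ∃ N : Set G.left, IsOpen N ∧ y ∈ N ∧ ∀ y' ∈ N, q.left.base y' = q.left.base y := by
  set σ := lift (fst G G₀) ((G ◁ r₀) ≫ μ[G]) with hσ
  have hσ1 : σ ≫ fst G G = fst G G₀ := lift_fst _ _
  have hσ2 : σ ≫ snd G G = (G ◁ r₀) ≫ μ[G] := lift_snd _ _
  refine ⟨(snd G G).left.base '' (Set.range σ.left.base ∩ (fst G G).left.base ⁻¹' {y}),
    isOpen_image_snd_inter_fibre G G _ (isOpen_range_sigma r₀ hU) y, ?_, ?_⟩
  · have hδ : lift (𝟙 G) (toUnit G ≫ η[G₀]) ≫ σ = lift (𝟙 G) (𝟙 G) := by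
      apply CartesianMonoidalCategory.hom_ext
      · rw [Category.assoc, hσ1, lift_fst, lift_fst]
      · have h1 : (toUnit G ≫ η[G₀]) ≫ r₀ = 1 := by
          rw [Category.assoc, IsMonHom.one_hom, Hom.one_def]
        rw [Category.assoc, hσ2, lift_snd, ThirdIso.shear_pt, h1, _root_.mul_one]
    refine ⟨(lift (𝟙 G) (𝟙 G)).left.base y, ⟨⟨(lift (𝟙 G) (toUnit G ≫ η[G₀])).left.base y, ?_⟩, ?_⟩,
      ?_⟩
    · rw [← left_apply, hδ]
    · show (fst G G).left.base ((lift (𝟙 G) (𝟙 G)).left.base y) = y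
      rw [← left_apply, lift_fst]; rfl
    · rw [← left_apply, lift_snd]; rfl
  · rintro y' ⟨z, ⟨⟨v, rfl⟩, hz⟩, rfl⟩
    have hz' : (fst G G).left.base (σ.left.base v) = y := hz
    rw [← left_apply, hσ1] at hz'
    have e1 : q.left.base ((snd G G).left.base (σ.left.base v)) =
        ((σ ≫ snd G G) ≫ q).left.base v := rfl
    rw [e1, hσ2, ← hw]
    show q.left.base ((fst G G₀).left.base v) = _
    rw [hz']

end Groth.Agent.Helper7.FinQuot
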