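import Mathlib

set_option autoImplicit false
set_option linter.style.haveILetI false
universe v u
open CategoryTheory CategoryTheory.Limits AlgebraicGeometry

namespace Groth.Agent.Helper7.FinQuot

variable {k : Type u} [Field k]

theorem isFinite_of_locally_const {G X : Scheme.{u}} (g : G ⟶ Spec (CommRingCat.of k))
    (x : X ⟶ Spec (CommRingCat.of k)) (q : G ⟶ X) [Surjective q]
    (hopen : IsOpenMap q.base) [LocallyOfFiniteType x] [QuasiCompact g]
    (hlc : ∀ y : G, ∃ N : Set G, IsOpen N ∧ y ∈ N ∧ ∀ y' ∈ N, q.base y' = q.base y) :
    IsFinite x := by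
  haveI : DiscreteTopology X := by
    rw [discreteTopology_iff_isOpen_singleton]
    intro a
    obtain ⟨y, rfl⟩ := q.surjective a
    obtain ⟨N, hN, hy, hc⟩ := hlc y
    have : q.base '' N = {q.base y} := by
      ext b
      constructor
      · rintro ⟨y', hy', rfl⟩
        exact hc y' hy'
      · rintro rfl
        exact ⟨y, hy, rfl⟩
    rw [← this]
    exact hopen N hN
  haveI : CompactSpace G := QuasiCompact.compactSpace_of_compactSpace g
  haveI : CompactSpace X := by
    have := isCompact_range q.continuous
    rw [Set.range_eq_univ.mpr q.surjective] at this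
    exact ⟨this⟩
  haveI : Finite X := finite_of_compact_of_discrete
  haveI : LocallyQuasiFinite x :=
    LocallyQuasiFinite.of_finite_preimage_singleton x (fun _ => Set.toFinite _)
  haveI : QuasiCompact x := (HasAffineProperty.iff_of_isAffine (P := @QuasiCompact)).mpr inferInstance
  haveI : IsLocallyArtinian (Spec (CommRingCat.of k)) :=
    Scheme.isLocallyArtinianScheme_Spec.mpr inferInstance
  exact IsFinite.of_locallyQuasiFinite x

end Groth.Agent.Helper7.FinQuot
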