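import Groth.Agent.Lib.Helper7.FibQuotA
import Groth.Agent.Lib.Helper7.FinQuotB

set_option autoImplicit false
set_option linter.style.haveILetI false
universe v u
open CategoryTheory CategoryTheory.Limits AlgebraicGeometry MonoidalCategory CartesianMonoidalCategory
  MonObj

namespace Groth.Agent.Helper7.FinQuot

variable {k : Type u} [Field k]

theorem exists_factor_of_finite_quotient {G G₀ H X : Over (Spec (CommRingCat.of k))} [GrpObj G]
    (r₀ : G₀ ⟶ G) [IsReduced G₀.left] (t : (𝟙_ (Over (Spec (CommRingCat.of k)))).left)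
    (hr₀ : Set.range r₀.left.base = connectedComponent ((η[G]).left.base t))
    (h : H ⟶ G) [IsClosedImmersion h.left] (q : G ⟶ X)
    (hq : IsPullback (fst G H) ((G ◁ h) ≫ μ[G]) q q) [IsFinite X.hom] :
    ∃ g : G₀ ⟶ H, g ≫ h = r₀ := by
  haveI : IsLocallyArtinian (Spec (CommRingCat.of k)) :=
    Scheme.isLocallyArtinianScheme_Spec.mpr inferInstance
  haveI : IsLocallyArtinian X.left := IsLocallyArtinian.of_locallyQuasiFinite X.hom
  haveI : DiscreteTopology X.left := inferInstance
  set e := (η[G]).left.base t with he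
  -- the fibre of `q` through `e` is clopen
  have hclopen : IsClopen (q.left.base ⁻¹' {q.left.base e}) :=
    (isClopen_discrete _).preimage q.left.continuous
  have h1 : connectedComponent e ⊆ q.left.base ⁻¹' {q.left.base e} :=
    hclopen.connectedComponent_subset rfl
  -- the fibre of `q` through `e` is the range of `h`
  have sqL : IsPullback (fst G H).left ((G ◁ h) ≫ μ[G]).left q.left q.left :=
    hq.map (Over.forget _)
  have sqP : IsPullback (lift (toUnit H ≫ η[G]) (𝟙 H)).left (toUnit H).left (fst G H).left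
      (η[G]).left := (isPullback_fibre_pt G H η[G]).map (Over.forget _)
  have h2 : q.left.base ⁻¹' {q.left.base e} ⊆ Set.range h.left.base := by
    intro y hy
    have hy' : q.left.base e = q.left.base y := hy.symm
    obtain ⟨z, hz1, hz2⟩ := Scheme.exists_preimage_of_isPullback sqL e y hy'
    obtain ⟨w, hw1, -⟩ := Scheme.exists_preimage_of_isPullback sqP z t hz1
    refine ⟨w, ?_⟩
    have hh : lift (toUnit H ≫ η[G]) (𝟙 H) ≫ (G ◁ h) ≫ μ[G] = h := by
      rw [ThirdIso.shear_pt, Category.id_comp, ← Hom.one_def, _root_.one_mul]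
    rw [← hz2, ← hw1]
    have : h.left.base w = (lift (toUnit H ≫ η[G]) (𝟙 H) ≫ (G ◁ h) ≫ μ[G]).left.base w := by
      rw [hh]
    rw [this]
    rfl
  have h3 : Set.range r₀.left.base ⊆ Set.range h.left.base := by
    rw [hr₀]; exact h1.trans h2
  obtain ⟨l, hl⟩ := exists_lift_of_isReduced r₀.left h.left h3
  refine ⟨Over.homMk l ?_, ?_⟩
  · rw [← Over.w h, ← Category.assoc, hl, Over.w]
  · ext
    exact hl

end Groth.Agent.Helper7.FinQuot
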