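import Mathlib
import Groth.Agent.Lib.Helper7.SecColim
import Groth.Agent.Lib.Helper7.CTD
import Groth.Agent.Lib.Helper7.PropIso
import Groth.Agent.Lib.Helper7.GD3
import Groth.Agent.Lib.Helper4.LimSm
import Groth.Agent.Lib.Helper9.PrinPart4
import Groth.Agent.Lib.Helper13.LocFree
import Groth.Agent.Lib.Helper7.StalkInjFlatOpen

/-!
# Injectivity with flat cokernel descends to a stage of a cofiltered limit of schemes (helper7)
-/

set_option autoImplicit false
set_option linter.style.haveILetI false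
set_option linter.unusedSectionVars false
set_option maxRecDepth 8000

open CategoryTheory AlgebraicGeometry Limits Opposite TopologicalSpace TensorProduct Function

universe u

namespace Groth.Agent.Helper7.LimIFC

open Groth.Agent.Helper13.QCoh Groth.Agent.Helper7.LimBC Groth.Agent.Helper7.SecColim
  Groth.Agent.Helper4.LimSm Groth.Agent.Helper13.Pullback

/-- the stalk map is injective and the cokernel is flat over the base at the point -/
def IFC {X Y : Scheme.{u}} (f : X ⟶ Y) {A B : X.Modules} (u : A ⟶ B) (x : X) : Prop :=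
  Injective (stalkMap u x) ∧ FlatMod.IsFlatOverAt f (cokernel u) x

section ML

variable {K : Type u} [SmallCategory K] [IsCofiltered K] (E : K ⥤ Scheme.{u})
  [∀ {i j} (f : i ⟶ j), IsAffineHom (E.map f)] (cE : Cone E) (hcE : IsLimit cE)
  (k₀ : K) {X₀ : Scheme.{u}} (f₀ : X₀ ⟶ E.obj k₀) [LocallyOfFinitePresentation f₀]
  (F₀' F₀ : X₀.Modules) [F₀'.IsQuasicoherent] [F₀.IsQuasicoherent]
  [SheafOfModules.IsFinitePresentation (R := X₀.ringCatSheaf) F₀']
  [SheafOfModules.IsFinitePresentation (R := X₀.ringCatSheaf) F₀]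
  (h₀ : F₀' ⟶ F₀)

include hcE in
set_option maxHeartbeats 6400000 in
set_option synthInstance.maxHeartbeats 400000 in
/-- **Main lemma (chart form).** -/
theorem exists_stage_chart (j : Over k₀) (V : ((pbDiagram E k₀ f₀).obj j).Opens)
    (hV : IsAffineOpen V) (W : (E.obj j.left).Opens) (hW : IsAffineOpen W)
    (hVW : V ≤ (pullback.fst (E.map j.hom) f₀) ⁻¹ᵁ W)
    (h : ∀ x ∈ (pbCone E cE k₀ f₀).π.app j ⁻¹ᵁ V,
      IFC (pullback.fst (cE.π.app k₀) f₀)
        ((Scheme.Modules.pullback (pullback.snd (cE.π.app k₀) f₀)).map h₀) x) :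
    ∃ (j' : Over k₀) (φ' : j' ⟶ j), ∀ x' ∈ (pbDiagram E k₀ f₀).map φ' ⁻¹ᵁ V,
      IFC (pullback.fst (E.map j'.hom) f₀)
        ((Scheme.Modules.pullback (pullback.snd (E.map j'.hom) f₀)).map h₀) x' := by
  classical
  let F := pbDiagram E k₀ f₀
  let cF := pbCone E cE k₀ f₀
  let fj : F.obj j ⟶ E.obj j.left := pullback.fst (E.map j.hom) f₀
  let pj : F.obj j ⟶ X₀ := pullback.snd (E.map j.hom) f₀
  have hfj : LocallyOfFinitePresentation fj :=
    MorphismProperty.pullback_fst (P := @LocallyOfFinitePresentation) _ _ inferInstance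
  let Fj' := (Scheme.Modules.pullback pj).obj F₀'
  let Fj := (Scheme.Modules.pullback pj).obj F₀
  let hj : Fj' ⟶ Fj := (Scheme.Modules.pullback pj).map h₀
  haveI : SheafOfModules.IsFinitePresentation (R := (F.obj j).ringCatSheaf) Fj' :=
    Groth.Agent.Helper9.PrinPart4.isFinitePresentation_pullback pj F₀'
  haveI : SheafOfModules.IsFinitePresentation (R := (F.obj j).ringCatSheaf) Fj :=
    Groth.Agent.Helper9.PrinPart4.isFinitePresentation_pullback pj F₀
  have hφ : (fj.appLE W V hVW).hom.FinitePresentation :=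
    HasRingHomProperty.appLE @LocallyOfFinitePresentation fj inferInstance ⟨W, hW⟩ ⟨V, hV⟩ hVW
  letI algCB : Algebra Γ(E.obj j.left, W) Γ(F.obj j, V) := (fj.appLE W V hVW).hom.toAlgebra
  haveI : Algebra.FinitePresentation Γ(E.obj j.left, W) Γ(F.obj j, V) := hφ
  letI modM : Module Γ(E.obj j.left, W) Γ(Fj, V) := Module.compHom _ (fj.appLE W V hVW).hom
  haveI : IsScalarTower Γ(E.obj j.left, W) Γ(F.obj j, V) Γ(Fj, V) :=
    IsScalarTower.of_algebraMap_smul fun _ _ => rfl
  letI modM' : Module Γ(E.obj j.left, W) Γ(Fj', V) := Module.compHom _ (fj.appLE W V hVW).hom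
  haveI : IsScalarTower Γ(E.obj j.left, W) Γ(F.obj j, V) Γ(Fj', V) :=
    IsScalarTower.of_algebraMap_smul fun _ _ => rfl
  haveI fpM : Module.FinitePresentation Γ(F.obj j, V) Γ(Fj, V) :=
    Groth.Agent.Helper13.LocFree.finitePresentation_sections_of_isFinitePresentation Fj hV
  haveI fpM' : Module.FinitePresentation Γ(F.obj j, V) Γ(Fj', V) :=
    Groth.Agent.Helper13.LocFree.finitePresentation_sections_of_isFinitePresentation Fj' hV
  let u : Γ(Fj', V) →ₗ[Γ(F.obj j, V)] Γ(Fj, V) :=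
    { toFun := fun m => hj.app V m
      map_add' := fun a b => map_add _ a b
      map_smul' := fun r m => Scheme.Modules.Hom.app_smul hj r m }
  obtain ⟨α, iP, iD, iN, l, m, hm, hsurj, hker⟩ := exists_directed_sections E cE hcE j.left W hW
  letI algC : Algebra Γ(E.obj j.left, W) Γ(cE.pt, cE.π.app j.left ⁻¹ᵁ W) :=
    ((cE.π.app j.left).appLE W _ le_rfl).hom.toAlgebra
  letI algG : ∀ a, Algebra Γ(E.obj j.left, W) Γ(E.obj (l a).left, E.map (l a).hom ⁻¹ᵁ W) :=
    fun a => ((E.map (l a).hom).appLE W _ le_rfl).hom.toAlgebra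
  let G : α → Type u := fun a => Γ(E.obj (l a).left, E.map (l a).hom ⁻¹ᵁ W)
  let fG : ∀ a b, a ≤ b → (G a →ₐ[Γ(E.obj j.left, W)] G b) := fun a b hab =>
    { ((E.map (m a b hab).left).appLE _ _ (preimage_le_map E j.left W (m a b hab))).hom with
      commutes' := fun r => congr($(appLE_map_comp E j.left W (m a b hab)).hom r) }
  let gG : ∀ a, G a →ₐ[Γ(E.obj j.left, W)] Γ(cE.pt, cE.π.app j.left ⁻¹ᵁ W) := fun a =>
    { ((cE.π.app (l a).left).appLE _ _ (preimage_le_π E cE j.left W (l a))).hom with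
      commutes' := fun r => congr($(appLE_π_comp E cE j.left W (l a)).hom r) }
  have hg : ∀ a b (hab : a ≤ b), (gG b).comp (fG a b hab) = gG a := by
    intro a b hab
    ext x
    exact congr($(appLE_map_π E cE j.left W (m a b hab)).hom x)
  haveI := isAffineHom_π_app E cE hcE j.left
  -- the chart dictionary at the limit
  have Hinf := isPullback_π E cE k₀ f₀ j
  have hctinf := Groth.Agent.Helper7.CTD.chart_iff Hinf Fj' Fj hj hW hV hVW
    (hW.preimage (cE.π.app j.left)) le_rfl (instA := algC) rfl (instF := modM) (fun _ _ => rfl)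
    (instF' := modM') (fun _ _ => rfl) (u.restrictScalars Γ(E.obj j.left, W)) (fun _ => rfl)
  have hcinf : cF.π.app j ≫ pj = pullback.snd (cE.π.app k₀) f₀ := pullback.lift_snd _ _ _
  obtain ⟨hinj, hflat⟩ := hctinf.mp (fun x' hx' =>
    (Groth.Agent.Helper7.PropIso.prop_pullback_comp_iff (pullback.fst (cE.π.app k₀) f₀)
      (cF.π.app j) pj _ hcinf h₀ x').mpr (h x' hx'.1))
  obtain ⟨a, hinj_a, hflat_a⟩ := Groth.Agent.Helper7.GD3.globalD G fG
    Γ(cE.pt, cE.π.app j.left ⁻¹ᵁ W) gG hg hsurj hker u hinj hflat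
  -- the chart dictionary at the stage
  let j' : Over k₀ := Over.mk ((l a).hom ≫ j.hom)
  let φ' : j' ⟶ j := Over.homMk (l a).hom
  have Ha := isPullback_map E k₀ f₀ φ'
  have hcta := Groth.Agent.Helper7.CTD.chart_iff Ha Fj' Fj hj hW hV hVW
    (hW.preimage (E.map (l a).hom)) le_rfl (instA := algG a) rfl (instF := modM) (fun _ _ => rfl)
    (instF' := modM') (fun _ _ => rfl) (u.restrictScalars Γ(E.obj j.left, W)) (fun _ => rfl)
  have hca : F.map φ' ≫ pj = pullback.snd (E.map j'.hom) f₀ := pullback.lift_snd _ _ _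
  refine ⟨j', φ', fun x' hx' => ?_⟩
  refine (Groth.Agent.Helper7.PropIso.prop_pullback_comp_iff (pullback.fst (E.map j'.hom) f₀)
      (F.map φ') pj _ hca h₀ x').mp (hcta.mpr ⟨hinj_a, hflat_a⟩ x' ⟨hx', ?_⟩)
  have h1 : fj ((F.map φ') x') ∈ W := hVW hx'
  rw [← Scheme.Hom.comp_apply] at h1
  have h2 : F.map φ' ≫ fj = pullback.fst (E.map j'.hom) f₀ ≫ E.map (l a).hom :=
    pullback.lift_fst _ _ _
  rw [h2] at h1
  change (E.map (l a).hom) ((pullback.fst (E.map j'.hom) f₀) x') ∈ W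
  rw [← Scheme.Hom.comp_apply]
  exact h1

include hcE in
set_option maxHeartbeats 3200000 in
/-- **Pointwise form**: injectivity with flat cokernel at a point of the limit descends to a
stage. -/
theorem exists_stage (x : ↥(pullback (cE.π.app k₀) f₀))
    (hx : IFC (pullback.fst (cE.π.app k₀) f₀)
      ((Scheme.Modules.pullback (pullback.snd (cE.π.app k₀) f₀)).map h₀) x) :
    ∃ j : Over k₀, IFC (pullback.fst (E.map j.hom) f₀)
      ((Scheme.Modules.pullback (pullback.snd (E.map j.hom) f₀)).map h₀)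
      ((pbCone E cE k₀ f₀).π.app j x) := by
  let F := pbDiagram E k₀ f₀
  let cF := pbCone E cE k₀ f₀
  have hcF : IsLimit cF := isLimitPbCone E cE hcE k₀ f₀
  let finf := pullback.fst (cE.π.app k₀) f₀
  let pinf := pullback.snd (cE.π.app k₀) f₀
  haveI : LocallyOfFinitePresentation finf :=
    MorphismProperty.pullback_fst (P := @LocallyOfFinitePresentation) _ _ inferInstance
  haveI : SheafOfModules.IsFinitePresentation (R := cF.pt.ringCatSheaf)
      ((Scheme.Modules.pullback pinf).obj F₀') :=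
    Groth.Agent.Helper9.PrinPart4.isFinitePresentation_pullback pinf F₀'
  haveI : SheafOfModules.IsFinitePresentation (R := cF.pt.ringCatSheaf)
      ((Scheme.Modules.pullback pinf).obj F₀) :=
    Groth.Agent.Helper9.PrinPart4.isFinitePresentation_pullback pinf F₀
  have hopen := Groth.Agent.Helper7.StalkInjFlatOpen.isOpen_main finf
    ((Scheme.Modules.pullback pinf).obj F₀) ((Scheme.Modules.pullback pinf).obj F₀')
    (hF := Groth.Agent.Helper9.PrinPart4.isFinitePresentation_pullback pinf F₀)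
    (hF' := Groth.Agent.Helper9.PrinPart4.isFinitePresentation_pullback pinf F₀')
    ((Scheme.Modules.pullback pinf).map h₀)
  let 𝒰 : cF.pt.Opens := ⟨_, hopen⟩
  let j₀ : Over k₀ := Over.mk (𝟙 k₀)
  let t₀ : F.obj j₀ ⟶ E.obj k₀ := pullback.fst (E.map j₀.hom) f₀ ≫ E.map j₀.hom
  obtain ⟨_, ⟨W₀, hW₀, rfl⟩, he₀, -⟩ := (E.obj k₀).isBasis_affineOpens.exists_subset_of_mem_open
    (Set.mem_univ ((cF.π.app j₀ ≫ t₀) x)) isOpen_univ
  let V₁ : (F.obj j₀).Opens := t₀ ⁻¹ᵁ W₀
  have hxV₁ : cF.π.app j₀ x ∈ V₁ := by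
    change t₀ (cF.π.app j₀ x) ∈ W₀
    rw [← Scheme.Hom.comp_apply]
    exact he₀
  obtain ⟨j, φ, V, hV, hVle, hxV, hVU⟩ :=
    exists_isAffineOpen_le F cF hcF x 𝒰 hx j₀ V₁ hxV₁
  let fj : F.obj j ⟶ E.obj j.left := pullback.fst (E.map j.hom) f₀
  let Wj : (E.obj j.left).Opens := E.map j.hom ⁻¹ᵁ W₀
  have hWj : IsAffineOpen Wj := hW₀.preimage _
  have et : F.map φ ≫ t₀ = fj ≫ E.map j.hom := by
    have e1 : F.map φ ≫ pullback.fst (E.map j₀.hom) f₀ = fj ≫ E.map φ.left :=
      pullback.lift_fst _ _ _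
    have e2 : E.map φ.left ≫ E.map j₀.hom = E.map j.hom := by
      rw [← E.map_comp, Over.w φ]
    simp only [t₀]
    rw [reassoc_of% e1, e2]
  have hVW : V ≤ fj ⁻¹ᵁ Wj := by
    intro y hy
    have h1 : (F.map φ) y ∈ V₁ := hVle hy
    change t₀ ((F.map φ) y) ∈ W₀ at h1
    rw [← Scheme.Hom.comp_apply, et] at h1
    exact h1
  obtain ⟨j', φ', h'⟩ := exists_stage_chart E cE hcE k₀ f₀ F₀' F₀ h₀ j V hV Wj hWj hVW
    (fun x' hx' => hVU hx')
  refine ⟨j', h' (cF.π.app j' x) ?_⟩
  change (F.map φ') (cF.π.app j' x) ∈ V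
  rw [← Scheme.Hom.comp_apply, cF.w φ']
  exact hxV

end ML

end Groth.Agent.Helper7.LimIFC
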