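import Mathlib
import Groth.Agent.Lib.Helper7.LimIFC
import Groth.Agent.Lib.Helper7.InjFlatBC

/-!
# Injectivity with flat cokernel at a point is preserved by base change (helper7)
-/

set_option autoImplicit false
set_option linter.style.haveILetI false
set_option linter.unusedSectionVars false
set_option maxRecDepth 8000

open CategoryTheory AlgebraicGeometry Limits Opposite TopologicalSpace TensorProduct Function

universe u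

namespace Groth.Agent.Helper7.IFCBC

open Groth.Agent.Helper13.QCoh Groth.Agent.Helper7.ChartBC Groth.Agent.Helper7.LimIFC
  Groth.Agent.Helper13.Pullback

variable {X' Y' X Y : Scheme.{u}} {p : X' ⟶ X} {f' : X' ⟶ Y'} {f : X ⟶ Y} {q : Y' ⟶ Y}

set_option maxHeartbeats 6400000 in
set_option synthInstance.maxHeartbeats 400000 in
/-- base change preserves injectivity of the stalk map with flat cokernel -/
theorem IFC_pullback (H : IsPullback p f' f q) {A B : X.Modules} [A.IsQuasicoherent]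
    [B.IsQuasicoherent] (u : A ⟶ B) (x' : X') (hx : IFC f u (p x')) :
    IFC f' ((Scheme.Modules.pullback p).map u) x' := by
  obtain ⟨V, hV, hfx, -⟩ := Opens.isBasis_iff_nbhd.mp Y.isBasis_affineOpens
    (Opens.mem_top (f (p x')))
  replace hV : IsAffineOpen V := hV
  obtain ⟨U, hU, hxU, eUV⟩ := Opens.isBasis_iff_nbhd.mp X.isBasis_affineOpens
    (show p x' ∈ f ⁻¹ᵁ V from hfx)
  replace hU : IsAffineOpen U := hU
  have hqx : f' x' ∈ q ⁻¹ᵁ V := by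
    change q (f' x') ∈ V
    rw [← Scheme.Hom.comp_apply, ← H.w, Scheme.Hom.comp_apply]
    exact hfx
  obtain ⟨V', hV', hfx', eV'⟩ := Opens.isBasis_iff_nbhd.mp Y'.isBasis_affineOpens hqx
  replace hV' : IsAffineOpen V' := hV'
  have hU' := isAffineOpen_chart H hV hU eUV hV' eV'
  have hpoC := isPushout_chart H hV hU eUV hV' eV'
  have hx'U' : x' ∈ p ⁻¹ᵁ U ⊓ f' ⁻¹ᵁ V' := ⟨hxU, hfx'⟩
  letI algVV' : Algebra Γ(Y, V) Γ(Y', V') := (q.appLE V V' eV').hom.toAlgebra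
  letI algVU : Algebra Γ(Y, V) Γ(X, U) := (f.appLE V U eUV).hom.toAlgebra
  letI algUU' : Algebra Γ(X, U) Γ(X', p ⁻¹ᵁ U ⊓ f' ⁻¹ᵁ V') :=
    (p.appLE U (p ⁻¹ᵁ U ⊓ f' ⁻¹ᵁ V') inf_le_left).hom.toAlgebra
  letI algV'U' : Algebra Γ(Y', V') Γ(X', p ⁻¹ᵁ U ⊓ f' ⁻¹ᵁ V') :=
    (f'.appLE V' (p ⁻¹ᵁ U ⊓ f' ⁻¹ᵁ V') inf_le_right).hom.toAlgebra
  letI algVU' : Algebra Γ(Y, V) Γ(X', p ⁻¹ᵁ U ⊓ f' ⁻¹ᵁ V') :=
    ((f'.appLE V' (p ⁻¹ᵁ U ⊓ f' ⁻¹ᵁ V') inf_le_right).hom.comp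
      (algebraMap Γ(Y, V) Γ(Y', V'))).toAlgebra
  haveI tw1 : IsScalarTower Γ(Y, V) Γ(Y', V') Γ(X', p ⁻¹ᵁ U ⊓ f' ⁻¹ᵁ V') :=
    IsScalarTower.of_algebraMap_eq fun _ => rfl
  haveI tw2 : IsScalarTower Γ(Y, V) Γ(X, U) Γ(X', p ⁻¹ᵁ U ⊓ f' ⁻¹ᵁ V') :=
    IsScalarTower.of_algebraMap_eq fun r => by
      have := congrArg (fun ψ => ψ.hom r) hpoC.w
      exact this.symm
  have hpo1 : Algebra.IsPushout Γ(Y, V) Γ(X, U) Γ(Y', V') Γ(X', p ⁻¹ᵁ U ⊓ f' ⁻¹ᵁ V') :=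
    (CommRingCat.isPushout_iff_isPushout (R := Γ(Y, V)) (S := Γ(Y', V')) (R' := Γ(X, U))
      (S' := Γ(X', p ⁻¹ᵁ U ⊓ f' ⁻¹ᵁ V'))).mp hpoC
  haveI hpo : Algebra.IsPushout Γ(Y, V) Γ(Y', V') Γ(X, U) Γ(X', p ⁻¹ᵁ U ⊓ f' ⁻¹ᵁ V') := hpo1.symm
  -- module structures downstairs
  letI modVA : Module Γ(Y, V) Γ(A, U) := Module.compHom _ (f.appLE V U eUV).hom
  haveI : IsScalarTower Γ(Y, V) Γ(X, U) Γ(A, U) := IsScalarTower.of_algebraMap_smul fun _ _ => rfl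
  letI modVB : Module Γ(Y, V) Γ(B, U) := Module.compHom _ (f.appLE V U eUV).hom
  haveI : IsScalarTower Γ(Y, V) Γ(X, U) Γ(B, U) := IsScalarTower.of_algebraMap_smul fun _ _ => rfl
  -- module structures upstairs
  letI modUA' : Module Γ(X, U) Γ((Scheme.Modules.pullback p).obj A, p ⁻¹ᵁ U ⊓ f' ⁻¹ᵁ V') :=
    Module.compHom _ (p.appLE U (p ⁻¹ᵁ U ⊓ f' ⁻¹ᵁ V') inf_le_left).hom
  haveI : IsScalarTower Γ(X, U) Γ(X', p ⁻¹ᵁ U ⊓ f' ⁻¹ᵁ V')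
      Γ((Scheme.Modules.pullback p).obj A, p ⁻¹ᵁ U ⊓ f' ⁻¹ᵁ V') :=
    IsScalarTower.of_algebraMap_smul fun _ _ => rfl
  letI modUB' : Module Γ(X, U) Γ((Scheme.Modules.pullback p).obj B, p ⁻¹ᵁ U ⊓ f' ⁻¹ᵁ V') :=
    Module.compHom _ (p.appLE U (p ⁻¹ᵁ U ⊓ f' ⁻¹ᵁ V') inf_le_left).hom
  haveI : IsScalarTower Γ(X, U) Γ(X', p ⁻¹ᵁ U ⊓ f' ⁻¹ᵁ V')
      Γ((Scheme.Modules.pullback p).obj B, p ⁻¹ᵁ U ⊓ f' ⁻¹ᵁ V') :=
    IsScalarTower.of_algebraMap_smul fun _ _ => rfl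
  letI modV'B' : Module Γ(Y', V') Γ((Scheme.Modules.pullback p).obj B, p ⁻¹ᵁ U ⊓ f' ⁻¹ᵁ V') :=
    Module.compHom _ (f'.appLE V' (p ⁻¹ᵁ U ⊓ f' ⁻¹ᵁ V') inf_le_right).hom
  haveI : IsScalarTower Γ(Y', V') Γ(X', p ⁻¹ᵁ U ⊓ f' ⁻¹ᵁ V')
      Γ((Scheme.Modules.pullback p).obj B, p ⁻¹ᵁ U ⊓ f' ⁻¹ᵁ V') :=
    IsScalarTower.of_algebraMap_smul fun _ _ => rfl
  obtain ⟨fM, hfM, hfMm⟩ := exists_isBaseChange_sections p A hU hU' inf_le_left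
  obtain ⟨fN, hfN, hfNm⟩ := exists_isBaseChange_sections p B hU hU' inf_le_left
  let u₀ : Γ(A, U) →ₗ[Γ(X, U)] Γ(B, U) :=
    { toFun := fun m => u.app U m
      map_add' := fun a b => map_add _ a b
      map_smul' := fun r m => Scheme.Modules.Hom.app_smul u r m }
  let u' : Γ((Scheme.Modules.pullback p).obj A, p ⁻¹ᵁ U ⊓ f' ⁻¹ᵁ V')
      →ₗ[Γ(X', p ⁻¹ᵁ U ⊓ f' ⁻¹ᵁ V')]
      Γ((Scheme.Modules.pullback p).obj B, p ⁻¹ᵁ U ⊓ f' ⁻¹ᵁ V') :=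
    { toFun := fun m => ((Scheme.Modules.pullback p).map u).app (p ⁻¹ᵁ U ⊓ f' ⁻¹ᵁ V') m
      map_add' := fun a b => map_add _ a b
      map_smul' := fun r m => Scheme.Modules.Hom.app_smul _ r m }
  have hcompat : ∀ m, fN (u₀ m) = u' (fM m) := by
    intro m
    change fN (u.app U m) =
      ((Scheme.Modules.pullback p).map u).app (p ⁻¹ᵁ U ⊓ f' ⁻¹ᵁ V') (fM m)
    rw [hfNm, hfMm, map_app_pullRes]
  have h0 := (Groth.Agent.Helper7.StalkInjFlatOpen.point_iff f B A u hU hV eUV rfl u₀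
    (fun _ => rfl) (p x') hxU).mp hx
  have hcomap : (hU'.primeIdealOf ⟨x', hx'U'⟩).asIdeal.comap
      (algebraMap Γ(X, U) Γ(X', p ⁻¹ᵁ U ⊓ f' ⁻¹ᵁ V')) = (hU.primeIdealOf ⟨p x', hxU⟩).asIdeal :=
    congrArg PrimeSpectrum.asIdeal
      (IsAffineOpen.comap_primeIdealOf_appLE U hU _ hU' inf_le_left hx'U')
  have key : ∀ (Q₀ : Ideal Γ(X, U)) [Q₀.IsPrime],
      Q₀ = (hU.primeIdealOf ⟨p x', hxU⟩).asIdeal →
      ((∀ m : Γ(A, U), u₀ m = 0 → ∃ t : Γ(X, U), t ∉ Q₀ ∧ t • m = 0) ∧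
        Module.Flat Γ(Y, V) (LocalizedModule Q₀.primeCompl (Γ(B, U) ⧸ LinearMap.range u₀))) := by
    intro Q₀ _ hQ
    subst hQ
    exact h0
  obtain ⟨h01, h02⟩ := key _ hcomap
  haveI := h02
  have h1 := Groth.Agent.Helper7.InjFlatBC.locInj (R₀ := Γ(Y, V)) (R := Γ(Y', V')) fM hfM fN hfN
    u₀ u' hcompat (hU'.primeIdealOf ⟨x', hx'U'⟩).asIdeal h01
  have h2 := Groth.Agent.Helper7.InjFlatBC.flat_coker (R₀ := Γ(Y, V)) (R := Γ(Y', V')) fM hfM fN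
    hfN u₀ u' hcompat (hU'.primeIdealOf ⟨x', hx'U'⟩).asIdeal
  exact (Groth.Agent.Helper7.StalkInjFlatOpen.point_iff f' ((Scheme.Modules.pullback p).obj B)
    ((Scheme.Modules.pullback p).obj A) ((Scheme.Modules.pullback p).map u) hU' hV' inf_le_right
    rfl u' (fun _ => rfl) x' hx'U').mpr ⟨h1, h2⟩

end Groth.Agent.Helper7.IFCBC
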