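import Mathlib
import Groth.Agent.Lib.Helper7.LimIFC
import Groth.Agent.Lib.Helper7.IFCBC

/-!
# EGA IV 11.2.6 (ii) in the limit: injectivity with flat cokernel at a point (helper7)
-/

set_option autoImplicit false
set_option linter.style.haveILetI false
set_option linter.unusedSectionVars false
set_option maxRecDepth 8000

open CategoryTheory AlgebraicGeometry Limits Opposite TopologicalSpace TensorProduct Function

universe u

namespace Groth.Agent.Helper7.LimIFCMain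

open Groth.Agent.Helper13.QCoh Groth.Agent.Helper7.LimBC Groth.Agent.Helper7.LimIFC
  Groth.Agent.Helper7.IFCBC Groth.Agent.Helper7.PropIso

variable {I : Type u} [SmallCategory I] [IsCofiltered I]
  (D : I ⥤ Scheme.{u}) (c : Cone D) (hc : IsLimit c)
  [∀ (i j : I) (φ : i ⟶ j), IsAffineHom (D.map φ)] (i₀ : I)
  {X₀ Y₀ : Scheme.{u}} (f₀ : X₀ ⟶ Y₀) (g₀ : Y₀ ⟶ D.obj i₀)
  (F₀ G₀ : X₀.Modules) [F₀.IsQuasicoherent] [G₀.IsQuasicoherent]
  (h₀ : F₀ ⟶ G₀)
  {X Y : Scheme.{u}} (f : X ⟶ Y) (g : Y ⟶ c.pt) (qY : Y ⟶ Y₀) (qX : X ⟶ X₀)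

omit [IsCofiltered I] [∀ (i j : I) (φ : i ⟶ j), IsAffineHom (D.map φ)] in
include D c in
/-- the easy direction: from a stage to the limit -/
theorem of_stage (hX : IsPullback qX f f₀ qY) (x : X)
    {Xi Yi : Scheme.{u}} (fi : Xi ⟶ Yi) (pY : Yi ⟶ Y₀) (pX : Xi ⟶ X₀) (vY : Y ⟶ Yi) (vX : X ⟶ Xi)
    (hXi : IsPullback pX fi f₀ pY) (e1 : vY ≫ pY = qY) (e3 : vX ≫ pX = qX)
    (e4 : vX ≫ fi = f ≫ vY)
    (hIFC : IFC fi ((Scheme.Modules.pullback pX).map h₀) (vX x)) :
    IFC f ((Scheme.Modules.pullback qX).map h₀) x := by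
  have H' : IsPullback vX f fi vY :=
    IsPullback.of_right (by rw [e3, e1]; exact hX) e4 hXi
  have h1 := IFC_pullback H' ((Scheme.Modules.pullback pX).map h₀) x hIFC
  exact (prop_pullback_comp_iff f vX pX qX e3 h₀ x).mp h1

include hc in
set_option maxHeartbeats 3200000 in
/-- the hard direction: from the limit to a stage -/
theorem exists_stage_data [LocallyOfFinitePresentation f₀]
    [SheafOfModules.IsFinitePresentation (R := X₀.ringCatSheaf) F₀]
    [SheafOfModules.IsFinitePresentation (R := X₀.ringCatSheaf) G₀]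
    (hY : IsPullback qY g g₀ (c.π.app i₀)) (hX : IsPullback qX f f₀ qY) (x : X)
    (hx : IFC f ((Scheme.Modules.pullback qX).map h₀) x) :
    ∃ (i : I) (φ : i ⟶ i₀) (Xi Yi : Scheme.{u}) (fi : Xi ⟶ Yi) (gi : Yi ⟶ D.obj i)
      (pY : Yi ⟶ Y₀) (pX : Xi ⟶ X₀) (vY : Y ⟶ Yi) (vX : X ⟶ Xi),
      IsPullback pY gi g₀ (D.map φ) ∧ IsPullback pX fi f₀ pY ∧
        vY ≫ pY = qY ∧ vY ≫ gi = g ≫ c.π.app i ∧ vX ≫ pX = qX ∧ vX ≫ fi = f ≫ vY ∧
        IFC fi ((Scheme.Modules.pullback pX).map h₀) (vX x) := by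
  let E := pbDiagram D i₀ g₀
  let cE := pbCone D c i₀ g₀
  have hcE : IsLimit cE := isLimitPbCone D c hc i₀ g₀
  let k₀ : Over i₀ := Over.mk (𝟙 i₀)
  let sY₀ : E.obj k₀ ⟶ Y₀ := pullback.snd (D.map k₀.hom) g₀
  haveI : IsIso (D.map k₀.hom) := by
    change IsIso (D.map (𝟙 i₀))
    rw [D.map_id]
    infer_instance
  haveI : IsIso sY₀ := pullback_snd_iso_of_left_iso _ _
  let f₀' : X₀ ⟶ E.obj k₀ := f₀ ≫ inv sY₀
  haveI : LocallyOfFinitePresentation f₀' := inferInstance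
  let eY : Y ≅ cE.pt := hY.flip.isoPullback
  have eY_fst : eY.hom ≫ pullback.fst (c.π.app i₀) g₀ = g := hY.flip.isoPullback_hom_fst
  have eY_snd : eY.hom ≫ pullback.snd (c.π.app i₀) g₀ = qY := hY.flip.isoPullback_hom_snd
  have hπk₀ : cE.π.app k₀ ≫ sY₀ = pullback.snd (c.π.app i₀) g₀ := pullback.lift_snd _ _ _
  have HX' : IsPullback (f ≫ eY.hom) qX (cE.π.app k₀) f₀' := by
    refine IsPullback.of_iso hX.flip (Iso.refl X) eY (Iso.refl X₀) (asIso sY₀).symm ?_ ?_ ?_ ?_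
    · simp
    · simp
    · rw [Iso.symm_hom, asIso_inv, IsIso.comp_inv_eq, Category.assoc, hπk₀, eY_snd]
    · simp [f₀']
  let eX : X ≅ pullback (cE.π.app k₀) f₀' := HX'.isoPullback
  have eX_fst : eX.hom ≫ pullback.fst (cE.π.app k₀) f₀' = f ≫ eY.hom := HX'.isoPullback_hom_fst
  have eX_snd : eX.hom ≫ pullback.snd (cE.π.app k₀) f₀' = qX := HX'.isoPullback_hom_snd
  let xinf := eX.hom x
  have Hiso : IsPullback eX.inv (pullback.fst (cE.π.app k₀) f₀') f eY.inv :=
    IsPullback.of_horiz_isIso ⟨by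
      rw [Iso.inv_comp_eq, ← Category.assoc, eX_fst, Category.assoc, Iso.hom_inv_id,
        Category.comp_id]⟩
  have hx1 : IFC f ((Scheme.Modules.pullback qX).map h₀) (eX.inv xinf) := by
    have : eX.inv xinf = x := by
      change eX.inv (eX.hom x) = x
      rw [← Scheme.Hom.comp_apply, eX.hom_inv_id]
      rfl
    rw [this]
    exact hx
  have hx2 := IFC_pullback Hiso ((Scheme.Modules.pullback qX).map h₀) xinf hx1
  have hx3 : IFC (pullback.fst (cE.π.app k₀) f₀')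
      ((Scheme.Modules.pullback (pullback.snd (cE.π.app k₀) f₀')).map h₀) xinf :=
    (prop_pullback_comp_iff _ eX.inv qX _ (by rw [Iso.inv_comp_eq, eX_snd]) h₀ xinf).mp hx2
  obtain ⟨j, hj⟩ := exists_stage E cE hcE k₀ f₀' F₀ G₀ h₀ xinf hx3
  refine ⟨j.left.left, j.left.hom, pullback (E.map j.hom) f₀', E.obj j.left,
    pullback.fst (E.map j.hom) f₀', pullback.fst (D.map j.left.hom) g₀,
    pullback.snd (D.map j.left.hom) g₀, pullback.snd (E.map j.hom) f₀',
    eY.hom ≫ cE.π.app j.left, eX.hom ≫ (pbCone E cE k₀ f₀').π.app j, ?_, ?_, ?_, ?_, ?_, ?_, ?_⟩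
  · exact (IsPullback.of_hasPullback _ _).flip
  · refine IsPullback.of_iso (IsPullback.of_hasPullback (E.map j.hom) f₀').flip (Iso.refl _)
      (Iso.refl _) (Iso.refl _) (asIso sY₀) (by simp) (by simp) (by simp [f₀']) ?_
    rw [Iso.refl_hom, Category.id_comp, asIso_hom]
    exact pullback.lift_snd _ _ _
  · rw [Category.assoc]
    have : cE.π.app j.left ≫ pullback.snd (D.map j.left.hom) g₀ =
        pullback.snd (c.π.app i₀) g₀ := pullback.lift_snd _ _ _
    rw [this, eY_snd]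
  · rw [Category.assoc]
    have : cE.π.app j.left ≫ pullback.fst (D.map j.left.hom) g₀ =
        pullback.fst (c.π.app i₀) g₀ ≫ c.π.app j.left.left := pullback.lift_fst _ _ _
    exact (congrArg (eY.hom ≫ ·) this).trans ((Category.assoc _ _ _).symm.trans
      (congrArg (· ≫ c.π.app j.left.left) eY_fst))
  · rw [Category.assoc]
    have : (pbCone E cE k₀ f₀').π.app j ≫ pullback.snd (E.map j.hom) f₀' =
        pullback.snd (cE.π.app k₀) f₀' := pullback.lift_snd _ _ _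
    exact (congrArg (eX.hom ≫ ·) this).trans eX_snd
  · rw [Category.assoc]
    have : (pbCone E cE k₀ f₀').π.app j ≫ pullback.fst (E.map j.hom) f₀' =
        pullback.fst (cE.π.app k₀) f₀' ≫ cE.π.app j.left := pullback.lift_fst _ _ _
    exact (congrArg (eX.hom ≫ ·) this).trans ((Category.assoc _ _ _).symm.trans
      ((congrArg (· ≫ cE.π.app j.left) eX_fst).trans (Category.assoc _ _ _)))
  · rw [Scheme.Hom.comp_apply]
    exact hj

end Groth.Agent.Helper7.LimIFCMain
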