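import Mathlib
import Groth.Agent.Lib.Helper7.LimIFCMain
import Groth.Agent.Lib.Helper13.QCohFin
import Groth.Agent.Lib.Helper13.FinPresAffine
import Groth.Agent.Lib.Helper7.FinPres

/-!
# Flatness at a point as injectivity with flat cokernel for a map from zero (helper7)
-/

set_option autoImplicit false
set_option linter.style.haveILetI false
set_option linter.unusedSectionVars false
set_option maxRecDepth 8000

open CategoryTheory AlgebraicGeometry Limits Opposite TopologicalSpace TensorProduct Function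

universe u

namespace Groth.Agent.Helper7.IFCZero

open Groth.Agent.Helper13.QCoh Groth.Agent.Helper7.LimIFC Groth.Agent.Helper7.PropIso
  Groth.Agent.Helper3.CohLenAdd

variable {X Y : Scheme.{u}} (f : X ⟶ Y)

theorem subsingleton_stalk_of_isZero {A : X.Modules} (hA : IsZero A) (x : X) :
    Subsingleton (A.presheaf.stalk x) := by
  refine ⟨fun m m' => ?_⟩
  have h : ∀ m : A.presheaf.stalk x, m = 0 := by
    intro m
    have h1 := stalkMap_id_apply (A := A) x m
    rw [hA.eq_of_src (𝟙 A) 0, stalkMap_zero] at h1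
    exact h1.symm
  rw [h m, h m']

theorem subsingleton_sections_of_isZero {A : X.Modules} (hA : IsZero A) (U : X.Opens) :
    Subsingleton Γ(A, U) := by
  refine ⟨fun m m' => ?_⟩
  have h : ∀ m : Γ(A, U), m = 0 := by
    intro m
    have h1 : (𝟙 A : A ⟶ A).app U m = m := rfl
    rw [hA.eq_of_src (𝟙 A) 0] at h1
    exact h1.symm.trans rfl
  rw [h m, h m']

theorem IFC_iff_of_isZero {A B : X.Modules} (u : A ⟶ B) (hA : IsZero A) (x : X) :
    IFC f u x ↔ FlatMod.IsFlatOverAt f B x := by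
  obtain rfl : u = 0 := hA.eq_of_src _ _
  haveI := subsingleton_stalk_of_isZero hA x
  have e : cokernel (0 : A ⟶ B) ≅ B := cokernelZeroIsoTarget
  constructor
  · intro h
    exact Groth.Agent.Helper14.FlatDesc.isFlatOverAt_of_iso f e x h.2
  · intro h
    exact ⟨fun m m' _ => Subsingleton.elim _ _,
      Groth.Agent.Helper14.FlatDesc.isFlatOverAt_of_iso f e.symm x h⟩

theorem isZero_pullback_obj {X' : Scheme.{u}} (p : X' ⟶ X) {Z : X.Modules} (hZ : IsZero Z) :
    IsZero ((Scheme.Modules.pullback p).obj Z) :=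
  Functor.map_isZero _ hZ

theorem isFinitePresentation_of_isZero {Z : X.Modules} (hZ : IsZero Z) :
    SheafOfModules.IsFinitePresentation (R := X.ringCatSheaf) Z := by
  haveI : Z.IsQuasicoherent := Groth.Agent.Helper13.QCohFin.isQuasicoherent_of_isZero hZ
  apply Groth.Agent.Helper13.LocFree.isFinitePresentation_of_finitePresentation_sections Z
  intro x
  obtain ⟨_, ⟨V, hV, rfl⟩, hxV, -⟩ :=
    X.isBasis_affineOpens.exists_subset_of_mem_open (Set.mem_univ x) isOpen_univ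
  refine ⟨V, hV, hxV, ?_⟩
  haveI := subsingleton_sections_of_isZero hZ V
  exact Module.finitePresentation_of_projective _ _

section Main

open Groth.Agent.Helper7.LimIFCMain

variable {I : Type u} [SmallCategory I] [IsCofiltered I]
  (D : I ⥤ Scheme.{u}) (c : Cone D) (hc : IsLimit c)
  [∀ (i j : I) (φ : i ⟶ j), IsAffineHom (D.map φ)] (i₀ : I)
  {X₀ Y₀ : Scheme.{u}} (f₀ : X₀ ⟶ Y₀) (g₀ : Y₀ ⟶ D.obj i₀) [LocallyOfFinitePresentation f₀]
  (F₀ : X₀.Modules) [F₀.IsQuasicoherent]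
  [SheafOfModules.IsFinitePresentation (R := X₀.ringCatSheaf) F₀]
  {X Y : Scheme.{u}} (f : X ⟶ Y) (g : Y ⟶ c.pt) (qY : Y ⟶ Y₀) (qX : X ⟶ X₀)

include hc in
/-- flatness at a point of the limit iff flatness at the image point at some stage -/
theorem isFlatOverAt_iff_exists_stage
    (hY : IsPullback qY g g₀ (c.π.app i₀)) (hX : IsPullback qX f f₀ qY) (x : X) :
    FlatMod.IsFlatOverAt f ((Scheme.Modules.pullback qX).obj F₀) x ↔
      ∃ (i : I) (φ : i ⟶ i₀) (Xi Yi : Scheme.{u}) (fi : Xi ⟶ Yi) (gi : Yi ⟶ D.obj i)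
        (pY : Yi ⟶ Y₀) (pX : Xi ⟶ X₀) (vY : Y ⟶ Yi) (vX : X ⟶ Xi),
        IsPullback pY gi g₀ (D.map φ) ∧ IsPullback pX fi f₀ pY ∧
          vY ≫ pY = qY ∧ vY ≫ gi = g ≫ c.π.app i ∧ vX ≫ pX = qX ∧ vX ≫ fi = f ≫ vY ∧
          FlatMod.IsFlatOverAt fi ((Scheme.Modules.pullback pX).obj F₀) (vX x) := by
  obtain ⟨Z, hZ⟩ := HasZeroObject.zero (C := X₀.Modules)
  haveI : Z.IsQuasicoherent := Groth.Agent.Helper13.QCohFin.isQuasicoherent_of_isZero hZ
  haveI : SheafOfModules.IsFinitePresentation (R := X₀.ringCatSheaf) Z :=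
    isFinitePresentation_of_isZero hZ
  let h₀ : Z ⟶ F₀ := 0
  constructor
  · intro hx
    have hx' : IFC f ((Scheme.Modules.pullback qX).map h₀) x :=
      (IFC_iff_of_isZero f _ (isZero_pullback_obj qX hZ) x).mpr hx
    obtain ⟨i, φ, Xi, Yi, fi, gi, pY, pX, vY, vX, hYi, hXi, e1, e2, e3, e4, hIFC⟩ :=
      exists_stage_data D c hc i₀ f₀ g₀ Z F₀ h₀ f g qY qX hY hX x hx'
    exact ⟨i, φ, Xi, Yi, fi, gi, pY, pX, vY, vX, hYi, hXi, e1, e2, e3, e4,
      (IFC_iff_of_isZero fi _ (isZero_pullback_obj pX hZ) (vX x)).mp hIFC⟩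
  · rintro ⟨i, φ, Xi, Yi, fi, gi, pY, pX, vY, vX, hYi, hXi, e1, e2, e3, e4, hfl⟩
    have := of_stage D c f₀ Z F₀ h₀ f qY qX hX x fi pY pX vY vX hXi e1 e3 e4
      ((IFC_iff_of_isZero fi _ (isZero_pullback_obj pX hZ) (vX x)).mpr hfl)
    exact (IFC_iff_of_isZero f _ (isZero_pullback_obj qX hZ) x).mp this

end Main

end Groth.Agent.Helper7.IFCZero
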