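import Mathlib
import Groth.Agent.Lib.Helper7.IFCZero
import Groth.Agent.Lib.Helper5.BCF4

/-!
# Global flatness over a cofiltered limit descends to a stage (helper7)
-/

set_option autoImplicit false
set_option linter.style.haveILetI false
set_option linter.unusedSectionVars false
set_option maxRecDepth 8000

open CategoryTheory AlgebraicGeometry Limits Opposite TopologicalSpace TensorProduct Function

universe u

namespace Groth.Agent.Helper7.LimFlatGlobal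

open Groth.Agent.Helper13.QCoh Groth.Agent.Helper7.LimBC Groth.Agent.Helper7.LimIFC
  Groth.Agent.Helper7.IFCBC Groth.Agent.Helper7.PropIso Groth.Agent.Helper7.IFCZero
  Groth.Agent.Helper4.LimSm

variable {I : Type u} [SmallCategory I] [IsCofiltered I]
  (D : I ⥤ Scheme.{u}) (c : Cone D) (hc : IsLimit c)
  [∀ (i j : I) (φ : i ⟶ j), IsAffineHom (D.map φ)] (i₀ : I)
  {X₀ Y₀ : Scheme.{u}} (f₀ : X₀ ⟶ Y₀) (g₀ : Y₀ ⟶ D.obj i₀)
  (F₀ : X₀.Modules)
  {X Y : Scheme.{u}} (f : X ⟶ Y) (g : Y ⟶ c.pt) (qY : Y ⟶ Y₀) (qX : X ⟶ X₀)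

omit [IsCofiltered I] [∀ (i j : I) (φ : i ⟶ j), IsAffineHom (D.map φ)] in
/-- the easy direction -/
theorem of_stage (hY : IsPullback qY g g₀ (c.π.app i₀)) (hX : IsPullback qX f f₀ qY)
    {i : I} (φ : i ⟶ i₀) {Xi Yi : Scheme.{u}} (fi : Xi ⟶ Yi) (gi : Yi ⟶ D.obj i)
    (pY : Yi ⟶ Y₀) (pX : Xi ⟶ X₀)
    (hYi : IsPullback pY gi g₀ (D.map φ)) (hXi : IsPullback pX fi f₀ pY)
    (hfl : FlatMod.IsFlatOver fi ((Scheme.Modules.pullback pX).obj F₀)) :
    FlatMod.IsFlatOver f ((Scheme.Modules.pullback qX).obj F₀) := by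
  intro x
  let vY : Y ⟶ Yi := hYi.lift qY (g ≫ c.π.app i) (by rw [hY.w, Category.assoc, c.w])
  have e1 : vY ≫ pY = qY := hYi.lift_fst _ _ _
  let vX : X ⟶ Xi := hXi.lift qX (f ≫ vY) (by rw [hX.w, Category.assoc, e1])
  have e3 : vX ≫ pX = qX := hXi.lift_fst _ _ _
  have e4 : vX ≫ fi = f ≫ vY := hXi.lift_snd _ _ _
  have H' : IsPullback vX f fi vY := IsPullback.of_right (by rw [e3, e1]; exact hX) e4 hXi
  have h1 := Groth.Agent.Helper5.BCF.isFlatOverAt_pullback H'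
    ((Scheme.Modules.pullback pX).obj F₀) x (hfl (vX x))
  exact (isFlatOverAt_pullback_comp_iff f vX pX qX e3 F₀ x).mp h1

include hc in
set_option maxHeartbeats 6400000 in
/-- the hard direction -/
theorem exists_stage_data [CompactSpace (D.obj i₀)] [LocallyOfFinitePresentation f₀]
    [QuasiCompact (f₀ ≫ g₀)] [F₀.IsQuasicoherent]
    [SheafOfModules.IsFinitePresentation (R := X₀.ringCatSheaf) F₀]
    (hY : IsPullback qY g g₀ (c.π.app i₀)) (hX : IsPullback qX f f₀ qY)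
    (hfl : FlatMod.IsFlatOver f ((Scheme.Modules.pullback qX).obj F₀)) :
    ∃ (i : I) (φ : i ⟶ i₀) (Xi Yi : Scheme.{u}) (fi : Xi ⟶ Yi) (gi : Yi ⟶ D.obj i)
      (pY : Yi ⟶ Y₀) (pX : Xi ⟶ X₀),
      IsPullback pY gi g₀ (D.map φ) ∧ IsPullback pX fi f₀ pY ∧
        FlatMod.IsFlatOver fi ((Scheme.Modules.pullback pX).obj F₀) := by
  classical
  obtain ⟨Z, hZ⟩ := HasZeroObject.zero (C := X₀.Modules)
  haveI : Z.IsQuasicoherent := Groth.Agent.Helper13.QCohFin.isQuasicoherent_of_isZero hZ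
  haveI : SheafOfModules.IsFinitePresentation (R := X₀.ringCatSheaf) Z :=
    isFinitePresentation_of_isZero hZ
  let h₀ : Z ⟶ F₀ := 0
  let E := pbDiagram D i₀ g₀
  let cE := pbCone D c i₀ g₀
  have hcE : IsLimit cE := isLimitPbCone D c hc i₀ g₀
  let k₀ : Over i₀ := Over.mk (𝟙 i₀)
  let sY₀ : E.obj k₀ ⟶ Y₀ := pullback.snd (D.map k₀.hom) g₀
  haveI : IsIso (D.map k₀.hom) := by
    change IsIso (D.map (𝟙 i₀))
    rw [D.map_id]
    infer_instance
  haveI : IsIso sY₀ := pullback_snd_iso_of_left_iso _ _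
  let f₀' : X₀ ⟶ E.obj k₀ := f₀ ≫ inv sY₀
  haveI : LocallyOfFinitePresentation f₀' := inferInstance
  let eY : Y ≅ cE.pt := hY.flip.isoPullback
  have eY_snd : eY.hom ≫ pullback.snd (c.π.app i₀) g₀ = qY := hY.flip.isoPullback_hom_snd
  have hπk₀ : cE.π.app k₀ ≫ sY₀ = pullback.snd (c.π.app i₀) g₀ := pullback.lift_snd _ _ _
  have HX' : IsPullback (f ≫ eY.hom) qX (cE.π.app k₀) f₀' := by
    refine IsPullback.of_iso hX.flip (Iso.refl X) eY (Iso.refl X₀) (asIso sY₀).symm ?_ ?_ ?_ ?_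
    · simp
    · simp
    · rw [Iso.symm_hom, asIso_inv, IsIso.comp_inv_eq, Category.assoc, hπk₀, eY_snd]
    · simp [f₀']
  let eX : X ≅ pullback (cE.π.app k₀) f₀' := HX'.isoPullback
  have eX_fst : eX.hom ≫ pullback.fst (cE.π.app k₀) f₀' = f ≫ eY.hom := HX'.isoPullback_hom_fst
  have eX_snd : eX.hom ≫ pullback.snd (cE.π.app k₀) f₀' = qX := HX'.isoPullback_hom_snd
  have Hiso : IsPullback eX.inv (pullback.fst (cE.π.app k₀) f₀') f eY.inv :=
    IsPullback.of_horiz_isIso ⟨by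
      rw [Iso.inv_comp_eq, ← Category.assoc, eX_fst, Category.assoc, Iso.hom_inv_id,
        Category.comp_id]⟩
  have hall : ∀ xinf : ↥(pullback (cE.π.app k₀) f₀'), IFC (pullback.fst (cE.π.app k₀) f₀')
      ((Scheme.Modules.pullback (pullback.snd (cE.π.app k₀) f₀')).map h₀) xinf := by
    intro xinf
    have hx1 : IFC f ((Scheme.Modules.pullback qX).map h₀) (eX.inv xinf) :=
      (IFC_iff_of_isZero f _ (isZero_pullback_obj qX hZ) _).mpr (hfl _)
    have hx2 := IFC_pullback Hiso ((Scheme.Modules.pullback qX).map h₀) xinf hx1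
    exact (prop_pullback_comp_iff _ eX.inv qX _ (by rw [Iso.inv_comp_eq, eX_snd]) h₀ xinf).mp hx2
  haveI : CompactSpace X₀ := QuasiCompact.compactSpace_of_compactSpace (f₀ ≫ g₀)
  have hloc : ∀ x₀ : X₀, ∃ (U : X₀.Opens) (W : (E.obj k₀).Opens), IsAffineOpen U ∧
      IsAffineOpen W ∧ x₀ ∈ U ∧ U ≤ f₀' ⁻¹ᵁ W := by
    intro x₀
    obtain ⟨W, hW, hfx, -⟩ := Opens.isBasis_iff_nbhd.mp (E.obj k₀).isBasis_affineOpens
      (Opens.mem_top (f₀' x₀))
    obtain ⟨U, hU, hxU, eUW⟩ := Opens.isBasis_iff_nbhd.mp X₀.isBasis_affineOpens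
      (show x₀ ∈ f₀' ⁻¹ᵁ W from hfx)
    exact ⟨U, W, hU, hW, hxU, eUW⟩
  choose U W hU hW hxU hUW using hloc
  obtain ⟨t, ht⟩ := CompactSpace.elim_nhds_subcover (fun x₀ => (U x₀ : Set X₀))
    (fun x₀ => (U x₀).2.mem_nhds (hxU x₀))
  let F := pbDiagram E k₀ f₀'
  let cF := pbCone E cE k₀ f₀'
  let j₀ : Over k₀ := Over.mk (𝟙 k₀)
  let s₀ : F.obj j₀ ⟶ X₀ := pullback.snd (E.map j₀.hom) f₀'
  have hid1 : E.map j₀.hom = 𝟙 _ := E.map_id k₀
  haveI : IsIso (E.map j₀.hom) := by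
    rw [hid1]
    infer_instance
  haveI : IsIso s₀ := pullback_snd_iso_of_left_iso _ _
  have hfst : pullback.fst (E.map j₀.hom) f₀' = s₀ ≫ f₀' :=
    ((congrArg (pullback.fst (E.map j₀.hom) f₀' ≫ ·) hid1).trans (Category.comp_id _)).symm.trans
      pullback.condition
  have hML : ∀ x₀ : X₀, ∃ (j' : Over k₀) (φ' : j' ⟶ j₀),
      ∀ x' ∈ F.map φ' ⁻¹ᵁ (s₀ ⁻¹ᵁ U x₀), IFC (pullback.fst (E.map j'.hom) f₀')
        ((Scheme.Modules.pullback (pullback.snd (E.map j'.hom) f₀')).map h₀) x' := by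
    intro x₀
    refine exists_stage_chart E cE hcE k₀ f₀' Z F₀ h₀ j₀ (s₀ ⁻¹ᵁ U x₀)
      ((hU x₀).preimage_of_isIso s₀) (W x₀) (hW x₀) ?_ (fun x _ => hall x)
    intro y hy
    change (pullback.fst (E.map j₀.hom) f₀') y ∈ W x₀
    rw [hfst]
    exact hUW x₀ hy
  choose j' φ' hj' using hML
  obtain ⟨j, ψ⟩ : ∃ j : Over k₀, ∀ x₀ ∈ t, Nonempty (j ⟶ j' x₀) := by
    obtain ⟨j, hj⟩ := IsCofiltered.inf_objs_exists (t.image j')
    exact ⟨j, fun x₀ hx₀ => hj (Finset.mem_image_of_mem _ hx₀)⟩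
  have hflj : FlatMod.IsFlatOver (pullback.fst (E.map j.hom) f₀')
      ((Scheme.Modules.pullback (pullback.snd (E.map j.hom) f₀')).obj F₀) := by
    intro x'
    have hmemU : (pullback.snd (E.map j.hom) f₀') x' ∈ ⋃ x₀ ∈ t, (U x₀ : Set X₀) := by
      rw [ht]
      trivial
    obtain ⟨x₀, hx₀t, hx₀U⟩ := Set.mem_iUnion₂.mp hmemU
    obtain ⟨ψ₀⟩ := ψ x₀ hx₀t
    have hmem : F.map ψ₀ x' ∈ F.map (φ' x₀) ⁻¹ᵁ (s₀ ⁻¹ᵁ U x₀) := by
      change s₀ (F.map (φ' x₀) (F.map ψ₀ x')) ∈ U x₀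
      rw [← Scheme.Hom.comp_apply, ← Scheme.Hom.comp_apply]
      have h1 : F.map (φ' x₀) ≫ s₀ = pullback.snd (E.map (j' x₀).hom) f₀' :=
        pullback.lift_snd _ _ _
      have h2 : F.map ψ₀ ≫ pullback.snd (E.map (j' x₀).hom) f₀' =
          pullback.snd (E.map j.hom) f₀' := pullback.lift_snd _ _ _
      have h3 : F.map ψ₀ ≫ F.map (φ' x₀) ≫ s₀ = pullback.snd (E.map j.hom) f₀' := by
        rw [h1, h2]
      rw [h3]
      exact hx₀U
    have h3 := hj' x₀ (F.map ψ₀ x') hmem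
    have iA : SheafOfModules.IsQuasicoherent (R := (F.obj (j' x₀)).ringCatSheaf)
        ((Scheme.Modules.pullback (pullback.snd (E.map (j' x₀).hom) f₀')).obj Z) :=
      Groth.Agent.Helper13.Pullback.isQuasicoherent_pullback _ Z
    have iB : SheafOfModules.IsQuasicoherent (R := (F.obj (j' x₀)).ringCatSheaf)
        ((Scheme.Modules.pullback (pullback.snd (E.map (j' x₀).hom) f₀')).obj F₀) :=
      Groth.Agent.Helper13.Pullback.isQuasicoherent_pullback _ F₀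
    have h4 := @IFC_pullback _ _ _ _ _ _ _ _ (isPullback_map E k₀ f₀' ψ₀) _ _ iA iB
      ((Scheme.Modules.pullback (pullback.snd (E.map (j' x₀).hom) f₀')).map h₀) x' h3
    have h5 := (prop_pullback_comp_iff (pullback.fst (E.map j.hom) f₀') (F.map ψ₀)
      (pullback.snd (E.map (j' x₀).hom) f₀') (pullback.snd (E.map j.hom) f₀')
      (pullback.lift_snd _ _ _) h₀ x').mp h4
    exact (IFC_iff_of_isZero _ _ (isZero_pullback_obj _ hZ) x').mp h5
  refine ⟨j.left.left, j.left.hom, pullback (E.map j.hom) f₀', E.obj j.left,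
    pullback.fst (E.map j.hom) f₀', pullback.fst (D.map j.left.hom) g₀,
    pullback.snd (D.map j.left.hom) g₀, pullback.snd (E.map j.hom) f₀', ?_, ?_, hflj⟩
  · exact (IsPullback.of_hasPullback _ _).flip
  · refine IsPullback.of_iso (IsPullback.of_hasPullback (E.map j.hom) f₀').flip (Iso.refl _)
      (Iso.refl _) (Iso.refl _) (asIso sY₀) (by simp) (by simp) (by simp [f₀']) ?_
    rw [Iso.refl_hom, Category.id_comp, asIso_hom]
    exact pullback.lift_snd _ _ _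

end Groth.Agent.Helper7.LimFlatGlobal
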