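import Mathlib
import Groth.Agent.Lib.Helper7.LimFlatGlobal
import Groth.Agent.Lib.Helper14.FlatDescG
import Groth.Agent.Lib.Helper14.FlatDescI

/-!
# The flattening functor `F_flat` is limit preserving (helper7)
-/

set_option autoImplicit false
set_option linter.style.haveILetI false
set_option linter.unusedSectionVars false
set_option maxRecDepth 8000

open CategoryTheory AlgebraicGeometry Limits Opposite TopologicalSpace TensorProduct Function

universe u

namespace Groth.Agent.Helper7.FlatFunLim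

open Groth.Agent.Helper14.FlatDesc Groth.Agent.Helper7.PropIso

variable {X S : Scheme.{u}} (f : X ⟶ S) [QuasiCompact f] [LocallyOfFinitePresentation f]
  (F : X.Modules) [F.IsQuasicoherent]
  [SheafOfModules.IsFinitePresentation (R := X.ringCatSheaf) F]

set_option maxHeartbeats 3200000 in
theorem exists_stage_flat {I : Type u} [SmallCategory I] [IsCofiltered I] (D : I ⥤ Over S)
    (c : Cone D) (hc : IsLimit ((Over.forget S).mapCone c)) (hD : ∀ i, IsAffine (D.obj i).left)
    (hQ : FlatMod.IsFlatOver (PicF.XTproj f c.pt) (FGA.ET f F c.pt)) :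
    ∃ i, FlatMod.IsFlatOver (PicF.XTproj f (D.obj i)) (FGA.ET f F (D.obj i)) := by
  let i₀ : I := (IsCofiltered.nonempty (C := I)).some
  let D' : I ⥤ Scheme.{u} := D ⋙ Over.forget S
  let c' : Cone D' := (Over.forget S).mapCone c
  haveI hDaff : ∀ i, IsAffine (D'.obj i) := hD
  haveI : ∀ (i j : I) (φ : i ⟶ j), IsAffineHom (D'.map φ) := fun i j φ => inferInstance
  haveI : CompactSpace (D'.obj i₀) := inferInstance
  let T₀ := D.obj i₀
  let f₀ : pullback f T₀.hom ⟶ T₀.left := pullback.snd f T₀.hom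
  let F₀ : (pullback f T₀.hom).Modules := FGA.ET f F T₀
  haveI : LocallyOfFinitePresentation f₀ :=
    MorphismProperty.pullback_snd (P := @LocallyOfFinitePresentation) _ _ inferInstance
  haveI : QuasiCompact f₀ := MorphismProperty.pullback_snd (P := @QuasiCompact) _ _ inferInstance
  haveI : QuasiCompact (f₀ ≫ 𝟙 T₀.left) := by
    rw [Category.comp_id]
    infer_instance
  haveI : SheafOfModules.IsFinitePresentation (R := (pullback f T₀.hom).ringCatSheaf) F₀ :=
    Groth.Agent.Helper9.PrinPart4.isFinitePresentation_pullback _ F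
  have hY : IsPullback (c.π.app i₀).left (𝟙 c.pt.left) (𝟙 T₀.left) (c'.π.app i₀) :=
    @IsPullback.of_vert_isIso _ _ _ _ _ _ _ _ _ _ (IsIso.id _) (IsIso.id _)
      ⟨(Category.comp_id _).trans (Category.id_comp _).symm⟩
  have hX : IsPullback (bc f (c.π.app i₀)) (pullback.snd f c.pt.hom) f₀ (c.π.app i₀).left :=
    isPullback_bc f (c.π.app i₀)
  have hfl : FlatMod.IsFlatOver (pullback.snd f c.pt.hom)
      ((Scheme.Modules.pullback (bc f (c.π.app i₀))).obj F₀) := by
    intro x
    exact (isFlatOverAt_pullback_comp_iff (pullback.snd f c.pt.hom) (bc f (c.π.app i₀))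
      (pullback.fst f T₀.hom) (pullback.fst f c.pt.hom) (bc_fst f (c.π.app i₀)) F x).mpr (hQ x)
  obtain ⟨i, φ, Xi, Yi, fi, gi, pY, pX, hYi, hXi, hfli⟩ :=
    Groth.Agent.Helper7.LimFlatGlobal.exists_stage_data D' c' hc i₀ f₀ (𝟙 T₀.left) F₀
      (pullback.snd f c.pt.hom) (𝟙 c.pt.left) (c.π.app i₀).left (bc f (c.π.app i₀)) hY hX hfl
  refine ⟨i, fun x => ?_⟩
  let e : (D.obj i).left ⟶ Yi := hYi.lift (D.map φ).left (𝟙 _) (by simp [D'])
  have he : e ≫ pY = (D.map φ).left := hYi.lift_fst _ _ _
  let vX : pullback f (D.obj i).hom ⟶ Xi :=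
    hXi.lift (bc f (D.map φ)) (pullback.snd f (D.obj i).hom ≫ e) (by
      rw [Category.assoc, he]
      exact bc_snd f (D.map φ))
  have e3 : vX ≫ pX = bc f (D.map φ) := hXi.lift_fst _ _ _
  have e4 : vX ≫ fi = pullback.snd f (D.obj i).hom ≫ e := hXi.lift_snd _ _ _
  have H' : IsPullback vX (pullback.snd f (D.obj i).hom) fi e :=
    IsPullback.of_right (by rw [e3, he]; exact isPullback_bc f (D.map φ)) e4 hXi
  have h1 := Groth.Agent.Helper5.BCF.isFlatOverAt_pullback H'
    ((Scheme.Modules.pullback pX).obj F₀) x (hfli (vX x))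
  have h2 := (isFlatOverAt_pullback_comp_iff (pullback.snd f (D.obj i).hom) vX pX
    (bc f (D.map φ)) e3 F₀ x).mp h1
  exact (isFlatOverAt_pullback_comp_iff (pullback.snd f (D.obj i).hom) (bc f (D.map φ))
    (pullback.fst f T₀.hom) (pullback.fst f (D.obj i).hom) (bc_fst f (D.map φ)) F x).mp h2

theorem isLimitPreserving_flat :
    AlgSp.IsLimitPreserving
      (FlatFun.genPSp S (fun T => FlatMod.IsFlatOver (PicF.XTproj f T) (FGA.ET f F T))) := by
  apply isLimitPreserving_genPSp
  · intro T T₀ k hk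
    exact isFlatOver_stable f F k hk
  · intro I _ _ D c hc hD hT hQ
    exact exists_stage_flat f F D c hc hD hQ

end Groth.Agent.Helper7.FlatFunLim
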