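import Mathlib
import Groth.Agent.Lib.Helper1.LocalCriterion
import Groth.Agent.S4853
import Groth.Agent.Lib.Helper22.Chev

namespace Groth.Agent.Helper7.Flattening

open TensorProduct Function

set_option linter.style.haveILetI false

section Mono

variable {R : Type*} [CommRing R]

/-- base change of flatness between quotient rings, along any `R`-algebra map. -/
theorem flat_of_algHom {C C' : Type*} [CommRing C] [CommRing C'] [Algebra R C] [Algebra R C']
    (ψ : C →ₐ[R] C') (X : Type*) [AddCommGroup X] [Module R X]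
    [Module.Flat C (C ⊗[R] X)] : Module.Flat C' (C' ⊗[R] X) := by
  letI : Algebra C C' := ψ.toRingHom.toAlgebra
  haveI : IsScalarTower R C C' := IsScalarTower.of_algebraMap_eq (fun r => (ψ.commutes r).symm)
  have h0 : Module.Flat C' (C' ⊗[C] (C ⊗[R] X)) := inferInstance
  exact Module.Flat.of_linearEquiv (AlgebraTensorModule.cancelBaseChange R C C' C' X).symm

theorem flat_quot_mono {J J' : Ideal R} (h : J ≤ J') (X : Type*) [AddCommGroup X] [Module R X]
    [Module.Flat (R ⧸ J) ((R ⧸ J) ⊗[R] X)] : Module.Flat (R ⧸ J') ((R ⧸ J') ⊗[R] X) :=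
  flat_of_algHom (Ideal.Quotient.factorₐ R h) X

end Mono

section LemmaE

universe u

variable {R S N : Type u} [CommRing R] [IsNoetherianRing R] [CommRing S] [IsNoetherianRing S]
  [Algebra R S] [AddCommGroup N] [Module R N] [Module S N] [IsScalarTower R S N]
  [Module.Finite S N]

attribute [local instance] Algebra.TensorProduct.rightAlgebra

set_option maxHeartbeats 1000000 in
/-- relative form of the local criterion (5) ⇒ (1). -/
theorem flat_quot_of_flat_quot_sup_pow (I J : Ideal R)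
    (hJ : J.map (algebraMap R S) ≤ Ideal.jacobson ⊥)
    (h : ∀ n, 0 < n → Module.Flat (R ⧸ (I ⊔ J ^ n)) ((R ⧸ (I ⊔ J ^ n)) ⊗[R] N)) :
    Module.Flat (R ⧸ I) ((R ⧸ I) ⊗[R] N) := by
  have hsurj : Surjective (Algebra.TensorProduct.includeLeft : S →ₐ[S] S ⊗[R] (R ⧸ I)) :=
    Algebra.TensorProduct.includeLeft_surjective S S Ideal.Quotient.mk_surjective
  haveI : IsNoetherianRing (S ⊗[R] (R ⧸ I)) :=
    isNoetherianRing_of_surjective S (S ⊗[R] (R ⧸ I)) _ hsurj
  let e : (S ⊗[R] (R ⧸ I)) ⊗[S] N ≃ₗ[R ⧸ I] (R ⧸ I) ⊗[R] N :=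
    Algebra.IsPushout.cancelBaseChange R (R ⧸ I) S (S ⊗[R] (R ⧸ I)) N
  suffices Module.Flat (R ⧸ I) ((S ⊗[R] (R ⧸ I)) ⊗[S] N) from Module.Flat.of_linearEquiv e.symm
  refine Helper1.flat_of_flat_quotient_pow (R := R ⧸ I) (S := S ⊗[R] (R ⧸ I))
    (M := (S ⊗[R] (R ⧸ I)) ⊗[S] N) (J.map (Ideal.Quotient.mk I)) ?_ ?_
  · rw [Ideal.map_map, Ideal.map_le_iff_le_comap]
    intro j hj
    rw [Ideal.mem_comap]
    have h1 : ((algebraMap (R ⧸ I) (S ⊗[R] (R ⧸ I))).comp (Ideal.Quotient.mk I)) j =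
        (Algebra.TensorProduct.includeLeft : S →ₐ[S] S ⊗[R] (R ⧸ I)) (algebraMap R S j) := by
      simp only [RingHom.comp_apply, Algebra.TensorProduct.right_algebraMap_apply,
        Algebra.TensorProduct.includeLeft_apply]
      rw [Algebra.algebraMap_eq_smul_one, TensorProduct.smul_tmul, Algebra.smul_def, mul_one]
      rfl
    rw [h1, Ideal.mem_jacobson_bot]
    intro y
    obtain ⟨t, rfl⟩ := hsurj y
    have h2 : algebraMap R S j ∈ Ideal.jacobson (⊥ : Ideal S) := hJ (Ideal.mem_map_of_mem _ hj)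
    rw [Ideal.mem_jacobson_bot] at h2
    have := (h2 t).map (Algebra.TensorProduct.includeLeft : S →ₐ[S] S ⊗[R] (R ⧸ I))
    rw [map_add, map_mul, map_one] at this
    exact this
  · intro n hn
    haveI := h n hn
    let ψ : (R ⧸ (I ⊔ J ^ n)) →ₐ[R]
        ((R ⧸ I) ⧸ (J.map (Ideal.Quotient.mk I)) ^ n) :=
      Ideal.Quotient.liftₐ (I ⊔ J ^ n) (Algebra.ofId R _) (by
        intro a ha
        change algebraMap R ((R ⧸ I) ⧸ (J.map (Ideal.Quotient.mk I)) ^ n) a = 0
        rw [IsScalarTower.algebraMap_apply R (R ⧸ I), Ideal.Quotient.algebraMap_eq,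
          Ideal.Quotient.algebraMap_eq, Ideal.Quotient.eq_zero_iff_mem, ← Ideal.map_pow]
        obtain ⟨x, hx, y, hy, rfl⟩ := Submodule.mem_sup.mp ha
        rw [map_add, Ideal.Quotient.eq_zero_iff_mem.mpr hx, zero_add]
        exact Ideal.mem_map_of_mem _ hy)
    haveI h1 : Module.Flat ((R ⧸ I) ⧸ (J.map (Ideal.Quotient.mk I)) ^ n)
        (((R ⧸ I) ⧸ (J.map (Ideal.Quotient.mk I)) ^ n) ⊗[R] N) := flat_of_algHom ψ N
    exact Module.Flat.of_linearEquiv
      ((AlgebraTensorModule.congr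
          (LinearEquiv.refl ((R ⧸ I) ⧸ (J.map (Ideal.Quotient.mk I)) ^ n) _) e) ≪≫ₗ
        (AlgebraTensorModule.cancelBaseChange R (R ⧸ I)
          ((R ⧸ I) ⧸ (J.map (Ideal.Quotient.mk I)) ^ n)
          ((R ⧸ I) ⧸ (J.map (Ideal.Quotient.mk I)) ^ n) N))

end LemmaE

section Artinian

universe u

variable (R : Type u) [CommRing R] (m : Ideal R) [hm : m.IsMaximal]

theorem exists_least_flat_quot (n : ℕ) {Q : Type u} (X : Q → Type u) [∀ q, AddCommGroup (X q)]
    [∀ q, Module R (X q)] :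
    ∃ K : Ideal R, m ^ (n + 1) ≤ K ∧ (∀ q, Module.Flat (R ⧸ K) ((R ⧸ K) ⊗[R] X q)) ∧
      ∀ J : Ideal R, m ^ (n + 1) ≤ J → (∀ q, Module.Flat (R ⧸ J) ((R ⧸ J) ⊗[R] X q)) → K ≤ J := by
  classical
  set 𝔞 : Ideal R := m ^ (n + 1) with h𝔞
  let J₀ : Ideal (R ⧸ 𝔞) := m.map (Ideal.Quotient.mk 𝔞)
  have hJ₀ : IsNilpotent J₀ := by
    refine ⟨n + 1, ?_⟩
    rw [← Ideal.map_pow, Ideal.zero_eq_bot, Ideal.map_quotient_self]
  haveI hmax : J₀.IsMaximal :=
    Ideal.IsMaximal.map_of_surjective_of_ker_le Ideal.Quotient.mk_surjective (by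
      rw [Ideal.mk_ker]
      exact Ideal.pow_le_self (Nat.succ_ne_zero n))
  letI : Field ((R ⧸ 𝔞) ⧸ J₀) := Ideal.Quotient.field J₀
  have key := fun q => Groth.Agent.S4853.result (A := R ⧸ 𝔞) ((R ⧸ 𝔞) ⊗[R] X q) J₀ hJ₀
    (Module.Free.of_divisionRing _ _)
  choose R₀ hR₀ using key
  have hker : ∀ a ∈ 𝔞, Ideal.Quotient.mk 𝔞 a = 0 := fun a ha => Ideal.Quotient.eq_zero_iff_mem.mpr ha
  have h𝔞K : 𝔞 ≤ (⨆ q, R₀ q).comap (Ideal.Quotient.mk 𝔞) := by
    intro a ha
    rw [Ideal.mem_comap, hker a ha]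
    exact Ideal.zero_mem _
  refine ⟨(⨆ q, R₀ q).comap (Ideal.Quotient.mk 𝔞), h𝔞K, ?_, ?_⟩
  · intro q
    letI : Algebra (R ⧸ 𝔞) (R ⧸ (⨆ q, R₀ q).comap (Ideal.Quotient.mk 𝔞)) :=
      (Ideal.Quotient.factor h𝔞K).toAlgebra
    haveI : IsScalarTower R (R ⧸ 𝔞) (R ⧸ (⨆ q, R₀ q).comap (Ideal.Quotient.mk 𝔞)) :=
      IsScalarTower.of_algebraMap_eq (fun r => rfl)
    have h1 : Ideal.map (algebraMap (R ⧸ 𝔞) (R ⧸ (⨆ q, R₀ q).comap (Ideal.Quotient.mk 𝔞)))
        (R₀ q) = ⊥ := by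
      rw [eq_bot_iff, Ideal.map_le_iff_le_comap]
      intro x hx
      obtain ⟨r, rfl⟩ := Ideal.Quotient.mk_surjective x
      rw [Ideal.mem_comap, Ideal.mem_bot]
      change Ideal.Quotient.factor h𝔞K (Ideal.Quotient.mk 𝔞 r) = 0
      rw [Ideal.Quotient.factor_mk, Ideal.Quotient.eq_zero_iff_mem, Ideal.mem_comap]
      exact (le_iSup R₀ q) hx
    haveI h2 := ((hR₀ q).2.2 (R ⧸ (⨆ q, R₀ q).comap (Ideal.Quotient.mk 𝔞))).2.mpr h1
    exact Module.Flat.of_linearEquiv (AlgebraTensorModule.cancelBaseChange R (R ⧸ 𝔞)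
      (R ⧸ (⨆ q, R₀ q).comap (Ideal.Quotient.mk 𝔞))
      (R ⧸ (⨆ q, R₀ q).comap (Ideal.Quotient.mk 𝔞)) (X q)).symm
  · intro J hJ hflat
    letI : Algebra (R ⧸ 𝔞) (R ⧸ J) := (Ideal.Quotient.factor hJ).toAlgebra
    haveI : IsScalarTower R (R ⧸ 𝔞) (R ⧸ J) := IsScalarTower.of_algebraMap_eq (fun r => rfl)
    have h1 : ∀ q, Ideal.map (algebraMap (R ⧸ 𝔞) (R ⧸ J)) (R₀ q) = ⊥ := by
      intro q
      haveI := hflat q
      have : Module.Flat (R ⧸ J) ((R ⧸ J) ⊗[R ⧸ 𝔞] ((R ⧸ 𝔞) ⊗[R] X q)) :=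
        Module.Flat.of_linearEquiv
          (AlgebraTensorModule.cancelBaseChange R (R ⧸ 𝔞) (R ⧸ J) (R ⧸ J) (X q))
      exact ((hR₀ q).2.2 (R ⧸ J)).2.mp this
    intro r hr
    rw [Ideal.mem_comap] at hr
    have h2 : (⨆ q, R₀ q) ≤ RingHom.ker (algebraMap (R ⧸ 𝔞) (R ⧸ J)) := by
      apply iSup_le
      intro q
      rw [← Ideal.map_eq_bot_iff_le_ker]
      exact h1 q
    have h3 := h2 hr
    rw [RingHom.mem_ker] at h3
    change Ideal.Quotient.factor hJ (Ideal.Quotient.mk 𝔞 r) = 0 at h3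
    rw [Ideal.Quotient.factor_mk, Ideal.Quotient.eq_zero_iff_mem] at h3
    exact h3

end Artinian

section Krull

theorem mem_of_forall_mem_sup_pow {R : Type*} [CommRing R] [IsLocalRing R] [IsNoetherianRing R]
    (K : Ideal R) (x : R) (hx : ∀ N : ℕ, x ∈ K ⊔ IsLocalRing.maximalIdeal R ^ N) : x ∈ K := by
  obtain ⟨r, hr, h⟩ := Groth.Agent.Helper22.Chev.krull_mod (A := R) (M := R)
    (IsLocalRing.maximalIdeal R) K x (fun N => by
      have := hx N
      rw [sup_comm] at this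
      rwa [smul_eq_mul, Ideal.mul_top])
  have hu : IsUnit (1 - r) := by
    have : ¬ (1 - r) ∈ IsLocalRing.maximalIdeal R := fun h1 =>
      (IsLocalRing.maximalIdeal.isMaximal R).ne_top
        ((Ideal.eq_top_iff_one _).mpr (by simpa using Ideal.add_mem _ h1 hr))
    simpa [IsLocalRing.mem_maximalIdeal] using this
  obtain ⟨u, hu⟩ := hu
  have h2 : x = (↑u⁻¹ : R) * ((1 - r) * x) := by
    rw [← mul_assoc, ← hu, Units.inv_mul, one_mul]
  rw [h2]
  apply Ideal.mul_mem_left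
  have : (1 - r) * x = x - r • x := by rw [smul_eq_mul]; ring
  rw [this]; exact h

end Krull

section Limit

variable {R : Type*} [CommRing R] [IsLocalRing R] [IsNoetherianRing R]
  [IsAdicComplete (IsLocalRing.maximalIdeal R) R]

open IsLocalRing in
theorem le_iInf_sup_pow (I : ℕ → Ideal R) (hanti : Antitone I)
    (hb : ∀ n k, n ≤ k → I n ≤ I k ⊔ maximalIdeal R ^ (n + 1)) (n : ℕ) :
    I n ≤ (⨅ k, I k) ⊔ maximalIdeal R ^ (n + 1) := by
  intro x hx
  have step : ∀ (k : ℕ) (y : I (n + k)), ∃ a : I (n + k + 1),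
      (y : R) - a ∈ maximalIdeal R ^ (n + k + 1) := by
    intro k y
    obtain ⟨a, ha, b, hb', hab⟩ := Submodule.mem_sup.mp (hb (n + k) (n + k + 1) (Nat.le_succ _) y.2)
    refine ⟨⟨a, ha⟩, ?_⟩
    rw [← hab]
    simpa using hb'
  choose next hnext using step
  let v : (k : ℕ) → I (n + k) := fun k => Nat.rec (motive := fun k => I (n + k)) ⟨x, hx⟩
    (fun k y => next k y) k
  have hv0 : (v 0 : R) = x := rfl
  have hvs : ∀ k, (v k : R) - v (k + 1) ∈ maximalIdeal R ^ (n + k + 1) := fun k => hnext k (v k)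
  have tel : ∀ a b, a ≤ b → (v a : R) - v b ∈ maximalIdeal R ^ (n + a + 1) := by
    intro a b hab
    induction b, hab using Nat.le_induction with
    | base => rw [sub_self]; exact Ideal.zero_mem _
    | succ b hab ih =>
      have h1 : (v a : R) - v (b + 1) = ((v a : R) - v b) + ((v b : R) - v (b + 1)) := by ring
      rw [h1]
      exact Ideal.add_mem _ ih (Ideal.pow_le_pow_right (by omega) (hvs b))
  obtain ⟨L, hL⟩ := IsPrecomplete.prec (I := maximalIdeal R) (M := R)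
    (IsAdicComplete.toIsPrecomplete) (f := fun k => (v k : R)) (by
      intro a b hab
      rw [SModEq.sub_mem, smul_eq_mul, Ideal.mul_top]
      exact Ideal.pow_le_pow_right (by omega) (tel a b hab))
  have hL' : ∀ k, (v k : R) - L ∈ maximalIdeal R ^ k := by
    intro k
    have := hL k
    rw [SModEq.sub_mem, smul_eq_mul, Ideal.mul_top] at this
    exact this
  have c1 : x - L ∈ maximalIdeal R ^ (n + 1) := by
    have h1 : x - L = ((v 0 : R) - v (n + 1)) + ((v (n + 1) : R) - L) := by rw [hv0]; ring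
    rw [h1]
    exact Ideal.add_mem _ (by simpa using tel 0 (n + 1) (Nat.zero_le _)) (hL' (n + 1))
  have c2 : L ∈ ⨅ k, I k := by
    rw [Ideal.mem_iInf]
    intro j
    apply mem_of_forall_mem_sup_pow
    intro N
    have h1 : L = (v (max j N) : R) - ((v (max j N) : R) - L) := by ring
    rw [h1]
    refine Ideal.sub_mem _ (Ideal.mem_sup_left ?_) (Ideal.mem_sup_right ?_)
    · exact hanti (by omega : j ≤ n + max j N) (v (max j N)).2
    · exact Ideal.pow_le_pow_right (le_max_right j N) (hL' _)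
  have h2 : x = L + (x - L) := by ring
  rw [h2]
  exact Ideal.add_mem _ (Ideal.mem_sup_left c2) (Ideal.mem_sup_right c1)

end Limit

section Main

universe u

open IsLocalRing

variable (R S : Type u) [CommRing R] [IsLocalRing R] [IsNoetherianRing R]
  [IsAdicComplete (maximalIdeal R) R] [CommRing S] [Algebra R S] [IsNoetherianRing S]
  (M : Type u) [AddCommGroup M] [Module S M] [Module R M] [IsScalarTower R S M]
  [Module.Finite S M]

set_option maxHeartbeats 1000000 in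
theorem exists_smallest_flattening_ideal :
    ∃ I : Ideal R, I ≤ maximalIdeal R ∧
      (∀ (q : Ideal S) [q.IsPrime], q.comap (algebraMap R S) = maximalIdeal R →
        Module.Flat (R ⧸ I) ((R ⧸ I) ⊗[R] LocalizedModule q.primeCompl M)) ∧
      ∀ J : Ideal R, (∀ (q : Ideal S) [q.IsPrime], q.comap (algebraMap R S) = maximalIdeal R →
        Module.Flat (R ⧸ J) ((R ⧸ J) ⊗[R] LocalizedModule q.primeCompl M)) → I ≤ J := by
  classical
  let Q := {q : Ideal S // q.IsPrime ∧ q.comap (algebraMap R S) = maximalIdeal R}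
  haveI hQ : ∀ q : Q, q.1.IsPrime := fun q => q.2.1
  let X : Q → Type u := fun q => LocalizedModule q.1.primeCompl M
  have key := fun n => exists_least_flat_quot R (maximalIdeal R) n X
  choose I hI1 hI2 hI3 using key
  have hstep : ∀ n, I (n + 1) ≤ I n := fun n =>
    hI3 (n + 1) (I n) (le_trans (Ideal.pow_le_pow_right (Nat.le_succ _)) (hI1 n)) (hI2 n)
  have hanti : Antitone I := antitone_nat_of_succ_le hstep
  have hb : ∀ n k, n ≤ k → I n ≤ I k ⊔ maximalIdeal R ^ (n + 1) := by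
    intro n k _
    refine hI3 n _ le_sup_right (fun q => ?_)
    haveI := hI2 k q
    exact flat_quot_mono (le_sup_left) (X q)
  have hd : ∀ n, (⨅ k, I k) ⊔ maximalIdeal R ^ (n + 1) = I n := by
    intro n
    apply le_antisymm
    · exact sup_le (iInf_le _ n) (hI1 n)
    · exact le_iInf_sup_pow I hanti hb n
  -- P(m)
  have hPm : ∀ q : Q, Module.Flat (R ⧸ maximalIdeal R) ((R ⧸ maximalIdeal R) ⊗[R] X q) := by
    intro q
    letI : Field (R ⧸ maximalIdeal R) := Ideal.Quotient.field _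
    infer_instance
  refine ⟨⨅ k, I k, ?_, ?_, ?_⟩
  · refine le_trans (iInf_le _ 0) ?_
    exact hI3 0 _ (by rw [zero_add, pow_one]) hPm
  · intro q hq hqm
    have hJac : (maximalIdeal R).map (algebraMap R (Localization.AtPrime q)) ≤
        Ideal.jacobson ⊥ := by
      have h1 : (maximalIdeal R).map (algebraMap R (Localization.AtPrime q)) =
          ((maximalIdeal R).map (algebraMap R S)).map (algebraMap S (Localization.AtPrime q)) := by
        rw [Ideal.map_map, ← IsScalarTower.algebraMap_eq]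
      rw [h1]
      have h2 : (maximalIdeal R).map (algebraMap R S) ≤ q := by
        rw [Ideal.map_le_iff_le_comap, hqm]
      refine (Ideal.map_mono h2).trans ?_
      rw [Localization.AtPrime.map_eq_maximalIdeal]
      exact IsLocalRing.maximalIdeal_le_jacobson _
    refine flat_quot_of_flat_quot_sup_pow (S := Localization.AtPrime q)
      (N := LocalizedModule q.primeCompl M) (⨅ k, I k) (maximalIdeal R) hJac ?_
    intro n hn
    obtain ⟨n, rfl⟩ := Nat.exists_eq_succ_of_ne_zero hn.ne'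
    rw [hd n]
    exact hI2 n ⟨q, hq, hqm⟩
  · intro J hJ
    intro x hx
    apply mem_of_forall_mem_sup_pow
    intro N
    have h1 : I N ≤ J ⊔ maximalIdeal R ^ (N + 1) := by
      refine hI3 N _ le_sup_right (fun q => ?_)
      haveI := @hJ q.1 q.2.1 q.2.2
      exact flat_quot_mono (le_sup_left) (X q)
    have h2 := h1 ((Ideal.mem_iInf.mp hx) N)
    exact (sup_le_sup_left (Ideal.pow_le_pow_right (Nat.le_succ N)) J) h2

end Main

end Groth.Agent.Helper7.Flattening
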