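import Mathlib
import Groth.Agent.Lib.Helper7.Flattening
import Groth.Agent.Lib.Helper21.FL1
import Groth.Agent.S0398

namespace Groth.Agent.Helper7.Flattening

open TensorProduct Function

set_option linter.style.haveILetI false
set_option backward.isDefEq.respectTransparency false
set_option backward.isDefEq.respectTransparency.types false

section BaseChange

universe u

variable {R₀ R S₀ S : Type u} [CommRing R₀] [CommRing R] [CommRing S₀] [CommRing S]
  [Algebra R₀ R] [Algebra R₀ S₀] [Algebra R S] [Algebra S₀ S] [Algebra R₀ S]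
  [IsScalarTower R₀ R S] [IsScalarTower R₀ S₀ S]
  {M₀ : Type u} [AddCommGroup M₀] [Module S₀ M₀] [Module R₀ M₀] [IsScalarTower R₀ S₀ M₀]
  {M : Type u} [AddCommGroup M] [Module S M] [Module R M] [IsScalarTower R S M] [Module S₀ M]
  [IsScalarTower S₀ S M]

/-- Flatness at a prime of a base change, from flatness of the base change of the localization. -/
theorem flat_localizedModule_of_isBaseChange' (f : M₀ →ₗ[S₀] M) (hf : IsBaseChange S f)
    (P : Ideal S) [P.IsPrime]
    [Module.Flat R (S ⊗[S₀] LocalizedModule (P.comap (algebraMap S₀ S)).primeCompl M₀)] :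
    Module.Flat R (LocalizedModule P.primeCompl M) := by
  let P₀ : Ideal S₀ := P.comap (algebraMap S₀ S)
  let N₀ := LocalizedModule P₀.primeCompl M₀
  let g₀ : M₀ →ₗ[S₀] N₀ := LocalizedModule.mkLinearMap P₀.primeCompl M₀
  haveI h1 : IsLocalizedModule (Algebra.algebraMapSubmonoid S P₀.primeCompl) (g₀.baseChange S) :=
    Groth.Agent.Helper21.FS.isLocalizedModule_baseChange P₀.primeCompl g₀ S
  let G : M →ₗ[S] S ⊗[S₀] N₀ := (g₀.baseChange S) ∘ₗ hf.equiv.symm.toLinearMap
  haveI h2 : IsLocalizedModule (Algebra.algebraMapSubmonoid S P₀.primeCompl) G :=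
    IsLocalizedModule.of_linearEquiv_right _ (g₀.baseChange S) hf.equiv.symm
  have hle : Algebra.algebraMapSubmonoid S P₀.primeCompl ≤ P.primeCompl := by
    rintro _ ⟨y, hy, rfl⟩
    exact fun h => hy (Ideal.mem_comap.mpr h)
  let g' : S ⊗[S₀] N₀ →ₗ[S] LocalizedModule P.primeCompl M :=
    IsLocalizedModule.liftOfLE _ P.primeCompl hle G (LocalizedModule.mkLinearMap P.primeCompl M)
  haveI : IsLocalizedModule P.primeCompl g' := inferInstance
  exact Groth.Agent.Helper21.FL.flat_of_isLocalizedModule P.primeCompl g'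

end BaseChange

section Main2
universe u
open IsLocalRing

variable {R S R' S' : Type u} [CommRing R] [IsLocalRing R] [CommRing S] [CommRing R'] [IsLocalRing R']
    [CommRing S']
    [Algebra R S] [Algebra R R'] [IsLocalHom (algebraMap R R')] [Algebra S S'] [Algebra R' S']
    [Algebra R S']
    [IsScalarTower R S S'] [IsScalarTower R R' S'] [Algebra.IsPushout R S R' S']
    {M M' : Type u} [AddCommGroup M] [Module S M] [Module R M] [IsScalarTower R S M]
    [AddCommGroup M'] [Module S' M'] [Module R' M'] [IsScalarTower R' S' M'] [Module S M']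
    [IsScalarTower S S' M']

omit [IsLocalRing R] [IsLocalRing R'] [IsLocalHom (algebraMap R R')]
  [Algebra.IsPushout R S R' S'] in
theorem comap_comap_eq (q' : Ideal S') :
    (q'.comap (algebraMap S S')).comap (algebraMap R S) =
      (q'.comap (algebraMap R' S')).comap (algebraMap R R') := by
  rw [Ideal.comap_comap, Ideal.comap_comap, ← IsScalarTower.algebraMap_eq,
    ← IsScalarTower.algebraMap_eq]

theorem flatAt_of_le_ker (f : M →ₗ[S] M') (hf : IsBaseChange S' f) (I : Ideal R)
    (hI : ∀ (q : Ideal S) [q.IsPrime], q.comap (algebraMap R S) = maximalIdeal R →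
        Module.Flat (R ⧸ I) ((R ⧸ I) ⊗[R] LocalizedModule q.primeCompl M))
    (hIk : I ≤ RingHom.ker (algebraMap R R'))
    (q' : Ideal S') [q'.IsPrime] (hq' : q'.comap (algebraMap R' S') = maximalIdeal R') :
    Module.Flat R' (LocalizedModule q'.primeCompl M') := by
  let q : Ideal S := q'.comap (algebraMap S S')
  have hq : q.comap (algebraMap R S) = maximalIdeal R := by
    rw [comap_comap_eq (R' := R'), hq']
    exact IsLocalRing.maximalIdeal_comap _
  haveI := hI q hq
  let ψ : (R ⧸ I) →ₐ[R] R' := Ideal.Quotient.liftₐ I (Algebra.ofId R R') (fun a ha => hIk ha)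
  haveI h1 : Module.Flat R' (R' ⊗[R] LocalizedModule q.primeCompl M) :=
    flat_of_algHom ψ (LocalizedModule q.primeCompl M)
  haveI : Algebra.IsPushout R R' S S' := Algebra.IsPushout.symm inferInstance
  haveI h2 : Module.Flat R' (S' ⊗[S] LocalizedModule q.primeCompl M) :=
    Module.Flat.of_linearEquiv
      (Algebra.IsPushout.cancelBaseChange R R' S S' (LocalizedModule q.primeCompl M))
  exact flat_localizedModule_of_isBaseChange' (R := R') (S₀ := S) (S := S') f hf q'

end Main2

section Step1
universe u
open IsLocalRing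

attribute [local instance] Algebra.TensorProduct.rightAlgebra

theorem flat_baseChange_of_flatAt {R' S' A : Type u} [CommRing R'] [IsLocalRing R'] [CommRing S']
    [Algebra R' S'] [CommRing A] [Algebra R' A]
    (hA : ∀ (p : Ideal A) [p.IsPrime], p.comap (algebraMap R' A) = maximalIdeal R')
    {M' : Type u} [AddCommGroup M'] [Module S' M'] [Module R' M'] [IsScalarTower R' S' M']
    (h : ∀ (q' : Ideal S') [q'.IsPrime], q'.comap (algebraMap R' S') = maximalIdeal R' →
      Module.Flat R' (LocalizedModule q'.primeCompl M')) :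
    Module.Flat A (A ⊗[R'] M') := by
  let S₂ := A ⊗[R'] S'
  let Y₀ := S₂ ⊗[S'] M'
  have key : ∀ (P : Ideal S₂) [P.IsPrime], Module.Flat A (LocalizedModule P.primeCompl Y₀) := by
    intro P _
    have hP : (P.comap (algebraMap S' S₂)).comap (algebraMap R' S') = maximalIdeal R' := by
      have : (P.comap (algebraMap S' S₂)).comap (algebraMap R' S') =
          (P.comap (algebraMap A S₂)).comap (algebraMap R' A) := by
        rw [Ideal.comap_comap, Ideal.comap_comap, ← IsScalarTower.algebraMap_eq,
          ← IsScalarTower.algebraMap_eq]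
      rw [this]
      exact hA _
    haveI := h _ hP
    exact Groth.Agent.Helper21.FL.flat_localizedModule_of_isBaseChange (R₀ := R') (R := A)
      (S₀ := S') (S := S₂)
      (TensorProduct.mk S' S₂ M' 1) (TensorProduct.isBaseChange S' M' S₂) P
  haveI : Module.Flat A Y₀ := Module.flat_of_isLocalized_maximal S₂ Y₀
      (fun P _ => LocalizedModule P.primeCompl Y₀)
      (fun P _ => LocalizedModule.mkLinearMap P.primeCompl Y₀) (fun P _ => key P)
  exact Module.Flat.of_linearEquiv (Algebra.IsPushout.cancelBaseChange R' A S' S₂ M').symm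

end Step1

section Step2
universe u
open IsLocalRing

variable {R S R' S' : Type u} [CommRing R] [CommRing S] [CommRing R']
    [CommRing S']
    [Algebra R S] [Algebra R R'] [Algebra S S'] [Algebra R' S']
    [Algebra R S']
    [IsScalarTower R S S'] [IsScalarTower R R' S'] [Algebra.IsPushout R S R' S']
    {M M' : Type u} [AddCommGroup M] [Module S M] [Module R M] [IsScalarTower R S M]
    [AddCommGroup M'] [Module S' M'] [Module R' M'] [IsScalarTower R' S' M'] [Module S M']
    [IsScalarTower S S' M']

theorem flat_baseChange_descend (f : M →ₗ[S] M') (hf : IsBaseChange S' f) (A : Type u)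
    [CommRing A] [Algebra R' A] [Algebra R A] [IsScalarTower R R' A]
    [Module.Flat A (A ⊗[R'] M')] : Module.Flat A (A ⊗[R] M) := by
  haveI : Algebra.IsPushout R R' S S' := Algebra.IsPushout.symm inferInstance
  let e1 : M' ≃ₗ[R'] R' ⊗[R] M :=
    (hf.equiv.symm.restrictScalars R') ≪≫ₗ Algebra.IsPushout.cancelBaseChange R R' S S' M
  let e2 : A ⊗[R'] M' ≃ₗ[A] A ⊗[R'] (R' ⊗[R] M) :=
    TensorProduct.AlgebraTensorModule.congr (LinearEquiv.refl A A) e1
  let e3 : A ⊗[R'] (R' ⊗[R] M) ≃ₗ[A] A ⊗[R] M := AlgebraTensorModule.cancelBaseChange R R' A A M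
  exact Module.Flat.of_linearEquiv (e2 ≪≫ₗ e3).symm

theorem flat_quot_ker_of_flat_baseChange {R A : Type u} [CommRing R] [CommRing A] [Algebra R A]
    [IsArtinianRing (R ⧸ RingHom.ker (algebraMap R A))] (X : Type u) [AddCommGroup X] [Module R X]
    [Module.Flat A (A ⊗[R] X)] :
    Module.Flat (R ⧸ RingHom.ker (algebraMap R A)) ((R ⧸ RingHom.ker (algebraMap R A)) ⊗[R] X) := by
  set K := RingHom.ker (algebraMap R A)
  letI : Algebra (R ⧸ K) A := (RingHom.kerLift (algebraMap R A)).toAlgebra
  haveI : IsScalarTower R (R ⧸ K) A := IsScalarTower.of_algebraMap_eq (fun r => rfl)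
  have hinj : Function.Injective (algebraMap (R ⧸ K) A) := RingHom.kerLift_injective _
  haveI : Module.Flat A (A ⊗[R ⧸ K] ((R ⧸ K) ⊗[R] X)) :=
    Module.Flat.of_linearEquiv (AlgebraTensorModule.cancelBaseChange R (R ⧸ K) A A X)
  exact Groth.Agent.S0398.result hinj

end Step2

section Main3
universe u
open IsLocalRing

variable {R S R' S' : Type u} [CommRing R] [IsLocalRing R] [IsNoetherianRing R] [CommRing S]
    [CommRing R'] [IsLocalRing R'] [IsNoetherianRing R']
    [CommRing S']
    [Algebra R S] [Algebra R R'] [IsLocalHom (algebraMap R R')] [Algebra S S'] [Algebra R' S']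
    [Algebra R S']
    [IsScalarTower R S S'] [IsScalarTower R R' S'] [Algebra.IsPushout R S R' S']
    {M M' : Type u} [AddCommGroup M] [Module S M] [Module R M] [IsScalarTower R S M]
    [AddCommGroup M'] [Module S' M'] [Module R' M'] [IsScalarTower R' S' M'] [Module S M']
    [IsScalarTower S S' M']

theorem le_ker_of_flatAt (f : M →ₗ[S] M') (hf : IsBaseChange S' f) (I : Ideal R)
    (hmin : ∀ J : Ideal R, (∀ (q : Ideal S) [q.IsPrime],
        q.comap (algebraMap R S) = maximalIdeal R →
        Module.Flat (R ⧸ J) ((R ⧸ J) ⊗[R] LocalizedModule q.primeCompl M)) → I ≤ J)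
    (h : ∀ (q' : Ideal S') [q'.IsPrime], q'.comap (algebraMap R' S') = maximalIdeal R' →
      Module.Flat R' (LocalizedModule q'.primeCompl M')) :
    I ≤ RingHom.ker (algebraMap R R') := by
  have hn : ∀ n : ℕ, I ≤ RingHom.ker (algebraMap R (R' ⧸ maximalIdeal R' ^ (n + 1))) := by
    intro n
    set A := R' ⧸ maximalIdeal R' ^ (n + 1) with hAdef
    have hA : ∀ (p : Ideal A) [p.IsPrime], p.comap (algebraMap R' A) = maximalIdeal R' := by
      intro p _
      have h1 : maximalIdeal R' ^ (n + 1) ≤ p.comap (algebraMap R' A) := by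
        intro x hx
        rw [Ideal.mem_comap]
        have : algebraMap R' A x = 0 := Ideal.Quotient.eq_zero_iff_mem.mpr hx
        rw [this]; exact zero_mem _
      have h2 : maximalIdeal R' ≤ p.comap (algebraMap R' A) :=
        (Ideal.IsPrime.pow_le_iff (Nat.succ_ne_zero n)).mp h1
      exact ((maximalIdeal.isMaximal R').eq_of_le (Ideal.IsPrime.ne_top inferInstance) h2).symm
    haveI h1 : Module.Flat A (A ⊗[R'] M') := flat_baseChange_of_flatAt hA h
    haveI h2 : Module.Flat A (A ⊗[R] M) := flat_baseChange_descend (R' := R') f hf A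
    haveI : IsArtinianRing (R ⧸ RingHom.ker (algebraMap R A)) := by
      have hle : maximalIdeal R ^ (n + 1) ≤ RingHom.ker (algebraMap R A) := by
        intro x hx
        rw [RingHom.mem_ker, IsScalarTower.algebraMap_apply R R' A]
        apply Ideal.Quotient.eq_zero_iff_mem.mpr
        have h3 : algebraMap R R' x ∈ (maximalIdeal R ^ (n + 1)).map (algebraMap R R') :=
          Ideal.mem_map_of_mem _ hx
        rw [Ideal.map_pow] at h3
        refine Ideal.pow_right_mono ?_ _ h3
        rw [Ideal.map_le_iff_le_comap, IsLocalRing.maximalIdeal_comap]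
      haveI := Groth.Agent.Helper22.Chev.isArtinianRing_quot_pow R n
      exact (Ideal.Quotient.factor_surjective hle).isArtinianRing
    apply hmin
    intro q _ _
    haveI : Module.Flat A (A ⊗[R] LocalizedModule q.primeCompl M) :=
      Groth.Agent.Helper1.flat_baseChange_of_isLocalizedModule q.primeCompl
        (LocalizedModule.mkLinearMap q.primeCompl M) A
    exact flat_quot_ker_of_flat_baseChange _
  intro x hx
  rw [RingHom.mem_ker]
  have hx' : algebraMap R R' x ∈ (⨅ n, maximalIdeal R' ^ n : Ideal R') := by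
    rw [Ideal.mem_iInf]
    intro n
    have h3 := hn n hx
    rw [RingHom.mem_ker, IsScalarTower.algebraMap_apply R R' (R' ⧸ maximalIdeal R' ^ (n + 1))] at h3
    have h4 : algebraMap R R' x ∈ maximalIdeal R' ^ (n + 1) := Ideal.Quotient.eq_zero_iff_mem.mp h3
    exact Ideal.pow_le_pow_right (Nat.le_succ n) h4
  rwa [Ideal.iInf_pow_eq_bot_of_isLocalRing _ (maximalIdeal.isMaximal R').ne_top] at hx'

end Main3



end Groth.Agent.Helper7.Flattening
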