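import Mathlib
import Groth.Agent.Lib.Helper7.Flattening2
import Groth.Agent.Lib.Helper21.FL8

namespace Groth.Agent.Helper7.Flattening

open TensorProduct Function
open Groth.Agent.Helper21

set_option linter.style.haveILetI false
set_option linter.unusedSectionVars false
set_option backward.isDefEq.respectTransparency false
set_option backward.isDefEq.respectTransparency.types false

section StepG
universe u
open IsLocalRing

attribute [local instance] Algebra.TensorProduct.rightAlgebra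

/-- variant of `flat_baseChange_of_flatAt` for a general ideal `𝔫` in place of the maximal ideal of
a local ring. -/
theorem flat_baseChange_of_flatAt' {R' S' A : Type u} [CommRing R'] [CommRing S']
    [Algebra R' S'] [CommRing A] [Algebra R' A] (𝔫 : Ideal R')
    (hA : ∀ (p : Ideal A) [p.IsPrime], 𝔫 ≤ p.comap (algebraMap R' A))
    {M' : Type u} [AddCommGroup M'] [Module S' M'] [Module R' M'] [IsScalarTower R' S' M']
    (h : ∀ (q' : Ideal S') [q'.IsPrime], 𝔫.map (algebraMap R' S') ≤ q' →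
      Module.Flat R' (LocalizedModule q'.primeCompl M')) :
    Module.Flat A (A ⊗[R'] M') := by
  let S₂ := A ⊗[R'] S'
  let Y₀ := S₂ ⊗[S'] M'
  have key : ∀ (P : Ideal S₂) [P.IsPrime], Module.Flat A (LocalizedModule P.primeCompl Y₀) := by
    intro P _
    have hP : 𝔫.map (algebraMap R' S') ≤ P.comap (algebraMap S' S₂) := by
      rw [Ideal.map_le_iff_le_comap]
      have : (P.comap (algebraMap S' S₂)).comap (algebraMap R' S') =
          (P.comap (algebraMap A S₂)).comap (algebraMap R' A) := by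
        rw [Ideal.comap_comap, Ideal.comap_comap, ← IsScalarTower.algebraMap_eq,
          ← IsScalarTower.algebraMap_eq]
      rw [this]
      exact hA _
    haveI := h _ hP
    exact Groth.Agent.Helper21.FL.flat_localizedModule_of_isBaseChange (R₀ := R') (R := A)
      (S₀ := S') (S := S₂)
      (TensorProduct.mk S' S₂ M' 1) (TensorProduct.isBaseChange S' M' S₂) P
  haveI : Module.Flat A Y₀ := Module.flat_of_isLocalized_maximal S₂ Y₀
      (fun P _ => LocalizedModule P.primeCompl Y₀)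
      (fun P _ => LocalizedModule.mkLinearMap P.primeCompl Y₀) (fun P _ => key P)
  exact Module.Flat.of_linearEquiv (Algebra.IsPushout.cancelBaseChange R' A S' S₂ M').symm

theorem mem_pow_of_flatAt {R S R₂ S₂ : Type u} [CommRing R] [IsLocalRing R] [IsNoetherianRing R]
    [CommRing S] [Algebra R S] [CommRing R₂] [Algebra R R₂] [CommRing S₂] [Algebra R₂ S₂]
    {M M₂ : Type u} [AddCommGroup M] [Module S M] [Module R M] [IsScalarTower R S M]
    [AddCommGroup M₂] [Module S₂ M₂] [Module R₂ M₂] [IsScalarTower R₂ S₂ M₂]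
    (e : M₂ ≃ₗ[R₂] R₂ ⊗[R] M) (𝔫 : Ideal R₂)
    (h𝔫 : (maximalIdeal R).map (algebraMap R R₂) ≤ 𝔫) (I : Ideal R)
    (hmin : ∀ J : Ideal R, (∀ (q : Ideal S) [q.IsPrime],
        q.comap (algebraMap R S) = maximalIdeal R →
        Module.Flat (R ⧸ J) ((R ⧸ J) ⊗[R] LocalizedModule q.primeCompl M)) → I ≤ J)
    (h : ∀ (Q : Ideal S₂) [Q.IsPrime], 𝔫.map (algebraMap R₂ S₂) ≤ Q →
      Module.Flat R₂ (LocalizedModule Q.primeCompl M₂))
    (x : R) (hx : x ∈ I) (n : ℕ) : algebraMap R R₂ x ∈ 𝔫 ^ (n + 1) := by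
  set A := R₂ ⧸ 𝔫 ^ (n + 1) with hAdef
  have hA : ∀ (p : Ideal A) [p.IsPrime], 𝔫 ≤ p.comap (algebraMap R₂ A) := by
    intro p _
    have h1 : 𝔫 ^ (n + 1) ≤ p.comap (algebraMap R₂ A) := by
      intro x hx
      rw [Ideal.mem_comap]
      have : algebraMap R₂ A x = 0 := Ideal.Quotient.eq_zero_iff_mem.mpr hx
      rw [this]; exact zero_mem _
    exact (Ideal.IsPrime.pow_le_iff (Nat.succ_ne_zero n)).mp h1
  haveI h1 : Module.Flat A (A ⊗[R₂] M₂) := flat_baseChange_of_flatAt' 𝔫 hA h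
  haveI h2 : Module.Flat A (A ⊗[R] M) := by
    let e2 : A ⊗[R₂] M₂ ≃ₗ[A] A ⊗[R₂] (R₂ ⊗[R] M) :=
      TensorProduct.AlgebraTensorModule.congr (LinearEquiv.refl A A) e
    let e3 : A ⊗[R₂] (R₂ ⊗[R] M) ≃ₗ[A] A ⊗[R] M :=
      AlgebraTensorModule.cancelBaseChange R R₂ A A M
    exact Module.Flat.of_linearEquiv (e2 ≪≫ₗ e3).symm
  haveI : IsArtinianRing (R ⧸ RingHom.ker (algebraMap R A)) := by
    have hle : maximalIdeal R ^ (n + 1) ≤ RingHom.ker (algebraMap R A) := by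
      intro x hx
      rw [RingHom.mem_ker, IsScalarTower.algebraMap_apply R R₂ A]
      apply Ideal.Quotient.eq_zero_iff_mem.mpr
      have h3 : algebraMap R R₂ x ∈ (maximalIdeal R ^ (n + 1)).map (algebraMap R R₂) :=
        Ideal.mem_map_of_mem _ hx
      rw [Ideal.map_pow] at h3
      exact Ideal.pow_right_mono h𝔫 _ h3
    haveI := Groth.Agent.Helper22.Chev.isArtinianRing_quot_pow R n
    exact (Ideal.Quotient.factor_surjective hle).isArtinianRing
  have hIK : I ≤ RingHom.ker (algebraMap R A) := by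
    apply hmin
    intro q _ _
    haveI : Module.Flat A (A ⊗[R] LocalizedModule q.primeCompl M) :=
      Groth.Agent.Helper1.flat_baseChange_of_isLocalizedModule q.primeCompl
        (LocalizedModule.mkLinearMap q.primeCompl M) A
    exact flat_quot_ker_of_flat_baseChange _
  have h3 := hIK hx
  rw [RingHom.mem_ker, IsScalarTower.algebraMap_apply R R₂ A] at h3
  exact Ideal.Quotient.eq_zero_iff_mem.mp h3

end StepG

section Basic

variable {R S : Type*} [CommRing R] [CommRing S] [Algebra R S]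
  {M : Type*} [AddCommGroup M] [Module R M] [Module S M] [IsScalarTower R S M]

theorem exists_pow_smul_eq_zero (b : S)
    (hb : ∀ (q : Ideal S) [q.IsPrime], b ∉ q → Module.Flat R (LocalizedModule q.primeCompl M))
    {N P : Type*} [AddCommGroup N] [Module R N] [AddCommGroup P] [Module R P] (f : N →ₗ[R] P)
    (hf : Injective f) (z : M ⊗[R] N) (hz : f.lTensor M z = 0) : ∃ n : ℕ, b ^ n • z = 0 := by
  by_contra hcon
  push Not at hcon
  let 𝔠 : Ideal S := LinearMap.ker (LinearMap.toSpanSingleton S (M ⊗[R] N) z)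
  have hmem : ∀ s : S, s ∈ 𝔠 ↔ s • z = 0 := fun s => by
    simp [𝔠, LinearMap.mem_ker, LinearMap.toSpanSingleton_apply]
  have hdisj : Disjoint (𝔠 : Set S) (Submonoid.powers b : Set S) := by
    rw [Set.disjoint_left]
    rintro s hs ⟨n, rfl⟩
    exact hcon n ((hmem _).mp hs)
  obtain ⟨p, hp, hcp, hpd⟩ := Ideal.exists_le_prime_disjoint 𝔠 (Submonoid.powers b) hdisj
  have hbp : b ∉ p := fun hbp =>
    Set.disjoint_left.mp hpd hbp (Submonoid.mem_powers b)
  haveI := hb p hbp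
  obtain ⟨t, ht, htz⟩ := Groth.Agent.Helper21.FL.exists_smul_eq_zero_of_flat p.primeCompl
    (LocalizedModule.mkLinearMap p.primeCompl M) f hf z hz
  exact ht (hcp ((hmem t).mpr htz))

theorem flat_isLocalizedModule_of_mem (b : S)
    (hb : ∀ (q : Ideal S) [q.IsPrime], b ∉ q → Module.Flat R (LocalizedModule q.primeCompl M))
    (T : Submonoid S) (hbT : b ∈ T) {M' : Type*} [AddCommGroup M'] [Module R M'] [Module S M']
    [IsScalarTower R S M'] (g : M →ₗ[S] M') [IsLocalizedModule T g] : Module.Flat R M' := by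
  rw [Module.Flat.iff_lTensor_injective']
  intro I
  apply Groth.Agent.Helper21.FL.lTensor_injective_of_forall_exists_smul_eq_zero T g
  intro z hz
  obtain ⟨n, hn⟩ := exists_pow_smul_eq_zero b hb I.subtype (Submodule.injective_subtype I) z hz
  exact ⟨b ^ n, T.pow_mem hbT n, hn⟩

end Basic

section Open
universe u

theorem exists_sub_of_flatAt {R' S' M' : Type u} [CommRing R'] [CommRing S'] [Algebra R' S']
    [Algebra.FinitePresentation R' S'] [AddCommGroup M'] [Module S' M'] [Module R' M']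
    [IsScalarTower R' S' M'] [Module.FinitePresentation S' M'] (𝔫 : Ideal R')
    (h : ∀ (q' : Ideal S') [q'.IsPrime], 𝔫.map (algebraMap R' S') ≤ q' →
      Module.Flat R' (LocalizedModule q'.primeCompl M')) :
    ∃ c ∈ 𝔫.map (algebraMap R' S'), ∀ (q' : Ideal S') [q'.IsPrime], (1 - c) ∉ q' →
      Module.Flat R' (LocalizedModule q'.primeCompl M') := by
  have hopen := Groth.Agent.Helper21.FL.isOpen_flatLocus (R := R') (S := S') (M := M')
  set U : Set (PrimeSpectrum S') :=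
    {q : PrimeSpectrum S' | Module.Flat R' (LocalizedModule q.asIdeal.primeCompl M')} with hU
  have hclosed : IsClosed Uᶜ := hopen.isClosed_compl
  obtain ⟨𝔟, h𝔟⟩ := (PrimeSpectrum.isClosed_iff_zeroLocus_ideal _).mp hclosed
  have htop : 𝔟 ⊔ 𝔫.map (algebraMap R' S') = ⊤ := by
    rw [← PrimeSpectrum.zeroLocus_empty_iff_eq_top, PrimeSpectrum.zeroLocus_sup,
      Set.eq_empty_iff_forall_notMem]
    rintro q ⟨hq1, hq2⟩
    rw [← h𝔟] at hq1
    exact hq1 (h q.asIdeal hq2)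
  obtain ⟨b, hb𝔟, c, hc, hbc⟩ := Submodule.mem_sup.mp (htop ▸ Submodule.mem_top : (1 : S') ∈ _)
  refine ⟨c, hc, fun q' _ hq' => ?_⟩
  have hb : 1 - c = b := by rw [← hbc]; ring
  rw [hb] at hq'
  have : (⟨q', inferInstance⟩ : PrimeSpectrum S') ∉ Uᶜ := by
    rw [h𝔟, PrimeSpectrum.mem_zeroLocus]
    intro hsub
    exact hq' (hsub hb𝔟)
  rw [Set.notMem_compl_iff] at this
  exact this

end Open

section Rep
universe u

variable {A R S₁ S : Type u} [CommRing A] [CommRing R] [CommRing S₁] [CommRing S]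
  [Algebra A R] [Algebra A S₁] [Algebra R S] [Algebra S₁ S] [Algebra A S]
  [IsScalarTower A R S] [IsScalarTower A S₁ S] [Algebra.IsPushout A R S₁ S]

attribute [local instance] FS.stageAlgebra Algebra.TensorProduct.rightAlgebra in
/-- An element of the extension `𝔫 S` of an ideal `𝔫` of `R` to `S = R ⊗ S₁` comes from the
extension of `𝔫 ∩ R₁` at a finite stage `R₁`. -/
theorem exists_stage_rep_map (𝔫 : Ideal R) (c : S) (hc : c ∈ 𝔫.map (algebraMap R S)) :
    ∃ R₁ : Subalgebra A R, R₁.FG ∧ ∃ c₁ : R₁ ⊗[A] S₁,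
      c₁ ∈ (𝔫.comap (algebraMap R₁ R)).map (algebraMap R₁ (R₁ ⊗[A] S₁)) ∧
      algebraMap (R₁ ⊗[A] S₁) S c₁ = c := by
  classical
  let E : R ⊗[A] S₁ ≃ₐ[R] S := Algebra.IsPushout.equiv A R S₁ S
  let ℓ : Submodule A R := 𝔫.restrictScalars A
  have h1 : E.symm c ∈ 𝔫.map (Algebra.TensorProduct.includeLeft : R →ₐ[A] R ⊗[A] S₁) := by
    have h2 : E.symm c ∈ Ideal.map (E.symm : S →+* R ⊗[A] S₁) (𝔫.map (algebraMap R S)) :=
      Ideal.mem_map_of_mem _ hc
    rw [Ideal.map_map] at h2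
    have h3 : ((E.symm : S →+* R ⊗[A] S₁).comp (algebraMap R S)) =
        ((Algebra.TensorProduct.includeLeft : R →ₐ[A] R ⊗[A] S₁) : R →+* R ⊗[A] S₁) := by
      ext r
      simp
    rw [h3] at h2
    exact h2
  have h4 : E.symm c ∈ LinearMap.range (LinearMap.rTensor S₁ ℓ.subtype) := by
    have := Ideal.map_includeLeft_eq (R := A) (A := R) (B := S₁) 𝔫
    rw [← this]
    exact h1
  obtain ⟨γ, hγ⟩ := h4
  obtain ⟨J, hJfg, hle, y, hy⟩ := Submodule.exists_fg_le_eq_rTensor_inclusion γ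
  obtain ⟨GJ, hGJ⟩ := hJfg
  let R₁ : Subalgebra A R := Algebra.adjoin A (GJ : Set R)
  have hJR₁ : ∀ x ∈ J, x ∈ R₁ := by
    intro x hx
    rw [← hGJ] at hx
    have hle' : Submodule.span A (GJ : Set R) ≤ Subalgebra.toSubmodule R₁ :=
      Submodule.span_le.mpr Algebra.subset_adjoin
    exact hle' hx
  let incl : J →ₗ[A] R₁ :=
    { toFun := fun x => ⟨x.1, hJR₁ x.1 x.2⟩
      map_add' := fun _ _ => rfl
      map_smul' := fun _ _ => rfl }
  refine ⟨R₁, Subalgebra.fg_adjoin_finset GJ, incl.rTensor S₁ y, ?_, ?_⟩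
  · -- membership
    have key : ∀ z : J ⊗[A] S₁, incl.rTensor S₁ z ∈
        (𝔫.comap (algebraMap R₁ R)).map (algebraMap R₁ (R₁ ⊗[A] S₁)) := by
      intro z
      induction z using TensorProduct.induction_on with
      | zero => simp
      | add a b ha hb => rw [map_add]; exact Ideal.add_mem _ ha hb
      | tmul j σ =>
        rw [LinearMap.rTensor_tmul]
        have h5 : (incl j) ⊗ₜ[A] σ =
            algebraMap R₁ (R₁ ⊗[A] S₁) (incl j) * ((1 : R₁) ⊗ₜ[A] σ) := by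
          rw [Algebra.TensorProduct.algebraMap_apply, Algebra.TensorProduct.tmul_mul_tmul]
          simp
        rw [h5]
        apply Ideal.mul_mem_right
        apply Ideal.mem_map_of_mem
        rw [Ideal.mem_comap]
        exact hle j.2
    exact key y
  · have key : ∀ z : J ⊗[A] S₁, algebraMap (R₁ ⊗[A] S₁) S (incl.rTensor S₁ z) =
        E (J.subtype.rTensor S₁ z) := by
      intro z
      induction z using TensorProduct.induction_on with
      | zero => simp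
      | add a b ha hb => simp only [map_add, ha, hb]
      | tmul j σ =>
        rw [LinearMap.rTensor_tmul, LinearMap.rTensor_tmul, FS.stageAlgebra_tmul,
          Algebra.IsPushout.equiv_tmul]
        rfl
    rw [key]
    have h6 : J.subtype.rTensor S₁ y = ℓ.subtype.rTensor S₁ γ := by
      rw [hy, ← LinearMap.rTensor_comp_apply]
      rfl
    rw [h6, hγ, AlgEquiv.apply_symm_apply]

end Rep

section P1
universe u

variable {A R S₁ S : Type u} [CommRing A] [CommRing R] [CommRing S₁] [CommRing S]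
  [Algebra A R] [Algebra A S₁] [Algebra R S] [Algebra S₁ S] [Algebra A S]
  [IsScalarTower A R S] [IsScalarTower A S₁ S] [Algebra.IsPushout A R S₁ S]
  [IsNoetherianRing A] [Algebra.FiniteType A S₁]
  {M₁ : Type u} [AddCommGroup M₁] [Module S₁ M₁] [Module A M₁] [IsScalarTower A S₁ M₁]
  [Module.Finite S₁ M₁]
  {M : Type u} [AddCommGroup M] [Module S M] [Module R M] [IsScalarTower R S M] [Module S₁ M]
  [IsScalarTower S₁ S M]

attribute [local instance] Algebra.TensorProduct.rightAlgebra in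
theorem exists_finset_forall_flat_at_closed (h : M₁ →ₗ[S₁] M) (hh : IsBaseChange S h)
    (p : Ideal A) (𝔫 : Ideal R) (hp𝔫 : p.map (algebraMap A R) ≤ 𝔫) (c₁ : S₁)
    (hc₁ : c₁ ∈ (𝔫.comap (algebraMap A R)).map (algebraMap A S₁))
    (hflat : ∀ (Q : Ideal S) [Q.IsPrime], algebraMap S₁ S (1 - c₁) ∉ Q →
      Module.Flat R (LocalizedModule Q.primeCompl M))
    [Module.Flat (A ⧸ p) ((A ⧸ p) ⊗[A] LocalizedModule (Submonoid.powers (1 - c₁)) M₁)] :
    ∃ F : Finset R, ∀ R₂ : Subalgebra A R, (F : Set R) ⊆ R₂ → R₂.FG →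
      ∀ (Q' : Ideal (R₂ ⊗[A] S₁)) [Q'.IsPrime],
        (𝔫.comap (algebraMap R₂ R)).map (algebraMap R₂ (R₂ ⊗[A] S₁)) ≤ Q' →
        Module.Flat R₂ (LocalizedModule Q'.primeCompl ((R₂ ⊗[A] S₁) ⊗[S₁] M₁)) := by
  classical
  let T₁ : Submonoid S₁ := Submonoid.powers (1 - c₁)
  have hbT : algebraMap S₁ S (1 - c₁) ∈ Algebra.algebraMapSubmonoid S T₁ :=
    ⟨1 - c₁, Submonoid.mem_powers _, rfl⟩
  haveI hflatT : Module.Flat R (LocalizedModule (Algebra.algebraMapSubmonoid S T₁) M) :=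
    flat_isLocalizedModule_of_mem (algebraMap S₁ S (1 - c₁)) hflat
      (Algebra.algebraMapSubmonoid S T₁) hbT
      (LocalizedModule.mkLinearMap (Algebra.algebraMapSubmonoid S T₁) M)
  have H : Injective ((p.map (algebraMap A R)).subtype.rTensor
      (LocalizedModule (Algebra.algebraMapSubmonoid S T₁) M)) :=
    Module.Flat.rTensor_preserves_injective_linearMap _ (Submodule.injective_subtype _)
  have hR := FL.injective_rebase h hh p T₁ H
  obtain ⟨F, hF⟩ := FL.exists_finset_forall_flat_at A S₁ M₁ R p T₁ hR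
  refine ⟨F, fun R₂ hFR₂ hfg Q' _ hQ' => ?_⟩
  have h𝔫le : (𝔫.comap (algebraMap A R)).map (algebraMap A R₂) ≤ 𝔫.comap (algebraMap R₂ R) := by
    rw [Ideal.map_le_iff_le_comap, Ideal.comap_comap, ← IsScalarTower.algebraMap_eq]
  apply hF R₂ hFR₂ hfg Q'
  · -- p ≤ Q'
    rw [IsScalarTower.algebraMap_eq A R₂ (R₂ ⊗[A] S₁), ← Ideal.map_map]
    refine le_trans (Ideal.map_mono ?_) hQ'
    rw [Ideal.map_le_iff_le_comap, Ideal.comap_comap, ← IsScalarTower.algebraMap_eq,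
      ← Ideal.map_le_iff_le_comap]
    exact hp𝔫
  · -- T₁ avoids Q'
    have hc₂ : algebraMap S₁ (R₂ ⊗[A] S₁) c₁ ∈ Q' := by
      apply hQ'
      have h1 : algebraMap S₁ (R₂ ⊗[A] S₁) c₁ ∈
          ((𝔫.comap (algebraMap A R)).map (algebraMap A S₁)).map
            (algebraMap S₁ (R₂ ⊗[A] S₁)) := Ideal.mem_map_of_mem _ hc₁
      rw [Ideal.map_map, ← IsScalarTower.algebraMap_eq A S₁ (R₂ ⊗[A] S₁),
        IsScalarTower.algebraMap_eq A R₂ (R₂ ⊗[A] S₁), ← Ideal.map_map] at h1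
      exact Ideal.map_mono h𝔫le h1
    rintro _ ⟨t, ⟨k, rfl⟩, rfl⟩ hmem
    have hmem' : algebraMap S₁ (R₂ ⊗[A] S₁) ((1 - c₁) ^ k) ∈ Q' := hmem
    rw [map_pow] at hmem'
    have h2 := Ideal.IsPrime.mem_of_pow_mem inferInstance k hmem'
    rw [map_sub, map_one] at h2
    have h3 : (1 : R₂ ⊗[A] S₁) ∈ Q' := by
      have := Q'.add_mem h2 hc₂
      simpa using this
    exact Ideal.IsPrime.ne_top inferInstance ((Ideal.eq_top_iff_one _).mpr h3)

end P1

section P2
universe u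
open IsLocalRing

variable {A R S₁ S : Type u} [CommRing A] [IsLocalRing A] [IsNoetherianRing A] [CommRing R]
  [IsLocalRing R] [CommRing S₁] [CommRing S]
  [Algebra A R] [IsLocalHom (algebraMap A R)] [Algebra A S₁] [Algebra.FiniteType A S₁]
  [Algebra R S] [Algebra S₁ S] [Algebra A S]
  [IsScalarTower A R S] [IsScalarTower A S₁ S] [Algebra.IsPushout A R S₁ S]
  {M₁ : Type u} [AddCommGroup M₁] [Module S₁ M₁] [Module A M₁] [IsScalarTower A S₁ M₁]
  [Module.Finite S₁ M₁]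
  {M : Type u} [AddCommGroup M] [Module S M] [Module R M] [IsScalarTower R S M] [Module S₁ M]
  [IsScalarTower S₁ S M]

set_option maxHeartbeats 1600000 in
attribute [local instance] FS.stageAlgebra Algebra.TensorProduct.rightAlgebra in
theorem le_ker_of_flatAt_stage (h : M₁ →ₗ[S₁] M) (hh : IsBaseChange S h) (I : Ideal A)
    (hmin : ∀ J : Ideal A, (∀ (q : Ideal S₁) [q.IsPrime],
        q.comap (algebraMap A S₁) = maximalIdeal A →
        Module.Flat (A ⧸ J) ((A ⧸ J) ⊗[A] LocalizedModule q.primeCompl M₁)) → I ≤ J)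
    (R₁ : Type u) [CommRing R₁] [Algebra A R₁] [Algebra R₁ R] [IsScalarTower A R₁ R]
    [Algebra R₁ S] [IsScalarTower R₁ R S] [IsScalarTower A R₁ S]
    [Algebra.FiniteType A R₁] (c₁ : R₁ ⊗[A] S₁)
    (hc₁ : c₁ ∈ ((maximalIdeal R).comap (algebraMap R₁ R)).map (algebraMap R₁ (R₁ ⊗[A] S₁)))
    (hD' : ∀ (Q : Ideal S) [Q.IsPrime], algebraMap (R₁ ⊗[A] S₁) S (1 - c₁) ∉ Q →
      Module.Flat R (LocalizedModule Q.primeCompl M)) :
    I ≤ RingHom.ker (algebraMap A R) := by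
  classical
  set 𝔫 := maximalIdeal R with h𝔫def
  haveI : IsNoetherianRing R₁ := Algebra.FiniteType.isNoetherianRing A R₁
  letI : Module (R₁ ⊗[A] S₁) M := Module.compHom M (algebraMap (R₁ ⊗[A] S₁) S)
  haveI : IsScalarTower (R₁ ⊗[A] S₁) S M := IsScalarTower.of_algebraMap_smul fun _ _ => rfl
  haveI hpo : Algebra.IsPushout R₁ R (R₁ ⊗[A] S₁) S := FS.stage_isPushout A S₁ S R₁
  have hh' : IsBaseChange S (FS.stageMap A S₁ S R₁ h) :=
    FS.stageMap_isBaseChange A S₁ S R₁ h hh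
  let p : Ideal A := maximalIdeal A
  letI := Ideal.Quotient.field p
  haveI : Module.Flat (A ⧸ p) ((A ⧸ p) ⊗[A] FS.Ms A S₁ M₁ 1) := inferInstance
  let T₁' : Submonoid (R₁ ⊗[A] S₁) := Submonoid.powers (1 - c₁)
  haveI hfl' := FL.flat_stratum_rebase (A := A) (R₁ := R₁) (S₁ := S₁) (S₁' := R₁ ⊗[A] S₁)
    (M₁ := M₁) p 1 T₁' (by rw [map_one]; exact one_mem _)
  have hp𝔫 : (p.map (algebraMap A R₁)).map (algebraMap R₁ R) ≤ 𝔫 := by
    rw [Ideal.map_map, ← IsScalarTower.algebraMap_eq A R₁ R, Ideal.map_le_iff_le_comap,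
      IsLocalRing.maximalIdeal_comap]
  obtain ⟨F, hF⟩ := exists_finset_forall_flat_at_closed (A := R₁) (R := R) (S₁ := R₁ ⊗[A] S₁)
    (S := S) (M₁ := (R₁ ⊗[A] S₁) ⊗[S₁] M₁) (M := M) (FS.stageMap A S₁ S R₁ h) hh'
    (p.map (algebraMap A R₁)) 𝔫 hp𝔫 c₁ hc₁ hD'
  let R₂ : Subalgebra R₁ R := Algebra.adjoin R₁ (F : Set R)
  have hR₂fg : R₂.FG := Subalgebra.fg_adjoin_finset F
  haveI : Algebra.FiniteType R₁ R₂ := (Subalgebra.fg_iff_finiteType R₂).mp hR₂fg
  haveI : IsNoetherianRing R₂ := Algebra.FiniteType.isNoetherianRing R₁ R₂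
  have hF' := hF R₂ Algebra.subset_adjoin hR₂fg
  let e1 : (R₂ ⊗[R₁] (R₁ ⊗[A] S₁)) ⊗[R₁ ⊗[A] S₁] ((R₁ ⊗[A] S₁) ⊗[S₁] M₁) ≃ₗ[R₂]
      R₂ ⊗[R₁] ((R₁ ⊗[A] S₁) ⊗[S₁] M₁) :=
    Algebra.IsPushout.cancelBaseChange R₁ R₂ (R₁ ⊗[A] S₁) (R₂ ⊗[R₁] (R₁ ⊗[A] S₁))
      ((R₁ ⊗[A] S₁) ⊗[S₁] M₁)
  let e2 : (R₁ ⊗[A] S₁) ⊗[S₁] M₁ ≃ₗ[R₁] R₁ ⊗[A] M₁ :=
    Algebra.IsPushout.cancelBaseChange A R₁ S₁ (R₁ ⊗[A] S₁) M₁
  let e3 : R₂ ⊗[R₁] (R₁ ⊗[A] M₁) ≃ₗ[R₂] R₂ ⊗[A] M₁ :=
    AlgebraTensorModule.cancelBaseChange A R₁ R₂ R₂ M₁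
  let e : (R₂ ⊗[R₁] (R₁ ⊗[A] S₁)) ⊗[R₁ ⊗[A] S₁] ((R₁ ⊗[A] S₁) ⊗[S₁] M₁) ≃ₗ[R₂] R₂ ⊗[A] M₁ :=
    e1 ≪≫ₗ (AlgebraTensorModule.congr (LinearEquiv.refl R₂ R₂) e2) ≪≫ₗ e3
  have h𝔫₂ : (maximalIdeal A).map (algebraMap A R₂) ≤ 𝔫.comap (algebraMap R₂ R) := by
    rw [Ideal.map_le_iff_le_comap, Ideal.comap_comap, ← IsScalarTower.algebraMap_eq A R₂ R,
      IsLocalRing.maximalIdeal_comap]
  have hpow := mem_pow_of_flatAt (R := A) (S := S₁) (R₂ := R₂) (S₂ := R₂ ⊗[R₁] (R₁ ⊗[A] S₁))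
    (M := M₁) (M₂ := (R₂ ⊗[R₁] (R₁ ⊗[A] S₁)) ⊗[R₁ ⊗[A] S₁] ((R₁ ⊗[A] S₁) ⊗[S₁] M₁))
    e (𝔫.comap (algebraMap R₂ R)) h𝔫₂ I hmin hF'
  intro x hx
  rw [RingHom.mem_ker]
  have hy : algebraMap A R₂ x ∈ (⨅ i : ℕ, (𝔫.comap (algebraMap R₂ R)) ^ i • ⊤ :
      Submodule R₂ R₂) := by
    rw [Submodule.mem_iInf]
    intro i
    rw [smul_eq_mul, Ideal.mul_top]
    rcases i with _ | n
    · simp
    · exact hpow x hx n
  rw [Ideal.mem_iInf_smul_pow_eq_bot_iff] at hy
  obtain ⟨r, hr⟩ := hy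
  have h1 : algebraMap R₂ R (r : R₂) * algebraMap A R x = algebraMap A R x := by
    have := congrArg (algebraMap R₂ R) hr
    rw [smul_eq_mul, map_mul, ← IsScalarTower.algebraMap_apply A R₂ R] at this
    exact this
  have h2 : algebraMap R₂ R (r : R₂) ∈ 𝔫 := r.2
  have h3 : IsUnit (1 - algebraMap R₂ R (r : R₂)) :=
    IsLocalRing.isUnit_one_sub_self_of_mem_nonunits _ h2
  have h4 : (1 - algebraMap R₂ R (r : R₂)) * algebraMap A R x = 0 := by
    rw [sub_mul, one_mul, h1, sub_self]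
  exact (h3.mul_right_eq_zero).mp h4

set_option maxHeartbeats 1600000 in
attribute [local instance] FS.stageAlgebra Algebra.TensorProduct.rightAlgebra in
theorem le_ker_of_flatAt_general (h : M₁ →ₗ[S₁] M) (hh : IsBaseChange S h) (I : Ideal A)
    (hmin : ∀ J : Ideal A, (∀ (q : Ideal S₁) [q.IsPrime],
        q.comap (algebraMap A S₁) = maximalIdeal A →
        Module.Flat (A ⧸ J) ((A ⧸ J) ⊗[A] LocalizedModule q.primeCompl M₁)) → I ≤ J)
    (hflat : ∀ (Q : Ideal S) [Q.IsPrime], Q.comap (algebraMap R S) = maximalIdeal R →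
      Module.Flat R (LocalizedModule Q.primeCompl M)) :
    I ≤ RingHom.ker (algebraMap A R) := by
  classical
  haveI : IsNoetherianRing S₁ := Algebra.FiniteType.isNoetherianRing A S₁
  haveI : Algebra.FinitePresentation A S₁ :=
    Algebra.FinitePresentation.of_finiteType.mp inferInstance
  haveI : Algebra.FinitePresentation R S :=
    Algebra.FinitePresentation.equiv (Algebra.IsPushout.equiv A R S₁ S)
  haveI : Module.FinitePresentation S₁ M₁ := Module.finitePresentation_of_finite S₁ M₁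
  haveI : Module.FinitePresentation S M := FinitePresentation.of_isBaseChange h hh
  have hflat' : ∀ (Q : Ideal S) [Q.IsPrime], (maximalIdeal R).map (algebraMap R S) ≤ Q →
      Module.Flat R (LocalizedModule Q.primeCompl M) := fun Q _ hQ => hflat Q
    ((maximalIdeal.isMaximal R).eq_of_le (Ideal.comap_ne_top _ (Ideal.IsPrime.ne_top inferInstance))
      (Ideal.map_le_iff_le_comap.mp hQ)).symm
  obtain ⟨c, hc, hD⟩ := exists_sub_of_flatAt (maximalIdeal R) hflat'
  obtain ⟨R₁, hR₁fg, c₁, hc₁, hc₁c⟩ :=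
    exists_stage_rep_map (A := A) (S₁ := S₁) (maximalIdeal R) c hc
  haveI : Algebra.FiniteType A R₁ := (Subalgebra.fg_iff_finiteType R₁).mp hR₁fg
  have hD' : ∀ (Q : Ideal S) [Q.IsPrime], algebraMap (R₁ ⊗[A] S₁) S (1 - c₁) ∉ Q →
      Module.Flat R (LocalizedModule Q.primeCompl M) := by
    intro Q _ hQ
    apply hD Q
    rwa [map_sub, map_one, hc₁c] at hQ
  exact le_ker_of_flatAt_stage h hh I hmin R₁ c₁ hc₁ hD'

end P2



end Groth.Agent.Helper7.Flattening
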