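import Mathlib

/-!
# Global functions as morphisms to the affine line, in `Over S` (helper7)
-/

set_option autoImplicit false
set_option linter.style.haveILetI false
universe u
open CategoryTheory CategoryTheory.Limits AlgebraicGeometry

namespace Groth.Agent.Helper7.FunA1

variable {S : Scheme.{u}}

/-- the affine line over `S` as an object of `Over S` -/
noncomputable def A1 (S : Scheme.{u}) : Over S := Over.mk (𝔸(PUnit.{u+1}; S) ↘ S)

/-- the morphism to the affine line attached to a global function -/
noncomputable def tilde {T : Over S} (s : Γ(T.left, ⊤)) : T ⟶ A1 S :=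
  Over.homMk (AffineSpace.homOfVector T.hom (fun _ => s)) (AffineSpace.homOfVector_over _ _)

theorem tilde_appTop {T : Over S} (s : Γ(T.left, ⊤)) :
    (tilde s).left.appTop (AffineSpace.coord S PUnit.unit) = s :=
  AffineSpace.homOfVector_appTop_coord _ _ _

theorem eq_tilde {T : Over S} (F : T ⟶ A1 S) :
    F = tilde (F.left.appTop (AffineSpace.coord S PUnit.unit)) := by
  ext
  apply AffineSpace.hom_ext
  · have h1 := Over.w F
    have h2 := Over.w (tilde (F.left.appTop (AffineSpace.coord S PUnit.unit)))
    exact h1.trans h2.symm
  · intro i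
    cases i
    exact (tilde_appTop _).symm

theorem tilde_injective {T : Over S} {s s' : Γ(T.left, ⊤)} (h : tilde s = tilde s') : s = s' := by
  rw [← tilde_appTop s, ← tilde_appTop s', h]

theorem comp_tilde {T T' : Over S} (f : T' ⟶ T) (s : Γ(T.left, ⊤)) :
    f ≫ tilde s = tilde (f.left.appTop s) := by
  rw [eq_tilde (f ≫ tilde s)]
  congr 1
  rw [Over.comp_left, Scheme.Hom.comp_appTop, CommRingCat.comp_apply, tilde_appTop]

theorem comp_tilde_eq_iff {T T' : Over S} (f g : T' ⟶ T) (s : Γ(T.left, ⊤)) :
    f ≫ tilde s = g ≫ tilde s ↔ f.left.appTop s = g.left.appTop s := by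
  rw [comp_tilde, comp_tilde]
  exact ⟨tilde_injective, fun h => by rw [h]⟩

/-- global functions on an integral scheme universally closed over an algebraically closed field
are the constants -/
theorem isIso_appTop_of_isIntegral_of_universallyClosed (k : Type u) [Field k] [IsAlgClosed k]
    {X : Scheme.{u}} (f : X ⟶ Spec (CommRingCat.of k)) [IsIntegral X] [UniversallyClosed f] :
    IsIso f.appTop := by
  let F := (Scheme.ΓSpecIso (CommRingCat.of k)).inv ≫ f.appTop
  have hF : F.hom.IsIntegral := by
    apply RingHom.isIntegral_respectsIso.2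
      (e := (Scheme.ΓSpecIso (CommRingCat.of k)).symm.commRingCatIsoToRingEquiv)
    exact isIntegral_appTop_of_universallyClosed f
  have hfield : IsField Γ(X, ⊤) := isField_of_universallyClosed k f
  letI := hfield.toField
  algebraize [F.hom]
  have hbij : Function.Bijective (algebraMap k Γ(X, ⊤)) :=
    IsAlgClosed.algebraMap_bijective_of_isIntegral
  have hFiso : IsIso F := (ConcreteCategory.isIso_iff_bijective F).mpr hbij
  have : f.appTop = (Scheme.ΓSpecIso (CommRingCat.of k)).hom ≫ F := by
    simp [F]
  rw [this]
  infer_instance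


end Groth.Agent.Helper7.FunA1
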