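import Mathlib
import Groth.Agent.Lib.Helper7.ThirdIsoA
import Groth.Agent.Lib.Helper18.GrpFppf2
import Groth.Agent.S0114

/-!
# The fppf covers in `Over S` form a class of covers (helper7)
-/

set_option autoImplicit false
set_option linter.style.haveILetI false
set_option linter.unusedSectionVars false
universe u

open CategoryTheory CategoryTheory.Limits MonoidalCategory CartesianMonoidalCategory MonObj
  AlgebraicGeometry

namespace Groth.Agent.Helper7.ThirdIso

variable {S : Scheme.{u}}

/-- fppf coverings in `Over S` -/
def fppfOver (S : Scheme.{u}) : MorphismProperty (Over S) :=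
  fun _ _ f => Surjective f.left ∧ Flat f.left ∧ LocallyOfFinitePresentation f.left

theorem coverClass_fppfOver : CoverClass (fppfOver S) where
  bc := ⟨by
    rintro X Y Y' B f g f' g' sq ⟨h1, h2, h3⟩
    have sq' : IsPullback f'.left g'.left g.left f.left := sq.map (Over.forget S)
    exact ⟨MorphismProperty.of_isPullback (P := @Surjective) sq' h1,
      MorphismProperty.of_isPullback (P := @Flat) sq' h2,
      MorphismProperty.of_isPullback (P := @LocallyOfFinitePresentation) sq' h3⟩⟩
  comp := ⟨by
    rintro X Y Z f g ⟨h1, h2, h3⟩ ⟨h1', h2', h3'⟩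
    refine ⟨?_, ?_, ?_⟩ <;> rw [Over.comp_left] <;> infer_instance⟩
  of_iso := by
    intro X Y f hf
    haveI : IsIso f.left := (Over.forget S).map_isIso f
    exact ⟨inferInstance, inferInstance, inferInstance⟩
  cancel := by
    rintro X Y Z f g ⟨h1, h2, h3⟩ ⟨h1', h2', h3'⟩
    rw [Over.comp_left] at h1' h2' h3'
    refine ⟨?_, ?_, ?_⟩
    · exact Surjective.of_comp f.left g.left
    · exact Groth.Agent.Helper18.GrpFppf.flat_of_comp_of_surjective f.left g.left
    · exact Groth.Agent.S0114.result f.left g.left
  epi := by
    rintro X Y f ⟨h1, h2, h3⟩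
    haveI : Epi f.left := Flat.epi_of_flat_of_surjective f.left
    exact Over.epi_of_epi_left f
  iso := by
    rintro X Y f ⟨h1, h2, h3⟩ hm
    haveI : Mono f.left := inferInstance
    haveI : IsOpenImmersion f.left := IsOpenImmersion.of_flat_of_mono f.left
    haveI : IsIso f.left := by
      haveI : Epi f.left.base := by
        rw [TopCat.epi_iff_surjective]
        exact f.left.surjective
      exact IsOpenImmersion.isIso f.left
    haveI : IsIso ((Over.forget S).map f) := ‹IsIso f.left›
    exact isIso_of_reflects_iso f (Over.forget S)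

end Groth.Agent.Helper7.ThirdIso
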