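import Mathlib
import Groth.Agent.Lib.Helper7.ThirdIsoB
import Groth.Agent.Lib.Helper18.GrpFppf3

/-!
# `G/f⁻¹(T) = C/T` for a quotient map `f : G ⟶ C` (helper7)
-/

set_option autoImplicit false
set_option linter.style.haveILetI false
set_option linter.unusedSectionVars false
universe v u

open CategoryTheory CategoryTheory.Limits MonoidalCategory CartesianMonoidalCategory MonObj

namespace Groth.Agent.Helper7.ThirdIso

section Abstract

variable {𝒞 : Type u} [Category.{v} 𝒞] [CartesianMonoidalCategory 𝒞]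

theorem shear_eq {H G : 𝒞} [GrpObj G] (i : H ⟶ G) :
    (G ◁ i) ≫ μ[G] = fst G H * (snd G H ≫ i) := by
  have h := shear_pt' i (𝟙 (G ⊗ H))
  simpa only [Category.id_comp] using h

variable [HasPullbacks 𝒞] {E : MorphismProperty 𝒞} (hE : CoverClass E)
  (hdesc : ∀ {X Y Z : 𝒞} (f : X ⟶ Y) (φ : X ⟶ Z), E f →
    (∀ {T : 𝒞} (a b : T ⟶ X), a ≫ f = b ≫ f → a ≫ φ = b ≫ φ) → ∃ φ' : Y ⟶ Z, f ≫ φ' = φ)
  {G D C T'' H Q : 𝒞} [GrpObj G] [GrpObj C] [GrpObj T'']
  (d : D ⟶ G) (f₀ : G ⟶ C) [IsMonHom f₀] (hEf₀ : E f₀)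
  (hf₀ : IsPullback (fst G D) ((G ◁ d) ≫ μ[G]) f₀ f₀)
  (t : T'' ⟶ C) [IsMonHom t] [Mono t] (k : H ⟶ G) (g : H ⟶ T'')
  (hsq : IsPullback k g f₀ t) (q : G ⟶ Q) (hEq : E q)
  (hq : IsPullback (fst G H) ((G ◁ k) ≫ μ[G]) q q)

include hE hdesc hEf₀ hf₀ hsq hEq hq in
theorem preimage_quotient :
    ∃ q' : C ⟶ Q, f₀ ≫ q' = q ∧ E q' ∧ IsPullback (fst C T'') ((C ◁ t) ≫ μ[C]) q' q' := by
  haveI := hE.bc
  haveI := hE.comp
  obtain ⟨q', hq'⟩ := hdesc f₀ q hEf₀ (by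
    intro T a b hab
    obtain ⟨e, rfl⟩ := quot_ex d f₀ hf₀ a b hab
    have h1 : (e ≫ d) ≫ f₀ = 1 := by
      have h0 := quot_comm d f₀ hf₀ (1 : T ⟶ G) e
      rwa [_root_.one_mul, MonObj.one_comp] at h0
    have h2 : (e ≫ d) ≫ f₀ = (1 : T ⟶ T'') ≫ t := by rw [h1, MonObj.one_comp]
    have h3 : hsq.lift (e ≫ d) 1 h2 ≫ k = e ≫ d := hsq.lift_fst _ _ _
    rw [← h3]
    exact (quot_comm k q hq a _).symm)
  have hEq' : E q' := hE.cancel f₀ q' hEf₀ (by rw [hq']; exact hEq)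
  have hEg : E g := E.of_isPullback hsq hEf₀
  have hEt : E (f₀ ⊗ₘ g) := E_tensorHom hE f₀ g hEf₀ hEg
  haveI : Epi (f₀ ⊗ₘ g) := hE.epi _ hEt
  have hkey : (f₀ ⊗ₘ g) ≫ (C ◁ t) ≫ μ[C] = ((G ◁ k) ≫ μ[G]) ≫ f₀ := by
    rw [shear_pt' t (f₀ ⊗ₘ g), shear_eq k, MonObj.mul_comp, tensorHom_fst, tensorHom_snd_assoc,
      Category.assoc, hsq.w]
  have hw : fst C T'' ≫ q' = ((C ◁ t) ≫ μ[C]) ≫ q' := by
    rw [← cancel_epi (f₀ ⊗ₘ g), tensorHom_fst_assoc, hq', Category.assoc, reassoc_of% hkey,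
      hq']
    have := hq.w
    simpa only [Category.assoc] using this
  let φ : C ⊗ T'' ⟶ pullback q' q' := pullback.lift (fst C T'') ((C ◁ t) ≫ μ[C]) hw
  have hφ1 : φ ≫ pullback.fst q' q' = fst C T'' := pullback.lift_fst _ _ _
  have hφ2 : φ ≫ pullback.snd q' q' = (C ◁ t) ≫ μ[C] := pullback.lift_snd _ _ _
  have hEφ : E φ := by
    have hmp : E (pullback.map q q q' q' f₀ f₀ (𝟙 Q)
        ((Category.comp_id _).trans hq'.symm) ((Category.comp_id _).trans hq'.symm)) :=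
      E.pullbackMap hEf₀ hEf₀ hq'.symm hq'.symm
    have hcomp : (f₀ ⊗ₘ g) ≫ φ = hq.isoPullback.hom ≫
        pullback.map q q q' q' f₀ f₀ (𝟙 Q)
          ((Category.comp_id _).trans hq'.symm) ((Category.comp_id _).trans hq'.symm) := by
      apply pullback.hom_ext
      · simp only [Category.assoc, hφ1, pullback.lift_fst, tensorHom_fst]
        rw [← Category.assoc, hq.isoPullback_hom_fst]
      · simp only [Category.assoc, hφ2, pullback.lift_snd, hkey]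
        rw [hq.isoPullback_hom_snd_assoc]
        simp only [Category.assoc]
    refine hE.cancel (f₀ ⊗ₘ g) φ hEt ?_
    rw [hcomp]
    exact E.comp_mem _ _ (hE.of_iso _) hmp
  have hmono : Mono φ := by
    constructor
    intro T z1 z2 hz
    have h1 : z1 ≫ fst C T'' = z2 ≫ fst C T'' := by
      have := congrArg (· ≫ pullback.fst q' q') hz
      simpa only [Category.assoc, hφ1] using this
    have h2 : z1 ≫ (C ◁ t) ≫ μ[C] = z2 ≫ (C ◁ t) ≫ μ[C] := by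
      have := congrArg (· ≫ pullback.snd q' q') hz
      simpa only [Category.assoc, hφ2] using this
    rw [shear_pt', shear_pt', h1] at h2
    have h3 := mul_left_cancel h2
    have h4 : z1 ≫ snd C T'' = z2 ≫ snd C T'' := by
      rw [← cancel_mono t]
      simpa only [Category.assoc] using h3
    exact CartesianMonoidalCategory.hom_ext _ _ h1 h4
  haveI : IsIso φ := hE.iso φ hEφ hmono
  exact ⟨q', hq', hEq', IsPullback.of_iso_pullback ⟨hw⟩ (asIso φ) hφ1 hφ2⟩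

end Abstract

section Concrete

open AlgebraicGeometry

variable {S : Scheme.{u}}

theorem desc_fppfOver {X Y Z : Over S} (f : X ⟶ Y) (φ : X ⟶ Z) (hf : fppfOver S f)
    (h : ∀ {T : Over S} (a b : T ⟶ X), a ≫ f = b ≫ f → a ≫ φ = b ≫ φ) :
    ∃ φ' : Y ⟶ Z, f ≫ φ' = φ := by
  obtain ⟨h1, h2, h3⟩ := hf
  haveI : EffectiveEpi f.left := inferInstance
  exact Groth.Agent.Helper18.GrpFppf.exists_desc_of_cover f φ h

end Concrete

end Groth.Agent.Helper7.ThirdIso
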