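import Groth.Agent.Lib.Helper7.FunA1
import Groth.Agent.Lib.Helper7.PreimQuot

set_option autoImplicit false
set_option linter.style.haveILetI false
universe u
open CategoryTheory CategoryTheory.Limits AlgebraicGeometry MonoidalCategory CartesianMonoidalCategory
  MonObj

namespace Groth.Agent.Helper7.FunA1

open Groth.Agent.Helper7.ThirdIso

variable {S : Scheme.{u}}

theorem invariant_of_quotient_contraction {G H₂ H₁ X : Over S} [GrpObj G] [GrpObj H₂] [GrpObj H₁]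
    (i₂ : H₂ ⟶ G) [IsMonHom i₂] (i₁ : H₁ ⟶ H₂)
    (r : H₂ ⟶ X) (hEr : fppfOver S r) (hr : IsPullback (fst H₂ H₁) ((H₂ ◁ i₁) ≫ μ[H₂]) r r)
    (hiso : IsIso (fst G X).left.appTop) (φ : Γ(G.left, ⊤))
    (hφ : ((G ◁ (i₁ ≫ i₂)) ≫ μ[G]) ≫ tilde φ = fst G H₁ ≫ tilde φ) :
    ((G ◁ i₂) ≫ μ[G]) ≫ tilde φ = fst G H₂ ≫ tilde φ := by
  have hE := coverClass_fppfOver (S := S)
  -- invariance on points
  have hinv : ∀ {T : Over S} (g : T ⟶ G) (n : T ⟶ H₁),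
      (g * (n ≫ i₁ ≫ i₂)) ≫ tilde φ = g ≫ tilde φ := by
    intro T g n
    have h1 : lift g n ≫ (G ◁ (i₁ ≫ i₂)) ≫ μ[G] = g * (n ≫ i₁ ≫ i₂) := shear_pt (i₁ ≫ i₂) g n
    calc (g * (n ≫ i₁ ≫ i₂)) ≫ tilde φ
        = (lift g n ≫ (G ◁ (i₁ ≫ i₂)) ≫ μ[G]) ≫ tilde φ := by rw [h1]
      _ = lift g n ≫ ((G ◁ (i₁ ≫ i₂)) ≫ μ[G]) ≫ tilde φ := Category.assoc _ _ _
      _ = lift g n ≫ fst G H₁ ≫ tilde φ := by rw [hφ]
      _ = g ≫ tilde φ := by rw [← Category.assoc, lift_fst]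
  set c : G ⊗ H₂ ⟶ G ⊗ X := G ◁ r with hc
  have hEc : fppfOver S c := E_whiskerLeft hE G r hEr
  set F : G ⊗ H₂ ⟶ A1 S := ((G ◁ i₂) ≫ μ[G]) ≫ tilde φ with hF
  obtain ⟨F', hF'⟩ := desc_fppfOver c F hEc (by
    intro T a b hab
    have e1 : a ≫ fst G H₂ = b ≫ fst G H₂ := by
      have := congrArg (fun f => f ≫ fst G X) hab
      simpa only [Category.assoc, hc, whiskerLeft_fst] using this
    have e2 : (a ≫ snd G H₂) ≫ r = (b ≫ snd G H₂) ≫ r := by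
      have := congrArg (fun f => f ≫ snd G X) hab
      simpa only [Category.assoc, hc, whiskerLeft_snd] using this
    obtain ⟨n, hn⟩ := quot_ex i₁ r hr _ _ e2
    have ha : a ≫ (G ◁ i₂) ≫ μ[G] = (a ≫ fst G H₂) * ((a ≫ snd G H₂) ≫ i₂) := by
      have := shear_pt' i₂ a
      simpa only [Category.assoc] using this
    have hb : b ≫ (G ◁ i₂) ≫ μ[G] = (b ≫ fst G H₂) * ((b ≫ snd G H₂) ≫ i₂) := by
      have := shear_pt' i₂ b
      simpa only [Category.assoc] using this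
    show a ≫ ((G ◁ i₂) ≫ μ[G]) ≫ tilde φ = b ≫ ((G ◁ i₂) ≫ μ[G]) ≫ tilde φ
    rw [← Category.assoc a ((G ◁ i₂) ≫ μ[G]) (tilde φ),
      ← Category.assoc b ((G ◁ i₂) ≫ μ[G]) (tilde φ), ha, hb, ← e1, hn,
      MonObj.mul_comp ((a ≫ snd G H₂)) (n ≫ i₁) i₂, ← _root_.mul_assoc, Category.assoc n,
      hinv])
  -- `F'` comes from a function on `G`
  haveI := hiso
  obtain ⟨ψ, hψ⟩ : ∃ ψ : Γ(G.left, ⊤),
      (fst G X).left.appTop ψ = F'.left.appTop (AffineSpace.coord S PUnit.unit) := by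
    have hb := (ConcreteCategory.isIso_iff_bijective (fst G X).left.appTop).mp hiso
    exact hb.2 _
  have hF'ψ : F' = fst G X ≫ tilde ψ := by
    rw [comp_tilde, hψ]
    exact eq_tilde F'
  have hFψ : F = fst G H₂ ≫ tilde ψ := by
    rw [← hF', hF'ψ, ← Category.assoc, hc, whiskerLeft_fst]
  -- evaluate at the unit section
  have hs1 : lift (𝟙 G) (toUnit G ≫ η[H₂]) ≫ F = tilde φ := by
    have h1 : (toUnit G ≫ η[H₂]) ≫ i₂ = 1 := by
      rw [Category.assoc, IsMonHom.one_hom, Hom.one_def]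
    rw [hF, ← Category.assoc, shear_pt i₂, h1, _root_.mul_one, Category.id_comp]
  have hs2 : lift (𝟙 G) (toUnit G ≫ η[H₂]) ≫ F = tilde ψ := by
    rw [hFψ, ← Category.assoc, lift_fst, Category.id_comp]
  have hψφ : tilde ψ = tilde φ := hs2.symm.trans hs1
  rw [hFψ, hψφ]

end Groth.Agent.Helper7.FunA1
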