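import Mathlib
import Groth.Agent.Lib.Helper7.GLE

/-!
# Central subgroups of multiplicative type equal modulo a nilpotent ideal (helper7)
-/

set_option autoImplicit false
set_option linter.style.haveILetI false
set_option linter.unusedSectionVars false
universe u
open CategoryTheory CategoryTheory.Limits MonoidalCategory CartesianMonoidalCategory MonObj GrpObj
  AlgebraicGeometry

noncomputable section

namespace Groth.Agent.Helper7.GL

open Groth.Agent.Helper18 Groth.Agent.Helper7.MTRig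

theorem exists_fac_of_local {G' H' T : Scheme.{u}} (m : H' ⟶ G') [Mono m] (g : T ⟶ G')
    (h : ∀ y : T, ∃ (C : CommRingCat.{u}) (f : Spec C ⟶ T), IsOpenImmersion f ∧ y ∈ Set.range f ∧
      ∃ a : Spec C ⟶ H', a ≫ m = f ≫ g) : ∃ a : T ⟶ H', a ≫ m = g := by
  choose C f hf hy a ha using h
  let 𝒰 : T.OpenCover :=
    { I₀ := T
      X := fun p => Spec (C p)
      f := f
      mem₀ := by
        rw [Scheme.presieve₀_mem_precoverage_iff]
        exact ⟨fun x => ⟨x, hy x⟩, hf⟩ }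
  exact Groth.Agent.Helper14.FacDescent.exists_fac_of_openCover m g 𝒰 (fun l => ⟨a l, ha l⟩)

/-- the core: `i` factors through `i'` -/
theorem core {R : Type u} [CommRing R] (J : Ideal R) (hJ : IsNilpotent J)
    (G H H' : Over (Spec (CommRingCat.of R))) [GrpObj G] [GrpObj H] [GrpObj H']
    (hH : TwC.Locally (Spec (CommRingCat.of R)) TwC.Topology.fpqc (fun S' f =>
      ∃ (M : Type) (_ : AddCommGroup M), Nonempty (Grp.mk (Red.bc f H) ≅ Grp.mk (Red.DS S' M))))
    (hH' : TwC.Locally (Spec (CommRingCat.of R)) TwC.Topology.fpqc (fun S' f =>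
      ∃ (M : Type) (_ : AddCommGroup M), Nonempty (Grp.mk (Red.bc f H') ≅ Grp.mk (Red.DS S' M))))
    (i : H ⟶ G) [IsMonHom i] (i' : H' ⟶ G) [IsMonHom i'] [Mono i'.left]
    (hcomm : ∀ (X : Over (Spec (CommRingCat.of R))) (h : X ⟶ H) (h' : X ⟶ H'),
      (h ≫ i) * (h' ≫ i') = (h' ≫ i') * (h ≫ i))
    (hP0 : ∀ (Y : Over (Spec (CommRingCat.of R))) (_ : Y ⟶ Over.mk (jj J)) (h : Y ⟶ H),
      ∃ h' : Y ⟶ H', h' ≫ i' = h ≫ i) :
    ∃ a : H.left ⟶ H'.left, a ≫ i'.left = i.left := by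
  haveI : Mono i' := Over.mono_of_mono_left i'
  obtain ⟨S', f, hflat, hsurj, hqc, hloc⟩ := hH
  obtain ⟨S'', f', hflat', hsurj', hqc', hloc'⟩ := hH'
  haveI := hflat
  haveI := hsurj
  haveI := hflat'
  haveI := hsurj'
  choose U hU M instM e using hloc
  choose U' hU' M' instM' e' using hloc'
  apply Groth.Agent.Helper14.FacDescent.exists_fac_of_fpqc_locally i'.left f hqc U hU H.hom i.left
  intro s'
  apply Groth.Agent.Helper14.FacDescent.exists_fac_of_fpqc_locally i'.left f' hqc' U' hU'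
    (pullback.fst H.hom ((U s').ι ≫ f) ≫ H.hom) (pullback.fst H.hom ((U s').ι ≫ f) ≫ i.left)
  intro s''
  apply exists_fac_of_local
  intro y
  obtain ⟨C, fl, hfl, hy, -⟩ :=
    Scheme.exists_affine_mem_range_and_range_subset
      (U := (⊤ : (pullback (pullback.fst H.hom ((U s').ι ≫ f) ≫ H.hom) ((U' s'').ι ≫ f')).Opens))
      (x := y) trivial
  refine ⟨C, fl, hfl, hy, ?_⟩
  letI := instM s'
  letI := instM' s''
  let hC : Spec C ⟶ H.left := fl ≫ pullback.fst _ _ ≫ pullback.fst _ _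
  let π₁ : Spec C ⟶ (U s' : Scheme.{u}) := fl ≫ pullback.fst _ _ ≫ pullback.snd _ _
  let π₂ : Spec C ⟶ (U' s'' : Scheme.{u}) := fl ≫ pullback.snd _ _
  have hc1 := pullback.condition (f := H.hom) (g := (U s').ι ≫ f)
  have hc2 := pullback.condition (f := pullback.fst H.hom ((U s').ι ≫ f) ≫ H.hom)
    (g := (U' s'').ι ≫ f')
  have h1 : π₁ ≫ (U s').ι ≫ f = hC ≫ H.hom := by
    simp only [π₁, hC, Category.assoc]
    rw [← hc1]
  have h2 : π₂ ≫ (U' s'').ι ≫ f' = hC ≫ H.hom := by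
    simp only [π₂, hC, Category.assoc]
    rw [← hc2]
  have t1 := Groth.Agent.Helper7.TwoGrp.nonempty_triv_bc ((U s').ι ≫ f) π₁ (hC ≫ H.hom) h1 H
    (M s') (e s')
  have t2 := Groth.Agent.Helper7.TwoGrp.nonempty_triv_bc ((U' s'').ι ≫ f') π₂ (hC ≫ H.hom) h2 H'
    (M' s'') (e' s'')
  obtain ⟨a, ha⟩ := locpt J i i' hJ hcomm hP0 (hC ≫ H.hom) t1 t2 hC rfl
  refine ⟨a, ha.trans ?_⟩
  simp only [hC, Category.assoc]

end Groth.Agent.Helper7.GL
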