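import Mathlib
import Groth.Prelude.Def_Found
import Groth.Prelude.Def_EGA4b
import Groth.Agent.Lib.Helper7.FinFree
import Groth.Agent.Lib.Helper7.CplFin
import Groth.Agent.Lib.Helper7.QFReg
import Groth.Agent.Lib.Helper7.RegHomLoc
import Groth.Agent.Lib.Helper7.GeomRed2
import Groth.Agent.Lib.Lead.Fib1

/-!
# G-rings via formal fibres of finite free algebras (helper7)
-/

set_option autoImplicit false
set_option linter.style.haveILetI false
set_option linter.unusedSectionVars false

universe u

namespace Groth.Agent.Helper7.GRingFF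

open TensorProduct IsLocalRing Function

section LocalToGlobal

variable (R Λ : Type u) [CommRing R] [CommRing Λ] [Algebra R Λ]

/-- regularity of `L ⊗ Λ` can be checked on the localizations of `Λ` at maximal ideals -/
theorem isRegularRing_tensor_of_forall_maximal (L : Type u) [Field L] [Algebra R L]
    [hN : IsNoetherianRing (L ⊗[R] Λ)]
    (h : ∀ (n : Ideal Λ) [n.IsMaximal],
      RingHom.ker (algebraMap R L) ≤ n.comap (algebraMap R Λ) →
      IsRegularRing (L ⊗[R] Localization.AtPrime n)) :
    IsRegularRing (L ⊗[R] Λ) := by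
  rw [isRegularRing_iff]
  intro Q _
  set q : Ideal Λ := Q.comap (Algebra.TensorProduct.includeRight : Λ →ₐ[R] L ⊗[R] Λ) with hq
  haveI : q.IsPrime := Ideal.comap_isPrime _ _
  obtain ⟨n, hn, hqn⟩ := Ideal.exists_le_maximal q (Ideal.IsPrime.ne_top inferInstance)
  haveI := hn
  have hker : RingHom.ker (algebraMap R L) ≤ n.comap (algebraMap R Λ) := by
    intro y hy
    rw [Ideal.mem_comap]
    apply hqn
    show (Algebra.TensorProduct.includeRight : Λ →ₐ[R] L ⊗[R] Λ) (algebraMap R Λ y) ∈ Q
    rw [AlgHom.commutes, Algebra.TensorProduct.algebraMap_apply, (RingHom.mem_ker).mp hy]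
    simp
  haveI h3 : IsRegularRing (L ⊗[R] Localization.AtPrime n) := h n hker
  letI : Algebra (L ⊗[R] Λ) (L ⊗[R] Localization.AtPrime n) :=
    (Algebra.TensorProduct.map (AlgHom.id L L)
      (IsScalarTower.toAlgHom R Λ (Localization.AtPrime n))).toRingHom.toAlgebra
  haveI : IsScalarTower L (L ⊗[R] Λ) (L ⊗[R] Localization.AtPrime n) :=
    IsScalarTower.of_algebraMap_eq fun x => by
      change _ = Algebra.TensorProduct.map (AlgHom.id L L)
        (IsScalarTower.toAlgHom R Λ (Localization.AtPrime n)) (x ⊗ₜ 1)
      simp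
  haveI hloc := IsLocalization.tensorProduct_tensorProduct_right R L n.primeCompl
    (Localization.AtPrime n) (by
      ext a
      change Algebra.TensorProduct.map (AlgHom.id L L)
        (IsScalarTower.toAlgHom R Λ (Localization.AtPrime n)) (1 ⊗ₜ a) =
          1 ⊗ₜ algebraMap Λ (Localization.AtPrime n) a
      simp)
  set M' : Submonoid (L ⊗[R] Λ) :=
    n.primeCompl.map (Algebra.TensorProduct.includeRight (R := R) (A := L)) with hM'
  have hdisj : Disjoint (M' : Set (L ⊗[R] Λ)) (Q : Set (L ⊗[R] Λ)) := by
    rw [Set.disjoint_left]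
    rintro _ ⟨m, hm, rfl⟩ hmQ
    exact hm (hqn hmQ)
  set P' : Ideal (L ⊗[R] Localization.AtPrime n) :=
    Q.map (algebraMap (L ⊗[R] Λ) (L ⊗[R] Localization.AtPrime n)) with hP'
  haveI hP'prime : P'.IsPrime :=
    IsLocalization.isPrime_of_isPrime_disjoint M' _ Q inferInstance hdisj
  have hcomap : P'.comap (algebraMap (L ⊗[R] Λ) (L ⊗[R] Localization.AtPrime n)) = Q :=
    IsLocalization.under_map_of_isPrime_disjoint M' _ inferInstance hdisj
  haveI : IsLocalization.AtPrime (Localization.AtPrime P')
      (P'.comap (algebraMap (L ⊗[R] Λ) (L ⊗[R] Localization.AtPrime n))) :=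
    IsLocalization.isLocalization_isLocalization_atPrime_isLocalization M'
      (Localization.AtPrime P') P'
  haveI : IsLocalization Q.primeCompl (Localization.AtPrime P') := by
    have hthis : IsLocalization
        (P'.comap (algebraMap (L ⊗[R] Λ) (L ⊗[R] Localization.AtPrime n))).primeCompl
        (Localization.AtPrime P') := inferInstance
    have hEq : (P'.comap (algebraMap (L ⊗[R] Λ) (L ⊗[R] Localization.AtPrime n))).primeCompl =
        Q.primeCompl := by
      ext x
      simp only [Ideal.mem_primeCompl_iff, hcomap]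
    rw [hEq] at hthis
    exact hthis
  let e2 : Localization.AtPrime P' ≃ₐ[L ⊗[R] Λ] Localization.AtPrime Q :=
    IsLocalization.algEquiv Q.primeCompl _ _
  haveI : IsRegularLocalRing (Localization.AtPrime P') :=
    IsRegularRing.isRegularLocalRing_localization P'
  exact IsRegularLocalRing.of_ringEquiv (R := Localization.AtPrime P') e2.toRingEquiv

end LocalToGlobal

section Forward

/-- (⇒) of S9274 -/
theorem forward (R : Type u) [CommRing R] [IsNoetherianRing R] (hR : CAlg.IsGRing R)
    (S : Type u) [CommRing S] [Algebra R S] [Module.Finite R S]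
    (q : Ideal S) [q.IsPrime] (p : Ideal (Localization.AtPrime q)) [p.IsPrime] :
    IsRegularRing (EGA4.formalFibre (Localization.AtPrime q) p) := by
  haveI : IsNoetherianRing S := IsNoetherianRing.of_finite R S
  have h1 : CAlg.IsRegularHom (Localization.AtPrime q) (EGA4.Cpl (Localization.AtPrime q)) :=
    Groth.Agent.Helper7.QFReg.isRegularHom_cpl_of_finite R S q (q.comap (algebraMap R S)) rfl
      (hR.2 _)
  have h2 := (h1.2 p).2 p.ResidueField inferInstance
  exact @IsRegularRing.of_ringEquiv _ _ _ _
    (Algebra.TensorProduct.lid p.ResidueField (p.Fiber (EGA4.Cpl (Localization.AtPrime q)))).toRingEquiv h2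

end Forward

section Backward

open Groth.Agent.Helper7.GeomRed

variable (R : Type u) [CommRing R] [IsNoetherianRing R]
  (H : ∀ (S : Type u) [CommRing S] [Algebra R S] [Module.Finite R S] [Module.Free R S]
        (q : Ideal S) [q.IsPrime] (p : Ideal (Localization.AtPrime q)) [p.IsPrime],
        IsRegularRing (EGA4.formalFibre (Localization.AtPrime q) p))

set_option maxSynthPendingDepth 3 in
include H in
theorem step_local (S : Type u) [CommRing S] [Algebra R S] [Module.Finite R S] [Module.Free R S]
    (P : Ideal R) [P.IsPrime] (k' : Type u) [Field k'] [Algebra S k']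
    (hcl : Subfield.closure (Set.range (algebraMap S k')) = ⊤)
    (N : Ideal (S ⊗[R] EGA4.Cpl (Localization.AtPrime P))) [N.IsMaximal]
    (hker : RingHom.ker (algebraMap S k') ≤
      N.comap (algebraMap S (S ⊗[R] EGA4.Cpl (Localization.AtPrime P)))) :
    IsRegularRing (k' ⊗[S] Localization.AtPrime N) := by
  set q : Ideal S := N.comap (algebraMap S (S ⊗[R] EGA4.Cpl (Localization.AtPrime P))) with hq
  haveI : q.IsPrime := Ideal.comap_isPrime _ _
  obtain ⟨e, he⟩ := Groth.Agent.Helper7.CplFin.exists_ringEquiv R S P N q rfl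
  let eA : Localization.AtPrime N ≃ₐ[S] EGA4.Cpl (Localization.AtPrime q) :=
    AlgEquiv.ofRingEquiv (f := e) he
  have hunits : ∀ y : q.primeCompl, IsUnit (algebraMap S k' y) := by
    intro y
    rw [isUnit_iff_ne_zero]
    intro h0
    exact y.2 (hker ((RingHom.mem_ker).mpr h0))
  letI : Algebra (Localization.AtPrime q) k' := (IsLocalization.lift hunits).toAlgebra
  haveI : IsScalarTower S (Localization.AtPrime q) k' :=
    IsScalarTower.of_algebraMap_eq (fun a => (IsLocalization.lift_eq hunits a).symm)
  let 𝔫 : Ideal (Localization.AtPrime q) := kerPrime (Localization.AtPrime q) k'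
  let σ : 𝔫.ResidueField →+* k' := kerLift (Localization.AtPrime q) k'
  have hσ : Bijective σ := by
    refine ⟨σ.injective, fun x => ?_⟩
    have hx : x ∈ Subfield.closure (Set.range (algebraMap S k')) := by rw [hcl]; trivial
    rw [Subfield.mem_closure_iff] at hx
    obtain ⟨y, hy, z, hz, rfl⟩ := hx
    have hrange : Subring.closure (Set.range (algebraMap S k')) = (algebraMap S k').range := by
      rw [← RingHom.coe_range]; exact Subring.closure_eq _
    rw [hrange] at hy hz
    obtain ⟨a, rfl⟩ := hy
    obtain ⟨b, rfl⟩ := hz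
    refine ⟨algebraMap (Localization.AtPrime q) 𝔫.ResidueField (algebraMap S _ a) /
      algebraMap (Localization.AtPrime q) 𝔫.ResidueField (algebraMap S _ b), ?_⟩
    rw [map_div₀]
    change kerLift (Localization.AtPrime q) k' _ / kerLift (Localization.AtPrime q) k' _ = _
    rw [kerLift_algebraMap, kerLift_algebraMap,
      ← IsScalarTower.algebraMap_apply S (Localization.AtPrime q) k',
      ← IsScalarTower.algebraMap_apply S (Localization.AtPrime q) k']
  let eσ : 𝔫.ResidueField ≃ₐ[Localization.AtPrime q] k' :=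
    AlgEquiv.ofBijective
      { toRingHom := σ
        commutes' := fun b => kerLift_algebraMap (Localization.AtPrime q) k' b } hσ
  have h0 : IsRegularRing (𝔫.ResidueField ⊗[Localization.AtPrime q]
      EGA4.Cpl (Localization.AtPrime q)) := H S q 𝔫
  have h1 : IsRegularRing (k' ⊗[Localization.AtPrime q] EGA4.Cpl (Localization.AtPrime q)) :=
    @IsRegularRing.of_ringEquiv _ _ _ _
      (Algebra.TensorProduct.congr eσ (AlgEquiv.refl (R := Localization.AtPrime q)
        (A₁ := EGA4.Cpl (Localization.AtPrime q)))).toRingEquiv h0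
  have h2 : IsRegularRing (k' ⊗[S] EGA4.Cpl (Localization.AtPrime q)) :=
    @IsRegularRing.of_ringEquiv _ _ _ _
      (IsLocalization.algebraTensorEquiv q.primeCompl (Localization.AtPrime q) k'
        (EGA4.Cpl (Localization.AtPrime q))).toRingEquiv h1
  exact @IsRegularRing.of_ringEquiv _ _ _ _
    (Algebra.TensorProduct.congr (AlgEquiv.refl (R := S) (A₁ := k')) eA.symm).toRingEquiv h2

include H in
theorem step_global (P : Ideal R) [P.IsPrime] (p : Ideal R) [p.IsPrime] (k' : Type u) [Field k']
    [Algebra p.ResidueField k'] (hfin : Module.Finite p.ResidueField k') :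
    IsRegularRing (k' ⊗[p.ResidueField] (p.Fiber (EGA4.Cpl (Localization.AtPrime P)))) := by
  let A := Localization.AtPrime P
  let Ah := EGA4.Cpl A
  haveI hNAh : IsNoetherianRing Ah :=
    Groth.Agent.Helper1.isNoetherianRing_adicCompletion_of_fg A (maximalIdeal A)
      (IsNoetherian.noetherian _)
  letI : Algebra R k' :=
    ((algebraMap p.ResidueField k').comp (algebraMap R p.ResidueField)).toAlgebra
  haveI : IsScalarTower R p.ResidueField k' := IsScalarTower.of_algebraMap_eq (fun _ => rfl)
  obtain ⟨S, iS, iRS, iSk, itow, hSfin, hSfree, hcl⟩ :=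
    Groth.Agent.Helper7.FinFree.exists_finite_free R p k'
  let e4 := Algebra.TensorProduct.cancelBaseChange R p.ResidueField p.ResidueField k' Ah
  let e5 := Algebra.TensorProduct.cancelBaseChange R S S k' Ah
  have hreg : IsRegularRing (k' ⊗[S] (S ⊗[R] Ah)) := by
    letI : Algebra Ah (S ⊗[R] Ah) := Algebra.TensorProduct.rightAlgebra
    haveI : Module.Finite Ah (S ⊗[R] Ah) :=
      Module.Finite.equiv (Algebra.TensorProduct.commRight R Ah S).toLinearEquiv
    haveI : IsNoetherianRing (S ⊗[R] Ah) := IsNoetherianRing.of_finite Ah (S ⊗[R] Ah)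
    haveI : Algebra.EssFiniteType R k' := Algebra.EssFiniteType.comp R p.ResidueField k'
    haveI : Algebra.EssFiniteType S k' := Algebra.EssFiniteType.of_comp R S k'
    haveI : IsNoetherianRing (k' ⊗[S] (S ⊗[R] Ah)) :=
      Groth.Agent.Helper7.RegHomLoc.isNoetherianRing_tensor_field S (S ⊗[R] Ah) k'
    apply isRegularRing_tensor_of_forall_maximal S (S ⊗[R] Ah) k'
    intro N _ hker
    exact step_local R H S P k' hcl N hker
  exact @IsRegularRing.of_ringEquiv _ _ _ _ (e5.toRingEquiv.trans e4.symm.toRingEquiv) hreg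

include H in
/-- (⇐) of S9274 -/
theorem backward : CAlg.IsGRing R := by
  refine ⟨inferInstance, fun P _ => ?_⟩
  let A := Localization.AtPrime P
  let Ah := EGA4.Cpl A
  haveI hNAh : IsNoetherianRing Ah :=
    Groth.Agent.Helper1.isNoetherianRing_adicCompletion_of_fg A (maximalIdeal A)
      (IsNoetherian.noetherian _)
  refine ⟨inferInstance, fun p₀ _ =>
    ⟨Groth.Agent.Lead.Fib.isNoetherianRing_fiber p₀, fun k' _ _ hfin => ?_⟩⟩
  haveI : IsLocalization (Algebra.algebraMapSubmonoid Ah P.primeCompl) Ah := by
    apply IsLocalization.of_le_isUnit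
    rintro _ ⟨v, hv, rfl⟩
    show IsUnit (algebraMap R Ah v)
    rw [IsScalarTower.algebraMap_apply R A Ah]
    exact (IsLocalization.map_units A (⟨v, hv⟩ : P.primeCompl)).map _
  exact fibre_transfer_localization R Ah P.primeCompl A Ah (fun R _ => IsRegularRing R)
    (fun R R' _ _ e h => @IsRegularRing.of_ringEquiv _ _ _ _ e h)
    (fun p _ k' _ _ hfin => step_global R H P p k' hfin) p₀ k' hfin

end Backward

/-- **S9274** -/
theorem s9274 (R : Type u) [CommRing R] [IsNoetherianRing R] :
    CAlg.IsGRing R ↔
      ∀ (S : Type u) [CommRing S] [Algebra R S] [Module.Finite R S] [Module.Free R S]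
        (q : Ideal S) [q.IsPrime] (p : Ideal (Localization.AtPrime q)) [p.IsPrime],
        IsRegularRing (EGA4.formalFibre (Localization.AtPrime q) p) :=
  ⟨fun hR S _ _ _ _ q _ p _ => forward R hR S q p, fun H => backward R H⟩

end Groth.Agent.Helper7.GRingFF
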