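import Mathlib
import Groth.Prelude.Def_Found
import Groth.Prelude.Def_EGA4b
import Groth.Agent.Lib.Helper7.GeomRed3
import Groth.Agent.Lib.Helper7.QFReg
import Groth.Agent.Lib.Lead.Fib1

/-!
# G-rings via the generic formal fibres of the local rings of `R/q` (helper7)
-/

set_option autoImplicit false
set_option linter.style.haveILetI false
set_option linter.unusedSectionVars false

universe u

namespace Groth.Agent.Helper7.GRingGen

open TensorProduct IsLocalRing Function FSch

/-- Reverse transfer of a "geometric" property of a fibre along a base change `A → A'` which is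
surjective on stalks, `B' = A' ⊗_A B`: from the fibre over `p'` to the fibre over `p = p' ∩ A`. -/
theorem fibre_transfer_rev (A B : Type u) [CommRing A] [CommRing B]
    [Algebra A B] (A' B' : Type u) [CommRing A'] [CommRing B'] [Algebra A A'] [Algebra A' B']
    (hf : (algebraMap A A').SurjectiveOnStalks) (e : A' ⊗[A] B ≃ₐ[A'] B')
    (P : ∀ (R : Type u) [CommRing R], Prop)
    (hP : ∀ (R R' : Type u) [CommRing R] [CommRing R'], (R ≃+* R') → P R → P R')
    (p' : Ideal A') [p'.IsPrime] (p : Ideal A) [p.IsPrime] (hp : p = p'.comap (algebraMap A A'))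
    (h : ∀ (k'' : Type u) [Field k''] [Algebra p'.ResidueField k''],
      Module.Finite p'.ResidueField k'' → P (k'' ⊗[p'.ResidueField] (p'.Fiber B')))
    (k' : Type u) [Field k'] [Algebra p.ResidueField k'] (hk' : Module.Finite p.ResidueField k') :
    P (k' ⊗[p.ResidueField] (p.Fiber B)) := by
  subst hp
  set p : Ideal A := p'.comap (algebraMap A A') with hpdef
  let σ : p.ResidueField →+* p'.ResidueField := Ideal.ResidueField.map p p' (algebraMap A A') rfl
  have hσ : Bijective σ := RingHom.SurjectiveOnStalks.residueFieldMap_bijective hf p p' rfl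
  let σe : p.ResidueField ≃+* p'.ResidueField := RingEquiv.ofBijective σ hσ
  let L := k'
  letI : Algebra p'.ResidueField L := ((algebraMap p.ResidueField L).comp σe.symm.toRingHom).toAlgebra
  letI : Algebra p.ResidueField p'.ResidueField := σ.toAlgebra
  have ht0 : IsScalarTower p.ResidueField p'.ResidueField L :=
    IsScalarTower.of_algebraMap_eq (fun a => by
      change _ = algebraMap p.ResidueField L (σe.symm (σe a))
      rw [σe.symm_apply_apply])
  have hfin' : Module.Finite p'.ResidueField L :=
    Module.Finite.of_restrictScalars_finite p.ResidueField p'.ResidueField L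
  letI : Algebra A' L :=
    ((algebraMap p'.ResidueField L).comp (algebraMap A' p'.ResidueField)).toAlgebra
  have ht1 : IsScalarTower A' p'.ResidueField L := IsScalarTower.of_algebraMap_eq (fun a => rfl)
  letI : Algebra A L := ((algebraMap p.ResidueField L).comp (algebraMap A p.ResidueField)).toAlgebra
  have htower : IsScalarTower A p.ResidueField L := IsScalarTower.of_algebraMap_eq (fun a => rfl)
  have ht2 : IsScalarTower A A' L := IsScalarTower.of_algebraMap_eq (fun a => by
    change algebraMap p.ResidueField L (algebraMap A p.ResidueField a) =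
      algebraMap p.ResidueField L (σe.symm (algebraMap A' p'.ResidueField (algebraMap A A' a)))
    have : algebraMap A' p'.ResidueField (algebraMap A A' a) = σe (algebraMap A p.ResidueField a) :=
      (Ideal.ResidueField.map_algebraMap p p' (algebraMap A A') rfl a).symm
    rw [this, σe.symm_apply_apply])
  let e1 := Algebra.TensorProduct.cancelBaseChange A' p'.ResidueField p'.ResidueField L B'
  let e2 : L ⊗[A'] (A' ⊗[A] B) ≃ₐ[L] L ⊗[A'] B' :=
    Algebra.TensorProduct.congr AlgEquiv.refl e
  let e3 := Algebra.TensorProduct.cancelBaseChange A A' A' L B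
  let e4 := Algebra.TensorProduct.cancelBaseChange A p.ResidueField p.ResidueField L B
  have h0 := h L hfin'
  exact hP _ _ (((e1.toRingEquiv.trans e2.symm.toRingEquiv).trans e3.toRingEquiv).trans
    e4.symm.toRingEquiv) h0

/-- Forward transfer of a "geometric" property of a fibre along a base change `A → A'` which is
surjective on stalks, `B' = A' ⊗_A B`: from the fibre over `p = p' ∩ A` to the fibre over `p'`. -/
theorem fibre_transfer_fwd (A B : Type u) [CommRing A] [CommRing B]
    [Algebra A B] (A' B' : Type u) [CommRing A'] [CommRing B'] [Algebra A A'] [Algebra A' B']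
    (hf : (algebraMap A A').SurjectiveOnStalks) (e : A' ⊗[A] B ≃ₐ[A'] B')
    (P : ∀ (R : Type u) [CommRing R], Prop)
    (hP : ∀ (R R' : Type u) [CommRing R] [CommRing R'], (R ≃+* R') → P R → P R')
    (p' : Ideal A') [p'.IsPrime] (p : Ideal A) [p.IsPrime] (hp : p = p'.comap (algebraMap A A'))
    (h : ∀ (k' : Type u) [Field k'] [Algebra p.ResidueField k'],
      Module.Finite p.ResidueField k' → P (k' ⊗[p.ResidueField] (p.Fiber B)))
    (k'' : Type u) [Field k''] [Algebra p'.ResidueField k'']
    (hk'' : Module.Finite p'.ResidueField k'') :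
    P (k'' ⊗[p'.ResidueField] (p'.Fiber B')) := by
  subst hp
  set p : Ideal A := p'.comap (algebraMap A A') with hpdef
  let σ : p.ResidueField →+* p'.ResidueField := Ideal.ResidueField.map p p' (algebraMap A A') rfl
  have hσ : Bijective σ := RingHom.SurjectiveOnStalks.residueFieldMap_bijective hf p p' rfl
  let L := k''
  letI : Algebra p.ResidueField p'.ResidueField := σ.toAlgebra
  letI : Algebra p.ResidueField L := ((algebraMap p'.ResidueField L).comp σ).toAlgebra
  have ht0 : IsScalarTower p.ResidueField p'.ResidueField L :=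
    IsScalarTower.of_algebraMap_eq (fun a => rfl)
  have hf0 : Module.Finite p.ResidueField p'.ResidueField :=
    Module.Finite.of_surjective (Algebra.linearMap p.ResidueField p'.ResidueField) hσ.2
  have hfin' : Module.Finite p.ResidueField L := Module.Finite.trans p'.ResidueField L
  letI : Algebra A' L :=
    ((algebraMap p'.ResidueField L).comp (algebraMap A' p'.ResidueField)).toAlgebra
  have ht1 : IsScalarTower A' p'.ResidueField L := IsScalarTower.of_algebraMap_eq (fun a => rfl)
  letI : Algebra A L := ((algebraMap A' L).comp (algebraMap A A')).toAlgebra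
  have ht2 : IsScalarTower A A' L := IsScalarTower.of_algebraMap_eq (fun a => rfl)
  have htower : IsScalarTower A p.ResidueField L := IsScalarTower.of_algebraMap_eq (fun a => by
    show algebraMap p'.ResidueField L (algebraMap A' p'.ResidueField (algebraMap A A' a)) =
      algebraMap p'.ResidueField L (σ (algebraMap A p.ResidueField a))
    rw [Ideal.ResidueField.map_algebraMap])
  let e1 := Algebra.TensorProduct.cancelBaseChange A' p'.ResidueField p'.ResidueField L B'
  let e2 : L ⊗[A'] (A' ⊗[A] B) ≃ₐ[L] L ⊗[A'] B' :=
    Algebra.TensorProduct.congr AlgEquiv.refl e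
  let e3 := Algebra.TensorProduct.cancelBaseChange A A' A' L B
  let e4 := Algebra.TensorProduct.cancelBaseChange A p.ResidueField p.ResidueField L B
  have h0 := h L hfin'
  exact hP _ _ (((e4.toRingEquiv.trans e3.symm.toRingEquiv).trans e2.toRingEquiv).trans
    e1.symm.toRingEquiv) h0

section CplQuot

variable (R : Type u) [CommRing R] [IsNoetherianRing R] (q : Ideal R) [q.IsPrime]
  (P : Ideal (R ⧸ q)) [P.IsPrime] (p : Ideal R) [p.IsPrime]
  (hpP : p = P.comap (Ideal.Quotient.mk q))

include hpP in
theorem le_of_eq_comap : q ≤ p := by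
  rw [hpP]
  intro x hx
  rw [Ideal.mem_comap, Ideal.Quotient.eq_zero_iff_mem.mpr hx]
  exact P.zero_mem

/-- the kernel of `R_p → (R/q)_P` -/
theorem ker_localRingHom :
    RingHom.ker (Localization.localRingHom p P (Ideal.Quotient.mk q) hpP) =
      q.map (algebraMap R (Localization.AtPrime p)) := by
  let A := Localization.AtPrime p
  let D := Localization.AtPrime P
  let g := Localization.localRingHom p P (Ideal.Quotient.mk q) hpP
  apply le_antisymm
  · intro x hx
    obtain ⟨r, s, rfl⟩ := IsLocalization.exists_mk'_eq p.primeCompl x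
    have h1 : g (IsLocalization.mk' A r s) * g (algebraMap R A s) = g (algebraMap R A r) := by
      rw [← map_mul, IsLocalization.mk'_spec]
    rw [(RingHom.mem_ker).mp hx, zero_mul] at h1
    have h2 : algebraMap (R ⧸ q) D (Ideal.Quotient.mk q r) = 0 := by
      rw [← Localization.localRingHom_to_map p P (Ideal.Quotient.mk q) hpP r]
      exact h1.symm
    have hinj : Function.Injective (algebraMap (R ⧸ q) D) :=
      IsLocalization.injective D (M := P.primeCompl) P.primeCompl_le_nonZeroDivisors
    have h3 : Ideal.Quotient.mk q r = 0 := hinj (by rw [h2, map_zero])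
    have h4 : r ∈ q := Ideal.Quotient.eq_zero_iff_mem.mp h3
    rw [IsLocalization.mk'_eq_mul_mk'_one]
    exact Ideal.mul_mem_right _ _ (Ideal.mem_map_of_mem _ h4)
  · rw [Ideal.map_le_iff_le_comap]
    intro r hr
    rw [Ideal.mem_comap, RingHom.mem_ker, Localization.localRingHom_to_map,
      Ideal.Quotient.eq_zero_iff_mem.mpr hr, map_zero]

include hpP in
theorem localRingHom_surjective :
    Function.Surjective (Localization.localRingHom p P (Ideal.Quotient.mk q) hpP) := by
  subst hpP
  exact RingHom.surjective_localRingHom_of_surjective (Ideal.Quotient.mk q)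
    Ideal.Quotient.mk_surjective P

include hpP in
/-- `Cpl ((R/q)_P) ≅ (R/q) ⊗_R Cpl (R_p)` as `R/q`-algebras. -/
theorem exists_cpl_equiv :
    Nonempty ((R ⧸ q) ⊗[R] EGA4.Cpl (Localization.AtPrime p) ≃ₐ[R ⧸ q]
      EGA4.Cpl (Localization.AtPrime P)) := by
  let A := Localization.AtPrime p
  let D := Localization.AtPrime P
  let g : A →+* D := Localization.localRingHom p P (Ideal.Quotient.mk q) hpP
  have hg : Surjective g := localRingHom_surjective R q P p hpP
  have hK : (maximalIdeal A).map g = maximalIdeal D :=
    IsLocalRing.map_maximalIdeal_of_surjective g hg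
  let ψ := complMap (maximalIdeal A) (maximalIdeal D) g hK.le
  have hψs : Surjective ψ :=
    Groth.Agent.Lead.CQ.complMap_surjective (maximalIdeal A) (maximalIdeal D) g hg hK
  have hψk : RingHom.ker ψ = q.map (algebraMap R (AdicCompletion (maximalIdeal A) A)) := by
    have := Groth.Agent.Lead.CQ.ker_complMap (maximalIdeal A) (maximalIdeal D) g hg hK
    rw [this, ker_localRingHom R q P p hpP, Ideal.map_map,
      ← IsScalarTower.algebraMap_eq R A (AdicCompletion (maximalIdeal A) A)]
  have hψof : ∀ r : R, ψ (algebraMap R (AdicCompletion (maximalIdeal A) A) r) =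
      algebraMap (R ⧸ q) (AdicCompletion (maximalIdeal D) D) (Ideal.Quotient.mk q r) := by
    intro r
    have h1 : algebraMap R (AdicCompletion (maximalIdeal A) A) r =
        AdicCompletion.of (maximalIdeal A) A (algebraMap R A r) := by
      rw [IsScalarTower.algebraMap_apply R A (AdicCompletion (maximalIdeal A) A),
        AdicCompletion.algebraMap_apply, Algebra.algebraMap_self, RingHom.id_apply]
    have h2 : algebraMap (R ⧸ q) (AdicCompletion (maximalIdeal D) D) (Ideal.Quotient.mk q r) =
        AdicCompletion.of (maximalIdeal D) D (algebraMap (R ⧸ q) D (Ideal.Quotient.mk q r)) := by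
      rw [IsScalarTower.algebraMap_apply (R ⧸ q) D (AdicCompletion (maximalIdeal D) D),
        AdicCompletion.algebraMap_apply, Algebra.algebraMap_self, RingHom.id_apply]
    rw [h1, h2, Groth.Agent.Lib.Helper6.ComplMapLib.complMap_of,
      Localization.localRingHom_to_map]
  let e0 : (AdicCompletion (maximalIdeal A) A ⧸
      q.map (algebraMap R (AdicCompletion (maximalIdeal A) A))) ≃+*
      AdicCompletion (maximalIdeal D) D :=
    (Ideal.quotEquivOfEq hψk.symm).trans (RingHom.quotientKerEquivOfSurjective hψs)
  have he0 : ∀ x, e0 (Ideal.Quotient.mk _ x) = ψ x := fun x => rfl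
  let e0' : (AdicCompletion (maximalIdeal A) A ⧸
      q.map (algebraMap R (AdicCompletion (maximalIdeal A) A))) ≃ₐ[R ⧸ q]
      AdicCompletion (maximalIdeal D) D :=
    AlgEquiv.ofRingEquiv (f := e0) (by
      intro x
      obtain ⟨a, rfl⟩ := Ideal.Quotient.mk_surjective x
      have : algebraMap (R ⧸ q) (AdicCompletion (maximalIdeal A) A ⧸
          q.map (algebraMap R (AdicCompletion (maximalIdeal A) A))) (Ideal.Quotient.mk q a) =
          Ideal.Quotient.mk _ (algebraMap R (AdicCompletion (maximalIdeal A) A) a) := rfl
      rw [this, he0, hψof])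
  exact ⟨(Algebra.TensorProduct.quotIdealMapEquivQuotTensor
    (AdicCompletion (maximalIdeal A) A) q).symm.trans e0'⟩

include hpP in
/-- from the generic formal fibre of `(R/q)_P` to the fibre of `R → Cpl (R_p)` over `q` -/
theorem chain
    (hG : CAlg.IsGeometricallyRegular (⊥ : Ideal (Localization.AtPrime P)).ResidueField
      (EGA4.formalFibre (Localization.AtPrime P) (⊥ : Ideal (Localization.AtPrime P))))
    (k' : Type u) [Field k'] [Algebra q.ResidueField k'] (hfin : Module.Finite q.ResidueField k') :
    IsRegularRing (k' ⊗[q.ResidueField] (q.Fiber (EGA4.Cpl (Localization.AtPrime p)))) := by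
  let D := Localization.AtPrime P
  have hP : ∀ (R R' : Type u) [CommRing R] [CommRing R'], (R ≃+* R') → IsRegularRing R →
      IsRegularRing R' := fun R R' _ _ e h => @IsRegularRing.of_ringEquiv _ _ _ _ e h
  have hinj : Function.Injective (algebraMap (R ⧸ q) D) :=
    IsLocalization.injective D (M := P.primeCompl) P.primeCompl_le_nonZeroDivisors
  have hbot : (⊥ : Ideal (R ⧸ q)) = (⊥ : Ideal D).comap (algebraMap (R ⧸ q) D) :=
    (Ideal.comap_bot_of_injective _ hinj).symm
  have step2 : ∀ (k' : Type u) [Field k'] [Algebra (⊥ : Ideal (R ⧸ q)).ResidueField k'],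
      Module.Finite (⊥ : Ideal (R ⧸ q)).ResidueField k' →
      IsRegularRing (k' ⊗[(⊥ : Ideal (R ⧸ q)).ResidueField]
        ((⊥ : Ideal (R ⧸ q)).Fiber (EGA4.Cpl D))) :=
    fun k' _ _ hk' => fibre_transfer_rev (R ⧸ q) (EGA4.Cpl D) D (EGA4.Cpl D)
      (RingHom.surjectiveOnStalks_of_isLocalization P.primeCompl D)
      (IsLocalization.algebraLid P.primeCompl D (EGA4.Cpl D))
      (fun R _ => IsRegularRing R) hP ⊥ ⊥ hbot (fun k'' _ _ hk'' => hG k'' hk'') k' hk'
  obtain ⟨e⟩ := exists_cpl_equiv R q P p hpP
  have hq : q = (⊥ : Ideal (R ⧸ q)).comap (algebraMap R (R ⧸ q)) := by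
    rw [Ideal.Quotient.algebraMap_eq, ← RingHom.ker_eq_comap_bot, Ideal.mk_ker]
  exact fibre_transfer_rev R (EGA4.Cpl (Localization.AtPrime p)) (R ⧸ q) (EGA4.Cpl D)
    (RingHom.surjectiveOnStalks_of_surjective Ideal.Quotient.mk_surjective) e
    (fun R _ => IsRegularRing R) hP ⊥ q hq step2 k' hfin

end CplQuot

/-- **S9257** -/
theorem s9257 (R : Type u) [CommRing R] [IsNoetherianRing R] :
    CAlg.IsGRing R ↔
      ∀ (q : Ideal R) [q.IsPrime] (P : Ideal (R ⧸ q)) [P.IsPrime],
        CAlg.IsGeometricallyRegular (⊥ : Ideal (Localization.AtPrime P)).ResidueField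
          (EGA4.formalFibre (Localization.AtPrime P) (⊥ : Ideal (Localization.AtPrime P))) := by
  constructor
  · intro hR q _ P _
    have h1 : CAlg.IsRegularHom (Localization.AtPrime P) (EGA4.Cpl (Localization.AtPrime P)) :=
      Groth.Agent.Helper7.QFReg.isRegularHom_cpl_of_finite R (R ⧸ q) P
        (P.comap (algebraMap R (R ⧸ q))) rfl (hR.2 _)
    exact (h1.2 ⊥).2
  · intro hG
    refine ⟨inferInstance, fun p _ => ?_⟩
    let A := Localization.AtPrime p
    haveI hNAh : IsNoetherianRing (EGA4.Cpl A) :=
      Groth.Agent.Helper1.isNoetherianRing_adicCompletion_of_fg A (maximalIdeal A)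
        (IsNoetherian.noetherian _)
    refine ⟨inferInstance, fun p₀ _ =>
      ⟨Groth.Agent.Lead.Fib.isNoetherianRing_fiber p₀, fun k'' _ _ hk'' => ?_⟩⟩
    set q : Ideal R := p₀.comap (algebraMap R A) with hq
    haveI : q.IsPrime := Ideal.comap_isPrime _ _
    have hqp : q ≤ p := by
      have h1 : p₀ ≤ maximalIdeal A := IsLocalRing.le_maximalIdeal (Ideal.IsPrime.ne_top inferInstance)
      have h2 : (maximalIdeal A).comap (algebraMap R A) = p :=
        IsLocalization.AtPrime.under_maximalIdeal A p
      rw [← h2]
      exact Ideal.comap_mono h1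
    let P : Ideal (R ⧸ q) := p.map (Ideal.Quotient.mk q)
    haveI : P.IsPrime := Ideal.map_isPrime_of_surjective Ideal.Quotient.mk_surjective
      (by rw [Ideal.mk_ker]; exact hqp)
    have hpP : p = P.comap (Ideal.Quotient.mk q) := by
      rw [Ideal.comap_map_of_surjective _ Ideal.Quotient.mk_surjective,
        ← RingHom.ker_eq_comap_bot, Ideal.mk_ker]
      exact (sup_eq_left.mpr hqp).symm
    have hP : ∀ (R R' : Type u) [CommRing R] [CommRing R'], (R ≃+* R') → IsRegularRing R →
        IsRegularRing R' := fun R R' _ _ e h => @IsRegularRing.of_ringEquiv _ _ _ _ e h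
    exact fibre_transfer_fwd R (EGA4.Cpl A) A (EGA4.Cpl A)
      (RingHom.surjectiveOnStalks_of_isLocalization p.primeCompl A)
      (IsLocalization.algebraLid p.primeCompl A (EGA4.Cpl A))
      (fun R _ => IsRegularRing R) hP p₀ q rfl
      (fun k' _ _ hk' => chain R q P p hpP (hG q P) k' hk') k'' hk''

end Groth.Agent.Helper7.GRingGen
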