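import Groth.Prelude.Def_W4c2lssmoduliGProp
import Groth.Agent.Lib.Helper4.DVRUC
import Groth.Agent.Lib.Helper4.QCImage
import Groth.Agent.Lib.Helper7.FinQuotB

/-!
# G-universally closed morphisms: the DVR step (helper7)
-/

set_option autoImplicit false
set_option linter.style.haveILetI false
universe u
open CategoryTheory CategoryTheory.Limits AlgebraicGeometry MonoidalCategory
  CartesianMonoidalCategory

namespace Groth.Agent.Helper7.GUC

variable {B : Scheme.{u}} {G R S T : Over B} [GrpObj G]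

set_option maxHeartbeats 1600000 in
/-- the DVR step: a specialization downstairs is realised by a DVR mapping to `R` after a translation
by the group. -/
theorem dvr_step (a : AlgGrp.Action G R) (f : R ⟶ S) (q : S ⟶ T)
    (hf : W4c2lssmoduli.IsInvariantMor a f) (hp : W4c2lssmoduli.IsGUnivClosed a (f ≫ q))
    {W T' : Scheme.{u}} [IsLocallyNoetherian T'] (r : W ⟶ R.left) (τ : T' ⟶ T.left)
    (ψ : W ⟶ T') [LocallyOfFiniteType ψ] (hc : r ≫ (f ≫ q).left = ψ ≫ τ)
    (w : W) (t₂ : T') (hsp : ψ.base w ⤳ t₂) (hne : t₂ ≠ ψ.base w) :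
    ∃ (A : ValuationSubring (W.residueField w)) (h : Spec (CommRingCat.of A) ⟶ T')
      (i : Spec (CommRingCat.of A) ⟶ R.left),
      IsDiscreteValuationRing A ∧ h.base (IsLocalRing.closedPoint A) = t₂ ∧
      Spec.map (CommRingCat.ofHom A.subtype) ≫ h = W.fromSpecResidueField w ≫ ψ ∧
      i ≫ (f ≫ q).left = h ≫ τ ∧
      Spec.map (CommRingCat.ofHom A.subtype) ≫ i ≫ f.left =
        W.fromSpecResidueField w ≫ r ≫ f.left := by
  obtain ⟨A, h, hA, hclosed, hcomm⟩ :=
    Groth.Agent.Helper4.DVRSpec.exists_dvr_through_specialization ψ w t₂ hsp hne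
  haveI := hA
  let K := W.residueField w
  let sA : Spec (CommRingCat.of A) ⟶ B := h ≫ τ ≫ T.hom
  have hj : CommRingCat.ofHom (algebraMap A K) = CommRingCat.ofHom A.subtype := rfl
  have hR : R.hom = (f ≫ q).left ≫ T.hom := (Over.w (f ≫ q)).symm
  have hg : (W.fromSpecResidueField w ≫ r) ≫ R.hom =
      Spec.map (CommRingCat.ofHom (algebraMap A K)) ≫ sA := by
    rw [hj, hR, Category.assoc, ← Category.assoc r, hc, Category.assoc, ← Category.assoc,
      ← hcomm, Category.assoc]
  let g : Over.mk (Spec.map (CommRingCat.ofHom (algebraMap A K)) ≫ sA) ⟶ R :=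
    Over.homMk (W.fromSpecResidueField w ≫ r) hg
  let h' : Over.mk sA ⟶ T := Over.homMk (h ≫ τ) (by simp [sA])
  obtain ⟨i, c, hi₁, hi₂⟩ := hp.2 A K sA g h' (by
    apply Over.OverMorphism.ext
    show (W.fromSpecResidueField w ≫ r) ≫ (f ≫ q).left =
      Spec.map (CommRingCat.ofHom (algebraMap A K)) ≫ h ≫ τ
    rw [hj, Category.assoc, hc, ← Category.assoc, ← hcomm, Category.assoc])
  refine ⟨A, h, i.left, hA, hclosed, hcomm, ?_, ?_⟩
  · have := congrArg (fun m => m.left) hi₁
    exact this
  · have h1 := congrArg (fun m => (m ≫ f).left) hi₂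
    have h2 : (CartesianMonoidalCategory.lift c g ≫ a.act) ≫ f = g ≫ f := by
      rw [Category.assoc, hf, lift_snd_assoc]
    simp only [h2] at h1
    rw [← hj]
    simpa [g] using h1

end Groth.Agent.Helper7.GUC
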