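import Groth.Agent.Lib.Helper7.GUCA

/-!
# G-universally closed morphisms: closed image (helper7)
-/

set_option autoImplicit false
set_option linter.style.haveILetI false
universe u
open CategoryTheory CategoryTheory.Limits AlgebraicGeometry MonoidalCategory
  CartesianMonoidalCategory

namespace Groth.Agent.Helper7.GUC

theorem isDominant_SpecMap_of_injective {A B : CommRingCat.{u}} (f : A ⟶ B)
    (hf : Function.Injective f.hom) : IsDominant (Spec.map f) := by
  refine ⟨?_⟩
  have h : DenseRange (PrimeSpectrum.comap f.hom) := by
    rw [PrimeSpectrum.denseRange_comap_iff_ker_le_nilRadical,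
      (RingHom.injective_iff_ker_eq_bot f.hom).mp hf]
    exact bot_le
  exact h

variable {B : Scheme.{u}} {G R S T : Over B} [GrpObj G]

set_option maxHeartbeats 1600000 in
theorem isClosed_range [IsLocallyNoetherian B]
    [LocallyOfFiniteType R.hom] [CompactSpace ↥R.left] [LocallyOfFiniteType S.hom]
    (a : AlgGrp.Action G R) (f : R ⟶ S) (q : S ⟶ T) [IsSeparated q.left]
    (hf : W4c2lssmoduli.IsInvariantMor a f) (hp : W4c2lssmoduli.IsGUnivClosed a (f ≫ q)) :
    IsClosed (Set.range f.left.base) := by
  haveI : IsLocallyNoetherian S.left := LocallyOfFiniteType.isLocallyNoetherian S.hom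
  haveI : LocallyOfFiniteType f.left := by
    haveI : LocallyOfFiniteType (f.left ≫ S.hom) := by rw [Over.w]; infer_instance
    exact locallyOfFiniteType_of_comp f.left S.hom
  haveI : QuasiCompact f.left := inferInstance
  have hst : StableUnderSpecialization (f.left.base '' Set.univ) := by
    rw [Set.image_univ]
    rintro x s₂ hxs ⟨r₀, rfl⟩
    by_cases hne : s₂ = f.left.base r₀
    · exact ⟨r₀, hne.symm⟩
    obtain ⟨A, h, i, hA, hcl, hcomm, hi₁, hi₂⟩ :=
      dvr_step a f q hf hp (𝟙 R.left) q.left f.left (by simp) r₀ s₂ hxs hne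
    haveI := hA
    have key : i ≫ f.left = h := by
      haveI : IsDominant (Spec.map (CommRingCat.ofHom A.subtype)) :=
        isDominant_SpecMap_of_injective _ Subtype.val_injective
      refine ext_of_isDominant_of_isSeparated q.left ?_
        (Spec.map (CommRingCat.ofHom A.subtype)) ?_
      · rw [Category.assoc]
        exact hi₁
      · rw [hi₂, hcomm, Category.id_comp]
    refine ⟨i.base (IsLocalRing.closedPoint A), ?_⟩
    rw [← hcl, ← key]
    rfl
  have := Groth.Agent.Helper4.QCImage.isClosed_image_of_stableUnderSpecialization f.left Set.univ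
    isClosed_univ hst
  rwa [Set.image_univ] at this

end Groth.Agent.Helper7.GUC
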