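import Groth.Agent.Lib.Helper7.GUCB

/-!
# G-universally closed morphisms: properness of the image (helper7)
-/

set_option autoImplicit false
set_option linter.style.haveILetI false
universe u
open CategoryTheory CategoryTheory.Limits AlgebraicGeometry MonoidalCategory
  CartesianMonoidalCategory

namespace Groth.Agent.Helper7.GUC

variable {B : Scheme.{u}} {G R S T : Over B} [GrpObj G]

set_option maxHeartbeats 3200000 in
theorem specializingMap_snd
    [LocallyOfFiniteType R.hom] [LocallyOfFiniteType S.hom]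
    (a : AlgGrp.Action G R) (f : R ⟶ S) (q : S ⟶ T) [LocallyOfFiniteType q.left]
    (hf : W4c2lssmoduli.IsInvariantMor a f) (hp : W4c2lssmoduli.IsGUnivClosed a (f ≫ q))
    {Z : Scheme.{u}} (ζ : Z ⟶ S.left) [IsClosedImmersion ζ]
    (hζ : Set.range ζ.base = Set.range f.left.base)
    {T' : Scheme.{u}} [IsLocallyNoetherian T'] (τ : T' ⟶ T.left) :
    SpecializingMap (pullback.snd (ζ ≫ q.left) τ).base := by
  intro z' t₂ hzt
  by_cases hne : t₂ = (pullback.snd (ζ ≫ q.left) τ).base z'
  · exact ⟨z', specializes_rfl, hne.symm⟩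
  haveI : LocallyOfFiniteType f.left := by
    haveI : LocallyOfFiniteType (f.left ≫ S.hom) := by rw [Over.w]; infer_instance
    exact locallyOfFiniteType_of_comp f.left S.hom
  let φ := ζ ≫ q.left
  let g₀ : pullback f.left ζ ⟶ Z := pullback.snd f.left ζ
  haveI : Surjective g₀ := by
    refine ⟨fun z => ?_⟩
    obtain ⟨r₀, hr₀⟩ : ζ.base z ∈ Set.range f.left.base := hζ ▸ Set.mem_range_self z
    obtain ⟨w₀, -, hw2⟩ := Scheme.Pullback.exists_preimage_pullback r₀ z hr₀
    exact ⟨w₀, hw2⟩
  let ρ : pullback g₀ (pullback.fst φ τ) ⟶ pullback φ τ := pullback.snd g₀ (pullback.fst φ τ)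
  haveI : Surjective ρ := inferInstance
  obtain ⟨w, hw⟩ := ρ.surjective z'
  let ψ := ρ ≫ pullback.snd φ τ
  let r := pullback.fst g₀ (pullback.fst φ τ) ≫ pullback.fst f.left ζ
  have hc : r ≫ (f ≫ q).left = ψ ≫ τ := by
    show (pullback.fst g₀ (pullback.fst φ τ) ≫ pullback.fst f.left ζ) ≫ f.left ≫ q.left =
      (ρ ≫ pullback.snd φ τ) ≫ τ
    have e1 : pullback.fst f.left ζ ≫ f.left = g₀ ≫ ζ := pullback.condition
    have e2 : pullback.fst φ τ ≫ φ = pullback.snd φ τ ≫ τ := pullback.condition
    have e3 : pullback.fst g₀ (pullback.fst φ τ) ≫ g₀ = ρ ≫ pullback.fst φ τ := pullback.condition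
    rw [Category.assoc, ← Category.assoc (pullback.fst f.left ζ), e1, Category.assoc,
      ← Category.assoc (pullback.fst g₀ (pullback.fst φ τ)), e3, Category.assoc, Category.assoc, ← e2]
  have hψw : ψ.base w = (pullback.snd φ τ).base z' := by
    rw [← hw]; rfl
  obtain ⟨A, h, i, hA, hcl, hcomm, hi₁, hi₂⟩ := dvr_step a f q hf hp r τ ψ hc w t₂
    (by rw [hψw]; exact hzt) (by rw [hψw]; exact hne)
  haveI := hA
  obtain ⟨iZ, hiZ⟩ := Groth.Agent.Helper7.FinQuot.exists_lift_of_isReduced (i ≫ f.left) ζ (by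
    rw [hζ]
    rintro _ ⟨x, rfl⟩
    exact ⟨i.base x, rfl⟩)
  let l : Spec (CommRingCat.of A) ⟶ pullback φ τ := pullback.lift iZ h (by
    show iZ ≫ ζ ≫ q.left = h ≫ τ
    rw [← Category.assoc, hiZ, Category.assoc]
    exact hi₁)
  have hjl : Spec.map (CommRingCat.ofHom A.subtype) ≫ l =
      (pullback g₀ (pullback.fst φ τ)).fromSpecResidueField w ≫ ρ := by
    apply pullback.hom_ext
    · rw [← cancel_mono ζ]
      have e1 : pullback.fst f.left ζ ≫ f.left = g₀ ≫ ζ := pullback.condition
      have e3 : pullback.fst g₀ (pullback.fst φ τ) ≫ g₀ = ρ ≫ pullback.fst φ τ :=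
        pullback.condition
      simp only [Category.assoc, l, pullback.lift_fst]
      rw [hiZ, hi₂]
      congr 1
      show (pullback.fst g₀ (pullback.fst φ τ) ≫ pullback.fst f.left ζ) ≫ f.left =
        ρ ≫ pullback.fst φ τ ≫ ζ
      rw [Category.assoc, e1, ← Category.assoc, e3, Category.assoc]
    · simp only [Category.assoc, l, pullback.lift_snd]
      exact hcomm
  refine ⟨l.base (IsLocalRing.closedPoint A), ?_, ?_⟩
  · let gen : Spec (CommRingCat.of A) :=
      (Spec.map (CommRingCat.ofHom A.subtype)).base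
        (IsLocalRing.closedPoint ((pullback g₀ (pullback.fst φ τ)).residueField w))
    have hgen : l.base gen = z' := by
      show l.base ((Spec.map (CommRingCat.ofHom A.subtype)).base _) = z'
      rw [← Scheme.Hom.comp_apply, hjl, Scheme.Hom.comp_apply,
        Scheme.fromSpecResidueField_apply, hw]
    have h3 := (IsLocalRing.specializes_closedPoint gen).map l.continuous
    rwa [hgen] at h3
  · rw [← Scheme.Hom.comp_apply, pullback.lift_snd]
    exact hcl

end Groth.Agent.Helper7.GUC
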