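import Groth.Agent.Lib.Helper7.GUCC

/-!
# G-universally closed morphisms: properness of the image (helper7)
-/

set_option autoImplicit false
set_option linter.style.haveILetI false
universe u
open CategoryTheory CategoryTheory.Limits AlgebraicGeometry MonoidalCategory
  CartesianMonoidalCategory

namespace Groth.Agent.Helper7.GUC

variable {B : Scheme.{u}} {G R S T : Over B} [GrpObj G]

set_option maxHeartbeats 1600000 in
theorem isProper_of_range_eq [IsLocallyNoetherian B]
    [LocallyOfFiniteType R.hom] [LocallyOfFiniteType S.hom] [CompactSpace ↥S.left]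
    [LocallyOfFiniteType T.hom]
    (a : AlgGrp.Action G R) (f : R ⟶ S) (q : S ⟶ T) [IsSeparated q.left]
    (hf : W4c2lssmoduli.IsInvariantMor a f) (hp : W4c2lssmoduli.IsGUnivClosed a (f ≫ q))
    {Z : Scheme.{u}} (ζ : Z ⟶ S.left) [IsClosedImmersion ζ]
    (hζ : Set.range ζ.base = Set.range f.left.base) :
    IsProper (ζ ≫ q.left) := by
  haveI : IsLocallyNoetherian T.left := LocallyOfFiniteType.isLocallyNoetherian T.hom
  haveI : LocallyOfFiniteType q.left := by
    haveI : LocallyOfFiniteType (q.left ≫ T.hom) := by rw [Over.w]; infer_instance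
    exact locallyOfFiniteType_of_comp q.left T.hom
  haveI : QuasiCompact q.left := inferInstance
  haveI : LocallyOfFiniteType (ζ ≫ q.left) := inferInstance
  haveI : QuasiCompact (ζ ≫ q.left) := inferInstance
  haveI : IsSeparated (ζ ≫ q.left) := inferInstance
  haveI : UniversallyClosed (ζ ≫ q.left) := by
    apply Groth.Agent.Helper4.UCAff.universallyClosed_of_affineSpace (ζ ≫ q.left)
    intro n
    haveI : IsLocallyNoetherian 𝔸(ULift.{u} (Fin n); T.left) :=
      LocallyOfFiniteType.isLocallyNoetherian (𝔸(ULift.{u} (Fin n); T.left) ↘ T.left)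
    rw [isClosedMap_iff_specializingMap]
    exact specializingMap_snd a f q hf hp ζ hζ _
  exact { }

end Groth.Agent.Helper7.GUC
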