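import Mathlib

/-!
# Images of finite type ring maps contain a neighbourhood of a "generic" point (helper7)
-/

open TensorProduct

universe u

namespace Groth.Agent.Helper7.GenImage

/-- Lemma 1': if the images of generators of `B` in a field `L` become integral over `A` after
multiplication by `a`, then every prime of `A` containing `ker (A → L)` and not containing `a`
is in the image of `Spec B → Spec A`. -/
theorem mem_range_comap_of_integral_multiples {A B L : Type*} [CommRing A] [CommRing B] [Field L]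
    [Algebra A B] [Algebra A L] (ψ : B →ₐ[A] L) (s : Set B)
    (hs : Algebra.adjoin A s = ⊤) (a : A) (ha : ∀ b ∈ s, IsIntegral A (a • ψ b))
    (p : PrimeSpectrum A) (hp : RingHom.ker (algebraMap A L) ≤ p.asIdeal) (hap : a ∉ p.asIdeal) :
    p ∈ Set.range (PrimeSpectrum.comap (algebraMap A B)) := by
  let C' : Subalgebra A L := Algebra.adjoin A ((fun b => a • ψ b) '' s)
  have hint : Algebra.IsIntegral A C' := Algebra.IsIntegral.adjoin (by
    rintro _ ⟨b, hb, rfl⟩
    exact ha b hb)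
  -- (i)
  have hi : ∀ y : B, ∃ N : ℕ, a ^ N • ψ y ∈ C' := by
    intro y
    have hy : y ∈ Algebra.adjoin A s := by rw [hs]; trivial
    induction hy using Algebra.adjoin_induction with
    | mem b hb =>
      exact ⟨1, by rw [pow_one]; exact Algebra.subset_adjoin ⟨b, hb, rfl⟩⟩
    | algebraMap r =>
      exact ⟨0, by rw [pow_zero, one_smul, AlgHom.commutes]; exact Subalgebra.algebraMap_mem _ r⟩
    | add y₁ y₂ _ _ h₁ h₂ =>
      obtain ⟨N₁, h₁⟩ := h₁
      obtain ⟨N₂, h₂⟩ := h₂
      refine ⟨N₁ + N₂, ?_⟩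
      have e : a ^ (N₁ + N₂) • ψ (y₁ + y₂) =
          a ^ N₂ • (a ^ N₁ • ψ y₁) + a ^ N₁ • (a ^ N₂ • ψ y₂) := by
        rw [map_add, smul_add, smul_smul, smul_smul, pow_add, mul_comm (a ^ N₂)]
      rw [e]
      exact add_mem (Subalgebra.smul_mem _ h₁ _) (Subalgebra.smul_mem _ h₂ _)
    | mul y₁ y₂ _ _ h₁ h₂ =>
      obtain ⟨N₁, h₁⟩ := h₁
      obtain ⟨N₂, h₂⟩ := h₂
      refine ⟨N₁ + N₂, ?_⟩
      have e : a ^ (N₁ + N₂) • ψ (y₁ * y₂) = (a ^ N₁ • ψ y₁) * (a ^ N₂ • ψ y₂) := by
        rw [map_mul, smul_mul_smul_comm, pow_add]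
      rw [e]
      exact mul_mem h₁ h₂
  -- (ii)
  have hker : RingHom.ker (algebraMap A C') ≤ p.asIdeal := by
    intro x hx
    apply hp
    rw [RingHom.mem_ker] at hx ⊢
    have := congrArg (Subtype.val : C' → L) hx
    simpa using this
  obtain ⟨q', hq'prime, hq'⟩ :=
    Ideal.exists_ideal_over_prime_of_isIntegral_of_isDomain (S := C') p.asIdeal hker
  -- (iii)
  rw [PrimeSpectrum.mem_range_comap_iff]
  refine le_antisymm ?_ Ideal.le_comap_map
  intro x hx
  rw [Ideal.mem_comap] at hx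
  have key : ∀ y ∈ p.asIdeal.map (algebraMap A B),
      ∃ (N : ℕ) (z : C'), z ∈ q' ∧ (z : L) = a ^ N • ψ y := by
    intro y hy
    refine Submodule.span_induction ?_ ?_ ?_ ?_ hy
    · rintro _ ⟨r, hr, rfl⟩
      refine ⟨0, algebraMap A C' r, ?_, ?_⟩
      · have : r ∈ q'.comap (algebraMap A C') := by rw [hq']; exact hr
        exact this
      · rw [pow_zero, one_smul, AlgHom.commutes]; rfl
    · exact ⟨0, 0, zero_mem _, by simp⟩
    · rintro y₁ y₂ _ _ ⟨N₁, z₁, hz₁, e₁⟩ ⟨N₂, z₂, hz₂, e₂⟩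
      refine ⟨N₁ + N₂, a ^ N₂ • z₁ + a ^ N₁ • z₂, ?_, ?_⟩
      · exact add_mem (Submodule.smul_of_tower_mem q' _ hz₁) (Submodule.smul_of_tower_mem q' _ hz₂)
      · push_cast
        rw [e₁, e₂, map_add, smul_add, smul_smul,
          smul_smul, pow_add, mul_comm (a ^ N₂)]
    · rintro b y _ ⟨N, z, hz, e⟩
      obtain ⟨M, hM⟩ := hi b
      refine ⟨M + N, ⟨_, hM⟩ * z, Ideal.mul_mem_left _ _ hz, ?_⟩
      push_cast
      rw [e, smul_eq_mul, map_mul, smul_mul_smul_comm, pow_add]
  obtain ⟨N, z, hz, e⟩ := key _ hx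
  have hz' : z = algebraMap A C' (a ^ N * x) := by
    apply Subtype.ext
    rw [e, AlgHom.commutes]
    change a ^ N • algebraMap A L x = algebraMap A L (a ^ N * x)
    rw [map_mul, Algebra.smul_def]
  have h1 : a ^ N * x ∈ q'.comap (algebraMap A C') := by
    rw [Ideal.mem_comap, ← hz']; exact hz
  rw [hq'] at h1
  rcases p.2.mem_or_mem h1 with h2 | h2
  · exact absurd (p.2.mem_of_pow_mem N h2) hap
  · exact h2

/-- If `p₀` is in the image of `Spec B → Spec A` for a finite type `A`-algebra `B`, there is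
`a ∉ p₀` such that every prime containing `p₀` and not containing `a` is in the image. -/
theorem exists_forall_mem_range_comap {A B : Type u} [CommRing A] [CommRing B] [Algebra A B]
    [Algebra.FiniteType A B] (p₀ : PrimeSpectrum A)
    (hp₀ : p₀ ∈ Set.range (PrimeSpectrum.comap (algebraMap A B))) :
    ∃ a : A, a ∉ p₀.asIdeal ∧ ∀ p : PrimeSpectrum A, p₀.asIdeal ≤ p.asIdeal → a ∉ p.asIdeal →
      p ∈ Set.range (PrimeSpectrum.comap (algebraMap A B)) := by
  classical
  let κ := p₀.asIdeal.ResidueField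
  have hnt : Nontrivial (κ ⊗[A] B) := (PrimeSpectrum.nontrivial_iff_mem_rangeComap p₀).2 hp₀
  obtain ⟨M, hM⟩ := Ideal.exists_maximal (κ ⊗[A] B)
  let L := (κ ⊗[A] B) ⧸ M
  let _ : Field L := Ideal.Quotient.field M
  have hftT : Algebra.FiniteType κ (κ ⊗[A] B) := inferInstance
  have hftL : Algebra.FiniteType κ L :=
    Algebra.FiniteType.of_surjective (Ideal.Quotient.mkₐ κ M) Ideal.Quotient.mk_surjective
  have hfin : Module.Finite κ L := finite_of_finite_type_of_isJacobsonRing κ L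
  let ψ : B →ₐ[A] L := (Ideal.Quotient.mkₐ A M).comp Algebra.TensorProduct.includeRight
  have hkerL : RingHom.ker (algebraMap A L) = p₀.asIdeal := by
    rw [IsScalarTower.algebraMap_eq A κ L, ← RingHom.comap_ker,
      (RingHom.injective_iff_ker_eq_bot _).1 (algebraMap κ L).injective,
      ← RingHom.ker_eq_comap_bot, Ideal.ker_algebraMap_residueField]
  -- integral multiples
  have hmult : ∀ ℓ : L, ∃ a' : A, a' ∉ p₀.asIdeal ∧ IsIntegral A (a' • ℓ) := by
    intro ℓ
    have hℓ : IsIntegral κ ℓ := Algebra.IsIntegral.isIntegral ℓ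
    have hint : Algebra.IsIntegral (Localization.AtPrime p₀.asIdeal) κ := inferInstance
    have h2 : IsIntegral (Localization.AtPrime p₀.asIdeal) ℓ := isIntegral_trans _ hℓ
    obtain ⟨⟨m, hm⟩, hmint⟩ := IsIntegral.exists_multiple_integral_of_isLocalization
      p₀.asIdeal.primeCompl ℓ h2
    exact ⟨m, hm, hmint⟩
  obtain ⟨s, hs⟩ := (inferInstance : Algebra.FiniteType A B).out
  choose a' ha'1 ha'2 using fun b : B => hmult (ψ b)
  refine ⟨∏ b ∈ s, a' b, ?_, fun p hp hap => ?_⟩
  · intro h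
    obtain ⟨b, -, hb⟩ := (p₀.2.prod_mem_iff).1 h
    exact ha'1 b hb
  · refine mem_range_comap_of_integral_multiples ψ (s : Set B) hs (∏ b ∈ s, a' b) ?_ p
      (by rw [hkerL]; exact hp) hap
    intro b hb
    have hb' : b ∈ s := hb
    rw [← Finset.mul_prod_erase s a' hb', mul_comm, mul_smul]
    exact (ha'2 b).smul _

end Groth.Agent.Helper7.GenImage
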