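import Mathlib.Topology.Sober
import Mathlib.Topology.Irreducible
import Mathlib.Topology.Inseparable

set_option autoImplicit false

namespace Groth.Agent.Helper7

/-- For a continuous generalizing map between quasi-sober spaces, the closure of the image of an
irreducible component is an irreducible component. -/
theorem closure_image_mem_irreducibleComponents {X Y : Type*} [TopologicalSpace X]
    [TopologicalSpace Y] [QuasiSober X] [QuasiSober Y] {f : X → Y} (hfc : Continuous f)
    (hf : GeneralizingMap f) (T : Set X) (hT : T ∈ irreducibleComponents X) :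
    closure (f '' T) ∈ irreducibleComponents Y := by
  have hTirr : IsIrreducible T := hT.1
  have hTcl : IsClosed T := isClosed_of_mem_irreducibleComponents T hT
  obtain ⟨ξ, hξ⟩ := QuasiSober.sober hTirr hTcl
  have hξT : ξ ∈ T := hξ.mem
  have h1 : closure (f '' T) = closure {f ξ} := by
    apply le_antisymm
    · apply closure_minimal _ isClosed_closure
      rw [← hξ.def]
      refine (image_closure_subset_closure_image hfc).trans ?_
      rw [Set.image_singleton]
    · apply closure_mono
      rw [Set.singleton_subset_iff]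
      exact ⟨ξ, hξT, rfl⟩
  rw [h1]
  refine ⟨isIrreducible_singleton.closure, ?_⟩
  intro Z hZ hle
  have hZ' : IsIrreducible (closure Z) := hZ.closure
  obtain ⟨η, hη⟩ := QuasiSober.sober hZ' isClosed_closure
  have h2 : η ⤳ f ξ := by
    rw [specializes_iff_mem_closure, hη.def]
    exact subset_closure (hle (subset_closure rfl))
  obtain ⟨ξ', hξ', rfl⟩ := hf h2
  have h3 : T ≤ closure {ξ'} := by
    rw [← hξ.def]
    apply closure_minimal _ isClosed_closure
    rw [Set.singleton_subset_iff]
    exact specializes_iff_mem_closure.mp hξ'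
  have h4 : closure {ξ'} ≤ T := hT.2 isIrreducible_singleton.closure h3
  have h5 : ξ' ∈ T := h4 (subset_closure rfl)
  calc Z ⊆ closure Z := subset_closure
    _ = closure {f ξ'} := hη.def.symm
    _ ⊆ closure {f ξ} := by
        rw [← h1]
        apply closure_mono
        rw [Set.singleton_subset_iff]
        exact ⟨ξ', h5, rfl⟩

end Groth.Agent.Helper7

namespace Groth.Agent.Helper7

theorem closure_image_eq_of_isGenericPoint {X Y : Type*} [TopologicalSpace X]
    [TopologicalSpace Y] {f : X → Y} (hfc : Continuous f) {T : Set X} {ξ : X}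
    (hξ : IsGenericPoint ξ T) : closure (f '' T) = closure {f ξ} := by
  apply le_antisymm
  · apply closure_minimal _ isClosed_closure
    rw [← hξ.def]
    refine (image_closure_subset_closure_image hfc).trans ?_
    rw [Set.image_singleton]
  · apply closure_mono
    rw [Set.singleton_subset_iff]
    exact ⟨ξ, hξ.mem, rfl⟩

/-- Local finiteness of irreducible components lifts along generalizing maps with finite fibres. -/
theorem locallyFinite_irreducibleComponents_of_generalizingMap {X Y : Type*} [TopologicalSpace X]
    [TopologicalSpace Y] [QuasiSober X] [QuasiSober Y] [T0Space Y] {f : X → Y} (hfc : Continuous f)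
    (hY : ∀ y : Y, ∃ U : Set Y, IsOpen U ∧ y ∈ U ∧
      {Z ∈ irreducibleComponents Y | (Z ∩ U).Nonempty}.Finite)
    (hf : GeneralizingMap f) (hfin : ∀ y : Y, (f ⁻¹' {y}).Finite) (x : X) :
    ∃ U : Set X, IsOpen U ∧ x ∈ U ∧ {T ∈ irreducibleComponents X | (T ∩ U).Nonempty}.Finite := by
  obtain ⟨V, hVo, hxV, hVfin⟩ := hY (f x)
  refine ⟨f ⁻¹' V, hVo.preimage hfc, hxV, ?_⟩
  let F : Set X := ⋃ Z ∈ {Z ∈ irreducibleComponents Y | (Z ∩ V).Nonempty},
    f ⁻¹' {y | IsGenericPoint y Z}
  have hF : F.Finite := by
    refine Set.Finite.biUnion hVfin ?_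
    intro Z hZ
    by_cases h : ∃ y, IsGenericPoint y Z
    · obtain ⟨y, hy⟩ := h
      have : {y' | IsGenericPoint y' Z} = {y} := by
        ext y'
        simp only [Set.mem_ofPred_eq, Set.mem_singleton_iff]
        constructor
        · intro hy'
          exact hy'.eq hy
        · rintro rfl; exact hy
      rw [this]
      exact hfin y
    · have : {y' | IsGenericPoint y' Z} = ∅ := by
        ext y'
        simp only [Set.mem_ofPred_eq, Set.mem_empty_iff_false, iff_false]
        exact fun hy' => h ⟨y', hy'⟩
      rw [this]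
      simp
  refine (hF.image (fun ξ => closure {ξ})).subset ?_
  rintro T ⟨hT, hTU⟩
  have hTirr : IsIrreducible T := hT.1
  have hTcl : IsClosed T := isClosed_of_mem_irreducibleComponents T hT
  obtain ⟨ξ, hξ⟩ := QuasiSober.sober hTirr hTcl
  refine ⟨ξ, ?_, hξ.def⟩
  have hZ := closure_image_mem_irreducibleComponents hfc hf T hT
  have hcl := closure_image_eq_of_isGenericPoint hfc hξ
  simp only [F, Set.mem_iUnion, Set.mem_preimage, Set.mem_ofPred_eq]
  refine ⟨closure (f '' T), ⟨hZ, ?_⟩, ?_⟩
  · obtain ⟨t, htT, htU⟩ := hTU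
    have h1 : ξ ⤳ t := by
      rw [specializes_iff_mem_closure, hξ.def]; exact htT
    have h2 : ξ ∈ f ⁻¹' V := h1.mem_open (hVo.preimage hfc) htU
    exact ⟨f ξ, subset_closure ⟨ξ, hξ.mem, rfl⟩, h2⟩
  · rw [hcl]
    exact isGenericPoint_closure

end Groth.Agent.Helper7
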