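import Mathlib.Topology.Sober
import Mathlib.Topology.Irreducible
import Mathlib.Topology.Inseparable

set_option autoImplicit false

namespace Groth.Agent.Helper7

/-- Characterisation of generalizing maps through irreducible components of preimages of
irreducible closed subsets (for quasi-sober source and sober-like target). -/
theorem generalizingMap_iff_irreducibleComponents_preimage {X Y : Type*} [TopologicalSpace X]
    [TopologicalSpace Y] [QuasiSober X] [QuasiSober Y] [T0Space Y] {f : X → Y}
    (hfc : Continuous f) :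
    GeneralizingMap f ↔
      ∀ Y' : Set Y, IsClosed Y' → IsIrreducible Y' →
        ∀ Z ∈ irreducibleComponents ↥(f ⁻¹' Y'), closure (f '' (Subtype.val '' Z)) = Y' := by
  constructor
  · intro hf Y' hY'c hY'i Z hZ
    have hpc : IsClosed (f ⁻¹' Y') := hY'c.preimage hfc
    have hemb : Topology.IsClosedEmbedding (Subtype.val : ↥(f ⁻¹' Y') → X) :=
      hpc.isClosedEmbedding_subtypeVal
    have hZirr : IsIrreducible Z := hZ.1
    have hZcl : IsClosed Z := isClosed_of_mem_irreducibleComponents Z hZ
    have hZ'irr : IsIrreducible (Subtype.val '' Z) :=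
      hZirr.image _ continuous_subtype_val.continuousOn
    have hZ'cl : IsClosed (Subtype.val '' Z) := hemb.isClosedMap _ hZcl
    obtain ⟨ξ, hξ⟩ := QuasiSober.sober hZ'irr hZ'cl
    obtain ⟨η, hη⟩ := QuasiSober.sober hY'i hY'c
    have hξmem : ξ ∈ Subtype.val '' Z := hξ.mem
    obtain ⟨⟨ξ0, hξ0⟩, hξ0Z, rfl⟩ := hξmem
    have h2 : η ⤳ f ξ0 := by
      rw [specializes_iff_mem_closure, hη.def]
      exact hξ0
    obtain ⟨ξ', hξ', rfl⟩ := hf h2
    have hξ'mem : ξ' ∈ f ⁻¹' Y' := hη.mem
    apply le_antisymm
    · apply closure_minimal _ hY'c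
      rintro _ ⟨_, ⟨⟨z, hz⟩, -, rfl⟩, rfl⟩
      exact hz
    · have hYη : Y' ⊆ closure {f ξ'} := hη.def.ge
      refine hYη.trans ?_
      apply closure_mono
      rw [Set.singleton_subset_iff]
      -- the closure of ξ' in the subspace is irreducible and contains Z
      let W : Set ↥(f ⁻¹' Y') := closure {⟨ξ', hξ'mem⟩}
      have hWirr : IsIrreducible W := isIrreducible_singleton.closure
      have hZW : Z ≤ W := by
        intro z hz
        have h3 : ξ0 ⤳ (z : X) := by
          rw [hξ.specializes_iff_mem]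
          exact ⟨z, hz, rfl⟩
        have h4 : ξ' ⤳ (z : X) := hξ'.trans h3
        have h5 : (⟨ξ', hξ'mem⟩ : ↥(f ⁻¹' Y')) ⤳ z := (subtype_specializes_iff _ _).mpr h4
        exact specializes_iff_mem_closure.mp h5
      have hWZ : W ≤ Z := hZ.2 hWirr hZW
      have h6 : (⟨ξ', hξ'mem⟩ : ↥(f ⁻¹' Y')) ∈ Z := hWZ (subset_closure rfl)
      exact ⟨ξ', ⟨⟨ξ', hξ'mem⟩, h6, rfl⟩, rfl⟩
  · intro H x y hy
    -- y ⤳ f x
    let Y' : Set Y := closure {y}
    have hY'c : IsClosed Y' := isClosed_closure
    have hY'i : IsIrreducible Y' := isIrreducible_singleton.closure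
    have hxP : x ∈ f ⁻¹' Y' := specializes_iff_mem_closure.mp hy
    have hpc : IsClosed (f ⁻¹' Y') := hY'c.preimage hfc
    have hemb : Topology.IsClosedEmbedding (Subtype.val : ↥(f ⁻¹' Y') → X) :=
      hpc.isClosedEmbedding_subtypeVal
    let x0 : ↥(f ⁻¹' Y') := ⟨x, hxP⟩
    let Z : Set ↥(f ⁻¹' Y') := irreducibleComponent x0
    have hZ : Z ∈ irreducibleComponents ↥(f ⁻¹' Y') :=
      irreducibleComponent_mem_irreducibleComponents x0
    have hx0Z : x0 ∈ Z := mem_irreducibleComponent
    have hZirr : IsIrreducible Z := hZ.1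
    have hZcl : IsClosed Z := isClosed_of_mem_irreducibleComponents Z hZ
    have hZ'irr : IsIrreducible (Subtype.val '' Z) :=
      hZirr.image _ continuous_subtype_val.continuousOn
    have hZ'cl : IsClosed (Subtype.val '' Z) := hemb.isClosedMap _ hZcl
    obtain ⟨ξ, hξ⟩ := QuasiSober.sober hZ'irr hZ'cl
    have hcl : closure (f '' (Subtype.val '' Z)) = closure {f ξ} := by
      apply le_antisymm
      · apply closure_minimal _ isClosed_closure
        rw [← hξ.def]
        refine (image_closure_subset_closure_image hfc).trans ?_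
        rw [Set.image_singleton]
      · apply closure_mono
        rw [Set.singleton_subset_iff]
        exact ⟨ξ, hξ.mem, rfl⟩
    have hH := H Y' hY'c hY'i Z hZ
    rw [hcl] at hH
    -- closure {f ξ} = closure {y}
    have h7 : f ξ = y := by
      have h8 : Inseparable (f ξ) y := by
        rw [inseparable_iff_closure_eq]
        exact hH
      exact h8.eq
    refine ⟨ξ, ?_, h7⟩
    show ξ ⤳ x
    rw [hξ.specializes_iff_mem]
    exact ⟨x0, hx0Z, rfl⟩

end Groth.Agent.Helper7
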