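import Mathlib

set_option linter.style.haveILetI false
set_option linter.unusedSectionVars false

/-!
# Geometric irreducibility of `K/k` versus `K(t)/k(t)`
-/

universe u

open TensorProduct

namespace Groth.Agent.Helper7.GeomIrrRat

section General

theorem irreducibleSpace_of_injective {A B : Type*} [CommRing A] [CommRing B] (φ : A →+* B)
    (hφ : Function.Injective φ) (hB : IrreducibleSpace (PrimeSpectrum B)) :
    IrreducibleSpace (PrimeSpectrum A) := by
  rw [PrimeSpectrum.irreducibleSpace_iff_isPrime_nilradical] at *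
  have h : nilradical A = (nilradical B).comap φ := by
    ext a
    rw [Ideal.mem_comap, mem_nilradical, mem_nilradical]
    constructor
    · exact fun h => h.map φ
    · rintro ⟨n, hn⟩
      refine ⟨n, hφ ?_⟩
      rw [map_pow, hn, map_zero]
  rw [h]
  exact Ideal.IsPrime.comap φ

theorem irreducibleSpace_of_fractions {R B : Type*} [CommRing R] [CommRing B] (φ : R →+* B)
    (hφ : Function.Injective φ)
    (hfrac : ∀ b : B, ∃ s r : R, IsUnit (φ s) ∧ b * φ s = φ r)
    (hR : IrreducibleSpace (PrimeSpectrum R)) :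
    IrreducibleSpace (PrimeSpectrum B) := by
  rw [PrimeSpectrum.irreducibleSpace_iff_isPrime_nilradical] at *
  have hnil : ∀ r : R, IsNilpotent (φ r) → IsNilpotent r := by
    rintro r ⟨n, hn⟩
    refine ⟨n, hφ ?_⟩
    rw [map_pow, hn, map_zero]
  refine ⟨?_, ?_⟩
  · intro htop
    have h1 : (1 : B) ∈ nilradical B := htop ▸ Submodule.mem_top
    rw [mem_nilradical] at h1
    have h2 : IsNilpotent (φ 1) := by rwa [map_one]
    have h3 := hnil 1 h2
    exact hR.ne_top ((Ideal.eq_top_iff_one _).mpr ((mem_nilradical).mpr h3))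
  · intro x y hxy
    obtain ⟨s, r, hs, hsr⟩ := hfrac x
    obtain ⟨s', r', hs', hsr'⟩ := hfrac y
    have h1 : IsNilpotent (φ (r * r')) := by
      rw [map_mul, ← hsr, ← hsr']
      have : x * φ s * (y * φ s') = (x * y) * (φ s * φ s') := by ring
      rw [this]
      exact (Commute.all _ _).isNilpotent_mul_right (mem_nilradical.mp hxy)
    have h2 : r * r' ∈ nilradical R := mem_nilradical.mpr (hnil _ h1)
    rcases hR.mem_or_mem h2 with h | h
    · left
      rw [mem_nilradical]
      have h3 : IsNilpotent (x * φ s) := by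
        rw [hsr]; exact (mem_nilradical.mp h).map φ
      obtain ⟨n, hn⟩ := h3
      refine ⟨n, ?_⟩
      rw [mul_pow] at hn
      exact (hs.pow n).mul_left_eq_zero.mp hn
    · right
      rw [mem_nilradical]
      have h3 : IsNilpotent (y * φ s') := by
        rw [hsr']; exact (mem_nilradical.mp h).map φ
      obtain ⟨n, hn⟩ := h3
      refine ⟨n, ?_⟩
      rw [mul_pow] at hn
      exact (hs'.pow n).mul_left_eq_zero.mp hn

theorem injective_of_basis_linearIndependent {R M M' ι : Type*} [CommRing R] [AddCommGroup M]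
    [AddCommGroup M'] [Module R M] [Module R M'] (b : Module.Basis ι R M) (ψ : M →ₗ[R] M')
    (h : LinearIndependent R (fun i => ψ (b i))) : Function.Injective ψ := by
  have h1 : ψ = b.constr R (fun i => ψ (b i)) := by
    apply b.ext
    intro i
    rw [Module.Basis.constr_basis]
  rw [h1]
  exact b.injective_constr_of_linearIndependent h

theorem linearIndependent_one_tmul {F L V ι : Type*} [Field F] [CommRing L] [Algebra F L]
    [AddCommGroup V] [Module F V] {v : ι → V} (hv : LinearIndependent F v) :
    LinearIndependent L (fun i => (1 : L) ⊗ₜ[F] v i) := by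
  classical
  let I : Set V := hv.linearIndepOn_id.extend (Set.subset_univ _)
  let b : Module.Basis I F V := .extend hv.linearIndepOn_id
  let b' : Module.Basis I L (L ⊗[F] V) := Algebra.TensorProduct.basis L b
  let v' (i : ι) : I := ⟨v i, hv.linearIndepOn_id.subset_extend _ <| Set.mem_range_self i⟩
  have hv' : b' ∘ v' = fun i => (1 : L) ⊗ₜ[F] v i := by
    ext i
    simp [b', b, v', Module.Basis.extend, Algebra.TensorProduct.basis_apply]
  have h_inj : Function.Injective v' := fun i j hij => by
    have : Function.Injective v := hv.injective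
    apply this
    exact congrArg Subtype.val hij
  rw [← hv']
  exact b'.linearIndependent.comp _ h_inj

end General

section Abstract

variable {k K F E L : Type u} [Field k] [Field K] [Field F] [Field E] [Field L]
  [Algebra k K] [Algebra k F] [Algebra F E] [Algebra k E] [Algebra K E]
  [IsScalarTower k F E] [IsScalarTower k K E]
  [Algebra F L] [Algebra k L] [IsScalarTower k F L]

variable (k K F E L)

/-- The comparison map `L ⊗[k] K → L ⊗[F] E`. -/
noncomputable def phi : L ⊗[k] K →ₐ[L] L ⊗[F] E :=
  Algebra.TensorProduct.lift (Algebra.TensorProduct.includeLeft)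
    (((Algebra.TensorProduct.includeRight : E →ₐ[F] L ⊗[F] E).restrictScalars k).comp
      (IsScalarTower.toAlgHom k K E)) (fun _ _ => Commute.all _ _)

theorem phi_tmul (l : L) (x : K) : phi k K F E L (l ⊗ₜ x) = l ⊗ₜ[F] algebraMap K E x := by
  simp [phi]

/-- The multiplication map `F ⊗[k] K → E`. -/
noncomputable def mu : F ⊗[k] K →ₐ[k] E :=
  Algebra.TensorProduct.productMap (IsScalarTower.toAlgHom k F E) (IsScalarTower.toAlgHom k K E)

theorem mu_tmul (f : F) (x : K) : mu k K F E (f ⊗ₜ x) = algebraMap F E f * algebraMap K E x := by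
  simp [mu]

/-- The map `F ⊗[k] K → L ⊗[k] K`. -/
noncomputable def nu : F ⊗[k] K →ₐ[k] L ⊗[k] K :=
  Algebra.TensorProduct.map (IsScalarTower.toAlgHom k F L) (AlgHom.id k K)

theorem phi_nu (z : F ⊗[k] K) : phi k K F E L (nu k K F L z) = 1 ⊗ₜ[F] mu k K F E z := by
  induction z using TensorProduct.induction_on with
  | zero => simp
  | tmul f x =>
    simp only [nu, Algebra.TensorProduct.map_tmul, IsScalarTower.coe_toAlgHom', AlgHom.coe_id, id_eq,
      phi_tmul, mu_tmul]
    rw [Algebra.algebraMap_eq_smul_one, TensorProduct.smul_tmul, Algebra.smul_def]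
  | add a b ha hb => simp only [map_add, ha, hb, TensorProduct.tmul_add]

variable {k K F E L}

theorem phi_injective
    (hLI : LinearIndependent F (fun i => algebraMap K E (Module.Basis.ofVectorSpace k K i))) :
    Function.Injective (phi k K F E L) := by
  let e := Module.Basis.ofVectorSpace k K
  let b := Algebra.TensorProduct.basis L e
  have h := injective_of_basis_linearIndependent b (phi k K F E L).toLinearMap ?_
  · exact h
  · have h1 : (fun i => (phi k K F E L).toLinearMap (b i)) =
        fun i => (1 : L) ⊗ₜ[F] algebraMap K E (e i) := by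
      ext i
      simp only [b, Algebra.TensorProduct.basis_apply, AlgHom.toLinearMap_apply, phi_tmul]
    rw [h1]
    exact linearIndependent_one_tmul hLI

theorem phi_fractions
    (hgen : ∀ x : E, ∃ a d : F ⊗[k] K, mu k K F E d ≠ 0 ∧ x * mu k K F E d = mu k K F E a)
    (b : L ⊗[F] E) :
    ∃ s r : L ⊗[k] K, IsUnit (phi k K F E L s) ∧ b * phi k K F E L s = phi k K F E L r := by
  induction b using TensorProduct.induction_on with
  | zero => exact ⟨1, 0, by simp, by simp⟩
  | tmul l x =>
    obtain ⟨a, d, hd, hxd⟩ := hgen x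
    refine ⟨nu k K F L d, (l ⊗ₜ 1) * nu k K F L a, ?_, ?_⟩
    · rw [phi_nu]
      exact (IsUnit.mk0 _ hd).map (Algebra.TensorProduct.includeRight : E →ₐ[F] L ⊗[F] E)
    · rw [map_mul, phi_nu, phi_nu, phi_tmul, Algebra.TensorProduct.tmul_mul_tmul,
        Algebra.TensorProduct.tmul_mul_tmul, mul_one, map_one, one_mul, hxd]
  | add b₁ b₂ h₁ h₂ =>
    obtain ⟨s₁, r₁, hs₁, e₁⟩ := h₁
    obtain ⟨s₂, r₂, hs₂, e₂⟩ := h₂
    refine ⟨s₁ * s₂, r₁ * s₂ + r₂ * s₁, ?_, ?_⟩
    · rw [map_mul]; exact hs₁.mul hs₂
    · rw [map_mul, map_add, map_mul, map_mul, ← e₁, ← e₂]; ring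

theorem irreducible_iff
    (hLI : LinearIndependent F (fun i => algebraMap K E (Module.Basis.ofVectorSpace k K i)))
    (hgen : ∀ x : E, ∃ a d : F ⊗[k] K, mu k K F E d ≠ 0 ∧ x * mu k K F E d = mu k K F E a) :
    IrreducibleSpace (PrimeSpectrum (L ⊗[k] K)) ↔ IrreducibleSpace (PrimeSpectrum (L ⊗[F] E)) :=
  ⟨irreducibleSpace_of_fractions (phi k K F E L).toRingHom (phi_injective hLI)
      (phi_fractions hgen),
    irreducibleSpace_of_injective (phi k K F E L).toRingHom (phi_injective hLI)⟩

end Abstract

section Concrete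

open Polynomial

variable {k K : Type u} [Field k] [Field K] [Algebra k K]
  (kt Kt : Type u) [Field kt] [Field Kt] [Algebra (Polynomial k) kt]
  [IsFractionRing (Polynomial k) kt] [Algebra (Polynomial K) Kt] [IsFractionRing (Polynomial K) Kt]
  [Algebra kt Kt]

theorem hLI_concrete [Algebra K Kt]
    (h2 : ∀ x, algebraMap K Kt x = algebraMap K[X] Kt (C x))
    (hcompat : ∀ p : Polynomial k, algebraMap kt Kt (algebraMap (Polynomial k) kt p) =
      algebraMap (Polynomial K) Kt (Polynomial.map (algebraMap k K) p))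
    {ι : Type*} (e : Module.Basis ι k K) :
    LinearIndependent kt (fun i => algebraMap K Kt (e i)) := by
  letI : Algebra k[X] Kt := ((algebraMap kt Kt).comp (algebraMap k[X] kt)).toAlgebra
  haveI : IsScalarTower k[X] kt Kt := IsScalarTower.of_algebraMap_eq (fun _ => rfl)
  rw [← LinearIndependent.iff_fractionRing k[X] kt]
  rw [linearIndependent_iff']
  intro s g hg i hi
  have h3 : ∀ i, g i • algebraMap K Kt (e i) =
      algebraMap K[X] Kt (Polynomial.map (algebraMap k K) (g i) * C (e i)) := by
    intro i
    rw [Algebra.smul_def, map_mul, ← hcompat, h2]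
    rfl
  rw [Finset.sum_congr rfl (fun i _ => h3 i), ← map_sum] at hg
  have h4 : ∑ i ∈ s, Polynomial.map (algebraMap k K) (g i) * C (e i) = 0 :=
    IsFractionRing.injective K[X] Kt (hg.trans (map_zero _).symm)
  ext n
  have h5 := congrArg (fun p => p.coeff n) h4
  simp only [Polynomial.finsetSum_coeff, coeff_mul_C, coeff_map, coeff_zero] at h5
  have h6 := linearIndependent_iff'.mp e.linearIndependent s (fun i => (g i).coeff n)
    (by simpa [Algebra.smul_def] using h5) i hi
  simpa using h6

theorem hgen_concrete [Algebra k kt] [Algebra K Kt] [Algebra k Kt]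
    [IsScalarTower k kt Kt] [IsScalarTower k K Kt]
    (h2 : ∀ x, algebraMap K Kt x = algebraMap K[X] Kt (C x))
    (hcompat : ∀ p : Polynomial k, algebraMap kt Kt (algebraMap (Polynomial k) kt p) =
      algebraMap (Polynomial K) Kt (Polynomial.map (algebraMap k K) p)) (x : Kt) :
    ∃ a d : kt ⊗[k] K, mu k K kt Kt d ≠ 0 ∧ x * mu k K kt Kt d = mu k K kt Kt a := by
  have key : ∀ p : K[X], ∃ a : kt ⊗[k] K, mu k K kt Kt a = algebraMap K[X] Kt p := by
    intro p
    induction p using Polynomial.induction_on with
    | C c => exact ⟨1 ⊗ₜ c, by rw [mu_tmul, map_one, one_mul, h2]⟩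
    | add p q hp hq =>
      obtain ⟨a, ha⟩ := hp
      obtain ⟨b, hb⟩ := hq
      exact ⟨a + b, by rw [map_add, map_add, ha, hb]⟩
    | monomial n c h =>
      obtain ⟨a, ha⟩ := h
      refine ⟨a * (algebraMap k[X] kt X ⊗ₜ 1), ?_⟩
      rw [map_mul, ha, mu_tmul, map_one, mul_one, hcompat, Polynomial.map_X, ← map_mul, pow_succ,
        mul_assoc]
  obtain ⟨p, q, hq, rfl⟩ := IsFractionRing.div_surjective (A := K[X]) x
  obtain ⟨a, ha⟩ := key p
  obtain ⟨d, hd⟩ := key q
  have hq0 : algebraMap K[X] Kt q ≠ 0 :=
    IsFractionRing.to_map_ne_zero_of_mem_nonZeroDivisors hq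
  refine ⟨a, d, by rw [hd]; exact hq0, ?_⟩
  rw [ha, hd, div_mul_cancel₀ _ hq0]

theorem s9657
    (hcompat : ∀ p : Polynomial k, algebraMap kt Kt (algebraMap (Polynomial k) kt p) =
      algebraMap (Polynomial K) Kt (Polynomial.map (algebraMap k K) p)) :
    (∀ (k' : Type u) [Field k'] [Algebra k k'], IrreducibleSpace (PrimeSpectrum (k' ⊗[k] K))) ↔
      ∀ (L : Type u) [Field L] [Algebra kt L], IrreducibleSpace (PrimeSpectrum (L ⊗[kt] Kt)) := by
  letI i1 : Algebra k kt := ((algebraMap k[X] kt).comp C).toAlgebra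
  letI i2 : Algebra K Kt := ((algebraMap K[X] Kt).comp C).toAlgebra
  letI i3 : Algebra k Kt := ((algebraMap kt Kt).comp (algebraMap k kt)).toAlgebra
  haveI t1 : IsScalarTower k kt Kt := IsScalarTower.of_algebraMap_eq (fun _ => rfl)
  haveI t2 : IsScalarTower k K Kt := IsScalarTower.of_algebraMap_eq (fun x => by
    show algebraMap kt Kt (algebraMap k[X] kt (C x)) = algebraMap K[X] Kt (C (algebraMap k K x))
    rw [hcompat, Polynomial.map_C])
  have h2 : ∀ x, algebraMap K Kt x = algebraMap K[X] Kt (C x) := fun _ => rfl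
  have hLI := hLI_concrete kt Kt h2 hcompat (Module.Basis.ofVectorSpace k K)
  have hgen := hgen_concrete kt Kt h2 hcompat
  constructor
  · intro h L _ _
    letI : Algebra k L := ((algebraMap kt L).comp (algebraMap k kt)).toAlgebra
    haveI : IsScalarTower k kt L := IsScalarTower.of_algebraMap_eq (fun _ => rfl)
    exact (irreducible_iff hLI hgen).mp (h L)
  · intro h k' _ _
    let L := FractionRing k'[X]
    haveI : IsScalarTower k k' L := inferInstance
    let g : k[X] →+* L := (algebraMap k'[X] L).comp (Polynomial.mapRingHom (algebraMap k k'))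
    have hg : Function.Injective g :=
      (IsFractionRing.injective k'[X] L).comp
        (Polynomial.map_injective _ (algebraMap k k').injective)
    letI : Algebra kt L := (IsFractionRing.lift hg).toAlgebra
    haveI : IsScalarTower k kt L := IsScalarTower.of_algebraMap_eq (fun x => by
      rw [IsScalarTower.algebraMap_apply k k'[X] L]
      show algebraMap k'[X] L (C (algebraMap k k' x)) =
        IsFractionRing.lift hg (algebraMap k[X] kt (C x))
      rw [IsFractionRing.lift_algebraMap]
      show _ = algebraMap k'[X] L (Polynomial.map (algebraMap k k') (C x))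
      rw [Polynomial.map_C])
    have h1 : IrreducibleSpace (PrimeSpectrum (L ⊗[kt] Kt)) := h L
    have h3 : IrreducibleSpace (PrimeSpectrum (L ⊗[k] K)) := (irreducible_iff hLI hgen).mpr h1
    let j : k' ⊗[k] K →ₐ[k] L ⊗[k] K :=
      Algebra.TensorProduct.map (IsScalarTower.toAlgHom k k' L) (AlgHom.id k K)
    have hj : Function.Injective j := by
      have h4 := Module.Flat.rTensor_preserves_injective_linearMap (M := K)
        (IsScalarTower.toAlgHom k k' L).toLinearMap (algebraMap k' L).injective
      intro a b hab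
      apply h4
      exact hab
    exact irreducibleSpace_of_injective j.toRingHom hj h3

end Concrete

end Groth.Agent.Helper7.GeomIrrRat
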