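import Mathlib
import Groth.Agent.Lib.Helper7.GorAsc2
import Groth.Agent.Lib.Helper7.GeomPBase3
import Groth.Agent.Lib.Lead.Fib1
import Groth.Prelude.Def_Found

/-!
# Gorenstein fibres and composition with a regular homomorphism (helper7)
-/

set_option autoImplicit false
set_option linter.unusedSectionVars false
set_option linter.style.haveILetI false
universe u

namespace Groth.Agent.Helper7.GorAsc

open TensorProduct IsLocalRing Groth.Agent.Lead Groth.Agent.Helper20.GorFlat

/-- The Gorenstein property of rings is invariant under ring isomorphisms. -/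
theorem isGorensteinRing_of_ringEquiv (R R' : Type u) [CommRing R] [CommRing R'] (e : R ≃+* R')
    (hR : LocCoh.IsGorensteinRing R) : LocCoh.IsGorensteinRing R' := by
  haveI : IsNoetherianRing R' := isNoetherianRing_of_ringEquiv R e
  refine ⟨fun p hp => ?_⟩
  let f : Localization.AtPrime (p.comap e) ≃+* Localization.AtPrime p :=
    IsLocalization.ringEquivOfRingEquiv
      (Localization.AtPrime (p.comap e)) (Localization.AtPrime p) e (e.map_primeCompl_comap_eq p)
  haveI := hR.isGorensteinLocalRing_localization (p.comap e)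
  exact isGorensteinLocalRing_of_ringEquiv f

section Comp

variable (A B C : Type u) [CommRing A] [CommRing B] [CommRing C]
  [IsNoetherianRing A] [IsNoetherianRing B] [IsNoetherianRing C]
  [Algebra A B] [Algebra B C] [Algebra A C] [IsScalarTower A B C] [Module.Flat B C]

/-- Gorenstein fibres are preserved by composing with a regular homomorphism. -/
theorem gorenstein_fibres_comp (hBC : CAlg.IsRegularHom B C) (p : Ideal A) [p.IsPrime]
    (hAB : LocCoh.IsGorensteinRing (p.Fiber B)) : LocCoh.IsGorensteinRing (p.Fiber C) := by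
  -- B' = B ⊗ k
  let eB : (B ⊗[A] p.ResidueField) ≃+* p.ResidueField ⊗[A] B :=
    (Algebra.TensorProduct.comm A B p.ResidueField).toRingEquiv
  have hGB' : LocCoh.IsGorensteinRing (B ⊗[A] p.ResidueField) := isGorensteinRing_of_ringEquiv _ _ eB.symm hAB
  haveI hNB' : IsNoetherianRing (B ⊗[A] p.ResidueField) := by
    haveI := hGB'
    infer_instance
  -- C' = B' ⊗_B C
  let eC : ((B ⊗[A] p.ResidueField) ⊗[B] C) ≃+* p.ResidueField ⊗[A] C :=
    ((Algebra.TensorProduct.comm B (B ⊗[A] p.ResidueField) C).toRingEquiv.trans
      (Algebra.TensorProduct.cancelBaseChange A B B C p.ResidueField).toRingEquiv).trans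
      (Algebra.TensorProduct.comm A C p.ResidueField).toRingEquiv
  haveI hNC' : IsNoetherianRing ((B ⊗[A] p.ResidueField) ⊗[B] C) := by
    have := Groth.Agent.Lead.Fib.isNoetherianRing_fiber (R := A) (S := C) p
    exact isNoetherianRing_of_ringEquiv _ eC.symm
  have hC' : LocCoh.IsGorensteinRing ((B ⊗[A] p.ResidueField) ⊗[B] C) := by
    apply isGorensteinRing_of_flat_of_fibres (R := B ⊗[A] p.ResidueField)
      (S := (B ⊗[A] p.ResidueField) ⊗[B] C) hGB'
    intro q' _
    haveI : Algebra.EssFiniteType B q'.ResidueField :=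
      Algebra.EssFiniteType.comp B (B ⊗[A] p.ResidueField) q'.ResidueField
    have h1 : IsRegularRing (q'.ResidueField ⊗[B] C) :=
      Groth.Agent.Helper7.GeomPBase.tensor_field_of_isRegularHom B C hBC q'.ResidueField
    let e := Algebra.TensorProduct.cancelBaseChange B (B ⊗[A] p.ResidueField)
      (B ⊗[A] p.ResidueField) q'.ResidueField C
    exact @IsRegularRing.of_ringEquiv _ _ _ _ e.symm.toRingEquiv h1
  exact isGorensteinRing_of_ringEquiv _ _ eC hC'

end Comp

end Groth.Agent.Helper7.GorAsc
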