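import Mathlib
import Groth.Agent.Lib.Helper7.Graded

set_option autoImplicit false
universe u
open DirectSum

namespace Groth.Agent.Helper7.Graded
variable {R A : Type u} [CommRing R] [CommRing A] [Algebra R A] (𝒜 : ℕ → Submodule R A) [GradedAlgebra 𝒜]

theorem exists_homogeneous_not_mem (𝔭 : HomogeneousIdeal 𝒜)
    (h : ¬ HomogeneousIdeal.irrelevant 𝒜 ≤ 𝔭) : ∃ k : ℕ, 0 < k ∧ ∃ f ∈ 𝒜 k, f ∉ 𝔭.toIdeal := by
  classical
  by_contra hcon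
  push Not at hcon
  apply h
  intro x hx
  rw [← HomogeneousIdeal.mem_iff] at hx ⊢
  rw [← DirectSum.sum_support_decompose 𝒜 x]
  refine Ideal.sum_mem _ fun i _ => ?_
  rcases Nat.eq_zero_or_pos i with rfl | hi
  · have : ((decompose 𝒜 x 0 : 𝒜 0) : A) = 0 := (HomogeneousIdeal.mem_irrelevant_iff 𝒜 x).mp hx
    rw [this]; exact Ideal.zero_mem _
  · exact hcon i hi _ (decompose 𝒜 x i).2

theorem le_of_tail (n₀ : ℕ) (p : ℕ → AddSubgroup A) (𝔭 𝔮 : HomogeneousIdeal 𝒜)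
    (h𝔮 : 𝔮.toIdeal.IsPrime) (hq : ¬ HomogeneousIdeal.irrelevant 𝒜 ≤ 𝔮)
    (h1 : ∀ n : ℕ, n₀ ≤ n → (𝔭.toIdeal : Set A) ∩ 𝒜 n = p n)
    (h2 : ∀ n : ℕ, n₀ ≤ n → (𝔮.toIdeal : Set A) ∩ 𝒜 n = p n) : 𝔭 ≤ 𝔮 := by
  classical
  obtain ⟨k, hk, f, hf, hfq⟩ := exists_homogeneous_not_mem 𝒜 𝔮 hq
  intro x hx
  rw [← HomogeneousIdeal.mem_iff] at hx ⊢
  rw [← DirectSum.sum_support_decompose 𝒜 x]
  refine Ideal.sum_mem _ fun m _ => ?_
  have hxm : ((decompose 𝒜 x m : 𝒜 m) : A) ∈ 𝔭.toIdeal := 𝔭.isHomogeneous m hx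
  have hdeg : f ^ n₀ * ((decompose 𝒜 x m : 𝒜 m) : A) ∈ 𝒜 (n₀ • k + m) :=
    SetLike.mul_mem_graded (SetLike.pow_mem_graded n₀ hf) (decompose 𝒜 x m).2
  have hle : n₀ ≤ n₀ • k + m := by
    have : n₀ * 1 ≤ n₀ * k := Nat.mul_le_mul_left _ hk
    simp only [smul_eq_mul]; omega
  have h3 : f ^ n₀ * ((decompose 𝒜 x m : 𝒜 m) : A) ∈ (𝔭.toIdeal : Set A) ∩ 𝒜 (n₀ • k + m) :=
    ⟨Ideal.mul_mem_left _ _ hxm, hdeg⟩
  rw [h1 _ hle, ← h2 _ hle] at h3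
  rcases h𝔮.mem_or_mem h3.1 with h4 | h4
  · exact absurd (h𝔮.mem_of_pow_mem _ h4) hfq
  · exact h4

theorem exists_prime_of_conditions (n₀ : ℕ) (hn₀ : 0 < n₀) (p : ℕ → AddSubgroup A)
    (hp : ∀ n : ℕ, n₀ ≤ n → (p n : Set A) ⊆ 𝒜 n)
    (c1 : ∀ m n : ℕ, n₀ ≤ n → ∀ a ∈ 𝒜 m, ∀ b ∈ p n, a * b ∈ p (m + n))
    (c2 : ∀ m n : ℕ, n₀ ≤ m → n₀ ≤ n → ∀ f ∈ 𝒜 m, ∀ g ∈ 𝒜 n, f * g ∈ p (m + n) → f ∈ p m ∨ g ∈ p n)
    (c3 : ∃ n : ℕ, n₀ ≤ n ∧ (p n : Set A) ≠ 𝒜 n) :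
    ∃ 𝔭 : HomogeneousIdeal 𝒜, 𝔭.toIdeal.IsPrime ∧ ¬ HomogeneousIdeal.irrelevant 𝒜 ≤ 𝔭 ∧
        ∀ n : ℕ, n₀ ≤ n → (𝔭.toIdeal : Set A) ∩ 𝒜 n = p n := by
  classical
  obtain ⟨d, hd, hne⟩ := c3
  obtain ⟨f, hfd, hfp⟩ : ∃ f ∈ 𝒜 d, f ∉ p d := by
    by_contra hcon
    push Not at hcon
    exact hne (Set.Subset.antisymm (hp d hd) fun x hx => hcon x hx)
  set E : Set A := {x | ∃ m, x ∈ 𝒜 m ∧ f * x ∈ p (d + m)} with hE
  have hEhom : ∀ x ∈ E, SetLike.IsHomogeneousElem 𝒜 x := fun x ⟨m, hx, _⟩ => ⟨m, hx⟩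
  have hIhom : (Ideal.span E).IsHomogeneous 𝒜 := Ideal.homogeneous_span 𝒜 E hEhom
  -- Claim A
  have claimA : ∀ m : ℕ, ∀ x ∈ 𝒜 m, x ∈ Ideal.span E → f * x ∈ p (d + m) := by
    intro m x hx hxE
    have hE' : ∀ e ∈ E, ∃ m, e ∈ 𝒜 m ∧ f * e ∈ p (d + m) := fun e he => he
    choose! deg hdeg1 hdeg2 using hE'
    have h1 := Groth.Agent.Helper7.Graded.mem_closure_of_mem_span 𝒜 deg hdeg1 hx hxE
    have hsub : AddSubmonoid.closure
        {y : A | ∃ e ∈ E, deg e ≤ m ∧ ∃ a ∈ 𝒜 (m - deg e), y = a * e} ≤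
        (p (d + m)).toAddSubmonoid.comap (AddMonoidHom.mulLeft f) := by
      rw [AddSubmonoid.closure_le]
      rintro y ⟨e, he, hle, a, ha, rfl⟩
      show f * (a * e) ∈ p (d + m)
      have h2 := c1 (m - deg e) (d + deg e) (by omega) a ha (f * e) (hdeg2 e he)
      have h3 : m - deg e + (d + deg e) = d + m := by omega
      rw [h3] at h2
      rwa [mul_left_comm]
    exact hsub h1
  have claimA' : ∀ m : ℕ, ∀ x ∈ 𝒜 m, f * x ∈ p (d + m) → x ∈ Ideal.span E :=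
    fun m x hx h => Ideal.subset_span ⟨m, hx, h⟩
  have hff : f ∉ Ideal.span E := by
    intro hf
    have h1 := claimA d f hfd hf
    rcases c2 d d hd hd f hfd f hfd h1 with h | h <;> exact hfp h
  have hprime : (Ideal.span E).IsPrime := by
    refine hIhom.isPrime_of_homogeneous_mem_or_mem ?_ ?_
    · intro htop
      exact hff (htop ▸ Submodule.mem_top)
    · rintro x y ⟨k, hx⟩ ⟨l, hy⟩ hxy
      have h1 := claimA (k + l) (x * y) (SetLike.mul_mem_graded hx hy) hxy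
      have h2 := c1 d (d + (k + l)) (by omega) f hfd _ h1
      have h3 : d + (d + (k + l)) = (d + k) + (d + l) := by omega
      rw [h3] at h2
      have h4 : f * (f * (x * y)) = (f * x) * (f * y) := by ring
      rw [h4] at h2
      rcases c2 (d + k) (d + l) (by omega) (by omega) (f * x) (SetLike.mul_mem_graded hfd hx)
        (f * y) (SetLike.mul_mem_graded hfd hy) h2 with h | h
      · exact Or.inl (claimA' k x hx h)
      · exact Or.inr (claimA' l y hy h)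
  refine ⟨⟨Ideal.span E, hIhom⟩, hprime, ?_, ?_⟩
  · intro hle
    apply hff
    have : f ∈ (HomogeneousIdeal.irrelevant 𝒜).toIdeal :=
      HomogeneousIdeal.mem_irrelevant_of_mem 𝒜 (by omega) hfd
    exact hle this
  · intro n hn
    ext x
    constructor
    · rintro ⟨hx1, hx2⟩
      have h1 := claimA n x hx2 hx1
      rcases c2 d n hd hn f hfd x hx2 h1 with h | h
      · exact absurd h hfp
      · exact h
    · intro hx
      have hx2 : x ∈ 𝒜 n := hp n hn hx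
      exact ⟨claimA' n x hx2 (c1 d n hn f hfd x hx), hx2⟩

end Groth.Agent.Helper7.Graded
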