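import Mathlib

/-!
# Group structures from "pre-group" data and monoidal functors (helper7)

Abstract lemmas used to descend a group structure along base change functors.
-/

set_option autoImplicit false
set_option linter.unusedSectionVars false
set_option linter.style.haveILetI false
universe v u

open CategoryTheory
open MonoidalCategory CartesianMonoidalCategory CategoryTheory.Limits MonObj GrpObj Functor
open scoped CategoryTheory.Obj

noncomputable section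

namespace Groth.Agent.Helper7.GrpDescA

section PreGrp

variable {C : Type u} [Category.{v} C] [CartesianMonoidalCategory C] {X : C}
  (m : X ⊗ X ⟶ X) (e : 𝟙_ C ⟶ X) (i : X ⟶ X)

/-- group object from explicit operations and axioms -/
@[reducible] def grpOfAx (h1 : (e ▷ X) ≫ m = (λ_ X).hom) (h2 : (X ◁ e) ≫ m = (ρ_ X).hom)
    (h3 : (m ▷ X) ≫ m = (α_ X X X).hom ≫ (X ◁ m) ≫ m)
    (h4 : lift i (𝟙 X) ≫ m = toUnit X ≫ e) (h5 : lift (𝟙 X) i ≫ m = toUnit X ≫ e) :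
    GrpObj X where
  one := e
  mul := m
  inv := i
  one_mul := h1
  mul_one := h2
  mul_assoc := h3
  left_inv := h4
  right_inv := h5

end PreGrp

section Img

variable {C D : Type u} [Category.{v} C] [Category.{v} D]
  [CartesianMonoidalCategory C] [CartesianMonoidalCategory D] (F : C ⥤ D) [F.Monoidal]
  {X : C} (m : X ⊗ X ⟶ X) (e : 𝟙_ C ⟶ X) (i : X ⟶ X)

theorem img1 : ((LaxMonoidal.ε F ≫ F.map e) ▷ F.obj X) ≫ LaxMonoidal.μ F X X ≫ F.map m =
      (λ_ (F.obj X)).hom ↔ F.map ((e ▷ X) ≫ m) = F.map (λ_ X).hom := by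
  have h1 : ((LaxMonoidal.ε F ≫ F.map e) ▷ F.obj X) ≫ LaxMonoidal.μ F X X ≫ F.map m =
      (LaxMonoidal.ε F ▷ F.obj X) ≫ LaxMonoidal.μ F (𝟙_ C) X ≫ F.map ((e ▷ X) ≫ m) := by
    rw [comp_whiskerRight, Category.assoc, LaxMonoidal.μ_natural_left_assoc, F.map_comp]
  rw [h1, LaxMonoidal.left_unitality F X]
  constructor
  · intro h
    exact (cancel_epi _).1 ((cancel_epi _).1 h)
  · intro h; rw [h]

theorem img2 : (F.obj X ◁ (LaxMonoidal.ε F ≫ F.map e)) ≫ LaxMonoidal.μ F X X ≫ F.map m =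
      (ρ_ (F.obj X)).hom ↔ F.map ((X ◁ e) ≫ m) = F.map (ρ_ X).hom := by
  have h1 : (F.obj X ◁ (LaxMonoidal.ε F ≫ F.map e)) ≫ LaxMonoidal.μ F X X ≫ F.map m =
      (F.obj X ◁ LaxMonoidal.ε F) ≫ LaxMonoidal.μ F X (𝟙_ C) ≫ F.map ((X ◁ e) ≫ m) := by
    rw [MonoidalCategory.whiskerLeft_comp, Category.assoc, LaxMonoidal.μ_natural_right_assoc,
      F.map_comp]
  rw [h1, LaxMonoidal.right_unitality F X]
  constructor
  · intro h
    exact (cancel_epi _).1 ((cancel_epi _).1 h)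
  · intro h; rw [h]

theorem img3 : ((LaxMonoidal.μ F X X ≫ F.map m) ▷ F.obj X) ≫ LaxMonoidal.μ F X X ≫ F.map m =
      (α_ (F.obj X) (F.obj X) (F.obj X)).hom ≫
        (F.obj X ◁ (LaxMonoidal.μ F X X ≫ F.map m)) ≫ LaxMonoidal.μ F X X ≫ F.map m ↔
    F.map ((m ▷ X) ≫ m) = F.map ((α_ X X X).hom ≫ (X ◁ m) ≫ m) := by
  have h1 : ((LaxMonoidal.μ F X X ≫ F.map m) ▷ F.obj X) ≫ LaxMonoidal.μ F X X ≫ F.map m =
      (LaxMonoidal.μ F X X ▷ F.obj X) ≫ LaxMonoidal.μ F (X ⊗ X) X ≫ F.map ((m ▷ X) ≫ m) := by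
    rw [comp_whiskerRight, Category.assoc, LaxMonoidal.μ_natural_left_assoc, F.map_comp]
  have h2 : (α_ (F.obj X) (F.obj X) (F.obj X)).hom ≫
        (F.obj X ◁ (LaxMonoidal.μ F X X ≫ F.map m)) ≫ LaxMonoidal.μ F X X ≫ F.map m =
      (LaxMonoidal.μ F X X ▷ F.obj X) ≫ LaxMonoidal.μ F (X ⊗ X) X ≫
        F.map ((α_ X X X).hom ≫ (X ◁ m) ≫ m) := by
    rw [MonoidalCategory.whiskerLeft_comp, Category.assoc, LaxMonoidal.μ_natural_right_assoc,
      F.map_comp, F.map_comp, ← LaxMonoidal.associativity_assoc]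
  rw [h1, h2]
  constructor
  · intro h
    exact (cancel_epi _).1 ((cancel_epi _).1 h)
  · intro h; rw [h]

theorem img4 : lift (F.map i) (𝟙 (F.obj X)) ≫ LaxMonoidal.μ F X X ≫ F.map m =
      toUnit (F.obj X) ≫ LaxMonoidal.ε F ≫ F.map e ↔
    F.map (lift i (𝟙 X) ≫ m) = F.map (toUnit X ≫ e) := by
  rw [← F.map_id, Functor.Monoidal.lift_μ_assoc, Functor.Monoidal.toUnit_ε_assoc, ← F.map_comp,
    ← F.map_comp]

theorem img5 : lift (𝟙 (F.obj X)) (F.map i) ≫ LaxMonoidal.μ F X X ≫ F.map m =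
      toUnit (F.obj X) ≫ LaxMonoidal.ε F ≫ F.map e ↔
    F.map (lift (𝟙 X) i ≫ m) = F.map (toUnit X ≫ e) := by
  rw [← F.map_id, Functor.Monoidal.lift_μ_assoc, Functor.Monoidal.toUnit_ε_assoc, ← F.map_comp,
    ← F.map_comp]

/-- image equations give a group structure on the image -/
@[reducible] def grpOfImg (h1 : F.map ((e ▷ X) ≫ m) = F.map (λ_ X).hom)
    (h2 : F.map ((X ◁ e) ≫ m) = F.map (ρ_ X).hom)
    (h3 : F.map ((m ▷ X) ≫ m) = F.map ((α_ X X X).hom ≫ (X ◁ m) ≫ m))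
    (h4 : F.map (lift i (𝟙 X) ≫ m) = F.map (toUnit X ≫ e))
    (h5 : F.map (lift (𝟙 X) i ≫ m) = F.map (toUnit X ≫ e)) : GrpObj (F.obj X) :=
  grpOfAx (LaxMonoidal.μ F X X ≫ F.map m) (LaxMonoidal.ε F ≫ F.map e) (F.map i)
    ((img1 F m e).2 h1) ((img2 F m e).2 h2) ((img3 F m).2 h3) ((img4 F m e i).2 h4)
    ((img5 F m e i).2 h5)

/-- if the image pre-group is (the operations of) a group, the image equations hold -/
theorem ax_of_matching [GrpObj (F.obj X)] (hm : μ[F.obj X] = LaxMonoidal.μ F X X ≫ F.map m)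
    (he : η[F.obj X] = LaxMonoidal.ε F ≫ F.map e) (hi : ι[F.obj X] = F.map i) :
    F.map ((e ▷ X) ≫ m) = F.map (λ_ X).hom ∧ F.map ((X ◁ e) ≫ m) = F.map (ρ_ X).hom ∧
    F.map ((m ▷ X) ≫ m) = F.map ((α_ X X X).hom ≫ (X ◁ m) ≫ m) ∧
    F.map (lift i (𝟙 X) ≫ m) = F.map (toUnit X ≫ e) ∧
    F.map (lift (𝟙 X) i ≫ m) = F.map (toUnit X ≫ e) := by
  refine ⟨(img1 F m e).1 ?_, (img2 F m e).1 ?_, (img3 F m).1 ?_, (img4 F m e i).1 ?_,
    (img5 F m e i).1 ?_⟩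
  · rw [← hm, ← he]; exact MonObj.one_mul _
  · rw [← hm, ← he]; exact MonObj.mul_one _
  · rw [← hm]; exact MonObj.mul_assoc _
  · rw [← hm, ← he, ← hi]; exact GrpObj.left_inv _
  · rw [← hm, ← he, ← hi]; exact GrpObj.right_inv _

end Img

section Tower

variable {C D E : Type u} [Category.{v} C] [Category.{v} D] [Category.{v} E]
  [CartesianMonoidalCategory C] [CartesianMonoidalCategory D] [CartesianMonoidalCategory E]
  (P : C ⥤ D) (F' : D ⥤ E) (F : C ⥤ E) [P.Monoidal] [F'.Monoidal] [F.Monoidal]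

/-- a natural transformation `P ⋙ F' ⟶ F` is a homomorphism on an object whose group
structures on `P X` and `F X` are both induced by the same pre-group on `X` -/
theorem isMonHom_app {X : C} (m : X ⊗ X ⟶ X) (e : 𝟙_ C ⟶ X) (κ : P ⋙ F' ⟶ F)
    [GrpObj (P.obj X)] [GrpObj (F.obj X)]
    (hPm : μ[P.obj X] = LaxMonoidal.μ P X X ≫ P.map m)
    (hPe : η[P.obj X] = LaxMonoidal.ε P ≫ P.map e)
    (hm : μ[F.obj X] = LaxMonoidal.μ F X X ≫ F.map m)
    (he : η[F.obj X] = LaxMonoidal.ε F ≫ F.map e) :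
    IsMonHom (show F'.obj (P.obj X) ⟶ F.obj X from κ.app X) := by
  haveI := NatTrans.IsMonoidal.of_cartesianMonoidalCategory (P ⋙ F') F κ
  constructor
  · change η[F'.obj (P.obj X)] ≫ κ.app X = _
    rw [obj.η_def, hPe, he, Functor.map_comp, Category.assoc, Category.assoc]
    have h1 := NatTrans.IsMonoidal.unit (τ := κ)
    have h2 := κ.naturality e
    simp only [Functor.comp_map] at h2
    rw [h2, ← h1, LaxMonoidal.comp_ε]
    simp only [Category.assoc]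
  · change μ[F'.obj (P.obj X)] ≫ κ.app X = (κ.app X ⊗ₘ κ.app X) ≫ _
    rw [obj.μ_def, hPm, hm, Functor.map_comp, Category.assoc, Category.assoc]
    have h1 := NatTrans.IsMonoidal.tensor (τ := κ) X X
    have h2 := κ.naturality m
    simp only [Functor.comp_map] at h2
    rw [h2, ← Category.assoc (tensorHom _ _), ← h1]
    simp [Functor.LaxMonoidal.comp_μ]

/-- the three compatibilities needed to transport a group structure along `κ` -/
theorem matching_eqs (κ : P ⋙ F' ≅ F) {X₀ : C} [GrpObj (F.obj X₀)]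
    (mf : P.obj (X₀ ⊗ X₀) ⟶ P.obj X₀) (ef : P.obj (𝟙_ C) ⟶ P.obj X₀) (iv : P.obj X₀ ⟶ P.obj X₀)
    (hm : F'.map mf = κ.hom.app (X₀ ⊗ X₀) ≫ (OplaxMonoidal.δ F X₀ X₀ ≫ μ[F.obj X₀]) ≫
      κ.inv.app X₀)
    (he : F'.map ef = κ.hom.app (𝟙_ C) ≫ (OplaxMonoidal.η F ≫ η[F.obj X₀]) ≫ κ.inv.app X₀)
    (hi : F'.map iv = κ.hom.app X₀ ≫ ι[F.obj X₀] ≫ κ.inv.app X₀) :
    (LaxMonoidal.ε F' ≫ F'.map (LaxMonoidal.ε P ≫ ef)) ≫ κ.hom.app X₀ = η[F.obj X₀] ∧
    (LaxMonoidal.μ F' (P.obj X₀) (P.obj X₀) ≫ F'.map (LaxMonoidal.μ P X₀ X₀ ≫ mf)) ≫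
        κ.hom.app X₀ = (κ.hom.app X₀ ⊗ₘ κ.hom.app X₀) ≫ μ[F.obj X₀] ∧
    F'.map iv ≫ κ.hom.app X₀ = κ.hom.app X₀ ≫ ι[F.obj X₀] := by
  haveI := NatTrans.IsMonoidal.of_cartesianMonoidalCategory (P ⋙ F') F κ.hom
  have h1 := NatTrans.IsMonoidal.unit (τ := κ.hom)
  have h2 := NatTrans.IsMonoidal.tensor (τ := κ.hom) X₀ X₀
  rw [LaxMonoidal.comp_ε, Category.assoc] at h1
  rw [LaxMonoidal.comp_μ, Category.assoc] at h2
  refine ⟨?_, ?_, ?_⟩
  · rw [F'.map_comp, he]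
    simp only [Category.assoc, Iso.inv_hom_id_app, Category.comp_id]
    rw [reassoc_of% h1]
    simp
  · rw [F'.map_comp, hm]
    simp only [Category.assoc, Iso.inv_hom_id_app, Category.comp_id]
    rw [reassoc_of% h2]
    simp
  · rw [hi]
    simp only [Category.assoc, Iso.inv_hom_id_app, Category.comp_id]

end Tower

end Groth.Agent.Helper7.GrpDescA
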