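import Mathlib
import Groth.Agent.Lib.Helper4.LimHom
import Groth.Agent.Lib.Helper18.ChowTower

/-!
# Homomorphisms of group schemes over a cofiltered limit descend to a stage (helper7)
-/

set_option autoImplicit false
set_option linter.unusedSectionVars false
set_option linter.style.haveILetI false
universe v u

open CategoryTheory AlgebraicGeometry
open MonoidalCategory CartesianMonoidalCategory CategoryTheory.Limits MonObj GrpObj Functor
open scoped CategoryTheory.Obj

noncomputable section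

namespace Groth.Agent.Helper7.GrpHomLim

open Groth.Agent.Helper18.ChowTower

section General

variable {C D : Type u} [Category.{v} C] [Category.{v} D]
  [CartesianMonoidalCategory C] [CartesianMonoidalCategory D] (F : C ⥤ D) [F.Monoidal]

theorem isMonHom_map_iff {G H : C} [MonObj G] [MonObj H] (u : G ⟶ H) :
    IsMonHom (F.map u) ↔
      F.map (η[G] ≫ u) = F.map η[H] ∧ F.map (μ[G] ≫ u) = F.map ((u ⊗ₘ u) ≫ μ[H]) := by
  have e : (F.map u ⊗ₘ F.map u) ≫ LaxMonoidal.μ F H H ≫ F.map μ[H] =
      LaxMonoidal.μ F G G ≫ F.map ((u ⊗ₘ u) ≫ μ[H]) := by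
    rw [F.map_comp, ← Category.assoc, LaxMonoidal.μ_natural, Category.assoc]
  constructor
  · intro h
    constructor
    · have h1 := IsMonHom.one_hom (F.map u)
      rw [obj.η_def, obj.η_def, Category.assoc, ← F.map_comp] at h1
      exact (cancel_epi (LaxMonoidal.ε F)).1 h1
    · have h1 := IsMonHom.mul_hom (F.map u)
      rw [obj.μ_def, obj.μ_def, Category.assoc, ← F.map_comp, e] at h1
      exact (cancel_epi (LaxMonoidal.μ F G G)).1 h1
  · rintro ⟨h1, h2⟩
    constructor
    · rw [obj.η_def, obj.η_def, Category.assoc, ← F.map_comp, h1]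
    · rw [obj.μ_def, obj.μ_def, Category.assoc, ← F.map_comp, h2, e]

end General

section Sch

theorem pbc_inv_fst {X Y Z : Scheme.{u}} (f : X ⟶ Y) (g : Y ⟶ Z) (A : Over Z) :
    ((Over.pullbackComp f g).inv.app A).left ≫ pullback.fst A.hom (f ≫ g) =
      pullback.fst ((Over.pullback g).obj A).hom f ≫ pullback.fst A.hom g := by
  have h := conjugateEquiv_counit ((Over.mapPullbackAdj f).comp (Over.mapPullbackAdj g))
    (Over.mapPullbackAdj (f ≫ g)) (Over.mapComp f g).symm.inv A
  have h' := congrArg CommaMorphism.left h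
  simp only [Adjunction.comp_counit_app, Over.mapPullbackAdj_counit_app, Over.comp_left,
    Over.map_map_left, Over.homMk_left, Iso.symm_inv, Over.mapComp_hom_app_left] at h'
  exact h'.trans (Category.id_comp _)

variable {X Y Z : Scheme.{u}} (f : X ⟶ Y) (g : Y ⟶ Z) {c : X ⟶ Z} (hc : f ≫ g = c)

@[reassoc]
theorem compIso_hom_left_fst (A : Over Z) :
    (compIso f g hc A).hom.left ≫ pullback.fst A.hom c =
      pullback.fst ((Over.pullback g).obj A).hom f ≫ pullback.fst A.hom g := by
  subst hc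
  simp only [compIso_hom, eqToHom_refl, Category.comp_id]
  exact pbc_inv_fst f g A

@[reassoc]
theorem compIso_hom_left_snd (A : Over Z) :
    (compIso f g hc A).hom.left ≫ pullback.snd A.hom c =
      pullback.snd ((Over.pullback g).obj A).hom f :=
  Over.w (compIso f g hc A).hom

@[reassoc]
theorem compIso_inv_left_fst (A : Over Z) :
    (compIso f g hc A).inv.left ≫ pullback.fst ((Over.pullback g).obj A).hom f ≫
      pullback.fst A.hom g = pullback.fst A.hom c := by
  rw [← compIso_hom_left_fst f g hc A, ← Category.assoc, ← Over.comp_left, Iso.inv_hom_id]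
  exact Category.id_comp _

@[reassoc]
theorem compIso_inv_left_snd (A : Over Z) :
    (compIso f g hc A).inv.left ≫ pullback.snd ((Over.pullback g).obj A).hom f =
      pullback.snd A.hom c :=
  Over.w (compIso f g hc A).inv

@[reassoc]
theorem map_left_fst {A B : Over Y} (a : A ⟶ B) :
    ((Over.pullback f).map a).left ≫ pullback.fst B.hom f = pullback.fst A.hom f ≫ a.left := by
  simp only [Over.pullback_map_left]
  exact pullback.lift_fst _ _ _

@[reassoc]
theorem map_left_snd {A B : Over Y} (a : A ⟶ B) :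
    ((Over.pullback f).map a).left ≫ pullback.snd B.hom f = pullback.snd A.hom f :=
  Over.w ((Over.pullback f).map a)

theorem map_eq_of_fst_comp_eq {A B : Over Y} (a b : A ⟶ B)
    (h : pullback.fst A.hom f ≫ a.left = pullback.fst A.hom f ≫ b.left) :
    (Over.pullback f).map a = (Over.pullback f).map b := by
  apply Over.OverMorphism.ext
  apply pullback.hom_ext
  · rw [map_left_fst, map_left_fst, h]
  · rw [map_left_snd, map_left_snd]

include f hc in
theorem map_eq_comp {A B : Over Z} (a b : A ⟶ B)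
    (h : (Over.pullback g).map a = (Over.pullback g).map b) :
    (Over.pullback c).map a = (Over.pullback c).map b := by
  have ha := compIso_natural f g hc a
  have hb := compIso_natural f g hc b
  rw [h] at ha
  exact (cancel_epi (compIso f g hc A).hom).1 (ha.symm.trans hb)

end Sch

section Lim

variable {I : Type u} [SmallCategory I] [IsCofiltered I] (D : I ⥤ Scheme.{u})
  [∀ {i j} (f : i ⟶ j), IsAffineHom (D.map f)] (c : Cone D) (hc : IsLimit c)

include hc in
theorem map_eq_eventually (i : I) {A B : Over (D.obj i)} [CompactSpace A.left]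
    [LocallyOfFiniteType B.hom] (a b : A ⟶ B)
    (h : (Over.pullback (c.π.app i)).map a = (Over.pullback (c.π.app i)).map b) :
    ∃ (i' : I) (g : i' ⟶ i), (Over.pullback (D.map g)).map a = (Over.pullback (D.map g)).map b := by
  have h' : pullback.fst A.hom (c.π.app i) ≫ a.left = pullback.fst A.hom (c.π.app i) ≫ b.left := by
    rw [← map_left_fst, ← map_left_fst, h]
  obtain ⟨i', g, hg⟩ := Groth.Agent.Helper4.LimHom.hom_eq_eventually D c hc i A.hom B.hom
    (pullback.fst A.hom (c.π.app i)) (pullback.snd A.hom (c.π.app i))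
    (IsPullback.of_hasPullback _ _) a.left b.left (Over.w a) (Over.w b) h'
  exact ⟨i', g, map_eq_of_fst_comp_eq _ a b hg⟩

end Lim

section Main

variable {I : Type u} [SmallCategory I] (D : I ⥤ Scheme.{u}) (c : Cone D)

/-- the canonical map from the base change to the limit to the base change to a stage -/
def sec {i j : I} (f : i ⟶ j) (A : Over (D.obj j)) :
    pullback A.hom (c.π.app j) ⟶ pullback A.hom (D.map f) :=
  pullback.lift (pullback.fst A.hom (c.π.app j)) (pullback.snd A.hom (c.π.app j) ≫ c.π.app i)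
    (by rw [Category.assoc, c.w f, pullback.condition])

@[reassoc (attr := simp)]
theorem sec_fst {i j : I} (f : i ⟶ j) (A : Over (D.obj j)) :
    sec D c f A ≫ pullback.fst A.hom (D.map f) = pullback.fst A.hom (c.π.app j) :=
  pullback.lift_fst _ _ _

@[reassoc (attr := simp)]
theorem sec_snd {i j : I} (f : i ⟶ j) (A : Over (D.obj j)) :
    sec D c f A ≫ pullback.snd A.hom (D.map f) = pullback.snd A.hom (c.π.app j) ≫ c.π.app i :=
  pullback.lift_snd _ _ _

@[reassoc]
theorem compIso_hom_sec {i j : I} (f : i ⟶ j) (A : Over (D.obj j)) :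
    (compIso (c.π.app i) (D.map f) (c.w f) A).hom.left ≫ sec D c f A =
      pullback.fst ((Over.pullback (D.map f)).obj A).hom (c.π.app i) := by
  apply pullback.hom_ext
  · rw [Category.assoc, sec_fst, compIso_hom_left_fst]
  · rw [Category.assoc, sec_snd, ← Category.assoc, compIso_hom_left_snd]
    exact pullback.condition.symm

theorem map_eq_conj {i j : I} (f : i ⟶ j) (Gj Hj : Over (D.obj j))
    (u : Red.bc (c.π.app j) Gj ⟶ Red.bc (c.π.app j) Hj)
    (v : Red.bc (D.map f) Gj ⟶ Red.bc (D.map f) Hj)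
    (h : sec D c f Gj ≫ v.left = u.left ≫ sec D c f Hj) :
    (Over.pullback (c.π.app i)).map v =
      (compIso (c.π.app i) (D.map f) (c.w f) Gj).hom ≫ u ≫
        (compIso (c.π.app i) (D.map f) (c.w f) Hj).inv := by
  rw [← Category.assoc, Iso.eq_comp_inv]
  apply Over.OverMorphism.ext
  rw [Over.comp_left, Over.comp_left]
  apply pullback.hom_ext
  · rw [Category.assoc, compIso_hom_left_fst, ← Category.assoc, map_left_fst, Category.assoc,
      Category.assoc, ← sec_fst D c f Hj, ← Category.assoc u.left, ← h, Category.assoc,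
      ← Category.assoc _ (sec D c f Gj), compIso_hom_sec]
  · rw [Category.assoc, compIso_hom_left_snd, map_left_snd, Category.assoc]
    have hu : u.left ≫ pullback.snd Hj.hom (c.π.app j) = pullback.snd Gj.hom (c.π.app j) :=
      Over.w u
    rw [hu, compIso_hom_left_snd]

variable [IsCofiltered I] [∀ {i j} (f : i ⟶ j), IsAffineHom (D.map f)] (hc : IsLimit c)
  [∀ i, CompactSpace (D.obj i)] [∀ i, QuasiSeparatedSpace (D.obj i)]

include hc in
theorem exists_grpHom_descend (j : I) (Gj Hj : Over (D.obj j)) [GrpObj Gj] [GrpObj Hj]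
    [QuasiCompact Gj.hom] [QuasiSeparated Gj.hom] [LocallyOfFinitePresentation Hj.hom]
    (u : Red.bc (c.π.app j) Gj ⟶ Red.bc (c.π.app j) Hj) (hu : IsMonHom u) :
    ∃ (i : I) (f : i ⟶ j) (ui : Red.bc (D.map f) Gj ⟶ Red.bc (D.map f) Hj), IsMonHom ui ∧
      (Over.pullback (c.π.app i)).map ui =
        (compIso (c.π.app i) (D.map f) (c.w f) Gj).hom ≫ u ≫
          (compIso (c.π.app i) (D.map f) (c.w f) Hj).inv := by
  haveI : CompactSpace Gj.left := QuasiCompact.compactSpace_of_compactSpace Gj.hom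
  haveI : QuasiSeparatedSpace Gj.left := quasiSeparatedSpace_of_quasiSeparated Gj.hom
  obtain ⟨j₁, φ, fj, sX, sY, h1, h2, h3, h4, h5, h6⟩ :=
    Groth.Agent.Helper4.LimHom.exists_hom_descend D c hc j Gj.hom Hj.hom
      (pullback.fst Gj.hom (c.π.app j)) (pullback.snd Gj.hom (c.π.app j))
      (IsPullback.of_hasPullback _ _)
      (pullback.fst Hj.hom (c.π.app j)) (pullback.snd Hj.hom (c.π.app j))
      (IsPullback.of_hasPullback _ _) u.left (Over.w u)
  have hsX : sX = sec D c φ Gj := by
    apply pullback.hom_ext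
    · rw [h2, sec_fst]
    · rw [h3, sec_snd]
  have hsY : sY = sec D c φ Hj := by
    apply pullback.hom_ext
    · rw [h4, sec_fst]
    · rw [h5, sec_snd]
  rw [hsX, hsY] at h6
  let u₁ : Red.bc (D.map φ) Gj ⟶ Red.bc (D.map φ) Hj := Over.homMk fj h1
  have hu₁ : u₁.left = fj := rfl
  have key3 := map_eq_conj D c φ Gj Hj u u₁ h6
  haveI := hu
  haveI := isMonHom_compIso_hom (c.π.app j₁) (D.map φ) (c.w φ) Gj
  haveI := isMonHom_compIso_inv (c.π.app j₁) (D.map φ) (c.w φ) Hj
  have hmon : IsMonHom ((Over.pullback (c.π.app j₁)).map u₁) := by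
    rw [key3]; infer_instance
  obtain ⟨hη, hμ⟩ := (isMonHom_map_iff (Over.pullback (c.π.app j₁)) u₁).1 hmon
  haveI : LocallyOfFiniteType (Red.bc (D.map φ) Hj).hom := by
    show LocallyOfFiniteType (pullback.snd Hj.hom (D.map φ))
    infer_instance
  haveI : CompactSpace (𝟙_ (Over (D.obj j₁))).left := by
    show CompactSpace (D.obj j₁)
    infer_instance
  haveI : CompactSpace (Red.bc (D.map φ) Gj).left := by
    show CompactSpace ↥(pullback Gj.hom (D.map φ))
    exact QuasiCompact.compactSpace_of_compactSpace (pullback.snd Gj.hom (D.map φ))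
  haveI : QuasiCompact (Red.bc (D.map φ) Gj).hom := by
    show QuasiCompact (pullback.snd Gj.hom (D.map φ))
    infer_instance
  haveI : CompactSpace (Red.bc (D.map φ) Gj ⊗ Red.bc (D.map φ) Gj).left := by
    show CompactSpace ↥(pullback (Red.bc (D.map φ) Gj).hom (Red.bc (D.map φ) Gj).hom)
    infer_instance
  obtain ⟨i₁, g₁, e₁⟩ := map_eq_eventually D c hc j₁ (η[Red.bc (D.map φ) Gj] ≫ u₁)
    η[Red.bc (D.map φ) Hj] hη
  obtain ⟨i₂, g₂, e₂⟩ := map_eq_eventually D c hc j₁ (μ[Red.bc (D.map φ) Gj] ≫ u₁)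
    ((u₁ ⊗ₘ u₁) ≫ μ[Red.bc (D.map φ) Hj]) hμ
  obtain ⟨i, a₁, a₂, ha⟩ := IsCofiltered.cospan g₁ g₂
  obtain ⟨ψ, hψ⟩ : ∃ ψ : i ⟶ j₁, ψ = a₁ ≫ g₁ := ⟨_, rfl⟩
  have e₁' := map_eq_comp (D.map a₁) (D.map g₁) (c := D.map ψ) (by rw [hψ, ← D.map_comp]) _ _ e₁
  have e₂' := map_eq_comp (D.map a₂) (D.map g₂) (c := D.map ψ)
    (by rw [hψ, ← D.map_comp, ← ha]) _ _ e₂
  have hmonψ : IsMonHom ((Over.pullback (D.map ψ)).map u₁) :=
    (isMonHom_map_iff (Over.pullback (D.map ψ)) u₁).2 ⟨e₁', e₂'⟩
  have hψφ : D.map ψ ≫ D.map φ = D.map (ψ ≫ φ) := (D.map_comp ψ φ).symm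
  haveI := isMonHom_compIso_hom (D.map ψ) (D.map φ) hψφ Hj
  haveI := isMonHom_compIso_inv (D.map ψ) (D.map φ) hψφ Gj
  let ui : Red.bc (D.map (ψ ≫ φ)) Gj ⟶ Red.bc (D.map (ψ ≫ φ)) Hj :=
    (compIso (D.map ψ) (D.map φ) hψφ Gj).inv ≫ (Over.pullback (D.map ψ)).map u₁ ≫
      (compIso (D.map ψ) (D.map φ) hψφ Hj).hom
  have hui : IsMonHom ui := by
    show IsMonHom ((compIso (D.map ψ) (D.map φ) hψφ Gj).inv ≫ (Over.pullback (D.map ψ)).map u₁ ≫
      (compIso (D.map ψ) (D.map φ) hψφ Hj).hom)
    infer_instance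
  refine ⟨i, ψ ≫ φ, ui, hui, map_eq_conj D c (ψ ≫ φ) Gj Hj u ui ?_⟩
  -- the claim T
  have hT : sec D c (ψ ≫ φ) Gj ≫ (compIso (D.map ψ) (D.map φ) hψφ Gj).inv.left ≫
      pullback.fst ((Over.pullback (D.map φ)).obj Gj).hom (D.map ψ) = sec D c φ Gj := by
    apply pullback.hom_ext
    · simp only [Category.assoc]
      rw [compIso_inv_left_fst, sec_fst, sec_fst]
    · have hcond : pullback.fst ((Over.pullback (D.map φ)).obj Gj).hom (D.map ψ) ≫
          pullback.snd Gj.hom (D.map φ) =
          pullback.snd ((Over.pullback (D.map φ)).obj Gj).hom (D.map ψ) ≫ D.map ψ :=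
        pullback.condition
      simp only [Category.assoc]
      rw [hcond, compIso_inv_left_snd_assoc, sec_snd_assoc, sec_snd, c.w ψ]
  have hui_left : ui.left = (compIso (D.map ψ) (D.map φ) hψφ Gj).inv.left ≫
      ((Over.pullback (D.map ψ)).map u₁).left ≫ (compIso (D.map ψ) (D.map φ) hψφ Hj).hom.left := by
    simp only [ui, Over.comp_left]
  apply pullback.hom_ext
  · rw [hui_left]
    simp only [Category.assoc]
    rw [compIso_hom_left_fst, map_left_fst_assoc, reassoc_of% hT, hu₁, reassoc_of% h6,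
      sec_fst, sec_fst]
  · have hw : ui.left ≫ pullback.snd Hj.hom (D.map (ψ ≫ φ)) = pullback.snd Gj.hom (D.map (ψ ≫ φ)) :=
      Over.w ui
    have hu' : u.left ≫ pullback.snd Hj.hom (c.π.app j) = pullback.snd Gj.hom (c.π.app j) :=
      Over.w u
    simp only [Category.assoc]
    rw [hw, sec_snd, sec_snd, reassoc_of% hu']

end Main

end Groth.Agent.Helper7.GrpHomLim
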