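import Mathlib
import Groth.Agent.Lib.Helper7.GrpHomLim
import Groth.Agent.Lib.Helper4.LimStage

/-!
# Normal / central subgroup schemes over a cofiltered limit (helper7)
-/

set_option autoImplicit false
set_option linter.unusedSectionVars false
set_option linter.style.haveILetI false
universe v u

open CategoryTheory AlgebraicGeometry
open MonoidalCategory CartesianMonoidalCategory CategoryTheory.Limits MonObj GrpObj Functor
open scoped CategoryTheory.Obj

noncomputable section

namespace Groth.Agent.Helper7.GrpNormLim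

open Groth.Agent.Helper18.ChowTower Groth.Agent.Helper7.GrpHomLim

section General

variable {C D : Type u} [Category.{v} C] [Category.{v} D]
  [CartesianMonoidalCategory C] [CartesianMonoidalCategory D]

/-- normality on points -/
def PN {N G : C} [GrpObj N] [GrpObj G] (i : N ⟶ G) : Prop :=
  ∀ (T : C) (g : T ⟶ G) (n : T ⟶ N), ∃ n' : T ⟶ N, g * (n ≫ i) * g⁻¹ = n' ≫ i

/-- centrality on points -/
def PC {N G : C} [GrpObj N] [GrpObj G] (i : N ⟶ G) : Prop :=
  ∀ (T : C) (g : T ⟶ G) (n : T ⟶ N), g * (n ≫ i) = (n ≫ i) * g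

/-- the universal conjugate -/
def cj {N G : C} [GrpObj N] [GrpObj G] (i : N ⟶ G) : G ⊗ N ⟶ G :=
  fst G N * (snd G N ≫ i) * (fst G N)⁻¹

def cl {N G : C} [GrpObj N] [GrpObj G] (i : N ⟶ G) : G ⊗ N ⟶ G :=
  fst G N * (snd G N ≫ i)

def cr {N G : C} [GrpObj N] [GrpObj G] (i : N ⟶ G) : G ⊗ N ⟶ G :=
  (snd G N ≫ i) * fst G N

theorem pn_iff {N G : C} [GrpObj N] [GrpObj G] (i : N ⟶ G) :
    PN i ↔ ∃ w : G ⊗ N ⟶ N, cj i = w ≫ i := by
  constructor
  · intro h; exact h (G ⊗ N) (fst G N) (snd G N)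
  · rintro ⟨w, hw⟩ T g n
    refine ⟨lift g n ≫ w, ?_⟩
    rw [Category.assoc, ← hw, cj, MonObj.comp_mul, MonObj.comp_mul, GrpObj.comp_inv, lift_fst,
      ← Category.assoc, lift_snd]

theorem pc_iff {N G : C} [GrpObj N] [GrpObj G] (i : N ⟶ G) :
    PC i ↔ cl i = cr i := by
  constructor
  · intro h; exact h (G ⊗ N) (fst G N) (snd G N)
  · intro hw T g n
    have := congrArg (fun t => lift g n ≫ t) hw
    simp only [cl, cr, MonObj.comp_mul, lift_fst] at this
    rw [← Category.assoc, lift_snd] at this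
    exact this

variable (F : C ⥤ D) [F.Monoidal]

theorem map_cj {N G : C} [GrpObj N] [GrpObj G] (i : N ⟶ G) :
    cj (F.map i) = LaxMonoidal.μ F G N ≫ F.map (cj i) := by
  rw [cj, cj, Functor.map_mul, Functor.map_mul, Functor.map_inv', F.map_comp, MonObj.comp_mul,
    MonObj.comp_mul, GrpObj.comp_inv, Functor.Monoidal.μ_fst, ← Category.assoc,
    Functor.Monoidal.μ_snd]

theorem map_cl {N G : C} [GrpObj N] [GrpObj G] (i : N ⟶ G) :
    cl (F.map i) = LaxMonoidal.μ F G N ≫ F.map (cl i) := by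
  rw [cl, cl, Functor.map_mul, F.map_comp, MonObj.comp_mul, Functor.Monoidal.μ_fst,
    ← Category.assoc, Functor.Monoidal.μ_snd]

theorem map_cr {N G : C} [GrpObj N] [GrpObj G] (i : N ⟶ G) :
    cr (F.map i) = LaxMonoidal.μ F G N ≫ F.map (cr i) := by
  rw [cr, cr, Functor.map_mul, F.map_comp, MonObj.comp_mul, Functor.Monoidal.μ_fst,
    ← Category.assoc, Functor.Monoidal.μ_snd]

theorem pn_map_iff {N G : C} [GrpObj N] [GrpObj G] (i : N ⟶ G) :
    PN (F.map i) ↔ ∃ w : F.obj (G ⊗ N) ⟶ F.obj N, F.map (cj i) = w ≫ F.map i := by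
  rw [pn_iff, map_cj]
  constructor
  · rintro ⟨w, hw⟩
    refine ⟨OplaxMonoidal.δ F G N ≫ w, ?_⟩
    rw [Category.assoc, ← hw, ← Category.assoc, Functor.Monoidal.δ_μ, Category.id_comp]
  · rintro ⟨w, hw⟩
    exact ⟨LaxMonoidal.μ F G N ≫ w, by rw [hw, Category.assoc]⟩

theorem pc_map_iff {N G : C} [GrpObj N] [GrpObj G] (i : N ⟶ G) :
    PC (F.map i) ↔ F.map (cl i) = F.map (cr i) := by
  rw [pc_iff, map_cl, map_cr]
  exact cancel_epi _

end General

section Sch

variable {X Y Z : Scheme.{u}} (f : X ⟶ Y) (g : Y ⟶ Z) {c : X ⟶ Z} (hc : f ≫ g = c)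

include hc in
/-- a factorization at the middle stage gives one after further base change -/
theorem fact_comp {A B B' : Over Z} (a : A ⟶ B') (b : B ⟶ B')
    (w : Red.bc g A ⟶ Red.bc g B)
    (h : (Over.pullback f).map ((Over.pullback g).map a) =
      (Over.pullback f).map (w ≫ (Over.pullback g).map b)) :
    ∃ w' : Red.bc c A ⟶ Red.bc c B, (Over.pullback c).map a = w' ≫ (Over.pullback c).map b := by
  refine ⟨(compIso f g hc A).inv ≫ (Over.pullback f).map w ≫ (compIso f g hc B).hom, ?_⟩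
  have ha := compIso_natural f g hc a
  have hb := compIso_natural f g hc b
  rw [h, Functor.map_comp, Category.assoc, hb] at ha
  rw [Category.assoc, Category.assoc, ha, Iso.inv_hom_id_assoc]

include hc in
theorem mono_comp {A B : Over Z} (a : A ⟶ B) [Mono ((Over.pullback g).map a)] :
    Mono ((Over.pullback c).map a) := by
  have ha := compIso_natural f g hc a
  have : (Over.pullback c).map a = (compIso f g hc A).inv ≫
      (Over.pullback f).map ((Over.pullback g).map a) ≫ (compIso f g hc B).hom := by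
    rw [ha, Iso.inv_hom_id_assoc]
  rw [this]
  infer_instance

theorem mono_map_of_mono_snd {Y' Z' : Scheme.{u}} (f' : Z' ⟶ Y') {A B : Over Y'} (a : A ⟶ B)
    [Mono (pullback.snd a.left (pullback.snd f' B.hom))] : Mono ((Over.pullback f').map a) := by
  haveI : Mono ((Over.pullback f').map a).left := by
    constructor
    intro W x y hxy
    let t : pullback A.hom f' ⟶ pullback a.left (pullback.snd f' B.hom) :=
      pullback.lift (pullback.fst A.hom f')
        (((Over.pullback f').map a).left ≫ (pullbackSymmetry B.hom f').hom)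
        (by rw [Category.assoc, pullbackSymmetry_hom_comp_snd, map_left_fst])
    have ht : t ≫ pullback.snd a.left (pullback.snd f' B.hom) =
        ((Over.pullback f').map a).left ≫ (pullbackSymmetry B.hom f').hom :=
      pullback.lift_snd _ _ _
    have ht1 : t ≫ pullback.fst a.left (pullback.snd f' B.hom) = pullback.fst A.hom f' :=
      pullback.lift_fst _ _ _
    have h1 : x ≫ t = y ≫ t := by
      rw [← cancel_mono (pullback.snd a.left (pullback.snd f' B.hom)), Category.assoc,
        Category.assoc, ht, reassoc_of% hxy]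
    apply pullback.hom_ext
    · rw [← ht1, reassoc_of% h1]
    · rw [← map_left_snd f' a, reassoc_of% hxy]
  exact Over.mono_of_mono_left _

end Sch

section Lim

variable {I : Type u} [SmallCategory I] [IsCofiltered I] (D : I ⥤ Scheme.{u})
  [∀ {i j} (f : i ⟶ j), IsAffineHom (D.map f)] (c : Cone D) (hc : IsLimit c)
  [∀ i, CompactSpace (D.obj i)] [∀ i, QuasiSeparatedSpace (D.obj i)]

include hc in
theorem exists_hom_descend_over (j : I) (A B : Over (D.obj j))
    [QuasiCompact A.hom] [QuasiSeparated A.hom] [LocallyOfFinitePresentation B.hom]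
    (u : Red.bc (c.π.app j) A ⟶ Red.bc (c.π.app j) B) :
    ∃ (i : I) (f : i ⟶ j) (v : Red.bc (D.map f) A ⟶ Red.bc (D.map f) B),
      (Over.pullback (c.π.app i)).map v =
        (compIso (c.π.app i) (D.map f) (c.w f) A).hom ≫ u ≫
          (compIso (c.π.app i) (D.map f) (c.w f) B).inv := by
  haveI : CompactSpace A.left := QuasiCompact.compactSpace_of_compactSpace A.hom
  haveI : QuasiSeparatedSpace A.left := quasiSeparatedSpace_of_quasiSeparated A.hom
  obtain ⟨j₁, φ, fj, sX, sY, h1, h2, h3, h4, h5, h6⟩ :=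
    Groth.Agent.Helper4.LimHom.exists_hom_descend D c hc j A.hom B.hom
      (pullback.fst A.hom (c.π.app j)) (pullback.snd A.hom (c.π.app j))
      (IsPullback.of_hasPullback _ _)
      (pullback.fst B.hom (c.π.app j)) (pullback.snd B.hom (c.π.app j))
      (IsPullback.of_hasPullback _ _) u.left (Over.w u)
  have hsX : sX = sec D c φ A := by
    apply pullback.hom_ext
    · rw [h2, sec_fst]
    · rw [h3, sec_snd]
  have hsY : sY = sec D c φ B := by
    apply pullback.hom_ext
    · rw [h4, sec_fst]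
    · rw [h5, sec_snd]
  rw [hsX, hsY] at h6
  exact ⟨j₁, φ, Over.homMk fj h1, map_eq_conj D c φ A B u (Over.homMk fj h1) h6⟩

include hc in
theorem fact_descend (j : I) (A B B' : Over (D.obj j))
    [QuasiCompact A.hom] [QuasiSeparated A.hom] [LocallyOfFinitePresentation B.hom]
    [LocallyOfFiniteType B'.hom] (a : A ⟶ B') (b : B ⟶ B')
    (h : ∃ w : Red.bc (c.π.app j) A ⟶ Red.bc (c.π.app j) B,
      (Over.pullback (c.π.app j)).map a = w ≫ (Over.pullback (c.π.app j)).map b) :
    ∃ (i : I) (f : i ⟶ j) (w : Red.bc (D.map f) A ⟶ Red.bc (D.map f) B),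
      (Over.pullback (D.map f)).map a = w ≫ (Over.pullback (D.map f)).map b := by
  obtain ⟨w, hw⟩ := h
  obtain ⟨i₂, f₂, w₂, hw₂⟩ := exists_hom_descend_over D c hc j A B w
  have key : (Over.pullback (c.π.app i₂)).map ((Over.pullback (D.map f₂)).map a) =
      (Over.pullback (c.π.app i₂)).map (w₂ ≫ (Over.pullback (D.map f₂)).map b) := by
    have ha := compIso_natural (c.π.app i₂) (D.map f₂) (c.w f₂) a
    have hb := compIso_natural (c.π.app i₂) (D.map f₂) (c.w f₂) b
    rw [← cancel_mono (compIso (c.π.app i₂) (D.map f₂) (c.w f₂) B').hom, ha, Functor.map_comp,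
      Category.assoc, hb, hw₂, hw]
    simp only [Category.assoc, Iso.inv_hom_id_assoc]
  haveI : CompactSpace (Red.bc (D.map f₂) A).left := by
    show CompactSpace ↥(pullback A.hom (D.map f₂))
    exact QuasiCompact.compactSpace_of_compactSpace (pullback.snd A.hom (D.map f₂))
  haveI : LocallyOfFiniteType (Red.bc (D.map f₂) B').hom := by
    show LocallyOfFiniteType (pullback.snd B'.hom (D.map f₂))
    infer_instance
  obtain ⟨i₃, g, hg⟩ := map_eq_eventually D c hc i₂ _ _ key
  obtain ⟨w', hw'⟩ := fact_comp (D.map g) (D.map f₂) (c := D.map (g ≫ f₂)) (D.map_comp g f₂).symm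
    a b w₂ hg
  exact ⟨i₃, g ≫ f₂, w', hw'⟩

include hc in
theorem exists_mono_stage_over (j : I) (A B : Over (D.obj j))
    [LocallyOfFinitePresentation A.hom] [QuasiCompact A.hom] [QuasiSeparated A.hom]
    [LocallyOfFinitePresentation B.hom] [QuasiCompact B.hom] [QuasiSeparated B.hom]
    (a : A ⟶ B) [Mono ((Over.pullback (c.π.app j)).map a)] :
    ∃ (i : I) (f : i ⟶ j), Mono ((Over.pullback (D.map f)).map a) := by
  haveI : LocallyOfFinitePresentation (a.left ≫ B.hom) := by rw [Over.w a]; infer_instance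
  haveI : QuasiCompact (a.left ≫ B.hom) := by rw [Over.w a]; infer_instance
  haveI : QuasiSeparated (a.left ≫ B.hom) := by rw [Over.w a]; infer_instance
  haveI : Mono ((Over.pullback (c.π.app j)).map a).left := inferInstance
  obtain ⟨i, f, hf⟩ := Groth.Agent.Helper4.LimStage.exists_mono_stage D c hc j a.left B.hom
    ((Over.pullback (c.π.app j)).map a).left (pullback.snd B.hom (c.π.app j))
    (pullback.fst B.hom (c.π.app j)) (pullback.fst A.hom (c.π.app j))
    (IsPullback.of_hasPullback _ _) (isPullback_map_left (c.π.app j) a).flip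
  haveI := hf
  exact ⟨i, f, mono_map_of_mono_snd (D.map f) a⟩

section Grp

variable (j : I) (Gj Hj : Over (D.obj j)) [GrpObj Gj] [GrpObj Hj]
  [LocallyOfFinitePresentation Gj.hom] [QuasiCompact Gj.hom] [QuasiSeparated Gj.hom]
  [LocallyOfFinitePresentation Hj.hom] [QuasiCompact Hj.hom] [QuasiSeparated Hj.hom]
  (uj : Hj ⟶ Gj)

theorem quasiCompact_tensor : QuasiCompact (Gj ⊗ Hj).hom := by
  show QuasiCompact (pullback.fst Gj.hom Hj.hom ≫ Gj.hom)
  infer_instance

theorem quasiSeparated_tensor : QuasiSeparated (Gj ⊗ Hj).hom := by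
  show QuasiSeparated (pullback.fst Gj.hom Hj.hom ≫ Gj.hom)
  infer_instance

include hc in
theorem normal_iff :
    (Mono ((Over.pullback (c.π.app j)).map uj) ∧ PN ((Over.pullback (c.π.app j)).map uj)) ↔
      ∃ (i : I) (f : i ⟶ j), Mono ((Over.pullback (D.map f)).map uj) ∧
        PN ((Over.pullback (D.map f)).map uj) := by
  haveI := quasiCompact_tensor D j Gj Hj
  haveI := quasiSeparated_tensor D j Gj Hj
  constructor
  · rintro ⟨hm, hn⟩
    haveI := hm
    obtain ⟨i₁, f₁, hm₁⟩ := exists_mono_stage_over D c hc j Hj Gj uj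
    obtain ⟨i₃, f₃, w₃, hw₃⟩ := fact_descend D c hc j (Gj ⊗ Hj) Hj Gj (cj uj) uj
      ((pn_map_iff _ uj).1 hn)
    obtain ⟨i, a₁, a₃, ha⟩ := IsCofiltered.cospan f₁ f₃
    refine ⟨i, a₁ ≫ f₁, ?_, ?_⟩
    · haveI := hm₁
      exact mono_comp (D.map a₁) (D.map f₁) (D.map_comp a₁ f₁).symm uj
    · rw [pn_map_iff]
      exact fact_comp (D.map a₃) (D.map f₃) (c := D.map (a₁ ≫ f₁)) (by rw [ha, D.map_comp])
        (cj uj) uj w₃ (by rw [hw₃])
  · rintro ⟨i, f, hm, hn⟩
    refine ⟨?_, ?_⟩
    · haveI := hm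
      exact mono_comp (c.π.app i) (D.map f) (c.w f) uj
    · rw [pn_map_iff] at hn ⊢
      obtain ⟨w, hw⟩ := hn
      exact fact_comp (c.π.app i) (D.map f) (c.w f) (cj uj) uj w (by rw [hw])

include hc in
theorem central_iff :
    (Mono ((Over.pullback (c.π.app j)).map uj) ∧ PC ((Over.pullback (c.π.app j)).map uj)) ↔
      ∃ (i : I) (f : i ⟶ j), Mono ((Over.pullback (D.map f)).map uj) ∧
        PC ((Over.pullback (D.map f)).map uj) := by
  haveI := quasiCompact_tensor D j Gj Hj
  haveI : CompactSpace (Gj ⊗ Hj).left :=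
    QuasiCompact.compactSpace_of_compactSpace (Gj ⊗ Hj).hom
  constructor
  · rintro ⟨hm, hz⟩
    haveI := hm
    obtain ⟨i₁, f₁, hm₁⟩ := exists_mono_stage_over D c hc j Hj Gj uj
    obtain ⟨i₂, f₂, e₂⟩ := map_eq_eventually D c hc j (cl uj) (cr uj) ((pc_map_iff _ uj).1 hz)
    obtain ⟨i, a₁, a₂, ha⟩ := IsCofiltered.cospan f₁ f₂
    refine ⟨i, a₁ ≫ f₁, ?_, ?_⟩
    · haveI := hm₁
      exact mono_comp (D.map a₁) (D.map f₁) (D.map_comp a₁ f₁).symm uj
    · rw [pc_map_iff]
      exact map_eq_comp (D.map a₂) (D.map f₂) (c := D.map (a₁ ≫ f₁)) (by rw [ha, D.map_comp])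
        _ _ e₂
  · rintro ⟨i, f, hm, hz⟩
    refine ⟨?_, ?_⟩
    · haveI := hm
      exact mono_comp (c.π.app i) (D.map f) (c.w f) uj
    · rw [pc_map_iff] at hz ⊢
      exact map_eq_comp (c.π.app i) (D.map f) (c.w f) _ _ hz

end Grp

end Lim

end Groth.Agent.Helper7.GrpNormLim
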