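import Mathlib
import Groth.Agent.Lib.Helper7.GrpNormLim

/-!
# Closed subschemes that become subgroups over a cofiltered limit (helper7)
-/

set_option autoImplicit false
set_option linter.unusedSectionVars false
set_option linter.style.haveILetI false
universe v u

open CategoryTheory AlgebraicGeometry
open MonoidalCategory CartesianMonoidalCategory CategoryTheory.Limits MonObj GrpObj Functor
open scoped CategoryTheory.Obj

noncomputable section

namespace Groth.Agent.Helper7.GrpSubLim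

open Groth.Agent.Helper18.ChowTower Groth.Agent.Helper7.GrpHomLim Groth.Agent.Helper7.GrpNormLim

section General

variable {C : Type u} [Category.{v} C] [CartesianMonoidalCategory C] {G H : C} [GrpObj G]
  (k : H ⟶ G) (e : 𝟙_ C ⟶ H) (m : H ⊗ H ⟶ H) (v : H ⟶ H)

theorem mul_pt (hm : m ≫ k = (k ⊗ₘ k) ≫ μ[G]) {T : C} (x : T ⟶ H ⊗ H) :
    x ≫ m ≫ k = (x ≫ fst H H ≫ k) * (x ≫ snd H H ≫ k) := by
  have : x ≫ (k ⊗ₘ k) = lift (x ≫ fst H H ≫ k) (x ≫ snd H H ≫ k) := by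
    apply CartesianMonoidalCategory.hom_ext <;> simp
  rw [hm, ← Category.assoc, this, Hom.mul_def]

theorem one_pt (he : e ≫ k = η[G]) {T : C} (x : T ⟶ 𝟙_ C) : x ≫ e ≫ k = 1 := by
  rw [he, one_eq_one, MonObj.comp_one]

/-- group structure on a subobject closed under the operations -/
@[reducible] def grpOfMono [Mono k] (he : e ≫ k = η[G]) (hm : m ≫ k = (k ⊗ₘ k) ≫ μ[G])
    (hv : v ≫ k = k ≫ ι[G]) : GrpObj H where
  one := e
  mul := m
  inv := v
  one_mul := by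
    rw [← cancel_mono k, Category.assoc, mul_pt k m hm, whiskerRight_fst_assoc,
      whiskerRight_snd_assoc, one_pt k e he, _root_.one_mul, leftUnitor_hom]
  mul_one := by
    rw [← cancel_mono k, Category.assoc, mul_pt k m hm, whiskerLeft_fst_assoc,
      whiskerLeft_snd_assoc, one_pt k e he, _root_.mul_one, rightUnitor_hom]
  mul_assoc := by
    rw [← cancel_mono k]
    have h1 := mul_pt k m hm (m ▷ H)
    have h2 := mul_pt k m hm ((α_ H H H).hom ≫ H ◁ m)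
    have h3 := mul_pt k m hm (fst (H ⊗ H) H)
    have h4 := mul_pt k m hm ((α_ H H H).hom ≫ snd H (H ⊗ H))
    simp only [Category.assoc, whiskerRight_fst_assoc, whiskerRight_snd_assoc,
      whiskerLeft_fst_assoc, whiskerLeft_snd_assoc, associator_hom_fst_assoc,
      associator_hom_snd_fst_assoc, associator_hom_snd_snd_assoc] at h1 h2 h3 h4
    simp only [Category.assoc]
    rw [h1, h2, h3, h4, _root_.mul_assoc]
  left_inv := by
    rw [← cancel_mono k, Category.assoc, mul_pt k m hm, lift_fst_assoc, lift_snd_assoc,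
      hv, Category.id_comp, ← Hom.inv_def, inv_mul_cancel, Category.assoc, one_pt k e he]
  right_inv := by
    rw [← cancel_mono k, Category.assoc, mul_pt k m hm, lift_fst_assoc, lift_snd_assoc,
      hv, Category.id_comp, ← Hom.inv_def, mul_inv_cancel, Category.assoc, one_pt k e he]

/-- normality on points (no group structure on the source needed) -/
def PN' {N G : C} [GrpObj G] (i : N ⟶ G) : Prop :=
  ∀ (T : C) (g : T ⟶ G) (n : T ⟶ N), ∃ n' : T ⟶ N, g * (n ≫ i) * g⁻¹ = n' ≫ i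

def cj' {N G : C} [GrpObj G] (i : N ⟶ G) : G ⊗ N ⟶ G :=
  fst G N * (snd G N ≫ i) * (fst G N)⁻¹

theorem pn'_iff {N G : C} [GrpObj G] (i : N ⟶ G) :
    PN' i ↔ ∃ w : G ⊗ N ⟶ N, cj' i = w ≫ i := by
  constructor
  · intro h; exact h (G ⊗ N) (fst G N) (snd G N)
  · rintro ⟨w, hw⟩ T g n
    refine ⟨lift g n ≫ w, ?_⟩
    rw [Category.assoc, ← hw, cj', MonObj.comp_mul, MonObj.comp_mul, GrpObj.comp_inv, lift_fst,
      ← Category.assoc, lift_snd]

variable {D : Type u} [Category.{v} D] [CartesianMonoidalCategory D] (F : C ⥤ D) [F.Monoidal]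

theorem map_cj' {N G : C} [GrpObj G] (i : N ⟶ G) :
    cj' (F.map i) = LaxMonoidal.μ F G N ≫ F.map (cj' i) := by
  rw [cj', cj', Functor.map_mul, Functor.map_mul, Functor.map_inv', F.map_comp, MonObj.comp_mul,
    MonObj.comp_mul, GrpObj.comp_inv, Functor.Monoidal.μ_fst, ← Category.assoc,
    Functor.Monoidal.μ_snd]

theorem pn'_map_iff {N G : C} [GrpObj G] (i : N ⟶ G) :
    PN' (F.map i) ↔ ∃ w : F.obj (G ⊗ N) ⟶ F.obj N, F.map (cj' i) = w ≫ F.map i := by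
  rw [pn'_iff, map_cj']
  constructor
  · rintro ⟨w, hw⟩
    refine ⟨OplaxMonoidal.δ F G N ≫ w, ?_⟩
    rw [Category.assoc, ← hw, ← Category.assoc, Functor.Monoidal.δ_μ, Category.id_comp]
  · rintro ⟨w, hw⟩
    exact ⟨LaxMonoidal.μ F G N ≫ w, by rw [hw, Category.assoc]⟩

/-- a subobject of a group object acquires a compatible group structure iff the three
operations factor through it -/
theorem exists_grp_iff {G₀ H₀ : C} [GrpObj G₀] (k₀ : H₀ ⟶ G₀) [Mono (F.map k₀)] :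
    (∃ _ : GrpObj (F.obj H₀), IsMonHom (F.map k₀)) ↔
      (∃ e : F.obj (𝟙_ C) ⟶ F.obj H₀, F.map η[G₀] = e ≫ F.map k₀) ∧
      (∃ m : F.obj (H₀ ⊗ H₀) ⟶ F.obj H₀, F.map ((k₀ ⊗ₘ k₀) ≫ μ[G₀]) = m ≫ F.map k₀) ∧
      (∃ v : F.obj H₀ ⟶ F.obj H₀, F.map (k₀ ≫ ι[G₀]) = v ≫ F.map k₀) := by
  constructor
  · rintro ⟨inst, hk⟩
    letI := inst
    haveI := hk
    refine ⟨⟨inv (LaxMonoidal.ε F) ≫ η[F.obj H₀], ?_⟩, ⟨OplaxMonoidal.δ F H₀ H₀ ≫ μ[F.obj H₀], ?_⟩,
      ⟨ι[F.obj H₀], ?_⟩⟩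
    · rw [Category.assoc, IsMonHom.one_hom, obj.η_def, IsIso.inv_hom_id_assoc]
    · rw [Category.assoc, IsMonHom.mul_hom, obj.μ_def, ← Category.assoc (F.map k₀ ⊗ₘ F.map k₀),
        LaxMonoidal.μ_natural, Category.assoc, ← Category.assoc, Functor.Monoidal.δ_μ,
        Category.id_comp, F.map_comp]
    · rw [GrpObj.inv_hom, obj.ι_def, F.map_comp]
  · rintro ⟨⟨e, he⟩, ⟨m, hm⟩, ⟨v, hv⟩⟩
    have he' : (LaxMonoidal.ε F ≫ e) ≫ F.map k₀ = η[F.obj G₀] := by
      rw [Category.assoc, ← he, obj.η_def]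
    have hm' : (LaxMonoidal.μ F H₀ H₀ ≫ m) ≫ F.map k₀ = (F.map k₀ ⊗ₘ F.map k₀) ≫ μ[F.obj G₀] := by
      rw [Category.assoc, ← hm, F.map_comp, obj.μ_def, ← Category.assoc (F.map k₀ ⊗ₘ F.map k₀),
        LaxMonoidal.μ_natural, Category.assoc]
    have hv' : v ≫ F.map k₀ = F.map k₀ ≫ ι[F.obj G₀] := by
      rw [← hv, obj.ι_def, F.map_comp]
    letI inst : GrpObj (F.obj H₀) := grpOfMono (F.map k₀) _ _ v he' hm' hv'
    exact ⟨inst, IsMonHom.mk he' hm'⟩

end General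

section Lim

variable {I : Type u} [SmallCategory I] [IsCofiltered I] (D : I ⥤ Scheme.{u})
  [∀ {i j} (f : i ⟶ j), IsAffineHom (D.map f)] (c : Cone D) (hc : IsLimit c)

theorem compactSpace_bc {i j : I} (f : i ⟶ j) (A : Over (D.obj j)) [CompactSpace A.left] :
    CompactSpace (Red.bc (D.map f) A).left := by
  show CompactSpace ↥(pullback A.hom (D.map f))
  haveI : IsAffineHom (pullback.fst A.hom (D.map f)) :=
    MorphismProperty.pullback_fst (P := @IsAffineHom) _ _ inferInstance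
  exact QuasiCompact.compactSpace_of_compactSpace (pullback.fst A.hom (D.map f))

include hc in
theorem exists_hom_descend_over' (j : I) (A B : Over (D.obj j))
    [CompactSpace A.left] [QuasiSeparatedSpace A.left] [LocallyOfFinitePresentation B.hom]
    (u : Red.bc (c.π.app j) A ⟶ Red.bc (c.π.app j) B) :
    ∃ (i : I) (f : i ⟶ j) (v : Red.bc (D.map f) A ⟶ Red.bc (D.map f) B),
      (Over.pullback (c.π.app i)).map v =
        (compIso (c.π.app i) (D.map f) (c.w f) A).hom ≫ u ≫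
          (compIso (c.π.app i) (D.map f) (c.w f) B).inv := by
  obtain ⟨j₁, φ, fj, sX, sY, h1, h2, h3, h4, h5, h6⟩ :=
    Groth.Agent.Helper4.LimHom.exists_hom_descend D c hc j A.hom B.hom
      (pullback.fst A.hom (c.π.app j)) (pullback.snd A.hom (c.π.app j))
      (IsPullback.of_hasPullback _ _)
      (pullback.fst B.hom (c.π.app j)) (pullback.snd B.hom (c.π.app j))
      (IsPullback.of_hasPullback _ _) u.left (Over.w u)
  have hsX : sX = sec D c φ A := by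
    apply pullback.hom_ext
    · rw [h2, sec_fst]
    · rw [h3, sec_snd]
  have hsY : sY = sec D c φ B := by
    apply pullback.hom_ext
    · rw [h4, sec_fst]
    · rw [h5, sec_snd]
  rw [hsX, hsY] at h6
  exact ⟨j₁, φ, Over.homMk fj h1, map_eq_conj D c φ A B u (Over.homMk fj h1) h6⟩

include hc in
theorem fact_descend' (j : I) (A B B' : Over (D.obj j))
    [CompactSpace A.left] [QuasiSeparatedSpace A.left] [LocallyOfFinitePresentation B.hom]
    [LocallyOfFiniteType B'.hom] (a : A ⟶ B') (b : B ⟶ B')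
    (h : ∃ w : Red.bc (c.π.app j) A ⟶ Red.bc (c.π.app j) B,
      (Over.pullback (c.π.app j)).map a = w ≫ (Over.pullback (c.π.app j)).map b) :
    ∃ (i : I) (f : i ⟶ j) (w : Red.bc (D.map f) A ⟶ Red.bc (D.map f) B),
      (Over.pullback (D.map f)).map a = w ≫ (Over.pullback (D.map f)).map b := by
  obtain ⟨w, hw⟩ := h
  obtain ⟨i₂, f₂, w₂, hw₂⟩ := exists_hom_descend_over' D c hc j A B w
  have key : (Over.pullback (c.π.app i₂)).map ((Over.pullback (D.map f₂)).map a) =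
      (Over.pullback (c.π.app i₂)).map (w₂ ≫ (Over.pullback (D.map f₂)).map b) := by
    have ha := compIso_natural (c.π.app i₂) (D.map f₂) (c.w f₂) a
    have hb := compIso_natural (c.π.app i₂) (D.map f₂) (c.w f₂) b
    rw [← cancel_mono (compIso (c.π.app i₂) (D.map f₂) (c.w f₂) B').hom, ha, Functor.map_comp,
      Category.assoc, hb, hw₂, hw]
    simp only [Category.assoc, Iso.inv_hom_id_assoc]
  haveI : CompactSpace (Red.bc (D.map f₂) A).left := compactSpace_bc D f₂ A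
  haveI : LocallyOfFiniteType (Red.bc (D.map f₂) B').hom := by
    show LocallyOfFiniteType (pullback.snd B'.hom (D.map f₂))
    infer_instance
  obtain ⟨i₃, g, hg⟩ := map_eq_eventually D c hc i₂ _ _ key
  obtain ⟨w', hw'⟩ := fact_comp (D.map g) (D.map f₂) (c := D.map (g ≫ f₂)) (D.map_comp g f₂).symm
    a b w₂ hg
  exact ⟨i₃, g ≫ f₂, w', hw'⟩

/-- the predicate "`a` factors through `b` after base change to the stage `f`" -/
def Fact {j : I} {A B B' : Over (D.obj j)} (a : A ⟶ B') (b : B ⟶ B') (i : I) (f : i ⟶ j) : Prop :=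
  ∃ w : Red.bc (D.map f) A ⟶ Red.bc (D.map f) B,
    (Over.pullback (D.map f)).map a = w ≫ (Over.pullback (D.map f)).map b

theorem fact_mono {j : I} {A B B' : Over (D.obj j)} (a : A ⟶ B') (b : B ⟶ B') (i : I) (f : i ⟶ j)
    (i' : I) (g : i' ⟶ i) (h : Fact D a b i f) : Fact D a b i' (g ≫ f) := by
  obtain ⟨w, hw⟩ := h
  exact fact_comp (D.map g) (D.map f) (c := D.map (g ≫ f)) (D.map_comp g f).symm a b w (by rw [hw])

omit [∀ {i j} (f : i ⟶ j), IsAffineHom (D.map f)] in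
theorem exists_common {j : I} {P Q : ∀ i : I, (i ⟶ j) → Prop}
    (hP : ∀ (i : I) (f : i ⟶ j) (i' : I) (g : i' ⟶ i), P i f → P i' (g ≫ f))
    (hQ : ∀ (i : I) (f : i ⟶ j) (i' : I) (g : i' ⟶ i), Q i f → Q i' (g ≫ f))
    (h1 : ∃ (i : I) (f : i ⟶ j), P i f) (h2 : ∃ (i : I) (f : i ⟶ j), Q i f) :
    ∃ (i : I) (f : i ⟶ j), P i f ∧ Q i f := by
  obtain ⟨i₁, f₁, h1⟩ := h1
  obtain ⟨i₂, f₂, h2⟩ := h2
  obtain ⟨k, b₁, b₂, hb⟩ := IsCofiltered.cospan f₁ f₂
  exact ⟨k, b₁ ≫ f₁, hP _ _ _ _ h1, hb ▸ hQ _ _ _ _ h2⟩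

end Lim

section Main

variable {I : Type u} [SmallCategory I] [IsCofiltered I] (D : I ⥤ Scheme.{u})
  [∀ {i j} (f : i ⟶ j), IsAffineHom (D.map f)] (c : Cone D) (hc : IsLimit c)
  (i₀ : I) [CompactSpace (D.obj i₀)] [QuasiSeparatedSpace (D.obj i₀)]
  (G₀ : Over (D.obj i₀)) [GrpObj G₀] [IsSeparated G₀.hom] [QuasiCompact G₀.hom]
  [LocallyOfFinitePresentation G₀.hom]
  (H₀ : Over (D.obj i₀)) (ι₀ : H₀ ⟶ G₀) [IsClosedImmersion ι₀.left]
  [LocallyOfFinitePresentation ι₀.left]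

omit [IsCofiltered I] [∀ {i j} (f : i ⟶ j), IsAffineHom (D.map f)] [CompactSpace (D.obj i₀)]
  [QuasiSeparatedSpace (D.obj i₀)] [GrpObj G₀] [IsSeparated G₀.hom] [QuasiCompact G₀.hom]
  [LocallyOfFinitePresentation G₀.hom] [LocallyOfFinitePresentation ι₀.left] in
theorem mono_map {S' : Scheme.{u}} (f : S' ⟶ D.obj i₀) : Mono ((Over.pullback f).map ι₀) := by
  haveI : IsClosedImmersion ((Over.pullback f).map ι₀).left :=
    MorphismProperty.of_isPullback (P := @IsClosedImmersion) (isPullback_map_left f ι₀).flip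
      inferInstance
  exact Over.mono_of_mono_left _

include hc in
theorem main :
    ((∃ _ : GrpObj (Red.bc (c.π.app i₀) H₀), IsMonHom ((Over.pullback (c.π.app i₀)).map ι₀)) →
      ∃ (i : I) (a : i ⟶ i₀) (_ : GrpObj (Red.bc (D.map a) H₀)),
        IsMonHom ((Over.pullback (D.map a)).map ι₀)) ∧
    ((∃ _ : GrpObj (Red.bc (c.π.app i₀) H₀), IsMonHom ((Over.pullback (c.π.app i₀)).map ι₀)) →
      PN' ((Over.pullback (c.π.app i₀)).map ι₀) →
      ∃ (i : I) (a : i ⟶ i₀) (_ : GrpObj (Red.bc (D.map a) H₀)),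
        IsMonHom ((Over.pullback (D.map a)).map ι₀) ∧ PN' ((Over.pullback (D.map a)).map ι₀)) := by
  have hH : H₀.hom = ι₀.left ≫ G₀.hom := (Over.w ι₀).symm
  haveI : LocallyOfFinitePresentation H₀.hom := by rw [hH]; infer_instance
  haveI : QuasiCompact H₀.hom := by rw [hH]; infer_instance
  haveI : IsSeparated H₀.hom := by rw [hH]; infer_instance
  haveI : CompactSpace H₀.left := QuasiCompact.compactSpace_of_compactSpace H₀.hom
  haveI : QuasiSeparatedSpace H₀.left := quasiSeparatedSpace_of_quasiSeparated H₀.hom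
  haveI : CompactSpace (𝟙_ (Over (D.obj i₀))).left := by
    show CompactSpace (D.obj i₀); infer_instance
  haveI : QuasiSeparatedSpace (𝟙_ (Over (D.obj i₀))).left := by
    show QuasiSeparatedSpace (D.obj i₀); infer_instance
  haveI : QuasiCompact (H₀ ⊗ H₀).hom := by
    show QuasiCompact (pullback.fst H₀.hom H₀.hom ≫ H₀.hom); infer_instance
  haveI : QuasiSeparated (H₀ ⊗ H₀).hom := by
    show QuasiSeparated (pullback.fst H₀.hom H₀.hom ≫ H₀.hom); infer_instance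
  haveI : CompactSpace (H₀ ⊗ H₀).left := QuasiCompact.compactSpace_of_compactSpace (H₀ ⊗ H₀).hom
  haveI : QuasiSeparatedSpace (H₀ ⊗ H₀).left := quasiSeparatedSpace_of_quasiSeparated (H₀ ⊗ H₀).hom
  haveI : QuasiCompact (G₀ ⊗ H₀).hom := by
    show QuasiCompact (pullback.fst G₀.hom H₀.hom ≫ G₀.hom); infer_instance
  haveI : QuasiSeparated (G₀ ⊗ H₀).hom := by
    show QuasiSeparated (pullback.fst G₀.hom H₀.hom ≫ G₀.hom); infer_instance
  haveI : CompactSpace (G₀ ⊗ H₀).left := QuasiCompact.compactSpace_of_compactSpace (G₀ ⊗ H₀).hom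
  haveI : QuasiSeparatedSpace (G₀ ⊗ H₀).left := quasiSeparatedSpace_of_quasiSeparated (G₀ ⊗ H₀).hom
  haveI := mono_map D i₀ G₀ H₀ ι₀ (c.π.app i₀)
  have step : (∃ _ : GrpObj (Red.bc (c.π.app i₀) H₀),
      IsMonHom ((Over.pullback (c.π.app i₀)).map ι₀)) →
      ∃ (i : I) (f : i ⟶ i₀), (Fact D η[G₀] ι₀ i f ∧ Fact D ((ι₀ ⊗ₘ ι₀) ≫ μ[G₀]) ι₀ i f) ∧
        Fact D (ι₀ ≫ ι[G₀]) ι₀ i f := by
    intro hg
    obtain ⟨h1, h2, h3⟩ := (exists_grp_iff (Over.pullback (c.π.app i₀)) ι₀).1 hg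
    have s1 := fact_descend' D c hc i₀ (𝟙_ _) H₀ G₀ η[G₀] ι₀ h1
    have s2 := fact_descend' D c hc i₀ (H₀ ⊗ H₀) H₀ G₀ ((ι₀ ⊗ₘ ι₀) ≫ μ[G₀]) ι₀ h2
    have s3 := fact_descend' D c hc i₀ H₀ H₀ G₀ (ι₀ ≫ ι[G₀]) ι₀ h3
    exact exists_common (P := fun i f => Fact D η[G₀] ι₀ i f ∧ Fact D ((ι₀ ⊗ₘ ι₀) ≫ μ[G₀]) ι₀ i f)
      (Q := fun i f => Fact D (ι₀ ≫ ι[G₀]) ι₀ i f)
      (fun i f i' g h => ⟨fact_mono D _ _ i f i' g h.1, fact_mono D _ _ i f i' g h.2⟩)
      (fun i f i' g h => fact_mono D _ _ i f i' g h)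
      (exists_common (P := fun i f => Fact D η[G₀] ι₀ i f)
        (Q := fun i f => Fact D ((ι₀ ⊗ₘ ι₀) ≫ μ[G₀]) ι₀ i f)
        (fun i f i' g h => fact_mono D _ _ i f i' g h)
        (fun i f i' g h => fact_mono D _ _ i f i' g h) s1 s2) s3
  constructor
  · intro hg
    obtain ⟨i, f, ⟨w1, w2⟩, w3⟩ := step hg
    haveI := mono_map D i₀ G₀ H₀ ι₀ (D.map f)
    obtain ⟨inst', hk'⟩ := (exists_grp_iff (Over.pullback (D.map f)) ι₀).2 ⟨w1, w2, w3⟩
    exact ⟨i, f, inst', hk'⟩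
  · intro hg hn
    have s4 := fact_descend' D c hc i₀ (G₀ ⊗ H₀) H₀ G₀ (cj' ι₀) ι₀ ((pn'_map_iff _ ι₀).1 hn)
    obtain ⟨i, f, ⟨⟨w1, w2⟩, w3⟩, w4⟩ := exists_common
      (P := fun i f => (Fact D η[G₀] ι₀ i f ∧ Fact D ((ι₀ ⊗ₘ ι₀) ≫ μ[G₀]) ι₀ i f) ∧
        Fact D (ι₀ ≫ ι[G₀]) ι₀ i f)
      (Q := fun i f => Fact D (cj' ι₀) ι₀ i f)
      (fun i f i' g h => ⟨⟨fact_mono D _ _ i f i' g h.1.1, fact_mono D _ _ i f i' g h.1.2⟩,
        fact_mono D _ _ i f i' g h.2⟩)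
      (fun i f i' g h => fact_mono D _ _ i f i' g h) (step hg) s4
    haveI := mono_map D i₀ G₀ H₀ ι₀ (D.map f)
    obtain ⟨inst', hk'⟩ := (exists_grp_iff (Over.pullback (D.map f)) ι₀).2 ⟨w1, w2, w3⟩
    exact ⟨i, f, inst', hk', (pn'_map_iff _ ι₀).2 w4⟩

end Main

end Groth.Agent.Helper7.GrpSubLim
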