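import Mathlib
import Groth.Agent.Lib.Helper7.GrpDescA
import Groth.Agent.Lib.Helper7.GrpSubLim
import Groth.Agent.Lib.Helper4.LimDesc3

/-!
# A group scheme of finite presentation over a cofiltered limit descends to a stage (helper7)
-/

set_option autoImplicit false
set_option linter.unusedSectionVars false
set_option linter.style.haveILetI false
universe v u

open CategoryTheory AlgebraicGeometry
open MonoidalCategory CartesianMonoidalCategory CategoryTheory.Limits MonObj GrpObj Functor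
open scoped CategoryTheory.Obj

noncomputable section

namespace Groth.Agent.Helper7.GrpDescB

open Groth.Agent.Helper18.ChowTower Groth.Agent.Helper7.GrpHomLim Groth.Agent.Helper7.GrpNormLim
  Groth.Agent.Helper7.GrpSubLim Groth.Agent.Helper7.GrpDescA

section Sch

variable {X Y Z : Scheme.{u}} (f : X ⟶ Y) (g : Y ⟶ Z) {c : X ⟶ Z} (hc : f ≫ g = c)

theorem exists_grp_matching (A : Over Z) [GrpObj (Red.bc c A)]
    (mf : Red.bc g (A ⊗ A) ⟶ Red.bc g A) (ef : Red.bc g (𝟙_ (Over Z)) ⟶ Red.bc g A)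
    (iv : Red.bc g A ⟶ Red.bc g A)
    (hm : (Over.pullback f).map mf = (compIso f g hc (A ⊗ A)).hom ≫
      (OplaxMonoidal.δ (Over.pullback c) A A ≫ μ[Red.bc c A]) ≫ (compIso f g hc A).inv)
    (he : (Over.pullback f).map ef = (compIso f g hc (𝟙_ (Over Z))).hom ≫
      (OplaxMonoidal.η (Over.pullback c) ≫ η[Red.bc c A]) ≫ (compIso f g hc A).inv)
    (hi : (Over.pullback f).map iv = (compIso f g hc A).hom ≫ ι[Red.bc c A] ≫
      (compIso f g hc A).inv) :
    ∃ _ : GrpObj (Red.bc f (Red.bc g A)), IsMonHom (compIso f g hc A).hom ∧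
      μ[Red.bc f (Red.bc g A)] = LaxMonoidal.μ (Over.pullback f) (Red.bc g A) (Red.bc g A) ≫
        (Over.pullback f).map (LaxMonoidal.μ (Over.pullback g) A A ≫ mf) ∧
      η[Red.bc f (Red.bc g A)] = LaxMonoidal.ε (Over.pullback f) ≫
        (Over.pullback f).map (LaxMonoidal.ε (Over.pullback g) ≫ ef) ∧
      ι[Red.bc f (Red.bc g A)] = (Over.pullback f).map iv := by
  subst hc
  have hκ : ∀ B : Over Z, (compIso f g rfl B).hom = (Over.pullbackComp f g).inv.app B := by
    intro B; simp only [compIso_hom, eqToHom_refl, Category.comp_id]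
  have hκ' : ∀ B : Over Z, (compIso f g rfl B).inv = (Over.pullbackComp f g).hom.app B := by
    intro B; simp only [compIso_inv, eqToHom_refl, Category.id_comp]
  rw [hκ, hκ'] at hm he hi
  rw [hκ]
  obtain ⟨h1, h2, h3⟩ := matching_eqs (Over.pullback g) (Over.pullback f) (Over.pullback (f ≫ g))
    (Over.pullbackComp f g).symm mf ef iv hm he hi
  haveI : Mono ((Over.pullbackComp f g).symm.hom.app A) := by
    haveI : IsIso ((Over.pullbackComp f g).symm.hom.app A) := inferInstance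
    infer_instance
  letI T : GrpObj (Red.bc f (Red.bc g A)) :=
    grpOfMono ((Over.pullbackComp f g).symm.hom.app A) _ _ _ h1 h2 h3
  exact ⟨T, IsMonHom.mk h1 h2, rfl, rfl, rfl⟩

theorem isMonHom_compIso_of_matching (A : Over Z) (m : A ⊗ A ⟶ A) (e : 𝟙_ (Over Z) ⟶ A)
    [GrpObj (Red.bc g A)] [GrpObj (Red.bc c A)]
    (hPm : μ[Red.bc g A] = LaxMonoidal.μ (Over.pullback g) A A ≫ (Over.pullback g).map m)
    (hPe : η[Red.bc g A] = LaxMonoidal.ε (Over.pullback g) ≫ (Over.pullback g).map e)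
    (hm : μ[Red.bc c A] = LaxMonoidal.μ (Over.pullback c) A A ≫ (Over.pullback c).map m)
    (he : η[Red.bc c A] = LaxMonoidal.ε (Over.pullback c) ≫ (Over.pullback c).map e) :
    IsMonHom (compIso f g hc A).hom := by
  subst hc
  have hκ : (compIso f g rfl A).hom = (Over.pullbackComp f g).inv.app A := by
    simp only [compIso_hom, eqToHom_refl, Category.comp_id]
  rw [hκ]
  exact isMonHom_app (Over.pullback g) (Over.pullback f) (Over.pullback (f ≫ g)) m e
    (Over.pullbackComp f g).inv hPm hPe hm he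

theorem qc_tensor {S : Scheme.{u}} (A B : Over S) [QuasiCompact A.hom] [QuasiCompact B.hom] :
    QuasiCompact (A ⊗ B).hom := by
  show QuasiCompact (pullback.fst A.hom B.hom ≫ A.hom)
  infer_instance

theorem qs_tensor {S : Scheme.{u}} (A B : Over S) [QuasiSeparated A.hom] [QuasiSeparated B.hom] :
    QuasiSeparated (A ⊗ B).hom := by
  show QuasiSeparated (pullback.fst A.hom B.hom ≫ A.hom)
  infer_instance

theorem qc_unit (S : Scheme.{u}) : QuasiCompact (𝟙_ (Over S)).hom := by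
  show QuasiCompact (𝟙 S)
  infer_instance

theorem qs_unit (S : Scheme.{u}) : QuasiSeparated (𝟙_ (Over S)).hom := by
  show QuasiSeparated (𝟙 S)
  infer_instance

end Sch

section Lim

variable {I : Type u} [SmallCategory I] (D : I ⥤ Scheme.{u}) (c : Cone D)

/-- `φ` descends to the stage `f : i ⟶ j` -/
def Desc {j : I} {A B : Over (D.obj j)}
    (φ : Red.bc (c.π.app j) A ⟶ Red.bc (c.π.app j) B) (i : I) (f : i ⟶ j) : Prop :=
  ∃ v : Red.bc (D.map f) A ⟶ Red.bc (D.map f) B,
    sec D c f A ≫ v.left = φ.left ≫ sec D c f B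

theorem desc_conj {j : I} {A B : Over (D.obj j)}
    (φ : Red.bc (c.π.app j) A ⟶ Red.bc (c.π.app j) B) (i : I) (f : i ⟶ j)
    (h : Desc D c φ i f) :
    ∃ v : Red.bc (D.map f) A ⟶ Red.bc (D.map f) B,
      (Over.pullback (c.π.app i)).map v = (compIso (c.π.app i) (D.map f) (c.w f) A).hom ≫ φ ≫
        (compIso (c.π.app i) (D.map f) (c.w f) B).inv := by
  obtain ⟨v, h6⟩ := h
  exact ⟨v, map_eq_conj D c f A B φ v h6⟩

theorem desc_mono {j : I} {A B : Over (D.obj j)}
    (φ : Red.bc (c.π.app j) A ⟶ Red.bc (c.π.app j) B) (i : I) (f : i ⟶ j) (l : I) (g : l ⟶ i)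
    (h : Desc D c φ i f) : Desc D c φ l (g ≫ f) := by
  obtain ⟨v, h6⟩ := h
  have hgf : D.map g ≫ D.map f = D.map (g ≫ f) := (D.map_comp g f).symm
  obtain ⟨ui, hui⟩ : ∃ ui : Red.bc (D.map (g ≫ f)) A ⟶ Red.bc (D.map (g ≫ f)) B,
      ui = (compIso (D.map g) (D.map f) hgf A).inv ≫ (Over.pullback (D.map g)).map v ≫
        (compIso (D.map g) (D.map f) hgf B).hom := ⟨_, rfl⟩
  refine ⟨ui, ?_⟩
  have hT : sec D c (g ≫ f) A ≫ (compIso (D.map g) (D.map f) hgf A).inv.left ≫
      pullback.fst ((Over.pullback (D.map f)).obj A).hom (D.map g) = sec D c f A := by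
    apply pullback.hom_ext
    · simp only [Category.assoc]
      rw [compIso_inv_left_fst, sec_fst, sec_fst]
    · have hcond : pullback.fst ((Over.pullback (D.map f)).obj A).hom (D.map g) ≫
          pullback.snd A.hom (D.map f) =
          pullback.snd ((Over.pullback (D.map f)).obj A).hom (D.map g) ≫ D.map g :=
        pullback.condition
      simp only [Category.assoc]
      rw [hcond, compIso_inv_left_snd_assoc, sec_snd_assoc, sec_snd, c.w g]
  have hui_left : ui.left = (compIso (D.map g) (D.map f) hgf A).inv.left ≫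
      ((Over.pullback (D.map g)).map v).left ≫ (compIso (D.map g) (D.map f) hgf B).hom.left := by
    rw [hui]; simp only [Over.comp_left]
  apply pullback.hom_ext
  · rw [hui_left]
    simp only [Category.assoc]
    rw [compIso_hom_left_fst, map_left_fst_assoc, reassoc_of% hT, reassoc_of% h6,
      sec_fst, sec_fst]
  · have hw : ui.left ≫ pullback.snd B.hom (D.map (g ≫ f)) = pullback.snd A.hom (D.map (g ≫ f)) :=
      Over.w ui
    have hu' : φ.left ≫ pullback.snd B.hom (c.π.app j) = pullback.snd A.hom (c.π.app j) :=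
      Over.w φ
    simp only [Category.assoc]
    rw [hw, sec_snd, sec_snd, reassoc_of% hu']

/-- two morphisms agree after base change to the stage `f` -/
def EqAt {j : I} {A B : Over (D.obj j)} (a b : A ⟶ B) (i : I) (f : i ⟶ j) : Prop :=
  (Over.pullback (D.map f)).map a = (Over.pullback (D.map f)).map b

theorem eqAt_mono {j : I} {A B : Over (D.obj j)} (a b : A ⟶ B) (i : I) (f : i ⟶ j) (l : I)
    (g : l ⟶ i) (h : EqAt D a b i f) : EqAt D a b l (g ≫ f) :=
  map_eq_comp (D.map g) (D.map f) (c := D.map (g ≫ f)) (D.map_comp g f).symm a b h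

variable [IsCofiltered I] [∀ {i j} (f : i ⟶ j), IsAffineHom (D.map f)] (hc : IsLimit c)
  [∀ i, CompactSpace (D.obj i)] [∀ i, QuasiSeparatedSpace (D.obj i)]

include hc in
theorem desc_exists (j : I) (A B : Over (D.obj j))
    [CompactSpace A.left] [QuasiSeparatedSpace A.left] [LocallyOfFinitePresentation B.hom]
    (φ : Red.bc (c.π.app j) A ⟶ Red.bc (c.π.app j) B) :
    ∃ (i : I) (f : i ⟶ j), Desc D c φ i f := by
  obtain ⟨j₁, φ', fj, sX, sY, h1, h2, h3, h4, h5, h6⟩ :=
    Groth.Agent.Helper4.LimHom.exists_hom_descend D c hc j A.hom B.hom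
      (pullback.fst A.hom (c.π.app j)) (pullback.snd A.hom (c.π.app j))
      (IsPullback.of_hasPullback _ _)
      (pullback.fst B.hom (c.π.app j)) (pullback.snd B.hom (c.π.app j))
      (IsPullback.of_hasPullback _ _) φ.left (Over.w φ)
  have hsX : sX = sec D c φ' A := by
    apply pullback.hom_ext
    · rw [h2, sec_fst]
    · rw [h3, sec_snd]
  have hsY : sY = sec D c φ' B := by
    apply pullback.hom_ext
    · rw [h4, sec_fst]
    · rw [h5, sec_snd]
  rw [hsX, hsY] at h6
  exact ⟨j₁, φ', Over.homMk fj h1, h6⟩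

include hc in
theorem eqAt_exists (j : I) {A B : Over (D.obj j)} [CompactSpace A.left]
    [LocallyOfFiniteType B.hom] (a b : A ⟶ B)
    (h : (Over.pullback (c.π.app j)).map a = (Over.pullback (c.π.app j)).map b) :
    ∃ (i : I) (f : i ⟶ j), EqAt D a b i f :=
  map_eq_eventually D c hc j a b h

end Lim

section Main

variable {I : Type u} [SmallCategory I] [IsCofiltered I] (D : I ⥤ Scheme.{u})
  [∀ {i j} (f : i ⟶ j), IsAffineHom (D.map f)] (c : Cone D) (hc : IsLimit c)
  [∀ i, CompactSpace (D.obj i)] [∀ i, QuasiSeparatedSpace (D.obj i)]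

/-- a predicate on stages which is stable under refinement and holds somewhere -/
def Ev {j : I} (P : ∀ i : I, (i ⟶ j) → Prop) : Prop :=
  (∀ (i : I) (f : i ⟶ j) (l : I) (g : l ⟶ i), P i f → P l (g ≫ f)) ∧
    ∃ (i : I) (f : i ⟶ j), P i f

omit [∀ {i j} (f : i ⟶ j), IsAffineHom (D.map f)] [∀ i, CompactSpace (D.obj i)]
  [∀ i, QuasiSeparatedSpace (D.obj i)] in
theorem Ev.and {j : I} {P Q : ∀ i : I, (i ⟶ j) → Prop} (hP : Ev P) (hQ : Ev Q) :
    Ev (fun i f => P i f ∧ Q i f) :=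
  ⟨fun i f l g h => ⟨hP.1 i f l g h.1, hQ.1 i f l g h.2⟩, exists_common hP.1 hQ.1 hP.2 hQ.2⟩

include hc in
theorem desc_ev (j : I) (A B : Over (D.obj j))
    [CompactSpace A.left] [QuasiSeparatedSpace A.left] [LocallyOfFinitePresentation B.hom]
    (φ : Red.bc (c.π.app j) A ⟶ Red.bc (c.π.app j) B) : Ev (fun i f => Desc D c φ i f) :=
  ⟨fun i f l g h => desc_mono D c φ i f l g h, desc_exists D c hc j A B φ⟩

include hc in
theorem eqAt_ev (j : I) {A B : Over (D.obj j)} [CompactSpace A.left]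
    [LocallyOfFiniteType B.hom] (a b : A ⟶ B)
    (h : (Over.pullback (c.π.app j)).map a = (Over.pullback (c.π.app j)).map b) :
    Ev (fun i f => EqAt D a b i f) :=
  ⟨fun i f l g h => eqAt_mono D a b i f l g h, eqAt_exists D c hc j a b h⟩

include hc in
theorem exists_stage_pregrp (j : I) (Gj : Over (D.obj j)) [LocallyOfFinitePresentation Gj.hom]
    [QuasiCompact Gj.hom] [QuasiSeparated Gj.hom] [GrpObj (Red.bc (c.π.app j) Gj)] :
    ∃ (k : I) (f : k ⟶ j)
      (m : Red.bc (D.map f) Gj ⊗ Red.bc (D.map f) Gj ⟶ Red.bc (D.map f) Gj)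
      (e : 𝟙_ (Over (D.obj k)) ⟶ Red.bc (D.map f) Gj)
      (iv : Red.bc (D.map f) Gj ⟶ Red.bc (D.map f) Gj)
      (_ : GrpObj (Red.bc (c.π.app k) (Red.bc (D.map f) Gj))),
      IsMonHom (compIso (c.π.app k) (D.map f) (c.w f) Gj).hom ∧
      μ[Red.bc (c.π.app k) (Red.bc (D.map f) Gj)] =
        LaxMonoidal.μ (Over.pullback (c.π.app k)) (Red.bc (D.map f) Gj) (Red.bc (D.map f) Gj) ≫
          (Over.pullback (c.π.app k)).map m ∧
      η[Red.bc (c.π.app k) (Red.bc (D.map f) Gj)] =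
        LaxMonoidal.ε (Over.pullback (c.π.app k)) ≫ (Over.pullback (c.π.app k)).map e ∧
      ι[Red.bc (c.π.app k) (Red.bc (D.map f) Gj)] = (Over.pullback (c.π.app k)).map iv := by
  haveI : CompactSpace Gj.left := QuasiCompact.compactSpace_of_compactSpace Gj.hom
  haveI : QuasiSeparatedSpace Gj.left := quasiSeparatedSpace_of_quasiSeparated Gj.hom
  haveI : CompactSpace (𝟙_ (Over (D.obj j))).left := by
    show CompactSpace (D.obj j); infer_instance
  haveI : QuasiSeparatedSpace (𝟙_ (Over (D.obj j))).left := by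
    show QuasiSeparatedSpace (D.obj j); infer_instance
  haveI := qc_tensor Gj Gj
  haveI := qs_tensor Gj Gj
  haveI : CompactSpace (Gj ⊗ Gj).left := QuasiCompact.compactSpace_of_compactSpace (Gj ⊗ Gj).hom
  haveI : QuasiSeparatedSpace (Gj ⊗ Gj).left := quasiSeparatedSpace_of_quasiSeparated (Gj ⊗ Gj).hom
  have E1 := desc_ev D c hc j (Gj ⊗ Gj) Gj
    (OplaxMonoidal.δ (Over.pullback (c.π.app j)) Gj Gj ≫ μ[Red.bc (c.π.app j) Gj])
  have E2 := desc_ev D c hc j (𝟙_ (Over (D.obj j))) Gj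
    (OplaxMonoidal.η (Over.pullback (c.π.app j)) ≫ η[Red.bc (c.π.app j) Gj])
  have E3 := desc_ev D c hc j Gj Gj ι[Red.bc (c.π.app j) Gj]
  obtain ⟨k, f, ⟨d1, d2⟩, d3⟩ := ((E1.and E2).and E3).2
  obtain ⟨mf, hmf⟩ := desc_conj D c _ k f d1
  obtain ⟨ef, hef⟩ := desc_conj D c _ k f d2
  obtain ⟨iv, hiv⟩ := desc_conj D c _ k f d3
  obtain ⟨T, hκ, hTm, hTe, hTi⟩ :=
    exists_grp_matching (c.π.app k) (D.map f) (c.w f) Gj mf ef iv hmf hef hiv
  exact ⟨k, f, LaxMonoidal.μ (Over.pullback (D.map f)) Gj Gj ≫ mf,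
    LaxMonoidal.ε (Over.pullback (D.map f)) ≫ ef, iv, T, hκ, hTm, hTe, hTi⟩

include hc in
theorem stage_grp (k : I) (X : Over (D.obj k)) [LocallyOfFinitePresentation X.hom]
    [QuasiCompact X.hom] [QuasiSeparated X.hom]
    (m : X ⊗ X ⟶ X) (e : 𝟙_ (Over (D.obj k)) ⟶ X) (iv : X ⟶ X)
    [GrpObj (Red.bc (c.π.app k) X)]
    (hm : μ[Red.bc (c.π.app k) X] =
      LaxMonoidal.μ (Over.pullback (c.π.app k)) X X ≫ (Over.pullback (c.π.app k)).map m)
    (he : η[Red.bc (c.π.app k) X] =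
      LaxMonoidal.ε (Over.pullback (c.π.app k)) ≫ (Over.pullback (c.π.app k)).map e)
    (hi : ι[Red.bc (c.π.app k) X] = (Over.pullback (c.π.app k)).map iv) :
    ∃ (l : I) (g : l ⟶ k) (_ : GrpObj (Red.bc (D.map g) X)),
      IsMonHom (compIso (c.π.app l) (D.map g) (c.w g) X).hom := by
  obtain ⟨a1, a2, a3, a4, a5⟩ := ax_of_matching (Over.pullback (c.π.app k)) m e iv hm he hi
  haveI : CompactSpace X.left := QuasiCompact.compactSpace_of_compactSpace X.hom
  haveI := qc_unit (D.obj k)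
  haveI := qc_tensor (𝟙_ (Over (D.obj k))) X
  haveI := qc_tensor X (𝟙_ (Over (D.obj k)))
  haveI := qc_tensor X X
  haveI := qc_tensor (X ⊗ X) X
  haveI : CompactSpace (𝟙_ (Over (D.obj k)) ⊗ X).left :=
    QuasiCompact.compactSpace_of_compactSpace (𝟙_ (Over (D.obj k)) ⊗ X).hom
  haveI : CompactSpace (X ⊗ 𝟙_ (Over (D.obj k))).left :=
    QuasiCompact.compactSpace_of_compactSpace (X ⊗ 𝟙_ (Over (D.obj k))).hom
  haveI : CompactSpace ((X ⊗ X) ⊗ X).left :=
    QuasiCompact.compactSpace_of_compactSpace ((X ⊗ X) ⊗ X).hom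
  haveI : LocallyOfFiniteType X.hom := inferInstance
  have E1 := eqAt_ev D c hc k _ _ a1
  have E2 := eqAt_ev D c hc k _ _ a2
  have E3 := eqAt_ev D c hc k _ _ a3
  have E4 := eqAt_ev D c hc k _ _ a4
  have E5 := eqAt_ev D c hc k _ _ a5
  obtain ⟨l, g, ⟨⟨⟨b1, b2⟩, b3⟩, b4⟩, b5⟩ := ((((E1.and E2).and E3).and E4).and E5).2
  letI TY : GrpObj (Red.bc (D.map g) X) :=
    grpOfImg (Over.pullback (D.map g)) m e iv b1 b2 b3 b4 b5
  exact ⟨l, g, TY, isMonHom_compIso_of_matching (c.π.app l) (D.map g) (c.w g) X m e rfl rfl hm he⟩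

include hc in
theorem main (G : Over c.pt) [GrpObj G] [LocallyOfFinitePresentation G.hom] [QuasiCompact G.hom]
    [QuasiSeparated G.hom] :
    ∃ (j : I) (Gj : Over (D.obj j)) (_ : GrpObj Gj) (e : G ≅ Red.bc (c.π.app j) Gj),
      IsMonHom e.hom ∧ LocallyOfFinitePresentation Gj.hom ∧ QuasiCompact Gj.hom ∧
        QuasiSeparated Gj.hom := by
  obtain ⟨j, Xj, fj, g, hlfp, hqc, hqs, hpb⟩ :=
    Groth.Agent.Helper4.LimDesc.exists_descend_finitePresentation D c hc G.left G.hom
  let Gj : Over (D.obj j) := Over.mk fj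
  haveI : LocallyOfFinitePresentation Gj.hom := hlfp
  haveI : QuasiCompact Gj.hom := hqc
  haveI : QuasiSeparated Gj.hom := hqs
  let θ₀ : G ≅ Red.bc (c.π.app j) Gj := Over.isoMk hpb.isoPullback hpb.isoPullback_hom_snd
  letI T₀ : GrpObj (Red.bc (c.π.app j) Gj) := GrpObj.ofIso θ₀
  haveI hθ₀ : IsMonHom θ₀.hom := isMonHom_ofIso θ₀
  obtain ⟨k, f, m, e, iv, T, hκ, hTm, hTe, hTi⟩ := exists_stage_pregrp D c hc j Gj
  letI := T
  haveI : LocallyOfFinitePresentation (Red.bc (D.map f) Gj).hom := by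
    show LocallyOfFinitePresentation (pullback.snd Gj.hom (D.map f)); infer_instance
  haveI : QuasiCompact (Red.bc (D.map f) Gj).hom := by
    show QuasiCompact (pullback.snd Gj.hom (D.map f)); infer_instance
  haveI : QuasiSeparated (Red.bc (D.map f) Gj).hom := by
    show QuasiSeparated (pullback.snd Gj.hom (D.map f)); infer_instance
  obtain ⟨l, g', TY, hκ'⟩ := stage_grp D c hc k (Red.bc (D.map f) Gj) m e iv hTm hTe hTi
  letI := TY
  haveI := hκ
  haveI := hκ'
  refine ⟨l, Red.bc (D.map g') (Red.bc (D.map f) Gj), TY,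
    θ₀ ≪≫ (compIso (c.π.app k) (D.map f) (c.w f) Gj).symm ≪≫
      (compIso (c.π.app l) (D.map g') (c.w g') (Red.bc (D.map f) Gj)).symm, ?_, ?_, ?_, ?_⟩
  · show IsMonHom (θ₀.hom ≫ (compIso (c.π.app k) (D.map f) (c.w f) Gj).inv ≫
      (compIso (c.π.app l) (D.map g') (c.w g') (Red.bc (D.map f) Gj)).inv)
    infer_instance
  · show LocallyOfFinitePresentation (pullback.snd (Red.bc (D.map f) Gj).hom (D.map g'))
    infer_instance
  · show QuasiCompact (pullback.snd (Red.bc (D.map f) Gj).hom (D.map g'))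
    infer_instance
  · show QuasiSeparated (pullback.snd (Red.bc (D.map f) Gj).hom (D.map g'))
    infer_instance

end Main

end Groth.Agent.Helper7.GrpDescB
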