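import Mathlib
import Groth.Prelude.Def_KZero
import Groth.Agent.Lib.Helper5.KZeroPID

/-!
# Hilbert polynomials with values in `K'₀(A)` (helper7)
-/

set_option autoImplicit false
set_option linter.style.haveILetI false
set_option linter.unusedSectionVars false

universe u

namespace Groth.Agent.Helper7.HilbK

section NumPoly

variable {G : Type*} [AddCommGroup G]

/-- eventually a numerical polynomial of degree `< r` -/
def IsNumPoly (r : ℕ) (h : ℕ → G) : Prop :=
  ∃ (a : ℕ → G) (N : ℕ), ∀ n, N ≤ n → h n = ∑ i ∈ Finset.range r, ((n.choose i : ℕ) : ℤ) • a i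

theorem IsNumPoly.sub {r : ℕ} {h₁ h₂ : ℕ → G} (H₁ : IsNumPoly r h₁) (H₂ : IsNumPoly r h₂) :
    IsNumPoly r (fun n => h₁ n - h₂ n) := by
  obtain ⟨a₁, N₁, ha₁⟩ := H₁
  obtain ⟨a₂, N₂, ha₂⟩ := H₂
  refine ⟨fun i => a₁ i - a₂ i, max N₁ N₂, fun n hn => ?_⟩
  dsimp only
  rw [ha₁ n (le_trans (le_max_left _ _) hn), ha₂ n (le_trans (le_max_right _ _) hn),
    ← Finset.sum_sub_distrib]
  exact Finset.sum_congr rfl (fun i _ => (smul_sub _ _ _).symm)

theorem IsNumPoly.add {r : ℕ} {h₁ h₂ : ℕ → G} (H₁ : IsNumPoly r h₁) (H₂ : IsNumPoly r h₂) :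
    IsNumPoly r (fun n => h₁ n + h₂ n) := by
  obtain ⟨a₁, N₁, ha₁⟩ := H₁
  obtain ⟨a₂, N₂, ha₂⟩ := H₂
  refine ⟨fun i => a₁ i + a₂ i, max N₁ N₂, fun n hn => ?_⟩
  dsimp only
  rw [ha₁ n (le_trans (le_max_left _ _) hn), ha₂ n (le_trans (le_max_right _ _) hn),
    ← Finset.sum_add_distrib]
  exact Finset.sum_congr rfl (fun i _ => (smul_add _ _ _).symm)

theorem IsNumPoly.succ {r : ℕ} {h : ℕ → G} (H : IsNumPoly r h) : IsNumPoly (r + 1) h := by
  obtain ⟨a, N, ha⟩ := H
  refine ⟨fun i => if i < r then a i else 0, N, fun n hn => ?_⟩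
  rw [ha n hn, Finset.sum_range_succ]
  simp only [lt_irrefl, if_false, smul_zero, add_zero]
  exact Finset.sum_congr rfl (fun i hi => by rw [if_pos (Finset.mem_range.mp hi)])

theorem IsNumPoly.integrate {r : ℕ} {h : ℕ → G} (H : IsNumPoly r (fun n => h (n + 1) - h n)) :
    IsNumPoly (r + 1) h := by
  obtain ⟨a, N, ha⟩ := H
  let c : G := h N - ∑ i ∈ Finset.range r, ((N.choose (i + 1) : ℕ) : ℤ) • a i
  refine ⟨fun j => Nat.casesOn j c (fun i => a i), N, ?_⟩
  have key : ∀ n, N ≤ n → h n = c + ∑ i ∈ Finset.range r, ((n.choose (i + 1) : ℕ) : ℤ) • a i := by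
    intro n hn
    induction n, hn using Nat.le_induction with
    | base => simp [c]
    | succ n hn ih =>
      have hΔ : h (n + 1) - h n = ∑ i ∈ Finset.range r, ((n.choose i : ℕ) : ℤ) • a i := ha n hn
      have h1 : h (n + 1) = h n + ∑ i ∈ Finset.range r, ((n.choose i : ℕ) : ℤ) • a i := by
        rw [← hΔ]; abel
      rw [h1, ih, add_assoc, ← Finset.sum_add_distrib]
      congr 1
      refine Finset.sum_congr rfl (fun i _ => ?_)
      rw [← add_smul, Nat.choose_succ_succ' n i]
      push_cast
      rw [add_comm]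
  intro n hn
  rw [key n hn, Finset.sum_range_succ']
  simp only [Nat.choose_zero_right, Nat.cast_one, one_smul]
  exact add_comm _ _

end NumPoly

section Abstract

open Groth.Agent.Helper5

variable {A : Type u} [CommRing A]

/-- the class in `K'₀(A)` of a module -/
noncomputable def chi (X : Type u) [AddCommGroup X] [Module A X] : KZero.K0sub (KZ.Pfin A) :=
  KZero.clSub (KZ.Pfin A) (ModuleCat.of A X)

theorem chi_exact {M N L : Type u} [AddCommGroup M] [Module A M] [AddCommGroup N] [Module A N]
    [AddCommGroup L] [Module A L] [Module.Finite A M] [Module.Finite A N] [Module.Finite A L]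
    (f : M →ₗ[A] N) (g : N →ₗ[A] L) (hfg : Function.Exact f g) (hf : Function.Injective f)
    (hg : Function.Surjective g) : chi (A := A) N = chi (A := A) M + chi (A := A) L :=
  KZ.clSub_exact f g hfg hf hg

/-- the key relation: `χ(N) - χ(M) = χ(coker y) - χ(ker y)` -/
theorem chi_ker_coker {M N : Type u} [AddCommGroup M] [Module A M] [AddCommGroup N] [Module A N]
    [IsNoetherian A M] [IsNoetherian A N] (y : M →ₗ[A] N) :
    chi (A := A) N - chi (A := A) M =
      chi (A := A) (N ⧸ LinearMap.range y) - chi (A := A) (LinearMap.ker y) := by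
  have h1 : chi (A := A) M = chi (A := A) (LinearMap.ker y) + chi (A := A) (LinearMap.range y) :=
    chi_exact (LinearMap.ker y).subtype y.rangeRestrict
      (by
        intro m
        constructor
        · intro hm
          exact ⟨⟨m, by
            have := congrArg Subtype.val hm
            simpa using this⟩, rfl⟩
        · rintro ⟨⟨k, hk⟩, rfl⟩
          ext
          simpa using hk)
      (Submodule.injective_subtype _) y.surjective_rangeRestrict
  have h2 : chi (A := A) N =
      chi (A := A) (LinearMap.range y) + chi (A := A) (N ⧸ LinearMap.range y) :=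
    chi_exact (LinearMap.range y).subtype (LinearMap.range y).mkQ
      (by
        intro m
        rw [Submodule.mkQ_apply, Submodule.Quotient.mk_eq_zero]
        simp)
      (Submodule.injective_subtype _) (Submodule.mkQ_surjective _)
  rw [h1, h2]
  abel

/-- **Abstract Hilbert–Serre theorem** with values in `K'₀(A)`: a graded system of Noetherian
`A`-modules with `r` commuting degree-one operators satisfying the ascending chain condition on
stable graded subsystems has eventually polynomial classes. -/
theorem main (r : ℕ) : ∀ (M : ℕ → Type u) [∀ n, AddCommGroup (M n)] [∀ n, Module A (M n)]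
    (x : Fin r → ∀ n, M n →ₗ[A] M (n + 1)),
    (∀ i j n m, x i (n + 1) (x j n m) = x j (n + 1) (x i n m)) →
    (∀ n, IsNoetherian A (M n)) →
    (∀ f : ℕ → ∀ n, Submodule A (M n), (∀ k n, f k n ≤ f (k + 1) n) →
      (∀ k i n m, m ∈ f k n → x i n m ∈ f k (n + 1)) →
      ∃ k, ∀ l, k ≤ l → ∀ n, f l n = f k n) →
    IsNumPoly r (fun n => chi (A := A) (M n)) := by
  induction r with
  | zero =>
    intro M _ _ x _ hnoeth hacc
    obtain ⟨k₀, hk₀⟩ := hacc (fun k n => if n < k then ⊤ else ⊥)
      (fun k n => by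
        by_cases h : n < k
        · rw [if_pos h, if_pos (Nat.lt_succ_of_lt h)]
        · rw [if_neg h]; exact bot_le)
      (fun k i => i.elim0)
    refine ⟨fun _ => 0, k₀, fun n hn => ?_⟩
    rw [Finset.range_zero, Finset.sum_empty]
    have h1 := hk₀ (n + 1) (by omega) n
    rw [if_pos (Nat.lt_succ_self n), if_neg (by omega)] at h1
    haveI : Subsingleton (M n) := by
      refine ⟨fun a b => ?_⟩
      have ha : a ∈ (⊤ : Submodule A (M n)) := trivial
      have hb : b ∈ (⊤ : Submodule A (M n)) := trivial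
      rw [h1, Submodule.mem_bot] at ha hb
      rw [ha, hb]
    exact KZ.clSub_subsingleton (M n)
  | succ r ih =>
    intro M _ _ x hcomm hnoeth hacc
    haveI := hnoeth
    let y : ∀ n, M n →ₗ[A] M (n + 1) := x (Fin.last r)
    let x' : Fin r → ∀ n, M n →ₗ[A] M (n + 1) := fun i => x (Fin.castSucc i)
    -- the kernel system
    have hKmem : ∀ i n, ∀ m ∈ LinearMap.ker (y n), x' i n m ∈ LinearMap.ker (y (n + 1)) := by
      intro i n m hm
      rw [LinearMap.mem_ker] at hm ⊢
      change x (Fin.last r) (n + 1) (x (Fin.castSucc i) n m) = 0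
      rw [hcomm, show x (Fin.last r) n m = 0 from hm, map_zero]
    let xK : Fin r → ∀ n, LinearMap.ker (y n) →ₗ[A] LinearMap.ker (y (n + 1)) :=
      fun i n => (x' i n).restrict (hKmem i n)
    have hK : IsNumPoly r (fun n => chi (A := A) (LinearMap.ker (y n))) := by
      refine ih (fun n => LinearMap.ker (y n)) xK ?_ (fun n => inferInstance) ?_
      · intro i j n m
        apply Subtype.ext
        exact hcomm (Fin.castSucc i) (Fin.castSucc j) n m.1
      · intro f hmono hstab
        obtain ⟨k₀, hk₀⟩ := hacc (fun k n => (f k n).map (LinearMap.ker (y n)).subtype)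
          (fun k n => Submodule.map_mono (hmono k n))
          (by
            intro k i n m hm
            obtain ⟨w, hw, rfl⟩ := hm
            refine Fin.lastCases ?_ (fun i => ?_) i
            · have : x (Fin.last r) n ((LinearMap.ker (y n)).subtype w) = 0 := w.2
              rw [this]; exact Submodule.zero_mem _
            · exact ⟨xK i n w, hstab k i n w hw, rfl⟩)
        refine ⟨k₀, fun l hl n => ?_⟩
        exact Submodule.map_injective_of_injective (Submodule.injective_subtype _) (hk₀ l hl n)
    -- the cokernel system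
    have hCmem : ∀ i n, LinearMap.range (y n) ≤
        (LinearMap.range (y (n + 1))).comap (x' i (n + 1)) := by
      rintro i n _ ⟨w, rfl⟩
      rw [Submodule.mem_comap]
      refine ⟨x' i n w, ?_⟩
      exact hcomm (Fin.last r) (Fin.castSucc i) n w
    let xC : Fin r → ∀ n, (M (n + 1) ⧸ LinearMap.range (y n)) →ₗ[A]
        (M (n + 1 + 1) ⧸ LinearMap.range (y (n + 1))) :=
      fun i n => Submodule.mapQ _ _ (x' i (n + 1)) (hCmem i n)
    have hC : IsNumPoly r (fun n => chi (A := A) (M (n + 1) ⧸ LinearMap.range (y n))) := by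
      refine ih (fun n => M (n + 1) ⧸ LinearMap.range (y n)) xC ?_ (fun n => inferInstance) ?_
      · intro i j n m
        obtain ⟨m, rfl⟩ := Submodule.mkQ_surjective _ m
        simp only [xC, Submodule.mkQ_apply, Submodule.mapQ_apply]
        rw [hcomm (Fin.castSucc i) (Fin.castSucc j) (n + 1) m]
      · intro f hmono hstab
        let g : ℕ → ∀ n, Submodule A (M n) := fun k n =>
          match n with
          | 0 => ⊥
          | n + 1 => (f k n).comap (LinearMap.range (y n)).mkQ
        obtain ⟨k₀, hk₀⟩ := hacc g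
          (by
            intro k n
            cases n with
            | zero => exact le_refl _
            | succ n => exact Submodule.comap_mono (hmono k n))
          (by
            intro k i n m hm
            cases n with
            | zero =>
              have hm0 : m = 0 := (Submodule.mem_bot A).mp hm
              rw [hm0, map_zero]; exact Submodule.zero_mem _
            | succ n =>
              change (LinearMap.range (y (n + 1))).mkQ (x i (n + 1) m) ∈ f k (n + 1)
              have hm' : (LinearMap.range (y n)).mkQ m ∈ f k n := hm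
              refine Fin.lastCases ?_ (fun i => ?_) i
              · have : (LinearMap.range (y (n + 1))).mkQ (x (Fin.last r) (n + 1) m) = 0 := by
                  rw [Submodule.mkQ_apply, Submodule.Quotient.mk_eq_zero]
                  exact ⟨m, rfl⟩
                rw [this]; exact Submodule.zero_mem _
              · have := hstab k i n _ hm'
                simpa [xC, Submodule.mapQ_apply] using this)
        refine ⟨k₀, fun l hl n => ?_⟩
        have := hk₀ l hl (n + 1)
        exact Submodule.comap_injective_of_surjective (Submodule.mkQ_surjective _) this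
    apply IsNumPoly.integrate
    have hΔ : (fun n => chi (A := A) (M (n + 1)) - chi (A := A) (M n)) =
        fun n => chi (A := A) (M (n + 1) ⧸ LinearMap.range (y n)) -
          chi (A := A) (LinearMap.ker (y n)) := by
      funext n
      exact chi_ker_coker (y n)
    rw [hΔ]
    exact hC.sub hK

end Abstract

section Graded

open DirectSum

variable {A S : Type u} [CommRing A] [CommRing S] [Algebra A S]
  (𝒜 : ℕ → Submodule A S) [GradedAlgebra 𝒜]
  {M : Type u} [AddCommGroup M] [Module A M] [Module S M] [IsScalarTower A S M]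
  (ℳ : ℕ → Submodule A M) [DirectSum.Decomposition ℳ] [SetLike.GradedSMul 𝒜 ℳ]

/-- a graded family of `A`-submodules stable under multiplication by homogeneous elements -/
def HomStable (N : ℕ → Submodule A M) : Prop :=
  ∀ i, ∀ t ∈ 𝒜 i, ∀ j, ∀ z ∈ N j, t • z ∈ N (i + j)

/-- the `S`-submodule generated by a homogeneously stable graded family -/
def totalSub (N : ℕ → Submodule A M) (hN : HomStable 𝒜 N) : Submodule S M where
  carrier := (⨆ j, N j : Submodule A M)
  add_mem' := fun ha hb => Submodule.add_mem _ ha hb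
  zero_mem' := Submodule.zero_mem _
  smul_mem' := by
    intro t w hw
    change w ∈ (⨆ j, N j : Submodule A M) at hw
    change t • w ∈ (⨆ j, N j : Submodule A M)
    induction t using DirectSum.Decomposition.inductionOn 𝒜 with
    | zero => rw [zero_smul]; exact Submodule.zero_mem _
    | @homogeneous i t =>
      induction hw using Submodule.iSup_induction' with
      | mem j z hz => exact Submodule.mem_iSup_of_mem (i + j) (hN i t t.2 j z hz)
      | zero => rw [smul_zero]; exact Submodule.zero_mem _
      | add z z' _ _ hz hz' => rw [smul_add]; exact Submodule.add_mem _ hz hz'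
    | add t t' ht ht' => rw [add_smul]; exact Submodule.add_mem _ ht ht'

theorem mem_totalSub_iff (N : ℕ → Submodule A M) (hN : HomStable 𝒜 N) (w : M) :
    w ∈ totalSub 𝒜 N hN ↔ w ∈ (⨆ j, N j : Submodule A M) := Iff.rfl

/-- recovering the graded pieces from the total submodule -/
theorem totalSub_inf (N : ℕ → Submodule A M) (hN : HomStable 𝒜 N) (hle : ∀ j, N j ≤ ℳ j)
    (n : ℕ) (w : M) (hw : w ∈ totalSub 𝒜 N hN) (hwn : w ∈ ℳ n) : w ∈ N n := by
  rw [mem_totalSub_iff] at hw
  have key : ((decompose ℳ w n : ℳ n) : M) ∈ N n := by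
    clear hwn
    induction hw using Submodule.iSup_induction' with
    | mem j z hz =>
      by_cases hjn : j = n
      · subst hjn
        rw [decompose_of_mem_same ℳ (hle j hz)]; exact hz
      · rw [decompose_of_mem_ne ℳ (hle j hz) hjn]; exact Submodule.zero_mem _
    | zero => rw [decompose_zero]; exact Submodule.zero_mem _
    | add z z' _ _ hz hz' =>
      rw [decompose_add]
      exact Submodule.add_mem _ hz hz'
  rwa [decompose_of_mem_same ℳ hwn] at key

/-- the ascending chain condition for homogeneously stable graded families -/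
theorem acc_homStable [IsNoetherian S M] (N : ℕ → ℕ → Submodule A M)
    (hN : ∀ k, HomStable 𝒜 (N k)) (hle : ∀ k j, N k j ≤ ℳ j)
    (hmono : ∀ k j, N k j ≤ N (k + 1) j) :
    ∃ k, ∀ l, k ≤ l → ∀ n, N l n = N k n := by
  have hmono' : ∀ k l, k ≤ l → ∀ j, N k j ≤ N l j := by
    intro k l hkl
    induction l, hkl using Nat.le_induction with
    | base => exact fun j => le_refl _
    | succ l _ ih => exact fun j => le_trans (ih j) (hmono l j)
  let F : ℕ →o Submodule S M :=
    { toFun := fun k => totalSub 𝒜 (N k) (hN k)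
      monotone' := by
        intro k l hkl w hw
        rw [mem_totalSub_iff] at hw ⊢
        exact iSup_mono (hmono' k l hkl) hw }
  obtain ⟨k₀, hk₀⟩ := monotone_stabilizes_iff_noetherian.mpr inferInstance F
  refine ⟨k₀, fun l hl n => le_antisymm ?_ (hmono' k₀ l hl n)⟩
  intro w hw
  have h1 : w ∈ F l := (mem_totalSub_iff 𝒜 (N l) (hN l) w).mpr (Submodule.mem_iSup_of_mem n hw)
  rw [← hk₀ l hl] at h1
  exact totalSub_inf 𝒜 ℳ (N k₀) (hN k₀) (hle k₀) n w h1 (hle l n hw)

/-- finitely many degree-one generators -/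
theorem exists_gens [IsNoetherianRing S] :
    ∃ (r : ℕ) (s : Fin r → S), (∀ l, s l ∈ 𝒜 1) ∧
      Ideal.span (Set.range s) = Ideal.span (𝒜 1 : Set S) := by
  have hfg : (Submodule.span S (𝒜 1 : Set S)).FG :=
    IsNoetherian.noetherian (Submodule.span S (𝒜 1 : Set S))
  obtain ⟨t, hts, ht⟩ := (Submodule.fg_span_iff_fg_span_finset_subset _).mp hfg
  refine ⟨t.card, fun l => (t.equivFin.symm l : S), fun l => hts (t.equivFin.symm l).2, ?_⟩
  refine Eq.trans ?_ ht.symm
  change Submodule.span S _ = Submodule.span S _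
  congr 1
  ext z
  constructor
  · rintro ⟨l, rfl⟩; exact (t.equivFin.symm l).2
  · intro hz; exact ⟨t.equivFin ⟨z, hz⟩, by simp⟩

/-- a homogeneous element of degree `i + 1` is a combination of the degree-one generators with
coefficients of degree `i` -/
theorem exists_coeffs {r : ℕ} (s : Fin r → S) (hs : ∀ l, s l ∈ 𝒜 1)
    (hspan : (HomogeneousIdeal.irrelevant 𝒜).toIdeal = Ideal.span (Set.range s))
    (i : ℕ) (u : S) (hu : u ∈ 𝒜 (i + 1)) :
    ∃ c : Fin r → S, (∀ l, c l ∈ 𝒜 i) ∧ u = ∑ l, c l * s l := by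
  have h1 : u ∈ (HomogeneousIdeal.irrelevant 𝒜).toIdeal :=
    HomogeneousIdeal.mem_irrelevant_of_mem 𝒜 (Nat.succ_pos i) hu
  rw [hspan, Ideal.mem_span_range_iff_exists_fun] at h1
  obtain ⟨c, hc⟩ := h1
  refine ⟨fun l => (decompose 𝒜 (c l) i : S), fun l => SetLike.coe_mem _, ?_⟩
  have h2 : (decompose 𝒜 u (i + 1) : S) = u := decompose_of_mem_same 𝒜 hu
  have h3 : ∀ x, (decompose 𝒜 x (i + 1) : S) = GradedRing.proj 𝒜 (i + 1) x :=
    fun x => (GradedRing.proj_apply 𝒜 (i + 1) x).symm
  rw [← h2, ← hc, h3, map_sum]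
  refine Finset.sum_congr rfl (fun l _ => ?_)
  rw [← h3]
  exact coe_decompose_mul_add_of_right_mem 𝒜 (hs l)

/-- stability under the degree-one generators implies homogeneous stability -/
theorem homStable_of_gens (h0 : ∀ s ∈ 𝒜 0, s ∈ Set.range (algebraMap A S)) {r : ℕ}
    (s : Fin r → S) (hs : ∀ l, s l ∈ 𝒜 1)
    (hspan : (HomogeneousIdeal.irrelevant 𝒜).toIdeal = Ideal.span (Set.range s))
    (N : ℕ → Submodule A M) (hN : ∀ l j, ∀ z ∈ N j, s l • z ∈ N (j + 1)) : HomStable 𝒜 N := by
  intro i
  induction i with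
  | zero =>
    intro t ht j z hz
    obtain ⟨a, rfl⟩ := h0 t ht
    rw [algebraMap_smul, zero_add]
    exact Submodule.smul_mem _ a hz
  | succ i ih =>
    intro t ht j z hz
    obtain ⟨c, hc, rfl⟩ := exists_coeffs 𝒜 s hs hspan i t ht
    rw [Finset.sum_smul]
    refine Submodule.sum_mem _ (fun l _ => ?_)
    rw [mul_smul]
    have := ih (c l) (hc l) (j + 1) (s l • z) (hN l j z hz)
    rwa [show i + (j + 1) = i + 1 + j by omega] at this

/-- multiplication by a degree-one element on graded pieces -/
noncomputable def xmap (t : S) (ht : t ∈ 𝒜 1) (n : ℕ) : ℳ n →ₗ[A] ℳ (n + 1) :=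
  LinearMap.codRestrict (ℳ (n + 1))
    (((LinearMap.lsmul S M t).restrictScalars A).comp (ℳ n).subtype)
    (fun z => by
      have := SetLike.GradedSMul.smul_mem (A := 𝒜) (B := ℳ) ht z.2
      rw [show (1 : ℕ) +ᵥ n = n + 1 from add_comm 1 n] at this
      exact this)

theorem xmap_coe (t : S) (ht : t ∈ 𝒜 1) (n : ℕ) (z : ℳ n) :
    ((xmap 𝒜 ℳ t ht n z : ℳ (n + 1)) : M) = t • (z : M) := rfl

open Groth.Agent.Helper5 in
/-- **Hilbert–Serre with values in `K'₀(A)`** -/
theorem isNumPoly_graded [IsNoetherianRing S] [Module.Finite S M]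
    (h0 : ∀ s ∈ 𝒜 0, s ∈ Set.range (algebraMap A S))
    (h1 : (HomogeneousIdeal.irrelevant 𝒜).toIdeal = Ideal.span (𝒜 1 : Set S)) :
    ∃ r, IsNumPoly r (fun n => chi (A := A) (ℳ n)) := by
  obtain ⟨r, s, hs, hspan⟩ := exists_gens 𝒜
  rw [← h1] at hspan
  have hspan' := hspan.symm
  haveI : IsNoetherian S M := isNoetherian_of_isNoetherianRing_of_finite S M
  refine ⟨r, ?_⟩
  have hgr : ∀ l j, ∀ z ∈ ℳ j, s l • z ∈ ℳ (j + 1) := by
    intro l j z hz
    have := SetLike.GradedSMul.smul_mem (A := 𝒜) (B := ℳ) (hs l) hz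
    rwa [show (1 : ℕ) +ᵥ j = j + 1 from add_comm 1 j] at this
  have hacc : ∀ f : ℕ → ∀ n, Submodule A (ℳ n), (∀ k n, f k n ≤ f (k + 1) n) →
      (∀ k l n m, m ∈ f k n → xmap 𝒜 ℳ (s l) (hs l) n m ∈ f k (n + 1)) →
      ∃ k, ∀ l, k ≤ l → ∀ n, f l n = f k n := by
    intro f hmono hstab
    obtain ⟨k₀, hk₀⟩ := acc_homStable 𝒜 ℳ (fun k n => (f k n).map (ℳ n).subtype)
      (fun k => homStable_of_gens 𝒜 h0 s hs hspan' _ (by
        rintro l j _ ⟨w, hw, rfl⟩
        exact ⟨xmap 𝒜 ℳ (s l) (hs l) j w, hstab k l j w hw, rfl⟩))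
      (fun k j => by
        rintro _ ⟨w, _, rfl⟩
        exact w.2)
      (fun k j => Submodule.map_mono (hmono k j))
    refine ⟨k₀, fun l hl n => ?_⟩
    exact Submodule.map_injective_of_injective (Submodule.injective_subtype _) (hk₀ l hl n)
  have hnoeth : ∀ n, IsNoetherian A (ℳ n) := by
    intro n
    rw [← monotone_stabilizes_iff_noetherian]
    intro P
    let N : ℕ → ℕ → Submodule A M := fun k j =>
      if j = n then (P k).map (ℳ n).subtype else if j < n then ⊥ else ℳ j
    have hNle : ∀ k j, N k j ≤ ℳ j := by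
      intro k j
      simp only [N]
      by_cases h3 : j = n
      · rw [if_pos h3]
        subst h3
        rintro _ ⟨w, _, rfl⟩
        exact w.2
      · rw [if_neg h3]
        by_cases h4 : j < n
        · rw [if_pos h4]; exact bot_le
        · rw [if_neg h4]
    obtain ⟨k₀, hk₀⟩ := acc_homStable 𝒜 ℳ N
      (fun k => homStable_of_gens 𝒜 h0 s hs hspan' _ (by
        intro l j z hz
        have hzj : z ∈ ℳ j := hNle k j hz
        simp only [N] at hz ⊢
        by_cases h2 : j + 1 ≤ n
        · have h3 : ¬ j = n := by omega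
          have h4 : j < n := by omega
          rw [if_neg h3, if_pos h4, Submodule.mem_bot] at hz
          rw [hz, smul_zero]; exact Submodule.zero_mem _
        · have h3 : ¬ j + 1 = n := by omega
          have h4 : ¬ j + 1 < n := by omega
          rw [if_neg h3, if_neg h4]
          exact hgr l j z hzj))
      hNle
      (fun k j => by
        simp only [N]
        by_cases h3 : j = n
        · rw [if_pos h3, if_pos h3]
          exact Submodule.map_mono (P.monotone (Nat.le_succ k))
        · rw [if_neg h3, if_neg h3])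
    refine ⟨k₀, fun l hl => ?_⟩
    have := hk₀ l hl n
    simp only [N, if_true] at this
    exact (Submodule.map_injective_of_injective (Submodule.injective_subtype _) this).symm
  exact main r (fun n => ℳ n) (fun l n => xmap 𝒜 ℳ (s l) (hs l) n)
    (fun i j n m => Subtype.ext (smul_comm (s i) (s j) (m : M))) hnoeth hacc

open Groth.Agent.Helper5 in
/-- the statement of S9662 -/
theorem s9662 [IsNoetherianRing S] [Module.Finite S M]
    (h0 : ∀ s ∈ 𝒜 0, s ∈ Set.range (algebraMap A S))
    (h1 : (HomogeneousIdeal.irrelevant 𝒜).toIdeal = Ideal.span (𝒜 1 : Set S)) :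
    ∃ (r : ℕ) (a : Fin r → KZero.K0sub (fun X : ModuleCat.{u} A => Module.Finite A X)) (N : ℕ),
      ∀ n : ℕ, N ≤ n →
      KZero.clSub (fun X : ModuleCat.{u} A => Module.Finite A X) (ModuleCat.of A ↥(ℳ n)) =
        ∑ i : Fin r, ((n.choose (i : ℕ) : ℕ) : ℤ) • a i := by
  obtain ⟨r, a, N, h⟩ := isNumPoly_graded 𝒜 ℳ h0 h1
  refine ⟨r, fun i => a i, N, fun n hn => ?_⟩
  have := h n hn
  rw [Finset.sum_range] at this
  exact this

end Graded

end Groth.Agent.Helper7.HilbK
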