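import Mathlib
import Groth.Prelude.Def_CAlgX
import Groth.Agent.Lib.Helper7.InjFlatGlobal

/-!
# EGA IV 11.3.7 for local rings essentially of finite presentation (helper7)
-/

set_option autoImplicit false
set_option linter.style.haveILetI false
set_option linter.unusedSectionVars false

universe u

open TensorProduct Function IsLocalRing

namespace Groth.Agent.Helper7.InjFlatLocal

open Groth.Agent.Helper21 Groth.Agent.Helper7.FibInj Groth.Agent.Helper7.NoethStage

set_option maxHeartbeats 3200000 in
set_option synthInstance.maxHeartbeats 400000 in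
theorem main {R S M N : Type u} [CommRing R] [CommRing S] [IsLocalRing R]
    [IsLocalRing S] [Algebra R S] [IsLocalHom (algebraMap R S)]
    (hS : CAlgX.IsEssFinitePresentation R S)
    [AddCommGroup M] [Module S M] [Module R M] [IsScalarTower R S M]
    [Module.FinitePresentation S M]
    [AddCommGroup N] [Module S N] [Module R N] [IsScalarTower R S N]
    [Module.FinitePresentation S N] [Module.Flat R N]
    (u : M →ₗ[S] N)
    (hu : ∀ x : M, u x ∈ (maximalIdeal R).map (algebraMap R S) • (⊤ : Submodule S N) →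
      x ∈ (maximalIdeal R).map (algebraMap R S) • (⊤ : Submodule S M)) :
    Function.Injective u ∧ Module.Flat R (N ⧸ LinearMap.range u) := by
  classical
  obtain ⟨B, _, _, _, _, T₀, hfp₀, hloc₀⟩ := hS
  haveI := hfp₀
  haveI := hloc₀
  let Q : Ideal B := (maximalIdeal S).comap (algebraMap B S)
  haveI : Q.IsPrime := Ideal.comap_isPrime _ _
  haveI hAt : IsLocalization.AtPrime S Q := EssFP.atPrime_of_isLocalRing T₀ Q rfl
  letI mBM : Module B M := Module.compHom M (algebraMap B S)
  haveI tBSM : IsScalarTower B S M := IsScalarTower.of_algebraMap_smul fun _ _ => rfl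
  letI mBN : Module B N := Module.compHom N (algebraMap B S)
  haveI tBSN : IsScalarTower B S N := IsScalarTower.of_algebraMap_smul fun _ _ => rfl
  haveI tRBM : IsScalarTower R B M := IsScalarTower.of_algebraMap_smul fun r m => by
    change algebraMap B S (algebraMap R B r) • m = r • m
    rw [← IsScalarTower.algebraMap_apply R B S, algebraMap_smul]
  haveI tRBN : IsScalarTower R B N := IsScalarTower.of_algebraMap_smul fun r m => by
    change algebraMap B S (algebraMap R B r) • m = r • m
    rw [← IsScalarTower.algebraMap_apply R B S, algebraMap_smul]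
  obtain ⟨M₀, _, _, _, fM, hfM⟩ := EssFP.exists_fp_isLocalizedModule Q.primeCompl S M
  obtain ⟨N₀, _, _, _, fN, hfN⟩ := EssFP.exists_fp_isLocalizedModule Q.primeCompl S N
  letI : Module R M₀ := Module.compHom M₀ (algebraMap R B)
  haveI : IsScalarTower R B M₀ := IsScalarTower.of_algebraMap_smul fun _ _ => rfl
  letI : Module R N₀ := Module.compHom N₀ (algebraMap R B)
  haveI : IsScalarTower R B N₀ := IsScalarTower.of_algebraMap_smul fun _ _ => rfl
  have hp : Q.comap (algebraMap R B) = maximalIdeal R := by
    change ((maximalIdeal S).comap (algebraMap B S)).comap (algebraMap R B) = _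
    rw [Ideal.comap_comap, ← IsScalarTower.algebraMap_eq]
    exact IsLocalRing.maximalIdeal_comap (algebraMap R S)
  let e : LocalizedModule Q.primeCompl N₀ ≃ₗ[B] N := IsLocalizedModule.iso Q.primeCompl fN
  haveI : Module.Flat R (LocalizedModule Q.primeCompl N₀) :=
    Module.Flat.of_linearEquiv (e.restrictScalars R)
  -- the lift of `u`
  obtain ⟨u₀, s, hs⟩ := Module.FinitePresentation.exists_lift_of_isLocalizedModule Q.primeCompl fN
    ((u.restrictScalars B) ∘ₗ fM)
  have hsu : ∀ x : M₀, fN (u₀ x) = (s : B) • u (fM x) := fun x => LinearMap.congr_fun hs x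
  -- units
  have hunit : ∀ t : B, t ∉ Q → IsUnit (algebraMap B S t) := fun t ht =>
    IsLocalization.map_units S (⟨t, ht⟩ : Q.primeCompl)
  -- fibre injectivity for `u₀`
  have hfib : ∀ x : M₀, (∃ t : B, t ∉ Q ∧ t • u₀ x ∈
        ((Q.comap (algebraMap R B)).map (algebraMap R B)) • (⊤ : Submodule B N₀)) →
      ∃ t' : B, t' ∉ Q ∧ t' • x ∈
        ((Q.comap (algebraMap R B)).map (algebraMap R B)) • (⊤ : Submodule B M₀) := by
    rintro x ⟨t, ht, htx⟩
    rw [hp] at htx ⊢
    rw [mem_map_smul_top_iff] at htx
    have h1 : fN (u₀ x) ∈ (maximalIdeal R) • (⊤ : Submodule R N) :=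
      map_mem_of_smul_mem Q.primeCompl fN (maximalIdeal R) (u₀ x) t ht htx
    rw [hsu] at h1
    obtain ⟨σ, hσ⟩ := hunit s s.2
    have h2 : u (fM x) ∈ (maximalIdeal R) • (⊤ : Submodule R N) := by
      have e1 : u (fM x) = (↑σ⁻¹ : S) • ((s : B) • u (fM x)) := by
        rw [← algebraMap_smul S (s : B) (u (fM x)), ← hσ, smul_smul, Units.inv_mul, one_smul]
      rw [e1]
      exact smul_mem_smul_top (S := S) _ _ h1
    have h3 := hu (fM x) ((mem_map_smul_top_iff (S := S) _ _).mpr h2)
    rw [mem_map_smul_top_iff] at h3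
    obtain ⟨t', ht', ht'x⟩ := exists_smul_mem_of_map_mem Q.primeCompl fM (maximalIdeal R) x h3
    exact ⟨t', ht', (mem_map_smul_top_iff _ _).mpr ht'x⟩
  obtain ⟨hinj₀, hfl₀⟩ := Groth.Agent.Helper7.InjFlatGlobal.global_inj_flat (R := R) u₀ Q hfib
  refine ⟨?_, ?_⟩
  · rw [injective_iff_map_eq_zero]
    intro y hy
    obtain ⟨⟨x, t⟩, hxt⟩ := IsLocalizedModule.surj Q.primeCompl fM y
    have hxt' : (t : B) • y = fM x := hxt
    have h1 : u (fM x) = 0 := by
      rw [← hxt', ← algebraMap_smul S (t : B) y, map_smul, hy, smul_zero]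
    have h2 : fN (u₀ x) = 0 := by rw [hsu, h1, smul_zero]
    obtain ⟨c, hc⟩ := (IsLocalizedModule.eq_zero_iff Q.primeCompl fN).mp h2
    have hc' : u₀ ((c : B) • x) = 0 := by
      rw [map_smul]
      exact hc
    obtain ⟨t', ht', ht'x⟩ := hinj₀ _ hc'
    have h3 : (t' * (c : B) * (t : B)) • y = 0 := by
      rw [mul_smul, hxt', ← map_smul, mul_smul, ht'x, map_zero]
    obtain ⟨σ, hσ⟩ := hunit (t' * (c : B) * (t : B))
      (Q.primeCompl.mul_mem (Q.primeCompl.mul_mem ht' c.2) t.2)
    have e1 : y = (↑σ⁻¹ : S) • ((t' * (c : B) * (t : B)) • y) := by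
      rw [← algebraMap_smul S (t' * (c : B) * (t : B)) y, ← hσ, smul_smul, Units.inv_mul, one_smul]
    rw [e1, h3, smul_zero]
  · let v : M →ₗ[B] N := IsLocalizedModule.map Q.primeCompl fM fN u₀
    let w : N →ₗ[B] LocalizedModule Q.primeCompl (N₀ ⧸ LinearMap.range u₀) :=
      IsLocalizedModule.map Q.primeCompl fN (LocalizedModule.mkLinearMap Q.primeCompl _)
        (LinearMap.range u₀).mkQ
    have hex : Function.Exact v w :=
      IsLocalizedModule.map_exact Q.primeCompl fM fN (LocalizedModule.mkLinearMap Q.primeCompl _)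
        u₀ (LinearMap.range u₀).mkQ (LinearMap.exact_map_mkQ_range u₀)
    have hw : Surjective w :=
      IsLocalizedModule.map_surjective Q.primeCompl fN _ _ (Submodule.mkQ_surjective _)
    have hv : ∀ y, v y = (s : B) • u y := by
      have hveq : v = (s : B) • (u.restrictScalars B) := by
        apply IsLocalizedModule.linearMap_ext Q.primeCompl fM fN
        rw [IsLocalizedModule.map_comp, hs, LinearMap.smul_comp]
        rfl
      intro y
      rw [hveq]
      rfl
    have hrk : (LinearMap.range u).restrictScalars R = LinearMap.ker (w.restrictScalars R) := by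
      ext z
      rw [Submodule.restrictScalars_mem, LinearMap.mem_ker, LinearMap.restrictScalars_apply]
      constructor
      · rintro ⟨y, rfl⟩
        obtain ⟨σ, hσ⟩ := hunit s s.2
        apply (hex _).mpr
        refine ⟨(↑σ⁻¹ : S) • y, ?_⟩
        rw [hv, map_smul, ← algebraMap_smul S (s : B), ← hσ, smul_smul, Units.mul_inv, one_smul]
      · intro hz
        obtain ⟨y, rfl⟩ := (hex z).mp hz
        rw [hv, ← algebraMap_smul S (s : B), ← map_smul]
        exact ⟨_, rfl⟩
    let e₁ : (N ⧸ LinearMap.range u) ≃ₗ[R]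
        LocalizedModule Q.primeCompl (N₀ ⧸ LinearMap.range u₀) :=
      (Submodule.Quotient.restrictScalarsEquiv R (LinearMap.range u)).symm.trans
        ((Submodule.quotEquivOfEq _ _ hrk).trans
          ((w.restrictScalars R).quotKerEquivOfSurjective hw))
    haveI := hfl₀
    exact Module.Flat.of_linearEquiv e₁

end Groth.Agent.Helper7.InjFlatLocal
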