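import Groth.Agent.Lib.Helper7.J0Main
import Groth.Agent.Lib.Helper7.J2Dim1
import Groth.Agent.Lib.Helper7.Mono
import Groth.Agent.Lib.Helper7.NagAU2

/-! A Nagata ring of dimension one is J-2 (S9280). -/

universe u

namespace Groth.Agent.Helper7.J2Nag1

set_option linter.style.haveILetI false
set_option linter.unusedSectionVars false

open Groth.Agent.Helper7.J0

/-- A Noetherian N-1 domain in which nonzero primes are maximal is J-0. -/
theorem isJ0_of_isN1 (D : Type u) [CommRing D] [IsDomain D] [IsNoetherianRing D]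
    (hN1 : Module.Finite D (integralClosure D (FractionRing D)))
    (hdim : ∀ Q : Ideal D, Q.IsPrime → Q ≠ ⊥ → Q.IsMaximal) : IsJ0 D := by
  haveI := hN1
  let L := FractionRing D
  let C := integralClosure D L
  haveI : IsNoetherianRing ↥C := IsNoetherianRing.of_finite D ↥C
  haveI : FaithfulSMul D ↥C := inferInstance
  haveI : Algebra.IsIntegral D ↥C := inferInstance
  haveI hfr : IsFractionRing ↥C L := integralClosure.isFractionRing_of_finite_extension L L
  have hdimC : Ring.DimensionLEOne ↥C := by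
    refine ⟨fun {Q} hQ0 hQ => ?_⟩
    haveI := hQ
    haveI : (⊥ : Ideal ↥C).IsPrime := Ideal.isPrime_bot
    have hlt : (⊥ : Ideal ↥C).comap (algebraMap D ↥C) < Q.comap (algebraMap D ↥C) :=
      Ideal.IsIntegral.comap_lt_comap (bot_lt_iff_ne_bot.mpr hQ0)
    have hne : Q.comap (algebraMap D ↥C) ≠ ⊥ := by
      intro h
      rw [h] at hlt
      exact not_lt_bot hlt
    have hmax := hdim _ (Ideal.comap_isPrime _ _) hne
    exact Ideal.isMaximal_of_isIntegral_of_isMaximal_comap Q hmax
  haveI : IsDedekindDomain ↥C := by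
    refine (isDedekindDomain_iff (A := ↥C) L).mpr ⟨inferInstance, inferInstance, hdimC, ?_⟩
    intro x hx
    have hx' : IsIntegral D x := isIntegral_trans x hx
    exact ⟨⟨x, hx'⟩, rfl⟩
  haveI : IsRegularRing ↥C := inferInstance
  refine isJ0_of_finite D ↥C ⟨Set.univ, isOpen_univ, ⟨⟨⊥, Ideal.isPrime_bot⟩, trivial⟩, ?_⟩
  intro x _
  exact IsRegularRing.isRegularLocalRing_localization x.asIdeal

theorem s9280 (R : Type u) [CommRing R] (hR : CAlg.IsNagata R)
    (hdim : ringKrullDim R = 1) : EGA4.IsJ2 R := by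
  haveI := hR.1
  refine (s2617 R).mpr ?_
  intro A' _ _ _ hfin
  haveI := hfin
  haveI : IsNoetherianRing A' := IsNoetherianRing.of_finite R A'
  haveI : Algebra.IsIntegral R A' := inferInstance
  have hA' : CAlg.IsNagata A' := Groth.Agent.Helper7.NagAU2.isNagata_of_finite R hR A'
  have hN2 : CAlg.IsN2 A' := Groth.Agent.Helper7.Mono.isN2_of_isNagata hA'
  have hN1 : Module.Finite A' (integralClosure A' (FractionRing A')) :=
    Groth.Agent.Helper7.Mono.finite_integralClosure_of_isN2 hN2 (FractionRing A') (FractionRing A')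
  refine isJ0_of_isN1 A' hN1 ?_
  intro Q hQ hQ0
  haveI := hQ
  haveI : (⊥ : Ideal A').IsPrime := Ideal.isPrime_bot
  have hlt : (⊥ : Ideal A').comap (algebraMap R A') < Q.comap (algebraMap R A') :=
    Ideal.IsIntegral.comap_lt_comap (bot_lt_iff_ne_bot.mpr hQ0)
  haveI : ((⊥ : Ideal A').comap (algebraMap R A')).IsPrime := Ideal.comap_isPrime _ _
  haveI : (Q.comap (algebraMap R A')).IsPrime := Ideal.comap_isPrime _ _
  have hPmax := Groth.Agent.Helper7.J2Dim1.isMaximal_of_lt R hdim.le _ _ hlt
  exact Ideal.isMaximal_of_isIntegral_of_isMaximal_comap Q hPmax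

end Groth.Agent.Helper7.J2Nag1
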