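import Mathlib
import Groth.Prelude.Def_Found

/-! N-1 descends from the Laurent polynomial ring `R[X, 1/X]` to `R`. -/

set_option linter.style.haveILetI false

namespace Groth.Agent.Helper7.LaurentN1
open Polynomial TensorProduct

universe u

theorem main (R : Type u) [CommRing R] [IsDomain R] [IsNoetherianRing R]
    (S : Type u) [CommRing S] [IsDomain S] [Algebra (Polynomial R) S]
    [IsLocalization.Away (Polynomial.X : Polynomial R) S] (h : CAlg.IsN1 S) : CAlg.IsN1 R := by
  classical
  letI : Algebra R S := ((algebraMap R[X] S).comp C).toAlgebra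
  haveI : IsScalarTower R R[X] S := IsScalarTower.of_algebraMap_eq (fun _ => rfl)
  have hXS : Function.Injective (algebraMap R[X] S) :=
    IsLocalization.injective S (M := Submonoid.powers (X : R[X]))
      (powers_le_nonZeroDivisors_of_noZeroDivisors X_ne_zero)
  have hRS : Function.Injective (algebraMap R S) := hXS.comp C_injective
  haveI : FaithfulSMul R S := (faithfulSMul_iff_algebraMap_injective R S).mpr hRS
  haveI : IsNoetherianRing S :=
    IsLocalization.isNoetherianRing (Submonoid.powers (X : R[X])) S inferInstance
  let K := FractionRing R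
  let L := FractionRing S
  haveI : FaithfulSMul R L := by
    rw [faithfulSMul_iff_algebraMap_injective, IsScalarTower.algebraMap_eq R S L]
    exact (IsFractionRing.injective S L).comp hRS
  letI : Algebra K L := FractionRing.liftAlgebra R L
  haveI : IsScalarTower R K L := FractionRing.isScalarTower_liftAlgebra R L
  -- the evaluation `X ↦ 1`
  let ev0 : S →+* R := IsLocalization.Away.lift (X : R[X]) (g := evalRingHom (1 : R))
    (by simp)
  have hev0 : ∀ r : R, ev0 (algebraMap R S r) = r := by
    intro r
    change ev0 (algebraMap R[X] S (C r)) = r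
    rw [IsLocalization.Away.lift_eq]
    simp
  let ev : S →ₐ[R] K :=
    { toRingHom := (algebraMap R K).comp ev0
      commutes' := fun r => by
        change algebraMap R K (ev0 (algebraMap R S r)) = _
        rw [hev0] }
  let T := S ⊗[R] K
  let Φ : T →ₐ[S] L := Algebra.TensorProduct.lift (Algebra.ofId S L)
    (IsScalarTower.toAlgHom R K L) (fun _ _ => Commute.all _ _)
  let E : T →ₐ[R] K := Algebra.TensorProduct.lift ev (AlgHom.id R K) (fun _ _ => Commute.all _ _)
  -- `Φ` is injective
  have hΦ : Function.Injective Φ := by
    haveI : IsLocalization (Algebra.algebraMapSubmonoid S (nonZeroDivisors R)) T :=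
      IsLocalization.tensor K (nonZeroDivisors R)
    have hle : Algebra.algebraMapSubmonoid S (nonZeroDivisors R) ≤ nonZeroDivisors S := by
      rintro _ ⟨r, hr, rfl⟩
      exact mem_nonZeroDivisors_of_ne_zero
        (fun h0 => nonZeroDivisors.ne_zero hr (hRS (by rw [h0, map_zero])))
    have hST : Function.Injective (algebraMap S T) := IsLocalization.injective T hle
    change Function.Injective (Φ : T →+* L)
    rw [IsLocalization.injective_iff_map_algebraMap_eq
      (Algebra.algebraMapSubmonoid S (nonZeroDivisors R))]
    intro x y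
    have hc : ∀ z : S, (Φ : T →+* L) (algebraMap S T z) = algebraMap S L z := fun z =>
      Φ.commutes z
    rw [hc, hc]
    exact ⟨fun hxy => by rw [hST hxy], fun hxy => by rw [IsFractionRing.injective S L hxy]⟩
  -- key: membership can be tested after extending scalars to `S`
  have hΦ1 : ∀ x : K, Φ ((1 : S) ⊗ₜ[R] x) = algebraMap K L x := by
    intro x
    change Algebra.TensorProduct.lift _ _ _ ((1 : S) ⊗ₜ[R] x) = _
    rw [Algebra.TensorProduct.lift_tmul]
    simp
  have hE1 : ∀ x : K, E ((1 : S) ⊗ₜ[R] x) = x := by
    intro x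
    change Algebra.TensorProduct.lift _ _ _ ((1 : S) ⊗ₜ[R] x) = _
    rw [Algebra.TensorProduct.lift_tmul]
    simp
  have key : ∀ (N' : Submodule R K) (x : K),
      algebraMap K L x ∈ Submodule.span S ((algebraMap K L) '' (N' : Set K)) → x ∈ N' := by
    intro N' x hx
    have aux : ∀ y ∈ Submodule.span S ((algebraMap K L) '' (N' : Set K)),
        ∃ τ : T, Φ τ = y ∧ E τ ∈ N' := by
      intro y hy
      induction hy using Submodule.span_induction with
      | mem y hy =>
        obtain ⟨n, hn, rfl⟩ := hy
        exact ⟨(1 : S) ⊗ₜ[R] n, hΦ1 n, by rw [hE1]; exact hn⟩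
      | zero => exact ⟨0, map_zero _, by rw [map_zero]; exact N'.zero_mem⟩
      | add y z _ _ hy hz =>
        obtain ⟨τ₁, h₁, h₁'⟩ := hy
        obtain ⟨τ₂, h₂, h₂'⟩ := hz
        exact ⟨τ₁ + τ₂, by rw [map_add, h₁, h₂], by rw [map_add]; exact N'.add_mem h₁' h₂'⟩
      | smul s y _ hy =>
        obtain ⟨τ, h₁, h₁'⟩ := hy
        refine ⟨s • τ, by rw [map_smul, h₁], ?_⟩
        have : s • τ = (s ⊗ₜ[R] (1 : K)) * τ := by
          have h0 : s • τ = algebraMap S T s * τ := Algebra.smul_def s τ
          rw [h0, Algebra.TensorProduct.algebraMap_apply]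
          simp
        rw [this, map_mul]
        have h2 : E (s ⊗ₜ[R] (1 : K)) = algebraMap R K (ev0 s) := by
          change Algebra.TensorProduct.lift _ _ _ (s ⊗ₜ[R] (1 : K)) = _
          rw [Algebra.TensorProduct.lift_tmul]
          simp [ev]
        rw [h2, ← Algebra.smul_def]
        exact N'.smul_mem _ h₁'
    obtain ⟨τ, h₁, h₂⟩ := aux _ hx
    have : τ = (1 : S) ⊗ₜ[R] x := hΦ (by rw [h₁, hΦ1])
    rw [this, hE1] at h₂
    exact h₂
  -- the integral closures
  let R' := integralClosure R K
  have hint : ∀ x ∈ R', IsIntegral S (algebraMap K L x) := by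
    intro x hx
    have h1 : IsIntegral R (algebraMap K L x) := (hx : IsIntegral R x).map (IsScalarTower.toAlgHom R K L)
    exact h1.tower_top
  have hM : Submodule.span S ((algebraMap K L) '' (R' : Set K)) ≤
      Subalgebra.toSubmodule (integralClosure S L) := by
    rw [Submodule.span_le]
    rintro _ ⟨x, hx, rfl⟩
    exact hint x hx
  haveI : Module.Finite S (integralClosure S L) := h
  haveI : IsNoetherian S (Subalgebra.toSubmodule (integralClosure S L)) :=
    isNoetherian_of_isNoetherianRing_of_finite S (integralClosure S L)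
  have hfg : (Submodule.span S ((algebraMap K L) '' (R' : Set K))).FG :=
    isNoetherian_submodule.mp inferInstance _ hM
  obtain ⟨s', hs', hspan⟩ := (Submodule.fg_span_iff_fg_span_finset_subset _).mp hfg
  obtain ⟨t, ht, rfl⟩ := Finset.subset_set_image_iff.mp hs'
  have hR' : Subalgebra.toSubmodule R' = Submodule.span R (t : Set K) := by
    apply le_antisymm
    · intro x hx
      apply key
      have : algebraMap K L x ∈ Submodule.span S ((algebraMap K L) '' (R' : Set K)) :=
        Submodule.subset_span ⟨x, hx, rfl⟩
      rw [hspan, Finset.coe_image] at this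
      exact Submodule.span_mono (Set.image_mono Submodule.subset_span) this
    · rw [Submodule.span_le]
      exact ht
  have : (Subalgebra.toSubmodule R').FG := by
    rw [hR']
    exact Submodule.fg_span t.finite_toSet
  exact Module.Finite.iff_fg.mpr this

end Groth.Agent.Helper7.LaurentN1
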