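import Mathlib
import Groth.Agent.Lib.Helper7.LimComp2
universe u
open AlgebraicGeometry CategoryTheory CategoryTheory.Limits Topology

namespace Groth.Agent.Helper7.LimBC

/-- core statement for irreducible components -/
theorem bijOn_irreducibleComponents_core {S T : Type*} [TopologicalSpace S]
    [TopologicalSpace T] (p : S → T) (hp : Continuous p)
    (hfin : (irreducibleComponents S).Finite)
    (hcov : ∀ y : T, ∃ Y ∈ irreducibleComponents S, y ∈ closure (p '' Y))
    (hinc : ∀ Y ∈ irreducibleComponents S, ∀ Y' ∈ irreducibleComponents S,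
      closure (p '' Y) ⊆ closure (p '' Y') → Y = Y') :
    Set.BijOn (fun Y : Set S => closure (p '' Y)) (irreducibleComponents S)
      (irreducibleComponents T) := by
  have hirr : ∀ Y ∈ irreducibleComponents S, IsIrreducible (closure (p '' Y)) := fun Y hY =>
    (hY.1.image p hp.continuousOn).closure
  have hsub : ∀ W : Set T, IsIrreducible W → ∃ Y ∈ irreducibleComponents S, W ⊆ closure (p '' Y) := by
    intro W hW
    have hfin' : ((fun Y : Set S => closure (p '' Y)) '' irreducibleComponents S).Finite :=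
      hfin.image _
    obtain ⟨z, hz, hWz⟩ := isIrreducible_iff_sUnion_isClosed.mp hW hfin'.toFinset
      (fun z hz => by
        rw [Set.Finite.mem_toFinset] at hz
        obtain ⟨Y, -, rfl⟩ := hz
        exact isClosed_closure)
      (by
        rw [Set.Finite.coe_toFinset]
        intro y _
        obtain ⟨Y, hY, hy⟩ := hcov y
        exact ⟨_, ⟨Y, hY, rfl⟩, hy⟩)
    rw [Set.Finite.mem_toFinset] at hz
    obtain ⟨Y, hY, rfl⟩ := hz
    exact ⟨Y, hY, hWz⟩
  refine ⟨?_, ?_, ?_⟩
  · intro Y hY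
    refine ⟨hirr Y hY, fun W hW hYW => ?_⟩
    obtain ⟨Y', hY', hWY'⟩ := hsub W hW
    have := hinc Y hY Y' hY' (hYW.trans hWY')
    subst this
    exact hWY'
  · intro Y hY Y' hY' heq
    exact hinc Y hY Y' hY' (le_of_eq heq)
  · intro W hW
    obtain ⟨Y', hY', hWY'⟩ := hsub W hW.1
    exact ⟨Y', hY', Set.Subset.antisymm (hW.2 (hirr Y' hY') hWY') hWY'⟩

/-- core statement for connected components -/
theorem bijOn_connectedComponents_core {S T : Type*} [TopologicalSpace S]
    [TopologicalSpace T] (p : S → T) (hp : Continuous p)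
    (hfin : (Set.range (connectedComponent : S → Set S)).Finite)
    (hcov : ∀ y : T, ∃ C ∈ Set.range (connectedComponent : S → Set S), y ∈ closure (p '' C))
    (hdisj : ∀ C ∈ Set.range (connectedComponent : S → Set S),
      ∀ C' ∈ Set.range (connectedComponent : S → Set S), C ≠ C' →
        Disjoint (closure (p '' C)) (closure (p '' C'))) :
    Set.BijOn (fun C : Set S => closure (p '' C)) (Set.range (connectedComponent : S → Set S))
      (Set.range (connectedComponent : T → Set T)) := by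
  have hopen : ∀ C ∈ Set.range (connectedComponent : S → Set S), IsOpen (closure (p '' C)) := by
    intro C hC
    have : (closure (p '' C))ᶜ =
        ⋃ C' ∈ {C' ∈ Set.range (connectedComponent : S → Set S) | C' ≠ C}, closure (p '' C') := by
      ext y
      simp only [Set.mem_compl_iff, Set.mem_iUnion, Set.mem_ofPred_eq, exists_prop]
      constructor
      · intro hy
        obtain ⟨C', hC', hyC'⟩ := hcov y
        refine ⟨C', ⟨hC', ?_⟩, hyC'⟩
        rintro rfl
        exact hy hyC'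
      · rintro ⟨C', ⟨hC', hne⟩, hyC'⟩ hyC
        exact Set.disjoint_left.1 (hdisj C' hC' C hC hne) hyC' hyC
    rw [← isClosed_compl_iff, this]
    exact (hfin.subset (fun C' hC' => hC'.1)).isClosed_biUnion fun C' _ => isClosed_closure
  have hcc : ∀ x : S, closure (p '' connectedComponent x) = connectedComponent (p x) := by
    intro x
    have hC : connectedComponent x ∈ Set.range (connectedComponent : S → Set S) := ⟨x, rfl⟩
    have hmem : p x ∈ closure (p '' connectedComponent x) :=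
      subset_closure ⟨x, mem_connectedComponent, rfl⟩
    apply Set.Subset.antisymm
    · have hconn : IsConnected (closure (p '' connectedComponent x)) :=
        (isConnected_connectedComponent.image p hp.continuousOn).closure
      exact hconn.isPreconnected.subset_connectedComponent hmem
    · exact IsClopen.connectedComponent_subset ⟨isClosed_closure, hopen _ hC⟩ hmem
  refine ⟨?_, ?_, ?_⟩
  · rintro C ⟨x, rfl⟩
    exact ⟨p x, (hcc x).symm⟩
  · rintro C ⟨x, rfl⟩ C' ⟨x', rfl⟩ heq
    by_contra hne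
    have h1 := hdisj _ ⟨x, rfl⟩ _ ⟨x', rfl⟩ hne
    simp only at heq
    rw [heq, disjoint_self] at h1
    have hmem : p x' ∈ closure (p '' connectedComponent x') :=
      subset_closure ⟨x', mem_connectedComponent, rfl⟩
    rw [h1] at hmem
    exact hmem
  · rintro _ ⟨y, rfl⟩
    obtain ⟨C, ⟨x, rfl⟩, hyC⟩ := hcov y
    refine ⟨connectedComponent x, ⟨x, rfl⟩, ?_⟩
    simp only
    rw [hcc x]
    rw [hcc x] at hyC
    exact (connectedComponent_eq hyC)

variable {I : Type u} [Category.{u} I] (D : I ⥤ Scheme.{u}) (c : Cone D) (hc : IsLimit c)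

include hc in
theorem isInducing_π_of_isInducing [IsCofiltered I] [∀ {i j} (f : i ⟶ j), IsAffineHom (D.map f)]
    (he : ∀ {i j : I} (φ : i ⟶ j), Topology.IsInducing (D.map φ)) (i : I) :
    Topology.IsInducing (c.π.app i) := by
  have key : ∀ (U : c.pt.Opens) (x : c.pt), x ∈ U → ∃ V : Set (D.obj i), IsOpen V ∧
      x ∈ c.π.app i ⁻¹' V ∧ c.π.app i ⁻¹' V ⊆ (U : Set c.pt) := by
    intro U x hx
    obtain ⟨_, ⟨j, W, hW, rfl⟩, hxW, hWU⟩ :=
      (TopologicalSpace.Opens.isBasis_iff_nbhd.mp (isBasis_preimage_isAffineOpen D c hc)) hx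
    let k := IsCofiltered.min i j
    let a : k ⟶ i := IsCofiltered.minToLeft i j
    let b : k ⟶ j := IsCofiltered.minToRight i j
    obtain ⟨V, hVo, hV⟩ := (he a).isOpen_iff.1 (D.map b ⁻¹ᵁ W).2
    have heq : c.π.app i ⁻¹' V = ((c.π.app j ⁻¹ᵁ W : c.pt.Opens) : Set c.pt) := by
      have h1 : c.π.app i ⁻¹' V = c.π.app k ⁻¹' (D.map a ⁻¹' V) := by
        change _ = (c.π.app k ≫ D.map a) ⁻¹' V
        rw [Cone.w]
      rw [h1, hV]
      change (c.π.app k ≫ D.map b) ⁻¹' (W : Set (D.obj j)) = _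
      rw [Cone.w]
      rfl
    refine ⟨V, hVo, ?_, ?_⟩
    · rw [heq]; exact hxW
    · rw [heq]; exact hWU
  rw [Topology.isInducing_iff]
  apply le_antisymm
  · exact (c.π.app i).continuous.le_induced
  · intro U hU
    rw [isOpen_induced_iff]
    choose V hVo hV1 hV2 using key ⟨U, hU⟩
    refine ⟨⋃ (x : c.pt) (hx : x ∈ U), V x hx, ?_, ?_⟩
    · exact isOpen_iUnion fun x => isOpen_iUnion fun hx => hVo x hx
    · ext y
      simp only [Set.preimage_iUnion, Set.mem_iUnion, Set.mem_preimage]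
      constructor
      · rintro ⟨x, hx, hy⟩
        exact hV2 x hx hy
      · intro hy
        exact ⟨y, hy, hV1 y hy⟩

include hc in
theorem eventually_bijOn_irreducibleComponents_of_isEmbedding [IsCofiltered I]
    [∀ {i j} (f : i ⟶ j), IsAffineHom (D.map f)] (i₀ : I)
    [TopologicalSpace.NoetherianSpace (D.obj i₀)] [TopologicalSpace.NoetherianSpace c.pt]
    (he : ∀ (i j : I) (φ : i ⟶ j), Topology.IsEmbedding ⇑(D.map φ)) :
    ∃ (i : I) (_ : i ⟶ i₀), ∀ (j : I) (_ : j ⟶ i),
      Set.BijOn (fun Y : Set c.pt => closure (⇑(c.π.app j) '' (Y : Set c.pt) : Set (D.obj j)))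
        (irreducibleComponents c.pt) (irreducibleComponents (D.obj j)) := by
  have hind : ∀ j, Topology.IsInducing (c.π.app j) := fun j =>
    isInducing_π_of_isInducing D c hc (fun φ => (he _ _ φ).isInducing) j
  have hfin : (irreducibleComponents c.pt).Finite :=
    TopologicalSpace.NoetherianSpace.finite_irreducibleComponents
  have hcpt : CompactSpace (D.obj i₀) := TopologicalSpace.NoetherianSpace.compactSpace _
  let C₀ : Set (D.obj i₀) := ⋃ Y ∈ irreducibleComponents c.pt, closure (c.π.app i₀ '' Y)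
  have hC₀ : IsClosed C₀ := hfin.isClosed_biUnion fun Y _ => isClosed_closure
  have h0 : c.π.app i₀ ⁻¹' (Set.univ ∩ C₀ᶜ ∩ Set.univ) = ∅ := by
    rw [Set.eq_empty_iff_forall_notMem]
    rintro s ⟨⟨-, hs⟩, -⟩
    apply hs
    have h1 : s ∈ ⋃₀ irreducibleComponents c.pt := by
      rw [sUnion_irreducibleComponents]; trivial
    obtain ⟨Y, hY, hsY⟩ := h1
    exact Set.mem_biUnion hY (subset_closure ⟨s, hsY, rfl⟩)
  obtain ⟨l, ψ, hl⟩ := exists_preimage_inter_eq_empty D c hc (k := i₀)
    (B := Set.univ) IsConstructible.univ C₀ᶜ hC₀.isOpen_compl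
    (TopologicalSpace.NoetherianSpace.isCompact _) Set.univ isClosed_univ h0
  refine ⟨l, ψ, fun j χ => ?_⟩
  have hindj : Topology.IsInducing (D.map (χ ≫ ψ)) := (he _ _ (χ ≫ ψ)).isInducing
  have himg : ∀ Y : Set c.pt, c.π.app i₀ '' Y = D.map (χ ≫ ψ) '' (c.π.app j '' Y) := by
    intro Y
    rw [Set.image_image]
    congr 1
    ext s
    rw [← Scheme.Hom.comp_apply, Cone.w]
  refine bijOn_irreducibleComponents_core (c.π.app j) (c.π.app j).continuous hfin ?_ ?_
  · intro y
    have hy : D.map (χ ≫ ψ) y ∈ C₀ := by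
      by_contra hcon
      have : y ∈ D.map (χ ≫ ψ) ⁻¹' (Set.univ ∩ C₀ᶜ ∩ Set.univ) := ⟨⟨trivial, hcon⟩, trivial⟩
      rw [hl j χ] at this
      exact this
    simp only [C₀, Set.mem_iUnion, exists_prop] at hy
    obtain ⟨Y, hY, hyY⟩ := hy
    refine ⟨Y, hY, ?_⟩
    rw [hindj.closure_eq_preimage_closure_image, ← himg]
    exact hyY
  · intro Y hY Y' hY' hsub
    have h1 : Y ⊆ Y' := by
      have e1 : closure Y = c.π.app j ⁻¹' closure (c.π.app j '' Y) :=
        (hind j).closure_eq_preimage_closure_image Y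
      have e2 : closure Y' = c.π.app j ⁻¹' closure (c.π.app j '' Y') :=
        (hind j).closure_eq_preimage_closure_image Y'
      rw [← (isClosed_of_mem_irreducibleComponents Y hY).closure_eq,
        ← (isClosed_of_mem_irreducibleComponents Y' hY').closure_eq, e1, e2]
      exact Set.preimage_mono hsub
    exact Set.Subset.antisymm h1 (hY.2 hY'.1 h1)

include hc in
theorem eventually_bijOn_connectedComponents_of_isEmbedding [IsCofiltered I]
    [∀ {i j} (f : i ⟶ j), IsAffineHom (D.map f)] (i₀ : I)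
    [TopologicalSpace.NoetherianSpace (D.obj i₀)] [TopologicalSpace.NoetherianSpace c.pt]
    (he : ∀ (i j : I) (φ : i ⟶ j), Topology.IsEmbedding ⇑(D.map φ)) :
    ∃ (i : I) (_ : i ⟶ i₀), ∀ (j : I) (_ : j ⟶ i),
      Set.BijOn (fun C : Set c.pt => closure (⇑(c.π.app j) '' (C : Set c.pt) : Set (D.obj j)))
        (Set.range (connectedComponent : c.pt → Set c.pt))
        (Set.range (connectedComponent : D.obj j → Set (D.obj j))) := by
  have hind : ∀ j, Topology.IsInducing (c.π.app j) := fun j =>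
    isInducing_π_of_isInducing D c hc (fun φ => (he _ _ φ).isInducing) j
  have hfin : (Set.range (connectedComponent : c.pt → Set c.pt)).Finite :=
    finite_range_connectedComponent_of_noetherianSpace
  have hcpt : CompactSpace (D.obj i₀) := TopologicalSpace.NoetherianSpace.compactSpace _
  let R := Set.range (connectedComponent : c.pt → Set c.pt)
  -- covering
  let C₀ : Set (D.obj i₀) := ⋃ C ∈ R, closure (c.π.app i₀ '' C)
  have hC₀ : IsClosed C₀ := hfin.isClosed_biUnion fun Y _ => isClosed_closure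
  have h0 : c.π.app i₀ ⁻¹' (Set.univ ∩ C₀ᶜ ∩ Set.univ) = ∅ := by
    rw [Set.eq_empty_iff_forall_notMem]
    rintro s ⟨⟨-, hs⟩, -⟩
    apply hs
    exact Set.mem_biUnion (⟨s, rfl⟩ : connectedComponent s ∈ R)
      (subset_closure ⟨s, mem_connectedComponent, rfl⟩)
  have e1 := exists_preimage_inter_eq_empty D c hc (k := i₀)
    (B := Set.univ) IsConstructible.univ C₀ᶜ hC₀.isOpen_compl
    (TopologicalSpace.NoetherianSpace.isCompact _) Set.univ isClosed_univ h0
  -- disjointness
  let F : Set (D.obj i₀) := ⋃ p ∈ {p : Set c.pt × Set c.pt | p.1 ∈ R ∧ p.2 ∈ R ∧ p.1 ≠ p.2},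
    closure (c.π.app i₀ '' p.1) ∩ closure (c.π.app i₀ '' p.2)
  have hFfin : {p : Set c.pt × Set c.pt | p.1 ∈ R ∧ p.2 ∈ R ∧ p.1 ≠ p.2}.Finite :=
    (hfin.prod hfin).subset (fun p hp => ⟨hp.1, hp.2.1⟩)
  have hF : IsClosed F := hFfin.isClosed_biUnion fun p _ => isClosed_closure.inter isClosed_closure
  have hclC : ∀ C ∈ R, c.π.app i₀ ⁻¹' closure (c.π.app i₀ '' C) = C := by
    rintro _ ⟨x, rfl⟩
    rw [← (hind i₀).closure_eq_preimage_closure_image]
    exact isClosed_connectedComponent.closure_eq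
  have h0' : c.π.app i₀ ⁻¹' (Set.univ ∩ Set.univ ∩ F) = ∅ := by
    rw [Set.eq_empty_iff_forall_notMem]
    rintro s ⟨-, hs⟩
    simp only [F, Set.mem_iUnion, exists_prop] at hs
    obtain ⟨⟨C, C'⟩, ⟨hC, hC', hne⟩, hs1, hs2⟩ := hs
    have hsC : s ∈ C := by rw [← hclC C hC]; exact hs1
    have hsC' : s ∈ C' := by rw [← hclC C' hC']; exact hs2
    obtain ⟨x, rfl⟩ := hC
    obtain ⟨x', rfl⟩ := hC'
    exact hne ((connectedComponent_eq hsC).trans (connectedComponent_eq hsC').symm)
  have e2 := exists_preimage_inter_eq_empty D c hc (k := i₀)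
    (B := Set.univ) IsConstructible.univ Set.univ isOpen_univ isCompact_univ F hF h0'
  obtain ⟨l, ψ, hl⟩ := eventually_and
    (P := fun l' ψ' => D.map ψ' ⁻¹' (Set.univ ∩ C₀ᶜ ∩ Set.univ) = ∅)
    (Q := fun l' ψ' => D.map ψ' ⁻¹' (Set.univ ∩ Set.univ ∩ F) = ∅) e1 e2
  refine ⟨l, ψ, fun j χ => ?_⟩
  obtain ⟨hl1, hl2⟩ := hl j χ
  have hindj : Topology.IsInducing (D.map (χ ≫ ψ)) := (he _ _ (χ ≫ ψ)).isInducing
  have himg : ∀ Y : Set c.pt, c.π.app i₀ '' Y = D.map (χ ≫ ψ) '' (c.π.app j '' Y) := by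
    intro Y
    rw [Set.image_image]
    congr 1
    ext s
    rw [← Scheme.Hom.comp_apply, Cone.w]
  have hclj : ∀ Y : Set c.pt, closure (c.π.app j '' Y) =
      D.map (χ ≫ ψ) ⁻¹' closure (c.π.app i₀ '' Y) := by
    intro Y
    rw [hindj.closure_eq_preimage_closure_image, ← himg]
  refine bijOn_connectedComponents_core (c.π.app j) (c.π.app j).continuous hfin ?_ ?_
  · intro y
    have hy : D.map (χ ≫ ψ) y ∈ C₀ := by
      by_contra hcon
      have : y ∈ D.map (χ ≫ ψ) ⁻¹' (Set.univ ∩ C₀ᶜ ∩ Set.univ) := ⟨⟨trivial, hcon⟩, trivial⟩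
      rw [hl1] at this
      exact this
    simp only [C₀, Set.mem_iUnion, exists_prop] at hy
    obtain ⟨C, hC, hyC⟩ := hy
    refine ⟨C, hC, ?_⟩
    rw [hclj]
    exact hyC
  · intro C hC C' hC' hne
    rw [Set.disjoint_left]
    intro y hy hy'
    rw [hclj] at hy hy'
    have : y ∈ D.map (χ ≫ ψ) ⁻¹' (Set.univ ∩ Set.univ ∩ F) := by
      refine ⟨⟨trivial, trivial⟩, ?_⟩
      simp only [F, Set.mem_iUnion, exists_prop]
      exact ⟨⟨C, C'⟩, ⟨hC, hC', hne⟩, hy, hy'⟩
    rw [hl2] at this
    exact this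

end Groth.Agent.Helper7.LimBC
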