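import Mathlib
universe u
open AlgebraicGeometry CategoryTheory CategoryTheory.Limits

namespace Groth.Agent.Helper7.StalkIso

theorem isIso_stalkMap_of_lift {X Y : Scheme.{u}} (f : X ⟶ Y) [Mono f] (x : X)
    (l : Spec (Y.presheaf.stalk (f x)) ⟶ X) (hl : l ≫ f = Y.fromSpecStalk (f x)) :
    IsIso (f.stalkMap x) := by
  have hinj : Function.Injective f := f.injective
  have hcl : l (IsLocalRing.closedPoint _) = x := by
    apply hinj
    have := congr($(hl) (IsLocalRing.closedPoint _))
    rw [Scheme.fromSpecStalk_closedPoint] at this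
    exact this
  have hsp : l (IsLocalRing.closedPoint _) ⤳ x := Specializes.of_eq hcl
  let τ : X.presheaf.stalk x ⟶ Y.presheaf.stalk (f x) :=
    X.presheaf.stalkSpecializes hsp ≫ Scheme.stalkClosedPointTo l
  have hτ : Spec.map τ ≫ X.fromSpecStalk x = l := by
    simp only [τ, Spec.map_comp, Category.assoc]
    rw [Scheme.SpecMap_stalkSpecializes_fromSpecStalk, Scheme.Spec_stalkClosedPointTo_fromSpecStalk]
  have hσ : Spec.map (f.stalkMap x) ≫ Y.fromSpecStalk (f x) = X.fromSpecStalk x ≫ f :=
    Scheme.SpecMap_stalkMap_fromSpecStalk (f := f)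
  have h1 : Spec.map (f.stalkMap x) ≫ l = X.fromSpecStalk x := by
    rw [← cancel_mono f, Category.assoc, hl, hσ]
  refine ⟨τ, ?_, ?_⟩
  · apply Spec.map_injective
    rw [← cancel_mono (Y.fromSpecStalk (f x)), Spec.map_comp, Category.assoc, hσ, reassoc_of% hτ, hl]
    simp
  · apply Spec.map_injective
    rw [← cancel_mono (X.fromSpecStalk x), Spec.map_comp, Category.assoc, hτ, h1]
    simp

end Groth.Agent.Helper7.StalkIso
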