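import Mathlib
import Groth.Agent.Lib.Helper7.LimBC
import Groth.Agent.Lib.Helper7.StalkIso
universe u
open AlgebraicGeometry CategoryTheory CategoryTheory.Limits

namespace Groth.Agent.Helper7.LimOI

open Groth.Agent.Helper7.LimBC

variable {I : Type u} [Category.{u} I] [IsCofiltered I] (D : I ⥤ Scheme.{u}) (c : Cone D)
  (hc : IsLimit c)

include hc in
theorem mono_π (hm : ∀ {i j : I} (φ : i ⟶ j), Mono (D.map φ)) (i : I) : Mono (c.π.app i) := by
  refine ⟨fun {T} a b hab => ?_⟩
  apply hc.hom_ext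
  intro j
  let k := IsCofiltered.min i j
  have h1 : a ≫ c.π.app k = b ≫ c.π.app k := by
    have := hm (IsCofiltered.minToLeft i j)
    rw [← cancel_mono (D.map (IsCofiltered.minToLeft i j)), Category.assoc, Category.assoc, Cone.w, hab]
  rw [← Cone.w c (IsCofiltered.minToRight i j), reassoc_of% h1]

set_option backward.isDefEq.respectTransparency false in
include hc in
theorem exists_lift (hoi : ∀ {i j : I} (φ : i ⟶ j), IsOpenImmersion (D.map φ)) (i : I)
    {T : Scheme.{u}} (g : T ⟶ D.obj i)
    (hg : ∀ (j : I) (φ : j ⟶ i), Set.range g ⊆ Set.range (D.map φ)) :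
    ∃ l : T ⟶ c.pt, l ≫ c.π.app i = g := by
  have hiso : ∀ j : Over i, IsIso (pullback.snd (D.map j.hom) g) := by
    intro j
    have := hoi j.hom
    have h1 : IsOpenImmersion (pullback.snd (D.map j.hom) g) := inferInstance
    have h2 : Function.Surjective (pullback.snd (D.map j.hom) g) := by
      rw [← Set.range_eq_univ, Scheme.Pullback.range_snd, Set.eq_univ_iff_forall]
      intro t
      exact hg j.left j.hom ⟨t, rfl⟩
    have : Surjective (pullback.snd (D.map j.hom) g) := ⟨h2⟩
    exact (isIso_iff_isOpenImmersion_and_surjective _).2 ⟨h1, this⟩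
  let t : Cone (pbDiagram D i g) :=
    { pt := T
      π :=
      { app := fun j => inv (pullback.snd (D.map j.hom) g)
        naturality := fun j k f => by
          have := hiso j
          have := hiso k
          simp only [Functor.const_obj_obj, Functor.const_obj_map, Category.id_comp]
          rw [IsIso.eq_inv_comp, ← cancel_mono (pullback.snd (D.map k.hom) g)]
          simp } }
  let l' : T ⟶ pullback (c.π.app i) g := (isLimitPbCone D c hc i g).lift t
  have hl' : l' ≫ pullback.snd _ _ = 𝟙 T := by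
    have h1 := (isLimitPbCone D c hc i g).fac t (Over.mk (𝟙 i))
    have := hiso (Over.mk (𝟙 i))
    have h2 : (pbCone D c i g).π.app (Over.mk (𝟙 i)) ≫ pullback.snd _ _ = pullback.snd _ _ := by
      simp
    rw [← h2, reassoc_of% h1]
    simp [t]
  refine ⟨l' ≫ pullback.fst _ _, ?_⟩
  rw [Category.assoc, pullback.condition, reassoc_of% hl']

include hc in
theorem isIso_stalkMap (hoi : ∀ {i j : I} (φ : i ⟶ j), IsOpenImmersion (D.map φ)) (i : I)
    (s : c.pt) : IsIso ((c.π.app i).stalkMap s) := by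
  have hm : Mono (c.π.app i) := mono_π D c hc (fun φ => by have := hoi φ; infer_instance) i
  obtain ⟨l, hl⟩ := exists_lift D c hc hoi i ((D.obj i).fromSpecStalk (c.π.app i s)) (by
    intro j φ
    rw [Scheme.range_fromSpecStalk]
    intro y (hy : y ⤳ _)
    have := hoi φ
    refine hy.mem_open (D.map φ).isOpenEmbedding.isOpen_range ⟨c.π.app j s, ?_⟩
    rw [← Scheme.Hom.comp_apply, Cone.w])
  exact StalkIso.isIso_stalkMap_of_lift _ s l hl

include hc in
theorem isInducing_π [∀ {i j} (f : i ⟶ j), IsAffineHom (D.map f)]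
    (hoi : ∀ {i j : I} (φ : i ⟶ j), IsOpenImmersion (D.map φ)) (i : I) :
    Topology.IsInducing (c.π.app i) := by
  have key : ∀ (U : c.pt.Opens) (x : c.pt), x ∈ U → ∃ V : (D.obj i).Opens,
      x ∈ c.π.app i ⁻¹ᵁ V ∧ c.π.app i ⁻¹ᵁ V ≤ U := by
    intro U x hx
    obtain ⟨_, ⟨j, W, hW, rfl⟩, hxW, hWU⟩ :=
      (TopologicalSpace.Opens.isBasis_iff_nbhd.mp (isBasis_preimage_isAffineOpen D c hc)) hx
    let k := IsCofiltered.min i j
    let a : k ⟶ i := IsCofiltered.minToLeft i j
    let b : k ⟶ j := IsCofiltered.minToRight i j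
    have := hoi a
    have heq : c.π.app i ⁻¹ᵁ ((D.map a) ''ᵁ (D.map b ⁻¹ᵁ W)) = c.π.app j ⁻¹ᵁ W := by
      ext y
      simp only [Scheme.Hom.coe_image, Set.mem_preimage, Set.mem_image, SetLike.mem_coe,
        Scheme.Hom.mem_preimage, TopologicalSpace.Opens.coe_mk, Scheme.Hom.coe_preimage]
      constructor
      · rintro ⟨z, hz, hzy⟩
        have h1 : c.π.app i y = D.map a (c.π.app k y) := by
          rw [← Scheme.Hom.comp_apply, Cone.w]
        rw [h1] at hzy
        have h2 := (D.map a).isOpenEmbedding.injective hzy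
        subst h2
        rwa [← Scheme.Hom.comp_apply, Cone.w] at hz
      · intro hy
        refine ⟨c.π.app k y, ?_, ?_⟩
        · rwa [← Scheme.Hom.comp_apply, Cone.w]
        · rw [← Scheme.Hom.comp_apply, Cone.w]
    exact ⟨(D.map a) ''ᵁ (D.map b ⁻¹ᵁ W), heq ▸ hxW, heq ▸ hWU⟩
  rw [Topology.isInducing_iff]
  apply le_antisymm
  · exact (c.π.app i).continuous.le_induced
  · intro U hU
    rw [isOpen_induced_iff]
    choose V hV1 hV2 using key ⟨U, hU⟩
    refine ⟨⋃ (x : c.pt) (hx : x ∈ U), (V x hx : Set (D.obj i)), ?_, ?_⟩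
    · exact isOpen_iUnion fun x => isOpen_iUnion fun hx => (V x hx).2
    · ext y
      simp only [Set.preimage_iUnion, Set.mem_iUnion, Set.mem_preimage, SetLike.mem_coe]
      constructor
      · rintro ⟨x, hx, hy⟩
        exact hV2 x hx hy
      · intro hy
        exact ⟨y, hy, hV1 y hy⟩

include hc in
theorem isEmbedding_π [∀ {i j} (f : i ⟶ j), IsAffineHom (D.map f)]
    (hoi : ∀ {i j : I} (φ : i ⟶ j), IsOpenImmersion (D.map φ)) (i : I) :
    Topology.IsEmbedding (c.π.app i) := by
  refine ⟨isInducing_π D c hc hoi i, ?_⟩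
  have hm : Mono (c.π.app i) := mono_π D c hc (fun φ => by have := hoi φ; infer_instance) i
  exact (c.π.app i).injective

end Groth.Agent.Helper7.LimOI
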