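import Mathlib
universe u
open AlgebraicGeometry CategoryTheory CategoryTheory.Limits TopologicalSpace

namespace Groth.Agent.Helper7.NonRed

/-- the vanishing locus of a germ is open -/
theorem isOpen_germ_eq_zero (X : Scheme.{u}) (U : X.Opens) (n : Γ(X, U)) :
    IsOpen {y : X | ∃ h : y ∈ U, X.presheaf.germ U y h n = 0} := by
  rw [isOpen_iff_forall_mem_open]
  rintro y ⟨hy, h0⟩
  have h1 : X.presheaf.germ U y hy n = X.presheaf.germ U y hy 0 := by rw [h0, map_zero]
  obtain ⟨W, hyW, iU, iV, he⟩ := TopCat.Presheaf.germ_eq X.presheaf y hy hy n 0 h1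
  refine ⟨W, ?_, W.2, hyW⟩
  intro z hz
  refine ⟨iU.le hz, ?_⟩
  rw [← TopCat.Presheaf.germ_res_apply X.presheaf iU z hz n, he, map_zero, map_zero]

theorem isReduced_stalk_of_germ_eq_zero (X : Scheme.{u}) {U : X.Opens} (hU : IsAffineOpen U)
    (T : Finset Γ(X, U)) (hT : Ideal.span (T : Set Γ(X, U)) = nilradical Γ(X, U))
    (y : X) (hy : y ∈ U) (h0 : ∀ n ∈ T, X.presheaf.germ U y hy n = 0) :
    _root_.IsReduced (X.presheaf.stalk y) := by
  let _ : Algebra Γ(X, U) (X.presheaf.stalk y) :=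
    TopCat.Presheaf.algebra_section_stalk X.presheaf ⟨y, hy⟩
  have hloc : IsLocalization.AtPrime (X.presheaf.stalk y) (hU.primeIdealOf ⟨y, hy⟩).asIdeal :=
    hU.isLocalization_stalk ⟨y, hy⟩
  have halg : ∀ r, algebraMap Γ(X, U) (X.presheaf.stalk y) r = X.presheaf.germ U y hy r :=
    fun r => rfl
  have hker : ∀ n ∈ nilradical Γ(X, U), X.presheaf.germ U y hy n = 0 := by
    intro n hn
    rw [← hT] at hn
    induction hn using Submodule.span_induction with
    | mem x hx => exact h0 x hx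
    | zero => simp
    | add a b _ _ ha hb => rw [map_add, ha, hb, add_zero]
    | smul a b _ hb => rw [smul_eq_mul, map_mul, hb, mul_zero]
  rw [isReduced_iff]
  rintro a ⟨m, hm⟩
  obtain ⟨⟨b, s⟩, hb⟩ := IsLocalization.surj (hU.primeIdealOf ⟨y, hy⟩).asIdeal.primeCompl a
  simp only [halg] at hb
  have hs : IsUnit (X.presheaf.germ U y hy s.1) :=
    IsLocalization.map_units (M := (hU.primeIdealOf ⟨y, hy⟩).asIdeal.primeCompl)
      (X.presheaf.stalk y) s
  have h1 : X.presheaf.germ U y hy (b ^ m) = 0 := by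
    rw [map_pow, ← hb, mul_pow, hm, zero_mul]
  have h2 := (IsLocalization.map_eq_zero_iff (hU.primeIdealOf ⟨y, hy⟩).asIdeal.primeCompl
    (X.presheaf.stalk y) (b ^ m)).1 h1
  obtain ⟨t, ht⟩ := h2
  have h3 : (t.1 * b) ∈ nilradical Γ(X, U) := by
    rw [mem_nilradical]
    cases m with
    | zero =>
      simp only [pow_zero, mul_one] at ht
      exact ⟨1, by rw [ht, zero_mul, pow_one]⟩
    | succ m =>
      exact ⟨m + 1, by rw [mul_pow, pow_succ t.1, mul_assoc, ht, mul_zero]⟩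
  have h4 := hker _ h3
  rw [map_mul] at h4
  have ht' : IsUnit (X.presheaf.germ U y hy t.1) :=
    IsLocalization.map_units (M := (hU.primeIdealOf ⟨y, hy⟩).asIdeal.primeCompl)
      (X.presheaf.stalk y) t
  have h5 : X.presheaf.germ U y hy b = 0 := (ht'.mul_right_eq_zero).1 h4
  rw [h5] at hb
  exact (hs.mul_left_eq_zero).1 hb

theorem isClosed_nonreduced_locus (X : Scheme.{u})
    (hN : ∀ U : X.affineOpens, (nilradical Γ(X, U)).FG) :
    IsClosed {x : X | ¬ _root_.IsReduced (X.presheaf.stalk x)} := by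
  rw [← isOpen_compl_iff, isOpen_iff_forall_mem_open]
  intro x hx
  simp only [Set.mem_compl_iff, Set.mem_ofPred_eq, not_not] at hx
  obtain ⟨_, ⟨U, hU, rfl⟩, hxU, -⟩ :=
    X.isBasis_affineOpens.exists_subset_of_mem_open (Set.mem_univ x) isOpen_univ
  obtain ⟨T, hT⟩ := hN ⟨U, hU⟩
  refine ⟨(U : Set X) ∩ ⋂ n ∈ T, {y : X | ∃ h : y ∈ U, X.presheaf.germ U y h n = 0}, ?_, ?_, ?_⟩
  · rintro y ⟨hyU, hy⟩
    simp only [Set.mem_iInter, Set.mem_ofPred_eq] at hy
    simp only [Set.mem_compl_iff, Set.mem_ofPred_eq, not_not]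
    exact isReduced_stalk_of_germ_eq_zero X hU T hT y hyU (fun n hn => (hy n hn).2)
  · exact U.2.inter (isOpen_biInter_finset fun n _ => isOpen_germ_eq_zero X U n)
  · refine ⟨hxU, ?_⟩
    simp only [Set.mem_iInter, Set.mem_ofPred_eq]
    intro n hn
    refine ⟨hxU, ?_⟩
    have : IsNilpotent (X.presheaf.germ U x hxU n) := by
      have h1 : n ∈ nilradical Γ(X, U) := by
        rw [← hT]; exact Ideal.subset_span hn
      obtain ⟨m, hm⟩ := h1
      exact ⟨m, by rw [← map_pow, hm, map_zero]⟩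
    exact this.eq_zero

end Groth.Agent.Helper7.NonRed
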