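import Mathlib
import Groth.Agent.Lib.Helper7.LimOI
import Groth.Agent.Lib.Helper7.NonRed
import Groth.Agent.Lib.Helper7.LimCons
import Groth.Agent.Lib.Helper7.LimRed
universe u
open AlgebraicGeometry CategoryTheory CategoryTheory.Limits

namespace Groth.Agent.Helper7.LimOI

open Groth.Agent.Helper7.LimBC

variable {I : Type u} [Category.{u} I] [IsCofiltered I] (D : I ⥤ Scheme.{u}) (c : Cone D)
  (hc : IsLimit c)

theorem isReduced_stalk_of_isIso {X Y : Scheme.{u}} (f : X ⟶ Y) (x : X) [IsIso (f.stalkMap x)] :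
    _root_.IsReduced (X.presheaf.stalk x) ↔ _root_.IsReduced (Y.presheaf.stalk (f x)) := by
  constructor
  · intro h
    exact isReduced_of_injective (f.stalkMap x).hom
      (ConcreteCategory.bijective_of_isIso (f.stalkMap x)).injective
  · intro h
    exact isReduced_of_injective (inv (f.stalkMap x)).hom
      (ConcreteCategory.bijective_of_isIso (inv (f.stalkMap x))).injective

include hc in
theorem exists_forall_isReduced [∀ {i j} (f : i ⟶ j), IsAffineHom (D.map f)]
    (hoi : ∀ {i j : I} (φ : i ⟶ j), IsOpenImmersion (D.map φ)) (i₀ : I)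
    [CompactSpace (D.obj i₀)] (hN : ∀ U : (D.obj i₀).affineOpens, (nilradical Γ(D.obj i₀, U)).FG)
    (h : IsReduced c.pt) :
    ∃ (i : I) (_ : i ⟶ i₀), ∀ (j : I) (_ : j ⟶ i), IsReduced (D.obj j) := by
  let Z : Set (D.obj i₀) := {x | ¬ _root_.IsReduced ((D.obj i₀).presheaf.stalk x)}
  have hZ : IsClosed Z := NonRed.isClosed_nonreduced_locus _ hN
  have hZ0 : c.π.app i₀ ⁻¹' (Set.univ ∩ Set.univ ∩ Z) = ∅ := by
    rw [Set.eq_empty_iff_forall_notMem]
    rintro s ⟨-, hs⟩
    have := isIso_stalkMap D c hc hoi i₀ s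
    apply hs
    rw [← isReduced_stalk_of_isIso (c.π.app i₀) s]
    exact inferInstanceAs (_root_.IsReduced (c.pt.presheaf.stalk s))
  obtain ⟨l, ψ, hl⟩ := LimBC.exists_preimage_inter_eq_empty D c hc (k := i₀)
    (B := Set.univ) Topology.IsConstructible.univ Set.univ isOpen_univ isCompact_univ Z hZ hZ0
  refine ⟨l, ψ, fun j χ => ?_⟩
  have hj := hl j χ
  have := hoi (χ ≫ ψ)
  have hst : ∀ y : D.obj j, _root_.IsReduced ((D.obj j).presheaf.stalk y) := by
    intro y
    rw [isReduced_stalk_of_isIso (D.map (χ ≫ ψ)) y]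
    by_contra hcon
    have : y ∈ D.map (χ ≫ ψ) ⁻¹' (Set.univ ∩ Set.univ ∩ Z) := ⟨⟨trivial, trivial⟩, hcon⟩
    rw [hj] at this
    exact this
  exact isReduced_of_isReduced_stalk _

include hc in
theorem mem_range_π_of_specializes [∀ {i j} (f : i ⟶ j), IsAffineHom (D.map f)]
    (hoi : ∀ {i j : I} (φ : i ⟶ j), IsOpenImmersion (D.map φ)) (i : I) (s : c.pt)
    (y : D.obj i) (hy : y ⤳ c.π.app i s) : y ∈ Set.range (c.π.app i) := by
  rw [range_π_eq_iInter D c hc i]
  simp only [Set.mem_iInter]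
  intro j φ
  have := hoi φ
  refine hy.mem_open (D.map φ).isOpenEmbedding.isOpen_range ⟨c.π.app j s, ?_⟩
  rw [← Scheme.Hom.comp_apply, Cone.w]

include hc in
theorem exists_forall_irreducibleSpace [∀ {i j} (f : i ⟶ j), IsAffineHom (D.map f)]
    (hoi : ∀ {i j : I} (φ : i ⟶ j), IsOpenImmersion (D.map φ)) (i₀ : I)
    [TopologicalSpace.NoetherianSpace (D.obj i₀)]
    (h : IrreducibleSpace c.pt) :
    ∃ (i : I) (_ : i ⟶ i₀), ∀ (j : I) (_ : j ⟶ i), IrreducibleSpace (D.obj j) := by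
  have hcpt : CompactSpace (D.obj i₀) := TopologicalSpace.NoetherianSpace.compactSpace _
  have hirr : IsIrreducible (Set.range (c.π.app i₀)) := by
    rw [← Set.image_univ]
    exact (IrreducibleSpace.isIrreducible_univ c.pt).image _ (c.π.app i₀).continuous.continuousOn
  obtain ⟨Z₁, hZ₁, hsub⟩ := exists_mem_irreducibleComponents_subset_of_isIrreducible _ hirr
  have hfin : (irreducibleComponents (D.obj i₀)).Finite :=
    TopologicalSpace.NoetherianSpace.finite_irreducibleComponents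
  let F : Set (D.obj i₀) := ⋃₀ (irreducibleComponents (D.obj i₀) \ {Z₁})
  have hF : IsClosed F := by
    show IsClosed (⋃₀ (irreducibleComponents (D.obj i₀) \ {Z₁}))
    rw [Set.sUnion_eq_biUnion]
    exact hfin.sdiff.isClosed_biUnion fun W hW ↦ isClosed_of_mem_irreducibleComponents W hW.1
  have hFZ : Fᶜ ⊆ Z₁ := by
    intro x hx
    have h1 : x ∈ ⋃₀ irreducibleComponents (D.obj i₀) := by
      rw [sUnion_irreducibleComponents]; trivial
    obtain ⟨W, hW, hxW⟩ := h1
    by_cases hWZ : W = Z₁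
    · exact hWZ ▸ hxW
    · exact absurd ⟨W, ⟨hW, hWZ⟩, hxW⟩ hx
  have hF0 : c.π.app i₀ ⁻¹' (Set.univ ∩ Set.univ ∩ F) = ∅ := by
    rw [Set.eq_empty_iff_forall_notMem]
    rintro s ⟨-, W, ⟨hW, hWZ⟩, hsW⟩
    apply hWZ
    have hWirr : IsIrreducible W := hW.1
    have hWcl : IsClosed W := isClosed_of_mem_irreducibleComponents W hW
    have hgen := hWirr.isGenericPoint_genericPoint hWcl
    have hspec : hWirr.genericPoint ⤳ c.π.app i₀ s :=
      (isGenericPoint_iff_specializes.1 hgen _).2 hsW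
    have hmem := mem_range_π_of_specializes D c hc hoi i₀ s _ hspec
    have hWZ₁ : W ⊆ Z₁ := by
      rw [← hgen.def]
      exact (isClosed_of_mem_irreducibleComponents Z₁ hZ₁).closure_subset_iff.2
        (Set.singleton_subset_iff.2 (hsub hmem))
    exact Set.Subset.antisymm hWZ₁ (hW.2 hZ₁.1 hWZ₁)
  obtain ⟨l, ψ, hl⟩ := LimBC.exists_preimage_inter_eq_empty D c hc (k := i₀)
    (B := Set.univ) Topology.IsConstructible.univ Set.univ isOpen_univ isCompact_univ F hF hF0
  refine ⟨l, ψ, fun j χ => ?_⟩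
  have hj := hl j χ
  have := hoi (χ ≫ ψ)
  have hrange : Set.range (D.map (χ ≫ ψ)) ⊆ Z₁ := by
    rintro _ ⟨y, rfl⟩
    apply hFZ
    intro hy
    have : y ∈ D.map (χ ≫ ψ) ⁻¹' (Set.univ ∩ Set.univ ∩ F) := ⟨⟨trivial, trivial⟩, hy⟩
    rw [hj] at this
    exact this
  have h1 : IsPreirreducible (Set.range (D.map (χ ≫ ψ))) :=
    hZ₁.1.isPreirreducible.open_subset (D.map (χ ≫ ψ)).isOpenEmbedding.isOpen_range hrange
  have h2 := h1.preimage (D.map (χ ≫ ψ)).isOpenEmbedding
  rw [Set.preimage_range] at h2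
  exact { toPreirreducibleSpace := ⟨h2⟩, toNonempty := ⟨c.π.app j h.toNonempty.some⟩ }

end Groth.Agent.Helper7.LimOI
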