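import Groth.Prelude.Def_LinTop
import Mathlib.Topology.Algebra.InfiniteSum.Nonarchimedean
import Mathlib.Topology.Algebra.InfiniteSum.Ring
import Mathlib.Topology.Algebra.InfiniteSum.NatInt
import Mathlib.RingTheory.AdicCompletion.Basic
import Mathlib.RingTheory.Finiteness.Ideal

set_option autoImplicit false
universe u

namespace Groth.Agent.Helper7.LinTopAdic

open Filter Topology

theorem nonarch_of_linear (A : Type u) [CommRing A] [TopologicalSpace A] [IsTopologicalRing A]
    [IsLinearTopology A A] : NonarchimedeanAddGroup A where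
  is_nonarchimedean := by
    intro U hU
    obtain ⟨K, hK, hKU⟩ := (IsLinearTopology.hasBasis_open_ideal (R := A)).mem_iff.mp hU
    exact ⟨⟨K.toAddSubgroup, hK⟩, hKU⟩

theorem tendsto_zero_of_mem_pow (A : Type u) [CommRing A] [TopologicalSpace A]
    (J : Ideal A) (hJ : LinTop.IsIdealOfDefinition A J) (d : ℕ → A) (hd : ∀ m, d m ∈ J ^ m) :
    Tendsto d atTop (𝓝 0) := by
  rw [tendsto_def]
  intro U hU
  obtain ⟨N, -, hN⟩ := hJ.2 U hU
  rw [Filter.mem_atTop_sets]
  refine ⟨N, fun m hm => ?_⟩
  exact hN (Ideal.pow_le_pow_right hm (hd m))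

theorem exists_repr_of_mem_mul {A : Type u} [CommRing A] {k : ℕ} (g : Fin k → A)
    (N : Ideal A) (x : A) (hx : x ∈ Ideal.span (Set.range g) * N) :
    ∃ a : Fin k → A, (∀ j, a j ∈ N) ∧ x = ∑ j, g j * a j := by
  refine Submodule.mul_induction_on hx ?_ ?_
  · intro r hr n hn
    obtain ⟨c, rfl⟩ := (Ideal.mem_span_range_iff_exists_fun).mp hr
    refine ⟨fun j => c j * n, fun j => N.mul_mem_left _ hn, ?_⟩
    rw [Finset.sum_mul]
    refine Finset.sum_congr rfl fun j _ => ?_
    ring
  · rintro x y ⟨a, ha, rfl⟩ ⟨b, hb, rfl⟩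
    refine ⟨fun j => a j + b j, fun j => N.add_mem (ha j) (hb j), ?_⟩
    rw [← Finset.sum_add_distrib]
    refine Finset.sum_congr rfl fun j _ => ?_
    ring

theorem mem_pow_of_hasSum (A : Type u) [CommRing A] [UniformSpace A] [IsUniformAddGroup A]
    [IsTopologicalRing A] [T2Space A] [CompleteSpace A] [NonarchimedeanAddGroup A]
    (J : Ideal A) (hJ : LinTop.IsIdealOfDefinition A J) {k : ℕ} (g : Fin k → A)
    (hIJ : Ideal.span (Set.range g) ≤ J) :
    ∀ (n : ℕ) (d : ℕ → A), (∀ m, d m ∈ Ideal.span (Set.range g) ^ (n + m)) → ∀ L, HasSum d L →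
      L ∈ Ideal.span (Set.range g) ^ n := by
  intro n
  induction n with
  | zero => intro d _ L _; simp
  | succ n ih =>
    intro d hd L hL
    have hd' : ∀ m, ∃ a : Fin k → A, (∀ j, a j ∈ Ideal.span (Set.range g) ^ (n + m)) ∧
        d m = ∑ j, g j * a j := by
      intro m
      apply exists_repr_of_mem_mul
      have := hd m
      rwa [show n + 1 + m = (n + m) + 1 by ring, pow_succ'] at this
    choose a ha hda using hd'
    have hsum : ∀ j, Summable (fun m => a m j) := by
      intro j
      apply NonarchimedeanAddGroup.summable_of_tendsto_cofinite_zero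
      rw [Nat.cofinite_eq_atTop]
      apply tendsto_zero_of_mem_pow A J hJ
      intro m
      exact Ideal.pow_le_pow_right (Nat.le_add_left m n) (Ideal.pow_right_mono hIJ _ (ha m j))
    have hL' : HasSum d (∑ j, g j * ∑' m, a m j) := by
      have : d = fun m => ∑ j, g j * a m j := funext hda
      rw [this]
      apply hasSum_sum
      intro j _
      exact (hsum j).hasSum.mul_left (g j)
    rw [hL.unique hL', pow_succ']
    refine Submodule.sum_mem _ fun j _ => ?_
    refine Ideal.mul_mem_mul (Ideal.subset_span ⟨j, rfl⟩) ?_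
    exact ih (fun m => a m j) (fun m => ha m j) _ (hsum j).hasSum

theorem isAdicComplete_of_fg
    (A : Type u) [CommRing A] [UniformSpace A] [IsUniformAddGroup A] [IsTopologicalRing A]
    (hA : LinTop.IsAdmissible A) (J : Ideal A) (hJ : LinTop.IsIdealOfDefinition A J)
    (I : Ideal A) (hI : I.FG) (hIJ : I ≤ J) :
    IsAdicComplete I A := by
  obtain ⟨⟨hlin, -⟩, hT2, hC⟩ := hA
  have := hlin
  have := hT2
  have := hC
  have : NonarchimedeanAddGroup A := nonarch_of_linear A
  obtain ⟨k, g, rfl⟩ := Submodule.fg_iff_exists_fin_generating_family.mp hI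
  have hpow : ∀ n : ℕ, (Ideal.span (Set.range g) ^ n • ⊤ : Submodule A A) = Ideal.span (Set.range g) ^ n := by
    intro n
    rw [smul_eq_mul, Ideal.mul_top]
  have h1 : IsHausdorff (Ideal.span (Set.range g)) A := by
    refine ⟨fun x hx => ?_⟩
    by_contra hne
    have hU : ({x}ᶜ : Set A) ∈ 𝓝 (0 : A) := isOpen_compl_singleton.mem_nhds (by simpa using Ne.symm hne)
    obtain ⟨N, -, hN⟩ := hJ.2 _ hU
    have h2 := hx N
    rw [hpow, SModEq.sub_mem, sub_zero] at h2
    exact hN (Ideal.pow_right_mono hIJ N h2) rfl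
  have h2 : IsPrecomplete (Ideal.span (Set.range g)) A := by
    refine ⟨fun f hf => ?_⟩
    have hd : ∀ m, f (m + 1) - f m ∈ Ideal.span (Set.range g) ^ m := by
      intro m
      have := (hf (Nat.le_succ m)).symm
      rwa [hpow, SModEq.sub_mem] at this
    have hsum : Summable (fun m => f (m + 1) - f m) := by
      apply NonarchimedeanAddGroup.summable_of_tendsto_cofinite_zero
      rw [Nat.cofinite_eq_atTop]
      apply tendsto_zero_of_mem_pow A J hJ
      intro m
      exact Ideal.pow_right_mono hIJ m (hd m)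
    refine ⟨f 0 + ∑' m, (f (m + 1) - f m), fun n => ?_⟩
    rw [hpow, SModEq.comm, SModEq.sub_mem]
    have hs := (hasSum_nat_add_iff' (f := fun m => f (m + 1) - f m) n).mpr hsum.hasSum
    rw [Finset.sum_range_sub] at hs
    have := mem_pow_of_hasSum A J hJ g hIJ n _ (fun m => ?_) _ hs
    · convert this using 1
      ring
    · have := hd (m + n)
      rwa [show (m + n : ℕ) = n + m from add_comm m n] at this ⊢
  exact ⟨⟩

end Groth.Agent.Helper7.LinTopAdic
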