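import Mathlib
import Groth.Prelude.Def_EGA4b
import Groth.Prelude.Def_Found
import Groth.Agent.S12445
import Groth.Agent.S12446
import Groth.Agent.S9124
import Groth.Agent.S9126

set_option autoImplicit false
set_option linter.style.haveILetI false
set_option linter.unusedSectionVars false

namespace Groth.Agent.Helper7.LocFT

open CategoryTheory AlgebraicGeometry TopologicalSpace

universe u

/-- A finite type algebra over a localization `B = M⁻¹A` is a localization of a finite type
`A`-subalgebra. -/
theorem exists_finiteType_subalgebra_isLocalization (A B C : Type u) [CommRing A] [CommRing B]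
    [CommRing C] [Algebra A B] (M : Submonoid A) [IsLocalization M B] [Algebra B C] [Algebra A C]
    [IsScalarTower A B C] (hft : Algebra.FiniteType B C) :
    ∃ C₀ : Subalgebra A C, Algebra.FiniteType A C₀ ∧
      IsLocalization (Algebra.algebraMapSubmonoid C₀ M) C := by
  classical
  obtain ⟨s, hs⟩ := hft.out
  let C₀ : Subalgebra A C := Algebra.adjoin A (s : Set C)
  have hft₀ : Algebra.FiniteType A C₀ :=
    (Subalgebra.fg_iff_finiteType C₀).mp (Subalgebra.fg_adjoin_finset s)
  have hunit : ∀ m ∈ M, IsUnit (algebraMap A C m) := by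
    intro m hm
    rw [IsScalarTower.algebraMap_apply A B C]
    exact (IsLocalization.map_units B ⟨m, hm⟩).map _
  have hclear : ∀ c : C, ∃ m ∈ M, algebraMap A C m * c ∈ C₀ := by
    intro c
    have hc : c ∈ Algebra.adjoin B (s : Set C) := by rw [hs]; trivial
    induction hc using Algebra.adjoin_induction with
    | mem x hx => exact ⟨1, M.one_mem, by rw [map_one, one_mul]; exact Algebra.subset_adjoin hx⟩
    | algebraMap b =>
      obtain ⟨a, m, rfl⟩ := IsLocalization.exists_mk'_eq M b
      refine ⟨m.1, m.2, ?_⟩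
      have : algebraMap A C m.1 * algebraMap B C (IsLocalization.mk' _ a m) =
          algebraMap A C a := by
        rw [IsScalarTower.algebraMap_apply A B C,
          IsScalarTower.algebraMap_apply A B C, ← map_mul, mul_comm,
          IsLocalization.mk'_spec]
      rw [this]
      exact C₀.algebraMap_mem a
    | add x y _ _ hx hy =>
      obtain ⟨m, hm, hmx⟩ := hx
      obtain ⟨n, hn, hny⟩ := hy
      refine ⟨m * n, M.mul_mem hm hn, ?_⟩
      have : algebraMap A C (m * n) * (x + y) =
          algebraMap A C n * (algebraMap A C m * x) + algebraMap A C m * (algebraMap A C n * y) := by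
        rw [map_mul]; ring
      rw [this]
      exact C₀.add_mem (C₀.mul_mem (C₀.algebraMap_mem n) hmx) (C₀.mul_mem (C₀.algebraMap_mem m) hny)
    | mul x y _ _ hx hy =>
      obtain ⟨m, hm, hmx⟩ := hx
      obtain ⟨n, hn, hny⟩ := hy
      refine ⟨m * n, M.mul_mem hm hn, ?_⟩
      have : algebraMap A C (m * n) * (x * y) =
          (algebraMap A C m * x) * (algebraMap A C n * y) := by
        rw [map_mul]; ring
      rw [this]
      exact C₀.mul_mem hmx hny
  refine ⟨C₀, hft₀, ⟨?_, ?_, ?_⟩⟩
  · rintro ⟨_, ⟨m, hm, rfl⟩⟩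
    exact hunit m hm
  · intro c
    obtain ⟨m, hm, hmc⟩ := hclear c
    refine ⟨(⟨algebraMap A C m * c, hmc⟩, ⟨algebraMap A C₀ m, ⟨m, hm, rfl⟩⟩), ?_⟩
    show c * algebraMap A C m = algebraMap A C m * c
    rw [mul_comm]
  · intro x y hxy
    refine ⟨1, ?_⟩
    rw [Submonoid.coe_one, one_mul, one_mul]
    exact Subtype.ext hxy

theorem isCatenary_of_ringEquiv {R S : Type u} [CommRing R] [CommRing S] (e : R ≃+* S)
    (hR : CAlg.IsCatenary R) : CAlg.IsCatenary S := by
  letI : Algebra R S := e.toRingHom.toAlgebra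
  haveI : IsLocalization (⊥ : Submonoid R) R := IsLocalization.self bot_le
  haveI : IsLocalization (⊥ : Submonoid R) S :=
    IsLocalization.isLocalization_of_algEquiv ⊥
      (AlgEquiv.ofBijective (Algebra.ofId R S) e.bijective)
  exact Groth.Agent.S9124.result R ⊥ S hR

theorem isCatenary_of_isUniversallyCatenary {R : Type u} [CommRing R]
    (h : CAlg.IsUniversallyCatenary R) : CAlg.IsCatenary R :=
  h.2 R inferInstance

theorem s12459 (S : Scheme.{u}) [IsLocallyNoetherian S] :
    (∀ (X : Scheme.{u}) (f : X ⟶ S), LocallyOfFiniteType f → PtTop.IsCatenarySpace X) ↔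
      ∀ s : S, CAlg.IsUniversallyCatenary (S.presheaf.stalk s) := by
  constructor
  · intro h s
    refine ⟨inferInstance, ?_⟩
    intro C _ _ hft
    obtain ⟨U, hU, hsU, -⟩ := exists_isAffineOpen_mem_and_subset (x := s) (U := ⊤) trivial
    letI := S.presheaf.algebra_section_stalk ⟨s, hsU⟩
    haveI := hU.isLocalization_stalk ⟨s, hsU⟩
    letI : Algebra Γ(S, U) C :=
      ((algebraMap (S.presheaf.stalk s) C).comp (algebraMap Γ(S, U) (S.presheaf.stalk s))).toAlgebra
    haveI : IsScalarTower Γ(S, U) (S.presheaf.stalk s) C := .of_algebraMap_eq (fun _ => rfl)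
    obtain ⟨C₀, hft₀, hloc⟩ := exists_finiteType_subalgebra_isLocalization Γ(S, U)
      (S.presheaf.stalk s) C (hU.primeIdealOf ⟨s, hsU⟩).asIdeal.primeCompl hft
    let g : Spec (CommRingCat.of C₀) ⟶ S :=
      Spec.map (CommRingCat.ofHom (algebraMap Γ(S, U) C₀)) ≫ hU.fromSpec
    haveI : LocallyOfFiniteType (Spec.map (CommRingCat.ofHom (algebraMap Γ(S, U) C₀))) := by
      rw [HasRingHomProperty.Spec_iff (P := @LocallyOfFiniteType)]
      exact RingHom.finiteType_algebraMap.mpr hft₀
    have hg : LocallyOfFiniteType g := inferInstance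
    have hcat := h _ g hg
    have h1 := ((Groth.Agent.S12445.result (Spec (CommRingCat.of C₀))).1.mp hcat)
      ⟨⊤, isAffineOpen_top _⟩
    have h2 : CAlg.IsCatenary C₀ :=
      isCatenary_of_ringEquiv (Scheme.ΓSpecIso (CommRingCat.of C₀)).commRingCatIsoToRingEquiv h1
    haveI := hloc
    exact Groth.Agent.S9124.result C₀
      (Algebra.algebraMapSubmonoid C₀ (hU.primeIdealOf ⟨s, hsU⟩).asIdeal.primeCompl) C h2
  · intro h X f hf
    rw [Groth.Agent.S12446.result]
    intro x
    letI := (f.stalkMap x).hom.toAlgebra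
    haveI : Algebra.EssFiniteType (S.presheaf.stalk (f x)) (X.presheaf.stalk x) :=
      LocallyOfFiniteType.stalkMap f x
    exact isCatenary_of_isUniversallyCatenary
      (Groth.Agent.S9126.result (S.presheaf.stalk (f x)) (X.presheaf.stalk x) (h (f x)))

end Groth.Agent.Helper7.LocFT
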