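import Mathlib
import Groth.Prelude.Def_EGA4b
import Groth.Prelude.Def_Found
import Groth.Agent.Lib.Helper7.LocFT

/-! # J-2 schemes (helper7) -/

set_option autoImplicit false
set_option linter.style.haveILetI false
set_option linter.unusedSectionVars false

namespace Groth.Agent.Helper7.LocFT

open CategoryTheory AlgebraicGeometry TopologicalSpace

universe u

theorem isRegularLocalRing_stalk_iff {Y : Scheme.{u}} {V : Y.Opens} (hV : IsAffineOpen V)
    (y : Y) (hy : y ∈ V) :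
    IsRegularLocalRing (Y.presheaf.stalk y) ↔
      hV.primeIdealOf ⟨y, hy⟩ ∈ EGA4.regLocus Γ(Y, V) := by
  letI := Y.presheaf.algebra_section_stalk ⟨y, hy⟩
  haveI := hV.isLocalization_stalk ⟨y, hy⟩
  let e : Localization.AtPrime (hV.primeIdealOf ⟨y, hy⟩).asIdeal ≃ₐ[Γ(Y, V)]
      Y.presheaf.stalk y :=
    IsLocalization.algEquiv (hV.primeIdealOf ⟨y, hy⟩).asIdeal.primeCompl _ _
  show _ ↔ IsRegularLocalRing (Localization.AtPrime (hV.primeIdealOf ⟨y, hy⟩).asIdeal)
  constructor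
  · intro h
    exact IsRegularLocalRing.of_ringEquiv e.symm.toRingEquiv
  · intro h
    exact IsRegularLocalRing.of_ringEquiv e.toRingEquiv

theorem isOpen_regular_inter {Y : Scheme.{u}} {V : Y.Opens} (hV : IsAffineOpen V)
    (hJ : IsOpen (EGA4.regLocus Γ(Y, V))) :
    IsOpen ({y : Y | IsRegularLocalRing (Y.presheaf.stalk y)} ∩ (V : Set Y)) := by
  have hcont : Continuous (fun y' : V => hV.primeIdealOf y') := hV.isoSpec.hom.continuous
  have hopenV : IsOpen ((fun y' : V => hV.primeIdealOf y') ⁻¹' EGA4.regLocus Γ(Y, V)) :=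
    hJ.preimage hcont
  have h2 := V.isOpen.isOpenMap_subtype_val _ hopenV
  convert h2 using 1
  ext y
  constructor
  · rintro ⟨hy1, hy2⟩
    exact ⟨⟨y, hy2⟩, (isRegularLocalRing_stalk_iff hV y hy2).mp hy1, rfl⟩
  · rintro ⟨⟨y', hy'⟩, h1, rfl⟩
    exact ⟨(isRegularLocalRing_stalk_iff hV y' hy').mpr h1, hy'⟩

theorem isOpen_regLocus_of_spec (C : Type u) [CommRing C]
    (h : IsOpen {y : Spec (CommRingCat.of C) |
      IsRegularLocalRing ((Spec (CommRingCat.of C)).presheaf.stalk y)}) :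
    IsOpen (EGA4.regLocus C) := by
  have heq : EGA4.regLocus C = {y : Spec (CommRingCat.of C) |
      IsRegularLocalRing ((Spec (CommRingCat.of C)).presheaf.stalk y)} := by
    apply Set.ext
    intro p
    let e := StructureSheaf.stalkIso C p
    show IsRegularLocalRing (Localization.AtPrime p.asIdeal) ↔
      IsRegularLocalRing ((Spec (CommRingCat.of C)).presheaf.stalk p)
    constructor
    · intro h
      exact IsRegularLocalRing.of_ringEquiv e.toRingEquiv
    · intro h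
      haveI : IsRegularLocalRing ((structurePresheafInCommRingCat C).stalk p) := h
      exact IsRegularLocalRing.of_ringEquiv e.symm.toRingEquiv
  rw [heq]
  exact h

theorem s12460 (X : Scheme.{u}) [IsLocallyNoetherian X] :
    ((∀ (Y : Scheme.{u}) (g : Y ⟶ X), LocallyOfFiniteType g →
        IsOpen {y : Y | IsRegularLocalRing (Y.presheaf.stalk y)}) ↔
      ∀ U : X.affineOpens, EGA4.IsJ2 Γ(X, U)) ∧
    ((∀ (Y : Scheme.{u}) (g : Y ⟶ X), LocallyOfFiniteType g →
        IsOpen {y : Y | IsRegularLocalRing (Y.presheaf.stalk y)}) ↔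
      ∀ x : X, ∃ U : X.affineOpens, x ∈ (U : X.Opens) ∧ EGA4.IsJ2 Γ(X, U)) := by
  have h13 : (∀ (Y : Scheme.{u}) (g : Y ⟶ X), LocallyOfFiniteType g →
        IsOpen {y : Y | IsRegularLocalRing (Y.presheaf.stalk y)}) →
      ∀ U : X.affineOpens, EGA4.IsJ2 Γ(X, U) := by
    intro h U C _ _ hft
    let g : Spec (CommRingCat.of C) ⟶ X :=
      Spec.map (CommRingCat.ofHom (algebraMap Γ(X, U) C)) ≫ U.2.fromSpec
    haveI : LocallyOfFiniteType (Spec.map (CommRingCat.ofHom (algebraMap Γ(X, U) C))) := by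
      rw [HasRingHomProperty.Spec_iff (P := @LocallyOfFiniteType)]
      exact RingHom.finiteType_algebraMap.mpr hft
    have hg : LocallyOfFiniteType g := inferInstance
    exact isOpen_regLocus_of_spec C (h _ g hg)
  have h34 : (∀ U : X.affineOpens, EGA4.IsJ2 Γ(X, U)) →
      ∀ x : X, ∃ U : X.affineOpens, x ∈ (U : X.Opens) ∧ EGA4.IsJ2 Γ(X, U) := by
    intro h x
    obtain ⟨W, hW, hxW, -⟩ := exists_isAffineOpen_mem_and_subset (x := x) (U := ⊤) trivial
    exact ⟨⟨W, hW⟩, hxW, h ⟨W, hW⟩⟩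
  have h41 : (∀ x : X, ∃ U : X.affineOpens, x ∈ (U : X.Opens) ∧ EGA4.IsJ2 Γ(X, U)) →
      (∀ (Y : Scheme.{u}) (g : Y ⟶ X), LocallyOfFiniteType g →
        IsOpen {y : Y | IsRegularLocalRing (Y.presheaf.stalk y)}) := by
    intro h Y g hg
    rw [isOpen_iff_forall_mem_open]
    intro y hy
    obtain ⟨U, hxU, hJ⟩ := h (g y)
    obtain ⟨V, hV, hyV, hVU⟩ := exists_isAffineOpen_mem_and_subset (x := y) (U := g ⁻¹ᵁ U.1) hxU
    letI : Algebra Γ(X, U.1) Γ(Y, V) := (g.appLE U.1 V hVU).hom.toAlgebra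
    have hft : Algebra.FiniteType Γ(X, U.1) Γ(Y, V) := g.finiteType_appLE U.2 hV hVU
    have hopen := isOpen_regular_inter hV (hJ Γ(Y, V) hft)
    exact ⟨_, Set.inter_subset_left, hopen, hy, hyV⟩
  exact ⟨⟨h13, fun h => h41 (h34 h)⟩, ⟨fun h => h34 (h13 h), h41⟩⟩

end Groth.Agent.Helper7.LocFT
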