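import Mathlib.Topology.NoetherianSpace
import Mathlib.AlgebraicGeometry.Morphisms.QuasiCompact

set_option autoImplicit false
universe u
open TopologicalSpace

namespace Groth.Agent.Helper7

/-- In a space in which every point has an open Noetherian neighbourhood, every subset of a compact
set is compact. -/
theorem isCompact_of_subset_of_locallyNoetherian {X : Type*} [TopologicalSpace X]
    (hX : ∀ x : X, ∃ U : Set X, IsOpen U ∧ x ∈ U ∧ NoetherianSpace U)
    {K s : Set X} (hK : IsCompact K) (hs : s ⊆ K) : IsCompact s := by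
  choose U hUo hxU hUn using hX
  obtain ⟨t, ht⟩ := hK.elim_finite_subcover U hUo (fun x _ => Set.mem_iUnion.mpr ⟨x, hxU x⟩)
  have : NoetherianSpace (⋃ i : t, U i) := NoetherianSpace.iUnion (fun i : t => U i)
  rw [noetherianSpace_set_iff] at this
  apply this
  intro x hx
  have := ht (hs hx)
  simp only [Set.mem_iUnion] at this ⊢
  obtain ⟨i, hi, hxi⟩ := this
  exact ⟨⟨i, hi⟩, hxi⟩

open AlgebraicGeometry CategoryTheory in
theorem locallyNoetherian_opens {X : Scheme.{u}}
    (hX : ∀ x : X, ∃ U : X.Opens, x ∈ U ∧ NoetherianSpace U) :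
    ∀ x : X, ∃ U : Set X, IsOpen U ∧ x ∈ U ∧ NoetherianSpace U := by
  intro x
  obtain ⟨U, hxU, hU⟩ := hX x
  exact ⟨U, U.2, hxU, hU⟩

end Groth.Agent.Helper7
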