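import Mathlib
import Groth.Agent.Lib.Helper7.ProjLocal
import Groth.Agent.Lib.Helper13.QCohLoc

/-!
# Locally projective quasi-coherent modules

A quasi-coherent module has projective sections over every affine open iff it does so on an affine
open cover (Zariski descent of projectivity, via Raynaud–Gruson).
-/

set_option autoImplicit false
set_option linter.style.haveILetI false
set_option linter.unusedSectionVars false

universe u

open CategoryTheory CategoryTheory.Limits AlgebraicGeometry Opposite TopologicalSpace TensorProduct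
open Groth.Agent.Helper13.QCohLoc

namespace Groth.Agent.Helper7.LocProj

variable {X : Scheme.{u}} (F : X.Modules)

lemma projective_congr {V W : X.Opens} (e : V = W)
    (h : Module.Projective Γ(X, V) Γ(F, V)) : Module.Projective Γ(X, W) Γ(F, W) := by
  subst e
  exact h

variable [F.IsQuasicoherent]

/-- restriction to a basic open is a base change. -/
theorem isBaseChange_resBasicOpen {U : X.Opens} (hU : IsAffineOpen U) (f : Γ(X, U)) :
    letI := modBasicOpen F f
    haveI := isScalarTower_basicOpen F f
    IsBaseChange Γ(X, X.basicOpen f) (resBasicOpen F f) := by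
  letI := modBasicOpen F f
  haveI := isScalarTower_basicOpen F f
  haveI := hU.isLocalization_basicOpen f
  haveI := isLocalizedModule_basicOpen F hU f
  exact IsLocalizedModule.isBaseChange (Submonoid.powers f) Γ(X, X.basicOpen f) (resBasicOpen F f)

/-- projectivity passes to basic opens. -/
theorem projective_basicOpen {U : X.Opens} (hU : IsAffineOpen U) (f : Γ(X, U))
    (h : Module.Projective Γ(X, U) Γ(F, U)) :
    Module.Projective Γ(X, X.basicOpen f) Γ(F, X.basicOpen f) := by
  letI := modBasicOpen F f
  haveI := isScalarTower_basicOpen F f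
  have hbc := isBaseChange_resBasicOpen F hU f
  exact Module.Projective.of_equiv hbc.equiv

/-- **Zariski descent of projectivity for quasi-coherent modules.** -/
theorem projective_of_cover {I : Type*} (Uc : I → X.Opens) (hcov : (⨆ i, Uc i) = ⊤)
    (hUc : ∀ i, IsAffineOpen (Uc i))
    (hproj : ∀ i, Module.Projective Γ(X, Uc i) Γ(F, Uc i))
    {U : X.Opens} (hU : IsAffineOpen U) : Module.Projective Γ(X, U) Γ(F, U) := by
  classical
  -- the set of good functions
  let s : Set Γ(X, U) := {f | Module.Projective Γ(X, X.basicOpen f) Γ(F, X.basicOpen f)}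
  have hs : Ideal.span s = ⊤ := by
    rw [← hU.self_le_iSup_basicOpen_iff]
    intro x hxU
    have hx : (x : X) ∈ (⨆ i, Uc i) := by rw [hcov]; trivial
    obtain ⟨i, hxi⟩ := Opens.mem_iSup.mp hx
    obtain ⟨f, g, hfg, hxf⟩ := exists_basicOpen_le_affine_inter hU (hUc i) x ⟨hxU, hxi⟩
    have hfs : f ∈ s :=
      projective_congr F hfg.symm (projective_basicOpen F (hUc i) g (hproj i))
    exact Opens.mem_iSup.mpr ⟨⟨f, hfs⟩, hxf⟩
  obtain ⟨s', hs's, hs'⟩ := (Ideal.span_eq_top_iff_finite s).mp hs
  -- apply the algebraic criterion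
  letI inst1 : ∀ i : (s' : Set Γ(X, U)), Module Γ(X, U) Γ(F, X.basicOpen (i : Γ(X, U))) :=
    fun i => modBasicOpen F (i : Γ(X, U))
  haveI inst2 : ∀ i : (s' : Set Γ(X, U)),
      IsScalarTower Γ(X, U) Γ(X, X.basicOpen (i : Γ(X, U))) Γ(F, X.basicOpen (i : Γ(X, U))) :=
    fun i => isScalarTower_basicOpen F (i : Γ(X, U))
  haveI inst3 : ∀ i : (s' : Set Γ(X, U)),
      IsLocalization.Away (i : Γ(X, U)) Γ(X, X.basicOpen (i : Γ(X, U))) :=
    fun i => hU.isLocalization_basicOpen (i : Γ(X, U))
  haveI : Finite (s' : Set Γ(X, U)) := s'.finite_toSet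
  refine Groth.Agent.Helper7.ProjLocal.projective_of_away'
    (ι := (s' : Set Γ(X, U)))
    (A := fun i => Γ(X, X.basicOpen (i : Γ(X, U)))) (f := fun i => (i : Γ(X, U)))
    (M := Γ(F, U)) ?_ (fun i => Γ(F, X.basicOpen (i : Γ(X, U))))
    (fun i => resBasicOpen F (i : Γ(X, U)))
    (fun i => isBaseChange_resBasicOpen F hU (i : Γ(X, U))) (fun i => hs's i.2)
  rw [Subtype.range_coe]
  exact hs'

end Groth.Agent.Helper7.LocProj
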