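import Mathlib
import Groth.Agent.Lib.Helper7.LocProj
import Groth.Agent.Lib.Helper13.PullbackSections

/-!
# Pullback of locally projective quasi-coherent modules
-/

set_option autoImplicit false
set_option linter.style.haveILetI false
set_option linter.unusedSectionVars false

universe u

open CategoryTheory CategoryTheory.Limits AlgebraicGeometry Opposite TopologicalSpace TensorProduct
open Groth.Agent.Helper13.Pullback

namespace Groth.Agent.Helper7.LocProj

theorem projective_pullback {X Y : Scheme.{u}} (f : X ⟶ Y) (G : Y.Modules) [G.IsQuasicoherent]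
    (hG : ∀ V : Y.Opens, IsAffineOpen V → Module.Projective Γ(Y, V) Γ(G, V))
    {U : X.Opens} (hU : IsAffineOpen U) :
    Module.Projective Γ(X, U) Γ((Scheme.Modules.pullback f).obj G, U) := by
  let ι := {p : X.affineOpens × Y.affineOpens // p.1.1 ≤ f ⁻¹ᵁ p.2.1}
  refine projective_of_cover ((Scheme.Modules.pullback f).obj G) (I := ι)
    (fun i => i.1.1.1) ?_ (fun i => i.1.1.2) (fun i => ?_) hU
  · rw [eq_top_iff]
    intro x _
    obtain ⟨_, ⟨V, hV, rfl⟩, hxV, -⟩ := Y.isBasis_affineOpens.exists_subset_of_mem_open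
      (Set.mem_univ (f x)) isOpen_univ
    obtain ⟨_, ⟨W, hW, rfl⟩, hxW, hWV⟩ := X.isBasis_affineOpens.exists_subset_of_mem_open
      (show x ∈ ((f ⁻¹ᵁ V : X.Opens) : Set X) from hxV) (f ⁻¹ᵁ V).2
    exact Opens.mem_iSup.mpr ⟨⟨(⟨W, hW⟩, ⟨V, hV⟩), hWV⟩, hxW⟩
  · obtain ⟨⟨⟨W, hW⟩, ⟨V, hV⟩⟩, hWV⟩ := i
    letI := (f.appLE V W hWV).hom.toAlgebra
    haveI := hG V hV
    exact Module.Projective.of_equiv (sectionsPullbackEquiv f G hW hV hWV).symm

end Groth.Agent.Helper7.LocProj
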