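import Mathlib
open IsLocalRing
universe u
namespace Groth.Agent.Helper7.LS

variable {K : Type*} [Field K]

lemma isUnit_iff_inv_mem (D : Subring K) (x : D) :
    IsUnit x ↔ (x : K) ≠ 0 ∧ (x : K)⁻¹ ∈ D := by
  constructor
  · rintro ⟨u, rfl⟩
    have h1 : ((u : D) : K) * ((u⁻¹ : Dˣ) : D) = 1 := by
      rw [← Subring.coe_mul, Units.mul_inv]; rfl
    have h0 : ((u : D) : K) ≠ 0 := left_ne_zero_of_mul_eq_one h1
    refine ⟨h0, ?_⟩
    have : ((u : D) : K)⁻¹ = ((u⁻¹ : Dˣ) : D) := by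
      rw [inv_eq_of_mul_eq_one_right h1]
    rw [this]
    exact Subtype.property _
  · rintro ⟨h0, hinv⟩
    refine ⟨⟨x, ⟨_, hinv⟩, ?_, ?_⟩, rfl⟩
    · ext; simp [mul_inv_cancel₀ h0]
    · ext; simp [inv_mul_cancel₀ h0]

/-- The trace on `A` of the maximal ideal of a local subring `D ⊇ A`. -/
abbrev tr (D : LocalSubring K) (A : Subring K) (h : A ≤ D.toSubring) : Ideal A :=
  (maximalIdeal D.toSubring).comap (Subring.inclusion h)

lemma mem_tr {D : LocalSubring K} {A : Subring K} (h : A ≤ D.toSubring) (a : A) :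
    a ∈ tr D A h ↔ ((a : K) = 0 ∨ (a : K)⁻¹ ∉ D.toSubring) := by
  rw [tr, Ideal.mem_comap, mem_maximalIdeal, mem_nonunits_iff, isUnit_iff_inv_mem]
  change ¬ ((a : K) ≠ 0 ∧ (a : K)⁻¹ ∈ D.toSubring) ↔ _
  tauto

lemma not_mem_tr {D : LocalSubring K} {A : Subring K} (h : A ≤ D.toSubring) (a : A) :
    a ∉ tr D A h ↔ ((a : K) ≠ 0 ∧ (a : K)⁻¹ ∈ D.toSubring) := by
  rw [mem_tr]; tauto

lemma mem_ofPrime_iff (A : Subring K) (P : Ideal A) [P.IsPrime] (x : K) :
    x ∈ (LocalSubring.ofPrime A P).toSubring ↔ ∃ a s : A, s ∉ P ∧ x = (a : K) / (s : K) := by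
  constructor
  · intro hx
    obtain ⟨⟨a, s⟩, h⟩ := IsLocalization.surj P.primeCompl
      (⟨x, hx⟩ : (LocalSubring.ofPrime A P).toSubring)
    refine ⟨a, s.1, s.2, ?_⟩
    have h' : x * (s.1 : K) = (a : K) := congrArg Subtype.val h
    have hs0 : ((s.1 : A) : K) ≠ 0 := by
      intro h0
      have : (s.1 : A) = 0 := Subtype.ext h0
      exact s.2 (this ▸ P.zero_mem)
    rw [eq_div_iff hs0, h']
  · rintro ⟨a, s, hs, rfl⟩
    have hu : IsUnit (algebraMap A (LocalSubring.ofPrime A P).toSubring s) :=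
      IsLocalization.map_units _ (⟨s, hs⟩ : P.primeCompl)
    rw [isUnit_iff_inv_mem] at hu
    have ha : (a : K) ∈ (LocalSubring.ofPrime A P).toSubring := LocalSubring.le_ofPrime A P a.2
    rw [div_eq_mul_inv]
    exact Subring.mul_mem _ ha hu.2

lemma tr_ofPrime_of_le {A C : Subring K} (hAC : A ≤ C) (r : Ideal C) [r.IsPrime]
    (h : A ≤ (LocalSubring.ofPrime C r).toSubring) :
    tr (LocalSubring.ofPrime C r) A h = r.comap (Subring.inclusion hAC) := by
  ext a
  rw [Ideal.mem_comap, Ideal.mem_comap]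
  have h1 : (Subring.inclusion hAC a) ∈ r ↔
      algebraMap C (LocalSubring.ofPrime C r).toSubring (Subring.inclusion hAC a) ∈
        maximalIdeal (LocalSubring.ofPrime C r).toSubring :=
    (IsLocalization.AtPrime.to_map_mem_maximal_iff _ r _).symm
  rw [h1]
  rfl

lemma tr_ofPrime (A : Subring K) (P : Ideal A) [P.IsPrime]
    (h : A ≤ (LocalSubring.ofPrime A P).toSubring) :
    tr (LocalSubring.ofPrime A P) A h = P := by
  rw [tr_ofPrime_of_le le_rfl]
  ext a
  rfl


lemma le_iff {D D' : LocalSubring K} :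
    D ≤ D' ↔ D.toSubring ≤ D'.toSubring ∧
      ∀ x ∈ D.toSubring, x⁻¹ ∈ D'.toSubring → x⁻¹ ∈ D.toSubring := by
  rw [LocalSubring.le_def]
  constructor
  · rintro ⟨h, hloc⟩
    refine ⟨h, fun x hx hinv => ?_⟩
    by_cases h0 : x = 0
    · rw [h0, inv_zero]; exact Subring.zero_mem _
    have hu : IsUnit (Subring.inclusion h ⟨x, hx⟩) := by
      rw [isUnit_iff_inv_mem]
      exact ⟨h0, hinv⟩
    have hu' : IsUnit (⟨x, hx⟩ : D.toSubring) := hloc.map_nonunit _ hu
    rw [isUnit_iff_inv_mem] at hu'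
    exact hu'.2
  · rintro ⟨h, hinv⟩
    refine ⟨h, ⟨fun a ha => ?_⟩⟩
    rw [isUnit_iff_inv_mem] at ha ⊢
    exact ⟨ha.1, hinv _ a.2 ha.2⟩

/-- K1 -/
lemma ofPrime_tr_le (Q : LocalSubring K) (A : Subring K) (hA : A ≤ Q.toSubring) :
    LocalSubring.ofPrime A (tr Q A hA) ≤ Q := by
  rw [le_iff]
  constructor
  · intro x hx
    rw [mem_ofPrime_iff] at hx
    obtain ⟨a, s, hs, rfl⟩ := hx
    rw [not_mem_tr] at hs
    rw [div_eq_mul_inv]
    exact Subring.mul_mem _ (hA a.2) hs.2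
  · intro x hx hinv
    rw [mem_ofPrime_iff] at hx ⊢
    obtain ⟨a, s, hs, rfl⟩ := hx
    by_cases ha0 : (a : K) = 0
    · refine ⟨0, 1, ?_, ?_⟩
      · exact (Ideal.ne_top_iff_one _).mp (Ideal.IsPrime.ne_top inferInstance)
      · simp [ha0]
    have hs' := (not_mem_tr hA s).mp hs
    refine ⟨s, a, ?_, by rw [inv_div]⟩
    rw [not_mem_tr]
    refine ⟨ha0, ?_⟩
    -- a⁻¹ = (a/s)⁻¹ * s⁻¹
    have : (a : K)⁻¹ = ((a : K) / (s : K))⁻¹ * (s : K)⁻¹ := by
      rw [inv_div, div_mul_eq_mul_div, mul_inv_cancel₀ hs'.1, one_div]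
    rw [this]
    exact Subring.mul_mem _ hinv hs'.2

/-- K3 -/
lemma tr_eq_of_le {D D' : LocalSubring K} (hDD' : D ≤ D') (A : Subring K)
    (hA : A ≤ D.toSubring) (hA' : A ≤ D'.toSubring) : tr D' A hA' = tr D A hA := by
  rw [le_iff] at hDD'
  ext a
  rw [mem_tr, mem_tr]
  constructor
  · rintro (h | h)
    · exact Or.inl h
    · exact Or.inr (fun h' => h (hDD'.1 h'))
  · rintro (h | h)
    · exact Or.inl h
    · exact Or.inr (fun h' => h (hDD'.2 _ (hA a.2) h'))

/-- K4 -/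
lemma eq_ofPrime_of_le (D : LocalSubring K) (A : Subring K) (P : Ideal A) [P.IsPrime]
    (hA : A ≤ D.toSubring) (hD : D.toSubring ≤ (LocalSubring.ofPrime A P).toSubring)
    (htr : tr D A hA = P) : D = LocalSubring.ofPrime A P := by
  apply LocalSubring.toSubring_injective
  apply le_antisymm hD
  intro x hx
  rw [mem_ofPrime_iff] at hx
  obtain ⟨a, s, hs, rfl⟩ := hx
  rw [← htr, not_mem_tr] at hs
  rw [div_eq_mul_inv]
  exact Subring.mul_mem _ (hA a.2) hs.2

lemma ofPrime_congr (A : Subring K) {P P' : Ideal A} [P.IsPrime] [P'.IsPrime] (h : P = P') :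
    LocalSubring.ofPrime A P = LocalSubring.ofPrime A P' := by
  subst h; rfl


lemma ofPrime_sup_eq (A B : Subring K) (r : Ideal ↥(A ⊔ B)) [r.IsPrime]
    (h2 : LocalSubring.ofPrime A (r.comap (Subring.inclusion (le_sup_left : A ≤ A ⊔ B))) =
      LocalSubring.ofPrime B (r.comap (Subring.inclusion (le_sup_right : B ≤ A ⊔ B)))) :
    LocalSubring.ofPrime (A ⊔ B) r =
      LocalSubring.ofPrime A (r.comap (Subring.inclusion (le_sup_left : A ≤ A ⊔ B))) := by
  set D := LocalSubring.ofPrime A (r.comap (Subring.inclusion (le_sup_left : A ≤ A ⊔ B))) with hD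
  set Q := LocalSubring.ofPrime (A ⊔ B) r with hQ
  have hAQ : A ≤ Q.toSubring := le_sup_left.trans (LocalSubring.le_ofPrime (A ⊔ B) r)
  have h1 : tr Q A hAQ = r.comap (Subring.inclusion (le_sup_left : A ≤ A ⊔ B)) :=
    tr_ofPrime_of_le le_sup_left r hAQ
  have hDQ : D ≤ Q := by
    have := ofPrime_tr_le Q A hAQ
    rwa [ofPrime_congr A h1] at this
  have hC : A ⊔ B ≤ D.toSubring := by
    refine sup_le (LocalSubring.le_ofPrime A _) ?_
    rw [h2]
    exact LocalSubring.le_ofPrime B _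
  have htr : tr D (A ⊔ B) hC = r := by
    rw [← tr_eq_of_le hDQ (A ⊔ B) hC (LocalSubring.le_ofPrime (A ⊔ B) r)]
    exact tr_ofPrime (A ⊔ B) r _
  exact (eq_ofPrime_of_le D (A ⊔ B) r hC (LocalSubring.toSubring_mono hDQ) htr).symm

theorem localizations_tfae (A B : Subring K) :
    [ ∀ (Q : LocalSubring K) (hA : A ≤ Q.toSubring) (hB : B ≤ Q.toSubring),
        LocalSubring.ofPrime A ((IsLocalRing.maximalIdeal Q.toSubring).comap (Subring.inclusion hA)) =
          LocalSubring.ofPrime B ((IsLocalRing.maximalIdeal Q.toSubring).comap (Subring.inclusion hB)),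
      ∀ r : PrimeSpectrum ↥(A ⊔ B),
        LocalSubring.ofPrime A (r.asIdeal.comap (Subring.inclusion (le_sup_left : A ≤ A ⊔ B))) =
          LocalSubring.ofPrime B (r.asIdeal.comap (Subring.inclusion (le_sup_right : B ≤ A ⊔ B))),
      ∀ (p : PrimeSpectrum A) (q : PrimeSpectrum B),
        (∃ Q : LocalSubring K, LocalSubring.ofPrime A p.asIdeal ≤ Q ∧ LocalSubring.ofPrime B q.asIdeal ≤ Q) →
          LocalSubring.ofPrime A p.asIdeal = LocalSubring.ofPrime B q.asIdeal,
      Set.range (fun p : PrimeSpectrum A ↦ LocalSubring.ofPrime A p.asIdeal) ∩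
          Set.range (fun q : PrimeSpectrum B ↦ LocalSubring.ofPrime B q.asIdeal) =
        Set.range (fun r : PrimeSpectrum ↥(A ⊔ B) ↦ LocalSubring.ofPrime (A ⊔ B) r.asIdeal) ].TFAE := by
  tfae_have 1 → 2 := by
    intro H r
    have hA : A ≤ (LocalSubring.ofPrime (A ⊔ B) r.asIdeal).toSubring :=
      le_sup_left.trans (LocalSubring.le_ofPrime (A ⊔ B) r.asIdeal)
    have hB : B ≤ (LocalSubring.ofPrime (A ⊔ B) r.asIdeal).toSubring :=
      le_sup_right.trans (LocalSubring.le_ofPrime (A ⊔ B) r.asIdeal)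
    have := H (LocalSubring.ofPrime (A ⊔ B) r.asIdeal) hA hB
    rw [ofPrime_congr A (tr_ofPrime_of_le le_sup_left r.asIdeal hA),
      ofPrime_congr B (tr_ofPrime_of_le le_sup_right r.asIdeal hB)] at this
    exact this
  tfae_have 2 → 1 := by
    intro H Q hA hB
    have hC : A ⊔ B ≤ Q.toSubring := sup_le hA hB
    have := H ⟨tr Q (A ⊔ B) hC, inferInstance⟩
    have e1 : (tr Q (A ⊔ B) hC).comap (Subring.inclusion (le_sup_left : A ≤ A ⊔ B)) =
        tr Q A hA := by
      ext a; rfl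
    have e2 : (tr Q (A ⊔ B) hC).comap (Subring.inclusion (le_sup_right : B ≤ A ⊔ B)) =
        tr Q B hB := by
      ext a; rfl
    change LocalSubring.ofPrime A
        ((tr Q (A ⊔ B) hC).comap (Subring.inclusion (le_sup_left : A ≤ A ⊔ B))) =
      LocalSubring.ofPrime B
        ((tr Q (A ⊔ B) hC).comap (Subring.inclusion (le_sup_right : B ≤ A ⊔ B))) at this
    rw [ofPrime_congr A e1, ofPrime_congr B e2] at this
    exact this
  tfae_have 1 → 3 := by
    rintro H p q ⟨Q, hp, hq⟩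
    have hA : A ≤ Q.toSubring :=
      (LocalSubring.le_ofPrime A p.asIdeal).trans (LocalSubring.toSubring_mono hp)
    have hB : B ≤ Q.toSubring :=
      (LocalSubring.le_ofPrime B q.asIdeal).trans (LocalSubring.toSubring_mono hq)
    have := H Q hA hB
    have e1 : tr Q A hA = p.asIdeal := by
      rw [tr_eq_of_le hp A (LocalSubring.le_ofPrime A p.asIdeal) hA]
      exact tr_ofPrime A p.asIdeal _
    have e2 : tr Q B hB = q.asIdeal := by
      rw [tr_eq_of_le hq B (LocalSubring.le_ofPrime B q.asIdeal) hB]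
      exact tr_ofPrime B q.asIdeal _
    change LocalSubring.ofPrime A (tr Q A hA) = LocalSubring.ofPrime B (tr Q B hB) at this
    rw [ofPrime_congr A e1, ofPrime_congr B e2] at this
    exact this
  tfae_have 3 → 1 := by
    intro H Q hA hB
    exact H ⟨tr Q A hA, inferInstance⟩ ⟨tr Q B hB, inferInstance⟩
      ⟨Q, ofPrime_tr_le Q A hA, ofPrime_tr_le Q B hB⟩
  tfae_have 2 → 4 := by
    intro H
    ext D
    constructor
    · rintro ⟨⟨p, hp⟩, ⟨q, hq⟩⟩
      simp only at hp hq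
      have hA : A ≤ D.toSubring := hp ▸ LocalSubring.le_ofPrime A p.asIdeal
      have hB : B ≤ D.toSubring := hq ▸ LocalSubring.le_ofPrime B q.asIdeal
      have hC : A ⊔ B ≤ D.toSubring := sup_le hA hB
      let r : PrimeSpectrum ↥(A ⊔ B) := ⟨tr D (A ⊔ B) hC, inferInstance⟩
      refine ⟨r, ?_⟩
      simp only
      rw [ofPrime_sup_eq A B r.asIdeal (H r)]
      have e1 : (tr D (A ⊔ B) hC).comap (Subring.inclusion (le_sup_left : A ≤ A ⊔ B)) =
          tr D A hA := by
        ext a; rfl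
      change LocalSubring.ofPrime A
        ((tr D (A ⊔ B) hC).comap (Subring.inclusion (le_sup_left : A ≤ A ⊔ B))) = D
      rw [ofPrime_congr A e1]
      have e2 : tr D A hA = p.asIdeal := by
        subst hp
        exact tr_ofPrime A p.asIdeal _
      rw [ofPrime_congr A e2, hp]
    · rintro ⟨r, rfl⟩
      simp only
      refine ⟨⟨⟨r.asIdeal.comap (Subring.inclusion (le_sup_left : A ≤ A ⊔ B)), inferInstance⟩,
        (ofPrime_sup_eq A B r.asIdeal (H r)).symm⟩,
        ⟨⟨r.asIdeal.comap (Subring.inclusion (le_sup_right : B ≤ A ⊔ B)), inferInstance⟩, ?_⟩⟩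
      simp only
      rw [ofPrime_sup_eq A B r.asIdeal (H r), H r]
  tfae_have 4 → 2 := by
    intro H r
    have hmem : LocalSubring.ofPrime (A ⊔ B) r.asIdeal ∈
        Set.range (fun r : PrimeSpectrum ↥(A ⊔ B) ↦ LocalSubring.ofPrime (A ⊔ B) r.asIdeal) :=
      ⟨r, rfl⟩
    rw [← H] at hmem
    obtain ⟨⟨p, hp⟩, ⟨q, hq⟩⟩ := hmem
    simp only at hp hq
    have hA : A ≤ (LocalSubring.ofPrime (A ⊔ B) r.asIdeal).toSubring :=
      le_sup_left.trans (LocalSubring.le_ofPrime (A ⊔ B) r.asIdeal)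
    have hB : B ≤ (LocalSubring.ofPrime (A ⊔ B) r.asIdeal).toSubring :=
      le_sup_right.trans (LocalSubring.le_ofPrime (A ⊔ B) r.asIdeal)
    have e1 : r.asIdeal.comap (Subring.inclusion (le_sup_left : A ≤ A ⊔ B)) = p.asIdeal := by
      rw [← tr_ofPrime_of_le le_sup_left r.asIdeal hA]
      have : ∀ (Q : LocalSubring K) (hQ : LocalSubring.ofPrime A p.asIdeal = Q)
          (h : A ≤ Q.toSubring), tr Q A h = p.asIdeal := by
        rintro Q rfl h
        exact tr_ofPrime A p.asIdeal _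
      exact this _ hp hA
    have e2 : r.asIdeal.comap (Subring.inclusion (le_sup_right : B ≤ A ⊔ B)) = q.asIdeal := by
      rw [← tr_ofPrime_of_le le_sup_right r.asIdeal hB]
      have : ∀ (Q : LocalSubring K) (hQ : LocalSubring.ofPrime B q.asIdeal = Q)
          (h : B ≤ Q.toSubring), tr Q B h = q.asIdeal := by
        rintro Q rfl h
        exact tr_ofPrime B q.asIdeal _
      exact this _ hq hB
    rw [ofPrime_congr A e1, ofPrime_congr B e2, hp, hq]
  tfae_finish

end Groth.Agent.Helper7.LS
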