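import Mathlib
import Groth.Agent.Lib.Helper7.MLC
import Groth.Agent.Lib.Helper14.FacDescent

/-!
# Surjectivity on affine points and isomorphisms (helper7)
-/

set_option autoImplicit false
set_option linter.style.haveILetI false
set_option linter.unusedSectionVars false
universe u
open CategoryTheory CategoryTheory.Limits MonoidalCategory CartesianMonoidalCategory MonObj GrpObj
  AlgebraicGeometry

noncomputable section

namespace Groth.Agent.Helper7.ML

open Groth.Agent.Helper18 Groth.Agent.Helper18.MultToGa Groth.Agent.Helper7.MTRig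
  Groth.Agent.Helper7.GL

section gen

variable {S : Scheme.{u}} {G H : Over S} (u : G ⟶ H)

/-- surjectivity on all affine points over `t` -/
def SurjOver {T : Scheme.{u}} (t : T ⟶ S) : Prop :=
  ∀ (C : CommRingCat.{u}) (σ : Spec C ⟶ S), (∃ τ : Spec C ⟶ T, τ ≫ t = σ) →
    ∀ h : Over.mk σ ⟶ H, ∃ g : Over.mk σ ⟶ G, g ≫ u = h

theorem SurjOver.comp {T T' : Scheme.{u}} {t : T ⟶ S} (h : SurjOver u t) (π : T' ⟶ T) :
    SurjOver u (π ≫ t) := by
  intro C σ ⟨τ, hτ⟩
  exact h C σ ⟨τ ≫ π, by rw [Category.assoc, hτ]⟩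

theorem SurjOver.of_eq {T T' : Scheme.{u}} {t : T ⟶ S} (h : SurjOver u t) (π : T' ⟶ T)
    (t' : T' ⟶ S) (ht : π ≫ t = t') : SurjOver u t' := by
  subst ht
  exact h.comp u π

/-- an isomorphism is surjective on affine points -/
theorem surjOver_of_isIso {T : Scheme.{u}} (t : T ⟶ S)
    (h : IsIso ((Over.pullback t).map u).left) : SurjOver u t := by
  intro C σ ⟨τ, hτ⟩ k
  subst hτ
  haveI : IsIso ((Over.forget T).map ((Over.pullback t).map u)) := h
  haveI : IsIso ((Over.pullback t).map u) := isIso_of_reflects_iso _ (Over.forget T)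
  let k' : Over.mk τ ⟶ Red.bc t H := up t H (T := Over.mk τ) k
  let g' : Over.mk τ ⟶ Red.bc t G := k' ≫ inv ((Over.pullback t).map u)
  refine ⟨BcPts.dn t G g', ?_⟩
  rw [← dn_map']
  have e : g' ≫ (Over.pullback t).map u = k' := by
    show (k' ≫ inv ((Over.pullback t).map u)) ≫ (Over.pullback t).map u = k'
    rw [Category.assoc, IsIso.inv_hom_id, Category.comp_id]
  rw [e]
  exact dn_up t H (T := Over.mk τ) k

/-- injective and surjective on affine points implies isomorphism -/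
theorem isIso_of_mono_surj {T : Scheme.{u}} (t : T ⟶ S) (hm : MonoOver u t) (hs : SurjOver u t) :
    IsIso ((Over.pullback t).map u).left := by
  haveI : Mono ((Over.pullback t).map u).left := (mono_iff_monoOver u t).2 hm
  let 𝒰 := (Red.bc t H).left.affineOpenCover
  obtain ⟨a, ha⟩ : ∃ a : (Red.bc t H).left ⟶ (Red.bc t G).left,
      a ≫ ((Over.pullback t).map u).left = 𝟙 _ := by
    apply Groth.Agent.Helper14.FacDescent.exists_fac_of_openCover
      ((Over.pullback t).map u).left (𝟙 _) 𝒰.openCover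
    intro l
    let f : Spec (𝒰.X l) ⟶ (Red.bc t H).left := 𝒰.f l
    let τ : Spec (𝒰.X l) ⟶ T := f ≫ (Red.bc t H).hom
    let k : Over.mk τ ⟶ Red.bc t H := Over.homMk f rfl
    let h : Over.mk (τ ≫ t) ⟶ H := BcPts.dn t H (T := Over.mk τ) k
    obtain ⟨g, hg⟩ := hs _ (τ ≫ t) ⟨τ, rfl⟩ h
    refine ⟨(up t G (T := Over.mk τ) g).left, ?_⟩
    have e : up t G (T := Over.mk τ) g ≫ (Over.pullback t).map u = k := by
      apply dn_injective t H
      rw [dn_map', dn_up, hg]
    have e2 := congrArg (fun k => k.left) e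
    rw [Category.comp_id]
    exact e2
  haveI : IsSplitEpi ((Over.pullback t).map u).left := IsSplitEpi.mk' ⟨a, ha⟩
  exact isIso_of_mono_of_isSplitEpi _

end gen

section A4

variable {S : Scheme.{u}} {G H : Over S} (u : G ⟶ H)
  {B : CommRingCat.{u}} (v : Spec B ⟶ S) {M N : Type} [AddCommGroup M] [AddCommGroup N]
  (εG : Red.bc v G ⟶ Red.DS (Spec B) M) (εGi : Red.DS (Spec B) M ⟶ Red.bc v G)
  (εH : Red.bc v H ⟶ Red.DS (Spec B) N) (εHi : Red.DS (Spec B) N ⟶ Red.bc v H)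
  (hG1 : εG ≫ εGi = 𝟙 _) (hH1 : εH ≫ εHi = 𝟙 _) (hH2 : εHi ≫ εH = 𝟙 _)

include hG1 hH2 in
theorem surjOver_psi_of_surjOver {T : Scheme.{u}} (τ : T ⟶ Spec B) (h : SurjOver u (τ ≫ v)) :
    SurjOver (psiOf u v εGi εH) τ := by
  intro D σ ⟨τ', hτ'⟩ k
  let h' : Over.mk (σ ≫ v) ⟶ H := BcPts.dn v H (T := Over.mk σ) (k ≫ εHi)
  obtain ⟨g, hg⟩ := h D (σ ≫ v) ⟨τ', by rw [← hτ', Category.assoc]⟩ h'
  refine ⟨up v G (T := Over.mk σ) g ≫ εG, ?_⟩
  unfold psiOf
  rw [Category.assoc, ← Category.assoc εG, hG1, Category.id_comp, ← Category.assoc, ← up_map, hg]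
  show up v H (T := Over.mk σ) (BcPts.dn v H (T := Over.mk σ) (k ≫ εHi)) ≫ εH = k
  rw [up_dn, Category.assoc, hH2, Category.comp_id]

include hH1 in
theorem surjOver_of_surjOver_psi {T : Scheme.{u}} (τ : T ⟶ Spec B)
    (h : SurjOver (psiOf u v εGi εH) τ) : SurjOver u (τ ≫ v) := by
  intro D σ ⟨τ', hτ'⟩ k
  have hσ : σ = (τ' ≫ τ) ≫ v := by rw [← hτ', Category.assoc]
  subst hσ
  let k₁ : Over.mk (τ' ≫ τ) ⟶ Red.DS (Spec B) N := up v H (T := Over.mk (τ' ≫ τ)) k ≫ εH
  obtain ⟨k', hk'⟩ := h D (τ' ≫ τ) ⟨τ', rfl⟩ k₁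
  refine ⟨BcPts.dn v G (T := Over.mk (τ' ≫ τ)) (k' ≫ εGi), ?_⟩
  rw [← dn_map']
  have e : (k' ≫ εGi) ≫ (Over.pullback v).map u = up v H (T := Over.mk (τ' ≫ τ)) k := by
    have e1 : (k' ≫ εGi) ≫ (Over.pullback v).map u = (k' ≫ psiOf u v εGi εH) ≫ εHi := by
      unfold psiOf
      rw [Category.assoc, Category.assoc, Category.assoc, Category.assoc, hH1, Category.comp_id]
    rw [e1, hk']
    show (up v H (T := Over.mk (τ' ≫ τ)) k ≫ εH) ≫ εHi = _
    rw [Category.assoc, hH1, Category.comp_id]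
  rw [e]
  exact dn_up v H (T := Over.mk (τ' ≫ τ)) k

end A4

section std

variable {B : CommRingCat.{u}} {M N : Type} [AddCommGroup M] [AddCommGroup N]
  (ψ : Red.DS (Spec B) M ⟶ Red.DS (Spec B) N)

/-- in standard form with `φ` bijective, `ψ` is surjective on affine points -/
theorem surjOver_of_std {C : CommRingCat.{u}} (θ : B ⟶ C)
    (φ : Multiplicative N →* Multiplicative M) (h : Std ψ θ φ) (hφ : Function.Bijective φ) :
    SurjOver ψ (Spec.map θ) := by
  intro D σ ⟨τ, hτ⟩ k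
  have hσ : σ = Spec.map (θ ≫ Spec.preimage τ) := by
    rw [Spec.map_comp, Spec.map_preimage, hτ]
  subst hσ
  let e : Multiplicative N ≃* Multiplicative M := MulEquiv.ofBijective φ hφ
  let χ' : Multiplicative N →* D :=
    ((Scheme.ΓSpecIso D).hom.hom : Γ(Spec D, ⊤) →* D).comp (DSPts.charOfPt k)
  refine ⟨pt _ (χ'.comp e.symm.toMonoidHom), ?_⟩
  rw [pt_comp_psi, PhiPsi_of_std ψ θ φ h]
  have e2 : (χ'.comp e.symm.toMonoidHom).comp φ = χ' := by
    apply MonoidHom.ext
    intro n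
    show χ' (e.symm (e n)) = χ' n
    rw [MulEquiv.symm_apply_apply]
  rw [e2]
  exact pt_char _ k

/-- conversely over a nontrivial ring -/
theorem injective_of_std {C : CommRingCat.{u}} [Nontrivial C] (θ : B ⟶ C)
    (φ : Multiplicative N →* Multiplicative M) (h : Std ψ θ φ)
    (hs : SurjOver ψ (Spec.map θ)) : Function.Injective φ := by
  let D : CommRingCat.{u} := CommRingCat.of (MonoidAlgebra C (Multiplicative N))
  let ρ : C ⟶ D := ιA C (Multiplicative N)
  let χ' : Multiplicative N →* D := MonoidAlgebra.of C (Multiplicative N)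
  obtain ⟨k, hk⟩ := hs D (Spec.map (θ ≫ ρ)) ⟨Spec.map ρ, by rw [← Spec.map_comp]⟩
    (pt (Spec.map (θ ≫ ρ)) χ')
  rw [← pt_char _ k, pt_comp_psi, PhiPsi_of_std ψ θ φ h] at hk
  have h2 := pt_injective _ hk
  intro a b hab
  have h3 := congrArg (fun k => k a) h2
  have h4 := congrArg (fun k => k b) h2
  have h5 : χ' a = χ' b := by
    rw [← h3, ← h4]
    show _ = _
    simp only [MonoidHom.comp_apply, hab]
  exact MonoidAlgebra.of_injective h5

end std

end Groth.Agent.Helper7.ML
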