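import Mathlib
import Groth.Agent.Lib.Helper7.MLD
import Groth.Agent.Lib.Helper7.MLE
import Groth.Agent.Lib.Helper20.IsoBC

/-!
# The locus where a homomorphism of groups of multiplicative type is an isomorphism (helper7)
-/

set_option autoImplicit false
set_option linter.style.haveILetI false
set_option linter.unusedSectionVars false
universe u
open CategoryTheory CategoryTheory.Limits MonoidalCategory CartesianMonoidalCategory MonObj GrpObj
  AlgebraicGeometry

noncomputable section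

namespace Groth.Agent.Helper7.ML

open Groth.Agent.Helper18 Groth.Agent.Helper18.MultToGa Groth.Agent.Helper7.MTRig
  Groth.Agent.Helper7.GL Groth.Agent.Helper17.FieldPt Groth.Agent.Helper20.IsoBC

variable {S : Scheme.{u}} {G H : Over S} [GrpObj G] [GrpObj H] (u : G ⟶ H) [IsMonHom u]

/-- the base change of `u` along `t` is an isomorphism -/
def IsoOver {T : Scheme.{u}} (t : T ⟶ S) : Prop := IsIso ((Over.pullback t).map u).left

/-- the set of points over which `u` is an isomorphism -/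
def ZsetI : Set S := {s | IsoOver u (S.fromSpecResidueField s)}

omit [GrpObj G] [GrpObj H] [IsMonHom u] in
theorem IsoOver.of_eq {T T' : Scheme.{u}} {t : T ⟶ S} (h : IsoOver u t) (π : T' ⟶ T)
    (t' : T' ⟶ S) (ht : π ≫ t = t') : IsoOver u t' := by
  subst ht
  exact isIso_comp u t π h

omit [GrpObj G] [GrpObj H] [IsMonHom u] in
theorem IsoOver.mono_surj {T : Scheme.{u}} {t : T ⟶ S} (h : IsoOver u t) :
    MonoOver u t ∧ SurjOver u t := by
  constructor
  · rw [← mono_iff_monoOver]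
    haveI : IsIso ((Over.pullback t).map u).left := h
    infer_instance
  · exact surjOver_of_isIso u t h

theorem local_altI0 {B : CommRingCat.{u}} (v : Spec B ⟶ S) {M N : Type} [AddCommGroup M]
    [AddCommGroup N] (hN : AddGroup.FG N)
    (εG : Red.bc v G ⟶ Red.DS (Spec B) M) (εGi : Red.DS (Spec B) M ⟶ Red.bc v G)
    (εH : Red.bc v H ⟶ Red.DS (Spec B) N) (εHi : Red.DS (Spec B) N ⟶ Red.bc v H)
    (hG1 : εG ≫ εGi = 𝟙 _) (hG2 : εGi ≫ εG = 𝟙 _) (hH1 : εH ≫ εHi = 𝟙 _)
    (hH2 : εHi ≫ εH = 𝟙 _)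
    [IsMonHom (psiOf u v εGi εH)] (y : Spec B) :
    ∃ (C : CommRingCat.{u}) (θ : B ⟶ C), IsOpenImmersion (Spec.map θ) ∧
      y ∈ Set.range (Spec.map θ).base ∧
      (((∀ y' : Spec C, v ((Spec.map θ) y') ∈ ZsetI u) ∧ IsoOver u (Spec.map θ ≫ v)) ∨
        (∀ y' : Spec C, v ((Spec.map θ) y') ∉ ZsetI u)) := by
  obtain ⟨e, φ, he, hey, hstd⟩ := exists_idem_std (psiOf u v εGi εH) hN y
  obtain ⟨C, θ, hoi, hyr, hθe⟩ := exists_openImm_of_idem e he y hey
  refine ⟨C, θ, hoi, hyr, ?_⟩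
  -- standard form with bijective `φ` gives an isomorphism
  have hiso : ∀ (D : CommRingCat.{u}) (ϑ : B ⟶ D), Std (psiOf u v εGi εH) ϑ φ →
      Function.Bijective φ → IsoOver u (Spec.map ϑ ≫ v) := by
    intro D ϑ hs hφ
    have h3 : MonoOver (psiOf u v εGi εH) (Spec.map ϑ) :=
      monoOver_of_std (psiOf u v εGi εH) ϑ φ hs hφ.2
    have h3' : SurjOver (psiOf u v εGi εH) (Spec.map ϑ) :=
      surjOver_of_std (psiOf u v εGi εH) ϑ φ hs hφ
    have h2 : MonoOver u (Spec.map ϑ ≫ v) :=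
      monoOver_of_monoOver_psi u v εG εGi εH hG1 (Spec.map ϑ) h3
    have h2' : SurjOver u (Spec.map ϑ ≫ v) :=
      surjOver_of_surjOver_psi u v εGi εH εHi hH1 (Spec.map ϑ) h3'
    exact isIso_of_mono_surj u _ h2 h2'
  -- the key claim
  have key : ∀ y'' : Spec B, e ∉ y''.asIdeal → (v y'' ∈ ZsetI u ↔ Function.Bijective φ) := by
    intro y'' hy''
    let θ'' : B ⟶ CommRingCat.of y''.asIdeal.ResidueField :=
      CommRingCat.ofHom (algebraMap B y''.asIdeal.ResidueField)
    have h1 : θ''.hom e = 1 := by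
      have hid : IsIdempotentElem (algebraMap B y''.asIdeal.ResidueField e) :=
        he.map (algebraMap B y''.asIdeal.ResidueField)
      rcases (IsIdempotentElem.iff_eq_zero_or_one).1 hid with h0 | h1
      · exact absurd (Ideal.algebraMap_residueField_eq_zero.1 h0) hy''
      · exact h1
    have hstd'' : Std (psiOf u v εGi εH) θ'' φ := hstd _ θ'' h1
    obtain ⟨q, hqf, hqs, hq⟩ := exists_flat_surj_fac v y''
    constructor
    · intro hz
      have hz' : IsoOver u (S.fromSpecResidueField (v y'')) := hz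
      have h2 : IsoOver u (Spec.map θ'' ≫ v) := hz'.of_eq u q _ hq
      obtain ⟨hm, hs⟩ := h2.mono_surj u
      have h3 : MonoOver (psiOf u v εGi εH) (Spec.map θ'') :=
        monoOver_psi_of_monoOver u v εG εGi εH εHi hG2 hH1 (Spec.map θ'') hm
      have h3' : SurjOver (psiOf u v εGi εH) (Spec.map θ'') :=
        surjOver_psi_of_surjOver u v εG εGi εH εHi hG1 hH2 (Spec.map θ'') hs
      haveI : Nontrivial (CommRingCat.of y''.asIdeal.ResidueField) :=
        inferInstanceAs (Nontrivial y''.asIdeal.ResidueField)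
      exact ⟨injective_of_std (psiOf u v εGi εH) θ'' φ hstd'' h3',
        surjective_of_std (psiOf u v εGi εH) θ'' φ hstd'' h3⟩
    · intro hφ
      have h2 : IsoOver u (Spec.map θ'' ≫ v) := hiso _ θ'' hstd'' hφ
      have h4 : IsoOver u (q ≫ S.fromSpecResidueField (v y'')) := by
        rw [hq]; exact h2
      haveI : QuasiCompact q := inferInstance
      exact isIso_descend u _ q h4
  have hnot : ∀ y' : Spec C, e ∉ ((Spec.map θ) y').asIdeal := by
    intro y' h
    have h' : θ.hom e ∈ y'.asIdeal := h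
    rw [hθe] at h'
    exact y'.isPrime.ne_top ((Ideal.eq_top_iff_one _).2 h')
  by_cases hφ : Function.Bijective φ
  · left
    constructor
    · intro y'
      exact (key _ (hnot y')).2 hφ
    · exact hiso _ θ (hstd _ θ hθe) hφ
  · right
    intro y' h
    exact hφ ((key _ (hnot y')).1 h)

theorem local_altI {B : CommRingCat.{u}} (v : Spec B ⟶ S) {M N : Type} [AddCommGroup M]
    [AddCommGroup N] (hN : AddGroup.FG N)
    (isoG : Grp.mk (Red.bc v G) ≅ Grp.mk (Red.DS (Spec B) M))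
    (isoH : Grp.mk (Red.bc v H) ≅ Grp.mk (Red.DS (Spec B) N)) (y : Spec B) :
    ∃ (C : CommRingCat.{u}) (θ : B ⟶ C), IsOpenImmersion (Spec.map θ) ∧
      y ∈ Set.range (Spec.map θ).base ∧
      (((∀ y' : Spec C, v ((Spec.map θ) y') ∈ ZsetI u) ∧ IsoOver u (Spec.map θ ≫ v)) ∨
        (∀ y' : Spec C, v ((Spec.map θ) y') ∉ ZsetI u)) := by
  have hG1 : isoG.hom.hom.hom ≫ isoG.inv.hom.hom = 𝟙 _ := by
    have := congrArg (fun k => k.hom.hom) isoG.hom_inv_id
    exact this
  have hG2 : isoG.inv.hom.hom ≫ isoG.hom.hom.hom = 𝟙 _ := by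
    have := congrArg (fun k => k.hom.hom) isoG.inv_hom_id
    exact this
  have hH1 : isoH.hom.hom.hom ≫ isoH.inv.hom.hom = 𝟙 _ := by
    have := congrArg (fun k => k.hom.hom) isoH.hom_inv_id
    exact this
  have hH2 : isoH.inv.hom.hom ≫ isoH.hom.hom.hom = 𝟙 _ := by
    have := congrArg (fun k => k.hom.hom) isoH.inv_hom_id
    exact this
  haveI : IsMonHom ((Over.pullback v).map u) := isMonHom_map u v
  haveI : IsMonHom isoG.inv.hom.hom := inferInstance
  haveI : IsMonHom isoH.hom.hom.hom := inferInstance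
  haveI : IsMonHom (psiOf u v isoG.inv.hom.hom isoH.hom.hom.hom) := by
    show IsMonHom (isoG.inv.hom.hom ≫ (Over.pullback v).map u ≫ isoH.hom.hom.hom)
    infer_instance
  exact local_altI0 u v hN isoG.hom.hom.hom isoG.inv.hom.hom isoH.hom.hom.hom isoH.inv.hom.hom
    hG1 hG2 hH1 hH2 y

/-- a trivialising fpqc cover over an affine open on which the alternative holds locally -/
theorem exists_coverI (hG : SGA3x.IsMultTypeFT G) (hH : SGA3x.IsMultTypeFT H) (V : S.Opens)
    (hV : IsAffineOpen V) :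
    ∃ (P : Scheme.{u}) (p : P ⟶ S), Flat p ∧ Set.range p.base = (V : Set S) ∧ CompactSpace P ∧
      ∀ x : P, ∃ (C : CommRingCat.{u}) (w : Spec C ⟶ P), IsOpenImmersion w ∧
        x ∈ Set.range w.base ∧
        (((∀ y' : Spec C, p (w y') ∈ ZsetI u) ∧ IsoOver u (w ≫ p)) ∨
          (∀ y' : Spec C, p (w y') ∉ ZsetI u)) := by
  obtain ⟨P, p, hfl, hrange, hcomp, hloc⟩ :=
    Groth.Agent.Helper16.CoverTriv.exists_cover_triv G H hG hH V hV
  refine ⟨P, p, hfl, hrange, hcomp, ?_⟩
  intro x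
  obtain ⟨B, j, hj, ⟨y, hy⟩, ⟨M, iM, -, ⟨isoG⟩⟩, ⟨N, iN, hN, ⟨isoH⟩⟩⟩ := hloc x
  obtain ⟨C, θ, hoi, ⟨y₀, hy₀⟩, alt⟩ := local_altI u (j ≫ p) hN isoG isoH y
  haveI := hoi
  haveI := hj
  refine ⟨C, Spec.map θ ≫ j, inferInstance, ⟨y₀, ?_⟩, ?_⟩
  · show j ((Spec.map θ) y₀) = x
    rw [hy₀, hy]
  · rcases alt with ⟨h1, h2⟩ | h1
    · left
      refine ⟨fun y' => h1 y', ?_⟩
      rw [Category.assoc]
      exact h2
    · right
      exact fun y' => h1 y'

theorem isOpen_preimageI (hG : SGA3x.IsMultTypeFT G) (hH : SGA3x.IsMultTypeFT H) :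
    IsOpen (ZsetI u) ∧ IsOpen (ZsetI u)ᶜ := by
  constructor
  · apply Groth.Agent.Helper10.FpqcOpen.isOpen_of_fpqc_cover
    intro V hV
    obtain ⟨P, p, hfl, hrange, hcomp, hloc⟩ := exists_coverI u hG hH V hV
    refine ⟨P, p, hfl, hrange, hcomp, ?_⟩
    rw [isOpen_iff_forall_mem_open]
    intro x hx
    obtain ⟨C, w, hw, ⟨y, hy⟩, alt⟩ := hloc x
    refine ⟨Set.range w.base, ?_, hw.base_open.isOpen_range, ⟨y, hy⟩⟩
    rintro _ ⟨y', rfl⟩
    rcases alt with ⟨h1, -⟩ | h1
    · exact h1 y'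
    · exfalso
      apply h1 y
      rw [hy]
      exact hx
  · apply Groth.Agent.Helper10.FpqcOpen.isOpen_of_fpqc_cover
    intro V hV
    obtain ⟨P, p, hfl, hrange, hcomp, hloc⟩ := exists_coverI u hG hH V hV
    refine ⟨P, p, hfl, hrange, hcomp, ?_⟩
    rw [isOpen_iff_forall_mem_open]
    intro x hx
    obtain ⟨C, w, hw, ⟨y, hy⟩, alt⟩ := hloc x
    refine ⟨Set.range w.base, ?_, hw.base_open.isOpen_range, ⟨y, hy⟩⟩
    rintro _ ⟨y', rfl⟩
    rcases alt with ⟨h1, -⟩ | h1
    · exfalso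
      apply hx
      have := h1 y
      rw [hy] at this
      exact this
    · exact h1 y'

omit [GrpObj G] [GrpObj H] [IsMonHom u] in
/-- isomorphy can be checked on a compact flat cover of an affine open, locally on the cover -/
theorem cover_lemmaI {T P : Scheme.{u}} (t : T ⟶ S) (p : P ⟶ S) [Flat p] [CompactSpace P]
    (V : S.Opens) (hV : IsAffineOpen V) (hrange : Set.range p.base = (V : Set S))
    (ht : ∀ x : T, t x ∈ V)
    (h : ∀ x' : P, (∃ x : T, t x = p x') → ∃ (Y : Scheme.{u}) (w : Y ⟶ P),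
      IsOpenImmersion w ∧ x' ∈ Set.range w.base ∧ IsoOver u (w ≫ p)) : IsoOver u t := by
  haveI : IsAffine (V : Scheme.{u}) := hV
  have hsubp : Set.range p.base ⊆ Set.range V.ι.base := by
    rw [hrange, Scheme.Opens.range_ι]
  have hsubt : Set.range t.base ⊆ Set.range V.ι.base := by
    rw [Scheme.Opens.range_ι]
    rintro _ ⟨x, rfl⟩
    exact ht x
  let pV : P ⟶ (V : Scheme.{u}) := IsOpenImmersion.lift V.ι p hsubp
  have hpV : pV ≫ V.ι = p := IsOpenImmersion.lift_fac _ _ _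
  let tV : T ⟶ (V : Scheme.{u}) := IsOpenImmersion.lift V.ι t hsubt
  have htV : tV ≫ V.ι = t := IsOpenImmersion.lift_fac _ _ _
  haveI : Flat pV :=
    MorphismProperty.of_postcomp (W := @Flat) pV V.ι
      (inferInstance : IsOpenImmersion V.ι) (by rwa [hpV])
  haveI : Surjective pV := by
    refine ⟨fun y => ?_⟩
    have hy : V.ι.base y ∈ Set.range p.base := by
      rw [hrange]; exact y.2
    obtain ⟨x, hx⟩ := hy
    refine ⟨x, V.ι.isOpenEmbedding.injective ?_⟩
    rw [← hx, ← hpV]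
    rfl
  haveI : QuasiCompact pV :=
    (HasAffineProperty.iff_of_isAffine (P := @QuasiCompact)).mpr inferInstance
  let q : pullback tV pV ⟶ T := pullback.fst tV pV
  haveI : Flat q := inferInstance
  haveI : Surjective q := inferInstance
  haveI : QuasiCompact q := inferInstance
  apply isIso_descend u t q
  have hc : q ≫ t = pullback.snd tV pV ≫ p := by
    rw [← htV, ← hpV, ← Category.assoc, ← Category.assoc, pullback.condition]
  show IsoOver u (q ≫ t)
  rw [hc]
  apply isIso_of_local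
  intro z
  have hz : ∃ x : T, t x = p ((pullback.snd tV pV) z) := by
    refine ⟨(pullback.fst tV pV) z, ?_⟩
    have := congrArg (fun k => k.base z) hc
    exact this
  obtain ⟨Y, w, hw, hzw, hm⟩ := h _ hz
  let W' : (pullback tV pV).Opens := pullback.snd tV pV ⁻¹ᵁ w.opensRange
  refine ⟨W', hzw, ?_⟩
  have hrange' : Set.range (W'.ι ≫ pullback.snd tV pV).base ⊆ Set.range w.base := by
    rintro _ ⟨d, rfl⟩
    exact d.2
  let l : (W' : Scheme.{u}) ⟶ Y := IsOpenImmersion.lift w (W'.ι ≫ pullback.snd tV pV) hrange'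
  have hl : l ≫ w = W'.ι ≫ pullback.snd tV pV := IsOpenImmersion.lift_fac _ _ _
  refine hm.of_eq u l _ ?_
  rw [← Category.assoc, hl, Category.assoc]

theorem mainI (hG : SGA3x.IsMultTypeFT G) (hH : SGA3x.IsMultTypeFT H) :
    ∃ U : S.Opens, IsClosed (U : Set S) ∧
      (∀ s : S, s ∈ U ↔ IsIso ((Over.pullback (S.fromSpecResidueField s)).map u).left) ∧
      IsIso ((Over.pullback U.ι).map u).left := by
  obtain ⟨ho, hc⟩ := isOpen_preimageI u hG hH
  refine ⟨⟨ZsetI u, ho⟩, isOpen_compl_iff.1 hc, ?_, ?_⟩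
  · intro s
    exact Iff.rfl
  · apply isIso_of_local
    intro x
    obtain ⟨V, hV, hxV, -⟩ := exists_isAffineOpen_mem_and_subset
      (x := (Scheme.Opens.ι ⟨ZsetI u, ho⟩) x) (U := ⊤) trivial
    refine ⟨(Scheme.Opens.ι ⟨ZsetI u, ho⟩) ⁻¹ᵁ V, hxV, ?_⟩
    obtain ⟨P, p, hfl, hrange, hcomp, hloc⟩ := exists_coverI u hG hH V hV
    haveI := hfl
    haveI := hcomp
    apply cover_lemmaI u _ p V hV hrange
    · intro x₁
      exact x₁.2
    · rintro x' ⟨x₁, hx₁⟩
      obtain ⟨C, w, hw, ⟨y, hy⟩, alt⟩ := hloc x'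
      refine ⟨Spec C, w, hw, ⟨y, hy⟩, ?_⟩
      rcases alt with ⟨-, h2⟩ | h1
      · exact h2
      · exfalso
        apply h1 y
        rw [hy, ← hx₁]
        exact (x₁.1).2

end Groth.Agent.Helper7.ML
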