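import Mathlib
import Groth.Prelude.Def_Red
import Groth.Agent.Lib.Helper7.MLF

/-!
# A monomorphism of tori of the same rank is an isomorphism (helper7)
-/

set_option autoImplicit false
set_option linter.style.haveILetI false
set_option linter.unusedSectionVars false
universe u
open CategoryTheory CategoryTheory.Limits MonoidalCategory CartesianMonoidalCategory MonObj GrpObj
  AlgebraicGeometry

noncomputable section

namespace Groth.Agent.Helper7.ML

open Groth.Agent.Helper18 Groth.Agent.Helper18.MultToGa Groth.Agent.Helper7.MTRig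
  Groth.Agent.Helper7.GL Groth.Agent.Helper17.FieldPt Groth.Agent.Helper20.IsoBC

variable {S : Scheme.{u}} {G H : Over S} [GrpObj G] [GrpObj H] (u : G ⟶ H) [IsMonHom u]

omit [GrpObj G] [GrpObj H] [IsMonHom u] in
/-- standard form with bijective `φ` gives an isomorphism -/
theorem isoOver_of_std_bij {B : CommRingCat.{u}} (v : Spec B ⟶ S) {M N : Type} [AddCommGroup M]
    [AddCommGroup N]
    (εG : Red.bc v G ⟶ Red.DS (Spec B) M) (εGi : Red.DS (Spec B) M ⟶ Red.bc v G)
    (εH : Red.bc v H ⟶ Red.DS (Spec B) N) (εHi : Red.DS (Spec B) N ⟶ Red.bc v H)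
    (hG1 : εG ≫ εGi = 𝟙 _) (hH1 : εH ≫ εHi = 𝟙 _)
    {D : CommRingCat.{u}} (ϑ : B ⟶ D) (φ : Multiplicative N →* Multiplicative M)
    (hs : Std (psiOf u v εGi εH) ϑ φ) (hφ : Function.Bijective φ) :
    IsoOver u (Spec.map ϑ ≫ v) := by
  have h3 : MonoOver (psiOf u v εGi εH) (Spec.map ϑ) :=
    monoOver_of_std (psiOf u v εGi εH) ϑ φ hs hφ.2
  have h3' : SurjOver (psiOf u v εGi εH) (Spec.map ϑ) :=
    surjOver_of_std (psiOf u v εGi εH) ϑ φ hs hφ
  have h2 : MonoOver u (Spec.map ϑ ≫ v) :=
    monoOver_of_monoOver_psi u v εG εGi εH hG1 (Spec.map ϑ) h3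
  have h2' : SurjOver u (Spec.map ϑ ≫ v) :=
    surjOver_of_surjOver_psi u v εGi εH εHi hH1 (Spec.map ϑ) h3'
  exact isIso_of_mono_surj u _ h2 h2'

omit [GrpObj G] [GrpObj H] [IsMonHom u] in
theorem monoOver_of_mono [Mono u] {T : Scheme.{u}} (t : T ⟶ S) : MonoOver u t := by
  intro C σ _ g₁ g₂ hg
  exact (cancel_mono u).1 hg

/-- a surjective endomorphism of `ℤ^r` (written multiplicatively) is bijective -/
theorem bijective_of_surjective_fin (r : ℕ)
    (φ : Multiplicative (Fin r → ℤ) →* Multiplicative (Fin r → ℤ))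
    (hφ : Function.Surjective φ) : Function.Bijective φ := by
  refine ⟨?_, hφ⟩
  let ψ : (Fin r → ℤ) →ₗ[ℤ] (Fin r → ℤ) := (MonoidHom.toAdditive φ).toIntLinearMap
  have hs : Function.Surjective ψ := fun x => by
    obtain ⟨y, hy⟩ := hφ (Multiplicative.ofAdd x)
    exact ⟨Multiplicative.toAdd y, congrArg Multiplicative.toAdd hy⟩
  have hi : Function.Injective ψ := OrzechProperty.injective_of_surjective_endomorphism ψ hs
  intro a b hab
  have := hi (a₁ := Multiplicative.toAdd a) (a₂ := Multiplicative.toAdd b)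
    (congrArg Multiplicative.toAdd hab)
  exact congrArg Multiplicative.ofAdd this

/-- the fibre of a monomorphism of split tori of the same rank over an algebraically closed
(or any) field point is an isomorphism -/
theorem isoOver_field [Mono u] (K : Type u) [Field K] (v : Spec (CommRingCat.of K) ⟶ S) (r : ℕ)
    (isoG : Grp.mk (Red.bc v G) ≅ Grp.mk (Red.DS (Spec (CommRingCat.of K)) (Fin r → ℤ)))
    (isoH : Grp.mk (Red.bc v H) ≅ Grp.mk (Red.DS (Spec (CommRingCat.of K)) (Fin r → ℤ))) :
    IsoOver u v := by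
  have hG1 : isoG.hom.hom.hom ≫ isoG.inv.hom.hom = 𝟙 _ := by
    have := congrArg (fun k => k.hom.hom) isoG.hom_inv_id
    exact this
  have hG2 : isoG.inv.hom.hom ≫ isoG.hom.hom.hom = 𝟙 _ := by
    have := congrArg (fun k => k.hom.hom) isoG.inv_hom_id
    exact this
  have hH1 : isoH.hom.hom.hom ≫ isoH.inv.hom.hom = 𝟙 _ := by
    have := congrArg (fun k => k.hom.hom) isoH.hom_inv_id
    exact this
  haveI : IsMonHom ((Over.pullback v).map u) := isMonHom_map u v
  haveI : IsMonHom isoG.inv.hom.hom := inferInstance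
  haveI : IsMonHom isoH.hom.hom.hom := inferInstance
  haveI : IsMonHom (psiOf u v isoG.inv.hom.hom isoH.hom.hom.hom) := by
    show IsMonHom (isoG.inv.hom.hom ≫ (Over.pullback v).map u ≫ isoH.hom.hom.hom)
    infer_instance
  have hN : AddGroup.FG (Fin r → ℤ) := Module.Finite.iff_addGroup_fg.1 inferInstance
  let y : Spec (CommRingCat.of K) := IsLocalRing.closedPoint K
  obtain ⟨e, φ, he, hey, hstd⟩ :=
    exists_idem_std (psiOf u v isoG.inv.hom.hom isoH.hom.hom.hom) hN y
  have he1 : e = 1 := by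
    rcases (IsIdempotentElem.iff_eq_zero_or_one (G₀ := K)).1 he with h0 | h1
    · exfalso
      apply hey
      rw [h0]
      exact zero_mem _
    · exact h1
  have hs : Std (psiOf u v isoG.inv.hom.hom isoH.hom.hom.hom) (𝟙 (CommRingCat.of K)) φ :=
    hstd _ (𝟙 _) he1
  have hm : MonoOver u (Spec.map (𝟙 (CommRingCat.of K)) ≫ v) := monoOver_of_mono u _
  have hm' : MonoOver (psiOf u v isoG.inv.hom.hom isoH.hom.hom.hom)
      (Spec.map (𝟙 (CommRingCat.of K))) :=
    monoOver_psi_of_monoOver u v isoG.hom.hom.hom isoG.inv.hom.hom isoH.hom.hom.hom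
      isoH.inv.hom.hom hG2 hH1 _ hm
  haveI : Nontrivial (CommRingCat.of K) := inferInstanceAs (Nontrivial K)
  have hsurj : Function.Surjective φ :=
    surjective_of_std (psiOf u v isoG.inv.hom.hom isoH.hom.hom.hom) (𝟙 _) φ hs hm'
  have hbij := bijective_of_surjective_fin r φ hsurj
  have h := isoOver_of_std_bij u v isoG.hom.hom.hom isoG.inv.hom.hom isoH.hom.hom.hom
    isoH.inv.hom.hom hG1 hH1 (𝟙 _) φ hs hbij
  exact h.of_eq u (𝟙 _) v (by rw [Spec.map_id, Category.id_comp, Category.id_comp])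

omit [IsMonHom u] [GrpObj H] in
theorem isMultTypeFT_of_isTorus (hT : Red.IsTorus G) : SGA3x.IsMultTypeFT G := by
  obtain ⟨S', f, hfl, hsurj, hqc, hloc⟩ := hT
  refine ⟨S', f, hfl, hsurj, hqc, fun s' => ?_⟩
  obtain ⟨U, hU, r, h⟩ := hloc s'
  exact ⟨U, hU, Fin r → ℤ, inferInstance, Module.Finite.iff_addGroup_fg.1 inferInstance, h⟩

/-- a monomorphism of tori with the same rank function is an isomorphism -/
theorem isIso_of_mono_tori (hT : Red.IsTorus G) (hT' : Red.IsTorus H) [Mono u]
    (hrk : ∀ s : S, ∃ r : ℕ, Red.IsSplitTorusWith (Fin r → ℤ) (Red.geomFibre s G) ∧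
      Red.IsSplitTorusWith (Fin r → ℤ) (Red.geomFibre s H)) : IsIso u := by
  obtain ⟨U, hUc, hfib, hU⟩ :=
    mainI u (isMultTypeFT_of_isTorus hT) (isMultTypeFT_of_isTorus hT')
  have hall : ∀ s : S, s ∈ U := by
    intro s
    rw [hfib s]
    obtain ⟨r, ⟨isoG⟩, ⟨isoH⟩⟩ := hrk s
    have h1 : IsoOver u (Red.geomPt s) :=
      isoOver_field u (AlgebraicClosure (S.residueField s)) (Red.geomPt s) r isoG isoH
    obtain ⟨q, hqf, hqs, hq⟩ := exists_fac_of_field (AlgebraicClosure (S.residueField s))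
      (Red.geomPt s) s (by
        show (S.fromSpecResidueField s) _ = s
        exact Scheme.fromSpecResidueField_apply s _)
    haveI := hqf
    haveI := hqs
    haveI : QuasiCompact q := inferInstance
    have h4 : IsoOver u (q ≫ S.fromSpecResidueField s) := by
      rw [hq]; exact h1
    exact isIso_descend u _ q h4
  have h5 : IsoOver u (𝟙 S) := by
    apply isIso_of_local
    intro x
    refine ⟨U, hall x, ?_⟩
    have h6 : IsoOver u U.ι := hU
    exact h6.of_eq u (𝟙 _) _ (by rw [Category.id_comp, Category.comp_id])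
  haveI : IsIso ((Over.pullback (𝟙 S)).map u) := (isIso_iff_left _).2 h5
  have hnat := (Over.pullbackId (X := S)).hom.naturality u
  have e : u = inv ((Over.pullbackId (X := S)).hom.app G) ≫ (Over.pullback (𝟙 S)).map u ≫
      (Over.pullbackId (X := S)).hom.app H := by
    rw [hnat]
    simp
  rw [e]
  infer_instance

end Groth.Agent.Helper7.ML
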