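import Mathlib
import Groth.Prelude.Def_Red
import Groth.Agent.Lib.Helper7.MLG

/-!
# Maximal split subtori of a group of multiplicative type (helper7)
-/

set_option autoImplicit false
set_option linter.style.haveILetI false
set_option linter.unusedSectionVars false
universe u
open CategoryTheory CategoryTheory.Limits MonoidalCategory CartesianMonoidalCategory MonObj GrpObj
  AlgebraicGeometry

noncomputable section

namespace Groth.Agent.Helper7.ML

open Groth.Agent.Helper18 Groth.Agent.Helper18.MultToGa Groth.Agent.Helper7.MTRig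
  Groth.Agent.Helper7.GL Groth.Agent.Helper17.FieldPt Groth.Agent.Helper20.IsoBC

/-- base change of a split group is split -/
theorem nonempty_bc_of_split {S U' : Scheme.{u}} (g' : U' ⟶ S) (T : Over S) [GrpObj T] (M : Type)
    [AddCommGroup M] (e : Nonempty (Grp.mk T ≅ Grp.mk (Red.DS S M))) :
    Nonempty (Grp.mk (Red.bc g' T) ≅ Grp.mk (Red.DS U' M)) := by
  obtain ⟨iso⟩ := e
  let φ : T ⟶ Red.DS S M := iso.hom.hom.hom
  let φ' : Red.DS S M ⟶ T := iso.inv.hom.hom
  have h12 : φ ≫ φ' = 𝟙 _ := by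
    have := congrArg (fun k => k.hom.hom) iso.hom_inv_id
    exact this
  have h21 : φ' ≫ φ = 𝟙 _ := by
    have := congrArg (fun k => k.hom.hom) iso.inv_hom_id
    exact this
  haveI : IsMonHom φ := inferInstance
  let i₁ : Red.bc g' T ≅ Red.bc g' (Red.DS S M) :=
    ⟨(Over.pullback g').map φ, (Over.pullback g').map φ',
      by rw [← Functor.map_comp, h12]; exact CategoryTheory.Functor.map_id _ _,
      by rw [← Functor.map_comp, h21]; exact CategoryTheory.Functor.map_id _ _⟩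
  haveI : IsMonHom i₁.hom := isMonHom_map φ g'
  obtain ⟨i₂⟩ := nonempty_bc_DS g' M
  exact ⟨Grp.mkIso' i₁ ≪≫ i₂⟩

/-- a split group with finitely generated character group is of multiplicative type -/
theorem isMultTypeFT_of_split {S : Scheme.{u}} (T : Over S) [GrpObj T] (M : Type)
    [AddCommGroup M] (hM : AddGroup.FG M) (e : Nonempty (Grp.mk T ≅ Grp.mk (Red.DS S M))) :
    SGA3x.IsMultTypeFT T := by
  refine ⟨S, 𝟙 _, inferInstance, inferInstance, ?_, ?_⟩
  · intro V hV
    refine ⟨V, hV.isCompact, ?_⟩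
    simp
  · intro s'
    exact ⟨⊤, trivial, M, inferInstance, hM, nonempty_bc_of_split _ T M e⟩

/-- maps into `D(M)` for `M` trivial are unique -/
theorem hom_DS_subsingleton {U : Scheme.{u}} (M : Type) [AddCommGroup M] [Subsingleton M]
    {W : Over U} (a b : W ⟶ Red.DS U M) : a = b := by
  apply Over.OverMorphism.ext
  apply Groth.Agent.Helper7.Nil.hom_ext_of_local
  intro y
  obtain ⟨C, f, hf, hy, -⟩ :=
    Scheme.exists_affine_mem_range_and_range_subset (U := (⊤ : W.left.Opens)) (x := y) trivial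
  refine ⟨C, f, hf, hy, ?_⟩
  let τ : Spec C ⟶ U := f ≫ W.hom
  let r : Over.mk τ ⟶ W := Over.homMk f rfl
  show (r ≫ a).left = (r ≫ b).left
  congr 1
  rw [← pt_char τ (r ≫ a), ← pt_char τ (r ≫ b)]
  congr 1
  apply MonoidHom.ext
  intro m
  have hm : m = 1 := Multiplicative.toAdd.injective (Subsingleton.elim _ _)
  rw [hm, map_one, map_one]

/-- the trivial subtorus -/
theorem mono_trivial {S : Scheme.{u}} (G : Over S) [GrpObj G] :
    Mono (toUnit (Red.DS S (Fin 0 → ℤ)) ≫ η[G]) := by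
  constructor
  intro W a b _
  exact hom_DS_subsingleton (Fin 0 → ℤ) a b

theorem le_card_of_surjective {M : Type} [AddCommGroup M] (s : Finset M)
    (hs : AddSubgroup.closure (s : Set M) = ⊤) (r : ℕ)
    (φ : Multiplicative M →* Multiplicative (Fin r → ℤ)) (hφ : Function.Surjective φ) :
    r ≤ s.card := by
  classical
  let φa : M →+ (Fin r → ℤ) := MonoidHom.toAdditive φ
  have hφa : Function.Surjective φa := fun x => by
    obtain ⟨y, hy⟩ := hφ (Multiplicative.ofAdd x)
    exact ⟨Multiplicative.toAdd y, congrArg Multiplicative.toAdd hy⟩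
  let t : Finset (Fin r → ℤ) := s.image φa
  have ht : Submodule.span ℤ (t : Set (Fin r → ℤ)) = ⊤ := by
    have h1 : AddSubgroup.closure (t : Set (Fin r → ℤ)) = ⊤ := by
      have h0 : (t : Set (Fin r → ℤ)) = φa '' (s : Set M) := by simp [t]
      rw [h0, ← AddMonoidHom.map_closure, hs]
      exact AddSubgroup.map_top_of_surjective φa hφa
    apply Submodule.toAddSubgroup_injective
    rw [Submodule.span_int_eq_addSubgroupClosure, h1]
    rfl
  calc r = Module.finrank ℤ (Fin r → ℤ) := (Module.finrank_fin_fun ℤ).symm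
    _ = Module.finrank ℤ (⊤ : Submodule ℤ (Fin r → ℤ)) := (finrank_top ℤ (Fin r → ℤ)).symm
    _ = Module.finrank ℤ (Submodule.span ℤ (t : Set (Fin r → ℤ))) := by rw [ht]
    _ ≤ t.card := finrank_span_finset_le_card t
    _ ≤ s.card := Finset.card_image_le

/-- a split subtorus of rank `r` of a group trivialised with character group `M` over `Spec B`
gives a surjection `M → ℤ^r` -/
theorem exists_surj_of_mono_split {S : Scheme.{u}} {G : Over S} [GrpObj G] {B : CommRingCat.{u}}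
    (v : Spec B ⟶ S) (y : Spec B) {M : Type} [AddCommGroup M] (hM : AddGroup.FG M)
    (isoG : Grp.mk (Red.bc v G) ≅ Grp.mk (Red.DS (Spec B) M))
    (T : Over S) [GrpObj T] (j : T ⟶ G) [IsMonHom j] [Mono j] (r : ℕ)
    (hT : Red.IsSplitTorusWith (Fin r → ℤ) T) :
    ∃ φ : Multiplicative M →* Multiplicative (Fin r → ℤ), Function.Surjective φ := by
  obtain ⟨isoT⟩ := nonempty_bc_of_split v T (Fin r → ℤ) hT
  have hT2 : isoT.inv.hom.hom ≫ isoT.hom.hom.hom = 𝟙 _ := by
    have := congrArg (fun k => k.hom.hom) isoT.inv_hom_id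
    exact this
  have hG1 : isoG.hom.hom.hom ≫ isoG.inv.hom.hom = 𝟙 _ := by
    have := congrArg (fun k => k.hom.hom) isoG.hom_inv_id
    exact this
  haveI : IsMonHom ((Over.pullback v).map j) := isMonHom_map j v
  haveI : IsMonHom isoT.inv.hom.hom := inferInstance
  haveI : IsMonHom isoG.hom.hom.hom := inferInstance
  haveI : IsMonHom (psiOf j v isoT.inv.hom.hom isoG.hom.hom.hom) := by
    show IsMonHom (isoT.inv.hom.hom ≫ (Over.pullback v).map j ≫ isoG.hom.hom.hom)
    infer_instance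
  obtain ⟨e, φ, he, hey, hstd⟩ :=
    exists_idem_std (psiOf j v isoT.inv.hom.hom isoG.hom.hom.hom) hM y
  let θ'' : B ⟶ CommRingCat.of y.asIdeal.ResidueField :=
    CommRingCat.ofHom (algebraMap B y.asIdeal.ResidueField)
  have h1 : θ''.hom e = 1 := by
    have hid : IsIdempotentElem (algebraMap B y.asIdeal.ResidueField e) :=
      he.map (algebraMap B y.asIdeal.ResidueField)
    rcases (IsIdempotentElem.iff_eq_zero_or_one).1 hid with h0 | h1
    · exact absurd (Ideal.algebraMap_residueField_eq_zero.1 h0) hey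
    · exact h1
  have hs'' : Std (psiOf j v isoT.inv.hom.hom isoG.hom.hom.hom) θ'' φ := hstd _ θ'' h1
  have hm : MonoOver j (Spec.map θ'' ≫ v) := monoOver_of_mono j _
  have hm' : MonoOver (psiOf j v isoT.inv.hom.hom isoG.hom.hom.hom) (Spec.map θ'') :=
    monoOver_psi_of_monoOver j v isoT.hom.hom.hom isoT.inv.hom.hom isoG.hom.hom.hom
      isoG.inv.hom.hom hT2 hG1 _ hm
  haveI : Nontrivial (CommRingCat.of y.asIdeal.ResidueField) :=
    inferInstanceAs (Nontrivial y.asIdeal.ResidueField)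
  exact ⟨φ, surjective_of_std (psiOf j v isoT.inv.hom.hom isoG.hom.hom.hom) θ'' φ hs'' hm'⟩

/-- the rank of a split subtorus is bounded -/
theorem exists_rank_bound {S : Scheme.{u}} [Nonempty S] {G : Over S} [GrpObj G]
    (hG : SGA3x.IsMultTypeFT G) :
    ∃ n : ℕ, ∀ (T : Over S) [GrpObj T] (j : T ⟶ G) [IsMonHom j] [Mono j] (r : ℕ),
      Red.IsSplitTorusWith (Fin r → ℤ) T → r ≤ n := by
  obtain ⟨S', f, hfl, hsurj, hqc, hloc⟩ := hG
  obtain ⟨s₀⟩ := ‹Nonempty S›
  obtain ⟨s', hs'⟩ := hsurj.surj s₀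
  obtain ⟨U, hU, M, iM, hM, eG⟩ := hloc s'
  obtain ⟨B, k, hk, ⟨y, hy⟩, -⟩ := Scheme.exists_affine_mem_range_and_range_subset
    (U := (⊤ : (U : Scheme.{u}).Opens)) (x := (⟨s', hU⟩ : (U : Scheme.{u}))) trivial
  let v : Spec B ⟶ S := k ≫ U.ι ≫ f
  obtain ⟨isoG⟩ := Groth.Agent.Helper7.TwoGrp.nonempty_triv_bc (g := U.ι ≫ f) k v rfl G M eG
  obtain ⟨s, hs⟩ := AddGroup.fg_def.1 hM
  refine ⟨s.card, ?_⟩
  intro T _ j _ _ r hT
  obtain ⟨φ, hφ⟩ := exists_surj_of_mono_split v y hM isoG T j r hT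
  exact le_card_of_surjective s hs r φ hφ

/-- a split torus of rank `r` embedded in a split torus of rank `r'` has `r ≤ r'` -/
theorem rank_le_of_mono_split {S : Scheme.{u}} [Nonempty S] {T T' : Over S} [GrpObj T] [GrpObj T']
    (g : T ⟶ T') [IsMonHom g] [Mono g] (r r' : ℕ)
    (hT : Red.IsSplitTorusWith (Fin r → ℤ) T) (hT' : Red.IsSplitTorusWith (Fin r' → ℤ) T') :
    r ≤ r' := by
  obtain ⟨s₀⟩ := ‹Nonempty S›
  obtain ⟨B, v, hv, ⟨y, hy⟩, -⟩ := Scheme.exists_affine_mem_range_and_range_subset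
    (U := (⊤ : S.Opens)) (x := s₀) trivial
  obtain ⟨isoG⟩ := nonempty_bc_of_split v T' (Fin r' → ℤ) hT'
  have hM : AddGroup.FG (Fin r' → ℤ) := Module.Finite.iff_addGroup_fg.1 inferInstance
  obtain ⟨φ, hφ⟩ := exists_surj_of_mono_split v y hM isoG T g r hT
  let ψ : (Fin r' → ℤ) →ₗ[ℤ] (Fin r → ℤ) := (MonoidHom.toAdditive φ).toIntLinearMap
  have hs : Function.Surjective ψ := fun x => by
    obtain ⟨z, hz⟩ := hφ (Multiplicative.ofAdd x)
    exact ⟨Multiplicative.toAdd z, congrArg Multiplicative.toAdd hz⟩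
  have h := LinearMap.finrank_le_finrank_of_surjective hs
  rwa [Module.finrank_fin_fun, Module.finrank_fin_fun] at h

theorem isMonHom_of_comp_mono {S : Scheme.{u}} {A B C : Over S} [GrpObj A] [GrpObj B] [GrpObj C]
    (g : A ⟶ B) (j' : B ⟶ C) [IsMonHom j'] [Mono j'] (h : IsMonHom (g ≫ j')) : IsMonHom g := by
  refine @Groth.Agent.Helper7.TwoGrp.isMonHom_of_mul_points _ _ _ inferInstance inferInstance g ?_
  intro W a b
  rw [← cancel_mono j', Category.assoc, MonObj.mul_comp _ _ (g ≫ j'), MonObj.mul_comp _ _ j',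
    Category.assoc, Category.assoc]

theorem isTorus_of_split {S : Scheme.{u}} (T : Over S) [GrpObj T] (r : ℕ)
    (e : Red.IsSplitTorusWith (Fin r → ℤ) T) : Red.IsTorus T := by
  refine ⟨S, 𝟙 _, inferInstance, inferInstance, ?_, ?_⟩
  · intro V hV
    refine ⟨V, hV.isCompact, ?_⟩
    simp
  · intro s'
    exact ⟨⊤, trivial, r, nonempty_bc_of_split _ T _ e⟩

theorem hom_ext_of_isEmpty {S : Scheme.{u}} [IsEmpty S] {X Y : Over S} (a b : X ⟶ Y) : a = b := by
  apply Over.OverMorphism.ext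
  haveI : IsEmpty X.left := Function.isEmpty X.hom.base
  exact (isInitialOfIsEmpty (X := X.left)).hom_ext _ _

/-- existence of a maximal split subtorus -/
theorem exists_maximal_split {S : Scheme.{u}} {G : Over S} [GrpObj G]
    (hG : SGA3x.IsMultTypeFT G) :
    ∃ (T : Over S) (_ : GrpObj T) (j : T ⟶ G) (r : ℕ), IsMonHom j ∧ Mono j ∧
      Red.IsSplitTorusWith (Fin r → ℤ) T ∧
      ∀ (T' : Over S) [GrpObj T'] (j' : T' ⟶ G) [IsMonHom j'] [Mono j'] (r' : ℕ) (g : T ⟶ T'),
        Red.IsSplitTorusWith (Fin r' → ℤ) T' → g ≫ j' = j → IsIso g := by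
  by_cases hS : Nonempty S
  · obtain ⟨n, hn⟩ := exists_rank_bound hG
    let P : ℕ → Prop := fun r => ∃ (T : Over S) (_ : GrpObj T) (j : T ⟶ G), IsMonHom j ∧ Mono j ∧
      Red.IsSplitTorusWith (Fin r → ℤ) T
    have hP0 : P 0 := ⟨Red.DS S (Fin 0 → ℤ), inferInstance, toUnit _ ≫ η[G], inferInstance,
      mono_trivial G, ⟨Iso.refl _⟩⟩
    obtain ⟨r, hr, hmax⟩ : ∃ r, P r ∧ ∀ r', P r' → r' ≤ r := by
      classical
      refine ⟨Nat.findGreatest P n, Nat.findGreatest_spec (Nat.zero_le n) hP0, ?_⟩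
      intro r' hr'
      obtain ⟨T', i', j', h1, h2, h3⟩ := hr'
      have hle : r' ≤ n := @hn T' i' j' h1 h2 r' h3
      exact Nat.le_findGreatest hle ⟨T', i', j', h1, h2, h3⟩
    obtain ⟨T, iT, j, hj1, hj2, hTs⟩ := hr
    refine ⟨T, iT, j, r, hj1, hj2, hTs, ?_⟩
    intro T' _ j' _ _ r' g hT' hg
    haveI : Mono (g ≫ j') := by rw [hg]; exact hj2
    haveI : Mono g := mono_of_mono g j'
    haveI : IsMonHom g := isMonHom_of_comp_mono g j' (by rw [hg]; exact hj1)
    have h1 : r' ≤ r := hmax r' ⟨T', inferInstance, j', inferInstance, inferInstance, hT'⟩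
    have h2 : r ≤ r' := rank_le_of_mono_split g r r' hTs hT'
    have h3 : r' = r := le_antisymm h1 h2
    subst h3
    exact isIso_of_mono_tori g (isTorus_of_split T r' hTs) (isTorus_of_split T' r' hT')
      (fun s => ⟨r', nonempty_bc_of_split (Red.geomPt s) T _ hTs,
        nonempty_bc_of_split (Red.geomPt s) T' _ hT'⟩)
  · haveI : IsEmpty S := not_nonempty_iff.1 hS
    refine ⟨Red.DS S (Fin 0 → ℤ), inferInstance, toUnit _ ≫ η[G], 0, inferInstance,
      mono_trivial G, ⟨Iso.refl _⟩, ?_⟩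
    intro T' _ j' _ _ r' g hT' hg
    exact ⟨toUnit T' ≫ η[Red.DS S (Fin 0 → ℤ)], hom_ext_of_isEmpty _ _, hom_ext_of_isEmpty _ _⟩

end Groth.Agent.Helper7.ML
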