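import Mathlib
import Groth.Prelude
import Groth.Agent.Lib.Helper7.MLProj2
import Groth.Agent.S1198
import Groth.Agent.S1200

/-!
# Projectivity of flat modules over complete Noetherian rings via fibres (helper7)
-/

set_option autoImplicit false

universe u

open TensorProduct Pointwise

namespace Groth.Agent.Helper7.MLProj

variable {R : Type u} [CommRing R]

/-- A finite type algebra is countably generated as a module. -/
theorem ctbl_of_finiteType (S : Type u) [CommRing S] [Algebra R S] [Algebra.FiniteType R S] :
    CAlg.IsCountablyGenerated R S := by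
  obtain ⟨n, f, hf⟩ := Algebra.FiniteType.iff_quotient_mvPolynomial''.mp
    (inferInstance : Algebra.FiniteType R S)
  refine ctbl_of_surjective f.toLinearMap hf ?_
  refine ⟨Set.range (MvPolynomial.basisMonomials (Fin n) R), Set.countable_range _, ?_⟩
  exact (MvPolynomial.basisMonomials (Fin n) R).span_eq

/-- A finite module over a countably generated algebra is countably generated over the base. -/
theorem ctbl_of_finite_of_ctbl (S : Type u) [CommRing S] [Algebra R S]
    (hS : CAlg.IsCountablyGenerated R S) (N : Type u) [AddCommGroup N] [Module S N] [Module R N]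
    [IsScalarTower R S N] [Module.Finite S N] : CAlg.IsCountablyGenerated R N := by
  obtain ⟨s, hs, hspan⟩ := hS
  obtain ⟨t, ht⟩ := (Module.Finite.fg_top : (⊤ : Submodule S N).FG)
  refine ⟨s • (t : Set N), ?_, ?_⟩
  · exact hs.image2 t.countable_toSet _
  · rw [Submodule.span_smul_of_span_eq_top hspan, ht]
    rfl

/-- `lTensor`-universal injectivity implies `rTensor`-universal injectivity. -/
theorem univInj_rTensor_of_lTensor {M N : Type u} [AddCommGroup M] [Module R M] [AddCommGroup N]
    [Module R N] (f : M →ₗ[R] N) (hf : FlatCA.UnivInj R f) : CAlgX.UniversallyInjective R f := by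
  intro Q _ _
  have : f.rTensor Q = (TensorProduct.comm R Q N).toLinearMap ∘ₗ f.lTensor Q ∘ₗ
      (TensorProduct.comm R M Q).toLinearMap := by
    refine TensorProduct.ext' fun m q => ?_
    simp
  rw [this]
  exact (TensorProduct.comm R Q N).injective.comp ((hf Q).comp (TensorProduct.comm R M Q).injective)

theorem main {S : Type u} [CommRing S] [Algebra R S] [IsNoetherianRing R] (I : Ideal R)
    [IsAdicComplete I R] [Algebra.FiniteType R S]
    (N : Type u) [AddCommGroup N] [Module S N] [Module R N] [IsScalarTower R S N] [Module.Finite S N]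
    [Module.Flat R N] [Module.Projective (R ⧸ I) (N ⧸ (I • ⊤ : Submodule R N))]
    (h : ∀ (p : Ideal R) (q : Ideal S) [p.IsPrime] [q.IsPrime] [q.LiesOver p],
      FlatCA.fiberIdeal p q ∈ associatedPrimes (p.Fiber S) (FlatCA.fiberMod p S N) →
        I.map (algebraMap R S) ⊔ q ≠ ⊤) :
    Module.Projective R N := by
  have : IsNoetherianRing S := Algebra.FiniteType.isNoetherianRing R S
  have h1 := Groth.Agent.S1200.result (R := R) (S := S) I N h
  obtain ⟨_, h2⟩ := Groth.Agent.S1198.result R I N
  have h3 : CAlg.IsMittagLeffler R N :=
    Groth.Agent.S6338.result R _ (univInj_rTensor_of_lTensor _ h1) h2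
  exact projective_of_countable_flat_ML h3 (ctbl_of_finite_of_ctbl S (ctbl_of_finiteType S) N)

end Groth.Agent.Helper7.MLProj
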