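import Mathlib
open CategoryTheory CategoryTheory.Limits
universe u

namespace Groth.Agent.Helper7.ModColim

variable {A : Type u} [CommRing A] {J : Type u} [Preorder J] [IsDirected J (· ≤ ·)] [Nonempty J]
  (N : J ⥤ ModuleCat.{u} A)

/-- an element vanishing in the colimit vanishes at a later stage -/
theorem exists_map_eq_zero {k : J} (m : N.obj k) (hm : (colimit.ι N k).hom m = 0) :
    ∃ (l : J) (h : k ≤ l), (N.map (homOfLE h)).hom m = 0 := by
  have h0 : (colimit.ι N k) m = (colimit.ι N k) (0 : N.obj k) := by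
    rw [map_zero]; exact hm
  obtain ⟨l, f, g, hfg⟩ := (Concrete.colimit_rep_eq_iff_exists (F := N) m (0 : N.obj k)).1 h0
  refine ⟨l, leOfHom f, ?_⟩
  have : (N.map f) m = 0 := by rw [hfg, map_zero]
  exact this

theorem exists_map_eq_map {k : J} (m m' : N.obj k)
    (hm : (colimit.ι N k).hom m = (colimit.ι N k).hom m') :
    ∃ (l : J) (h : k ≤ l), (N.map (homOfLE h)).hom m = (N.map (homOfLE h)).hom m' := by
  obtain ⟨l, h, hl⟩ := exists_map_eq_zero N (m - m') (by rw [map_sub, hm, sub_self])
  exact ⟨l, h, by rwa [map_sub, sub_eq_zero] at hl⟩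

/-- finitely many elements -/
theorem exists_forall_map_eq_map {k : J} {ι : Type*} (s : Finset ι) (a b : ι → N.obj k)
    (h : ∀ i ∈ s, (colimit.ι N k).hom (a i) = (colimit.ι N k).hom (b i)) :
    ∃ (l : J) (hl : k ≤ l), ∀ i ∈ s, (N.map (homOfLE hl)).hom (a i) = (N.map (homOfLE hl)).hom (b i) := by
  classical
  induction s using Finset.induction_on with
  | empty => exact ⟨k, le_rfl, by simp⟩
  | insert x s hx ih =>
    obtain ⟨l₁, h₁, H₁⟩ := ih (fun i hi => h i (Finset.mem_insert_of_mem hi))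
    obtain ⟨l₂, h₂, H₂⟩ := exists_map_eq_map N (a x) (b x) (h x (Finset.mem_insert_self _ _))
    obtain ⟨l, hl₁, hl₂⟩ := exists_ge_ge l₁ l₂
    refine ⟨l, h₁.trans hl₁, ?_⟩
    intro i hi
    rw [Finset.mem_insert] at hi
    have e1 : N.map (homOfLE (h₁.trans hl₁)) = N.map (homOfLE h₁) ≫ N.map (homOfLE hl₁) := by
      rw [← N.map_comp]; rfl
    have e2 : N.map (homOfLE (h₁.trans hl₁)) = N.map (homOfLE h₂) ≫ N.map (homOfLE hl₂) := by
      rw [← N.map_comp]; rfl
    rcases hi with rfl | hi
    · rw [e2]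
      simp only [ModuleCat.hom_comp, LinearMap.comp_apply]
      rw [H₂]
    · rw [e1]
      simp only [ModuleCat.hom_comp, LinearMap.comp_apply]
      rw [H₁ i hi]

variable (M : ModuleCat.{u} A)

theorem ι_coyoneda_eq {k l : J} (h : k ≤ l) (f : M ⟶ N.obj k) :
    colimit.ι (N ⋙ coyoneda.obj (Opposite.op M)) k f =
      colimit.ι (N ⋙ coyoneda.obj (Opposite.op M)) l (f ≫ N.map (homOfLE h)) := by
  have := ConcreteCategory.congr_hom (colimit.w (N ⋙ coyoneda.obj (Opposite.op M)) (homOfLE h)) f
  rw [types_comp_apply] at this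
  exact this.symm

theorem post_ι_apply {k : J} (f : M ⟶ N.obj k) :
    colimit.post N (coyoneda.obj (Opposite.op M))
      (colimit.ι (N ⋙ coyoneda.obj (Opposite.op M)) k f) = f ≫ colimit.ι N k := by
  have := ConcreteCategory.congr_hom (colimit.ι_post N (coyoneda.obj (Opposite.op M)) k) f
  rw [types_comp_apply] at this
  exact this

theorem injective_post [Module.Finite A M] :
    Function.Injective (colimit.post N (coyoneda.obj (Opposite.op M))) := by
  intro x y hxy
  obtain ⟨i, f, rfl⟩ := Types.jointly_surjective' x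
  obtain ⟨j, g, rfl⟩ := Types.jointly_surjective' y
  obtain ⟨k, hik, hjk⟩ := exists_ge_ge i j
  rw [ι_coyoneda_eq N M hik f, ι_coyoneda_eq N M hjk g] at hxy ⊢
  set f' := f ≫ N.map (homOfLE hik)
  set g' := g ≫ N.map (homOfLE hjk)
  rw [post_ι_apply, post_ι_apply] at hxy
  obtain ⟨s, hs⟩ := (Module.finite_def.1 (inferInstance : Module.Finite A M))
  obtain ⟨l, hl, H⟩ := exists_forall_map_eq_map N s (fun m : M => f'.hom m) (fun m => g'.hom m)
    (fun m _ => by
      have := congr($hxy m)
      exact this)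
  rw [ι_coyoneda_eq N M hl f', ι_coyoneda_eq N M hl g']
  congr 1
  apply ModuleCat.hom_ext
  apply LinearMap.ext_on hs
  intro m hm
  exact H m hm

/-- common representatives for finitely many elements of the colimit -/
theorem exists_common_rep {n : ℕ} (x : Fin n → (colimit N : ModuleCat.{u} A)) :
    ∃ (k : J) (y : Fin n → N.obj k), ∀ a, (colimit.ι N k).hom (y a) = x a := by
  induction n with
  | zero => exact ⟨Classical.arbitrary J, fun a => a.elim0, fun a => a.elim0⟩
  | succ n ih =>
    obtain ⟨k₁, y₁, h₁⟩ := ih (fun a => x a.succ)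
    obtain ⟨k₂, y₂, h₂⟩ := Concrete.colimit_exists_rep N (x 0)
    obtain ⟨k, hk₁, hk₂⟩ := exists_ge_ge k₁ k₂
    refine ⟨k, Fin.cons ((N.map (homOfLE hk₂)).hom y₂) (fun a => (N.map (homOfLE hk₁)).hom (y₁ a)),
      ?_⟩
    intro a
    refine Fin.cases ?_ (fun a => ?_) a
    · rw [Fin.cons_zero]
      have := ConcreteCategory.congr_hom (colimit.w N (homOfLE hk₂)) y₂
      rw [← h₂]
      exact this
    · rw [Fin.cons_succ]
      have := ConcreteCategory.congr_hom (colimit.w N (homOfLE hk₁)) (y₁ a)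
      rw [← h₁ a]
      exact this

theorem surjective_post [Module.FinitePresentation A M] :
    Function.Surjective (colimit.post N (coyoneda.obj (Opposite.op M))) := by
  intro (h : M ⟶ colimit N)
  obtain ⟨n, m, f, g, hf, hfg⟩ := Module.FinitePresentation.exists_fin' A M
  let H : (Fin n → A) →ₗ[A] (colimit N : ModuleCat.{u} A) := h.hom ∘ₗ f
  obtain ⟨k, y, hy⟩ := exists_common_rep N (fun a => H (Pi.basisFun A (Fin n) a))
  let φ : (Fin n → A) →ₗ[A] N.obj k := (Pi.basisFun A (Fin n)).constr A y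
  have hφ : (colimit.ι N k).hom ∘ₗ φ = H := by
    apply (Pi.basisFun A (Fin n)).ext
    intro a
    simp only [LinearMap.comp_apply, φ, Module.Basis.constr_basis]
    exact hy a
  have hr : ∀ b : Fin m, (colimit.ι N k).hom (φ (g (Pi.basisFun A (Fin m) b))) =
      (colimit.ι N k).hom (0 : N.obj k) := by
    intro b
    have := congr($hφ (g (Pi.basisFun A (Fin m) b)))
    rw [LinearMap.comp_apply] at this
    rw [this, map_zero]
    simp only [H, LinearMap.comp_apply]
    rw [hfg.apply_apply_eq_zero, map_zero]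
  obtain ⟨l, hl, Hl⟩ := exists_forall_map_eq_map N (Finset.univ : Finset (Fin m))
    (fun b => φ (g (Pi.basisFun A (Fin m) b))) (fun _ => 0) (fun b _ => hr b)
  let φl : (Fin n → A) →ₗ[A] N.obj l := (N.map (homOfLE hl)).hom ∘ₗ φ
  have hφlg : φl ∘ₗ g = 0 := by
    apply (Pi.basisFun A (Fin m)).ext
    intro b
    simp only [LinearMap.comp_apply, φl, LinearMap.zero_apply]
    rw [Hl b (Finset.mem_univ _), map_zero]
  have hle : LinearMap.ker f ≤ LinearMap.ker φl := by
    rw [(LinearMap.exact_iff.1 hfg)]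
    rintro _ ⟨z, rfl⟩
    exact congr($hφlg z)
  let e := LinearMap.quotKerEquivOfSurjective f hf
  let ψ : M →ₗ[A] N.obj l := (LinearMap.ker f).liftQ φl hle ∘ₗ e.symm.toLinearMap
  have hψ : ∀ x, ψ (f x) = φl x := by
    intro x
    have : e.symm (f x) = (LinearMap.ker f).mkQ x := by
      rw [LinearEquiv.symm_apply_eq]
      simp [e]
    simp only [ψ, LinearMap.comp_apply, LinearEquiv.coe_coe, this, Submodule.mkQ_apply,
      Submodule.liftQ_apply]
  refine ⟨colimit.ι (N ⋙ coyoneda.obj (Opposite.op M)) l (ModuleCat.ofHom ψ), ?_⟩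
  rw [post_ι_apply]
  apply ModuleCat.hom_ext
  apply LinearMap.ext
  intro z
  obtain ⟨x, rfl⟩ := hf z
  simp only [ModuleCat.hom_comp, ModuleCat.hom_ofHom, LinearMap.comp_apply, hψ, φl]
  have e1 := ConcreteCategory.congr_hom (colimit.w N (homOfLE hl)) (φ x)
  have e2 := congr($hφ x)
  rw [LinearMap.comp_apply] at e2
  exact e1.trans e2

theorem bijective_post [Module.FinitePresentation A M] :
    Function.Bijective (colimit.post N (coyoneda.obj (Opposite.op M))) :=
  ⟨injective_post N M, surjective_post N M⟩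

end Groth.Agent.Helper7.ModColim
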