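import Mathlib
import Groth.Prelude.Def_CInt
import Groth.Prelude.Def_AlgSp
import Groth.Prelude.Def_AlgSp3
import Groth.Agent.Lib.Helper15.AlgSpBasic

/-!
# The Néron mapping property passes from smooth schemes to smooth algebraic spaces

(uses helper15's `AlgSpBasic`; `exists_desc_of_epi` is a copy of helper15's `AffDesc.exists_desc_of_epi`
to avoid a long import chain)
-/

set_option autoImplicit false
set_option linter.style.haveILetI false
set_option linter.unusedSectionVars false

universe u
open CategoryTheory CategoryTheory.Limits AlgebraicGeometry Opposite AlgSp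

namespace Groth.Agent.Helper7.NMPSp

variable {S : Scheme.{u}}

theorem exists_desc_of_epi {A G H : Sp S} (f : A ⟶ G) [Epi f] (h : A ⟶ H)
    (hk : ∀ (X : Over S) (x y : (yon S).obj X ⟶ A), x ≫ f = y ≫ f → x ≫ h = y ≫ h) :
    ∃ γ : G ⟶ H, f ≫ γ = h := by
  haveI : IsRegularEpi f := IsRegularEpiCategory.regularEpiOfEpi f
  haveI : EffectiveEpi f := (isRegularEpi_iff_effectiveEpi f).1 inferInstance
  have hcond : ∀ {Z : Sp S} (g₁ g₂ : Z ⟶ A), g₁ ≫ f = g₂ ≫ f → g₁ ≫ h = g₂ ≫ h := by
    intro Z g₁ g₂ hg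
    apply Groth.Agent.Helper15.hom_ext_yon
    intro T z
    rw [← Category.assoc, ← Category.assoc]
    apply hk
    rw [Category.assoc, Category.assoc, hg]
  exact ⟨EffectiveEpi.desc f h hcond, EffectiveEpi.fac f h hcond⟩

theorem epi_of_etale_surjective {F G : Sp S} (a : F ⟶ G) (h1 : RepWith @Etale a)
    (h2 : RepWith @Surjective a) : Epi a := by
  haveI := Groth.Agent.Helper15.isLocallySurjective_of_repWith a
    (Groth.Agent.Helper15.repWith_mono
      (fun _ _ f (hf : Etale f) => (inferInstance : Flat f)) h1)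
    (Groth.Agent.Helper15.repWith_mono
      (fun _ _ f (hf : Etale f) => (inferInstance : LocallyOfFinitePresentation f)) h1) h2
  exact Sheaf.epi_of_isLocallySurjective a

theorem isPullback_prod_map {C : Type*} [Category C] [HasBinaryProducts C] {A B : C} (Z : C)
    (p : A ⟶ B) : IsPullback (prod.map p (𝟙 Z)) prod.fst prod.fst p := by
  refine ⟨⟨prod.map_fst _ _⟩, ⟨PullbackCone.IsLimit.mk _
    (fun s => prod.lift s.snd (s.fst ≫ prod.snd)) ?_ ?_ ?_⟩⟩
  · intro s
    apply prod.hom_ext
    · rw [Category.assoc, prod.map_fst, ← Category.assoc, prod.lift_fst, s.condition]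
    · rw [Category.assoc, prod.map_snd, Category.comp_id, prod.lift_snd]
  · intro s
    exact prod.lift_fst _ _
  · intro s m h1 h2
    apply prod.hom_ext
    · rw [prod.lift_fst]
      exact h2
    · rw [prod.lift_snd, ← h1, Category.assoc, prod.map_snd, Category.comp_id]

theorem hom_top_ext {F : Sp S} (a b : F ⟶ (yon S).obj (Over.mk (𝟙 S))) : a = b := by
  have t : IsTerminal ((yon S).obj (Over.mk (𝟙 S))) :=
    IsTerminal.isTerminalObj (yon S) _ Over.mkIdTerminal
  exact t.hom_ext a b

/-- the map to the terminal object -/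
noncomputable def toTop (Y : Over S) : Y ⟶ Over.mk (𝟙 S) := Over.homMk Y.hom

variable (U : S.Opens)

noncomputable abbrev YU (Y : Over S) : Over S :=
  (Over.map U.ι).obj ((Over.pullback U.ι).obj Y)

noncomputable abbrev cY (Y : Over S) : YU U Y ⟶ Y := (Over.mapPullbackAdj U.ι).counit.app Y

noncomputable def qY (Y : Over S) : YU U Y ⟶ Over.mk U.ι :=
  Over.homMk (pullback.snd Y.hom U.ι) (by simp)

theorem cY_left (Y : Over S) : (cY U Y).left = pullback.fst Y.hom U.ι := by simp

theorem isPullback_YU (Y : Over S) :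
    IsPullback (cY U Y) (qY U Y) (toTop Y) (toTop (Over.mk U.ι)) := by
  apply IsPullback.of_map (Over.forget S)
  · ext
    simp [toTop, qY, pullback.condition]
  · have h : (Over.forget S).map (cY U Y) = pullback.fst Y.hom U.ι := cY_left U Y
    rw [h]
    exact IsPullback.of_hasPullback Y.hom U.ι

noncomputable def lam (Y : Over S) :
    (yon S).obj (YU U Y) ⟶ (yon S).obj Y ⨯ (yon S).obj (Over.mk U.ι) :=
  prod.lift ((yon S).map (cY U Y)) ((yon S).map (qY U Y))

@[reassoc (attr := simp)]
theorem lam_fst (Y : Over S) : lam U Y ≫ prod.fst = (yon S).map (cY U Y) :=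
  prod.lift_fst _ _

@[reassoc (attr := simp)]
theorem lam_snd (Y : Over S) : lam U Y ≫ prod.snd = (yon S).map (qY U Y) :=
  prod.lift_snd _ _

instance isIso_lam (Y : Over S) : IsIso (lam U Y) := by
  have sq := (isPullback_YU U Y).map (yon S)
  refine ⟨sq.lift prod.fst prod.snd (hom_top_ext _ _), ?_, ?_⟩
  · apply sq.hom_ext
    · simp
    · simp
  · apply prod.hom_ext
    · simp
    · simp

/-- functoriality of `YU` -/
noncomputable abbrev mapU {Y Y' : Over S} (f : Y ⟶ Y') : YU U Y ⟶ YU U Y' :=
  (Over.map U.ι).map ((Over.pullback U.ι).map f)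

theorem mapU_cY {Y Y' : Over S} (f : Y ⟶ Y') : mapU U f ≫ cY U Y' = cY U Y ≫ f :=
  (Over.mapPullbackAdj U.ι).counit.naturality f

theorem mapU_qY {Y Y' : Over S} (f : Y ⟶ Y') : mapU U f ≫ qY U Y' = qY U Y := by
  ext
  simp only [qY, Over.comp_left, Over.homMk_left, Over.map_map_left, Over.pullback_map_left]
  exact pullback.lift_snd _ _ _

theorem mapU_lam {Y Y' : Over S} (f : Y ⟶ Y') :
    (yon S).map (mapU U f) ≫ lam U Y' = lam U Y ≫ prod.map ((yon S).map f) (𝟙 _) := by
  apply prod.hom_ext
  · simp only [Category.assoc, lam_fst, prod.map_fst, lam_fst_assoc, ← Functor.map_comp, mapU_cY]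
  · simp only [Category.assoc, lam_snd, prod.map_snd, Category.comp_id, ← Functor.map_comp,
      mapU_qY]

theorem nmp_algSpace (N : Over S)
    (hN : ∀ Y : Over S, Smooth Y.hom →
      Function.Bijective (fun g : Y ⟶ N => cY U Y ≫ g))
    (F : Sp S) (hF : IsAlgSpace F)
    (sF : F ⟶ (yon S).obj (Over.mk (𝟙 S))) (hsm : LocP @Smooth sF) :
    Function.Bijective (fun φ : F ⟶ (yon S).obj N =>
      (prod.fst : F ⨯ (yon S).obj (Over.mk U.ι) ⟶ F) ≫ φ) := by
  obtain ⟨X, p, hpe, hps⟩ := hF.atlas
  haveI hpepi : Epi p := epi_of_etale_surjective p hpe hps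
  have hXsm : Smooth X.hom :=
    hsm p (𝟙 _) (toTop X) hpe (repWith_id _ _) (hom_top_ext _ _)
  -- the kernel pair
  have hrep := hpe.rep
  obtain ⟨R, t, s, sqR, hse⟩ : ∃ (R : Over S) (t s : R ⟶ X),
      IsPullback ((yon S).map t) ((yon S).map s) p p ∧ Etale s.left :=
    ⟨hrep.pullback p, hrep.fst' p, hrep.snd p, hrep.isPullback' p, hpe.property_snd p⟩
  have hRsm : Smooth R.hom := by
    rw [← Over.w s]
    infer_instance
  -- the base change of `p`
  haveI hpU : Epi (prod.map p (𝟙 ((yon S).obj (Over.mk U.ι)))) := by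
    have sq := (isPullback_prod_map ((yon S).obj (Over.mk U.ι)) p).flip
    exact epi_of_etale_surjective _
      (MorphismProperty.of_isPullback (P := RepWith @Etale) sq hpe)
      (MorphismProperty.of_isPullback (P := RepWith @Surjective) sq hps)
  have e : (yon S).map (cY U X) ≫ p =
      lam U X ≫ prod.map p (𝟙 ((yon S).obj (Over.mk U.ι))) ≫ prod.fst := by
    simp
  constructor
  · intro φ φ' h
    dsimp only at h
    rw [← cancel_epi p]
    obtain ⟨g, hg⟩ := (yon S).map_surjective (p ≫ φ)
    obtain ⟨g', hg'⟩ := (yon S).map_surjective (p ≫ φ')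
    rw [← hg, ← hg']
    congr 1
    apply (hN X hXsm).1
    dsimp only
    apply (yon S).map_injective
    rw [Functor.map_comp, Functor.map_comp, hg, hg', ← Category.assoc, ← Category.assoc, e]
    simp only [Category.assoc]
    rw [h]
  · intro ψ
    obtain ⟨ψX, hψX⟩ := (yon S).map_surjective
      (lam U X ≫ prod.map p (𝟙 ((yon S).obj (Over.mk U.ι))) ≫ ψ)
    obtain ⟨g, hg⟩ := (hN X hXsm).2 ψX
    dsimp only at hg
    have key : ∀ r : R ⟶ X, (yon S).map (cY U R ≫ r ≫ g) =
        lam U R ≫ prod.map ((yon S).map r ≫ p) (𝟙 ((yon S).obj (Over.mk U.ι))) ≫ ψ := by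
      intro r
      rw [← Category.assoc, ← mapU_cY, Category.assoc, hg, Functor.map_comp, hψX,
        ← Category.assoc, mapU_lam, Category.assoc, ← Category.assoc (prod.map _ _),
        prod.map_map, Category.comp_id]
    have hst : t ≫ g = s ≫ g := by
      apply (hN R hRsm).1
      dsimp only
      apply (yon S).map_injective
      rw [key t, key s, sqR.w]
    obtain ⟨φ, hφ⟩ := exists_desc_of_epi p ((yon S).map g) (by
      intro T x y hxy
      have hx := sqR.lift_fst x y hxy
      have hy := sqR.lift_snd x y hxy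
      calc x ≫ (yon S).map g = sqR.lift x y hxy ≫ (yon S).map (t ≫ g) := by
            rw [Functor.map_comp, ← Category.assoc, hx]
        _ = y ≫ (yon S).map g := by
            rw [hst, Functor.map_comp, ← Category.assoc, hy])
    refine ⟨φ, ?_⟩
    dsimp only
    rw [← cancel_epi (prod.map p (𝟙 ((yon S).obj (Over.mk U.ι)))), ← cancel_epi (lam U X),
      ← hψX, ← hg, Functor.map_comp, ← hφ]
    simp

end Groth.Agent.Helper7.NMPSp
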