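import Mathlib
import Groth.Prelude.Def_Found
import Groth.Agent.Lib.Helper7.NagAU

/-!
# Helper7: p-th roots descend from the completion of a Nagata local domain (Stacks 0BI2-like)
-/

universe u
namespace Groth.Agent.Helper7.NagAU3
open TensorProduct IsLocalRing Polynomial

set_option linter.style.haveILetI false

theorem adjoinRoot_map_injective {A K : Type*} [CommRing A] [CommRing K] (i : A →+* K)
    (hi : Function.Injective i) (f : A[X]) (hf : f.Monic) :
    Function.Injective (AdjoinRoot.map i f (f.map i) dvd_rfl) := by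
  rw [injective_iff_map_eq_zero]
  intro x hx
  induction x using AdjoinRoot.induction_on with
  | ih g =>
    have h1 : AdjoinRoot.map i f (f.map i) dvd_rfl (AdjoinRoot.mk f g) =
        AdjoinRoot.mk (f.map i) (g.map i) := by
      rw [AdjoinRoot.map, AdjoinRoot.lift_mk, ← Polynomial.eval₂_map, ← AdjoinRoot.aeval_eq,
        Polynomial.aeval_def, AdjoinRoot.algebraMap_eq]
    rw [h1, AdjoinRoot.mk_eq_zero, Polynomial.map_dvd_map i hi hf] at hx
    exact AdjoinRoot.mk_eq_zero.mpr hx

theorem exists_root_fractionRing (A : Type u) [CommRing A] [IsDomain A] [IsLocalRing A]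
    [IsNoetherianRing A] (hN : ∀ (q : Ideal A) [q.IsPrime], CAlg.IsN2 (A ⧸ q))
    (p : ℕ) [Fact p.Prime] [CharP A p] (a : A)
    (α : AdicCompletion (maximalIdeal A) A)
    (hα : α ^ p = algebraMap A (AdicCompletion (maximalIdeal A) A) a) :
    ∃ c : FractionRing A, c ^ p = algebraMap A (FractionRing A) a := by
  classical
  by_contra hno
  push Not at hno
  have hp : p.Prime := Fact.out
  let K := FractionRing A
  have hirr : Irreducible (X ^ p - C (algebraMap A K a) : K[X]) :=
    X_pow_sub_C_irreducible_of_prime hp hno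
  let f : A[X] := X ^ p - C a
  have hfm : f.Monic := monic_X_pow_sub_C a hp.ne_zero
  have hfmap : f.map (algebraMap A K) = X ^ p - C (algebraMap A K a) := by
    simp [f]
  haveI : Fact (Irreducible (f.map (algebraMap A K))) := ⟨hfmap ▸ hirr⟩
  let B := AdjoinRoot f
  haveI : IsDomain B := Function.Injective.isDomain _
    (adjoinRoot_map_injective (algebraMap A K) (IsFractionRing.injective A K) f hfm)
  haveI : Module.Finite A B := hfm.finite_adjoinRoot
  haveI hred : IsReduced (B ⊗[A] AdicCompletion (maximalIdeal A) A) :=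
    Groth.Agent.Helper7.NagAU.main A hN _ B rfl
  let r : B := AdjoinRoot.root f
  have hr : r ^ p = algebraMap A B a := by
    have h0 := AdjoinRoot.eval₂_root f
    simp only [f, eval₂_sub, eval₂_pow, eval₂_X, eval₂_C] at h0
    rw [AdjoinRoot.algebraMap_eq]
    exact sub_eq_zero.mp h0
  have hξ : r ⊗ₜ[A] (1 : AdicCompletion (maximalIdeal A) A) - (1 : B) ⊗ₜ[A] α = 0 := by
    rcases subsingleton_or_nontrivial (B ⊗[A] AdicCompletion (maximalIdeal A) A) with hs | hnt
    · exact Subsingleton.elim _ _
    · haveI : CharP (B ⊗[A] AdicCompletion (maximalIdeal A) A) p :=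
        (CharP.charP_iff_prime_eq_zero hp).mpr (by
          rw [← map_natCast (algebraMap A (B ⊗[A] AdicCompletion (maximalIdeal A) A)),
            CharP.cast_eq_zero A p, map_zero])
      have hpow : (r ⊗ₜ[A] (1 : AdicCompletion (maximalIdeal A) A) - (1 : B) ⊗ₜ[A] α) ^ p = 0 := by
        rw [sub_pow_char, Algebra.TensorProduct.tmul_pow, Algebra.TensorProduct.tmul_pow, one_pow,
          one_pow, hr, hα, Algebra.algebraMap_eq_smul_one, Algebra.algebraMap_eq_smul_one,
          TensorProduct.smul_tmul, sub_self]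
      exact IsReduced.eq_zero _ ⟨p, hpow⟩
  let pb := AdjoinRoot.powerBasis' hfm
  have hdim : pb.dim = p := by
    show f.natDegree = p
    exact natDegree_X_pow_sub_C
  have h0p : 0 < pb.dim := hdim ▸ hp.pos
  have h1p : 1 < pb.dim := hdim ▸ hp.one_lt
  let i0 : Fin pb.dim := ⟨0, h0p⟩
  let i1 : Fin pb.dim := ⟨1, h1p⟩
  have hb0 : pb.basis i0 = 1 := by rw [pb.basis_eq_pow]; exact pow_zero _
  have hb1 : pb.basis i1 = r := by rw [pb.basis_eq_pow]; exact pow_one _
  let lam : B →ₗ[A] A := pb.basis.coord i1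
  have hl1 : lam r = 1 := by
    show pb.basis.coord i1 r = 1
    rw [← hb1, Module.Basis.coord_apply, Module.Basis.repr_self, Finsupp.single_eq_same]
  have hl0 : lam 1 = 0 := by
    show pb.basis.coord i1 1 = 0
    have hne : i0 ≠ i1 := by
      intro h; exact absurd (congrArg Fin.val h) (by simp [i0, i1])
    rw [← hb0, Module.Basis.coord_apply, Module.Basis.repr_self, Finsupp.single_apply, if_neg hne]
  let Lam : B ⊗[A] AdicCompletion (maximalIdeal A) A →ₗ[A] AdicCompletion (maximalIdeal A) A :=
    (TensorProduct.lid A (AdicCompletion (maximalIdeal A) A)).toLinearMap ∘ₗ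
      (lam.rTensor (AdicCompletion (maximalIdeal A) A))
  have h1 := congrArg Lam hξ
  rw [map_sub, map_zero] at h1
  simp only [Lam, LinearMap.coe_comp, LinearEquiv.coe_coe, Function.comp_apply,
    LinearMap.rTensor_tmul, TensorProduct.lid_tmul, hl1, hl0, one_smul, zero_smul, sub_zero] at h1
  exact one_ne_zero h1

theorem s0577 (A : Type u) [CommRing A] [IsDomain A]
    [IsLocalRing A] (hA : CAlg.IsNagata A) (p : ℕ) [Fact p.Prime] [CharP A p] (a : A)
    (h : ∃ α : AdicCompletion (IsLocalRing.maximalIdeal A) A,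
      α ^ p = algebraMap A (AdicCompletion (IsLocalRing.maximalIdeal A) A) a) :
    ∃ b : A, b ^ p = a := by
  haveI := hA.1
  obtain ⟨α, hα⟩ := h
  let Ah := AdicCompletion (maximalIdeal A) A
  have hp : p.Prime := Fact.out
  obtain ⟨c, hc⟩ := exists_root_fractionRing A (fun q _ => hA.2 q) p a α hα
  obtain ⟨x, y, hy, rfl⟩ := IsFractionRing.div_surjective (A := A) c
  have hy0 : y ≠ 0 := nonZeroDivisors.ne_zero hy
  have hyK : algebraMap A (FractionRing A) y ≠ 0 := by
    rw [Ne, map_eq_zero_iff _ (IsFractionRing.injective A _)]; exact hy0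
  have hxy : x ^ p = a * y ^ p := by
    apply IsFractionRing.injective A (FractionRing A)
    rw [map_mul, map_pow, map_pow, ← hc, div_pow]
    field_simp
  haveI hred : IsReduced Ah := Groth.Agent.Helper7.NagAU.s0576 A hA
  have hinj : Function.Injective (algebraMap A Ah) :=
    FaithfulSMul.algebraMap_injective A Ah
  haveI : CharP Ah p := charP_of_injective_algebraMap hinj p
  have hpow : (algebraMap A Ah x - α * algebraMap A Ah y) ^ p = 0 := by
    rw [sub_pow_char, mul_pow, hα, ← map_pow, ← map_pow, ← map_mul, hxy, sub_self]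
  have heq : algebraMap A Ah x = α * algebraMap A Ah y :=
    sub_eq_zero.mp (IsReduced.eq_zero _ ⟨p, hpow⟩)
  have hmem : x ∈ (Ideal.span {y} : Ideal A) := by
    rw [← Ideal.comap_map_eq_self_of_faithfullyFlat (B := Ah) (Ideal.span {y}), Ideal.mem_comap,
      Ideal.map_span, Set.image_singleton, Ideal.mem_span_singleton]
    exact ⟨α, by rw [heq, mul_comm]⟩
  obtain ⟨b, hb⟩ := Ideal.mem_span_singleton.mp hmem
  refine ⟨b, ?_⟩
  have hyp : y ^ p ≠ 0 := pow_ne_zero _ hy0
  apply mul_right_cancel₀ hyp
  rw [← hxy, hb]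
  ring

end Groth.Agent.Helper7.NagAU3
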