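import Mathlib
import Groth.Prelude.Def_Found
import Groth.Agent.Lib.Helper7.NormFin
import Groth.Agent.Lib.Helper7.NagAU2
import Groth.Agent.Lib.Helper14.EtaleReduced
import Groth.Agent.Lib.Helper26.NormInt2

/-!
# The Nagata property descends along smooth maps surjective on spectra (helper7)
-/

set_option autoImplicit false
set_option linter.unusedSectionVars false
set_option linter.style.haveILetI false
universe u
open scoped TensorProduct

namespace Groth.Agent.Helper7.NagSmooth

/-- the integral closure of a Nagata ring `B` in a reduced algebra essentially of finite type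
is finite -/
theorem finite_integralClosure_of_essFiniteType (B : Type u) [CommRing B] (hB : CAlg.IsNagata B)
    (E : Type u) [CommRing E] [Algebra B E] [Algebra.EssFiniteType B E] [IsReduced E] :
    Module.Finite B (integralClosure B E) := by
  haveI := hB.1
  haveI : IsNoetherianRing E := Algebra.EssFiniteType.isNoetherianRing B E
  let J := {Q : Ideal E // Q ∈ minimalPrimes E}
  haveI : Finite J := (minimalPrimes.finite_of_isNoetherianRing E).to_subtype
  haveI hprime : ∀ j : J, j.1.IsPrime := fun j => j.2.1.1
  let F : J → Type u := fun j => FractionRing (E ⧸ j.1)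
  let φ : ∀ j : J, E →ₐ[B] F j := fun j =>
    (IsScalarTower.toAlgHom B (E ⧸ j.1) (F j)).comp (Ideal.Quotient.mkₐ B j.1)
  refine Groth.Agent.Helper7.NormFin.finite_integralClosure_of_jointly_injective B E F φ ?_ ?_
  · intro e he
    apply Groth.Agent.Lib.Helper26.NormInt2.eq_zero_of_forall_mem_minimalPrimes
    intro Q hQ
    have h1 : algebraMap (E ⧸ Q) (FractionRing (E ⧸ Q)) (Ideal.Quotient.mk Q e) = 0 :=
      he ⟨Q, hQ⟩
    haveI : Q.IsPrime := hQ.1.1
    have h2 : Ideal.Quotient.mk Q e = 0 :=
      IsFractionRing.injective (E ⧸ Q) (FractionRing (E ⧸ Q)) (h1.trans (map_zero _).symm)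
    exact Ideal.Quotient.eq_zero_iff_mem.mp h2
  · intro j
    exact Groth.Agent.Helper7.NormFin.finite_integralClosure_of_essFiniteType_field B hB (F j)

/-- core: finiteness of the integral closure descends along a faithfully flat smooth map to a
Nagata ring -/
theorem finite_integralClosure_of_smooth (A : Type u) [CommRing A] [IsDomain A]
    (L : Type u) [Field L] [Algebra A L] [Algebra (FractionRing A) L]
    [IsScalarTower A (FractionRing A) L] [FiniteDimensional (FractionRing A) L]
    (B : Type u) [CommRing B] [Algebra A B] [Algebra.Smooth A B] [Module.FaithfullyFlat A B]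
    (hB : CAlg.IsNagata B) : Module.Finite A (integralClosure A L) := by
  haveI := hB.1
  let K := FractionRing A
  let A' := integralClosure A L
  let E := B ⊗[A] L
  -- `L` is essentially of finite type over `A`
  haveI : Algebra.EssFiniteType A K := Algebra.EssFiniteType.of_isLocalization K (nonZeroDivisors A)
  haveI : Algebra.EssFiniteType K L := inferInstance
  haveI : Algebra.EssFiniteType A L := Algebra.EssFiniteType.comp A K L
  haveI : Algebra.EssFiniteType B E := inferInstance
  -- `E` is reduced
  haveI : IsReduced (L ⊗[A] B) := Groth.Agent.Helper14.isReduced_of_smooth L (L ⊗[A] B)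
  haveI : IsReduced E :=
    isReduced_of_injective (Algebra.TensorProduct.comm A B L).toRingEquiv.toRingHom
      (Algebra.TensorProduct.comm A B L).injective
  haveI hfin : Module.Finite B (integralClosure B E) :=
    finite_integralClosure_of_essFiniteType B hB E
  haveI : IsNoetherian B (integralClosure B E) := isNoetherian_of_isNoetherianRing_of_finite B _
  -- the map `B ⊗ A' → E`
  let ψ : B ⊗[A] A' →ₐ[B] E := Algebra.TensorProduct.map (AlgHom.id B B) A'.val
  have hψinj : Function.Injective ψ := by
    have h1 : Function.Injective (LinearMap.lTensor B A'.val.toLinearMap) :=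
      Module.Flat.lTensor_preserves_injective_linearMap _ Subtype.val_injective
    intro x y hxy
    apply h1
    have e : ∀ z, LinearMap.lTensor B A'.val.toLinearMap z = ψ z := by
      intro z
      induction z using TensorProduct.induction_on with
      | zero => simp
      | tmul b a =>
        simp only [ψ, LinearMap.lTensor_tmul]
        rfl
      | add z w hz hw => rw [map_add, map_add, hz, hw]
    rw [e, e, hxy]
  haveI : Algebra.IsIntegral A A' := inferInstance
  haveI : Algebra.IsIntegral B (B ⊗[A] A') := inferInstance
  let ψ' : B ⊗[A] A' →ₗ[B] integralClosure B E :=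
    LinearMap.codRestrict (Subalgebra.toSubmodule (integralClosure B E)) ψ.toLinearMap
      (fun z => (Algebra.IsIntegral.isIntegral (R := B) z).map ψ)
  have hψ'inj : Function.Injective ψ' := by
    intro x y hxy
    apply hψinj
    exact congrArg Subtype.val hxy
  haveI : IsNoetherian B (B ⊗[A] A') := isNoetherian_of_injective ψ' hψ'inj
  haveI : IsNoetherian A A' :=
    Submodule.IsNoetherian.of_isNoetherian_tensorProduct_of_faithfullyFlat (A := B) inferInstance
  infer_instance

/-- S9401 -/
theorem s9401 (R : Type u) [CommRing R] (S : Type u)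
    [CommRing S] [Algebra R S] [Algebra.Smooth R S]
    (hs : Function.Surjective (PrimeSpectrum.comap (algebraMap R S))) (hS : CAlg.IsNagata S) :
    CAlg.IsNagata R := by
  haveI := hS.1
  haveI : Module.FaithfullyFlat R S := Module.FaithfullyFlat.of_comap_surjective hs
  haveI hRN : IsNoetherianRing R := by
    haveI : IsNoetherian S (S ⊗[R] R) :=
      isNoetherian_of_linearEquiv (TensorProduct.AlgebraTensorModule.rid R S S).symm
    exact Submodule.IsNoetherian.of_isNoetherian_tensorProduct_of_faithfullyFlat (A := S)
      inferInstance
  refine ⟨hRN, fun p _ => ?_⟩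
  intro L _ _ _ _ hfd
  haveI := hfd
  let A := R ⧸ p
  let B := A ⊗[R] S
  letI : Algebra S B := Algebra.TensorProduct.rightAlgebra
  haveI : Module.Finite S B := by
    apply Module.Finite.of_surjective (Algebra.linearMap S B)
    intro z
    induction z using TensorProduct.induction_on with
    | zero => exact ⟨0, map_zero _⟩
    | tmul a s =>
      obtain ⟨r, rfl⟩ := Ideal.Quotient.mk_surjective a
      refine ⟨r • s, ?_⟩
      change (1 : A) ⊗ₜ[R] (r • s) = (Ideal.Quotient.mk p r) ⊗ₜ[R] s
      rw [← TensorProduct.smul_tmul, Algebra.smul_def, mul_one]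
      rfl
    | add z w hz hw =>
      obtain ⟨a, ha⟩ := hz
      obtain ⟨b, hb⟩ := hw
      exact ⟨a + b, by rw [map_add, ha, hb]⟩
  have hB : CAlg.IsNagata B := Groth.Agent.Helper7.NagAU2.isNagata_of_finite S hS B
  exact finite_integralClosure_of_smooth A L B hB

end Groth.Agent.Helper7.NagSmooth
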