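import Mathlib
import Groth.Prelude.Def_Found
import Groth.Agent.Lib.Helper7.AffLoc
import Groth.Agent.Lib.Helper7.TatePS

set_option linter.style.haveILetI false
set_option linter.unusedSectionVars false

universe u
open CategoryTheory AlgebraicGeometry TopologicalSpace

namespace Groth.Agent.Helper7.NagSub

/-- Affine opens of an integral closed subscheme of a Nagata scheme have N-2 coordinate rings. -/
theorem isN2_of_closedImmersion (X : Scheme.{u})
    (hN : ∀ U : X.Opens, IsAffineOpen U → CAlg.IsNagata Γ(X, U))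
    (Z : Scheme.{u}) (i : Z ⟶ X) [IsClosedImmersion i] [IsIntegral Z]
    (V : Z.Opens) [Nonempty V] (hV : IsAffineOpen V) : CAlg.IsN2 Γ(Z, V) := by
  classical
  let ι := {U : X.affineOpens // Nonempty ↥(i ⁻¹ᵁ U.1)}
  haveI : ∀ j : ι, Nonempty ↥(i ⁻¹ᵁ j.1.1) := fun j => j.2
  refine @AffLoc.s9835 Z _ ι (fun j => i ⁻¹ᵁ j.1.1) (fun j => j.2) ?_ ?_ ?_ V _ hV
  · rw [eq_top_iff]
    intro z _
    obtain ⟨U, hU, hzU, -⟩ := exists_isAffineOpen_mem_and_subset (x := i z) (U := ⊤) trivial
    have hne : Nonempty ↥(i ⁻¹ᵁ U) := ⟨⟨z, hzU⟩⟩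
    exact Opens.mem_iSup.mpr ⟨⟨⟨U, hU⟩, hne⟩, hzU⟩
  · intro j
    exact j.1.2.preimage i
  · intro j
    have hsurj := i.app_surjective j.1.1 j.1.2
    obtain ⟨hNoeth, hN2⟩ := hN j.1.1 j.1.2
    let φ : Γ(X, j.1.1) →+* Γ(Z, i ⁻¹ᵁ j.1.1) := (i.app j.1.1).hom
    haveI : IsDomain Γ(Z, i ⁻¹ᵁ j.1.1) := @IsIntegral.component_integral Z _ (i ⁻¹ᵁ j.1.1) j.2
    haveI : (RingHom.ker φ).IsPrime := RingHom.ker_isPrime φ
    have e : (Γ(X, j.1.1) ⧸ RingHom.ker φ) ≃+* Γ(Z, i ⁻¹ᵁ j.1.1) :=
      RingHom.quotientKerEquivOfSurjective hsurj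
    haveI : IsNoetherianRing Γ(X, j.1.1) := hNoeth
    exact TatePS.isN2_of_ringEquiv e (hN2 (RingHom.ker φ))

/-- The kernel of the sections over `U` of the canonical map from the spectrum of the residue
field at the point given by a prime `p` of `Γ(X, U)` is `p`. -/
theorem ker_fromSpecResidueField_app (X : Scheme.{u}) (U : X.Opens) (hU : IsAffineOpen U)
    (P : PrimeSpectrum Γ(X, U)) :
    RingHom.ker ((X.fromSpecResidueField (hU.fromSpec P)).app U).hom = P.asIdeal := by
  set x : X := hU.fromSpec P with hx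
  set f := X.fromSpecResidueField x with hf
  have hmem : ∀ s : Γ(X, U), x ∈ X.basicOpen s ↔ s ∉ P.asIdeal := by
    intro s
    have h1 := hU.fromSpec_preimage_basicOpen s
    have h2 : P ∈ (hU.fromSpec ⁻¹ᵁ X.basicOpen s) ↔ x ∈ X.basicOpen s := Iff.rfl
    rw [← h2, h1]
    exact PrimeSpectrum.mem_basicOpen _ _
  ext s
  rw [RingHom.mem_ker]
  have h3 := Scheme.preimage_basicOpen f s
  change (f.app U).hom s = 0 ↔ s ∈ P.asIdeal
  rw [← basicOpen_eq_bot_iff]
  change (Spec (X.residueField x)).basicOpen ((f.app U).hom s) = ⊥ ↔ _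
  rw [← h3]
  constructor
  · intro h
    by_contra hs
    have hxs : x ∈ X.basicOpen s := (hmem s).mpr hs
    obtain ⟨t⟩ : Nonempty (Spec (X.residueField x)) := inferInstance
    have : t ∈ f ⁻¹ᵁ X.basicOpen s := by
      change f t ∈ X.basicOpen s
      rw [hf, Scheme.fromSpecResidueField_apply]
      exact hxs
    rw [h] at this
    exact this
  · intro hs
    rw [eq_bot_iff]
    intro t ht
    change f t ∈ X.basicOpen s at ht
    rw [hf, Scheme.fromSpecResidueField_apply] at ht
    exact ((hmem s).mp ht hs).elim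

/-- If every integral closed subscheme is Japanese, then the scheme is Nagata. -/
theorem isNagata_of_closed (X : Scheme.{u}) [IsLocallyNoetherian X]
    (H : ∀ (Z : Scheme.{u}) (i : Z ⟶ X) [IsClosedImmersion i] [IsIntegral Z]
        (V : Z.Opens) [Nonempty V], IsAffineOpen V → CAlg.IsN2 Γ(Z, V))
    (U : X.Opens) (hU : IsAffineOpen U) : CAlg.IsNagata Γ(X, U) := by
  classical
  haveI hNoeth : IsNoetherianRing Γ(X, U) := IsLocallyNoetherian.component_noetherian ⟨U, hU⟩
  refine ⟨hNoeth, fun p hp => ?_⟩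
  set P : PrimeSpectrum Γ(X, U) := ⟨p, hp⟩ with hP
  set x : X := hU.fromSpec P with hx
  have hxU : x ∈ U := by
    have : x ∈ Set.range hU.fromSpec := ⟨P, rfl⟩
    rw [hU.range_fromSpec] at this
    exact this
  set f := X.fromSpecResidueField x with hf
  have hker : f.ker.ideal ⟨U, hU⟩ = p := by
    rw [Scheme.Hom.ker_apply]
    exact ker_fromSpecResidueField_app X U hU P
  -- the image is reduced
  haveI hred : IsReduced f.image := by
    haveI : ∀ j, IsReduced (f.ker.subschemeCover.openCover.X j) := by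
      intro j
      change IsReduced (Spec (.of (Γ(X, j.1) ⧸ f.ker.ideal j)))
      haveI : _root_.IsReduced (Γ(X, j.1) ⧸ f.ker.ideal j) := by
        rw [← Ideal.isRadical_iff_quotient_reduced, Scheme.Hom.ker_apply]
        intro r hr
        obtain ⟨n, hn⟩ := hr
        rw [RingHom.mem_ker] at hn ⊢
        rw [map_pow] at hn
        exact IsReduced.eq_zero _ ⟨n, hn⟩
      infer_instance
    exact IsReduced.of_openCover _ f.ker.subschemeCover.openCover
  -- the image is irreducible
  haveI hirr : IrreducibleSpace f.image := by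
    rw [irreducibleSpace_def]
    have h1 : IsIrreducible (Set.range f.toImage) := by
      rw [← Set.image_univ]
      exact (IrreducibleSpace.isIrreducible_univ _).image _ f.toImage.continuous.continuousOn
    have h2 := h1.closure
    rwa [f.toImage.denseRange.closure_eq] at h2
  haveI : IsIntegral f.image := isIntegral_of_irreducibleSpace_of_isReduced _
  let i : f.image ⟶ X := f.imageι
  let V : f.image.Opens := i ⁻¹ᵁ U
  have hVaff : IsAffineOpen V := hU.preimage i
  haveI hVne : Nonempty V := by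
    obtain ⟨t⟩ : Nonempty (Spec (X.residueField x)) := inferInstance
    refine ⟨⟨f.toImage t, ?_⟩⟩
    change i (f.toImage t) ∈ U
    have : i (f.toImage t) = f t := by
      rw [← Scheme.Hom.comp_apply, Scheme.Hom.toImage_imageι]
    rw [this, hf, Scheme.fromSpecResidueField_apply]
    exact hxU
  have hN2 := H f.image i V hVaff
  have hsurj : Function.Surjective (i.app U) := f.ker.subschemeι_app_surjective ⟨U, hU⟩
  have hk : RingHom.ker (i.app U).hom = p := by
    rw [← hker]
    exact f.ker.ker_subschemeι_app ⟨U, hU⟩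
  let e1 : (Γ(X, U) ⧸ RingHom.ker (i.app U).hom) ≃+* Γ(f.image, V) :=
    RingHom.quotientKerEquivOfSurjective hsurj
  let e2 : (Γ(X, U) ⧸ p) ≃+* (Γ(X, U) ⧸ RingHom.ker (i.app U).hom) :=
    Ideal.quotEquivOfEq hk.symm
  let e : (Γ(X, U) ⧸ p) ≃+* Γ(f.image, V) := e2.trans e1
  haveI : IsNoetherianRing Γ(f.image, V) := isNoetherianRing_of_ringEquiv _ e
  exact TatePS.isN2_of_ringEquiv e.symm hN2

theorem s9802 (X : Scheme.{u}) [IsLocallyNoetherian X] :
    (∀ U : X.Opens, IsAffineOpen U → CAlg.IsNagata Γ(X, U)) ↔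
      ∀ (Z : Scheme.{u}) (i : Z ⟶ X) [IsClosedImmersion i] [IsIntegral Z]
        (V : Z.Opens) [Nonempty V], IsAffineOpen V → CAlg.IsN2 Γ(Z, V) :=
  ⟨fun hN Z i _ _ V _ hV => isN2_of_closedImmersion X hN Z i V hV,
   fun H U hU => isNagata_of_closed X H U hU⟩

end Groth.Agent.Helper7.NagSub
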