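import Mathlib
import Groth.Prelude.Def_Hensel
import Groth.Agent.Lib.Helper1.SHznUniv
import Groth.Agent.Lib.Helper1.SHznMax
import Groth.Agent.Lib.Helper1.SH4
import Groth.Agent.Lib.Helper9.SepFS
import Groth.Agent.Lib.Lead.RLR1

/-!
# Néron lft criterion, algebra part: strict henselization of a smooth local ring over a DVR
with `m_R R₁ = m_{R₁}` is a DVR of ramification index one with separable residue extension.
-/

set_option autoImplicit false
set_option linter.style.haveILetI false
set_option linter.unusedSectionVars false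

universe u

open IsLocalRing

namespace Groth.Agent.Helper7.NeronCrit

/-- formal smoothness passes to residue fields when the maximal ideal is generated by the base -/
theorem formallySmooth_residueField (R R₁ : Type u) [CommRing R] [IsLocalRing R] [CommRing R₁]
    [IsLocalRing R₁] [Algebra R R₁] [IsLocalHom (algebraMap R R₁)] [Algebra.FormallySmooth R R₁]
    (hm : (maximalIdeal R).map (algebraMap R R₁) = maximalIdeal R₁) :
    Algebra.FormallySmooth (ResidueField R) (ResidueField R₁) := by
  apply Algebra.FormallySmooth.of_comp_surjective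
  intro C _ _ I hI g
  letI : Algebra R C :=
    ((algebraMap (ResidueField R) C).comp (algebraMap R (ResidueField R))).toAlgebra
  haveI : IsScalarTower R (ResidueField R) C := IsScalarTower.of_algebraMap_eq (fun _ => rfl)
  let g₁ : R₁ →ₐ[R] C ⧸ I :=
    (g.restrictScalars R).comp (IsScalarTower.toAlgHom R R₁ (ResidueField R₁))
  obtain ⟨l, hl⟩ := Algebra.FormallySmooth.comp_surjective R R₁ I hI g₁
  have hle : Ideal.map (algebraMap R R₁) (maximalIdeal R) ≤ RingHom.ker l.toRingHom := by
    rw [Ideal.map_le_iff_le_comap]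
    intro r hr
    rw [Ideal.mem_comap, RingHom.mem_ker]
    have h1 : l.toRingHom (algebraMap R R₁ r) = algebraMap R C r := l.commutes r
    rw [h1]
    have h2 : algebraMap R C r = algebraMap (ResidueField R) C (residue R r) := rfl
    rw [h2, (residue_eq_zero_iff r).mpr hr, map_zero]
  have hker : ∀ a ∈ maximalIdeal R₁, l.toRingHom a = 0 := by
    intro a ha
    rw [← hm] at ha
    exact hle ha
  let l' : ResidueField R₁ →+* C := Ideal.Quotient.lift (maximalIdeal R₁) l.toRingHom hker
  have hl' : ∀ a : R₁, l' (residue R₁ a) = l a := fun a => Ideal.Quotient.lift_mk _ _ _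
  have hcomm : ∀ r : ResidueField R, l' (algebraMap (ResidueField R) (ResidueField R₁) r) =
      algebraMap (ResidueField R) C r := by
    intro r
    obtain ⟨r, rfl⟩ := residue_surjective r
    rw [ResidueField.algebraMap_residue, hl']
    exact l.commutes r
  refine ⟨{ l' with commutes' := hcomm }, ?_⟩
  apply AlgHom.ext
  intro x
  obtain ⟨a, rfl⟩ := residue_surjective x
  have h3 := congrArg (fun f => f a) hl
  simp only [AlgHom.comp_apply] at h3
  change (Ideal.Quotient.mkₐ (ResidueField R) I) (l' (residue R₁ a)) = g (residue R₁ a)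
  rw [hl']
  exact h3

/-- a noetherian local domain whose maximal ideal is generated by the image of a uniformizer
of a DVR under an injective map is a DVR -/
theorem isDVR_of_map_maximalIdeal (R : Type u) [CommRing R] [IsDomain R]
    [IsDiscreteValuationRing R] (A : Type u) [CommRing A] [IsDomain A] [IsLocalRing A]
    [IsNoetherianRing A] (f : R →+* A) (hf : Function.Injective f)
    (hm : (maximalIdeal R).map f = maximalIdeal A) : IsDiscreteValuationRing A := by
  obtain ⟨ϖ, hϖ⟩ := IsDiscreteValuationRing.exists_irreducible R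
  have h1 : maximalIdeal A = Ideal.span {f ϖ} := by
    rw [← hm, hϖ.maximalIdeal_eq, Ideal.map_span, Set.image_singleton]
  have hnf : ¬ IsField A := by
    rw [isField_iff_maximalIdeal_eq, h1, Ideal.span_singleton_eq_bot]
    intro h0
    exact hϖ.ne_zero (hf (h0.trans (map_zero f).symm))
  refine ((IsDiscreteValuationRing.TFAE A hnf).out 0 4).mpr ?_
  exact ⟨⟨f ϖ, h1⟩⟩

set_option maxHeartbeats 1600000 in
/-- the strictly henselian DVR extension of ramification index one attached to a smooth local
ring whose maximal ideal is generated by the base -/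
theorem exists_ext (R : Type u) [CommRing R] [IsDomain R] [IsDiscreteValuationRing R]
    (R₁ : Type u) [CommRing R₁] [IsRegularLocalRing R₁] [Algebra R R₁]
    [IsLocalHom (algebraMap R R₁)] [Algebra.FormallySmooth R R₁]
    (hinj : Function.Injective (algebraMap R R₁))
    (hm : (maximalIdeal R).map (algebraMap R R₁) = maximalIdeal R₁) :
    ∃ (R' : Type u) (_ : CommRing R') (_ : IsDomain R') (_ : IsDiscreteValuationRing R')
      (_ : Algebra R R') (_ : IsLocalHom (algebraMap R R')) (_ : HenselianLocalRing R')
      (_ : IsSepClosed (ResidueField R')) (ψ : R₁ →+* R'),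
      ψ.comp (algebraMap R R₁) = algebraMap R R' ∧ ψ.Flat ∧
      Function.Surjective (PrimeSpectrum.comap ψ) ∧
      (maximalIdeal R).map (algebraMap R R') = maximalIdeal R' ∧
      Algebra.IsGeometricallyReduced (ResidueField R) (ResidueField R') ∧
      Function.Injective (algebraMap R R') := by
  obtain ⟨R', hR'⟩ : ∃ R' : Type u, R' = Groth.Agent.Helper1.SHzn.S R₁ := ⟨_, rfl⟩
  subst hR'
  haveI hSH : Hensel.IsStrictHenselization R₁ (Groth.Agent.Helper1.SHzn.S R₁) :=
    Groth.Agent.Helper1.SHzn.isStrictHenselization R₁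
  haveI hNoeth : IsNoetherianRing (Groth.Agent.Helper1.SHzn.S R₁) :=
    (Groth.Agent.Helper1.HFlat.isNoetherianRing_iff_of_isStrictHenselization R₁ _).mp
      inferInstance
  haveI hreg : IsRegularLocalRing (Groth.Agent.Helper1.SHzn.S R₁) :=
    (Groth.Agent.Helper1.HFlat.isRegularLocalRing_iff_of_isStrictHenselization R₁ _).mp
      inferInstance
  haveI hdom : IsDomain (Groth.Agent.Helper1.SHzn.S R₁) := Groth.Agent.Lead.RLR.isDomain _
  haveI hff : Module.FaithfullyFlat R₁ (Groth.Agent.Helper1.SHzn.S R₁) :=
    Groth.Agent.Helper1.HFlat.faithfullyFlat_of_isStrictHenselization R₁ _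
  have hm' : (maximalIdeal R₁).map (algebraMap R₁ (Groth.Agent.Helper1.SHzn.S R₁)) =
      maximalIdeal (Groth.Agent.Helper1.SHzn.S R₁) :=
    Groth.Agent.Helper1.SHzn.map_maximalIdeal_eq_of_isStrictHenselization R₁ _
  have hinj' : Function.Injective (algebraMap R₁ (Groth.Agent.Helper1.SHzn.S R₁)) :=
    FaithfulSMul.algebraMap_injective _ _
  letI alg : Algebra R (Groth.Agent.Helper1.SHzn.S R₁) :=
    ((algebraMap R₁ (Groth.Agent.Helper1.SHzn.S R₁)).comp (algebraMap R R₁)).toAlgebra
  haveI : IsScalarTower R R₁ (Groth.Agent.Helper1.SHzn.S R₁) :=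
    IsScalarTower.of_algebraMap_eq (fun _ => rfl)
  have halg : algebraMap R (Groth.Agent.Helper1.SHzn.S R₁) =
      (algebraMap R₁ (Groth.Agent.Helper1.SHzn.S R₁)).comp (algebraMap R R₁) := rfl
  haveI hloc : IsLocalHom (algebraMap R (Groth.Agent.Helper1.SHzn.S R₁)) := by
    rw [halg]
    infer_instance
  have hmm : (maximalIdeal R).map (algebraMap R (Groth.Agent.Helper1.SHzn.S R₁)) =
      maximalIdeal (Groth.Agent.Helper1.SHzn.S R₁) := by
    rw [halg, ← Ideal.map_map, hm, hm']
  haveI hdvr : IsDiscreteValuationRing (Groth.Agent.Helper1.SHzn.S R₁) :=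
    isDVR_of_map_maximalIdeal R _ (algebraMap R (Groth.Agent.Helper1.SHzn.S R₁))
      (by rw [halg]; exact hinj'.comp hinj) hmm
  haveI hhens : HenselianLocalRing (Groth.Agent.Helper1.SHzn.S R₁) := inferInstance
  have hsc : IsSepClosure (ResidueField R₁) (ResidueField (Groth.Agent.Helper1.SHzn.S R₁)) :=
    Hensel.IsStrictHenselization.isSepClosure
  haveI hsepc : IsSepClosed (ResidueField (Groth.Agent.Helper1.SHzn.S R₁)) := hsc.sep_closed
  haveI hsep : Algebra.IsSeparable (ResidueField R₁)
      (ResidueField (Groth.Agent.Helper1.SHzn.S R₁)) := hsc.separable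
  haveI hfs1 : Algebra.FormallySmooth (ResidueField R) (ResidueField R₁) :=
    formallySmooth_residueField R R₁ hm
  haveI hfe : Algebra.FormallyEtale (ResidueField R₁)
      (ResidueField (Groth.Agent.Helper1.SHzn.S R₁)) := Algebra.FormallyEtale.of_isSeparable _ _
  haveI htower : IsScalarTower (ResidueField R) (ResidueField R₁)
      (ResidueField (Groth.Agent.Helper1.SHzn.S R₁)) := by
    refine IsScalarTower.of_algebraMap_eq (fun x => ?_)
    obtain ⟨r, rfl⟩ := residue_surjective x
    rw [ResidueField.algebraMap_residue, ResidueField.algebraMap_residue,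
      ResidueField.algebraMap_residue]
    rfl
  haveI hfs : Algebra.FormallySmooth (ResidueField R)
      (ResidueField (Groth.Agent.Helper1.SHzn.S R₁)) :=
    Algebra.FormallySmooth.comp (ResidueField R) (ResidueField R₁) _
  have hgr : Algebra.IsGeometricallyReduced (ResidueField R)
      (ResidueField (Groth.Agent.Helper1.SHzn.S R₁)) :=
    Groth.Agent.Helper9.SepFS.isGeometricallyReduced_of_formallySmooth
  refine ⟨Groth.Agent.Helper1.SHzn.S R₁, inferInstance, hdom, hdvr, alg, hloc, hhens, hsepc,
    algebraMap R₁ _, rfl, ?_, ?_, hmm, hgr, by rw [halg]; exact hinj'.comp hinj⟩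
  · exact RingHom.flat_algebraMap_iff.mpr inferInstance
  · exact PrimeSpectrum.comap_surjective_of_faithfullyFlat

end Groth.Agent.Helper7.NeronCrit
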