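import Mathlib
import Groth.Agent.S3844
import Groth.Agent.Lib.Helper14.NerA
import Groth.Agent.Lib.Helper21.GrpdSat

/-!
# Descent of extensions of morphisms along flat surjective morphisms (local step)
-/

set_option autoImplicit false
set_option linter.style.haveILetI false
universe u
open CategoryTheory AlgebraicGeometry TopologicalSpace Limits

namespace Groth.Agent.Helper7.NeronDesc

/-- the canonical morphism `Spec 𝒪_{X,x} ⟶ X` is flat -/
theorem flat_fromSpecStalk (X : Scheme.{u}) (x : X) : Flat (X.fromSpecStalk x) := by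
  obtain ⟨U, hU, hxU, -⟩ :=
    TopologicalSpace.Opens.isBasis_iff_nbhd.mp X.isBasis_affineOpens
      (show x ∈ (⊤ : X.Opens) from trivial)
  have hU : IsAffineOpen U := hU
  rw [← hU.fromSpecStalk_eq_fromSpecStalk hxU]
  unfold IsAffineOpen.fromSpecStalk
  haveI h1 : Flat (Spec.map (X.presheaf.germ U x hxU)) := by
    letI : Algebra Γ(X, U) (X.presheaf.stalk x) := (X.presheaf.germ U x hxU).hom.toAlgebra
    haveI := hU.isLocalization_stalk ⟨x, hxU⟩
    rw [HasRingHomProperty.Spec_iff (P := @Flat)]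
    exact RingHom.flat_algebraMap_iff.mpr
      (IsLocalization.flat _ (hU.primeIdealOf ⟨x, hxU⟩).asIdeal.primeCompl)
  exact MorphismProperty.comp_mem _ _ _ h1 inferInstance

variable {Y Y' N S : Scheme.{u}}

theorem flat_SpecMap_stalkMap (π : Y' ⟶ Y) [Flat π] (y' : Y') :
    Flat (Spec.map (π.stalkMap y')) := by
  rw [HasRingHomProperty.Spec_iff (P := @Flat)]
  exact Flat.stalkMap π y'

theorem surjective_SpecMap_stalkMap (π : Y' ⟶ Y) [Flat π] (y' : Y') :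
    Surjective (Spec.map (π.stalkMap y')) := by
  have hflat : (π.stalkMap y').hom.Flat := Flat.stalkMap π y'
  algebraize [(π.stalkMap y').hom]
  haveI : IsLocalHom (algebraMap (Y.presheaf.stalk (π y')) (Y'.presheaf.stalk y')) := by
    show IsLocalHom (π.stalkMap y').hom
    infer_instance
  haveI : Module.FaithfullyFlat (Y.presheaf.stalk (π y')) (Y'.presheaf.stalk y') :=
    Module.FaithfullyFlat.of_flat_of_isLocalHom
  constructor
  intro p
  obtain ⟨q, hq⟩ := PrimeSpectrum.comap_surjective_of_faithfullyFlat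
    (A := Y.presheaf.stalk (π y')) (B := Y'.presheaf.stalk y') p
  exact ⟨q, hq⟩

theorem dom_preimage [IsLocallyNoetherian Y] {Q : Scheme.{u}} (q : Q ⟶ Y) [Flat q] (V : Y.Opens)
    (hV : CInt.IsSchematicallyDense V) : IsSchemeTheoreticallyDominant (q ⁻¹ᵁ V).ι :=
  Groth.Agent.Helper14.Ner.isSchemeTheoreticallyDominant_ι (Groth.Agent.S3844.result q V hV)

theorem eq_of_dense [IsLocallyNoetherian Y] {Q : Scheme.{u}} (q : Q ⟶ Y) [Flat q] (V : Y.Opens)
    (hV : CInt.IsSchematicallyDense V) (sN : N ⟶ S) [IsSeparated sN] (a₁ a₂ : Q ⟶ N)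
    (hs : a₁ ≫ sN = a₂ ≫ sN) (hD : (q ⁻¹ᵁ V).ι ≫ a₁ = (q ⁻¹ᵁ V).ι ≫ a₂) : a₁ = a₂ := by
  haveI := dom_preimage q V hV
  exact Groth.Agent.Helper14.Ner.ext_of_isSchemeTheoreticallyDominant sN hs (q ⁻¹ᵁ V).ι hD

theorem exists_local [IsLocallyNoetherian Y] (π : Y' ⟶ Y) [Flat π] (V : Y.Opens)
    (hV : CInt.IsSchematicallyDense V) (sY : Y ⟶ S) (sN : N ⟶ S) [IsSeparated sN]
    [LocallyOfFiniteType sN] (u₀ : (V : Scheme.{u}) ⟶ N) (h' : Y' ⟶ N)
    (hh' : h' ≫ sN = π ≫ sY)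
    (hc : ∀ (Q : Scheme.{u}) (a : Q ⟶ Y') (b : Q ⟶ (V : Scheme.{u})),
      a ≫ π = b ≫ V.ι → a ≫ h' = b ≫ u₀)
    (y' : Y') :
    ∃ (W : Y.Opens) (f : (W : Scheme.{u}) ⟶ N), π y' ∈ W ∧ f ≫ sN = W.ι ≫ sY ∧
      ∀ z' : Y', z' ⤳ y' → ∀ (hz : π z' ∈ W) (hzV : π z' ∈ V),
        W.fromSpecStalkOfMem (π z') hz ≫ f = V.fromSpecStalkOfMem (π z') hzV ≫ u₀ := by
  haveI hτf : Flat (Spec.map (π.stalkMap y')) := flat_SpecMap_stalkMap π y'
  haveI hτs : Surjective (Spec.map (π.stalkMap y')) := surjective_SpecMap_stalkMap π y'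
  obtain ⟨τ, hτ⟩ : ∃ τ, τ = Spec.map (π.stalkMap y') := ⟨_, rfl⟩
  haveI : Flat τ := hτ ▸ hτf
  haveI : Surjective τ := hτ ▸ hτs
  haveI : QuasiCompact τ := by rw [hτ]; infer_instance
  have hτc : τ ≫ Y.fromSpecStalk (π y') = Y'.fromSpecStalk y' ≫ π := by
    rw [hτ]; exact Scheme.SpecMap_stalkMap_fromSpecStalk π
  obtain ⟨φ', hφ'⟩ : ∃ φ' : Spec (Y'.presheaf.stalk y') ⟶ N, φ' = Y'.fromSpecStalk y' ≫ h' :=
    ⟨_, rfl⟩
  have hφ'S : φ' ≫ sN = τ ≫ Y.fromSpecStalk (π y') ≫ sY := by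
    rw [hφ', Category.assoc, hh', ← Category.assoc, ← hτc, Category.assoc]
  have key : pullback.fst τ τ ≫ φ' = pullback.snd τ τ ≫ φ' := by
    haveI : Flat (Y.fromSpecStalk (π y')) := flat_fromSpecStalk Y _
    obtain ⟨q, hq⟩ : ∃ q : pullback τ τ ⟶ Y, q = pullback.fst τ τ ≫ τ ≫ Y.fromSpecStalk (π y') :=
      ⟨_, rfl⟩
    haveI : Flat q := by rw [hq]; infer_instance
    have hq2 : q = pullback.snd τ τ ≫ τ ≫ Y.fromSpecStalk (π y') := by
      rw [hq, pullback.condition_assoc]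
    refine eq_of_dense q V hV sN _ _ ?_ ?_
    · rw [Category.assoc, Category.assoc, hφ'S, ← Category.assoc, ← Category.assoc,
        ← Category.assoc, ← Category.assoc, pullback.condition]
    · have h1 := hc _ ((q ⁻¹ᵁ V).ι ≫ pullback.fst τ τ ≫ Y'.fromSpecStalk y') (q ∣_ V) (by
        rw [morphismRestrict_ι, Category.assoc, Category.assoc, ← hτc, hq])
      have h2 := hc _ ((q ⁻¹ᵁ V).ι ≫ pullback.snd τ τ ≫ Y'.fromSpecStalk y') (q ∣_ V) (by
        rw [morphismRestrict_ι, Category.assoc, Category.assoc, ← hτc, hq2])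
      rw [hφ']
      simp only [Category.assoc] at h1 h2 ⊢
      rw [h1, h2]
  have hcocycle : ∀ {Z : Scheme.{u}} (g₁ g₂ : Z ⟶ Spec (Y'.presheaf.stalk y')),
      g₁ ≫ τ = g₂ ≫ τ → g₁ ≫ φ' = g₂ ≫ φ' := by
    intro Z g₁ g₂ hg
    calc g₁ ≫ φ' = (pullback.lift g₁ g₂ hg ≫ pullback.fst τ τ) ≫ φ' := by rw [pullback.lift_fst]
      _ = (pullback.lift g₁ g₂ hg ≫ pullback.snd τ τ) ≫ φ' := by
        rw [Category.assoc, key, Category.assoc]
      _ = g₂ ≫ φ' := by rw [pullback.lift_snd]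
  haveI : EffectiveEpi τ := inferInstance
  obtain ⟨φ, hφ⟩ : ∃ φ : Spec (Y.presheaf.stalk (π y')) ⟶ N, τ ≫ φ = φ' :=
    ⟨EffectiveEpi.desc τ φ' hcocycle, EffectiveEpi.fac τ φ' hcocycle⟩
  haveI : Epi τ := Flat.epi_of_flat_of_surjective τ
  have hφS : φ ≫ sN = Y.fromSpecStalk (π y') ≫ sY := by
    rw [← cancel_epi τ, ← Category.assoc, hφ, hφ'S]
  obtain ⟨W, hyW, f, hφf, hfS⟩ := spread_out_of_isGermInjective' sY sN φ hφS
  refine ⟨W, f, hyW, hfS, ?_⟩
  intro z' hz' hzW hzV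
  haveI : Flat (Spec.map (π.stalkMap z')) := flat_SpecMap_stalkMap π z'
  haveI : Surjective (Spec.map (π.stalkMap z')) := surjective_SpecMap_stalkMap π z'
  haveI : Epi (Spec.map (π.stalkMap z')) := Flat.epi_of_flat_of_surjective _
  rw [← cancel_epi (Spec.map (π.stalkMap z'))]
  have hR := hc _ (Y'.fromSpecStalk z')
    (Spec.map (π.stalkMap z') ≫ V.fromSpecStalkOfMem (π z') hzV) (by
      rw [Category.assoc, Scheme.Opens.fromSpecStalkOfMem_ι, Scheme.SpecMap_stalkMap_fromSpecStalk])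
  rw [Category.assoc] at hR
  rw [← hR]
  have e3 : W.fromSpecStalkOfMem (π z') hzW =
      Spec.map (Y.presheaf.stalkSpecializes (π.base.hom.map_specializes hz')) ≫
        W.fromSpecStalkOfMem (π y') hyW := by
    rw [← cancel_mono W.ι, Category.assoc, Scheme.Opens.fromSpecStalkOfMem_ι,
      Scheme.Opens.fromSpecStalkOfMem_ι, Scheme.SpecMap_stalkSpecializes_fromSpecStalk]
  have e4 : Spec.map (π.stalkMap z') ≫
      Spec.map (Y.presheaf.stalkSpecializes (π.base.hom.map_specializes hz')) =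
      Spec.map (Y'.presheaf.stalkSpecializes hz') ≫ τ := by
    rw [hτ, ← Spec.map_comp, ← Spec.map_comp, Scheme.Hom.stalkSpecializes_stalkMap]
  rw [e3, Category.assoc, ← hφf, ← Category.assoc, e4, Category.assoc, hφ, hφ', ← Category.assoc,
    Scheme.SpecMap_stalkSpecializes_fromSpecStalk]

end Groth.Agent.Helper7.NeronDesc
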