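import Mathlib
import Groth.Agent.Lib.Helper7.NeronCrit1
import Groth.Agent.Lib.Helper7.NeronDesc1
import Groth.Agent.Lib.Helper12.WeilE
import Groth.Agent.Lib.Helper12.SmoothNhd

/-!
# Néron lft criterion: local rings at generic points of the special fibre of a smooth scheme
over a DVR
-/

set_option autoImplicit false
set_option linter.style.haveILetI false
set_option linter.unusedSectionVars false

universe u

open CategoryTheory AlgebraicGeometry IsLocalRing

namespace Groth.Agent.Helper7.NeronCrit

variable (R : Type u) [CommRing R] {X : Scheme.{u}} (pX : X ⟶ Spec (CommRingCat.of R)) (η : X)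

/-- the structure map `R → 𝒪_{X,η}` -/
noncomputable def strMap : CommRingCat.of R ⟶ X.presheaf.stalk η :=
  Spec.preimage (X.fromSpecStalk η ≫ pX)

theorem SpecMap_strMap : Spec.map (strMap R pX η) = X.fromSpecStalk η ≫ pX :=
  Spec.map_preimage _

theorem strMap_eq_toStalk :
    strMap R pX η = StructureSheaf.toStalk R (pX η) ≫ pX.stalkMap η := by
  apply Spec.map_injective
  rw [SpecMap_strMap, Spec.map_comp]
  have h := Spec.fromSpecStalk_eq' (CommRingCat.of R) (pX η)
  have h2 := Scheme.SpecMap_stalkMap_fromSpecStalk pX (x := η)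
  rw [h] at h2
  exact h2.symm

theorem strMap_eq_germ {V : X.Opens} (hV : IsAffineOpen V) (hη : η ∈ V) :
    strMap R pX η = ((Scheme.ΓSpecIso (CommRingCat.of R)).inv ≫ pX.appLE ⊤ V le_top) ≫
      X.presheaf.germ V η hη := by
  apply Spec.map_injective
  have h1 := IsAffineOpen.SpecMap_appLE_fromSpec pX (isAffineOpen_top _) hV le_top
  rw [IsAffineOpen.fromSpec_top, Scheme.isoSpec_Spec_inv] at h1
  rw [SpecMap_strMap, Spec.map_comp, Spec.map_comp, ← hV.fromSpecStalk_eq_fromSpecStalk hη,
    IsAffineOpen.fromSpecStalk, Category.assoc, ← h1]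

theorem pX_fromSpecStalk_apply (q : Spec (X.presheaf.stalk η)) :
    pX (X.fromSpecStalk η q) = PrimeSpectrum.comap (strMap R pX η).hom q := by
  rw [← Scheme.Hom.comp_apply, ← SpecMap_strMap]
  rfl

theorem flat_strMap [Flat pX] : (strMap R pX η).hom.Flat := by
  rw [← HasRingHomProperty.Spec_iff (P := @Flat), SpecMap_strMap]
  haveI := Groth.Agent.Helper7.NeronDesc.flat_fromSpecStalk X η
  infer_instance

theorem formallySmooth_strMap [Smooth pX] : (strMap R pX η).hom.FormallySmooth := by
  obtain ⟨V, hV, hηV⟩ : ∃ V : X.Opens, IsAffineOpen V ∧ η ∈ V := by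
    obtain ⟨_, ⟨V, hV, rfl⟩, hxV, -⟩ :=
      X.isBasis_affineOpens.exists_subset_of_mem_open (Set.mem_univ η) isOpen_univ
    exact ⟨V, hV, hxV⟩
  rw [strMap_eq_germ R pX η hV hηV, CommRingCat.hom_comp]
  have hsm : ((Scheme.ΓSpecIso (CommRingCat.of R)).inv ≫ pX.appLE ⊤ V le_top).hom.Smooth := by
    rw [CommRingCat.hom_comp, RingHom.Smooth.respectsIso.cancel_left_isIso]
    exact HasRingHomProperty.appLE (P := @Smooth) pX inferInstance ⟨⊤, isAffineOpen_top _⟩
      ⟨V, hV⟩ le_top
  have hg : (X.presheaf.germ V η hηV).hom.FormallySmooth := by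
    letI : Algebra Γ(X, V) (X.presheaf.stalk η) := (X.presheaf.germ V η hηV).hom.toAlgebra
    haveI := hV.isLocalization_stalk ⟨η, hηV⟩
    exact RingHom.formallySmooth_algebraMap.mpr
      (Algebra.FormallySmooth.of_isLocalization (hV.primeIdealOf ⟨η, hηV⟩).asIdeal.primeCompl)
  exact hsm.formallySmooth.comp hg

variable [IsLocalRing R]

theorem isLocalHom_strMap (hη : pX η = closedPoint R) : IsLocalHom (strMap R pX η).hom := by
  have h : PrimeSpectrum.comap (strMap R pX η).hom (closedPoint (X.presheaf.stalk η)) =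
      closedPoint R := by
    have := pX_fromSpecStalk_apply R pX η (closedPoint (X.presheaf.stalk η))
    rw [Scheme.fromSpecStalk_closedPoint, hη] at this
    exact this.symm
  exact ((IsLocalRing.local_hom_TFAE _).out 0 4).mpr (congrArg PrimeSpectrum.asIdeal h)

theorem injective_strMap [Flat pX] (hη : pX η = closedPoint R) :
    Function.Injective (strMap R pX η).hom := by
  have hflat := flat_strMap R pX η
  haveI := isLocalHom_strMap R pX η hη
  algebraize [(strMap R pX η).hom]
  haveI : IsLocalHom (algebraMap R (X.presheaf.stalk η)) := by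
    show IsLocalHom (strMap R pX η).hom
    infer_instance
  haveI : Module.FaithfullyFlat R (X.presheaf.stalk η) :=
    Module.FaithfullyFlat.of_flat_of_isLocalHom
  exact FaithfulSMul.algebraMap_injective R (X.presheaf.stalk η)

theorem fibIdeal_eq (hη : pX η = closedPoint R) :
    Groth.Agent.Helper16.FibStalk.fibIdeal pX η =
      Ideal.map (strMap R pX η).hom (maximalIdeal R) := by
  rw [Groth.Agent.Helper16.FibStalk.fibIdeal_def, strMap_eq_toStalk, CommRingCat.hom_comp,
    ← Ideal.map_map]
  congr 1
  let y : PrimeSpectrum R := pX η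
  haveI := y.isPrime
  letI : Algebra R ((Spec (CommRingCat.of R)).presheaf.stalk (pX η)) :=
    StructureSheaf.stalkAlgebra R y
  haveI hloc : IsLocalization.AtPrime ((Spec (CommRingCat.of R)).presheaf.stalk (pX η))
      y.asIdeal := StructureSheaf.IsLocalization.to_stalk R y
  have h1 := IsLocalization.AtPrime.map_eq_maximalIdeal y.asIdeal
    ((Spec (CommRingCat.of R)).presheaf.stalk (pX η))
  have h2 : y.asIdeal = maximalIdeal R := congrArg PrimeSpectrum.asIdeal hη
  rw [h2] at h1
  exact h1.symm

/-- at a generic point of the special fibre, the maximal ideal of the local ring is generated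
by the maximal ideal of the base -/
theorem map_maximalIdeal_eq [Smooth pX] (hη : pX η = closedPoint R)
    (hgen : ∀ z : X, z ⤳ η → pX z = closedPoint R → z = η) :
    Ideal.map (strMap R pX η).hom (maximalIdeal R) = maximalIdeal (X.presheaf.stalk η) := by
  haveI hreg := Groth.Agent.Helper12.SmoothNhd.isRegularLocalRing_fibre_of_smooth pX η
  haveI hdom : IsDomain (X.presheaf.stalk η ⧸ Groth.Agent.Helper16.FibStalk.fibIdeal pX η) :=
    Groth.Agent.Lead.RLR.isDomain _
  have hprime : (Groth.Agent.Helper16.FibStalk.fibIdeal pX η).IsPrime :=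
    (Ideal.Quotient.isDomain_iff_prime _).mp hdom
  rw [fibIdeal_eq R pX η hη] at hprime
  let P : PrimeSpectrum (X.presheaf.stalk η) := ⟨_, hprime⟩
  have hz1 : X.fromSpecStalk η P ⤳ η := by
    have : X.fromSpecStalk η P ∈ Set.range (X.fromSpecStalk η) := ⟨P, rfl⟩
    rw [Scheme.range_fromSpecStalk] at this
    exact this
  have hz2 : pX (X.fromSpecStalk η P) = closedPoint R := by
    rw [pX_fromSpecStalk_apply]
    apply PrimeSpectrum.ext
    have hle : maximalIdeal R ≤ (PrimeSpectrum.comap (strMap R pX η).hom P).asIdeal :=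
      Ideal.le_comap_map
    exact ((maximalIdeal.isMaximal R).eq_of_le
      (PrimeSpectrum.comap (strMap R pX η).hom P).isPrime.ne_top hle).symm
  have hz := hgen _ hz1 hz2
  have hinj : Function.Injective (X.fromSpecStalk η) :=
    (Scheme.Hom.isEmbedding (X.fromSpecStalk η)).injective
  have hP : P = closedPoint (X.presheaf.stalk η) := by
    apply hinj
    rw [hz, Scheme.fromSpecStalk_closedPoint]
  exact congrArg PrimeSpectrum.asIdeal hP

end Groth.Agent.Helper7.NeronCrit
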