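import Mathlib
import Groth.Agent.Lib.Helper7.NeronDesc1

/-!
# Descent of extensions of morphisms along flat surjective morphisms (shrinking and gluing)
-/

set_option autoImplicit false
set_option linter.style.haveILetI false
universe u
open CategoryTheory AlgebraicGeometry TopologicalSpace Limits

namespace Groth.Agent.Helper7.NeronDesc

variable {Y Y' N S : Scheme.{u}}

/-- germ-level compatibility at all generizations of `y` spreads to a neighbourhood. -/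
theorem shrink [IsLocallyNoetherian Y] (W V : Y.Opens) (f : (W : Scheme.{u}) ⟶ N)
    (u₀ : (V : Scheme.{u}) ⟶ N) (y : Y) (hyW : y ∈ W)
    (hg : ∀ z : Y, z ⤳ y → ∀ (hz : z ∈ W) (hzV : z ∈ V),
      W.fromSpecStalkOfMem z hz ≫ f = V.fromSpecStalkOfMem z hzV ≫ u₀) :
    ∃ (W₁ : Y.Opens) (hle : W₁ ≤ W), y ∈ W₁ ∧
      ∀ (Q : Scheme.{u}) (a : Q ⟶ (W₁ : Scheme.{u})) (b : Q ⟶ (V : Scheme.{u})),
        a ≫ W₁.ι = b ≫ V.ι → a ≫ Y.homOfLE hle ≫ f = b ≫ u₀ := by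
  obtain ⟨P, hP⟩ : ∃ P : Y.Opens, P = W ⊓ V := ⟨_, rfl⟩
  have hPW : P ≤ W := hP ▸ inf_le_left
  have hPV : P ≤ V := hP ▸ inf_le_right
  obtain ⟨f₁, hf₁⟩ : ∃ f₁ : (P : Scheme.{u}) ⟶ N, f₁ = Y.homOfLE hPW ≫ f := ⟨_, rfl⟩
  obtain ⟨f₂, hf₂⟩ : ∃ f₂ : (P : Scheme.{u}) ⟶ N, f₂ = Y.homOfLE hPV ≫ u₀ := ⟨_, rfl⟩
  -- the agreement locus
  let A : Set (P : Scheme.{u}) :=
    {x | ∃ O : (P : Scheme.{u}).Opens, x ∈ O ∧ O.ι ≫ f₁ = O.ι ≫ f₂}
  have hAopen : IsOpen A := by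
    rw [isOpen_iff_forall_mem_open]
    rintro x ⟨O, hxO, hO⟩
    exact ⟨O, fun x' hx' => ⟨O, hx', hO⟩, O.isOpen, hxO⟩
  have hZ : IsClosed Aᶜ := hAopen.isClosed_compl
  haveI : QuasiCompact P.ι := inferInstance
  have hy : y ∉ closure (P.ι.base '' Aᶜ) := by
    intro hy
    obtain ⟨x, hxZ, hxy⟩ :=
      Groth.Agent.Helper21.GrpdSat.exists_specializes_of_mem_closure_image P.ι Aᶜ hZ y hy
    apply hxZ
    have hzW : P.ι x ∈ W := hPW x.2
    have hzV : P.ι x ∈ V := hPV x.2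
    have hgz := hg (P.ι x) hxy hzW hzV
    have e1 : (P : Scheme.{u}).fromSpecStalk x ≫ Y.homOfLE hPW =
        Spec.map (P.ι.stalkMap x) ≫ W.fromSpecStalkOfMem (P.ι x) hzW := by
      rw [← cancel_mono W.ι, Category.assoc, Category.assoc, Scheme.homOfLE_ι,
        Scheme.Opens.fromSpecStalkOfMem_ι, Scheme.SpecMap_stalkMap_fromSpecStalk]
    have e2 : (P : Scheme.{u}).fromSpecStalk x ≫ Y.homOfLE hPV =
        Spec.map (P.ι.stalkMap x) ≫ V.fromSpecStalkOfMem (P.ι x) hzV := by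
      rw [← cancel_mono V.ι, Category.assoc, Category.assoc, Scheme.homOfLE_ι,
        Scheme.Opens.fromSpecStalkOfMem_ι, Scheme.SpecMap_stalkMap_fromSpecStalk]
    have e3 : (P : Scheme.{u}).fromSpecStalk x ≫ f₁ = (P : Scheme.{u}).fromSpecStalk x ≫ f₂ := by
      rw [hf₁, hf₂, ← Category.assoc, ← Category.assoc, e1, e2, Category.assoc, Category.assoc, hgz]
    obtain ⟨O, hxO, hO⟩ := spread_out_unique_of_isGermInjective' f₁ f₂ e3
    exact ⟨O, hxO, hO⟩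
  let C : Y.Opens := ⟨(closure (P.ι.base '' Aᶜ))ᶜ, isClosed_closure.isOpen_compl⟩
  refine ⟨W ⊓ C, inf_le_left, ⟨hyW, hy⟩, ?_⟩
  intro Q a b hab
  -- factor through P
  have hrange : Set.range (a ≫ (W ⊓ C).ι).base ⊆ Set.range P.ι.base := by
    rw [Scheme.Opens.range_ι]
    rintro _ ⟨q, rfl⟩
    rw [hP]
    refine ⟨?_, ?_⟩
    · rw [Scheme.Hom.comp_base, TopCat.comp_app]
      exact (a.base q).2.1
    · rw [hab, Scheme.Hom.comp_base, TopCat.comp_app]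
      exact (b.base q).2
  obtain ⟨c, hc⟩ : ∃ c : Q ⟶ (P : Scheme.{u}), c ≫ P.ι = a ≫ (W ⊓ C).ι :=
    ⟨IsOpenImmersion.lift P.ι (a ≫ (W ⊓ C).ι) hrange, IsOpenImmersion.lift_fac _ _ _⟩
  have ha : a ≫ Y.homOfLE (inf_le_left : W ⊓ C ≤ W) = c ≫ Y.homOfLE hPW := by
    rw [← cancel_mono W.ι, Category.assoc, Category.assoc, Scheme.homOfLE_ι, Scheme.homOfLE_ι, hc]
  have hb : b = c ≫ Y.homOfLE hPV := by
    rw [← cancel_mono V.ι, Category.assoc, Scheme.homOfLE_ι, hc, hab]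
  have hcA : ∀ q : Q, c.base q ∈ A := by
    intro q
    by_contra hq
    have h1 : P.ι.base (c.base q) ∈ closure (P.ι.base '' Aᶜ) := subset_closure ⟨_, hq, rfl⟩
    have h2 : P.ι.base (c.base q) = (W ⊓ C).ι.base (a.base q) := by
      rw [← TopCat.comp_app, ← Scheme.Hom.comp_base, hc, Scheme.Hom.comp_base, TopCat.comp_app]
    rw [h2] at h1
    exact (a.base q).2.2 h1
  have hcf : c ≫ f₁ = c ≫ f₂ := by
    choose O hqO hO using hcA
    refine Scheme.Cover.hom_ext (Q.openCoverOfIsOpenCover (fun q => c ⁻¹ᵁ O q) ?_) _ _ ?_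
    · rw [IsOpenCover, eq_top_iff]
      intro q _
      rw [Opens.mem_iSup]
      exact ⟨q, hqO q⟩
    · intro (q : Q)
      change (c ⁻¹ᵁ O q).ι ≫ c ≫ f₁ = (c ⁻¹ᵁ O q).ι ≫ c ≫ f₂
      have e : ∀ t : (P : Scheme.{u}) ⟶ N, (c ⁻¹ᵁ O q).ι ≫ c ≫ t = (c ∣_ O q) ≫ (O q).ι ≫ t := by
        intro t
        rw [← Category.assoc, ← morphismRestrict_ι, Category.assoc]
      rw [e f₁, e f₂, hO q]
  rw [← Category.assoc, ha, Category.assoc, ← hf₁, hcf, hf₂, hb, Category.assoc]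

/-- **Descent of extensions.** -/
theorem core [IsLocallyNoetherian Y] (π : Y' ⟶ Y) [Flat π] [Surjective π] (V : Y.Opens)
    (hV : CInt.IsSchematicallyDense V) (sY : Y ⟶ S) (sN : N ⟶ S) [IsSeparated sN]
    [LocallyOfFiniteType sN] (u₀ : (V : Scheme.{u}) ⟶ N) (h' : Y' ⟶ N)
    (hh' : h' ≫ sN = π ≫ sY)
    (hc : ∀ (Q : Scheme.{u}) (a : Q ⟶ Y') (b : Q ⟶ (V : Scheme.{u})),
      a ≫ π = b ≫ V.ι → a ≫ h' = b ≫ u₀) :
    ∃ h : Y ⟶ N, h ≫ sN = sY ∧ V.ι ≫ h = u₀ := by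
  have hloc : ∀ y : Y, ∃ (W₁ : Y.Opens) (f₁ : (W₁ : Scheme.{u}) ⟶ N), y ∈ W₁ ∧
      f₁ ≫ sN = W₁.ι ≫ sY ∧
      ∀ (Q : Scheme.{u}) (a : Q ⟶ (W₁ : Scheme.{u})) (b : Q ⟶ (V : Scheme.{u})),
        a ≫ W₁.ι = b ≫ V.ι → a ≫ f₁ = b ≫ u₀ := by
    intro y
    obtain ⟨y', rfl⟩ := Surjective.surj (f := π) y
    obtain ⟨W, f, hyW, hfS, hg⟩ := exists_local π V hV sY sN u₀ h' hh' hc y'
    obtain ⟨W₁, hle, hyW₁, hcompat⟩ := shrink W V f u₀ (π y') hyW (by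
      intro z hz hzW hzV
      obtain ⟨z', hz', rfl⟩ := Flat.generalizingMap π hz
      exact hg z' hz' hzW hzV)
    refine ⟨W₁, Y.homOfLE hle ≫ f, hyW₁, ?_, hcompat⟩
    rw [Category.assoc, hfS, ← Category.assoc, Scheme.homOfLE_ι]
  choose W f hyW hfS hcompat using hloc
  let 𝒰 : Y.OpenCover := Y.openCoverOfIsOpenCover W (by
    rw [IsOpenCover, eq_top_iff]
    intro y _
    rw [Opens.mem_iSup]
    exact ⟨y, hyW y⟩)
  have hglue : ∀ x y : 𝒰.I₀, pullback.fst (𝒰.f x) (𝒰.f y) ≫ f x =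
      pullback.snd (𝒰.f x) (𝒰.f y) ≫ f y := by
    intro x y
    change pullback.fst (W x).ι (W y).ι ≫ f x = pullback.snd (W x).ι (W y).ι ≫ f y
    obtain ⟨q, hq⟩ : ∃ q : pullback (W x).ι (W y).ι ⟶ Y, q = pullback.fst (W x).ι (W y).ι ≫ (W x).ι :=
      ⟨_, rfl⟩
    haveI : Flat q := by rw [hq]; infer_instance
    have hq2 : q = pullback.snd (W x).ι (W y).ι ≫ (W y).ι := by rw [hq, pullback.condition]
    refine eq_of_dense q V hV sN _ _ ?_ ?_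
    · rw [Category.assoc, Category.assoc, hfS, hfS, ← Category.assoc, ← Category.assoc,
        pullback.condition]
    · have h1 := hcompat x _ ((q ⁻¹ᵁ V).ι ≫ pullback.fst (W x).ι (W y).ι) (q ∣_ V) (by
        rw [morphismRestrict_ι, Category.assoc, hq])
      have h2 := hcompat y _ ((q ⁻¹ᵁ V).ι ≫ pullback.snd (W x).ι (W y).ι) (q ∣_ V) (by
        rw [morphismRestrict_ι, Category.assoc, hq2])
      rw [Category.assoc] at h1 h2
      rw [h1, h2]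
  refine ⟨𝒰.glueMorphisms f hglue, ?_, ?_⟩
  · refine Scheme.Cover.hom_ext 𝒰 _ _ fun y => ?_
    rw [← Category.assoc, Scheme.Cover.ι_glueMorphisms]
    exact hfS y
  · refine Scheme.Cover.hom_ext (𝒰.pullback₁ V.ι) _ _ fun y => ?_
    change pullback.fst V.ι (W y).ι ≫ V.ι ≫ _ = pullback.fst V.ι (W y).ι ≫ u₀
    rw [← Category.assoc, pullback.condition, Category.assoc]
    have := Scheme.Cover.ι_glueMorphisms 𝒰 f hglue y
    change (W y).ι ≫ _ = f y at this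
    rw [this]
    exact hcompat y _ (pullback.snd V.ι (W y).ι) (pullback.fst V.ι (W y).ι) pullback.condition.symm

end Groth.Agent.Helper7.NeronDesc
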