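import Mathlib

/-!
# Extensions of group objects: the torsor square and the section trick
-/

set_option autoImplicit false
set_option linter.style.haveILetI false
set_option linter.unusedSectionVars false
universe u v
open CategoryTheory MonoidalCategory CartesianMonoidalCategory MonObj Limits

namespace Groth.Agent.Helper7.NeronExt

section Abstract

variable {C : Type u} [Category.{v} C] [CartesianMonoidalCategory C]
variable {G' G G'' : C} [GrpObj G'] [GrpObj G] [GrpObj G'']
variable (i : G' ⟶ G) (q : G ⟶ G'') [IsMonHom i] [IsMonHom q]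

theorem mono_of_isKernel (hker : IsPullback i (toUnit G') q η[G'']) : Mono i := by
  constructor
  intro W a b hab
  exact hker.hom_ext hab (toUnit_unique _ _)

theorem comp_eq_one (hker : IsPullback i (toUnit G') q η[G'']) : i ≫ q = 1 := by
  rw [hker.w, Hom.one_def]

theorem exists_lift_of_comp_eq_one (hker : IsPullback i (toUnit G') q η[G'']) {W : C}
    (e : W ⟶ G) (he : e ≫ q = 1) : ∃ c : W ⟶ G', c ≫ i = e := by
  refine ⟨hker.lift e (toUnit W) ?_, hker.lift_fst _ _ _⟩
  rw [he, Hom.one_def]

/-- the torsor square: `G' × G ≅ G ×_{G''} G`, `(g', g) ↦ (g, g i(g'))`. -/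
theorem isPullback_torsor (hker : IsPullback i (toUnit G') q η[G'']) :
    IsPullback (snd G' G) (snd G' G * (fst G' G ≫ i)) q q := by
  haveI := mono_of_isKernel i q hker
  have hiq := comp_eq_one i q hker
  have w : snd G' G ≫ q = (snd G' G * (fst G' G ≫ i)) ≫ q := by
    rw [MonObj.mul_comp, Category.assoc, hiq, MonObj.comp_one, _root_.mul_one]
  have key : ∀ {W : C} (a b : W ⟶ G), a ≫ q = b ≫ q → ∃ c : W ⟶ G', c ≫ i = a⁻¹ * b :=
    fun a b h => exists_lift_of_comp_eq_one i q hker (a⁻¹ * b) (by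
      rw [MonObj.mul_comp, GrpObj.inv_comp, h, inv_mul_cancel])
  refine IsPullback.of_isLimit' ⟨w⟩ (PullbackCone.IsLimit.mk _
    (fun s => lift (Classical.choose (key s.fst s.snd s.condition)) s.fst) ?_ ?_ ?_)
  · intro s
    exact lift_snd _ _
  · intro s
    have hc := Classical.choose_spec (key s.fst s.snd s.condition)
    rw [MonObj.comp_mul, lift_snd, ← Category.assoc, lift_fst, hc, mul_inv_cancel_left]
  · intro s m h1 h2
    have hc := Classical.choose_spec (key s.fst s.snd s.condition)
    apply CartesianMonoidalCategory.hom_ext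
    · rw [lift_fst, ← cancel_mono i, hc]
      have h3 : (m ≫ snd G' G) * (m ≫ fst G' G ≫ i) = s.snd := by
        rw [← MonObj.comp_mul]; exact h2
      rw [h1] at h3
      rw [Category.assoc, ← h3, inv_mul_cancel_left]
    · rw [lift_snd, h1]

/-- the section trick -/
theorem exists_sigma (hker : IsPullback i (toUnit G') q η[G'']) {Y T YK TK : C} (p : T ⟶ Y)
    (v : Y ⟶ G'') (t : T ⟶ G) (ht : t ≫ q = p ≫ v) (jT : TK ⟶ T) (jY : YK ⟶ Y) (pK : TK ⟶ YK)
    (hp : pK ≫ jY = jT ≫ p) (u' : YK ⟶ G) (hu' : u' ≫ q = jY ≫ v)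
    (hext : ∀ d' : TK ⟶ G', ∃ d : T ⟶ G', jT ≫ d = d') :
    ∃ σ : T ⟶ G, σ ≫ q = p ≫ v ∧ jT ≫ σ = pK ≫ u' := by
  have hiq := comp_eq_one i q hker
  obtain ⟨d', hd'⟩ := exists_lift_of_comp_eq_one i q hker ((jT ≫ t)⁻¹ * (pK ≫ u')) (by
    rw [MonObj.mul_comp, GrpObj.inv_comp, Category.assoc, Category.assoc, ht, hu',
      ← Category.assoc pK, hp, Category.assoc, inv_mul_cancel])
  obtain ⟨d, hd⟩ := hext d'
  refine ⟨t * (d ≫ i), ?_, ?_⟩
  · rw [MonObj.mul_comp, Category.assoc, hiq, MonObj.comp_one, _root_.mul_one, ht]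
  · rw [MonObj.comp_mul, ← Category.assoc, hd, hd', mul_inv_cancel_left]

end Abstract

section Sch

open AlgebraicGeometry

variable {S : Scheme.{u}} {G' G G'' : Over S} [GrpObj G'] [GrpObj G] [GrpObj G'']
variable (i : G' ⟶ G) (q : G ⟶ G'') [IsMonHom i] [IsMonHom q]

/-- the quotient map of an extension with smooth kernel is smooth -/
theorem smooth_of_isKernel (hker : IsPullback i (toUnit G') q η[G'']) [Smooth G'.hom]
    [Flat q.left] [Surjective q.left] [LocallyOfFinitePresentation q.left] : Smooth q.left := by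
  have h1 := (isPullback_torsor i q hker).map (Over.forget S)
  have h2 : IsPullback (snd G' G).left (snd G' G * (fst G' G ≫ i)).left q.left q.left := h1
  have hsm : Smooth (snd G' G).left := by
    rw [Over.snd_left]
    infer_instance
  exact MorphismProperty.of_isPullback_of_descendsAlong (P := @Smooth)
    (Q := @Surjective ⊓ @Flat ⊓ @LocallyOfFinitePresentation) h2
    ⟨⟨‹Surjective q.left›, ‹Flat q.left›⟩, ‹LocallyOfFinitePresentation q.left›⟩ hsm

end Sch

end Groth.Agent.Helper7.NeronExt
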