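import Mathlib
import Groth.Agent.Lib.Helper7.NeronDesc2
import Groth.Agent.Lib.Helper7.NeronExt1
import Groth.Agent.Lib.Helper7.FinPres
import Groth.Agent.Lib.Helper12.WeilF
import Groth.Agent.Lib.Helper9.RatSec

/-!
# Néron mapping property (generic-fibre form) for extensions of group schemes
-/

set_option autoImplicit false
set_option linter.style.haveILetI false
set_option linter.unusedSectionVars false
universe u
open CategoryTheory AlgebraicGeometry TopologicalSpace Limits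

namespace Groth.Agent.Helper7.NeronExt

/-- an open containing the image of a quasi-compact scheme-theoretically dominant morphism is
schematically dense -/
theorem isSchematicallyDense_of_range_subset {X₀ X : Scheme.{u}} (j : X₀ ⟶ X) [QuasiCompact j]
    [IsSchemeTheoreticallyDominant j] (W : X.Opens) (hW : Set.range j ⊆ (W : Set X)) :
    CInt.IsSchematicallyDense W := by
  intro V' s t hst
  obtain ⟨k, hk⟩ : ∃ k : X₀ ⟶ (W : Scheme.{u}), k ≫ W.ι = j :=
    ⟨IsOpenImmersion.lift W.ι j (by rw [Scheme.Opens.range_ι]; exact hW),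
      IsOpenImmersion.lift_fac _ _ _⟩
  apply j.app_injective V'
  have hle : W.ι ''ᵁ W.ι ⁻¹ᵁ V' ≤ V' ⊓ W := by
    rintro _ ⟨x, hx, rfl⟩
    exact ⟨hx, x.2⟩
  have h1 : W.ι.app V' s = W.ι.app V' t := by
    have e : ∀ r : Γ(X, V'), W.ι.app V' r = X.presheaf.map (homOfLE hle).op
        (X.presheaf.map (homOfLE (inf_le_left : V' ⊓ W ≤ V')).op r) := by
      intro r
      rw [← CommRingCat.comp_apply, ← Functor.map_comp]
      rfl
    exact (e s).trans ((congrArg _ hst).trans (e t).symm)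
  subst hk
  have e2 : ∀ r : Γ(X, V'), (k ≫ W.ι).app V' r = k.app (W.ι ⁻¹ᵁ V') (W.ι.app V' r) :=
    fun r => rfl
  exact (e2 s).trans ((congrArg _ h1).trans (e2 t).symm)

/-- descent of the constructed section -/
theorem descend_sigma {S Y₀ T₀ YK TK N : Scheme.{u}} [IsLocallyNoetherian Y₀] [IsReduced Y₀]
    [IsLocallyNoetherian YK] (sY : Y₀ ⟶ S) (sN : N ⟶ S) [IsSeparated sN] [LocallyOfFiniteType sN]
    (p : T₀ ⟶ Y₀) [Flat p] [Surjective p]
    (jY : YK ⟶ Y₀) [Flat jY] [IsPreimmersion jY] [QuasiCompact jY]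
    [IsSchemeTheoreticallyDominant jY]
    (jT : TK ⟶ T₀) [QuasiCompact jT] [IsSchemeTheoreticallyDominant jT]
    (pK : TK ⟶ YK) (hp : pK ≫ jY = jT ≫ p)
    (u' : YK ⟶ N) (hu' : u' ≫ sN = jY ≫ sY)
    (σ : T₀ ⟶ N) (hσ : σ ≫ sN = p ≫ sY) (hσK : jT ≫ σ = pK ≫ u') :
    ∃ h : Y₀ ⟶ N, h ≫ sN = sY ∧ jY ≫ h = u' := by
  obtain ⟨W, g, hW, hg1, hg2⟩ := Groth.Agent.Helper12.WeilF.global_spread jY sN sY u' hu'
  have hWd : CInt.IsSchematicallyDense W := isSchematicallyDense_of_range_subset jY W hW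
  have hO : (p ⁻¹ᵁ W).ι ≫ σ = (p ∣_ W) ≫ g := by
    haveI : IsSchemeTheoreticallyDominant (pullback.fst (p ⁻¹ᵁ W).ι jT) := inferInstance
    refine Groth.Agent.Helper14.Ner.ext_of_isSchemeTheoreticallyDominant sN ?_
      (pullback.fst (p ⁻¹ᵁ W).ι jT) ?_
    · rw [Category.assoc, Category.assoc, hσ, hg1, ← Category.assoc (p ∣_ W),
        morphismRestrict_ι, Category.assoc]
    · have h2 := hg2 (pullback.snd (p ⁻¹ᵁ W).ι jT ≫ pK)
        (pullback.fst (p ⁻¹ᵁ W).ι jT ≫ (p ∣_ W)) (by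
          rw [Category.assoc, hp, Category.assoc, morphismRestrict_ι, ← Category.assoc,
            ← Category.assoc, pullback.condition])
      rw [Category.assoc, Category.assoc] at h2
      rw [h2, ← Category.assoc, pullback.condition, Category.assoc, hσK]
  have hc : ∀ (Q : Scheme.{u}) (a : Q ⟶ T₀) (b : Q ⟶ (W : Scheme.{u})),
      a ≫ p = b ≫ W.ι → a ≫ σ = b ≫ g := by
    intro Q a b hab
    obtain ⟨a', ha'⟩ : ∃ a' : Q ⟶ ((p ⁻¹ᵁ W : T₀.Opens) : Scheme.{u}), a' ≫ (p ⁻¹ᵁ W).ι = a :=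
      ⟨IsOpenImmersion.lift (p ⁻¹ᵁ W).ι a (by
        rw [Scheme.Opens.range_ι]
        rintro _ ⟨x, rfl⟩
        show p (a x) ∈ W
        have e : p (a x) = W.ι (b x) := by
          rw [← Scheme.Hom.comp_apply, ← Scheme.Hom.comp_apply, hab]
        rw [e]
        exact (b x).2), IsOpenImmersion.lift_fac _ _ _⟩
    have hb : b = a' ≫ (p ∣_ W) := by
      rw [← cancel_mono W.ι, Category.assoc, morphismRestrict_ι, ← Category.assoc, ha', hab]
    rw [← ha', Category.assoc, hO, hb, Category.assoc]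
  obtain ⟨h, hh1, hh2⟩ := Groth.Agent.Helper7.NeronDesc.core p W hWd sY sN g σ hσ hc
  refine ⟨h, hh1, ?_⟩
  obtain ⟨k, hk⟩ : ∃ k : YK ⟶ (W : Scheme.{u}), k ≫ W.ι = jY :=
    ⟨IsOpenImmersion.lift W.ι jY (by rw [Scheme.Opens.range_ι]; exact hW),
      IsOpenImmersion.lift_fac _ _ _⟩
  have h3 := hg2 (𝟙 YK) k (by rw [Category.id_comp, hk])
  rw [← hk, Category.assoc, hh2, h3, Category.id_comp]

/-- adjoint form of bijectivity of restriction -/
theorem bijective_counit_comp_iff {C D : Type*} [Category C] [Category D] {F : C ⥤ D} {G : D ⥤ C}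
    (adj : F ⊣ G) (Y N : D) :
    Function.Bijective (fun g : Y ⟶ N => adj.counit.app Y ≫ g) ↔
      Function.Bijective (fun g : Y ⟶ N => G.map g) := by
  have h : (fun g : Y ⟶ N => adj.counit.app Y ≫ g) =
      (adj.homEquiv (G.obj Y) N).symm ∘ (fun g : Y ⟶ N => G.map g) := by
    funext g
    simp only [Function.comp_apply, Adjunction.homEquiv_counit]
    exact (adj.counit.naturality g).symm
  rw [h]
  exact Equiv.comp_bijective _ _

end Groth.Agent.Helper7.NeronExt
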