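import Mathlib
import Groth.Prelude.Def_Neron
import Groth.Agent.Lib.Helper7.NeronCrit2
import Groth.Agent.Lib.Helper7.NeronExt2
import Groth.Agent.Lib.Helper12.NeronFinEt

/-!
# Néron lft criterion: extension of a generic-fibre morphism at the generic points of the
special fibre
-/

set_option autoImplicit false
set_option linter.style.haveILetI false
set_option linter.unusedSectionVars false

universe u

open CategoryTheory AlgebraicGeometry IsLocalRing Limits

namespace Groth.Agent.Helper7.NeronCrit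

theorem isLocalization_away_fractionRing (R : Type u) [CommRing R] [IsDomain R]
    [IsDiscreteValuationRing R] (ϖ : R) (hϖ : Irreducible ϖ) :
    IsLocalization.Away ϖ (FractionRing R) := by
  have h1 : Submonoid.powers ϖ ≤ nonZeroDivisors R := by
    rintro _ ⟨n, rfl⟩
    exact mem_nonZeroDivisors_of_ne_zero (pow_ne_zero n hϖ.ne_zero)
  haveI : IsLocalization (nonZeroDivisors R) (Localization.Away ϖ) :=
    IsLocalization.of_le_of_exists_dvd (Submonoid.powers ϖ) (nonZeroDivisors R) h1
      (fun a ha => by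
        obtain ⟨n, hn⟩ := IsDiscreteValuationRing.associated_pow_irreducible
          (nonZeroDivisors.ne_zero ha) hϖ
        exact ⟨ϖ ^ n, ⟨n, rfl⟩, hn.dvd⟩)
  let e : Localization.Away ϖ ≃ₐ[R] FractionRing R :=
    IsLocalization.algEquiv (nonZeroDivisors R) _ _
  exact IsLocalization.isLocalization_of_algEquiv (Submonoid.powers ϖ) e

theorem isOpenImmersion_genPt (R : Type u) [CommRing R] [IsDomain R]
    [IsDiscreteValuationRing R] : IsOpenImmersion (Neron.genPt R) := by
  obtain ⟨ϖ, hϖ⟩ := IsDiscreteValuationRing.exists_irreducible R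
  haveI := isLocalization_away_fractionRing R ϖ hϖ
  exact IsOpenImmersion.of_isLocalization ϖ

/-- a point of `Spec R` outside the image of the generic point is the closed point -/
theorem eq_closedPoint_of_notMem_range (R : Type u) [CommRing R] [IsDomain R]
    [IsDiscreteValuationRing R] (s : Spec (CommRingCat.of R))
    (hs : s ∉ Set.range (Neron.genPt R)) : s = closedPoint R := by
  obtain ⟨ϖ, hϖ⟩ := IsDiscreteValuationRing.exists_irreducible R
  haveI := isLocalization_away_fractionRing R ϖ hϖ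
  have hr : Set.range (Neron.genPt R) = (PrimeSpectrum.basicOpen ϖ : Set (PrimeSpectrum R)) :=
    PrimeSpectrum.localization_away_comap_range (FractionRing R) ϖ
  rw [hr] at hs
  have h1 : ϖ ∈ (s : PrimeSpectrum R).asIdeal := by
    by_contra h
    exact hs h
  apply PrimeSpectrum.ext
  have hle : maximalIdeal R ≤ (s : PrimeSpectrum R).asIdeal := by
    rw [hϖ.maximalIdeal_eq, Ideal.span_singleton_le_iff_mem]
    exact h1
  exact ((maximalIdeal.isMaximal R).eq_of_le (s : PrimeSpectrum R).isPrime.ne_top hle).symm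

theorem closedPoint_notMem_range (R : Type u) [CommRing R] [IsDomain R]
    [IsDiscreteValuationRing R] : closedPoint R ∉ Set.range (Neron.genPt R) := by
  obtain ⟨ϖ, hϖ⟩ := IsDiscreteValuationRing.exists_irreducible R
  haveI := isLocalization_away_fractionRing R ϖ hϖ
  have hr : Set.range (Neron.genPt R) = (PrimeSpectrum.basicOpen ϖ : Set (PrimeSpectrum R)) :=
    PrimeSpectrum.localization_away_comap_range (FractionRing R) ϖ
  rw [hr]
  intro h
  apply h
  show ϖ ∈ maximalIdeal R
  rw [hϖ.maximalIdeal_eq]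
  exact Ideal.mem_span_singleton_self ϖ

theorem exists_fractionRing_map (R R' : Type u) [CommRing R] [IsDomain R] [CommRing R']
    [IsDomain R'] (f : R →+* R') (hf : Function.Injective f) :
    ∃ κ : FractionRing R →+* FractionRing R',
      κ.comp (algebraMap R (FractionRing R)) = (algebraMap R' (FractionRing R')).comp f := by
  have hinjK : Function.Injective ((algebraMap R' (FractionRing R')).comp f) :=
    (IsFractionRing.injective R' (FractionRing R')).comp hf
  refine ⟨IsFractionRing.lift hinjK, ?_⟩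
  apply RingHom.ext
  intro r
  have := IsFractionRing.lift_algebraMap (K := FractionRing R) hinjK r
  exact this

section Local

variable (R : Type u) [CommRing R] [IsDomain R] [IsDiscreteValuationRing R]
  {X G : Scheme.{u}} (pX : X ⟶ Spec (CommRingCat.of R)) [Smooth pX]
  (pG : G ⟶ Spec (CommRingCat.of R)) [IsSeparated pG] [LocallyOfFiniteType pG]

/-- the hypothesis of the criterion -/
def Hyp : Prop :=
  ∀ (R' : Type u) [CommRing R'] [IsDomain R'] [IsDiscreteValuationRing R'] [Algebra R R']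
    [IsLocalHom (algebraMap R R')] [HenselianLocalRing R']
    [IsSepClosed (IsLocalRing.ResidueField R')],
    (IsLocalRing.maximalIdeal R).map (algebraMap R R') = IsLocalRing.maximalIdeal R' →
    Algebra.IsGeometricallyReduced (IsLocalRing.ResidueField R) (IsLocalRing.ResidueField R') →
    ∀ x : Spec (CommRingCat.of (FractionRing R')) ⟶ G,
      x ≫ pG = Spec.map (CommRingCat.ofHom
        ((algebraMap R' (FractionRing R')).comp (algebraMap R R'))) →
      ∃ y : Spec (CommRingCat.of R') ⟶ G,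
        y ≫ pG = Spec.map (CommRingCat.ofHom (algebraMap R R')) ∧
        Spec.map (CommRingCat.ofHom (algebraMap R' (FractionRing R'))) ≫ y = x

set_option maxHeartbeats 1600000 in
theorem local_extension (hyp : Hyp R pG)
    (u₀ : pullback pX (Neron.genPt R) ⟶ G)
    (hu₀ : u₀ ≫ pG = pullback.fst pX (Neron.genPt R) ≫ pX)
    (η : X) (hη : pX η = closedPoint R)
    (hgen : ∀ z : X, z ⤳ η → pX z = closedPoint R → z = η) :
    ∃ y₁ : Spec (X.presheaf.stalk η) ⟶ G, y₁ ≫ pG = X.fromSpecStalk η ≫ pX ∧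
      ∀ (Q : Scheme.{u}) (a : Q ⟶ Spec (X.presheaf.stalk η))
        (b : Q ⟶ pullback pX (Neron.genPt R)),
        a ≫ X.fromSpecStalk η = b ≫ pullback.fst pX (Neron.genPt R) → a ≫ y₁ = b ≫ u₀ := by
  obtain ⟨σ, hσ⟩ : ∃ σ, σ = X.fromSpecStalk η := ⟨_, rfl⟩
  obtain ⟨ζ, hζ⟩ : ∃ ζ, ζ = Neron.genPt R := ⟨_, rfl⟩
  letI algR₁ : Algebra R (X.presheaf.stalk η) := (strMap R pX η).hom.toAlgebra
  have halg : algebraMap R (X.presheaf.stalk η) = (strMap R pX η).hom := rfl
  haveI : IsLocalHom (algebraMap R (X.presheaf.stalk η)) := isLocalHom_strMap R pX η hη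
  haveI : Algebra.FormallySmooth R (X.presheaf.stalk η) := formallySmooth_strMap R pX η
  haveI : IsRegularLocalRing (X.presheaf.stalk η) :=
    Groth.Agent.Helper12.WeilE.isRegularLocalRing_stalk_of_smooth R pX η
  haveI : IsDomain (X.presheaf.stalk η) := Groth.Agent.Lead.RLR.isDomain _
  obtain ⟨R', i1, i2, i3, i4, i5, i6, i7, ψ, hψ, hψflat, hψsurj, hmm, hgr, hinjR'⟩ :=
    exists_ext R (X.presheaf.stalk η) (injective_strMap R pX η hη)
      (map_maximalIdeal_eq R pX η hη hgen)
  -- the schemes and morphisms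
  obtain ⟨p, hp⟩ : ∃ p : Spec (CommRingCat.of R') ⟶ Spec (X.presheaf.stalk η),
      p = Spec.map (CommRingCat.ofHom ψ) := ⟨_, rfl⟩
  haveI : Flat p := by
    rw [hp, HasRingHomProperty.Spec_iff (P := @Flat)]
    exact hψflat
  haveI : Surjective p := by
    rw [hp]
    exact ⟨hψsurj⟩
  obtain ⟨sY, hsY⟩ : ∃ sY, sY = σ ≫ pX := ⟨_, rfl⟩
  have hsY' : sY = Spec.map (strMap R pX η) := by
    rw [hsY, hσ, SpecMap_strMap]
  have hpsY : p ≫ sY = Spec.map (CommRingCat.ofHom (algebraMap R R')) := by
    rw [hp, hsY', ← Spec.map_comp, ← hψ]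
    rfl
  obtain ⟨jT, hjT⟩ : ∃ jT, jT = Neron.genPt R' := ⟨_, rfl⟩
  obtain ⟨κ, hκ⟩ := exists_fractionRing_map R R' (algebraMap R R') hinjR'
  have hcomm : (jT ≫ p) ≫ sY = Spec.map (CommRingCat.ofHom κ) ≫ ζ := by
    rw [Category.assoc, hpsY, hjT, hζ, ← Spec.map_comp, ← Spec.map_comp, ← CommRingCat.ofHom_comp,
      ← CommRingCat.ofHom_comp, hκ]
  haveI : Flat σ := by
    rw [hσ]
    exact Groth.Agent.Helper7.NeronDesc.flat_fromSpecStalk X η
  haveI : Flat sY := by
    rw [hsY]
    infer_instance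
  obtain ⟨jY, hjY⟩ : ∃ jY : pullback sY ζ ⟶ Spec (X.presheaf.stalk η), jY = pullback.fst sY ζ :=
    ⟨_, rfl⟩
  obtain ⟨pK, hpK⟩ : ∃ pK : Spec (CommRingCat.of (FractionRing R')) ⟶ pullback sY ζ,
      pK = pullback.lift (jT ≫ p) (Spec.map (CommRingCat.ofHom κ)) hcomm := ⟨_, rfl⟩
  obtain ⟨liftK, hliftK⟩ : ∃ liftK : pullback sY ζ ⟶ pullback pX ζ,
      liftK = pullback.lift (pullback.fst sY ζ ≫ σ) (pullback.snd sY ζ)
        (by rw [Category.assoc, ← hsY, pullback.condition]) := ⟨_, rfl⟩
  have hliftK1 : liftK ≫ pullback.fst pX ζ = jY ≫ σ := by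
    rw [hliftK, hjY, pullback.lift_fst]
  have hliftK2 : liftK ≫ pullback.snd pX ζ = pullback.snd sY ζ := by
    rw [hliftK, pullback.lift_snd]
  have hpKj : pK ≫ jY = jT ≫ p := by
    rw [hpK, hjY, pullback.lift_fst]
  subst hζ
  have hu' : (liftK ≫ u₀) ≫ pG = jY ≫ sY := by
    rw [Category.assoc, hu₀, ← Category.assoc, hliftK1, Category.assoc]
    exact congrArg (fun t => jY ≫ t) hsY.symm
  -- the point and its extension
  have hx : (pK ≫ liftK ≫ u₀) ≫ pG = Spec.map (CommRingCat.ofHom
      ((algebraMap R' (FractionRing R')).comp (algebraMap R R'))) := by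
    rw [Category.assoc, hu', ← Category.assoc, hpKj, Category.assoc, hpsY, hjT,
      ← Spec.map_comp, ← CommRingCat.ofHom_comp]
  obtain ⟨y, hy1, hy2⟩ := hyp R' hmm hgr (pK ≫ liftK ≫ u₀) hx
  -- descent
  haveI : IsLocallyNoetherian (Spec (X.presheaf.stalk η)) := inferInstance
  haveI : IsReduced (Spec (X.presheaf.stalk η)) := inferInstance
  haveI hoi : IsOpenImmersion (Neron.genPt R) := isOpenImmersion_genPt R
  haveI : IsOpenImmersion jY := by
    rw [hjY]
    infer_instance
  haveI : IsLocallyNoetherian (pullback sY (Neron.genPt R)) :=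
    isLocallyNoetherian_of_isOpenImmersion jY
  haveI : Flat jY := by rw [hjY]; infer_instance
  haveI : IsPreimmersion jY := by rw [hjY]; infer_instance
  haveI : QuasiCompact jY := by rw [hjY]; infer_instance
  haveI : IsSchemeTheoreticallyDominant jY := by rw [hjY]; infer_instance
  haveI : QuasiCompact jT := by rw [hjT]; infer_instance
  haveI : IsSchemeTheoreticallyDominant jT := by rw [hjT]; infer_instance
  obtain ⟨y₁, hy₁1, hy₁2⟩ := Groth.Agent.Helper7.NeronExt.descend_sigma sY pG p jY jT pK hpKj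
    (liftK ≫ u₀) hu' y (by rw [hy1, hpsY]) (by rw [hjT] at *; rw [hy2])
  refine ⟨y₁, by rw [hy₁1, hsY, hσ], ?_⟩
  intro Q a b hab
  have hab' : a ≫ sY = (b ≫ pullback.snd pX (Neron.genPt R)) ≫ Neron.genPt R := by
    rw [hsY, ← Category.assoc, hσ, hab, Category.assoc, Category.assoc, pullback.condition]
  have e1 : a = pullback.lift a (b ≫ pullback.snd pX (Neron.genPt R)) hab' ≫ jY := by
    rw [hjY, pullback.lift_fst]
  have e2 : pullback.lift a (b ≫ pullback.snd pX (Neron.genPt R)) hab' ≫ liftK = b := by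
    apply pullback.hom_ext
    · rw [Category.assoc, hliftK1, hjY, ← Category.assoc, pullback.lift_fst, hσ, hab]
    · rw [Category.assoc, hliftK2, pullback.lift_snd]
  rw [e1, Category.assoc, hy₁2, ← Category.assoc, e2]

end Local

end Groth.Agent.Helper7.NeronCrit
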