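import Mathlib
import Groth.Agent.Lib.Helper7.NeronCrit3
import Groth.Agent.Lib.Helper7.NeronDesc2

/-!
# Néron lft criterion: extension to a neighbourhood of a generic point of the special fibre
-/

set_option autoImplicit false
set_option linter.style.haveILetI false
set_option linter.unusedSectionVars false

universe u

open CategoryTheory AlgebraicGeometry IsLocalRing Limits

namespace Groth.Agent.Helper7.NeronCrit

variable (R : Type u) [CommRing R] [IsDomain R] [IsDiscreteValuationRing R]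
  {X G : Scheme.{u}} (pX : X ⟶ Spec (CommRingCat.of R)) [Smooth pX]
  (pG : G ⟶ Spec (CommRingCat.of R)) [IsSeparated pG] [LocallyOfFiniteType pG]

set_option maxHeartbeats 1600000 in
theorem local_nbhd (hyp : Hyp R pG)
    (u₀ : pullback pX (Neron.genPt R) ⟶ G)
    (hu₀ : u₀ ≫ pG = pullback.fst pX (Neron.genPt R) ≫ pX)
    (η : X) (hη : pX η = closedPoint R)
    (hgen : ∀ z : X, z ⤳ η → pX z = closedPoint R → z = η) :
    ∃ (W : X.Opens) (v : (W : Scheme.{u}) ⟶ G), η ∈ W ∧ v ≫ pG = W.ι ≫ pX ∧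
      ∀ (Q : Scheme.{u}) (a : Q ⟶ (W : Scheme.{u})) (b : Q ⟶ pullback pX (Neron.genPt R)),
        a ≫ W.ι = b ≫ pullback.fst pX (Neron.genPt R) → a ≫ v = b ≫ u₀ := by
  obtain ⟨y₁, hy₁1, hy₁2⟩ := local_extension R pX pG hyp u₀ hu₀ η hη hgen
  haveI : IsLocallyNoetherian X := LocallyOfFiniteType.isLocallyNoetherian pX
  obtain ⟨W, hηW, v, hv1, hv2⟩ := spread_out_of_isGermInjective' pX pG y₁ hy₁1
  haveI hoi : IsOpenImmersion (Neron.genPt R) := isOpenImmersion_genPt R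
  obtain ⟨j, hj⟩ : ∃ j, j = pullback.fst pX (Neron.genPt R) := ⟨_, rfl⟩
  haveI : IsOpenImmersion j := by rw [hj]; infer_instance
  rw [← hj] at hy₁2 ⊢
  obtain ⟨f₀, hf₀⟩ : ∃ f₀ : (j.opensRange : Scheme.{u}) ⟶ G, f₀ = j.isoOpensRange.inv ≫ u₀ :=
    ⟨_, rfl⟩
  have hg : ∀ z : X, z ⤳ η → ∀ (hz : z ∈ W) (hzV : z ∈ j.opensRange),
      W.fromSpecStalkOfMem z hz ≫ v = j.opensRange.fromSpecStalkOfMem z hzV ≫ f₀ := by
    intro z hzη hzW hzV
    have e1 : W.fromSpecStalkOfMem z hzW =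
        Spec.map (X.presheaf.stalkSpecializes hzη) ≫ W.fromSpecStalkOfMem η hηW := by
      rw [← cancel_mono W.ι, Category.assoc, Scheme.Opens.fromSpecStalkOfMem_ι,
        Scheme.Opens.fromSpecStalkOfMem_ι, Scheme.SpecMap_stalkSpecializes_fromSpecStalk]
    rw [e1, Category.assoc, ← hv1, hf₀, ← Category.assoc]
    refine hy₁2 _ (Spec.map (X.presheaf.stalkSpecializes hzη))
      (j.opensRange.fromSpecStalkOfMem z hzV ≫ j.isoOpensRange.inv) ?_
    rw [Scheme.SpecMap_stalkSpecializes_fromSpecStalk, Category.assoc,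
      Scheme.Hom.isoOpensRange_inv_comp, Scheme.Opens.fromSpecStalkOfMem_ι]
  obtain ⟨W₁, hle, hηW₁, hcompat⟩ :=
    Groth.Agent.Helper7.NeronDesc.shrink W j.opensRange v f₀ η hηW hg
  refine ⟨W₁, X.homOfLE hle ≫ v, hηW₁, ?_, ?_⟩
  · rw [Category.assoc, hv2, ← Category.assoc, Scheme.homOfLE_ι]
  · intro Q a b hab
    have h := hcompat Q a (b ≫ j.isoOpensRange.hom) (by
      rw [Category.assoc, Scheme.Hom.isoOpensRange_hom_ι, hab])
    rw [h, hf₀, Category.assoc, Iso.hom_inv_id_assoc]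

end Groth.Agent.Helper7.NeronCrit
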