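import Mathlib
import Groth.Agent.Lib.Helper7.NeronCrit4
import Groth.Agent.Lib.Helper4.CurveExt
import Groth.Agent.S3249

/-!
# Néron lft criterion: gluing and the main extension theorem
-/

set_option autoImplicit false
set_option linter.style.haveILetI false
set_option linter.unusedSectionVars false

universe u

open CategoryTheory AlgebraicGeometry IsLocalRing Limits TopologicalSpace

namespace Groth.Agent.Helper7.NeronCrit

/-- maximal generizations inside a closed subset of a quasi-sober T0 space -/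
theorem exists_isGen {X : Type*} [TopologicalSpace X] [QuasiSober X] [T0Space X] (F : Set X)
    (hF : IsClosed F) (x : X) (hx : x ∈ F) :
    ∃ η ∈ F, η ⤳ x ∧ ∀ z, z ⤳ η → z ∈ F → z = η := by
  let x' : F := ⟨x, hx⟩
  have hCirr : IsIrreducible (irreducibleComponent x') := isIrreducible_irreducibleComponent
  have hCcl : IsClosed (irreducibleComponent x') := isClosed_irreducibleComponent
  have hemb : Topology.IsClosedEmbedding (Subtype.val : F → X) := hF.isClosedEmbedding_subtypeVal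
  have hZirr : IsIrreducible (Subtype.val '' irreducibleComponent x') :=
    hCirr.image _ continuous_subtype_val.continuousOn
  have hZcl : IsClosed (Subtype.val '' irreducibleComponent x') := hemb.isClosedMap _ hCcl
  obtain ⟨η, hη⟩ := QuasiSober.sober hZirr hZcl
  obtain ⟨η', hη'C, hη'⟩ := hη.mem
  subst hη'
  have hind : Topology.IsInducing (Subtype.val : F → X) := Topology.IsInducing.subtypeVal
  refine ⟨η'.1, η'.2, ?_, ?_⟩
  · rw [specializes_iff_mem_closure, hη.def]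
    exact ⟨x', mem_irreducibleComponent, rfl⟩
  · intro z hz hzF
    have h1 : (⟨z, hzF⟩ : F) ⤳ η' := hind.specializes_iff.mp hz
    have h2 : irreducibleComponent x' ⊆ closure {(⟨z, hzF⟩ : F)} := by
      intro c hc
      have h3 : η'.1 ⤳ c.1 := by
        rw [specializes_iff_mem_closure, hη.def]
        exact ⟨c, hc, rfl⟩
      have h4 : η' ⤳ c := hind.specializes_iff.mp h3
      exact specializes_iff_mem_closure.mp (h1.trans h4)
    have h5 : closure {(⟨z, hzF⟩ : F)} = irreducibleComponent x' :=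
      eq_irreducibleComponent isIrreducible_singleton.closure.isPreirreducible h2
    have h6 : (⟨z, hzF⟩ : F) ∈ irreducibleComponent x' := by
      rw [← h5]
      exact subset_closure rfl
    have h7 : η'.1 ⤳ z := by
      rw [specializes_iff_mem_closure, hη.def]
      exact ⟨⟨z, hzF⟩, h6, rfl⟩
    exact (hz.antisymm h7).eq

/-- a chain of two proper generizations forces dimension at least two -/
theorem two_le_ringKrullDim_stalk {X : Scheme.{u}} (x η ξ : X) (h1 : η ⤳ x) (h2 : ξ ⤳ η)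
    (hne1 : η ≠ x) (hne2 : ξ ≠ η) : (2 : WithBot ℕ∞) ≤ ringKrullDim (X.presheaf.stalk x) := by
  have hr := Scheme.range_fromSpecStalk (X := X) (x := x)
  obtain ⟨Pη, hPη⟩ : ∃ P : PrimeSpectrum (X.presheaf.stalk x), X.fromSpecStalk x P = η := by
    have : η ∈ Set.range (X.fromSpecStalk x) := by rw [hr]; exact h1
    exact this
  obtain ⟨Pξ, hPξ⟩ : ∃ P : PrimeSpectrum (X.presheaf.stalk x), X.fromSpecStalk x P = ξ := by
    have : ξ ∈ Set.range (X.fromSpecStalk x) := by rw [hr]; exact h2.trans h1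
    exact this
  have hind : Topology.IsInducing (X.fromSpecStalk x) :=
    (Scheme.Hom.isEmbedding (X.fromSpecStalk x)).toIsInducing
  have hx : X.fromSpecStalk x (closedPoint (X.presheaf.stalk x)) = x :=
    Scheme.fromSpecStalk_closedPoint
  have l1 : Pξ < Pη := by
    refine lt_of_le_of_ne ?_ ?_
    · rw [PrimeSpectrum.le_iff_specializes]
      exact hind.specializes_iff.mp (by rw [hPξ, hPη]; exact h2)
    · intro h
      apply hne2
      exact hPξ.symm.trans ((congrArg (fun P => X.fromSpecStalk x P) h).trans hPη)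
  have l2 : Pη < closedPoint (X.presheaf.stalk x) := by
    refine lt_of_le_of_ne ?_ ?_
    · rw [PrimeSpectrum.le_iff_specializes]
      exact hind.specializes_iff.mp (by rw [hPη, hx]; exact h1)
    · intro h
      apply hne1
      exact hPη.symm.trans ((congrArg (fun P => X.fromSpecStalk x P) h).trans hx)
  let s : LTSeries (PrimeSpectrum (X.presheaf.stalk x)) :=
    ((RelSeries.singleton _ Pξ).snoc Pη (by rw [RelSeries.last_singleton]; exact l1)).snoc
      (closedPoint (X.presheaf.stalk x)) (by rw [RelSeries.last_snoc]; exact l2)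
  have hs : s.length = 2 := rfl
  have h := Order.LTSeries.length_le_krullDim s
  rw [hs] at h
  exact h

section Main

variable (R : Type u) [CommRing R] [IsDomain R] [IsDiscreteValuationRing R]
  {X G : Scheme.{u}} (pX : X ⟶ Spec (CommRingCat.of R)) [Smooth pX]
  (pG : G ⟶ Spec (CommRingCat.of R)) [IsSeparated pG] [LocallyOfFiniteType pG]

theorem mem_range_fst_iff (x : X) :
    x ∈ Set.range (pullback.fst pX (Neron.genPt R)) ↔ pX x ≠ closedPoint R := by
  rw [Scheme.Pullback.range_fst]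
  constructor
  · intro h h2
    exact closedPoint_notMem_range R (h2 ▸ h)
  · intro h
    by_contra h2
    exact h (eq_closedPoint_of_notMem_range R (pX x) h2)

theorem exists_generization (x : X) : ∃ z : X, z ⤳ x ∧ pX z ≠ closedPoint R := by
  by_cases hx : pX x = closedPoint R
  · let ξS : Spec (CommRingCat.of R) := (Neron.genPt R) (⊥ : PrimeSpectrum (FractionRing R))
    have h1 : ξS ⤳ pX x := by
      rw [hx]
      exact IsLocalRing.specializes_closedPoint (ξS : PrimeSpectrum R)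
    obtain ⟨z, hz, hz2⟩ := Flat.generalizingMap pX h1
    refine ⟨z, hz, ?_⟩
    intro h
    apply closedPoint_notMem_range R
    rw [← h, hz2]
    exact ⟨_, rfl⟩
  · exact ⟨x, specializes_rfl, hx⟩

set_option maxHeartbeats 3200000 in
theorem extend [GrpObj (Over.mk pG)] (hyp : Hyp R pG)
    (u₀ : pullback pX (Neron.genPt R) ⟶ G)
    (hu₀ : u₀ ≫ pG = pullback.fst pX (Neron.genPt R) ≫ pX) :
    ∃ g : X ⟶ G, g ≫ pG = pX ∧ pullback.fst pX (Neron.genPt R) ≫ g = u₀ := by
  classical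
  haveI hoi : IsOpenImmersion (Neron.genPt R) := isOpenImmersion_genPt R
  have hmem0 := mem_range_fst_iff R pX
  obtain ⟨j, hj⟩ : ∃ j, j = pullback.fst pX (Neron.genPt R) := ⟨_, rfl⟩
  haveI : IsOpenImmersion j := by rw [hj]; infer_instance
  rw [← hj] at hmem0 ⊢
  have hmem : ∀ x : X, x ∈ j.opensRange ↔ pX x ≠ closedPoint R := hmem0
  have hgenz : ∀ x : X, ∃ z : X, z ⤳ x ∧ z ∈ j.opensRange := by
    intro x
    obtain ⟨z, hz, hz2⟩ := exists_generization R pX x
    exact ⟨z, hz, (hmem z).mpr hz2⟩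
  -- generic points of the special fibre
  obtain ⟨IsGen, hIsGen⟩ : ∃ IsGen : X → Prop, ∀ η, IsGen η ↔ (pX η = closedPoint R ∧
      ∀ z : X, z ⤳ η → pX z = closedPoint R → z = η) := ⟨_, fun _ => Iff.rfl⟩
  have hloc : ∀ η : {η : X // IsGen η}, ∃ (W : X.Opens) (v : (W : Scheme.{u}) ⟶ G),
      η.1 ∈ W ∧ v ≫ pG = W.ι ≫ pX ∧
      ∀ (Q : Scheme.{u}) (a : Q ⟶ (W : Scheme.{u})) (b : Q ⟶ pullback pX (Neron.genPt R)),
        a ≫ W.ι = b ≫ j → a ≫ v = b ≫ u₀ := by
    intro η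
    have h := (hIsGen _).mp η.2
    rw [hj]
    exact local_nbhd R pX pG hyp u₀ hu₀ η.1 h.1 h.2
  choose W v hηW hv1 hv2 using hloc
  have hexgen : ∀ x : X, pX x = closedPoint R → ∃ η : {η : X // IsGen η}, η.1 ⤳ x := by
    intro x hx
    have hFcl : IsClosed {y : X | pX y = closedPoint R} := by
      have e : {y : X | pX y = closedPoint R} = (j.opensRange : Set X)ᶜ := by
        ext y
        rw [Set.mem_compl_iff, SetLike.mem_coe, hmem y, Set.mem_ofPred_eq, not_not]
      rw [e]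
      exact j.opensRange.isOpen.isClosed_compl
    obtain ⟨η, hηF, hηx, hηmax⟩ := exists_isGen _ hFcl x hx
    exact ⟨⟨η, (hIsGen η).mpr ⟨hηF, fun z hz hzF => hηmax z hz hzF⟩⟩, hηx⟩
  obtain ⟨U₁, hU₁⟩ : ∃ U₁ : X.Opens, U₁ = j.opensRange ⊔ ⨆ η, W η := ⟨_, rfl⟩
  have hV₀U₁ : j.opensRange ≤ U₁ := hU₁ ▸ le_sup_left
  have hWU₁ : ∀ η, W η ≤ U₁ := fun η => hU₁ ▸ le_sup_of_le_right (le_iSup W η)
  obtain ⟨f₀, hf₀⟩ : ∃ f₀ : (j.opensRange : Scheme.{u}) ⟶ G, f₀ = j.isoOpensRange.inv ≫ u₀ :=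
    ⟨_, rfl⟩
  have hf₀S : f₀ ≫ pG = j.opensRange.ι ≫ pX := by
    rw [hf₀, Category.assoc, hu₀, ← hj, ← Category.assoc, Scheme.Hom.isoOpensRange_inv_comp]
  haveI : IsReduced X := Groth.Agent.Helper9.RatSec.isReduced_of_smooth pX
  have hdenseV₀ : Dense (j.opensRange : Set X) := by
    intro x
    obtain ⟨z, hzx, hz⟩ := hgenz x
    exact closure_mono (Set.singleton_subset_iff.mpr hz) (specializes_iff_mem_closure.mp hzx)
  have hUdense : Dense ((U₁.ι ⁻¹ᵁ j.opensRange : (U₁ : Scheme.{u}).Opens) :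
      Set (U₁ : Scheme.{u})) :=
    hdenseV₀.preimage U₁.ι.isOpenEmbedding.isOpenMap
  have hg₀S : ((U₁.ι ∣_ j.opensRange) ≫ f₀) ≫ pG =
      (U₁.ι ⁻¹ᵁ j.opensRange).ι ≫ U₁.ι ≫ pX := by
    rw [Category.assoc, hf₀S, ← Category.assoc, morphismRestrict_ι, Category.assoc]
  have hloc' : ∀ x : (U₁ : Scheme.{u}), ∃ (V : (U₁ : Scheme.{u}).Opens)
      (w : (V : Scheme.{u}) ⟶ G), x ∈ V ∧ w ≫ pG = V.ι ≫ U₁.ι ≫ pX ∧
      ∀ {Q : Scheme.{u}} (a : Q ⟶ ((U₁.ι ⁻¹ᵁ j.opensRange : (U₁ : Scheme.{u}).Opens) :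
        Scheme.{u})) (b : Q ⟶ (V : Scheme.{u})),
        a ≫ (U₁.ι ⁻¹ᵁ j.opensRange).ι = b ≫ V.ι → b ≫ w = a ≫ (U₁.ι ∣_ j.opensRange) ≫ f₀ := by
    intro x
    have hx : x.1 ∈ j.opensRange ⊔ ⨆ η, W η := hU₁ ▸ x.2
    rcases hx with hx | hx
    · refine ⟨U₁.ι ⁻¹ᵁ j.opensRange, (U₁.ι ∣_ j.opensRange) ≫ f₀, hx, hg₀S, ?_⟩
      intro Q a b hab
      have : a = b := by rw [← cancel_mono (U₁.ι ⁻¹ᵁ j.opensRange).ι, hab]
      rw [this]
    · obtain ⟨η, hxη⟩ := Opens.mem_iSup.mp hx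
      refine ⟨U₁.ι ⁻¹ᵁ W η, (U₁.ι ∣_ W η) ≫ v η, hxη, ?_, ?_⟩
      · rw [Category.assoc, hv1, ← Category.assoc, morphismRestrict_ι, Category.assoc]
      · intro Q a b hab
        have h := hv2 η Q (b ≫ (U₁.ι ∣_ W η))
          (a ≫ (U₁.ι ∣_ j.opensRange) ≫ j.isoOpensRange.inv) (by
            rw [Category.assoc, morphismRestrict_ι, ← Category.assoc, ← hab, Category.assoc,
              Category.assoc, Category.assoc, Scheme.Hom.isoOpensRange_inv_comp,
              morphismRestrict_ι])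
        rw [Category.assoc] at h
        rw [h, hf₀]
        simp only [Category.assoc]
  obtain ⟨f₁, ⟨hf₁a, hf₁b⟩, -⟩ :=
    Groth.Agent.Helper4.CurveExt.existsUnique_extension_of_local (U₁.ι ≫ pX) pG
      (U₁.ι ⁻¹ᵁ j.opensRange) hUdense ((U₁.ι ∣_ j.opensRange) ≫ f₀) hg₀S hloc'
  -- the Weil extension theorem
  have hdense : ∀ x : X, x ∈ closure ((U₁ : Set X) ∩ {y | pX.base y = pX.base x}) := by
    intro x
    by_cases hx : x ∈ j.opensRange
    · exact subset_closure ⟨hV₀U₁ hx, rfl⟩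
    · have hx' : pX x = closedPoint R := by
        by_contra h
        exact hx ((hmem x).mpr h)
      obtain ⟨η, hηx⟩ := hexgen x hx'
      have hη := (hIsGen _).mp η.2
      have hmemη : η.1 ∈ (U₁ : Set X) ∩ {y | pX.base y = pX.base x} :=
        ⟨hWU₁ η (hηW η), hη.1.trans hx'.symm⟩
      exact closure_mono (Set.singleton_subset_iff.mpr hmemη)
        (specializes_iff_mem_closure.mp hηx)
  have hcodim : ∀ x : X, x ∉ U₁ → (2 : WithBot ℕ∞) ≤ ringKrullDim (X.presheaf.stalk x) := by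
    intro x hxU
    have hx : x ∉ j.opensRange := fun h => hxU (hV₀U₁ h)
    have hx' : pX x = closedPoint R := by
      by_contra h
      exact hx ((hmem x).mpr h)
    obtain ⟨η, hηx⟩ := hexgen x hx'
    have hη := (hIsGen _).mp η.2
    obtain ⟨ξ, hξη, hξ⟩ := hgenz η.1
    refine two_le_ringKrullDim_stalk x η.1 ξ hηx hξη ?_ ?_
    · intro h
      exact hxU (h ▸ hWU₁ η (hηW η))
    · intro h
      exact ((hmem ξ).mp hξ) (h ▸ hη.1)
  obtain ⟨g, ⟨hg1, hg2⟩, -⟩ := Groth.Agent.S3249.result pX pG U₁ hdense hcodim f₁ hf₁b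
  refine ⟨g, hg1, ?_⟩
  -- compatibility on the generic fibre
  obtain ⟨t, ht⟩ : ∃ t : (j.opensRange : Scheme.{u}) ⟶
      ((U₁.ι ⁻¹ᵁ j.opensRange : (U₁ : Scheme.{u}).Opens) : Scheme.{u}),
      t ≫ (U₁.ι ⁻¹ᵁ j.opensRange).ι = X.homOfLE hV₀U₁ :=
    ⟨IsOpenImmersion.lift (U₁.ι ⁻¹ᵁ j.opensRange).ι (X.homOfLE hV₀U₁) (by
      rw [Scheme.Opens.range_ι]
      rintro _ ⟨y, rfl⟩
      show U₁.ι (X.homOfLE hV₀U₁ y) ∈ j.opensRange
      rw [← Scheme.Hom.comp_apply, Scheme.homOfLE_ι]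
      exact y.2), IsOpenImmersion.lift_fac _ _ _⟩
  have ht2 : t ≫ (U₁.ι ∣_ j.opensRange) = 𝟙 _ := by
    rw [← cancel_mono j.opensRange.ι, Category.assoc, morphismRestrict_ι, ← Category.assoc, ht,
      Scheme.homOfLE_ι, Category.id_comp]
  have h3 : X.homOfLE hV₀U₁ ≫ f₁ = f₀ := by
    rw [← ht, Category.assoc, hf₁a, ← Category.assoc, ht2, Category.id_comp]
  have h4 : j = j.isoOpensRange.hom ≫ X.homOfLE hV₀U₁ ≫ U₁.ι := by
    rw [Scheme.homOfLE_ι, Scheme.Hom.isoOpensRange_hom_ι]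
  rw [h4, Category.assoc, Category.assoc, hg2, h3, hf₀, Iso.hom_inv_id_assoc]

end Main

end Groth.Agent.Helper7.NeronCrit
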