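import Mathlib
import Groth.Agent.Lib.Helper7.NeronExt2

/-!
# Néron mapping property (generic-fibre form) for extensions of group schemes: main theorem
-/

set_option autoImplicit false
set_option linter.style.haveILetI false
set_option linter.unusedSectionVars false
universe u
open CategoryTheory AlgebraicGeometry TopologicalSpace Limits MonoidalCategory
  CartesianMonoidalCategory MonObj

namespace Groth.Agent.Helper7.NeronExt

variable {S S₀ : Scheme.{u}} (ζ : S₀ ⟶ S)

theorem counit_left (Y : Over S) :
    ((Over.mapPullbackAdj ζ).counit.app Y).left = pullback.fst Y.hom ζ := by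
  simp

set_option maxHeartbeats 1600000 in
theorem main [Flat ζ] [IsPreimmersion ζ] [QuasiCompact ζ] [IsSchemeTheoreticallyDominant ζ]
    [IsLocallyNoetherian S] [IsReduced S] [IsLocallyNoetherian S₀]
    (G' G G'' : Over S) [GrpObj G'] [GrpObj G] [GrpObj G'']
    [Smooth G'.hom] [Smooth G.hom] [IsSeparated G.hom] [Smooth G''.hom]
    (i : G' ⟶ G) (q : G ⟶ G'') [IsMonHom i] [IsMonHom q]
    (hker : IsPullback i (toUnit G') q η[G'']) [Flat q.left] [Surjective q.left]
    (hG' : ∀ Y : Over S, Smooth Y.hom →
      Function.Bijective (fun g : Y ⟶ G' => (Over.pullback ζ).map g))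
    (hG'' : ∀ Y : Over S, Smooth Y.hom →
      Function.Bijective (fun g : Y ⟶ G'' => (Over.pullback ζ).map g))
    (Y : Over S) (hY : Smooth Y.hom) :
    Function.Bijective (fun g : Y ⟶ G => (Over.pullback ζ).map g) := by
  obtain ⟨adj, hadj⟩ : ∃ adj : Over.map ζ ⊣ Over.pullback ζ, adj = Over.mapPullbackAdj ζ :=
    ⟨_, rfl⟩
  have hεl : ∀ Z : Over S, (adj.counit.app Z).left = pullback.fst Z.hom ζ := by
    intro Z
    rw [hadj]
    exact counit_left ζ Z
  rw [← bijective_counit_comp_iff adj]
  have hG'a := fun (Z : Over S) (hZ : Smooth Z.hom) =>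
    (bijective_counit_comp_iff adj Z G').mpr (hG' Z hZ)
  have hG''a := fun (Z : Over S) (hZ : Smooth Z.hom) =>
    (bijective_counit_comp_iff adj Z G'').mpr (hG'' Z hZ)
  -- instances on the generic fibre inclusion
  have hflat : ∀ Z : Over S, Flat Z.hom → Flat (adj.counit.app Z).left ∧
      IsPreimmersion (adj.counit.app Z).left ∧ QuasiCompact (adj.counit.app Z).left ∧
      IsSchemeTheoreticallyDominant (adj.counit.app Z).left := by
    intro Z hZ
    rw [hεl Z]
    exact ⟨inferInstance, inferInstance, inferInstance, inferInstance⟩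
  haveI : Flat Y.hom := inferInstance
  constructor
  · intro g₁ g₂ h
    dsimp only at h
    haveI := (hflat Y inferInstance).2.2.2
    ext
    refine Groth.Agent.Helper14.Ner.ext_of_isSchemeTheoreticallyDominant G.hom ?_
      (adj.counit.app Y).left ?_
    · rw [Over.w g₁, Over.w g₂]
    · rw [← Over.comp_left, ← Over.comp_left, h]
  · intro u'
    dsimp only
    -- step 1: the image in `G''` extends
    obtain ⟨v, hv⟩ := (hG''a Y hY).2 (u' ≫ q)
    dsimp only at hv
    -- step 2: `q` is smooth
    haveI : LocallyOfFinitePresentation q.left :=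
      Groth.Agent.Helper7.locallyOfFinitePresentation_of_comp q.left G''.hom
        (by rw [Over.w q]; infer_instance) inferInstance
    haveI : Smooth q.left := smooth_of_isKernel i q hker
    -- step 3: the torsor `T`
    obtain ⟨T₀, p₀, t₀, hpt, hp₀sm, hp₀s⟩ : ∃ (T₀ : Scheme.{u}) (p₀ : T₀ ⟶ Y.left)
        (t₀ : T₀ ⟶ G.left), p₀ ≫ v.left = t₀ ≫ q.left ∧ Smooth p₀ ∧ Surjective p₀ :=
      ⟨pullback v.left q.left, pullback.fst _ _, pullback.snd _ _, pullback.condition,
        inferInstance, inferInstance⟩
    haveI := hp₀sm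
    haveI := hp₀s
    obtain ⟨T, hT⟩ : ∃ T : Over S, T = Over.mk (p₀ ≫ Y.hom) := ⟨_, rfl⟩
    have hTsm : Smooth T.hom := by
      rw [hT]
      show Smooth (p₀ ≫ Y.hom)
      infer_instance
    obtain ⟨p, hp⟩ : ∃ p : T ⟶ Y, p.left = (hT ▸ p₀ : T.left ⟶ Y.left) := by
      subst hT
      exact ⟨Over.homMk p₀ rfl, rfl⟩
    obtain ⟨t, ht⟩ : ∃ t : T ⟶ G, t.left = (hT ▸ t₀ : T.left ⟶ G.left) := by
      subst hT
      refine ⟨Over.homMk t₀ ?_, rfl⟩
      show t₀ ≫ G.hom = p₀ ≫ Y.hom
      rw [← Over.w q, ← Category.assoc, ← hpt, Category.assoc, Over.w v]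
    have htq : t ≫ q = p ≫ v := by
      subst hT
      ext
      rw [Over.comp_left, Over.comp_left, ht, hp]
      exact hpt.symm
    have hpflat : Flat p.left ∧ Surjective p.left := by
      subst hT
      rw [hp]
      exact ⟨inferInstance, inferInstance⟩
    -- step 4: the section trick
    obtain ⟨σ, hσq, hσK⟩ := exists_sigma i q hker p v t htq (adj.counit.app T) (adj.counit.app Y)
      ((Over.map ζ).map ((Over.pullback ζ).map p)) (adj.counit.naturality p) u' hv.symm
      (fun d' => (hG'a T hTsm).2 d')
    -- step 5: descent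
    haveI : IsLocallyNoetherian Y.left := LocallyOfFiniteType.isLocallyNoetherian Y.hom
    haveI : IsReduced Y.left := Groth.Agent.Helper9.RatSec.isReduced_of_smooth Y.hom
    haveI : IsLocallyNoetherian ((Over.pullback ζ ⋙ Over.map ζ).obj Y).left := by
      show IsLocallyNoetherian (pullback Y.hom ζ)
      exact LocallyOfFiniteType.isLocallyNoetherian (pullback.snd Y.hom ζ)
    haveI := hpflat.1
    haveI := hpflat.2
    haveI := (hflat Y inferInstance).1
    haveI := (hflat Y inferInstance).2.1
    haveI := (hflat Y inferInstance).2.2.1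
    haveI := (hflat Y inferInstance).2.2.2
    haveI : Flat T.hom := inferInstance
    haveI := (hflat T inferInstance).2.2.1
    haveI := (hflat T inferInstance).2.2.2
    obtain ⟨h₀, hh1, hh2⟩ := descend_sigma Y.hom G.hom p.left (adj.counit.app Y).left
      (adj.counit.app T).left ((Over.map ζ).map ((Over.pullback ζ).map p)).left
      (congrArg Over.Hom.left (adj.counit.naturality p))
      u'.left (by
        rw [Over.w u', hεl Y]
        show pullback.snd Y.hom ζ ≫ ζ = pullback.fst Y.hom ζ ≫ Y.hom
        exact pullback.condition.symm)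
      σ.left (by rw [Over.w σ, Over.w p])
      (by rw [← Over.comp_left, ← Over.comp_left, hσK])
    refine ⟨Over.homMk h₀ hh1, ?_⟩
    ext
    rw [Over.comp_left]
    exact hh2

end Groth.Agent.Helper7.NeronExt
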