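import Mathlib
import Groth.Agent.Lib.Helper7.NeronExt3

/-!
# Néron mapping property (generic-fibre form) for pseudo-torsors under a group with the property
-/

set_option autoImplicit false
set_option linter.style.haveILetI false
set_option linter.unusedSectionVars false
universe u
open CategoryTheory AlgebraicGeometry TopologicalSpace Limits MonoidalCategory
  CartesianMonoidalCategory

namespace Groth.Agent.Helper7.NeronExt

variable {S S₀ : Scheme.{u}} (ζ : S₀ ⟶ S)

set_option maxHeartbeats 1600000 in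
theorem torsor_nmp [Flat ζ] [IsPreimmersion ζ] [QuasiCompact ζ] [IsSchemeTheoreticallyDominant ζ]
    [IsLocallyNoetherian S] [IsReduced S] [IsLocallyNoetherian S₀]
    (X P : Over S) (act : X ⊗ P ⟶ P) (hps : IsIso (lift act (snd X P)))
    [Smooth P.hom] [IsSeparated P.hom] [Surjective P.hom]
    (hX : ∀ Y : Over S, Smooth Y.hom →
      Function.Surjective (fun g : Y ⟶ X => (Over.pullback ζ).map g))
    (Y : Over S) (hY : Smooth Y.hom) :
    Function.Bijective (fun g : Y ⟶ P => (Over.pullback ζ).map g) := by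
  obtain ⟨adj, hadj⟩ : ∃ adj : Over.map ζ ⊣ Over.pullback ζ, adj = Over.mapPullbackAdj ζ :=
    ⟨_, rfl⟩
  have hεl : ∀ Z : Over S, (adj.counit.app Z).left = pullback.fst Z.hom ζ := by
    intro Z
    rw [hadj]
    exact counit_left ζ Z
  rw [← bijective_counit_comp_iff adj]
  have hXa : ∀ (Z : Over S), Smooth Z.hom → ∀ d' : (Over.map ζ).obj ((Over.pullback ζ).obj Z) ⟶ X,
      ∃ d : Z ⟶ X, adj.counit.app Z ≫ d = d' := by
    intro Z hZ d'
    obtain ⟨d, hd⟩ := hX Z hZ (adj.homEquiv _ _ d')
    dsimp only at hd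
    refine ⟨d, ?_⟩
    have h1 : (adj.homEquiv _ _).symm ((Over.pullback ζ).map d) = d' := by
      rw [hd, Equiv.symm_apply_apply]
    rw [← h1, Adjunction.homEquiv_counit]
    exact (adj.counit.naturality d).symm
  have hflat : ∀ Z : Over S, Flat Z.hom → Flat (adj.counit.app Z).left ∧
      IsPreimmersion (adj.counit.app Z).left ∧ QuasiCompact (adj.counit.app Z).left ∧
      IsSchemeTheoreticallyDominant (adj.counit.app Z).left := by
    intro Z hZ
    rw [hεl Z]
    exact ⟨inferInstance, inferInstance, inferInstance, inferInstance⟩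
  haveI : Flat Y.hom := inferInstance
  constructor
  · intro g₁ g₂ h
    dsimp only at h
    haveI := (hflat Y inferInstance).2.2.2
    ext
    refine Groth.Agent.Helper14.Ner.ext_of_isSchemeTheoreticallyDominant P.hom ?_
      (adj.counit.app Y).left ?_
    · rw [Over.w g₁, Over.w g₂]
    · rw [← Over.comp_left, ← Over.comp_left, h]
  · intro u'
    dsimp only
    obtain ⟨T, hT⟩ : ∃ T : Over S, T = Y ⊗ P := ⟨_, rfl⟩
    obtain ⟨p, hp⟩ : ∃ p : T ⟶ Y, p = (hT ▸ fst Y P : T ⟶ Y) := ⟨_, rfl⟩
    obtain ⟨t, ht⟩ : ∃ t : T ⟶ P, t = (hT ▸ snd Y P : T ⟶ P) := ⟨_, rfl⟩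
    have hTsm : Smooth T.hom := by
      subst hT
      rw [Over.tensorObj_hom]
      infer_instance
    have hpflat : Flat p.left ∧ Surjective p.left := by
      subst hT
      rw [hp, Over.fst_left]
      exact ⟨inferInstance, inferInstance⟩
    obtain ⟨jT, hjT⟩ : ∃ jT, jT = adj.counit.app T := ⟨_, rfl⟩
    obtain ⟨pK, hpK⟩ : ∃ pK, pK = (Over.map ζ).map ((Over.pullback ζ).map p) := ⟨_, rfl⟩
    have hnat : pK ≫ adj.counit.app Y = jT ≫ p := by
      rw [hpK, hjT]
      exact adj.counit.naturality p
    -- the difference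
    obtain ⟨w, hw⟩ : ∃ w, w = lift (pK ≫ u') (jT ≫ t) ≫ inv (lift act (snd X P)) := ⟨_, rfl⟩
    have hw1 : w ≫ lift act (snd X P) = lift (pK ≫ u') (jT ≫ t) := by
      rw [hw, Category.assoc, IsIso.inv_hom_id, Category.comp_id]
    have hw2 : w ≫ act = pK ≫ u' := by
      have := congr($hw1 ≫ fst P P)
      rwa [Category.assoc, lift_fst, lift_fst] at this
    have hw3 : w ≫ snd X P = jT ≫ t := by
      have := congr($hw1 ≫ snd P P)
      rwa [Category.assoc, lift_snd, lift_snd] at this
    obtain ⟨d, hd⟩ := hXa T hTsm (w ≫ fst X P)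
    rw [← hjT] at hd
    obtain ⟨σ, hσ⟩ : ∃ σ : T ⟶ P, σ = lift d t ≫ act := ⟨_, rfl⟩
    have hσK : jT ≫ σ = pK ≫ u' := by
      rw [hσ, ← Category.assoc, comp_lift, hd, ← hw3, ← hw2]
      congr 1
      apply CartesianMonoidalCategory.hom_ext
      · rw [lift_fst]
      · rw [lift_snd]
    -- descent
    haveI : IsLocallyNoetherian Y.left := LocallyOfFiniteType.isLocallyNoetherian Y.hom
    haveI : IsReduced Y.left := Groth.Agent.Helper9.RatSec.isReduced_of_smooth Y.hom
    haveI : IsLocallyNoetherian ((Over.pullback ζ ⋙ Over.map ζ).obj Y).left := by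
      show IsLocallyNoetherian (pullback Y.hom ζ)
      exact LocallyOfFiniteType.isLocallyNoetherian (pullback.snd Y.hom ζ)
    haveI := hpflat.1
    haveI := hpflat.2
    haveI := (hflat Y inferInstance).1
    haveI := (hflat Y inferInstance).2.1
    haveI := (hflat Y inferInstance).2.2.1
    haveI := (hflat Y inferInstance).2.2.2
    haveI : Flat T.hom := inferInstance
    have hjTq : QuasiCompact jT.left := by rw [hjT]; exact (hflat T inferInstance).2.2.1
    have hjTd : IsSchemeTheoreticallyDominant jT.left := by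
      rw [hjT]; exact (hflat T inferInstance).2.2.2
    obtain ⟨h₀, hh1, hh2⟩ := descend_sigma Y.hom P.hom p.left (adj.counit.app Y).left
      jT.left pK.left (congrArg Over.Hom.left hnat)
      u'.left (by
        rw [Over.w u', hεl Y]
        show pullback.snd Y.hom ζ ≫ ζ = pullback.fst Y.hom ζ ≫ Y.hom
        exact pullback.condition.symm)
      σ.left (by rw [Over.w σ, Over.w p])
      (by rw [← Over.comp_left, ← Over.comp_left, hσK])
    refine ⟨Over.homMk h₀ hh1, ?_⟩
    ext
    rw [Over.comp_left]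
    exact hh2

end Groth.Agent.Helper7.NeronExt
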