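import Mathlib
import Groth.Agent.Lib.Helper16.Sch.ConsFD5
import Groth.Agent.Lib.Helper16.Sch.GeomRedOpen1

/-!
# Noetherian approximation preserving a constructible fibrewise property
(generic version of Helper16's `ConsFD.ring_core` / `main1464`), with the instance
"geometrically reduced fibres"
-/

set_option autoImplicit false
set_option linter.style.haveILetI false
set_option linter.unusedSectionVars false
universe u
open CategoryTheory CategoryTheory.Limits AlgebraicGeometry Opposite TopologicalSpace Topology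
open TensorProduct

noncomputable section

namespace Groth.Agent.Helper7.NoethApprox

open Groth.Agent.Helper14 Groth.Agent.Helper21.FS Groth.Agent.Helper16.ConsFD

/-- a property of the fibres of a morphism which is compatible with base change and has a locally
constructible locus for quasi-compact morphisms locally of finite presentation -/
structure FibreProp where
  /-- the property -/
  Φ : ∀ {X S : Scheme.{u}} (_ : X ⟶ S), S → Prop
  bc : ∀ {X S X' S' : Scheme.{u}} {f : X ⟶ S} {g : S' ⟶ S} {g' : X' ⟶ X} {f' : X' ⟶ S'}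
    [LocallyOfFinitePresentation f] (_ : IsPullback g' f' f g) (s' : S'), Φ f' s' ↔ Φ f (g s')
  cons : ∀ {X S : Scheme.{u}} (f : X ⟶ S) [LocallyOfFinitePresentation f] [QuasiCompact f],
    IsLocallyConstructible {s : S | Φ f s}

variable (Q : FibreProp.{u})

attribute [local instance] stageAlgebra Algebra.TensorProduct.rightAlgebra in
theorem ring_core (R B : Type u) [CommRing R] [CommRing B] [Algebra R B]
    [Algebra.FinitePresentation R B]
    (hd : ∀ s : Spec (.of R), Q.Φ (Spec.map (CommRingCat.ofHom (algebraMap R B))) s) :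
    ∃ (R₁ : Type u) (_ : CommRing R₁) (_ : Algebra R₁ R) (B₁ : Type u) (_ : CommRing B₁)
      (_ : Algebra R₁ B₁) (_ : Algebra B₁ B) (_ : Algebra R₁ B) (_ : IsScalarTower R₁ R B)
      (_ : IsScalarTower R₁ B₁ B),
      Algebra.FiniteType ℤ R₁ ∧ Algebra.FiniteType R₁ B₁ ∧ Algebra.IsPushout R₁ R B₁ B ∧
      ∀ s₁ : Spec (.of R₁), Q.Φ (Spec.map (CommRingCat.ofHom (algebraMap R₁ B₁))) s₁ := by
  obtain ⟨R₀, _, _, B₀, _, _, _, _, _, _, hR₀, hB₀, hpo⟩ := exists_model R B
  haveI : Algebra.IsPushout R₀ R B₀ B := hpo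
  have hsq := isPullback_of_isPushout R₀ R B₀ B hpo
  haveI : LocallyOfFinitePresentation (Spec.map (CommRingCat.ofHom (algebraMap R₀ B₀))) := by
    rw [HasRingHomProperty.Spec_iff (P := @LocallyOfFinitePresentation)]
    exact RingHom.finitePresentation_algebraMap.mpr inferInstance
  have hE := (Q.cons (Spec.map (CommRingCat.ofHom (algebraMap R₀ B₀)))).isConstructible
  have hC := hE.compl
  obtain ⟨C, hCs⟩ := PrimeSpectrum.exists_constructibleSetData_iff.mpr hC
  have hempty : PrimeSpectrum.comap (algebraMap R₀ R) ⁻¹' C.toSet = ∅ := by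
    rw [Set.eq_empty_iff_forall_notMem]
    intro s hs
    rw [Set.mem_preimage, hCs] at hs
    apply hs
    exact (Q.bc hsq s).mp (hd s)
  obtain ⟨T, hT⟩ := exists_finset_preimage_eq_empty C hempty
  let R' : Subalgebra R₀ R := Algebra.adjoin R₀ (T : Set R)
  have hR'fg : R'.FG := Subalgebra.fg_adjoin_finset T
  haveI : Algebra.FiniteType R₀ R' := (Subalgebra.fg_iff_finiteType R').mp hR'fg
  haveI : IsScalarTower R₀ R' B := IsScalarTower.of_algebraMap_eq fun a => by
    rw [IsScalarTower.algebraMap_apply R₀ R B]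
    rfl
  have hempty' := hT R' Algebra.subset_adjoin
  refine ⟨R', inferInstance, inferInstance, R' ⊗[R₀] B₀, inferInstance, inferInstance,
    inferInstance, inferInstance, inferInstance, inferInstance, ?_, ?_, ?_, ?_⟩
  · exact Algebra.FiniteType.trans hR₀ inferInstance
  · infer_instance
  · exact stage_isPushout R₀ B₀ B R'
  · intro s₁
    have hpo' : Algebra.IsPushout R₀ R' B₀ (R' ⊗[R₀] B₀) := TensorProduct.isPushout
    have hsq' := isPullback_of_isPushout R₀ R' B₀ (R' ⊗[R₀] B₀) hpo'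
    rw [Q.bc hsq' s₁]
    by_contra hcon
    have h1 : (PrimeSpectrum.comap (algebraMap R₀ R') s₁) ∈ C.toSet := by
      rw [hCs]
      exact hcon
    have h2 : s₁ ∈ PrimeSpectrum.comap (algebraMap R₀ R') ⁻¹' C.toSet := h1
    rw [hempty'] at h2
    exact h2

/-- Noetherian approximation preserving the fibre property `Q`. -/
theorem main {X S : Scheme.{u}} (f : X ⟶ S) [IsAffine X] [IsAffine S]
    [LocallyOfFinitePresentation f] (hd : ∀ s : S, Q.Φ f s) :
    ∃ (X₀ S₀ : Scheme.{u}) (f₀ : X₀ ⟶ S₀) (g : S ⟶ S₀) (g' : X ⟶ X₀), IsAffine X₀ ∧ IsAffine S₀ ∧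
      IsPullback g' f f₀ g ∧ Algebra.FiniteType ℤ Γ(S₀, ⊤) ∧ LocallyOfFiniteType f₀ ∧
      ∀ s₀ : S₀, Q.Φ f₀ s₀ := by
  letI : Algebra Γ(S, ⊤) Γ(X, ⊤) := f.appTop.hom.toAlgebra
  haveI : Algebra.FinitePresentation Γ(S, ⊤) Γ(X, ⊤) := f.finitePresentation_appTop
  have hiso : IsPullback X.isoSpec.hom f (Spec.map f.appTop) S.isoSpec.hom :=
    IsPullback.of_horiz_isIso ⟨Scheme.isoSpec_hom_naturality f⟩
  haveI : LocallyOfFinitePresentation (Spec.map f.appTop) := by
    rw [HasRingHomProperty.Spec_iff (P := @LocallyOfFinitePresentation)]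
    exact f.finitePresentation_appTop
  have hd' : ∀ s : Spec (.of Γ(S, ⊤)),
      Q.Φ (Spec.map (CommRingCat.ofHom (algebraMap Γ(S, ⊤) Γ(X, ⊤)))) s := by
    intro s
    have h1 := Q.bc hiso (S.isoSpec.inv s)
    have h2 : S.isoSpec.hom (S.isoSpec.inv s) = s := by
      rw [← Scheme.Hom.comp_apply, Iso.inv_hom_id]
      rfl
    rw [h2] at h1
    exact h1.mp (hd _)
  obtain ⟨R₁, _, _, B₁, _, _, _, _, _, _, hft, hfB, hpo, hdim⟩ :=
    ring_core Q Γ(S, ⊤) Γ(X, ⊤) hd'
  have hsq1 := isPullback_of_isPushout R₁ Γ(S, ⊤) B₁ Γ(X, ⊤) hpo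
  refine ⟨Spec (.of B₁), Spec (.of R₁), Spec.map (CommRingCat.ofHom (algebraMap R₁ B₁)),
    S.isoSpec.hom ≫ Spec.map (CommRingCat.ofHom (algebraMap R₁ Γ(S, ⊤))),
    X.isoSpec.hom ≫ Spec.map (CommRingCat.ofHom (algebraMap B₁ Γ(X, ⊤))),
    inferInstance, inferInstance, ?_, ?_, ?_, hdim⟩
  · exact hiso.paste_horiz hsq1
  · exact Algebra.FiniteType.equiv hft
      (Scheme.ΓSpecIso (.of R₁)).commRingCatIsoToRingEquiv.symm.toIntAlgEquiv
  · rw [HasRingHomProperty.Spec_iff (P := @LocallyOfFiniteType)]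
    exact RingHom.finiteType_algebraMap.mpr hfB

section GeomRed

open Groth.Agent.Helper16.SmCd Groth.Agent.Helper16.FibCons Groth.Agent.Helper16.SmoothLocusBC

/-- the fibre over `s` is geometrically reduced -/
def geomRedFibre : FibreProp.{u} where
  Φ := fun {X S} f s => GeometricallyReduced (f.fiberToSpecResidueField s)
  bc := by
    intro X S X' S' f g g' f' _ hsq s'
    haveI : LocallyOfFinitePresentation f' := MorphismProperty.of_isPullback hsq inferInstance
    have hpt : ∀ x' : X',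
        FBase.IsGeomReducedAt (f'.fiberToSpecResidueField (f'.base x')) (f'.asFiber x') ↔
          FBase.IsGeomReducedAt (f.fiberToSpecResidueField (f.base (g' x'))) (f.asFiber (g' x')) := by
      intro x'
      rw [geomReduced_fibre_asFiber_iff, geomReduced_fibre_asFiber_iff,
        Groth.Agent.Helper16.SmCd.fibSmCond_bc 0 hsq x',
        (Groth.Agent.Helper16.FibSk.skFib 1).bc hsq x']
    rw [geometricallyReduced_fibre_iff, geometricallyReduced_fibre_iff]
    constructor
    · intro H x hx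
      obtain ⟨x', hx', hfx'⟩ := exists_preimage_of_isPullback hsq x s' hx
      rw [← hx']
      exact (hpt x').mp (H x' hfx')
    · intro H x' hx'
      refine (hpt x').mpr (H _ ?_)
      rw [← hx', ← Scheme.Hom.comp_apply, ← Scheme.Hom.comp_apply, hsq.w]
  cons := fun f => isLocallyConstructible_geometricallyReduced_fibre f

theorem main_geomRed {X S : Scheme.{u}} (f : X ⟶ S) [IsAffine X] [IsAffine S]
    [LocallyOfFinitePresentation f] [GeometricallyReduced f] :
    ∃ (X₀ S₀ : Scheme.{u}) (f₀ : X₀ ⟶ S₀) (g : S ⟶ S₀) (g' : X ⟶ X₀), IsAffine X₀ ∧ IsAffine S₀ ∧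
      IsPullback g' f f₀ g ∧ Algebra.FiniteType ℤ Γ(S₀, ⊤) ∧ LocallyOfFiniteType f₀ ∧
      GeometricallyReduced f₀ := by
  obtain ⟨X₀, S₀, f₀, g, g', h1, h2, h3, h4, h5, h6⟩ :=
    main geomRedFibre f (fun s => inferInstanceAs
      (GeometricallyReduced (f.fiberToSpecResidueField s)))
  refine ⟨X₀, S₀, f₀, g, g', h1, h2, h3, h4, h5, ?_⟩
  rw [geometricallyReduced_iff, geometrically_iff_forall_fiberToSpecResidueField]
  intro s₀
  exact (geometricallyReduced_iff _).mp (h6 s₀)

end GeomRed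

end Groth.Agent.Helper7.NoethApprox
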