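import Mathlib
import Groth.Agent.Lib.Helper7.NormAsc
import Groth.Agent.Lib.Helper7.RegComp
import Groth.Agent.Lib.Helper7.GeomRed3
import Groth.Agent.Lib.Helper7.CplLocal
import Groth.Agent.S19858

/-!
# Composition of normal homomorphisms; normal formal fibres via a normal local hom (helper7)
-/

set_option autoImplicit false
set_option linter.unusedSectionVars false
set_option linter.style.haveILetI false
universe u

namespace Groth.Agent.Helper7.NormAsc

open TensorProduct IsLocalRing Function Groth.Agent.Lead.Fib Groth.Agent.Helper7.GeomRed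

/-- composition of flat maps with geometrically normal fibres (B → C may be given with
geometrically normal fibres only) -/
theorem isNormalHom_comp (A B C : Type u) [CommRing A] [CommRing B] [CommRing C]
    [IsNoetherianRing B] [IsNoetherianRing C] [Algebra A B] [Algebra B C] [Algebra A C]
    [IsScalarTower A B C]
    (hAB : EGA4.IsNormalHom A B) (hBC : EGA4.IsNormalHom B C) : EGA4.IsNormalHom A C := by
  have hfAB := hAB.1
  have hfBC := hBC.1
  refine ⟨Module.Flat.trans A B C, fun p _ => ?_⟩
  intro K _ _ hK
  refine geomP_comp A B C (fun R _ => EGA4.IsNormalRing R)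
    (fun R R' _ _ e hR => isNormalRing_of_ringEquiv R R' e hR)
    (fun R S _ _ _ _ _ _ hR hfib => isNormalRing_of_flat_of_fibres R S hR hfib)
    (fun p _ k' _ _ hf => hAB.2 p k' hf)
    (fun q _ k' _ _ hf => hBC.2 q k' hf)
    (fun p _ k' _ _ hf => ?_) (fun p _ k' _ _ hf => ?_) p K hK
  · have := isNoetherianRing_fiber (S := B) p
    exact isNoetherianRing_tensor_of_finite p.ResidueField k' (p.Fiber B)
  · have := isNoetherianRing_fiber (S := C) p
    exact isNoetherianRing_tensor_of_finite p.ResidueField k' (p.Fiber C)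

theorem isNormalHom_of_isRegularHom (B C : Type u) [CommRing B] [CommRing C] [Algebra B C]
    (h : CAlg.IsRegularHom B C) : EGA4.IsNormalHom B C := by
  refine ⟨h.1, fun q _ k' _ _ hf => ?_⟩
  have h0 : IsRegularRing (k' ⊗[q.ResidueField] (q.Fiber C)) := (h.2 q).2 k' hf
  exact isNormalRing_of_isRegularRing _

section ToLocal

open Groth.Agent.Helper7.CplFlat

variable (A A' : Type u) [CommRing A] [CommRing A'] [IsNoetherianRing A] [IsNoetherianRing A']
  [IsLocalRing A] [IsLocalRing A'] [Algebra A A'] [IsLocalHom (algebraMap A A')]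

theorem geomNormalFormalFibres_of_to_local
    (hf : EGA4.IsNormalHom A A') (hA' : CAlg.IsRegularHom A' (EGA4.Cpl A')) :
    EGA4.HasGeomNormalFormalFibres A := by
  have hfl := hf.1
  obtain ⟨alg, htower, hff⟩ := exists_cplAlgebra A A'
  letI := alg
  have hN' : IsNoetherianRing (EGA4.Cpl A') :=
    Groth.Agent.Helper1.isNoetherianRing_adicCompletion_of_fg A' (maximalIdeal A')
      (IsNoetherian.noetherian _)
  have hN : IsNoetherianRing (EGA4.Cpl A) :=
    Groth.Agent.Helper1.isNoetherianRing_adicCompletion_of_fg A (maximalIdeal A)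
      (IsNoetherian.noetherian _)
  have hAC : EGA4.IsNormalHom A (EGA4.Cpl A') :=
    isNormalHom_comp A A' (EGA4.Cpl A') hf (isNormalHom_of_isRegularHom _ _ hA')
  have hAB : EGA4.IsNormalHom A (EGA4.Cpl A) :=
    Groth.Agent.S19858.result A (EGA4.Cpl A) (EGA4.Cpl A') hAC
  exact hAB.2

end ToLocal

end Groth.Agent.Helper7.NormAsc
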