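import Mathlib
import Groth.Prelude.Def_Found
import Groth.Agent.Lib.Helper7.DVRCrit
import Groth.Agent.Lib.Helper7.NormFin

set_option linter.style.haveILetI false
set_option linter.unusedSectionVars false

universe u
open CategoryTheory CategoryTheory.Limits AlgebraicGeometry TopologicalSpace

namespace Groth.Agent.Helper7.NormDVR

variable {X Y : Scheme.{u}} (f : Y ⟶ X) [QuasiCompact f] [QuasiSeparated f]

theorem preimage_le (U : X.Opens) :
    f ⁻¹ᵁ U ≤ f.toNormalization ⁻¹ᵁ f.fromNormalization ⁻¹ᵁ U := by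
  simp [← Scheme.Hom.comp_preimage]

/-- The comparison map from sections of the normalization to sections of the source. -/
noncomputable def ψ (U : X.Opens) :
    Γ(f.normalization, f.fromNormalization ⁻¹ᵁ U) ⟶ Γ(Y, f ⁻¹ᵁ U) :=
  f.toNormalization.appLE (f.fromNormalization ⁻¹ᵁ U) (f ⁻¹ᵁ U) (preimage_le f U)

theorem ψ_injective {U : X.Opens} (hU : IsAffineOpen U) :
    Function.Injective (ψ f U).hom := by
  letI := (f.app U).hom.toAlgebra
  have hψ := f.normalizationObjIso_hom_val hU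
  change _ = ψ f U at hψ
  rw [← hψ]
  exact Subtype.val_injective.comp
    (f.normalizationObjIso hU).commRingCatIsoToRingEquiv.injective

theorem ψ_exists_of_isIntegralElem {U : X.Opens} (hU : IsAffineOpen U) (b : Γ(Y, f ⁻¹ᵁ U))
    (hb : (ψ f U).hom.IsIntegralElem b) : ∃ a, (ψ f U).hom a = b := by
  letI := (f.app U).hom.toAlgebra
  have hψ := f.normalizationObjIso_hom_val hU
  change _ = ψ f U at hψ
  obtain ⟨p, hp, hpb⟩ := hb
  have hbC : IsIntegral (integralClosure Γ(X, U) Γ(Y, f ⁻¹ᵁ U)) b := by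
    refine ⟨p.map (f.normalizationObjIso hU).hom.hom, hp.map _, ?_⟩
    rw [Polynomial.eval₂_map]
    have h1 : (algebraMap (integralClosure Γ(X, U) Γ(Y, f ⁻¹ᵁ U)) Γ(Y, f ⁻¹ᵁ U)).comp
        (f.normalizationObjIso hU).hom.hom = (ψ f U).hom := by
      rw [← hψ]; rfl
    rw [h1]; exact hpb
  have hbR : IsIntegral Γ(X, U) b := isIntegral_trans b hbC
  refine ⟨(f.normalizationObjIso hU).inv.hom ⟨b, hbR⟩, ?_⟩
  rw [← hψ]
  simp

/-- Prime avoidance: a prime of height one in a Noetherian ring contains an element avoiding all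
minimal primes. -/
theorem exists_mem_not_mem_minimalPrimes {A : Type u} [CommRing A] [IsNoetherianRing A]
    (q : Ideal A) [q.IsPrime] (hht : q.height = 1) :
    ∃ g ∈ q, ∀ P ∈ minimalPrimes A, g ∉ P := by
  classical
  have hfin := minimalPrimes.finite_of_isNoetherianRing A
  by_contra hcon
  push Not at hcon
  have hsub : (q : Set A) ⊆ ⋃ P ∈ (hfin.toFinset : Set (Ideal A)), ((id P : Ideal A) : Set A) := by
    intro g hg
    obtain ⟨P, hP, hgP⟩ := hcon g hg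
    exact Set.mem_biUnion (by simpa using hP) hgP
  rw [Ideal.subset_union_prime (⊥ : Ideal A) ⊥ (by
    intro P hP _ _
    have hP' : P ∈ minimalPrimes A := by simpa using hP
    exact hP'.1.1)] at hsub
  obtain ⟨P, hP, hqP⟩ := hsub
  have hP' : P ∈ minimalPrimes A := by simpa using hP
  have hPq : P ≤ q := hP'.2 ⟨inferInstance, bot_le⟩ hqP
  have hqeq : q = P := le_antisymm hqP hPq
  have h0 : q.height = 0 := Ideal.height_eq_zero_iff.mpr (hqeq ▸ hP')
  rw [hht] at h0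
  exact one_ne_zero h0

/-- For one affine open `V` of the source lying over `W`: some `s ∉ q` becomes a multiple of `g`
on `V`. -/
theorem exists_mul_eq_affine {Y N : Scheme.{u}} (t : Y ⟶ N) {W : N.Opens} (hW : IsAffineOpen W)
    [IsNoetherianRing Γ(N, W)]
    (x' : N) (hx'W : x' ∈ W) (hx' : x' ∉ Set.range t.base)
    (hht : (hW.primeIdealOf ⟨x', hx'W⟩).asIdeal.height = 1)
    (g : Γ(N, W)) (hgmin : ∀ P ∈ minimalPrimes Γ(N, W), g ∉ P)
    (V : Y.Opens) (hV : IsAffineOpen V) (hVle : V ≤ t ⁻¹ᵁ W) :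
    ∃ s, s ∉ (hW.primeIdealOf ⟨x', hx'W⟩).asIdeal ∧
      ∃ c : Γ(Y, V), (t.appLE W V hVle).hom g * c = (t.appLE W V hVle).hom s := by
  classical
  by_contra hcon
  push Not at hcon
  have hle : (Ideal.span {(t.appLE W V hVle).hom g}).comap (t.appLE W V hVle).hom ≤
      (hW.primeIdealOf ⟨x', hx'W⟩).asIdeal := by
    intro a ha
    rw [Ideal.mem_comap, Ideal.mem_span_singleton'] at ha
    obtain ⟨c, hc⟩ := ha
    by_contra haq
    exact hcon a haq c (by rw [mul_comm]; exact hc)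
  obtain ⟨Q, hQge, hQprime, hQle⟩ := Ideal.exists_ideal_comap_le_prime
    (hW.primeIdealOf ⟨x', hx'W⟩).asIdeal (Ideal.span {(t.appLE W V hVle).hom g}) hle
  haveI := hQprime
  have hgP : g ∈ Q.comap (t.appLE W V hVle).hom := by
    rw [Ideal.mem_comap]; exact hQge (Ideal.subset_span rfl)
  have hPq : Q.comap (t.appLE W V hVle).hom = (hW.primeIdealOf ⟨x', hx'W⟩).asIdeal := by
    by_contra hne
    have hlt : Q.comap (t.appLE W V hVle).hom < (hW.primeIdealOf ⟨x', hx'W⟩).asIdeal :=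
      lt_of_le_of_ne hQle hne
    have h1 := Ideal.height_strict_mono_of_isPrime_of_isPrime hlt
    rw [hht] at h1
    have h0 : (Q.comap (t.appLE W V hVle).hom).height = 0 := by
      rwa [Order.lt_one_iff] at h1
    exact hgmin _ (Ideal.height_eq_zero_iff.mp h0) hgP
  apply hx'
  refine ⟨hV.fromSpec ⟨Q, hQprime⟩, ?_⟩
  have h2 := IsAffineOpen.SpecMap_appLE_fromSpec t hW hV hVle
  have h3 := congr($(h2).base ⟨Q, hQprime⟩)
  simp only [Scheme.Hom.comp_base, TopCat.hom_comp, ContinuousMap.comp_apply] at h3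
  rw [← h3]
  have h4 : (Spec.map (t.appLE W V hVle)).base ⟨Q, hQprime⟩ = hW.primeIdealOf ⟨x', hx'W⟩ := by
    apply PrimeSpectrum.ext
    exact hPq
  rw [h4]
  exact hW.fromSpec_primeIdealOf ⟨x', hx'W⟩

/-- Over a qcqs morphism `t : Y ⟶ N`, if the fibre over a height-one point `x'` of an affine open
`W` is empty, then some `g` in the prime of `x'` divides (the image of) some `s` outside it in
`Γ(Y, t⁻¹W)`. -/
theorem exists_mul_eq {Y N : Scheme.{u}} (t : Y ⟶ N) [QuasiCompact t] [QuasiSeparated t]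
    {W : N.Opens} (hW : IsAffineOpen W) [IsNoetherianRing Γ(N, W)]
    (x' : N) (hx'W : x' ∈ W) (hx' : x' ∉ Set.range t.base)
    (hht : (hW.primeIdealOf ⟨x', hx'W⟩).asIdeal.height = 1) :
    ∃ g ∈ (hW.primeIdealOf ⟨x', hx'W⟩).asIdeal,
      ∃ s, s ∉ (hW.primeIdealOf ⟨x', hx'W⟩).asIdeal ∧
        ∃ c : Γ(Y, t ⁻¹ᵁ W), (t.app W).hom g * c = (t.app W).hom s := by
  classical
  haveI hqprime : (hW.primeIdealOf ⟨x', hx'W⟩).asIdeal.IsPrime :=
    (hW.primeIdealOf ⟨x', hx'W⟩).isPrime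
  obtain ⟨g, hg, hgmin⟩ := exists_mem_not_mem_minimalPrimes _ hht
  refine ⟨g, hg, ?_⟩
  have hΩc : IsCompact (t ⁻¹ᵁ W : Set Y) := t.isCompact_preimage hW.isCompact
  have hΩqs : IsQuasiSeparated (t ⁻¹ᵁ W : Set Y) :=
    t.isQuasiSeparated_preimage hW.isQuasiSeparated
  obtain ⟨𝒱, h𝒱fin, h𝒱eq⟩ := isCompact_and_isOpen_iff_finite_and_eq_biUnion_affineOpens.mp
    ⟨hΩc, (t ⁻¹ᵁ W).2⟩
  have h𝒱le : ∀ V ∈ 𝒱, V.1 ≤ t ⁻¹ᵁ W := by
    intro V hV y hy
    show y ∈ (t ⁻¹ᵁ W : Set Y)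
    rw [h𝒱eq]; exact Set.mem_biUnion hV hy
  have hstep3 : ∀ 𝒮 : Set Y.affineOpens, 𝒮.Finite → (∀ V ∈ 𝒮, V.1 ≤ t ⁻¹ᵁ W) →
      ∃ s, s ∉ (hW.primeIdealOf ⟨x', hx'W⟩).asIdeal ∧ ∀ V ∈ 𝒮, ∀ hle : V.1 ≤ t ⁻¹ᵁ W,
        ∃ c : Γ(Y, V.1), (t.appLE W V.1 hle).hom g * c = (t.appLE W V.1 hle).hom s := by
    intro 𝒮 h𝒮
    induction 𝒮, h𝒮 using Set.Finite.induction_on with
    | empty =>
      intro _
      exact ⟨1, (Ideal.ne_top_iff_one _).mp hqprime.ne_top,
        fun V hV => absurd hV (Set.notMem_empty _)⟩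
    | @insert V0 𝒮' hV0 h𝒮fin ih =>
      intro hle
      obtain ⟨s₁, hs₁, h₁⟩ := ih (fun V hV => hle V (Set.mem_insert_of_mem _ hV))
      obtain ⟨s₂, hs₂, c₂, hc₂⟩ := exists_mul_eq_affine t hW x' hx'W hx' hht g hgmin V0.1 V0.2
        (hle V0 (Set.mem_insert _ _))
      refine ⟨s₁ * s₂, ?_, ?_⟩
      · intro h
        rcases hqprime.mem_or_mem h with h | h
        exacts [hs₁ h, hs₂ h]
      · intro V hV hVle
        rcases Set.mem_insert_iff.mp hV with rfl | hV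
        · exact ⟨c₂ * (t.appLE W _ hVle).hom s₁, by rw [← mul_assoc, hc₂, map_mul]; ring⟩
        · obtain ⟨c₁, hc₁⟩ := h₁ V hV hVle
          exact ⟨c₁ * (t.appLE W _ hVle).hom s₂, by rw [← mul_assoc, hc₁, map_mul]⟩
  obtain ⟨s, hs, hsV⟩ := hstep3 𝒱 h𝒱fin h𝒱le
  have hDle : Y.basicOpen ((t.app W).hom s) ≤ Y.basicOpen ((t.app W).hom g) := by
    intro y hy
    have hyΩ : y ∈ (t ⁻¹ᵁ W : Set Y) := Y.basicOpen_le _ hy
    rw [h𝒱eq] at hyΩ
    obtain ⟨V, hV, hyV⟩ := Set.mem_iUnion₂.mp hyΩ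
    obtain ⟨c, hc⟩ := hsV V hV (h𝒱le V hV)
    have hres : ∀ a, (t.appLE W V.1 (h𝒱le V hV)).hom a =
        (Y.presheaf.map (homOfLE (h𝒱le V hV)).op).hom ((t.app W).hom a) := fun a => rfl
    rw [hres, hres] at hc
    have h1 : y ∈ Y.basicOpen ((Y.presheaf.map (homOfLE (h𝒱le V hV)).op).hom
        ((t.app W).hom s)) := by
      rw [Scheme.basicOpen_res]; exact ⟨hyV, hy⟩
    rw [← hc, Scheme.basicOpen_mul] at h1
    have h2 := h1.1
    rw [Scheme.basicOpen_res] at h2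
    exact h2.2
  haveI hloc := isLocalization_basicOpen_of_qcqs hΩc hΩqs ((t.app W).hom s)
  have hunit : IsUnit (algebraMap Γ(Y, t ⁻¹ᵁ W) Γ(Y, Y.basicOpen ((t.app W).hom s))
      ((t.app W).hom g)) := by
    refine RingedSpace.isUnit_of_isUnit_germ _ (Y.basicOpen ((t.app W).hom s)) _ ?_
    intro y hy
    have h1 : IsUnit (Y.presheaf.germ (t ⁻¹ᵁ W) y (Y.basicOpen_le _ hy) ((t.app W).hom g)) :=
      (Y.mem_basicOpen _ y _).mp (hDle hy)
    convert h1 using 1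
    exact Y.presheaf.germ_res_apply (homOfLE (Y.basicOpen_le ((t.app W).hom s))) y hy _
  obtain ⟨z, hz⟩ := hunit.exists_right_inv
  obtain ⟨n, a, ha⟩ := IsLocalization.Away.surj ((t.app W).hom s) z
  have h5 : algebraMap Γ(Y, t ⁻¹ᵁ W) Γ(Y, Y.basicOpen ((t.app W).hom s))
      ((t.app W).hom g * a) = algebraMap Γ(Y, t ⁻¹ᵁ W) Γ(Y, Y.basicOpen ((t.app W).hom s))
      (((t.app W).hom s) ^ n) := by
    rw [map_mul, ← ha, ← mul_assoc, hz, one_mul, map_pow]
  obtain ⟨⟨_, k, rfl⟩, hk⟩ :=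
    (IsLocalization.eq_iff_exists (Submonoid.powers ((t.app W).hom s)) _).mp h5
  refine ⟨s ^ (k + n), ?_, ((t.app W).hom s) ^ k * a, ?_⟩
  · intro h
    exact hs (hqprime.mem_of_pow_mem _ h)
  · rw [map_pow, pow_add, ← hk]; ring

theorem exists_mul_eq_ψ {U : X.Opens} (hU : IsAffineOpen U)
    [IsNoetherianRing Γ(f.normalization, f.fromNormalization ⁻¹ᵁ U)]
    (x' : f.normalization) (hx'W : x' ∈ f.fromNormalization ⁻¹ᵁ U)
    (hx' : x' ∉ Set.range f.toNormalization.base)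
    (hht : ((hU.preimage f.fromNormalization).primeIdealOf ⟨x', hx'W⟩).asIdeal.height = 1) :
    ∃ g ∈ ((hU.preimage f.fromNormalization).primeIdealOf ⟨x', hx'W⟩).asIdeal,
      ∃ s, s ∉ ((hU.preimage f.fromNormalization).primeIdealOf ⟨x', hx'W⟩).asIdeal ∧
        ∃ c : Γ(Y, f ⁻¹ᵁ U), (ψ f U).hom g * c = (ψ f U).hom s := by
  obtain ⟨g, hg, s, hs, c, hc⟩ := exists_mul_eq f.toNormalization
    (hU.preimage f.fromNormalization) x' hx'W hx' hht
  refine ⟨g, hg, s, hs, (Y.presheaf.map (homOfLE (preimage_le f U)).op).hom c, ?_⟩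
  have hres : ∀ a, (ψ f U).hom a = (Y.presheaf.map (homOfLE (preimage_le f U)).op).hom
      ((f.toNormalization.app (f.fromNormalization ⁻¹ᵁ U)).hom a) := fun a => rfl
  rw [hres, hres, ← map_mul, hc]

theorem s9676 {X Y : Scheme.{u}} (f : Y ⟶ X)
    [LocallyOfFiniteType f] [QuasiCompact f] [QuasiSeparated f] [IsReduced Y]
    (hX : ∀ U : X.affineOpens, CAlg.IsNagata Γ(X, U))
    (x' : ↥f.normalization) (hdim : ringKrullDim (f.normalization.presheaf.stalk x') = 1)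
    (hx' : x' ∉ Set.range f.toNormalization.base) :
    ∃ _ : IsDomain (f.normalization.presheaf.stalk x'),
      IsDiscreteValuationRing (f.normalization.presheaf.stalk x') := by
  obtain ⟨U, hU, hxU, -⟩ := exists_isAffineOpen_mem_and_subset
    (x := f.fromNormalization x') (U := ⊤) trivial
  have hW : IsAffineOpen (f.fromNormalization ⁻¹ᵁ U) := hU.preimage f.fromNormalization
  have hx'W : x' ∈ f.fromNormalization ⁻¹ᵁ U := hxU
  -- Noetherianity
  haveI hNoeth : IsNoetherianRing Γ(f.normalization, f.fromNormalization ⁻¹ᵁ U) := by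
    letI := (f.app U).hom.toAlgebra
    haveI hfin : Module.Finite Γ(X, U) (integralClosure Γ(X, U) Γ(Y, f ⁻¹ᵁ U)) :=
      NormFin.finite_integralClosure_sections f U hU (hX ⟨U, hU⟩)
    haveI : IsNoetherianRing Γ(X, U) := (hX ⟨U, hU⟩).1
    haveI : IsNoetherianRing (integralClosure Γ(X, U) Γ(Y, f ⁻¹ᵁ U)) :=
      IsNoetherianRing.of_finite Γ(X, U) _
    exact isNoetherianRing_of_ringEquiv _
      (f.normalizationObjIso hU).commRingCatIsoToRingEquiv.symm
  haveI hqprime : (hW.primeIdealOf ⟨x', hx'W⟩).asIdeal.IsPrime :=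
    (hW.primeIdealOf ⟨x', hx'W⟩).isPrime
  letI := f.normalization.presheaf.algebra_section_stalk
    (⟨x', hx'W⟩ : (f.fromNormalization ⁻¹ᵁ U : f.normalization.Opens))
  haveI := hW.isLocalization_stalk ⟨x', hx'W⟩
  let e : Localization.AtPrime (hW.primeIdealOf ⟨x', hx'W⟩).asIdeal ≃ₐ[
      Γ(f.normalization, f.fromNormalization ⁻¹ᵁ U)] f.normalization.presheaf.stalk x' :=
    IsLocalization.algEquiv (hW.primeIdealOf ⟨x', hx'W⟩).asIdeal.primeCompl _ _
  have hdim' : ringKrullDim (Localization.AtPrime (hW.primeIdealOf ⟨x', hx'W⟩).asIdeal) = 1 := by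
    rw [ringKrullDim_eq_of_ringEquiv e.toRingEquiv]; exact hdim
  have hht : (hW.primeIdealOf ⟨x', hx'W⟩).asIdeal.height = 1 := by
    have h1 := IsLocalization.AtPrime.ringKrullDim_eq_height
      (hW.primeIdealOf ⟨x', hx'W⟩).asIdeal
      (Localization.AtPrime (hW.primeIdealOf ⟨x', hx'W⟩).asIdeal)
    rw [hdim'] at h1
    exact_mod_cast h1.symm
  obtain ⟨g, hg, s, hs, c, hc⟩ := exists_mul_eq_ψ f hU x' hx'W hx' hht
  letI : Algebra Γ(f.normalization, f.fromNormalization ⁻¹ᵁ U) Γ(Y, f ⁻¹ᵁ U) :=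
    (ψ f U).hom.toAlgebra
  obtain ⟨hdom, hdvr⟩ := DVRCrit.main Γ(f.normalization, f.fromNormalization ⁻¹ᵁ U)
    Γ(Y, f ⁻¹ᵁ U) (ψ_injective f hU) (fun b hb => ψ_exists_of_isIntegralElem f hU b hb)
    (hW.primeIdealOf ⟨x', hx'W⟩).asIdeal hdim' g s c hg hs hc
  haveI := hdom
  haveI := hdvr
  haveI hdom' : IsDomain (f.normalization.presheaf.stalk x') :=
    MulEquiv.isDomain (Localization.AtPrime (hW.primeIdealOf ⟨x', hx'W⟩).asIdeal)
      e.symm.toMulEquiv
  exact ⟨hdom', IsDiscreteValuationRing.RingEquivClass.isDiscreteValuationRing e⟩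

end Groth.Agent.Helper7.NormDVR
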