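import Mathlib
import Groth.Prelude.Def_EGA4b

/-!
# `m A'` is prime of height one for a normal local homomorphism out of a one-dimensional
local domain (helper7)
-/

set_option autoImplicit false
universe u

namespace Groth.Agent.Helper7.NormDimOne

open TensorProduct IsLocalRing Function

theorem isNormalRing_of_ringEquiv (R R' : Type u) [CommRing R] [CommRing R'] (e : R ≃+* R')
    (hR : EGA4.IsNormalRing R) : EGA4.IsNormalRing R' := by
  intro p hp
  let f : Localization.AtPrime (p.comap e) ≃+* Localization.AtPrime p :=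
    IsLocalization.ringEquivOfRingEquiv
      (Localization.AtPrime (p.comap e)) (Localization.AtPrime p) e (e.map_primeCompl_comap_eq p)
  obtain ⟨h1, h2⟩ := hR (p.comap e)
  have h3 : IsDomain (Localization.AtPrime p) := f.toMulEquiv.isDomain_iff.mp h1
  exact ⟨h3, IsIntegrallyClosed.of_equiv f⟩

/-- a normal local ring is a domain -/
theorem isDomain_of_isNormalRing_of_isLocalRing (T : Type u) [CommRing T] [IsLocalRing T]
    (h : EGA4.IsNormalRing T) : IsDomain T := by
  obtain ⟨h1, -⟩ := h (maximalIdeal T)
  let e : T ≃+* Localization.AtPrime (maximalIdeal T) :=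
    (IsLocalization.atUnits T (maximalIdeal T).primeCompl
      (fun x hx => IsLocalRing.notMem_maximalIdeal.mp hx)).toRingEquiv
  exact e.toMulEquiv.isDomain_iff.mpr h1

theorem main (A A' : Type u) [CommRing A] [CommRing A']
    [IsNoetherianRing A] [IsNoetherianRing A'] [IsLocalRing A] [IsLocalRing A'] [IsDomain A]
    (hA : ringKrullDim A = 1) [Algebra A A'] [IsLocalHom (algebraMap A A')] (h : EGA4.IsNormalHom A A') :
    ((IsLocalRing.maximalIdeal A).map (algebraMap A A')).IsPrime ∧
      ((IsLocalRing.maximalIdeal A).map (algebraMap A A')).height = 1 := by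
  have hflat := h.1
  set m := maximalIdeal A with hm
  set r := m.map (algebraMap A A') with hr
  have hle : r ≤ maximalIdeal A' :=
    ((IsLocalRing.local_hom_TFAE (algebraMap A A')).out 0 2).mp ‹_›
  have hne : r ≠ ⊤ := fun htop => (maximalIdeal.isMaximal A').ne_top (top_le_iff.mp (htop ▸ hle))
  -- the closed fibre is normal
  have hfibre : EGA4.IsNormalRing (m.Fiber A') :=
    isNormalRing_of_ringEquiv _ _ (Algebra.TensorProduct.lid m.ResidueField (m.Fiber A')).toRingEquiv
      (h.2 m m.ResidueField inferInstance)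
  -- the closed fibre is A'/mA'
  let e0 : (A ⧸ m) ≃ₐ[A] m.ResidueField :=
    AlgEquiv.ofBijective (IsScalarTower.toAlgHom A (A ⧸ m) m.ResidueField)
      m.bijective_algebraMap_quotient_residueField
  let e1 : (A ⧸ m) ⊗[A] A' ≃ₐ[A] m.ResidueField ⊗[A] A' :=
    Algebra.TensorProduct.congr e0 AlgEquiv.refl
  let e2 := Algebra.TensorProduct.quotIdealMapEquivQuotTensor A' m
  have hquot : EGA4.IsNormalRing (A' ⧸ r) :=
    isNormalRing_of_ringEquiv _ _ (e1.symm.toRingEquiv.trans e2.symm.toRingEquiv) hfibre
  have : Nontrivial (A' ⧸ r) := Ideal.Quotient.nontrivial_iff.mpr hne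
  have : IsLocalRing (A' ⧸ r) :=
    IsLocalRing.of_surjective' (Ideal.Quotient.mk r) Ideal.Quotient.mk_surjective
  have hdom : IsDomain (A' ⧸ r) := isDomain_of_isNormalRing_of_isLocalRing _ hquot
  have hprime : r.IsPrime := (Ideal.Quotient.isDomain_iff_prime r).mp hdom
  refine ⟨hprime, ?_⟩
  have hover : r.LiesOver m := by
    refine ⟨?_⟩
    have h1 : m ≤ r.under A := Ideal.le_comap_map
    have h2 : r.under A ≠ ⊤ := (Ideal.comap_ne_top _ hne)
    exact ((maximalIdeal.isMaximal A).eq_of_le h2 h1)
  have hgd : Algebra.HasGoingDown A A' := inferInstance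
  have hh := Ideal.height_eq_height_add_of_liesOver_of_hasGoingDown m r
  have h0 : (r.map (Ideal.Quotient.mk (m.map (algebraMap A A')))) = ⊥ := by
    rw [hr]
    exact Ideal.map_quotient_self _
  rw [h0, Ideal.height_bot, add_zero] at hh
  rw [hh]
  have h3 := IsLocalRing.maximalIdeal_height_eq_ringKrullDim (R := A)
  rw [hA] at h3
  exact_mod_cast h3

end Groth.Agent.Helper7.NormDimOne
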