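import Mathlib
import Groth.Prelude
import Groth.Agent.Lib.Helper7.NormAsc
import Groth.Agent.Lib.Helper3.SmoothRegHom

/-!
# Regular homomorphisms are normal (helper7)
-/

set_option autoImplicit false
set_option linter.style.haveILetI false
universe u

namespace Groth.Agent.Helper7.NormOfReg

open TensorProduct

theorem isNormalHom_of_isRegularHom (R S : Type u) [CommRing R] [CommRing S] [Algebra R S]
    (h : CAlg.IsRegularHom R S) : EGA4.IsNormalHom R S := by
  refine ⟨h.1, fun p _ k' _ _ hk' => ?_⟩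
  haveI := (h.2 p).2 k' hk'
  exact Groth.Agent.Helper7.NormAsc.isNormalRing_of_isRegularRing _

open AlgebraicGeometry in
theorem s1469 {X Y : Scheme.{u}} (f : X ⟶ Y) [Smooth f] (U : X.Opens) (V : Y.Opens)
    (hU : IsAffineOpen U) (hV : IsAffineOpen V) (hUV : U ≤ f ⁻¹ᵁ V) :
    letI := (f.appLE V U hUV).hom.toAlgebra
    EGA4.IsNormalHom Γ(Y, V) Γ(X, U) := by
  letI := (f.appLE V U hUV).hom.toAlgebra
  exact isNormalHom_of_isRegularHom _ _ (Groth.Agent.Helper3.SmoothRegHom.main f U V hU hV hUV)

end Groth.Agent.Helper7.NormOfReg
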