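import Mathlib
import Groth.Agent.Lib.Helper7.OnePlus
import Groth.Agent.Lib.Helper7.SepBase
import Groth.Agent.Lib.Helper5.RigPrime

/-!
# `Â` is a normal domain iff `A_{1+J}` is and `Spec A/J` is connected (helper7)
-/

set_option autoImplicit false
set_option linter.unusedSectionVars false
set_option linter.style.haveILetI false
universe u

namespace Groth.Agent.Helper7.OnePlus

open TensorProduct IsLocalRing Function

/-- a Noetherian normal ring with only trivial idempotents is a domain -/
theorem isDomain_of_isNormalRing (R : Type u) [CommRing R] [IsNoetherianRing R]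
    (hR : EGA4.IsNormalRing R) [Nontrivial R]
    (hid : ∀ e : R, IsIdempotentElem e → e = 0 ∨ e = 1) : IsDomain R := by
  classical
  have hred : IsReduced R := by
    apply isReduced_ofLocalizationMaximal
    intro Q hQ
    have := (hR Q).1
    infer_instance
  have hconn : ConnectedSpace (PrimeSpectrum R) :=
    Groth.Agent.Helper14.connectedSpace_primeSpectrum_iff.mpr ⟨inferInstance, hid⟩
  obtain ⟨m, hm⟩ := Ideal.exists_maximal R
  obtain ⟨p₀, hp₀, -⟩ := Ideal.exists_minimalPrimes_le (I := ⊥) (J := m) bot_le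
  have hp₀prime : p₀.IsPrime := hp₀.1.1
  have hfin : ((⊥ : Ideal R).minimalPrimes).Finite :=
    Ideal.finite_minimalPrimes_of_isNoetherianRing R ⊥
  have key : ∀ p ∈ (⊥ : Ideal R).minimalPrimes, ∀ p' ∈ (⊥ : Ideal R).minimalPrimes,
      ∀ q : Ideal R, q.IsPrime → p ≤ q → p' ≤ q → p = p' := by
    intro p hp p' hp' q hq hpq hp'q
    have hdom := (hR q).1
    let P : Ideal R := RingHom.ker (algebraMap R (Localization.AtPrime q))
    have hP : P.IsPrime := RingHom.ker_isPrime _
    have hPle : ∀ p'' ∈ (⊥ : Ideal R).minimalPrimes, p'' ≤ q → P ≤ p'' := by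
      intro p'' hp'' hle x hx
      have hx0 : algebraMap R (Localization.AtPrime q) x = 0 := hx
      rw [IsLocalization.map_eq_zero_iff q.primeCompl] at hx0
      obtain ⟨s, hs⟩ := hx0
      have hpr : p''.IsPrime := hp''.1.1
      have : (s : R) * x ∈ p'' := by rw [hs]; exact p''.zero_mem
      rcases hpr.mem_or_mem this with h | h
      · exact absurd (hle h) s.2
      · exact h
    have h1 : p = P := le_antisymm (hp.2 ⟨hP, bot_le⟩ (hPle p hp hpq)) (hPle p hp hpq)
    have h2 : p' = P := le_antisymm (hp'.2 ⟨hP, bot_le⟩ (hPle p' hp' hp'q)) (hPle p' hp' hp'q)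
    rw [h1, h2]
  let Z₁ : Set (PrimeSpectrum R) := PrimeSpectrum.zeroLocus (p₀ : Set R)
  let Z₂ : Set (PrimeSpectrum R) :=
    ⋃ p ∈ ((⊥ : Ideal R).minimalPrimes \ {p₀}), PrimeSpectrum.zeroLocus (p : Set R)
  have hZ₁c : IsClosed Z₁ := PrimeSpectrum.isClosed_zeroLocus _
  have hZ₂c : IsClosed Z₂ :=
    (hfin.subset Set.sdiff_subset).isClosed_biUnion (fun p _ => PrimeSpectrum.isClosed_zeroLocus _)
  have hcompl : Z₁ = Z₂ᶜ := by
    ext q
    simp only [Z₁, Z₂, PrimeSpectrum.mem_zeroLocus, Set.mem_compl_iff, Set.mem_iUnion,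
      SetLike.coe_subset_coe, not_exists]
    constructor
    · intro h p hp hpq
      exact hp.2 (key p hp.1 p₀ hp₀ q.asIdeal q.isPrime hpq h)
    · intro h
      obtain ⟨p, hp, hpq⟩ := Ideal.exists_minimalPrimes_le (I := ⊥) (J := q.asIdeal) bot_le
      by_cases hpp : p = p₀
      · rw [← hpp]; exact hpq
      · exact absurd hpq (h p ⟨hp, hpp⟩)
  have hclopen : IsClopen Z₁ := ⟨hZ₁c, by rw [hcompl]; exact hZ₂c.isOpen_compl⟩
  have hne : Z₁.Nonempty := ⟨⟨p₀, hp₀prime⟩, by
    simp only [Z₁, PrimeSpectrum.mem_zeroLocus, SetLike.coe_subset_coe]; exact le_rfl⟩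
  have huniv := hclopen.eq_univ hne
  have hle : p₀ ≤ nilradical R := by
    rw [nilradical_eq_sInf]
    refine le_sInf (fun q hq => ?_)
    have hmem : (⟨q, hq⟩ : PrimeSpectrum R) ∈ Z₁ := by rw [huniv]; trivial
    simpa only [Z₁, PrimeSpectrum.mem_zeroLocus, SetLike.coe_subset_coe] using hmem
  rw [nilradical_eq_zero] at hle
  have h0 : p₀ = ⊥ := le_bot_iff.mp hle
  have hbot : (⊥ : Ideal R).IsPrime := h0 ▸ hp₀prime
  exact IsDomain.of_bot_isPrime R

variable (A : Type u) [CommRing A] [IsNoetherianRing A] (J : Ideal A)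

theorem s19375 (hJ : J ≠ ⊤) (hf : EGA4.IsNormalHom A (AdicCompletion J A))
    (T : Submonoid A) (hT : T = MonoidHom.mker (Ideal.Quotient.mk J)) :
    (IsDomain (AdicCompletion J A) ∧ IsIntegrallyClosed (AdicCompletion J A)) ↔
      ((IsDomain (Localization T) ∧ IsIntegrallyClosed (Localization T)) ∧
        ConnectedSpace (PrimeSpectrum (A ⧸ J))) := by
  have hnorm := isNormalRing_iff A J hf T hT
  subst hT
  letI := locAlgebra A J
  haveI := locAlgebra_tower A J
  haveI := locAlgebra_flat A J
  haveI := locAlgebra_faithfullyFlat A J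
  have hJfg : J.FG := IsNoetherian.noetherian J
  have hBN : IsNoetherianRing (AdicCompletion J A) :=
    Groth.Agent.Helper1.isNoetherianRing_adicCompletion_of_fg A J hJfg
  have hcomp : IsAdicComplete (J.map (algebraMap A (AdicCompletion J A))) (AdicCompletion J A) :=
    AdicCompletion.isAdicComplete_self J hJfg
  have hker : RingHom.ker (AdicCompletion.evalOneₐ J).toRingHom =
      J.map (algebraMap A (AdicCompletion J A)) := AdicCompletion.ker_evalOneₐ_eq_map J hJfg
  have hmemker : ∀ x : AdicCompletion J A,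
      x ∈ J.map (algebraMap A (AdicCompletion J A)) ↔ AdicCompletion.evalOneₐ J x = 0 := by
    intro x
    rw [← hker, RingHom.mem_ker]
    rfl
  have hntq : Nontrivial (A ⧸ J) := Ideal.Quotient.nontrivial_iff.mpr hJ
  constructor
  · rintro ⟨hdom, hic⟩
    refine ⟨⟨Groth.Agent.Helper29.NormDesc.isDomain_of_faithfullyFlat
        (Localization (MonoidHom.mker (Ideal.Quotient.mk J))) (AdicCompletion J A),
      Groth.Agent.Helper29.NormDesc.isIntegrallyClosed_of_faithfullyFlat
        (Localization (MonoidHom.mker (Ideal.Quotient.mk J))) (AdicCompletion J A)⟩, ?_⟩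
    rw [Groth.Agent.Helper14.connectedSpace_primeSpectrum_iff]
    refine ⟨hntq, fun ē hē => ?_⟩
    obtain ⟨a₀, ha₀⟩ := AdicCompletion.evalOneₐ_surjective J ē
    have h1 : a₀ * a₀ - a₀ ∈ J.map (algebraMap A (AdicCompletion J A)) := by
      rw [hmemker, map_sub, map_mul, ha₀, hē.eq, sub_self]
    obtain ⟨e, he, hea⟩ := Groth.Agent.Helper5.RigPrime.exists_idempotent_lift
      (J.map (algebraMap A (AdicCompletion J A))) a₀ h1
    have he' : AdicCompletion.evalOneₐ J e = ē := by
      rw [hmemker, map_sub, sub_eq_zero] at hea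
      exact hea.trans ha₀
    have h2 : e * (e - 1) = 0 := by rw [mul_sub, mul_one, he, sub_self]
    rcases mul_eq_zero.mp h2 with h | h
    · left; rw [← he', h, map_zero]
    · right; rw [← he', sub_eq_zero.mp h, map_one]
  · rintro ⟨⟨hdom, hic⟩, hconn⟩
    have hLn : EGA4.IsNormalRing (Localization (MonoidHom.mker (Ideal.Quotient.mk J))) :=
      Groth.Agent.Helper7.SepBase.isNormalRing_of_isDomain_isIntegrallyClosed _
    have hBn : EGA4.IsNormalRing (AdicCompletion J A) := hnorm.mp hLn
    rw [Groth.Agent.Helper14.connectedSpace_primeSpectrum_iff] at hconn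
    obtain ⟨-, hidq⟩ := hconn
    have hntB : Nontrivial (AdicCompletion J A) := by
      refine ⟨0, 1, fun h01 => ?_⟩
      have := congrArg (AdicCompletion.evalOneₐ J) h01
      rw [map_zero, map_one] at this
      exact zero_ne_one this
    have key : ∀ x : AdicCompletion J A, IsIdempotentElem x →
        AdicCompletion.evalOneₐ J x = 0 → x = 0 := by
      intro x hx hx0
      have hxm : x ∈ J.map (algebraMap A (AdicCompletion J A)) := (hmemker x).mpr hx0
      have hjac := map_le_jacobson A J hxm
      have hu := Ideal.mem_jacobson_bot.mp hjac (-1)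
      have h0 : x * (x * (-1) + 1) = 0 := by
        have := hx.eq
        linear_combination (-1 : AdicCompletion J A) * this
      exact hu.mul_left_eq_zero.mp h0
    have hidB : ∀ e : AdicCompletion J A, IsIdempotentElem e → e = 0 ∨ e = 1 := by
      intro e he
      rcases hidq (AdicCompletion.evalOneₐ J e) (he.map _) with h | h
      · left; exact key e he h
      · right
        have := key (1 - e) he.one_sub (by rw [map_sub, map_one, h, sub_self])
        exact (sub_eq_zero.mp this).symm
    have hdomB := isDomain_of_isNormalRing (AdicCompletion J A) hBn hidB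
    refine ⟨hdomB, ?_⟩
    exact IsIntegrallyClosed.of_localization_maximal (fun p _ _ => (hBn p).2)

end Groth.Agent.Helper7.OnePlus
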