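import Mathlib
import Groth.Agent.Lib.Helper7.PIResidue

/-!
# `K ⊗ k^{perf}` is Artinian iff ... (EGA IV 4.18?) (helper7)
-/

set_option autoImplicit false
set_option linter.unusedSectionVars false
set_option linter.style.haveILetI false
universe u

namespace Groth.Agent.Helper7.PIResidue

open TensorProduct

section B

variable (k P K : Type u) [Field k] [Field P] [Field K] [Algebra k P] [Algebra k K]
  [IsPurelyInseparable k P] [PerfectField P] (k' : Type u) [Field k'] [Algebra k k']
  [Algebra k' P] [IsScalarTower k k' P]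

theorem isNoetherianRing_tensor_of_finite [Module.Finite k k'] :
    IsNoetherianRing (k' ⊗[k] K) := by
  haveI : Algebra.FiniteType K (K ⊗[k] k') := inferInstance
  haveI : IsNoetherianRing (K ⊗[k] k') := Algebra.FiniteType.isNoetherianRing K _
  exact isNoetherianRing_of_ringEquiv _ (Algebra.TensorProduct.comm k K k').toRingEquiv

theorem ker_psi_fg (m : Ideal (k' ⊗[k] K)) (hm : m.FG) :
    (RingHom.ker (psi k P K k' m).toRingHom).FG := by
  have h1 : RingHom.ker (Algebra.TensorProduct.map (AlgHom.id k' P) (Ideal.Quotient.mkₐ k' m)) =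
      (RingHom.ker (Ideal.Quotient.mkₐ k' m)).map
        (Algebra.TensorProduct.includeRight : (k' ⊗[k] K) →ₐ[k'] P ⊗[k'] (k' ⊗[k] K)) :=
    Algebra.TensorProduct.lTensor_ker _ (Ideal.Quotient.mkₐ_surjective k' m)
  have h2 : (RingHom.ker
      (Algebra.TensorProduct.map (AlgHom.id k' P) (Ideal.Quotient.mkₐ k' m))).FG := by
    rw [h1]
    apply Ideal.FG.map
    have h0 : RingHom.ker (Ideal.Quotient.mkₐ k' m) = m := by
      ext x
      exact Ideal.Quotient.eq_zero_iff_mem
    rw [h0]
    exact hm
  let e := (Algebra.TensorProduct.cancelBaseChange k k' k' P K).symm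
  have h3 : RingHom.ker (psi k P K k' m).toRingHom =
      (RingHom.ker (Algebra.TensorProduct.map (AlgHom.id k' P)
        (Ideal.Quotient.mkₐ k' m))).comap e.toRingEquiv.toRingHom := by
    ext x
    rfl
  rw [h3]
  have h4 : (RingHom.ker (Algebra.TensorProduct.map (AlgHom.id k' P)
        (Ideal.Quotient.mkₐ k' m))).comap e.toRingEquiv.toRingHom =
      (RingHom.ker (Algebra.TensorProduct.map (AlgHom.id k' P)
        (Ideal.Quotient.mkₐ k' m))).map e.toRingEquiv.symm.toRingHom := by
    exact (Ideal.map_symm e.toRingEquiv).symm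
  rw [h4]
  exact Ideal.FG.map h2 _

theorem isArtinianRing_of_geomReduced [Module.Finite k k'] [IsPurelyInseparable k' P]
    [hgr : Algebra.IsGeometricallyReduced k' ((k' ⊗[k] K) ⧸ nilradical (k' ⊗[k] K))] :
    IsArtinianRing (P ⊗[k] K) := by
  haveI := isNoetherianRing_tensor_of_finite k K k'
  set N : Ideal (k' ⊗[k] K) := nilradical (k' ⊗[k] K) with hN
  have hNfg : N.FG := IsNoetherian.noetherian _
  have hker := ker_psi_fg k P K k' N hNfg
  haveI : Nontrivial (k' ⊗[k] K) :=
    Algebra.TensorProduct.nontrivial_of_algebraMap_injective_of_flat_left (R := k) k' K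
      (algebraMap k K).injective
  haveI : Nontrivial ((k' ⊗[k] K) ⧸ N) := by
    apply Ideal.Quotient.nontrivial_iff.mpr
    intro h
    have : (1 : k' ⊗[k] K) ∈ nilradical (k' ⊗[k] K) := by rw [← hN, h]; trivial
    exact not_isNilpotent_one (mem_nilradical.mp this)
  haveI : Nontrivial (P ⊗[k'] ((k' ⊗[k] K) ⧸ N)) :=
    Algebra.TensorProduct.nontrivial_of_algebraMap_injective_of_flat_left (R := k') P _
      (algebraMap k' ((k' ⊗[k] K) ⧸ N)).injective
  haveI : Algebra.IsAlgebraic k' P := inferInstance
  haveI hred : IsReduced (P ⊗[k'] ((k' ⊗[k] K) ⧸ N)) := inferInstance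
  -- every prime is the kernel of ψ
  have hprime : ∀ I : Ideal (P ⊗[k] K), I.IsPrime → I = RingHom.ker (psi k P K k' N).toRingHom := by
    intro I hI
    apply le_antisymm
    · intro x hx
      rcases isUnit_or_isNilpotent k P K x with hu | hn
      · exact absurd (I.eq_top_of_isUnit_mem hx hu) hI.ne_top
      · have : IsNilpotent ((psi k P K k' N).toRingHom x) := hn.map _
        exact this.eq_zero
    · intro x hx
      rcases isUnit_or_isNilpotent k P K x with hu | hn
      · have h0 : IsUnit ((psi k P K k' N).toRingHom x) := hu.map _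
        rw [RingHom.mem_ker.mp hx] at h0
        obtain ⟨b, hb⟩ := h0.exists_right_inv
        exact absurd ((zero_mul b).symm.trans hb) (zero_ne_one' (P ⊗[k'] ((k' ⊗[k] K) ⧸ N)))
      · obtain ⟨n, hn⟩ := hn
        exact hI.mem_of_pow_mem n (hn ▸ I.zero_mem)
  haveI : IsNoetherianRing (P ⊗[k] K) := IsNoetherianRing.of_prime fun I hI => by
    rw [hprime I hI]; exact hker
  rw [isArtinianRing_iff_isNoetherianRing_krullDimLE_zero]
  refine ⟨inferInstance, Ring.krullDimLE_zero_iff.mpr fun I hI => ?_⟩
  rw [Ideal.isMaximal_iff]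
  refine ⟨fun h => hI.ne_top ((Ideal.eq_top_iff_one _).mpr h), fun J x hIJ hx hxJ => ?_⟩
  rcases isUnit_or_isNilpotent k P K x with hu | hn
  · exact (Ideal.eq_top_iff_one _).mp (J.eq_top_of_isUnit_mem hxJ hu)
  · obtain ⟨n, hn⟩ := hn
    exact absurd (hI.mem_of_pow_mem n (hn ▸ I.zero_mem)) hx

end B

theorem s5061 (p : ℕ) [Fact p.Prime]
    (k K : Type u) [Field k] [CharP k p] [Field K] [Algebra k K]
    (P : Type u) [Field P] [Algebra k P] [PerfectRing P p] [IsPRadical (algebraMap k P) p] :
    IsArtinianRing (K ⊗[k] P) ↔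
      ∃ (k' : Type u) (_ : Field k') (_ : Algebra k k'), Module.Finite k k' ∧
        IsPurelyInseparable k k' ∧
        Algebra.IsGeometricallyReduced k' ((k' ⊗[k] K) ⧸ nilradical (k' ⊗[k] K)) := by
  haveI : ExpChar k p := ExpChar.prime Fact.out
  haveI : ExpChar P p := expChar_of_injective_algebraMap (algebraMap k P).injective p
  haveI : IsPurelyInseparable k P := (isPurelyInseparable_iff_pow_mem k p).mpr fun x => by
    obtain ⟨n, y, hy⟩ := IsPRadical.pow_mem (algebraMap k P) p x
    exact ⟨n, y, hy⟩
  haveI : PerfectField P := PerfectRing.toPerfectField P p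
  haveI : Algebra.IsAlgebraic k P := inferInstance
  constructor
  · intro hart
    haveI : IsArtinianRing (P ⊗[k] K) :=
      (Algebra.TensorProduct.comm k K P).surjective.isArtinianRing
    haveI : IsNoetherianRing (P ⊗[k] K) := inferInstance
    obtain ⟨k', i1, i2, h1, h2, h3⟩ := main'' k P K (IsNoetherian.noetherian _)
    exact ⟨k', i1, i2, h1, h2, h3 _ le_rfl⟩
  · rintro ⟨k', i1, i2, h1, h2, h3⟩
    obtain ⟨ι⟩ := exists_algHom_of_purelyInseparable k k' P
    letI : Algebra k' P := ι.toRingHom.toAlgebra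
    haveI : IsScalarTower k k' P := IsScalarTower.of_algebraMap_eq (fun c => (ι.commutes c).symm)
    haveI : IsPurelyInseparable k' P := IsPurelyInseparable.tower_top k k' P
    haveI := isArtinianRing_of_geomReduced k P K k'
    exact (Algebra.TensorProduct.comm k P K).surjective.isArtinianRing

end Groth.Agent.Helper7.PIResidue
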