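import Mathlib

set_option autoImplicit false
universe u
open DirectSum HomogeneousLocalization AlgebraicGeometry CategoryTheory

namespace Groth.Agent.Helper7.ProjIso
variable {R A : Type u} [CommRing R] [CommRing A] [Algebra R A] (𝒜 : ℕ → Submodule R A) [GradedAlgebra 𝒜]
    {B : Type u} [CommRing B] [Algebra R B] (ℬ : ℕ → Submodule R B) [GradedAlgebra ℬ]
    (φ : ℬ →+*ᵍ 𝒜)


theorem away_map_bijective (hbij : ∀ n : ℕ, 0 < n → Set.BijOn φ (ℬ n) (𝒜 n)) {i : ℕ} (hi : 0 < i) (s : B) (hs : s ∈ ℬ i) :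
    Function.Bijective (Away.map φ s) := by
  constructor
  · rw [injective_iff_map_eq_zero]
    intro z hz
    obtain ⟨n, a, ha, rfl⟩ := Away.mk_surjective ℬ hs z
    rw [Away.map_mk φ s hs] at hz
    have hz' := congrArg HomogeneousLocalization.val hz
    rw [Away.val_mk, val_zero, Localization.mk_eq_mk'] at hz'
    obtain ⟨⟨c, k, rfl⟩, hc⟩ := (IsLocalization.mk'_eq_zero_iff (M := Submonoid.powers (φ s)) _ _).mp hz'
    simp only at hc
    -- multiply by one more φ s
    have hc2 : φ (s ^ (k + 1) * a) = 0 := by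
      rw [map_mul, map_pow, pow_succ', mul_assoc, hc, mul_zero]
    have hmem : s ^ (k + 1) * a ∈ ℬ ((k + 1) • i + n • i) :=
      SetLike.mul_mem_graded (SetLike.pow_mem_graded _ hs) ha
    have hpos : 0 < (k + 1) • i + n • i := by
      have : 0 < (k + 1) * i := Nat.mul_pos (Nat.succ_pos k) hi
      simp only [smul_eq_mul]; omega
    have h0 : s ^ (k + 1) * a = 0 :=
      (hbij _ hpos).injOn hmem (Submodule.zero_mem _) (by rw [hc2, map_zero])
    apply HomogeneousLocalization.val_injective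
    rw [Away.val_mk, val_zero, Localization.mk_eq_mk']
    exact (IsLocalization.mk'_eq_zero_iff (M := Submonoid.powers s) _ _).mpr ⟨⟨s ^ (k + 1), k + 1, rfl⟩, h0⟩
  · intro z
    obtain ⟨n, b, hb, rfl⟩ := Away.mk_surjective 𝒜 (φ.map_mem hs) z
    have hmem : b * φ s ∈ 𝒜 ((n + 1) • i) := by
      have := SetLike.mul_mem_graded hb (φ.map_mem hs)
      have h2 : n • i + i = (n + 1) • i := by simp [add_mul]
      rwa [h2] at this
    have hpos : 0 < (n + 1) • i := Nat.mul_pos (Nat.succ_pos n) hi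
    obtain ⟨a, ha, hab⟩ := (hbij _ hpos).surjOn hmem
    refine ⟨Away.mk ℬ hs (n + 1) a ha, ?_⟩
    rw [Away.map_mk φ s hs]
    apply HomogeneousLocalization.val_injective
    rw [Away.val_mk, Away.val_mk, Localization.mk_eq_mk_iff, Localization.r_iff_exists]
    refine ⟨1, ?_⟩
    simp only [OneMemClass.coe_one, one_mul]
    rw [hab, pow_succ]
    change φ s ^ n * (b * φ s) = φ s ^ n * φ s * b
    ring

theorem isIso_restrict (hφ : HomogeneousIdeal.irrelevant 𝒜 ≤ (HomogeneousIdeal.irrelevant ℬ).map φ)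
    {i : ℕ} (hi : 0 < i) (s : B) (hs : s ∈ ℬ i)
    (h : Function.Bijective (Away.map φ s)) :
    IsIso (Proj.map φ hφ ∣_ Proj.basicOpen ℬ s) := by
  have hiso : IsIso (Spec.map (CommRingCat.ofHom (Away.map φ s))) := by
    have : IsIso (CommRingCat.ofHom (Away.map φ s)) :=
      (ConcreteCategory.isIso_iff_bijective _).mpr h
    infer_instance
  have key : (Proj.basicOpenIsoSpec 𝒜 (φ s) (φ.map_mem hs) hi).inv ≫
      (Proj.map φ hφ ∣_ Proj.basicOpen ℬ s) =
      Spec.map (CommRingCat.ofHom (Away.map φ s)) ≫ (Proj.basicOpenIsoSpec ℬ s hs hi).inv := by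
    rw [← cancel_mono (Proj.basicOpen ℬ s).ι]
    simp only [Category.assoc]
    have h2 := morphismRestrict_ι (Proj.map φ hφ) (Proj.basicOpen ℬ s)
    have := Proj.awayι_comp_map φ hφ hi s hs
    simp only [Proj.awayι, Category.assoc] at this
    exact (congrArg (fun t => (Proj.basicOpenIsoSpec 𝒜 (φ s) (φ.map_mem hs) hi).inv ≫ t) h2).trans this
  have h3 : IsIso (Spec.map (CommRingCat.ofHom (Away.map φ s)) ≫ (Proj.basicOpenIsoSpec ℬ s hs hi).inv) :=
    inferInstance
  exact IsIso.of_isIso_fac_left key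

theorem iSup_basicOpen_pos : ⨆ s : (Σ i : PNat, ℬ i), Proj.basicOpen ℬ (s.2 : B) = ⊤ := by
  have := (Proj.affineOpenCover ℬ).openCover.iSup_opensRange
  rw [← this]
  congr 1
  ext1 s
  exact (Proj.opensRange_awayι ℬ _ s.2.2 s.1.2).symm

theorem isIso_map (hbij : ∀ n : ℕ, 0 < n → Set.BijOn φ (ℬ n) (𝒜 n))
    (hφ : HomogeneousIdeal.irrelevant 𝒜 ≤ (HomogeneousIdeal.irrelevant ℬ).map φ) :
    IsIso (Proj.map φ hφ) := by
  change MorphismProperty.isomorphisms Scheme (Proj.map φ hφ)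
  refine IsZariskiLocalAtTarget.of_iSup_eq_top (P := MorphismProperty.isomorphisms Scheme)
    (fun s : (Σ i : PNat, ℬ i) => Proj.basicOpen ℬ (s.2 : B)) (iSup_basicOpen_pos ℬ) fun s => ?_
  exact isIso_restrict 𝒜 ℬ φ hφ s.1.2 _ s.2.2 (away_map_bijective 𝒜 ℬ φ hbij s.1.2 _ s.2.2)

end Groth.Agent.Helper7.ProjIso
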