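import Mathlib
import Groth.Agent.Lib.Helper17.AA1
import Groth.Agent.Lib.Helper7.FinQuotA
import Groth.Agent.Lib.Helper12.Git61B

/-!
# Maps to affine schemes through Γ-isomorphisms; Künneth for morphisms (helper7)
-/

set_option autoImplicit false
set_option linter.style.haveILetI false
universe u
open CategoryTheory CategoryTheory.Limits MonoidalCategory CartesianMonoidalCategory MonObj
  AlgebraicGeometry

namespace Groth.Agent.Helper7.QAff

/-- uniqueness of maps to an affine scheme through a morphism which is an iso on global sections -/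
theorem eq_of_comp_eq {A B V : Scheme.{u}} [IsAffine V] (g : A ⟶ B) [IsIso g.appTop]
    (r r' : B ⟶ V) (h : g ≫ r = g ≫ r') : r = r' := by
  apply ext_of_isAffine
  have := congrArg Scheme.Hom.appTop h
  rw [Scheme.Hom.comp_appTop, Scheme.Hom.comp_appTop] at this
  exact (cancel_mono g.appTop).mp this

variable {k : Type u} [Field k]

theorem exists_ext {A B Z : Over (Spec (CommRingCat.of k))} [IsAffine Z.left] (g : A ⟶ B)
    [IsIso g.left.appTop] (φ : A ⟶ Z) : ∃ ψ : B ⟶ Z, g ≫ ψ = φ := by
  obtain ⟨r, hr⟩ := Groth.Agent.Helper12.Git61.exists_factor_affine g.left φ.left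
  have hw : r ≫ Z.hom = B.hom := by
    apply eq_of_comp_eq g.left
    rw [← Category.assoc, hr, Over.w, Over.w]
  refine ⟨Over.homMk r hw, ?_⟩
  apply Over.OverMorphism.ext
  exact hr

theorem ext_unique {A B Z : Over (Spec (CommRingCat.of k))} [IsAffine Z.left] (g : A ⟶ B)
    [IsIso g.left.appTop] (ψ ψ' : B ⟶ Z) (h : g ≫ ψ = g ≫ ψ') : ψ = ψ' := by
  apply Over.OverMorphism.ext
  apply eq_of_comp_eq g.left
  have := congrArg (fun m => m.left) h
  simpa using this

/-- Künneth for morphisms: the product of two Γ-isomorphisms of qcqs schemes over a field is a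
Γ-isomorphism. -/
theorem isIso_appTop_tensorHom {A A' B B' : Over (Spec (CommRingCat.of k))}
    [CompactSpace A.left] [QuasiSeparatedSpace A.left]
    [CompactSpace A'.left] [QuasiSeparatedSpace A'.left]
    [CompactSpace B.left] [QuasiSeparatedSpace B.left]
    [CompactSpace B'.left] [QuasiSeparatedSpace B'.left]
    (a : A ⟶ A') (b : B ⟶ B') [IsIso a.left.appTop] [IsIso b.left.appTop] :
    IsIso (a ⊗ₘ b).left.appTop := by
  have H : IsPullback (fst A B).left (snd A B).left A.hom B.hom :=
    (Groth.Agent.Helper7.ThirdIso.isPullback_fst_snd_toUnit A B).map (Over.forget _)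
  have H' : IsPullback (fst A' B').left (snd A' B').left A'.hom B'.hom :=
    (Groth.Agent.Helper7.ThirdIso.isPullback_fst_snd_toUnit A' B').map (Over.forget _)
  have P := Groth.Agent.Helper17.AA1.isPushout_appTop_of_field k H
  have P' := Groth.Agent.Helper17.AA1.isPushout_appTop_of_field k H'
  have ha : A'.hom.appTop ≫ a.left.appTop = A.hom.appTop := by
    rw [← Scheme.Hom.comp_appTop, Over.w]
  have hb : B'.hom.appTop ≫ b.left.appTop = B.hom.appTop := by
    rw [← Scheme.Hom.comp_appTop, Over.w]
  have h1 : (fst A' B').left.appTop ≫ (a ⊗ₘ b).left.appTop =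
      a.left.appTop ≫ (fst A B).left.appTop := by
    rw [← Scheme.Hom.comp_appTop, ← Scheme.Hom.comp_appTop, ← Over.comp_left, ← Over.comp_left,
      tensorHom_fst]
  have h2 : (snd A' B').left.appTop ≫ (a ⊗ₘ b).left.appTop =
      b.left.appTop ≫ (snd A B).left.appTop := by
    rw [← Scheme.Hom.comp_appTop, ← Scheme.Hom.comp_appTop, ← Over.comp_left, ← Over.comp_left,
      tensorHom_snd]
  have w : A.hom.appTop ≫ inv a.left.appTop ≫ (fst A' B').left.appTop =
      B.hom.appTop ≫ inv b.left.appTop ≫ (snd A' B').left.appTop := by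
    rw [← ha, ← hb, Category.assoc, Category.assoc, IsIso.hom_inv_id_assoc,
      IsIso.hom_inv_id_assoc, P'.w]
  refine ⟨P.desc _ _ w, ?_, ?_⟩
  · apply P'.hom_ext
    · rw [← Category.assoc, h1, Category.assoc, P.inl_desc, IsIso.hom_inv_id_assoc,
        Category.comp_id]
    · rw [← Category.assoc, h2, Category.assoc, P.inr_desc, IsIso.hom_inv_id_assoc,
        Category.comp_id]
  · apply P.hom_ext
    · rw [← Category.assoc, P.inl_desc, Category.assoc, h1, IsIso.inv_hom_id_assoc,
        Category.comp_id]
    · rw [← Category.assoc, P.inr_desc, Category.assoc, h2, IsIso.inv_hom_id_assoc,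
        Category.comp_id]

end Groth.Agent.Helper7.QAff
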