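import Mathlib
import Groth.Agent.Lib.Helper7.QAffA

/-!
# A group scheme which is dense open in its affinization is affine (helper7)
-/

set_option autoImplicit false
set_option linter.style.haveILetI false
universe u
open CategoryTheory CategoryTheory.Limits MonoidalCategory CartesianMonoidalCategory MonObj
  AlgebraicGeometry

namespace Groth.Agent.Helper7.QAff

variable {k : Type u} [Field k]

theorem whiskerLeft_inv_mul (G : Over (Spec (CommRingCat.of k))) [GrpObj G] :
    (G ◁ ι[G]) ≫ μ[G] = fst G G * (snd G G)⁻¹ := by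
  rw [Hom.mul_def, Hom.inv_def]
  congr 1

theorem surjective_of_dense_open_affinization
    (G G' : Over (Spec (CommRingCat.of k))) [GrpObj G]
    [CompactSpace G.left] [QuasiSeparatedSpace G.left] [IsAffine G'.left]
    (j : G ⟶ G') [IsOpenImmersion j.left] [IsIso j.left.appTop]
    (hd : DenseRange j.left.base) : Function.Surjective j.left.base := by
  haveI : IsIso (j ⊗ₘ j).left.appTop := isIso_appTop_tensorHom j j
  obtain ⟨m', hm'⟩ := exists_ext (j ⊗ₘ j) (μ[G] ≫ j)
  obtain ⟨ν', hν'⟩ := exists_ext (j ⊗ₘ j) ((fst G G * (snd G G)⁻¹) ≫ j)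
  have I1 : lift ν' (snd G' G') ≫ m' = fst G' G' := by
    apply ext_unique (j ⊗ₘ j)
    have e1 : (j ⊗ₘ j) ≫ lift ν' (snd G' G') =
        lift (fst G G * (snd G G)⁻¹) (snd G G) ≫ (j ⊗ₘ j) := by
      apply CartesianMonoidalCategory.hom_ext
      · rw [Category.assoc, lift_fst, hν', Category.assoc, tensorHom_fst, ← Category.assoc,
          lift_fst]
      · rw [Category.assoc, lift_snd, tensorHom_snd, Category.assoc, tensorHom_snd,
          ← Category.assoc, lift_snd]
    have e2 : lift (fst G G * (snd G G)⁻¹) (snd G G) ≫ μ[G] = fst G G := by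
      rw [← Hom.mul_def, inv_mul_cancel_right]
    rw [← Category.assoc, e1, Category.assoc, hm', ← Category.assoc, e2, tensorHom_fst]
  have I2 : lift (𝟙 G') (𝟙 G') ≫ ν' = toUnit G' ≫ η[G] ≫ j := by
    apply ext_unique j
    have e1 : j ≫ lift (𝟙 G') (𝟙 G') = lift (𝟙 G) (𝟙 G) ≫ (j ⊗ₘ j) := by
      apply CartesianMonoidalCategory.hom_ext <;> simp
    have e2 : lift (𝟙 G) (𝟙 G) ≫ (fst G G * (snd G G)⁻¹) = toUnit G ≫ η[G] := by
      rw [MonObj.comp_mul, GrpObj.comp_inv, lift_fst, lift_snd, mul_inv_cancel, Hom.one_def]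
    rw [← Category.assoc, e1, Category.assoc, hν', ← Category.assoc, e2, ← Category.assoc,
      ← Category.assoc, toUnit_unique (j ≫ toUnit G') (toUnit G)]
  intro x
  set R : Set ↥(G' ⊗ G').left := ν'.left.base ⁻¹' Set.range j.left.base with hR
  have hRo : IsOpen R := j.left.isOpenEmbedding.isOpen_range.preimage ν'.left.continuous
  set d := (lift (𝟙 G') (𝟙 G')).left.base x with hd'
  have hd1 : (fst G' G').left.base d = x := by
    show (lift (𝟙 G') (𝟙 G') ≫ fst G' G').left.base x = x
    rw [lift_fst]; rfl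
  have hd2 : d ∈ R := by
    show (lift (𝟙 G') (𝟙 G') ≫ ν').left.base x ∈ Set.range j.left.base
    rw [I2]
    exact ⟨(toUnit G' ≫ η[G]).left.base x, rfl⟩
  have hO := Groth.Agent.Helper7.FinQuot.isOpen_image_snd_inter_fibre G' G' R hRo x
  have hne : ((snd G' G').left.base '' (R ∩ (fst G' G').left.base ⁻¹' {x})).Nonempty :=
    ⟨_, d, ⟨hd2, hd1⟩, rfl⟩
  obtain ⟨g₀, w, ⟨hwR, hwx⟩, hws⟩ := hd.exists_mem_open hO hne
  -- the point `w` as a morphism from the spectrum of its residue field
  let t := (G' ⊗ G').left.fromSpecResidueField w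
  have ht : ∀ p, t.base p = w := fun p => by
    have : t.base p ∈ Set.range t.base := ⟨p, rfl⟩
    rw [Scheme.range_fromSpecResidueField] at this
    exact this
  let T : Over (Spec (CommRingCat.of k)) := Over.mk (t ≫ (G' ⊗ G').hom)
  let tO : T ⟶ G' ⊗ G' := Over.homMk t rfl
  have hg : Set.range (tO ≫ snd G' G').left.base ⊆ Set.range j.left.base := by
    rintro _ ⟨p, rfl⟩
    show (snd G' G').left.base (t.base p) ∈ _
    rw [ht p, hws]
    exact ⟨g₀, rfl⟩
  have hh : Set.range (tO ≫ ν').left.base ⊆ Set.range j.left.base := by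
    rintro _ ⟨p, rfl⟩
    show ν'.left.base (t.base p) ∈ _
    rw [ht p]
    exact hwR
  let g' : T ⟶ G := Over.homMk (IsOpenImmersion.lift j.left (tO ≫ snd G' G').left hg) (by
    rw [← Over.w j, ← Category.assoc, IsOpenImmersion.lift_fac, Over.w])
  let h' : T ⟶ G := Over.homMk (IsOpenImmersion.lift j.left (tO ≫ ν').left hh) (by
    rw [← Over.w j, ← Category.assoc, IsOpenImmersion.lift_fac, Over.w])
  have hg' : g' ≫ j = tO ≫ snd G' G' := by
    apply Over.OverMorphism.ext
    exact IsOpenImmersion.lift_fac _ _ _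
  have hh' : h' ≫ j = tO ≫ ν' := by
    apply Over.OverMorphism.ext
    exact IsOpenImmersion.lift_fac _ _ _
  have key : tO ≫ fst G' G' = (lift h' g' ≫ μ[G]) ≫ j := by
    rw [← I1, ← Category.assoc, comp_lift, ← hg', ← hh', ← lift_map, Category.assoc, hm',
      Category.assoc]
  obtain ⟨p, hp⟩ : ∃ p, t.base p = w := by
    have : w ∈ Set.range t.base := by
      rw [Scheme.range_fromSpecResidueField]; rfl
    exact this
  refine ⟨(lift h' g' ≫ μ[G]).left.base p, ?_⟩
  show ((lift h' g' ≫ μ[G]) ≫ j).left.base p = x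
  rw [← key]
  show (fst G' G').left.base (t.base p) = x
  rw [hp]
  exact hwx

end Groth.Agent.Helper7.QAff
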