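import Mathlib
open AlgebraicGeometry CategoryTheory CategoryTheory.Limits
universe u
namespace Groth.Agent.Helper7

/-- If `h` is surjective and `h ≫ f` is quasi-compact then `f` is quasi-compact. -/
lemma quasiCompact_of_surjective_comp {W X Y : Scheme.{u}} (h : W ⟶ X) (f : X ⟶ Y)
    [Surjective h] [QuasiCompact (h ≫ f)] : QuasiCompact f := by
  constructor
  intro U hU hUc
  have h1 : IsCompact ((h ≫ f) ⁻¹' U) := QuasiCompact.isCompact_preimage (f := h ≫ f) U hU hUc
  have h2 : f ⁻¹' U = h '' ((h ≫ f) ⁻¹' U) := by
    ext x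
    constructor
    · intro hx
      obtain ⟨w, rfl⟩ := h.surjective x
      exact ⟨w, by simpa using hx, rfl⟩
    · rintro ⟨w, hw, rfl⟩
      simpa using hw
  rw [h2]
  exact h1.image h.continuous

instance quasiCompact_descendsAlong :
    MorphismProperty.DescendsAlong (@QuasiCompact) (@Surjective ⊓ @QuasiCompact : MorphismProperty Scheme.{u}) where
  of_isPullback {A X Y Z fst snd f g} h hf hfst := by
    have : Surjective snd := MorphismProperty.of_isPullback h hf.1
    have : QuasiCompact f := hf.2
    have : QuasiCompact fst := hfst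
    have : QuasiCompact (snd ≫ g) := by
      rw [← h.w]; infer_instance
    exact quasiCompact_of_surjective_comp snd g

lemma quasiSeparated_of_pullback_snd {X Y Y' : Scheme.{u}} (f : X ⟶ Y)
    (g : Y' ⟶ Y) [QuasiCompact g] [Surjective g] [QuasiSeparated (pullback.snd f g)] :
    QuasiSeparated f := by
  have h1 : MorphismProperty.diagonal (@QuasiCompact) (pullback.snd f g) := by
    rw [← quasiSeparated_eq_diagonal_is_quasiCompact]; infer_instance
  have h2 : MorphismProperty.diagonal (@QuasiCompact) f :=
    MorphismProperty.of_pullback_snd_of_descendsAlong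
      (Q := (@Surjective ⊓ @QuasiCompact : MorphismProperty Scheme.{u})) ⟨‹_›, ‹_›⟩ h1
  rw [quasiSeparated_eq_diagonal_is_quasiCompact]
  exact h2

end Groth.Agent.Helper7
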