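import Mathlib
import Groth.Prelude.Def_Found
import Groth.Prelude.Def_EGA4b
import Groth.Agent.Lib.Helper7.QFReg
import Groth.Agent.Lib.Helper14.FFDescent
import Groth.Agent.Lib.Lead.Hom14

/-!
# Ascent of geometric regularity of a single formal fibre along quasi-finite algebras (helper7)
-/

set_option autoImplicit false
set_option linter.style.haveILetI false
set_option linter.unusedSectionVars false

universe u

namespace Groth.Agent.Helper7.QFFib

open TensorProduct IsLocalRing Groth.Agent.Helper7.GeomRed Groth.Agent.Helper7.GeomRegFG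

/-- field-point form of "the fibre of `X → Y` at `Q` is Noetherian and geometrically regular" -/
def FibReg (X Y : Type u) [CommRing X] [CommRing Y] [Algebra X Y] (Q : Ideal X) : Prop :=
  ∀ (L : Type u) [Field L] [Algebra X L] [Algebra.EssFiniteType X L],
    RingHom.ker (algebraMap X L) = Q → IsRegularRing (L ⊗[X] Y)

section Basic

variable (X Y : Type u) [CommRing X] [CommRing Y] [Algebra X Y]

theorem fibReg_of_geomRegular (Q : Ideal X) [Q.IsPrime] [hN1 : IsNoetherianRing (Q.Fiber Y)]
    (h : CAlg.IsGeometricallyRegular Q.ResidueField (Q.Fiber Y)) : FibReg X Y Q := by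
  intro L _ _ _ hker
  subst hker
  let p := kerPrime X L
  let _ : Algebra p.ResidueField L := (kerLift X L).toAlgebra
  have ht : IsScalarTower X p.ResidueField L := IsScalarTower.of_algebraMap_eq (fun b => by
    rw [RingHom.algebraMap_toAlgebra, kerLift_algebraMap])
  let e : L ⊗[p.ResidueField] (p.ResidueField ⊗[X] Y) ≃+* L ⊗[X] Y :=
    (Algebra.TensorProduct.cancelBaseChange X p.ResidueField p.ResidueField L Y).toRingEquiv
  have hess : Algebra.EssFiniteType p.ResidueField L :=
    Algebra.EssFiniteType.of_comp X p.ResidueField L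
  have hN2 : IsNoetherianRing (L ⊗[p.ResidueField] (p.ResidueField ⊗[X] Y)) :=
    isNoetherianRing_tensor_of_essFiniteType p.ResidueField (p.ResidueField ⊗[X] Y) L
  have h1 : IsRegularRing (L ⊗[p.ResidueField] (p.ResidueField ⊗[X] Y)) :=
    isRegularRing_tensor_of_geomRegular p.ResidueField (p.ResidueField ⊗[X] Y) h L
  exact @IsRegularRing.of_ringEquiv _ _ _ _ e h1

theorem geomRegular_of_fibReg (Q : Ideal X) [Q.IsPrime] (h : FibReg X Y Q) :
    CAlg.IsGeometricallyRegular Q.ResidueField (Q.Fiber Y) := by
  intro K _ _ hK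
  let k := Q.ResidueField
  let _ : Algebra X K := ((algebraMap k K).comp (algebraMap X k)).toAlgebra
  have ht1 : IsScalarTower X k K := IsScalarTower.of_algebraMap_eq (fun a => rfl)
  let e : K ⊗[k] (k ⊗[X] Y) ≃+* K ⊗[X] Y :=
    (Algebra.TensorProduct.cancelBaseChange X k k K Y).toRingEquiv
  have h1 : Algebra.EssFiniteType X K := Algebra.EssFiniteType.comp X k K
  have hker : RingHom.ker (algebraMap X K) = Q := by
    ext x
    rw [RingHom.mem_ker, IsScalarTower.algebraMap_apply X k K,
      map_eq_zero_iff _ (algebraMap k K).injective, Ideal.algebraMap_residueField_eq_zero]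
  have h3 : IsRegularRing (K ⊗[X] Y) := h K hker
  exact @IsRegularRing.of_ringEquiv _ _ _ _ e.symm h3

/-- transport along an isomorphism of the target -/
theorem FibReg.congr {Q : Ideal X} (h : FibReg X Y Q) (Y' : Type u) [CommRing Y'] [Algebra X Y']
    (e : Y ≃ₐ[X] Y') : FibReg X Y' Q := by
  intro L _ _ _ hker
  have h1 := h L hker
  exact @IsRegularRing.of_ringEquiv _ _ _ _
    (Algebra.TensorProduct.congr (AlgEquiv.refl : L ≃ₐ[X] L) e).toRingEquiv h1

/-- localization of the target -/
theorem FibReg.localization {Q : Ideal X} (h : FibReg X Y Q) (M : Submonoid Y)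
    (Y' : Type u) [CommRing Y'] [Algebra Y Y'] [Algebra X Y'] [IsScalarTower X Y Y']
    [IsLocalization M Y'] : FibReg X Y' Q := by
  intro L _ _ _ hker
  exact Groth.Agent.Helper14.RegularLocalization.isRegularRing_tensor_localization L (h L hker)
    M Y'

/-- faithfully flat descent on the target -/
theorem FibReg.descent {Q : Ideal X} (Y' : Type u) [CommRing Y'] [Algebra Y Y'] [Algebra X Y']
    [IsScalarTower X Y Y'] [Module.FaithfullyFlat Y Y'] (h : FibReg X Y' Q) : FibReg X Y Q := by
  intro L _ _ _ hker
  exact Groth.Agent.Helper14.FFDescent.descend X Y Y' L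
    (fun Z _ => IsRegularRing Z)
    (fun Z W _ _ e h => @IsRegularRing.of_ringEquiv Z _ W _ e h)
    (fun Z W _ _ _ _ h => @Groth.Agent.Lead.Hom.isRegularRing_of_faithfullyFlat Z _ W _ _ _ h)
    (h L hker)

end Basic

section Loc

variable (X1 X2 Y : Type u) [CommRing X1] [CommRing X2] [CommRing Y] [Algebra X1 X2]
  [Algebra X2 Y] [Algebra X1 Y] [IsScalarTower X1 X2 Y] (M : Submonoid X1) [IsLocalization M X2]

include M in
/-- change of the source ring along a localization, upwards -/
theorem FibReg.of_localization (Q2 : Ideal X2)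
    (h : FibReg X1 Y (Q2.comap (algebraMap X1 X2))) : FibReg X2 Y Q2 := by
  intro L _ _ _ hker
  let _ : Algebra X1 L := ((algebraMap X2 L).comp (algebraMap X1 X2)).toAlgebra
  haveI ht1 : IsScalarTower X1 X2 L := IsScalarTower.of_algebraMap_eq (fun a => rfl)
  haveI : Algebra.EssFiniteType X1 X2 := Algebra.EssFiniteType.of_isLocalization X2 M
  haveI h1 : Algebra.EssFiniteType X1 L := Algebra.EssFiniteType.comp X1 X2 L
  have hker1 : RingHom.ker (algebraMap X1 L) = Q2.comap (algebraMap X1 X2) := by
    rw [← hker, IsScalarTower.algebraMap_eq X1 X2 L, ← RingHom.comap_ker]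
  have h3 : IsRegularRing (L ⊗[X1] Y) := h L hker1
  let e : L ⊗[X2] Y ≃ₐ[X2] L ⊗[X1] Y := IsLocalization.algebraTensorEquiv M X2 L Y
  exact @IsRegularRing.of_ringEquiv _ _ _ _ e.symm.toRingEquiv h3

include M in
/-- change of the source ring along a localization, downwards -/
theorem FibReg.to_localization (Q2 : Ideal X2) [Q2.IsPrime]
    (h : FibReg X2 Y Q2) : FibReg X1 Y (Q2.comap (algebraMap X1 X2)) := by
  intro L _ _ _ hker
  have hunit : ∀ y : M, IsUnit (algebraMap X1 L y) := by
    intro y
    rw [isUnit_iff_ne_zero, Ne, ← RingHom.mem_ker, hker, Ideal.mem_comap]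
    intro hy
    exact (Ideal.IsPrime.ne_top inferInstance)
      (Ideal.eq_top_of_isUnit_mem _ hy (IsLocalization.map_units X2 y))
  let _ : Algebra X2 L := (IsLocalization.lift hunit).toAlgebra
  haveI ht1 : IsScalarTower X1 X2 L := IsScalarTower.of_algebraMap_eq (fun a => by
    rw [RingHom.algebraMap_toAlgebra, IsLocalization.lift_eq])
  haveI h1 : Algebra.EssFiniteType X2 L := Algebra.EssFiniteType.of_comp X1 X2 L
  have hker2 : RingHom.ker (algebraMap X2 L) = Q2 := by
    have hc : (RingHom.ker (algebraMap X2 L)).comap (algebraMap X1 X2) =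
        Q2.comap (algebraMap X1 X2) := by
      rw [← hker, IsScalarTower.algebraMap_eq X1 X2 L, ← RingHom.comap_ker]
    have e1 := IsLocalization.map_under M X2 (RingHom.ker (algebraMap X2 L))
    have e2 := IsLocalization.map_under M X2 Q2
    rw [← e1, ← e2]
    exact congrArg (Ideal.map (algebraMap X1 X2)) hc
  have h3 : IsRegularRing (L ⊗[X2] Y) := h L hker2
  let e : L ⊗[X2] Y ≃ₐ[X2] L ⊗[X1] Y := IsLocalization.algebraTensorEquiv M X2 L Y
  exact @IsRegularRing.of_ringEquiv _ _ _ _ e.toRingEquiv h3

end Loc

section BaseChange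

variable (R S Y : Type u) [CommRing R] [CommRing S] [CommRing Y] [Algebra R S] [Algebra R Y]
  [Algebra.EssFiniteType R S]

/-- base change of the source ring -/
theorem FibReg.baseChange (n : Ideal S) (h : FibReg R Y (n.comap (algebraMap R S))) :
    FibReg S (S ⊗[R] Y) n := by
  intro L _ _ _ hker
  let _ : Algebra R L := ((algebraMap S L).comp (algebraMap R S)).toAlgebra
  haveI ht1 : IsScalarTower R S L := IsScalarTower.of_algebraMap_eq (fun a => rfl)
  haveI h1 : Algebra.EssFiniteType R L := Algebra.EssFiniteType.comp R S L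
  have hker1 : RingHom.ker (algebraMap R L) = n.comap (algebraMap R S) := by
    rw [← hker, IsScalarTower.algebraMap_eq R S L, ← RingHom.comap_ker]
  have h3 : IsRegularRing (L ⊗[R] Y) := h L hker1
  let e : L ⊗[S] (S ⊗[R] Y) ≃ₐ[S] L ⊗[R] Y := Algebra.TensorProduct.cancelBaseChange R S S L Y
  exact @IsRegularRing.of_ringEquiv _ _ _ _ e.symm.toRingEquiv h3

end BaseChange

section ToLocal

variable (A A' : Type u) [CommRing A] [CommRing A'] [IsNoetherianRing A] [IsNoetherianRing A']
  [IsLocalRing A] [IsLocalRing A'] [Algebra A A'] [IsLocalHom (algebraMap A A')] [Module.Flat A A']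

/-- fibrewise descent of regularity of formal fibres along a flat local homomorphism -/
theorem FibReg.cpl_of_to_local (Q : Ideal A) (h : FibReg A (EGA4.Cpl A') Q) :
    FibReg A (EGA4.Cpl A) Q := by
  obtain ⟨alg, htower, hff⟩ := Groth.Agent.Helper7.CplFlat.exists_cplAlgebra A A'
  letI := alg
  exact FibReg.descent A (EGA4.Cpl A) (EGA4.Cpl A') h

end ToLocal

section Equiv

/-- transport of regularity of a formal fibre along an isomorphism of local rings -/
theorem FibReg.cpl_of_ringEquiv {X1 X2 : Type u} [CommRing X1] [CommRing X2] [IsLocalRing X1]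
    [IsLocalRing X2] [IsNoetherianRing X1] [IsNoetherianRing X2] (e : X1 ≃+* X2)
    (Q2 : Ideal X2) [Q2.IsPrime] (h : FibReg X2 (EGA4.Cpl X2) Q2) :
    FibReg X1 (EGA4.Cpl X1) (Q2.comap e.toRingHom) := by
  letI : Algebra X1 X2 := e.toRingHom.toAlgebra
  have hbij : Function.Bijective (algebraMap X1 X2) := e.bijective
  haveI : IsLocalHom (algebraMap X1 X2) := by
    constructor
    intro a ha
    have : IsUnit (e a) := ha
    exact (isUnit_map_iff e a).mp this
  haveI : IsLocalization (⊥ : Submonoid X1) X1 := IsLocalization.self bot_le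
  haveI : IsLocalization (⊥ : Submonoid X1) X2 :=
    IsLocalization.isLocalization_of_algEquiv ⊥
      (AlgEquiv.ofBijective (Algebra.ofId X1 X2) hbij)
  haveI : Module.Flat X1 X2 := IsLocalization.flat X2 (⊥ : Submonoid X1)
  have h1 : FibReg X1 (EGA4.Cpl X2) (Q2.comap (algebraMap X1 X2)) :=
    FibReg.to_localization X1 X2 (EGA4.Cpl X2) ⊥ Q2 h
  exact FibReg.cpl_of_to_local X1 X2 _ h1

end Equiv

section Fin2

variable (S T : Type u) [CommRing S] [CommRing T] [IsNoetherianRing S] [IsNoetherianRing T]
  [Algebra S T] [Module.Flat S T]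

/-- a complete local target: pass to its completion -/
theorem FibReg.cpl_of_complete (X Y : Type u) [CommRing X] [CommRing Y] [Algebra X Y]
    [IsLocalRing Y] [IsAdicComplete (maximalIdeal Y) Y] {Q : Ideal X} (h : FibReg X Y Q) :
    FibReg X (EGA4.Cpl Y) Q := by
  have hbij : Function.Bijective (algebraMap Y (EGA4.Cpl Y)) :=
    (AdicCompletion.ofAlgEquiv (maximalIdeal Y)).bijective
  exact h.congr X Y (EGA4.Cpl Y)
    (AlgEquiv.ofBijective (IsScalarTower.toAlgHom X Y (EGA4.Cpl Y)) hbij)

theorem fibReg_cpl_of_complete_over (N : Ideal T) [N.IsPrime] (n : Ideal S) [n.IsPrime]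
    (hn : n = N.comap (algebraMap S T))
    [IsAdicComplete (maximalIdeal (Localization.AtPrime N)) (Localization.AtPrime N)]
    (Q1 : Ideal (Localization.AtPrime n)) [Q1.IsPrime]
    (h : FibReg S T (Q1.comap (algebraMap S (Localization.AtPrime n)))) :
    FibReg (Localization.AtPrime n) (EGA4.Cpl (Localization.AtPrime n)) Q1 := by
  have s4 : FibReg S (Localization.AtPrime N) (Q1.comap (algebraMap S (Localization.AtPrime n))) :=
    h.localization S T N.primeCompl (Localization.AtPrime N)
  have s5 : FibReg S (EGA4.Cpl (Localization.AtPrime N))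
      (Q1.comap (algebraMap S (Localization.AtPrime n))) :=
    s4.cpl_of_complete S (Localization.AtPrime N)
  letI := (Localization.localRingHom n N (algebraMap S T) hn).toAlgebra
  haveI hST : IsScalarTower S (Localization.AtPrime n) (Localization.AtPrime N) :=
    .of_algebraMap_eq fun x ↦ (Localization.localRingHom_to_map _ _ _ hn x).symm
  haveI : IsLocalHom (algebraMap (Localization.AtPrime n) (Localization.AtPrime N)) :=
    Localization.isLocalHom_localRingHom n N (algebraMap S T) hn
  haveI : Module.Flat (Localization.AtPrime n) (Localization.AtPrime N) := by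
    have hf : (algebraMap S T).Flat := RingHom.flat_algebraMap_iff.mpr inferInstance
    exact RingHom.flat_algebraMap_iff.mp (hf.localRingHom N n hn)
  haveI : IsScalarTower S (Localization.AtPrime n) (EGA4.Cpl (Localization.AtPrime N)) := by
    refine IsScalarTower.of_algebraMap_eq (fun x => ?_)
    rw [IsScalarTower.algebraMap_apply S (Localization.AtPrime N)
        (EGA4.Cpl (Localization.AtPrime N)),
      IsScalarTower.algebraMap_apply (Localization.AtPrime n) (Localization.AtPrime N)
        (EGA4.Cpl (Localization.AtPrime N)),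
      ← IsScalarTower.algebraMap_apply S (Localization.AtPrime n) (Localization.AtPrime N)]
  have s6 : FibReg (Localization.AtPrime n) (EGA4.Cpl (Localization.AtPrime N)) Q1 :=
    FibReg.of_localization S (Localization.AtPrime n) (EGA4.Cpl (Localization.AtPrime N))
      n.primeCompl Q1 s5
  exact FibReg.cpl_of_to_local (Localization.AtPrime n) (Localization.AtPrime N) Q1 s6

end Fin2

section Finite

variable (R S : Type u) [CommRing R] [CommRing S] [IsNoetherianRing R] [Algebra R S]
  [Module.Finite R S] [IsNoetherianRing S]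
  (n : Ideal S) [n.IsPrime] (p : Ideal R) [p.IsPrime] (hp : p = n.comap (algebraMap R S))

include hp in
/-- **finite case, single fibre** -/
theorem fibReg_cpl_of_finite
    (Q : Ideal (Localization.AtPrime p)) [Q.IsPrime]
    (Q1 : Ideal (Localization.AtPrime n)) [Q1.IsPrime]
    (hQ : Q.comap (algebraMap R (Localization.AtPrime p)) =
      Q1.comap (algebraMap R (Localization.AtPrime n)))
    (h : CAlg.IsGeometricallyRegular Q.ResidueField (EGA4.formalFibre (Localization.AtPrime p) Q)) :
    FibReg (Localization.AtPrime n) (EGA4.Cpl (Localization.AtPrime n)) Q1 := by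
  let A := Localization.AtPrime p
  let Ah := EGA4.Cpl A
  let T := S ⊗[R] Ah
  haveI hNAh : IsNoetherianRing Ah :=
    Groth.Agent.Helper1.isNoetherianRing_adicCompletion_of_fg A (maximalIdeal A)
      (IsNoetherian.noetherian _)
  haveI : IsNoetherianRing (Q.Fiber Ah) := Groth.Agent.Lead.Fib.isNoetherianRing_fiber Q
  have s1 : FibReg A Ah Q := fibReg_of_geomRegular A Ah Q h
  have s2 : FibReg R Ah (Q.comap (algebraMap R A)) :=
    FibReg.to_localization R A Ah p.primeCompl Q s1
  let n' : Ideal S := Q1.comap (algebraMap S (Localization.AtPrime n))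
  have hn' : n'.comap (algebraMap R S) = Q.comap (algebraMap R A) := by
    rw [hQ]
    show (Q1.comap (algebraMap S (Localization.AtPrime n))).comap (algebraMap R S) = _
    rw [Ideal.comap_comap, ← IsScalarTower.algebraMap_eq]
  have s3 : FibReg S T n' := FibReg.baseChange R S Ah n' (by rw [hn']; exact s2)
  letI : Algebra Ah T := Algebra.TensorProduct.rightAlgebra
  haveI : Module.Finite Ah T :=
    Module.Finite.equiv (Algebra.TensorProduct.commRight R Ah S).toLinearEquiv
  haveI : IsNoetherianRing T := IsNoetherianRing.of_finite Ah T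
  obtain ⟨N, hNmax, hNn⟩ := Groth.Agent.Helper7.QFReg.exists_maximal_over R S n p hp
  haveI := hNmax
  haveI hcompl := Groth.Agent.Helper7.QFReg.isAdicComplete_localization_of_finite Ah T N
  haveI : Module.Flat A Ah := AdicCompletion.flat_of_isNoetherian _
  haveI : Module.Flat R Ah := Module.Flat.trans R A Ah
  haveI : Module.Flat S T := inferInstance
  exact fibReg_cpl_of_complete_over S T N n hNn.symm Q1 s3

end Finite

section Main

theorem exists_algEquiv_atPrime (A B : Type u) [CommRing A] [CommRing B] [Algebra A B]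
    (M : Submonoid A) [IsLocalization M B] (q : Ideal B) [q.IsPrime] (p : Ideal A) [p.IsPrime]
    (hp : q.comap (algebraMap A B) = p) :
    Nonempty (Localization.AtPrime p ≃ₐ[A] Localization.AtPrime q) := by
  subst hp
  haveI : IsLocalization.AtPrime (Localization.AtPrime q) (q.comap (algebraMap A B)) :=
    IsLocalization.isLocalization_isLocalization_atPrime_isLocalization M
      (Localization.AtPrime q) q
  exact ⟨IsLocalization.algEquiv (q.comap (algebraMap A B)).primeCompl _ _⟩

/-- the reduction step with an abstract finite algebra `S` -/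
theorem s9290_aux (R R' S : Type u) [CommRing R] [CommRing R'] [CommRing S]
    [IsNoetherianRing R] [IsNoetherianRing R'] [Algebra R R'] [Algebra R S] [Algebra S R']
    [IsScalarTower R S R'] [Module.Finite R S]
    (r : S) (p' : Ideal R') [p'.IsPrime] (hrp : algebraMap S R' r ∉ p')
    [IsLocalization (Submonoid.powers r) (Localization.Away (algebraMap S R' r))]
    (Q' : Ideal (Localization.AtPrime p')) [Q'.IsPrime]
    (Q : Ideal (Localization.AtPrime (Ideal.comap (algebraMap R R') p'))) [Q.IsPrime]
    (hQ : Ideal.comap (algebraMap R (Localization.AtPrime (Ideal.comap (algebraMap R R') p'))) Q =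
      Ideal.comap (algebraMap R (Localization.AtPrime p')) Q')
    (h : CAlg.IsGeometricallyRegular Q.ResidueField
      (EGA4.formalFibre (Localization.AtPrime (Ideal.comap (algebraMap R R') p')) Q)) :
    FibReg (Localization.AtPrime p') (EGA4.Cpl (Localization.AtPrime p')) Q' := by
  haveI : IsNoetherianRing S := IsNoetherianRing.of_finite R S
  let B1 := Localization.Away (algebraMap S R' r)
  have hdisj : Disjoint (Submonoid.powers (algebraMap S R' r) : Set R') (p' : Set R') := by
    rw [Set.disjoint_left]
    rintro x ⟨k, rfl⟩ hx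
    exact hrp (Ideal.IsPrime.mem_of_pow_mem inferInstance k hx)
  let q : Ideal B1 := p'.map (algebraMap R' B1)
  haveI : q.IsPrime := IsLocalization.isPrime_of_isPrime_disjoint
    (Submonoid.powers (algebraMap S R' r)) B1 p' inferInstance hdisj
  have hq : q.comap (algebraMap R' B1) = p' :=
    IsLocalization.under_map_of_isPrime_disjoint (Submonoid.powers (algebraMap S R' r)) B1
      inferInstance hdisj
  let n : Ideal S := q.comap (algebraMap S B1)
  have hn : n.comap (algebraMap R S) = Ideal.comap (algebraMap R R') p' := by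
    show (q.comap (algebraMap S B1)).comap (algebraMap R S) = _
    rw [IsScalarTower.algebraMap_eq S R' B1, ← Ideal.comap_comap, hq, Ideal.comap_comap,
      ← IsScalarTower.algebraMap_eq]
  obtain ⟨e1⟩ := exists_algEquiv_atPrime S B1 (Submonoid.powers r) q n rfl
  obtain ⟨e2⟩ := exists_algEquiv_atPrime R' B1 (Submonoid.powers (algebraMap S R' r)) q p' hq
  let Qq : Ideal (Localization.AtPrime q) := Q'.comap e2.symm.toRingEquiv.toRingHom
  haveI : Qq.IsPrime := Ideal.comap_isPrime _ _
  let Q1 : Ideal (Localization.AtPrime n) := Qq.comap e1.toRingEquiv.toRingHom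
  haveI : Q1.IsPrime := Ideal.comap_isPrime _ _
  have hQ1 : Q.comap (algebraMap R (Localization.AtPrime (Ideal.comap (algebraMap R R') p'))) =
      Q1.comap (algebraMap R (Localization.AtPrime n)) := by
    rw [hQ]
    ext x
    simp only [Ideal.mem_comap, Q1, Qq]
    have h1 : e1.toRingEquiv.toRingHom (algebraMap R (Localization.AtPrime n) x) =
        algebraMap R' (Localization.AtPrime q) (algebraMap R R' x) := by
      rw [IsScalarTower.algebraMap_apply R S (Localization.AtPrime n)]
      show e1 (algebraMap S (Localization.AtPrime n) (algebraMap R S x)) = _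
      rw [e1.commutes, IsScalarTower.algebraMap_apply R S R',
        ← IsScalarTower.algebraMap_apply S R' (Localization.AtPrime q)]
    rw [h1]
    show _ ↔ e2.symm (algebraMap R' (Localization.AtPrime q) (algebraMap R R' x)) ∈ Q'
    rw [e2.symm.commutes, ← IsScalarTower.algebraMap_apply R R' (Localization.AtPrime p')]
  have k1 : FibReg (Localization.AtPrime n) (EGA4.Cpl (Localization.AtPrime n)) Q1 :=
    fibReg_cpl_of_finite R S n _ hn.symm Q Q1 hQ1 h
  have k2 := FibReg.cpl_of_ringEquiv e1.symm.toRingEquiv Q1 k1
  have hk2 : Q1.comap e1.symm.toRingEquiv.toRingHom = Qq := by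
    ext x
    simp only [Ideal.mem_comap, Q1]
    show e1.toRingEquiv.toRingHom (e1.symm x) ∈ Qq ↔ _
    have : e1.toRingEquiv.toRingHom (e1.symm x) = x := e1.apply_symm_apply x
    rw [this]
  rw [hk2] at k2
  have k3 := FibReg.cpl_of_ringEquiv e2.toRingEquiv Qq k2
  have hk3 : Qq.comap e2.toRingEquiv.toRingHom = Q' := by
    ext x
    simp only [Ideal.mem_comap, Qq]
    show e2.symm.toRingEquiv.toRingHom (e2 x) ∈ Q' ↔ _
    have : e2.symm.toRingEquiv.toRingHom (e2 x) = x := e2.symm_apply_apply x
    rw [this]
  rw [hk3] at k3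
  exact k3

/-- **S9290** -/
theorem s9290 (R R' : Type u) [CommRing R] [CommRing R']
    [IsNoetherianRing R] [IsNoetherianRing R'] [Algebra R R'] [Algebra.FiniteType R R']
    (p' : Ideal R') [p'.IsPrime] [Algebra.QuasiFiniteAt R p']
    (Q' : Ideal (Localization.AtPrime p')) [Q'.IsPrime]
    (Q : Ideal (Localization.AtPrime (Ideal.comap (algebraMap R R') p'))) [Q.IsPrime]
    (hQ : Ideal.comap (algebraMap R (Localization.AtPrime (Ideal.comap (algebraMap R R') p'))) Q =
      Ideal.comap (algebraMap R (Localization.AtPrime p')) Q')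
    (h : CAlg.IsGeometricallyRegular Q.ResidueField
      (EGA4.formalFibre (Localization.AtPrime (Ideal.comap (algebraMap R R') p')) Q)) :
    CAlg.IsGeometricallyRegular Q'.ResidueField (EGA4.formalFibre (Localization.AtPrime p') Q') := by
  apply geomRegular_of_fibReg
  obtain ⟨S', hfg, r, hrp, hbij⟩ :=
    Algebra.QuasiFiniteAt.exists_fg_and_exists_notMem_and_awayMap_bijective (R := R) p'
  haveI : Module.Finite R S' := ⟨(Submodule.fg_top _).mpr hfg⟩
  letI algSB : Algebra S' (Localization.Away (algebraMap S' R' r)) := OreLocalization.instAlgebra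
  let f0 : Localization.Away r →+* Localization.Away (algebraMap S' R' r) :=
    Localization.awayMap S'.val.toRingHom r
  have hf0 : ∀ x : S', f0 (algebraMap S' (Localization.Away r) x) =
      algebraMap S' (Localization.Away (algebraMap S' R' r)) x := by
    intro x
    have h1 : (Localization.awayMap S'.val.toRingHom r) (algebraMap S' (Localization.Away r) x) =
        algebraMap R' (Localization.Away (S'.val.toRingHom r)) (S'.val.toRingHom x) :=
      IsLocalization.map_eq _ x
    exact h1
  let e : Localization.Away r ≃ₐ[S'] Localization.Away (algebraMap S' R' r) :=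
    AlgEquiv.ofBijective ⟨f0, hf0⟩ hbij
  haveI : IsLocalization (Submonoid.powers r) (Localization.Away (algebraMap S' R' r)) :=
    IsLocalization.isLocalization_of_algEquiv (Submonoid.powers r) e
  exact s9290_aux R R' S' r p' hrp Q' Q hQ h

end Main

end Groth.Agent.Helper7.QFFib
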