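import Mathlib

/-!
# The universal family of étale quasi-sections of affine space (helper7)

`E n m = ℤ[1/m][t₁,…,tₙ]/(tᵢ^m - 1)`, presented over `ℤ` (lifted to the universe `u`) by the
variables `tᵢ` and `s` and the relations `tᵢ^m - 1`, `m s - 1`.  It is étale over `ℤ`.
-/

set_option autoImplicit false

universe u

open MvPolynomial

namespace Groth.Agent.Helper7.Qsec

/-- the integers, lifted to the universe `u` (an opaque copy, to have a single path to its
ring structure) -/
def Z0 : Type u := ULift.{u} ℤ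

noncomputable instance : CommRing Z0.{u} := inferInstanceAs (CommRing (ULift.{u} ℤ))

/-- the ring isomorphism with the integers -/
noncomputable def Z0equiv : Z0.{u} ≃+* ℤ := ULift.ringEquiv

instance : IsNoetherianRing Z0.{u} := isNoetherianRing_of_ringEquiv ℤ Z0equiv.{u}.symm

/-- the canonical ring homomorphism from `Z0` to a ring -/
noncomputable def Z0hom (R : Type*) [CommRing R] : Z0.{u} →+* R :=
  (Int.castRingHom R).comp Z0equiv.{u}.toRingHom

lemma Z0hom_unique {R : Type*} [CommRing R] (f g : Z0.{u} →+* R) : f = g := by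
  have h : f.comp Z0equiv.{u}.symm.toRingHom = g.comp Z0equiv.{u}.symm.toRingHom :=
    RingHom.ext_int _ _
  ext z
  have h2 := RingHom.congr_fun h (Z0equiv.{u} z)
  rw [RingHom.comp_apply, RingHom.comp_apply] at h2
  have h3 : Z0equiv.{u}.symm.toRingHom (Z0equiv.{u} z) = z := Z0equiv.{u}.symm_apply_apply z
  rw [h3] at h2
  exact h2

/-- the canonical algebra structure over `Z0`; not an instance -/
@[instance_reducible]
noncomputable def algZ0 (R : Type*) [CommRing R] : Algebra Z0.{u} R := (Z0hom.{u} R).toAlgebra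

lemma isScalarTower_Z0 (R R' : Type*) [CommRing R] [CommRing R'] [Algebra R R']
    [Algebra Z0.{u} R] [Algebra Z0.{u} R'] : IsScalarTower Z0.{u} R R' :=
  IsScalarTower.of_algebraMap_eq' (Z0hom_unique _ _)

lemma isUnit_of_mul_eq_one' {R : Type*} [CommRing R] (a b : R) (h : a * b = 1) : IsUnit a :=
  isUnit_iff_exists_inv.mpr ⟨b, h⟩

variable (n m : ℕ)

/-- the relations -/
noncomputable def rels : Option (Fin n) → MvPolynomial (Option (Fin n)) Z0.{u}
  | none => C ((m : ℕ) : Z0.{u}) * X none - 1
  | some i => X (some i) ^ m - 1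

/-- the ideal of relations -/
noncomputable abbrev EI : Ideal (MvPolynomial (Option (Fin n)) Z0.{u}) :=
  Ideal.span (Set.range (rels.{u} n m))

/-- the universal algebra -/
abbrev E : Type u := MvPolynomial (Option (Fin n)) Z0.{u} ⧸ EI.{u} n m

/-- the class of the inverse of `m` -/
noncomputable def sE : E.{u} n m := Ideal.Quotient.mk (EI.{u} n m) (X none)

/-- the classes of the variables -/
noncomputable def tE (i : Fin n) : E.{u} n m := Ideal.Quotient.mk (EI.{u} n m) (X (some i))

lemma mk_C_mul_sE : Ideal.Quotient.mk (EI.{u} n m) (C ((m : ℕ) : Z0.{u})) * sE.{u} n m = 1 := by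
  have h : Ideal.Quotient.mk (EI.{u} n m) (rels.{u} n m none) = 0 :=
    Ideal.Quotient.eq_zero_iff_mem.mpr (Ideal.subset_span ⟨none, rfl⟩)
  simp only [rels, map_sub, map_mul, map_one] at h
  exact sub_eq_zero.mp h

lemma tE_pow (i : Fin n) : tE.{u} n m i ^ m = 1 := by
  have h : Ideal.Quotient.mk (EI.{u} n m) (rels.{u} n m (some i)) = 0 :=
    Ideal.Quotient.eq_zero_iff_mem.mpr (Ideal.subset_span ⟨some i, rfl⟩)
  simp only [rels, map_sub, map_pow, map_one] at h
  exact sub_eq_zero.mp h

lemma natCast_mul_sE : ((m : ℕ) : E.{u} n m) * sE.{u} n m = 1 := by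
  rw [← mk_C_mul_sE.{u} n m, map_natCast C, map_natCast]

/-- the naive presentation -/
noncomputable def P0 :
    Algebra.PreSubmersivePresentation Z0.{u} (E.{u} n m) (Option (Fin n)) (Option (Fin n)) :=
  Algebra.PreSubmersivePresentation.naive (v := rels.{u} n m) id Function.injective_id

/-- the diagonal of the Jacobian matrix -/
noncomputable def dE : Option (Fin n) → MvPolynomial (Option (Fin n)) Z0.{u}
  | none => C ((m : ℕ) : Z0.{u})
  | some i => C ((m : ℕ) : Z0.{u}) * X (some i) ^ (m - 1)

theorem P0_jacobiMatrix : (P0.{u} n m).jacobiMatrix = Matrix.diagonal (dE.{u} n m) := by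
  refine Matrix.ext fun i j => ?_
  rw [Algebra.PreSubmersivePresentation.jacobiMatrix_apply]
  show pderiv i (rels.{u} n m j) = Matrix.diagonal (dE.{u} n m) i j
  rw [Matrix.diagonal_apply]
  cases j with
  | none =>
    simp only [rels, dE]
    rw [map_sub, Derivation.leibniz, pderiv_C, pderiv_X, pderiv_one, sub_zero, smul_zero, add_zero]
    by_cases h : i = none
    · subst h
      rw [if_pos rfl, Pi.single_eq_same, smul_eq_mul, mul_one]
    · rw [if_neg h, Pi.single_eq_of_ne (Ne.symm h), smul_zero]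
  | some j =>
    simp only [rels, dE]
    rw [map_sub, pderiv_one, sub_zero, Derivation.leibniz_pow, pderiv_X]
    by_cases h : i = some j
    · subst h
      rw [if_pos rfl, Pi.single_eq_same, smul_eq_mul, mul_one, nsmul_eq_mul, map_natCast]
    · rw [if_neg h, Pi.single_eq_of_ne (Ne.symm h), smul_zero, smul_zero]

theorem P0_jacobian :
    (P0.{u} n m).jacobian = Ideal.Quotient.mk (EI.{u} n m) (∏ j, dE.{u} n m j) := by
  rw [Algebra.PreSubmersivePresentation.jacobian_eq_jacobiMatrix_det, P0_jacobiMatrix,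
    Matrix.det_diagonal]
  rfl

theorem isUnit_jacobian : IsUnit (P0.{u} n m).jacobian := by
  rw [P0_jacobian, map_prod]
  apply Finset.prod_induction _ IsUnit (fun a b ha hb => ha.mul hb) isUnit_one
  intro j _
  have hC : IsUnit (Ideal.Quotient.mk (EI.{u} n m) (C ((m : ℕ) : Z0.{u}))) :=
    isUnit_of_mul_eq_one' (R := E.{u} n m) _ _ (mk_C_mul_sE.{u} n m)
  cases j with
  | none => exact hC
  | some j =>
    simp only [dE]
    rw [map_mul, map_pow]
    refine hC.mul ?_
    by_cases hm : m = 0
    · subst hm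
      simp
    · exact (IsUnit.of_pow_eq_one (tE_pow.{u} n m j) hm).pow _

/-- the submersive presentation -/
noncomputable def P1 :
    Algebra.SubmersivePresentation Z0.{u} (E.{u} n m) (Option (Fin n)) (Option (Fin n)) :=
  { toPreSubmersivePresentation := P0.{u} n m
    jacobian_isUnit := isUnit_jacobian.{u} n m }

instance etale_E : Algebra.Etale Z0.{u} (E.{u} n m) := by
  have hdim : (P1.{u} n m).dimension = 0 := by
    show Nat.card (Option (Fin n)) - Nat.card (Option (Fin n)) = 0
    simp
  have hss : Algebra.IsStandardSmoothOfRelativeDimension 0 Z0.{u} (E.{u} n m) :=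
    (P1.{u} n m).isStandardSmoothOfRelativeDimension hdim
  exact inferInstance

section Lift

variable {n m}
variable {L : Type*} [CommRing L] [Algebra Z0.{u} L] (w : L) (ζ : Fin n → L)

/-- the values of the variables -/
def vals : Option (Fin n) → L
  | none => w
  | some i => ζ i

/-- the universal property of `E n m` -/
noncomputable def liftE (hw : ((m : ℕ) : L) * w = 1) (hζ : ∀ i, ζ i ^ m = 1) :
    E.{u} n m →ₐ[Z0.{u}] L :=
  Ideal.Quotient.liftₐ (EI.{u} n m) (aeval (vals w ζ)) (by
    intro a ha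
    have hle : EI.{u} n m ≤ RingHom.ker (aeval (R := Z0.{u}) (vals w ζ)).toRingHom := by
      rw [Ideal.span_le]
      rintro _ ⟨o, rfl⟩
      rw [SetLike.mem_coe, RingHom.mem_ker]
      cases o with
      | none =>
        simp only [rels, vals, AlgHom.toRingHom_eq_coe, RingHom.coe_coe, map_sub, map_mul,
          aeval_X, map_one, map_natCast]
        rw [hw, sub_self]
      | some i =>
        simp only [rels, vals, AlgHom.toRingHom_eq_coe, RingHom.coe_coe, map_sub, map_pow,
          aeval_X, map_one]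
        rw [hζ i, sub_self]
    exact hle ha)

lemma liftE_tE (hw : ((m : ℕ) : L) * w = 1) (hζ : ∀ i, ζ i ^ m = 1) (i : Fin n) :
    liftE.{u} w ζ hw hζ (tE.{u} n m i) = ζ i := by
  unfold liftE tE
  rw [Ideal.Quotient.liftₐ_apply, Ideal.Quotient.lift_mk]
  simp [vals]

lemma liftE_sE (hw : ((m : ℕ) : L) * w = 1) (hζ : ∀ i, ζ i ^ m = 1) :
    liftE.{u} w ζ hw hζ (sE.{u} n m) = w := by
  unfold liftE sE
  rw [Ideal.Quotient.liftₐ_apply, Ideal.Quotient.lift_mk]
  simp [vals]

end Lift

/-! ### An opaque copy of the universal algebra -/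

/-- the universal algebra, as an opaque commutative ring -/
def EE : Type u := E.{u} n m

noncomputable instance : CommRing (EE.{u} n m) := inferInstanceAs (CommRing (E.{u} n m))

noncomputable instance : Algebra Z0.{u} (EE.{u} n m) := inferInstanceAs (Algebra Z0.{u} (E.{u} n m))

instance etale_EE : Algebra.Etale Z0.{u} (EE.{u} n m) :=
  inferInstanceAs (Algebra.Etale Z0.{u} (E.{u} n m))

/-- the quotient map -/
noncomputable def mkEE : MvPolynomial (Option (Fin n)) Z0.{u} →ₐ[Z0.{u}] EE.{u} n m :=
  Ideal.Quotient.mkₐ Z0.{u} (EI.{u} n m)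

lemma mkEE_surjective : Function.Surjective (mkEE.{u} n m) :=
  Ideal.Quotient.mkₐ_surjective Z0.{u} (EI.{u} n m)

/-- the classes of the variables -/
noncomputable def tEE (i : Fin n) : EE.{u} n m := mkEE.{u} n m (X (some i))

/-- the class of the inverse of `m` -/
noncomputable def sEE : EE.{u} n m := mkEE.{u} n m (X none)

lemma natCast_mul_sEE : ((m : ℕ) : EE.{u} n m) * sEE.{u} n m = 1 := natCast_mul_sE.{u} n m

lemma tEE_pow (i : Fin n) : tEE.{u} n m i ^ m = 1 := tE_pow.{u} n m i

section LiftEE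

variable {n m}
variable {L : Type*} [CommRing L] [Algebra Z0.{u} L] (w : L) (ζ : Fin n → L)

/-- the universal property of `EE n m` -/
noncomputable def liftEE (hw : ((m : ℕ) : L) * w = 1) (hζ : ∀ i, ζ i ^ m = 1) :
    EE.{u} n m →ₐ[Z0.{u}] L := liftE.{u} w ζ hw hζ

lemma liftEE_tEE (hw : ((m : ℕ) : L) * w = 1) (hζ : ∀ i, ζ i ^ m = 1) (i : Fin n) :
    liftEE.{u} w ζ hw hζ (tEE.{u} n m i) = ζ i := liftE_tE.{u} w ζ hw hζ i

lemma liftEE_sEE (hw : ((m : ℕ) : L) * w = 1) (hζ : ∀ i, ζ i ^ m = 1) :
    liftEE.{u} w ζ hw hζ (sEE.{u} n m) = w := liftE_sE.{u} w ζ hw hζ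

end LiftEE

end Groth.Agent.Helper7.Qsec
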