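import Mathlib
import Groth.Agent.Lib.Helper7.Qsec1
import Groth.Agent.Lib.Helper7.FibCrit6

/-!
# The universal family of étale quasi-sections is fibrewise separating (helper7)
-/

set_option autoImplicit false

universe u

open MvPolynomial TensorProduct

namespace Groth.Agent.Helper7.Qsec

open Groth.Agent.Helper7.SepAbs Groth.Agent.Helper7.FibCrit

variable (n m : ℕ)

/-- the polynomial ring over the integers -/
abbrev P : Type u := MvPolynomial (Fin n) Z0.{u}

/-- the structure map of `E n m` over the polynomial ring -/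
noncomputable def algPE : P.{u} n →ₐ[Z0.{u}] EE.{u} n m :=
  (mkEE.{u} n m).comp (rename some)

noncomputable instance algebraPE : Algebra (P.{u} n) (EE.{u} n m) :=
  (algPE.{u} n m).toRingHom.toAlgebra

instance : IsScalarTower Z0.{u} (P.{u} n) (EE.{u} n m) :=
  IsScalarTower.of_algebraMap_eq fun a => ((algPE.{u} n m).commutes a).symm

lemma algebraMap_P_E_X (i : Fin n) :
    algebraMap (P.{u} n) (EE.{u} n m) (X i) = tEE.{u} n m i := by
  show algPE.{u} n m (X i) = _
  unfold algPE tEE
  rw [AlgHom.comp_apply, rename_X]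

lemma algebraMap_P_E_C (z : Z0.{u}) :
    algebraMap (P.{u} n) (EE.{u} n m) (C z) = algebraMap Z0.{u} (EE.{u} n m) z := by
  rw [IsScalarTower.algebraMap_apply Z0.{u} (P.{u} n) (EE.{u} n m)]
  rfl

section Eval

variable {n}

/-- a nonzero polynomial over a field does not vanish at some point whose coordinates are roots of
unity of an order invertible in the field -/
theorem exists_eval_ne_zero (K : Type u) [Field K] (Q : MvPolynomial (Fin n) K) (hQ : Q ≠ 0) :
    ∃ (m : ℕ) (_ : ((m : ℕ) : K) ≠ 0) (a : Fin n → AlgebraicClosure K),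
      (∀ i, a i ^ m = 1) ∧ aeval a Q ≠ 0 := by
  classical
  obtain ⟨Q', hQ'def⟩ : ∃ Q' : MvPolynomial (Fin n) (AlgebraicClosure K),
      Q' = map (algebraMap K (AlgebraicClosure K)) Q := ⟨_, rfl⟩
  have hQ' : Q' ≠ 0 := by
    rw [hQ'def]
    intro h0
    apply hQ
    apply map_injective (algebraMap K (AlgebraicClosure K))
      (algebraMap K (AlgebraicClosure K)).injective
    rw [h0, map_zero]
  obtain ⟨m, hmd, hm⟩ : ∃ m : ℕ, Q'.totalDegree < m ∧ ((m : ℕ) : K) ≠ 0 := by
    by_cases h1 : ((Q'.totalDegree + 1 : ℕ) : K) = 0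
    · refine ⟨Q'.totalDegree + 1 + 1, by omega, ?_⟩
      rw [Nat.cast_succ, h1, zero_add]
      exact one_ne_zero
    · exact ⟨Q'.totalDegree + 1, by omega, h1⟩
  have hpos : 0 < m := by omega
  refine ⟨m, hm, ?_⟩
  have : NeZero ((m : ℕ) : K) := ⟨hm⟩
  obtain ⟨ζ, hζ⟩ := HasEnoughRootsOfUnity.exists_primitiveRoot (AlgebraicClosure K) m
  by_contra hall
  push Not at hall
  apply hQ'
  apply eq_zero_of_eval_zero_at_prod_finset Q'
    (fun _ => Polynomial.nthRootsFinset m (1 : AlgebraicClosure K))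
  · intro i
    rw [hζ.card_nthRootsFinset]
    exact lt_of_le_of_lt (degreeOf_le_totalDegree Q' i) hmd
  · intro x hx
    have h1 : ∀ i, x i ^ m = 1 := fun i => (Polynomial.mem_nthRootsFinset hpos 1).mp (hx i)
    have h2 := hall x h1
    rw [hQ'def, eval_map, ← aeval_def]
    exact h2

attribute [local instance] MvPolynomial.algebraMvPolynomial

/-- evaluation at a point with coordinates `m`-th roots of unity factors through the base change
of `E n m` -/
theorem eval_eq_zero_of_tmul_eq_zero (K : Type u) [Field K] [Algebra Z0.{u} K] (m : ℕ)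
    {L : Type u} [Field L] [Algebra K L] [Algebra Z0.{u} L] [IsScalarTower Z0.{u} K L]
    (a : Fin n → L) (ha : ∀ i, a i ^ m = 1) (hm : ((m : ℕ) : L) ≠ 0)
    (c : MvPolynomial (Fin n) K)
    (hc : (c ⊗ₜ[P.{u} n] (1 : EE.{u} n m)) = 0) : aeval a c = 0 := by
  have hST : IsScalarTower Z0.{u} K L := inferInstance
  obtain ⟨f₀, hf₀⟩ : ∃ f₀ : MvPolynomial (Fin n) K →ₐ[K] L, f₀ = aeval a := ⟨_, rfl⟩
  letI : Algebra (P.{u} n) L :=
    (f₀.toRingHom.comp (algebraMap (P.{u} n) (MvPolynomial (Fin n) K))).toAlgebra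
  let f : MvPolynomial (Fin n) K →ₐ[P.{u} n] L :=
    { f₀.toRingHom with commutes' := fun _ => rfl }
  have hw : ((m : ℕ) : L) * ((m : ℕ) : L)⁻¹ = 1 := mul_inv_cancel₀ hm
  obtain ⟨g₀, hg₀⟩ : ∃ g₀ : EE.{u} n m →ₐ[Z0.{u}] L, g₀ = liftEE.{u} (((m : ℕ) : L)⁻¹) a hw ha :=
    ⟨_, rfl⟩
  have hcomm : ∀ q : P.{u} n, g₀ (algebraMap (P.{u} n) (EE.{u} n m) q) =
      algebraMap (P.{u} n) L q := by
    intro q
    have h1 : (g₀.toRingHom.comp (algebraMap (P.{u} n) (EE.{u} n m))) =
        algebraMap (P.{u} n) L := by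
      apply MvPolynomial.ringHom_ext
      · intro z
        show g₀ (algebraMap (P.{u} n) (EE.{u} n m) (C z)) =
          f₀ (algebraMap (P.{u} n) (MvPolynomial (Fin n) K) (C z))
        rw [algebraMap_P_E_C, AlgHom.commutes, MvPolynomial.algebraMap_def, map_C, hf₀, aeval_C]
        exact IsScalarTower.algebraMap_apply Z0.{u} K L z
      · intro i
        show g₀ (algebraMap (P.{u} n) (EE.{u} n m) (X i)) =
          f₀ (algebraMap (P.{u} n) (MvPolynomial (Fin n) K) (X i))
        rw [algebraMap_P_E_X, hg₀, liftEE_tEE, MvPolynomial.algebraMap_def, map_X, hf₀, aeval_X]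
    exact RingHom.congr_fun h1 q
  let g : EE.{u} n m →ₐ[P.{u} n] L := { g₀.toRingHom with commutes' := hcomm }
  have h2 := congrArg (Algebra.TensorProduct.productMap f g) hc
  rw [Algebra.TensorProduct.productMap_apply_tmul, map_one, mul_one, map_zero] at h2
  rw [← hf₀]
  exact h2

/-- the family is separating over a polynomial ring over a field -/
theorem hprop_field (K : Type u) [Field K] [Algebra Z0.{u} K] :
    HProp (fun m : ULift.{u} ℕ =>
      (Algebra.linearMap (P.{u} n) (EE.{u} n m.down)).baseChange (MvPolynomial (Fin n) K)) := by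
  intro h x hx
  obtain ⟨y, hy⟩ : ∃ y : MvPolynomial (Fin n) K, x = y ⊗ₜ[P.{u} n] (1 : P.{u} n) := by
    refine ⟨TensorProduct.rid (P.{u} n) (MvPolynomial (Fin n) K) x, ?_⟩
    have := (TensorProduct.rid (P.{u} n) (MvPolynomial (Fin n) K)).symm_apply_apply x
    rw [TensorProduct.rid_symm_apply] at this
    exact this.symm
  subst hy
  refine ⟨1, ?_⟩
  rw [pow_one, TensorProduct.smul_tmul', smul_eq_mul]
  suffices hzero : h * y = 0 by rw [hzero, TensorProduct.zero_tmul]
  by_contra hne
  obtain ⟨m, hm, a, ha, hval⟩ := exists_eval_ne_zero K (h * y) hne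
  obtain ⟨k, hk⟩ := hx ⟨m⟩
  have hmL : ((m : ℕ) : AlgebraicClosure K) ≠ 0 := by
    rw [← map_natCast (algebraMap K (AlgebraicClosure K))]
    exact fun h0 => hm ((algebraMap K (AlgebraicClosure K)).injective (h0.trans (map_zero _).symm))
  have h3 : ((h ^ k * y) ⊗ₜ[P.{u} n] (1 : EE.{u} n m)) = 0 := by
    rw [TensorProduct.smul_tmul', smul_eq_mul, LinearMap.baseChange_tmul,
      Algebra.linearMap_apply, map_one] at hk
    exact hk
  have h4 := eval_eq_zero_of_tmul_eq_zero K m a ha hmL (h ^ k * y) h3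
  apply hval
  rw [map_mul, map_pow] at h4
  rw [map_mul]
  rcases mul_eq_zero.mp h4 with h5 | h5
  · by_cases hk0 : k = 0
    · subst hk0
      rw [pow_zero] at h5
      exact absurd h5 one_ne_zero
    · rw [pow_eq_zero_iff hk0] at h5
      rw [h5, zero_mul]
  · rw [h5, mul_zero]

/-- **The universal family is separating on all fibres.** -/
theorem fibAll_E : FibAll Z0.{u}
    (fun m : ULift.{u} ℕ => Algebra.linearMap (P.{u} n) (EE.{u} n m.down)) := by
  intro K _ _ C' _ _ _ _ _ _ _
  exact hprop_baseChange_of_algEquiv _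
    ((Algebra.IsPushout.equiv Z0.{u} (P.{u} n) K (MvPolynomial (Fin n) K)).symm.trans
      (Algebra.IsPushout.equiv Z0.{u} (P.{u} n) K C')) (hprop_field K)

end Eval

end Groth.Agent.Helper7.Qsec
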