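import Mathlib
import Groth.Agent.Lib.Helper7.Qsec2
import Groth.Agent.Lib.Helper7.SepFlat4
import Groth.Agent.Lib.Helper7.FibCritGeom3

/-!
# Étale quasi-sections of an étale algebra over a polynomial ring: ring level (helper7)
-/

set_option autoImplicit false
set_option linter.style.haveILetI false

universe u

open MvPolynomial TensorProduct CategoryTheory AlgebraicGeometry

namespace Groth.Agent.Helper7.Qsec

open Groth.Agent.Helper7.SepAbs Groth.Agent.Helper7.SepBC Groth.Agent.Helper7.FibCrit
  Groth.Agent.Helper7.SepFlat Groth.Agent.Helper7.FibCritGeom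

attribute [local instance] MvPolynomial.algebraMvPolynomial

variable (n : ℕ)

section Immersion

/-- base change of an immersion of affine schemes, in terms of tensor products -/
theorem isImmersion_specMap_tensor (R S T : Type u) [CommRing R] [CommRing S] [CommRing T]
    [Algebra R S] [Algebra R T]
    (h : IsImmersion (Spec.map (CommRingCat.ofHom (algebraMap R T)))) :
    IsImmersion (Spec.map (CommRingCat.ofHom (algebraMap S (S ⊗[R] T)))) := by
  rw [← pullbackSpecIso_inv_fst' R S T]
  infer_instance

/-- a localization away from an element followed by a surjection gives an immersion -/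
theorem isImmersion_specMap_of_away {A B : Type u} [CommRing A] [CommRing B] (φ : A →+* B) (f : A)
    (hf : IsUnit (φ f))
    (hsurj : Function.Surjective (IsLocalization.Away.lift (S := Localization.Away f) f hf)) :
    IsImmersion (Spec.map (CommRingCat.ofHom φ)) := by
  have h1 : φ = (IsLocalization.Away.lift (S := Localization.Away f) f hf).comp
      (algebraMap A (Localization.Away f)) := (IsLocalization.Away.lift_comp f hf).symm
  have h2 : CommRingCat.ofHom φ = CommRingCat.ofHom (algebraMap A (Localization.Away f)) ≫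
      CommRingCat.ofHom (IsLocalization.Away.lift (S := Localization.Away f) f hf) := by
    rw [← CommRingCat.ofHom_comp, ← h1]
  rw [h2, Spec.map_comp]
  haveI : IsClosedImmersion (Spec.map (CommRingCat.ofHom
      (IsLocalization.Away.lift (S := Localization.Away f) f hf))) :=
    IsClosedImmersion.spec_of_surjective _ hsurj
  infer_instance

variable (m : ℕ)

theorem isUnit_natCast_EE : IsUnit (algebraMap (P.{u} n) (EE.{u} n m) ((m : ℕ) : P.{u} n)) := by
  rw [map_natCast]
  exact isUnit_of_mul_eq_one' _ _ (natCast_mul_sEE.{u} n m)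

theorem lift_surjective_EE :
    Function.Surjective (IsLocalization.Away.lift (S := Localization.Away ((m : ℕ) : P.{u} n))
      ((m : ℕ) : P.{u} n) (isUnit_natCast_EE.{u} n m)) := by
  obtain ⟨ψ, hψ⟩ : ∃ ψ : Localization.Away ((m : ℕ) : P.{u} n) →+* EE.{u} n m,
      ψ = IsLocalization.Away.lift (S := Localization.Away ((m : ℕ) : P.{u} n))
      ((m : ℕ) : P.{u} n) (isUnit_natCast_EE.{u} n m) := ⟨_, rfl⟩
  rw [← hψ]
  have hcomp : ∀ q : P.{u} n, ψ (algebraMap (P.{u} n) (Localization.Away ((m : ℕ) : P.{u} n)) q) = algebraMap (P.{u} n) (EE.{u} n m) q := by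
    intro q
    rw [hψ]
    exact IsLocalization.Away.lift_eq _ _ q
  have hs : sEE.{u} n m ∈ ψ.range := by
    refine ⟨IsLocalization.Away.invSelf ((m : ℕ) : P.{u} n), ?_⟩
    have h1 : ψ (algebraMap (P.{u} n) (Localization.Away ((m : ℕ) : P.{u} n)) ((m : ℕ) : P.{u} n)) *
        ψ (IsLocalization.Away.invSelf ((m : ℕ) : P.{u} n)) = 1 := by
      rw [← map_mul, IsLocalization.Away.mul_invSelf, map_one]
    rw [hcomp, map_natCast] at h1
    calc ψ (IsLocalization.Away.invSelf ((m : ℕ) : P.{u} n))
        = (sEE.{u} n m * ((m : ℕ) : EE.{u} n m)) *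
          ψ (IsLocalization.Away.invSelf ((m : ℕ) : P.{u} n)) := by
          rw [mul_comm (sEE.{u} n m), natCast_mul_sEE, one_mul]
      _ = sEE.{u} n m := by rw [mul_assoc, h1, mul_one]
  have ht : ∀ i, tEE.{u} n m i ∈ ψ.range := by
    intro i
    refine ⟨algebraMap (P.{u} n) (Localization.Away ((m : ℕ) : P.{u} n)) (X i), ?_⟩
    rw [hcomp, algebraMap_P_E_X]
  have hC : ∀ z : Z0.{u}, mkEE.{u} n m (C z) ∈ ψ.range := by
    intro z
    refine ⟨algebraMap (P.{u} n) (Localization.Away ((m : ℕ) : P.{u} n)) (C z), ?_⟩
    rw [hcomp, algebraMap_P_E_C]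
    exact ((mkEE.{u} n m).commutes z).symm
  intro e
  obtain ⟨p, rfl⟩ := mkEE_surjective.{u} n m e
  change mkEE.{u} n m p ∈ ψ.range
  induction p using MvPolynomial.induction_on with
  | C a => exact hC a
  | add p q hp hq =>
    rw [map_add]
    exact ψ.range.add_mem hp hq
  | mul_X p o hp =>
    rw [map_mul]
    refine ψ.range.mul_mem hp ?_
    cases o with
    | none => exact hs
    | some i => exact ht i

/-- the universal quasi-section is an immersion into affine space -/
theorem isImmersion_EE :
    IsImmersion (Spec.map (CommRingCat.ofHom (algebraMap (P.{u} n) (EE.{u} n m)))) :=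
  isImmersion_specMap_of_away _ ((m : ℕ) : P.{u} n) (isUnit_natCast_EE.{u} n m)
    (lift_surjective_EE.{u} n m)

end Immersion

section Poly

variable (R : Type u) [CommRing R] [Algebra Z0.{u} R]

/-- the universal family is separating over every polynomial ring -/
theorem hprop_poly :
    HProp (fun m : ULift.{u} ℕ =>
      (Algebra.linearMap (P.{u} n) (EE.{u} n m.down)).baseChange (MvPolynomial (Fin n) R)) := by
  refine hprop_baseChange_of_fibAll (A := Z0.{u}) (B := P.{u} n) _ ?_ (fibAll_E.{u} (n := n)) R
    (MvPolynomial (Fin n) R)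
  intro i
  refine flat_of_smul_eq Algebra.toModule _ ?_ inferInstance
  intro a x
  exact (algebraMap_smul (P.{u} n) a x).symm

end Poly

end Groth.Agent.Helper7.Qsec
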