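import Mathlib
import Groth.Agent.Lib.Helper7.Qsec3

/-!
# Étale quasi-sections of an étale algebra over a polynomial ring: the package (helper7)
-/

set_option autoImplicit false
set_option linter.style.haveILetI false

universe u

open MvPolynomial TensorProduct CategoryTheory AlgebraicGeometry

namespace Groth.Agent.Helper7.Qsec

open Groth.Agent.Helper7.SepAbs Groth.Agent.Helper7.SepBC Groth.Agent.Helper7.FibCrit
  Groth.Agent.Helper7.SepFlat

attribute [local instance] MvPolynomial.algebraMvPolynomial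

variable (n : ℕ) (R : Type u) [CommRing R] [Algebra Z0.{u} R]
  (B' : Type u) [CommRing B'] [Algebra (MvPolynomial (Fin n) R) B']

/-- the universal quasi-section over `R[t]` -/
abbrev TT (m : ℕ) : Type u := MvPolynomial (Fin n) R ⊗[P.{u} n] EE.{u} n m

/-- the quasi-section of `B'` -/
abbrev DD (m : ℕ) : Type u := B' ⊗[MvPolynomial (Fin n) R] TT.{u} n R m

theorem hprop_DD [Module.Flat (MvPolynomial (Fin n) R) B']
    [Algebra.FinitePresentation (MvPolynomial (Fin n) R) B'] :
    HProp (fun m : ULift.{u} ℕ => Algebra.linearMap B' (DD.{u} n R B' m.down)) := by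
  have H0 := hprop_poly.{u} n R
  have H1 := presH_of_flat_fp (MvPolynomial (Fin n) R) B' (ULift.{u} ℕ)
    (MvPolynomial (Fin n) R ⊗[P.{u} n] P.{u} n) (fun m => TT.{u} n R m.down)
    (fun m => (Algebra.linearMap (P.{u} n) (EE.{u} n m.down)).baseChange (MvPolynomial (Fin n) R))
    H0
  obtain ⟨eq, heq⟩ : ∃ eq : B' ⊗[MvPolynomial (Fin n) R]
      (MvPolynomial (Fin n) R ⊗[P.{u} n] P.{u} n) ≃ₗ[B'] B',
      eq = (AlgebraTensorModule.congr (LinearEquiv.refl B' B')
        (AlgebraTensorModule.rid (P.{u} n) (MvPolynomial (Fin n) R) (MvPolynomial (Fin n) R))) ≪≫ₗ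
        AlgebraTensorModule.rid (MvPolynomial (Fin n) R) B' B' := ⟨_, rfl⟩
  refine HProp.of_injective _ _ (LinearMap.toSpanSingleton B' _
    ((1 : B') ⊗ₜ[MvPolynomial (Fin n) R] ((1 : MvPolynomial (Fin n) R) ⊗ₜ[P.{u} n] (1 : P.{u} n))))
    ?_ (fun _ => LinearMap.id) ?_ H1
  · apply Function.LeftInverse.injective (g := eq)
    intro b
    rw [LinearMap.toSpanSingleton_apply, map_smul, heq]
    simp
  · intro m b
    rw [LinearMap.toSpanSingleton_apply, map_smul, LinearMap.baseChange_tmul,
      LinearMap.baseChange_tmul, LinearMap.id_apply, Algebra.linearMap_apply,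
      Algebra.linearMap_apply, map_one, Algebra.algebraMap_eq_smul_one,
      Algebra.TensorProduct.one_def, Algebra.TensorProduct.one_def]

/-- the quasi-section is immersed in `Spec B'` -/
theorem isImmersion_DD (m : ℕ) :
    IsImmersion (Spec.map (CommRingCat.ofHom (algebraMap B' (DD.{u} n R B' m)))) := by
  apply isImmersion_specMap_tensor (MvPolynomial (Fin n) R) B' (TT.{u} n R m)
  apply isImmersion_specMap_tensor (P.{u} n) (MvPolynomial (Fin n) R) (EE.{u} n m)
  exact isImmersion_EE.{u} n m

/-- the universal quasi-section over `R[t]` is étale over `R` -/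
theorem etale_TT (m : ℕ) : Algebra.Etale R (TT.{u} n R m) :=
  Algebra.Etale.of_equiv
    (Algebra.IsPushout.cancelBaseChangeAlg Z0.{u} R (P.{u} n) (MvPolynomial (Fin n) R)
      (EE.{u} n m)).symm

/-- the quasi-section of `B'` is étale over `R` -/
theorem etale_DD [Algebra.Etale (MvPolynomial (Fin n) R) B'] (m : ℕ) :
    ((algebraMap B' (DD.{u} n R B' m)).comp
      ((algebraMap (MvPolynomial (Fin n) R) B').comp (C : R →+* MvPolynomial (Fin n) R))).Etale := by
  have hA : (algebraMap R (TT.{u} n R m)).Etale := RingHom.etale_algebraMap.mpr (etale_TT.{u} n R m)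
  letI := Algebra.TensorProduct.rightAlgebra (R := MvPolynomial (Fin n) R) (A := B')
    (B := TT.{u} n R m)
  have hB : (algebraMap (TT.{u} n R m) (DD.{u} n R B' m)).Etale :=
    RingHom.Etale.isStableUnderBaseChange (MvPolynomial (Fin n) R) B' (TT.{u} n R m)
      (DD.{u} n R B' m) (RingHom.etale_algebraMap.mpr inferInstance)
  have hcomp := RingHom.Etale.stableUnderComposition _ _ hA hB
  convert hcomp using 1
  ext r
  simp only [RingHom.comp_apply, Algebra.TensorProduct.algebraMap_apply]
  rw [Algebra.TensorProduct.algebraMap_eq_includeRight]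
  rw [Algebra.algebraMap_self, RingHom.id_apply, MvPolynomial.algebraMap_eq]
  rw [Algebra.algebraMap_eq_smul_one (C r : MvPolynomial (Fin n) R), TensorProduct.smul_tmul]
  change (1 : B') ⊗ₜ[MvPolynomial (Fin n) R]
      ((C r : MvPolynomial (Fin n) R) • (1 : TT.{u} n R m)) =
    (1 : B') ⊗ₜ[MvPolynomial (Fin n) R]
      ((C r : MvPolynomial (Fin n) R) ⊗ₜ[P.{u} n] (1 : EE.{u} n m))
  rw [Algebra.TensorProduct.one_def, TensorProduct.smul_tmul', smul_eq_mul, mul_one]

end Groth.Agent.Helper7.Qsec
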