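import Mathlib
import Groth.Agent.Lib.Helper7.Qsec4
import Groth.Agent.Lib.Helper7.SchDom
import Groth.Agent.Lib.Helper7.SepFlatGeom

/-!
# Étale quasi-sections of a smooth morphism are schematically dense (helper7)
-/

set_option autoImplicit false
set_option linter.style.haveILetI false

universe u

open MvPolynomial TensorProduct CategoryTheory AlgebraicGeometry Limits

namespace Groth.Agent.Helper7.Qsec

open Groth.Agent.Helper7.SepAbs Groth.Agent.Helper7.SchDom Groth.Agent.Helper7.SepFlatGeom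

theorem appLE_specMap_fromSpec' {S : Scheme.{u}} {D : Type u} [CommRing D] (W : S.Opens)
    (hW : IsAffineOpen W) (φ : Γ(S, W) →+* D)
    (hc : ⊤ ≤ (Spec.map (CommRingCat.ofHom φ) ≫ hW.fromSpec) ⁻¹ᵁ W) :
    (((Spec.map (CommRingCat.ofHom φ) ≫ hW.fromSpec).appLE W ⊤ hc) ≫
      (Scheme.ΓSpecIso (.of D)).hom).hom = φ := by
  have h1 : ((Spec.map (CommRingCat.ofHom φ) ≫ hW.fromSpec).appLE W ⊤ hc) ≫
      (Scheme.ΓSpecIso (.of D)).hom = CommRingCat.ofHom φ := by
    rw [Scheme.Hom.comp_appLE, hW.fromSpec_app_self, Category.assoc, Category.assoc,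
      Scheme.Hom.map_appLE_assoc]
    have h2 : ∀ e, (Spec.map (CommRingCat.ofHom φ)).appLE ⊤ ⊤ e =
        (Spec.map (CommRingCat.ofHom φ)).appTop := by
      intro e
      simp [Scheme.Hom.appLE]
    rw [h2, ← Scheme.ΓSpecIso_inv_naturality_assoc, Iso.inv_hom_id, Category.comp_id]
  rw [h1]
  rfl

lemma top_le_preimage_fromSpec {S : Scheme.{u}} {W : S.Opens} (hW : IsAffineOpen W)
    {Y : Scheme.{u}} (σ : Y ⟶ Spec Γ(S, W)) : ⊤ ≤ (σ ≫ hW.fromSpec) ⁻¹ᵁ W := by
  intro z _
  have : hW.fromSpec (σ z) ∈ hW.fromSpec.opensRange := ⟨_, rfl⟩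
  rw [hW.opensRange_fromSpec] at this
  exact this

/-- the local form: around every point of a smooth scheme there is a countable family of étale
quasi-sections which is separating on an affine neighbourhood -/
theorem exists_local_family {X S : Scheme.{u}} (p : X ⟶ S) [Smooth p] (x : X) :
    ∃ (U : X.Opens) (_ : IsAffineOpen U) (_ : x ∈ U) (Z : ULift.{u} ℕ → Scheme.{u})
      (j : ∀ m, Z m ⟶ X),
      (∀ m, IsImmersion (j m)) ∧ (∀ m, Etale (j m ≫ p)) ∧ RingHProp j U := by
  obtain ⟨V, hV, U, hU, hxU, e, hss⟩ := Smooth.exists_isStandardSmooth p x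
  obtain ⟨n, g, hgC, hg⟩ := hss.exists_etale_mvPolynomial
  letI : Algebra Z0.{u} Γ(S, V) := algZ0.{u} _
  letI : Algebra (MvPolynomial (Fin n) Γ(S, V)) Γ(X, U) := g.toAlgebra
  haveI : Algebra.Etale (MvPolynomial (Fin n) Γ(S, V)) Γ(X, U) := hg
  refine ⟨U, hU, hxU, fun m => Spec (CommRingCat.of (DD.{u} n Γ(S, V) Γ(X, U) m.down)),
    fun m => Spec.map (CommRingCat.ofHom
      (algebraMap Γ(X, U) (DD.{u} n Γ(S, V) Γ(X, U) m.down))) ≫ hU.fromSpec, ?_, ?_, ?_⟩
  · intro m
    haveI := isImmersion_DD.{u} n Γ(S, V) Γ(X, U) m.down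
    infer_instance
  · intro m
    rw [Category.assoc, ← IsAffineOpen.SpecMap_appLE_fromSpec p hV hU e, ← Category.assoc,
      ← Spec.map_comp]
    haveI : Etale (Spec.map (p.appLE V U e ≫ CommRingCat.ofHom
        (algebraMap Γ(X, U) (DD.{u} n Γ(S, V) Γ(X, U) m.down)))) := by
      rw [HasRingHomProperty.Spec_iff (P := @Etale)]
      have h1 := etale_DD.{u} n Γ(S, V) Γ(X, U) m.down
      have h2 : (algebraMap (MvPolynomial (Fin n) Γ(S, V)) Γ(X, U)).comp
          (C : Γ(S, V) →+* MvPolynomial (Fin n) Γ(S, V)) = (p.appLE V U e).hom := hgC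
      rw [h2] at h1
      exact h1
    infer_instance
  · intro a y hy
    have H := hprop_DD.{u} n Γ(S, V) Γ(X, U)
    apply H a y
    intro m
    have hc := top_le_preimage_fromSpec hU (Spec.map (CommRingCat.ofHom
      (algebraMap Γ(X, U) (DD.{u} n Γ(S, V) Γ(X, U) m.down))))
    obtain ⟨k, hk⟩ := hy m ⊤ (isAffineOpen_top _) hc
    refine ⟨k, ?_⟩
    have key := appLE_specMap_fromSpec' U hU
      (algebraMap Γ(X, U) (DD.{u} n Γ(S, V) Γ(X, U) m.down)) hc
    rw [Algebra.linearMap_apply, smul_eq_mul, ← key]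
    change (Scheme.ΓSpecIso (.of (DD.{u} n Γ(S, V) Γ(X, U) m.down))).hom
      (((Spec.map (CommRingCat.ofHom (algebraMap Γ(X, U) (DD.{u} n Γ(S, V) Γ(X, U) m.down))) ≫
        hU.fromSpec).appLE U ⊤ hc) (a ^ k * y)) = 0
    rw [hk, map_zero]

/-- **Étale quasi-sections of a smooth morphism form a schematically dominant family**, in the
form of a small family. -/
theorem exists_small_family {X S : Scheme.{u}} (p : X ⟶ S) [Smooth p] :
    ∃ (ι : Type u) (Z : ι → Scheme.{u}) (j : ∀ i, Z i ⟶ X),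
      (∀ i, IsImmersion (j i)) ∧ (∀ i, Etale (j i ≫ p)) ∧ IsSchDom j := by
  choose U hU hxU Z j himm het hH using exists_local_family p
  refine ⟨X × ULift.{u} ℕ, fun i => Z i.1 i.2, fun i => j i.1 i.2, fun i => himm i.1 i.2,
    fun i => het i.1 i.2, ?_⟩
  apply isSchDom_of_ringHProp
  intro x
  refine ⟨U x, hU x, hxU x, ?_⟩
  intro a y hy
  exact hH x a y (fun m T hT e => hy (x, m) T hT e)

/-- the statement for all étale quasi-sections -/
theorem eq_zero_of_forall_quasiSection {X S : Scheme.{u}} (p : X ⟶ S) [Smooth p]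
    (V : X.Opens) (t : Γ(X, V))
    (h : ∀ (Z : Scheme.{u}) (j : Z ⟶ X), IsImmersion j → Etale (j ≫ p) → j.app V t = 0) :
    t = 0 := by
  obtain ⟨ι, Z, j, himm, het, hdom⟩ := exists_small_family p
  exact hdom V t (fun i => h (Z i) (j i) (himm i) (het i))

/-- the statement for base changes of all étale quasi-sections along a flat morphism locally of
finite presentation -/
theorem eq_zero_of_forall_quasiSection_baseChange {S S' B' : Scheme.{u}} (g : S' ⟶ S) [Smooth g]
    (q : B' ⟶ S') [Flat q] [LocallyOfFinitePresentation q] (V : B'.Opens) (t : Γ(B', V))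
    (h : ∀ (Z : Scheme.{u}) (j : Z ⟶ S'), IsImmersion j → Etale (j ≫ g) →
      (Limits.pullback.snd j q).app V t = 0) : t = 0 := by
  obtain ⟨ι, Z, j, himm, het, hdom⟩ := exists_small_family g
  exact isSchDom_pullback_flat q Z j hdom V t (fun i => h (Z i) (j i) (himm i) (het i))

end Groth.Agent.Helper7.Qsec
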