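import Mathlib
import Groth.Agent.Lib.Helper7.GrpDescB

/-!
# Representability of quotients by flat equivalence relations: general lemmas (helper7)
-/

set_option autoImplicit false
set_option linter.unusedSectionVars false
set_option linter.style.haveILetI false
universe v u

open CategoryTheory AlgebraicGeometry
open MonoidalCategory CartesianMonoidalCategory CategoryTheory.Limits MonObj GrpObj Functor
open scoped CategoryTheory.Obj

noncomputable section

namespace Groth.Agent.Helper7.QuotLim

open Groth.Agent.Helper18.ChowTower Groth.Agent.Helper7.GrpHomLim Groth.Agent.Helper7.GrpNormLim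
  Groth.Agent.Helper7.GrpSubLim Groth.Agent.Helper7.GrpDescB

section General

variable {C C' : Type u} [Category.{v} C] [Category.{v} C']
  [CartesianMonoidalCategory C] [CartesianMonoidalCategory C'] (P : C ⥤ C') [P.Monoidal]

theorem mono_lift_map {R X : C} (s t : R ⟶ X) [Mono (P.map (lift s t))] :
    Mono (lift (P.map s) (P.map t)) := by
  rw [← Functor.OplaxMonoidal.lift_δ]
  infer_instance

theorem isPullback_of_fact {R X Y K : C} (s t : R ⟶ X) (p : X ⟶ Y) (k₁ k₂ : K ⟶ X)
    (hPK : IsPullback (P.map k₁) (P.map k₂) (P.map p) (P.map p))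
    (heq : P.map (s ≫ p) = P.map (t ≫ p))
    (hfac : ∃ w : P.obj K ⟶ P.obj R, P.map (lift k₁ k₂) = w ≫ P.map (lift s t))
    [Mono (P.map (lift s t))] : IsPullback (P.map s) (P.map t) (P.map p) (P.map p) := by
  obtain ⟨w, hw⟩ := hfac
  have hst : P.map s ≫ P.map p = P.map t ≫ P.map p := by
    rw [← P.map_comp, ← P.map_comp, heq]
  have hw1 : w ≫ P.map s = P.map k₁ := by
    have := congrArg (· ≫ P.map (fst X X)) hw
    simp only [Category.assoc, ← P.map_comp, lift_fst] at this
    exact this.symm
  have hw2 : w ≫ P.map t = P.map k₂ := by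
    have := congrArg (· ≫ P.map (snd X X)) hw
    simp only [Category.assoc, ← P.map_comp, lift_snd] at this
    exact this.symm
  let v : P.obj R ⟶ P.obj K := hPK.lift (P.map s) (P.map t) hst
  have hv1 : v ≫ P.map k₁ = P.map s := hPK.lift_fst _ _ _
  have hv2 : v ≫ P.map k₂ = P.map t := hPK.lift_snd _ _ _
  have hwv : w ≫ v = 𝟙 _ := by
    apply hPK.hom_ext
    · rw [Category.assoc, hv1, hw1, Category.id_comp]
    · rw [Category.assoc, hv2, hw2, Category.id_comp]
  haveI := mono_lift_map P s t
  have hvw : v ≫ w = 𝟙 _ := by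
    rw [← cancel_mono (lift (P.map s) (P.map t))]
    apply CartesianMonoidalCategory.hom_ext
    · simp only [Category.assoc, lift_fst, Category.id_comp]
      rw [hw1, hv1]
    · simp only [Category.assoc, lift_snd, Category.id_comp]
      rw [hw2, hv2]
  let e : P.obj K ≅ P.obj R := ⟨w, v, hwv, hvw⟩
  exact IsPullback.of_iso hPK e (Iso.refl _) (Iso.refl _) (Iso.refl _)
    (by simp [e, hw1]) (by simp [e, hw2]) (by simp) (by simp)

end General

section Sch

/-- the quotient of `X` by `(s, t)` is representable -/
def Quot {B : Scheme.{u}} {R X : Over B} (s t : R ⟶ X) : Prop :=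
  ∃ (Y : Over B) (p : X ⟶ Y), Flat p.left ∧ Surjective p.left ∧
    LocallyOfFinitePresentation p.left ∧ IsPullback s t p p

theorem quot_iso {B : Scheme.{u}} {R X R' X' : Over B} (s t : R ⟶ X) (s' t' : R' ⟶ X')
    (eR : R ≅ R') (eX : X ≅ X') (hs : s ≫ eX.hom = eR.hom ≫ s') (ht : t ≫ eX.hom = eR.hom ≫ t')
    (h : Quot s t) : Quot s' t' := by
  obtain ⟨Y, p, h1, h2, h3, h4⟩ := h
  haveI : IsIso eX.inv.left := (Over.forget _).map_isIso eX.inv
  refine ⟨Y, eX.inv ≫ p, ?_, ?_, ?_, ?_⟩
  · rw [Over.comp_left]
    exact (MorphismProperty.cancel_left_of_respectsIso @Flat eX.inv.left p.left).2 h1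
  · rw [Over.comp_left]
    exact (MorphismProperty.cancel_left_of_respectsIso @Surjective eX.inv.left p.left).2 h2
  · rw [Over.comp_left]
    exact (MorphismProperty.cancel_left_of_respectsIso @LocallyOfFinitePresentation
      eX.inv.left p.left).2 h3
  · exact IsPullback.of_iso h4 eR eX eX (Iso.refl _) hs ht (by simp) (by simp)

theorem quot_bc {B B' : Scheme.{u}} (ψ : B' ⟶ B) {R X : Over B} (s t : R ⟶ X) (h : Quot s t) :
    Quot ((Over.pullback ψ).map s) ((Over.pullback ψ).map t) := by
  obtain ⟨Y, p, h1, h2, h3, h4⟩ := h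
  refine ⟨(Over.pullback ψ).obj Y, (Over.pullback ψ).map p, ?_, ?_, ?_, h4.map (Over.pullback ψ)⟩
  · exact MorphismProperty.of_isPullback (P := @Flat) (isPullback_map_left ψ p).flip h1
  · exact MorphismProperty.of_isPullback (P := @Surjective) (isPullback_map_left ψ p).flip h2
  · exact MorphismProperty.of_isPullback (P := @LocallyOfFinitePresentation)
      (isPullback_map_left ψ p).flip h3

variable {X Y Z : Scheme.{u}} (f : X ⟶ Y) (g : Y ⟶ Z) {c : X ⟶ Z} (hc : f ≫ g = c)

include hc in
theorem quot_comp {R A : Over Z} (s t : R ⟶ A) :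
    Quot ((Over.pullback f).map ((Over.pullback g).map s))
      ((Over.pullback f).map ((Over.pullback g).map t)) ↔
    Quot ((Over.pullback c).map s) ((Over.pullback c).map t) := by
  constructor
  · exact quot_iso _ _ _ _ (compIso f g hc R) (compIso f g hc A) (compIso_natural f g hc s)
      (compIso_natural f g hc t)
  · exact quot_iso _ _ _ _ (compIso f g hc R).symm (compIso f g hc A).symm
      (by rw [Iso.symm_hom, Iso.symm_hom, ← compIso_inv_natural])
      (by rw [Iso.symm_hom, Iso.symm_hom, ← compIso_inv_natural])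

include hc in
/-- a property of the left part of a morphism passes to a further base change -/
theorem hom_prop_comp (P : MorphismProperty Scheme.{u}) [P.IsStableUnderBaseChange]
    [P.RespectsIso] {A B : Over Z} (a : A ⟶ B) (h : P ((Over.pullback g).map a).left) :
    P ((Over.pullback c).map a).left := by
  have e : (Over.pullback c).map a = (compIso f g hc A).inv ≫
      (Over.pullback f).map ((Over.pullback g).map a) ≫ (compIso f g hc B).hom := by
    rw [compIso_natural, Iso.inv_hom_id_assoc]
  haveI : IsIso (compIso f g hc A).inv.left := (Over.forget _).map_isIso (compIso f g hc A).inv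
  haveI : IsIso (compIso f g hc B).hom.left := (Over.forget _).map_isIso (compIso f g hc B).hom
  rw [e, Over.comp_left, Over.comp_left, P.cancel_left_of_respectsIso,
    P.cancel_right_of_respectsIso]
  exact MorphismProperty.of_isPullback (P := P) (isPullback_map_left f _).flip h

end Sch

section QC

/-- a surjective open morphism whose kernel pair projection is quasi-compact is quasi-compact -/
theorem qc_of_isPullback {X Y R : Scheme.{u}} (p : X ⟶ Y) (a b : R ⟶ X)
    (h : IsPullback a b p p) [QuasiCompact a] [Surjective p] [Flat p]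
    [LocallyOfFinitePresentation p] : QuasiCompact p := by
  constructor
  intro U hU hUc
  obtain ⟨V, hV, e⟩ := IsOpenMap.exists_opens_image_eq_of_prespectralSpace p.continuous
    p.isOpenMap (U := U) (fun y _ => p.surjective y) hU hUc
  have h1 : IsCompact (a.base ⁻¹' (V : Set X)) := QuasiCompact.isCompact_preimage _ V.2 hV
  have h2 : p.base ⁻¹' U = b.base '' (a.base ⁻¹' (V : Set X)) := by
    ext x
    constructor
    · intro hx
      have hx' : p.base x ∈ p.base '' (V : Set X) := by rw [e]; exact hx
      obtain ⟨x', hx'V, hx'x⟩ := hx'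
      obtain ⟨z, hz1, hz2⟩ := Scheme.Pullback.exists_preimage_pullback (f := p) (g := p) x' x hx'x
      refine ⟨h.isoPullback.inv.base z, ?_, ?_⟩
      · show a.base (h.isoPullback.inv.base z) ∈ (V : Set X)
        rw [← Scheme.Hom.comp_apply, h.isoPullback_inv_fst, hz1]
        exact hx'V
      · rw [← Scheme.Hom.comp_apply, h.isoPullback_inv_snd, hz2]
    · rintro ⟨r, hr, rfl⟩
      show p.base (b.base r) ∈ U
      rw [← e]
      refine ⟨a.base r, hr, ?_⟩
      rw [← Scheme.Hom.comp_apply, ← Scheme.Hom.comp_apply, h.w]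
  rw [h2]
  exact h1.image b.continuous

end QC

end Groth.Agent.Helper7.QuotLim
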