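import Mathlib
import Groth.Agent.Lib.Helper7.GrpSubLim
import Groth.Agent.Lib.Helper4.LimDesc3
import Groth.Agent.S2075
import Groth.Agent.S2581

/-!
# Torsors over a cofiltered limit (helper7)
-/

set_option autoImplicit false
set_option linter.unusedSectionVars false
set_option linter.style.haveILetI false
universe v u

open CategoryTheory AlgebraicGeometry
open MonoidalCategory CartesianMonoidalCategory CategoryTheory.Limits MonObj GrpObj Functor
open scoped CategoryTheory.Obj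

noncomputable section

namespace Groth.Agent.Helper7.TorsLim

open Groth.Agent.Helper18.ChowTower Groth.Agent.Helper7.GrpHomLim Groth.Agent.Helper7.GrpNormLim
  Groth.Agent.Helper7.GrpSubLim

section General

variable {C D : Type u} [Category.{v} C] [Category.{v} D]
  [CartesianMonoidalCategory C] [CartesianMonoidalCategory D] (F : C ⥤ D) [F.Monoidal]

theorem shear_eq {G X : C} (a : G ⊗ X ⟶ X) :
    lift (LaxMonoidal.μ F G X ≫ F.map a) (snd (F.obj G) (F.obj X)) =
      LaxMonoidal.μ F G X ≫ F.map (lift a (snd G X)) ≫ OplaxMonoidal.δ F X X := by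
  rw [← Functor.Monoidal.lift_μ, Category.assoc, Functor.Monoidal.μ_δ, Category.comp_id,
    ← Functor.Monoidal.μ_snd, comp_lift]

theorem isIso_shear_iff {G X : C} (a : G ⊗ X ⟶ X) :
    IsIso (lift (LaxMonoidal.μ F G X ≫ F.map a) (snd (F.obj G) (F.obj X))) ↔
      IsIso (F.map (lift a (snd G X))) := by
  rw [shear_eq]
  constructor
  · intro h
    have : F.map (lift a (snd G X)) = OplaxMonoidal.δ F G X ≫
        (LaxMonoidal.μ F G X ≫ F.map (lift a (snd G X)) ≫ OplaxMonoidal.δ F X X) ≫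
          LaxMonoidal.μ F X X := by
      simp only [Category.assoc]
      rw [Functor.Monoidal.δ_μ, Category.comp_id, Functor.Monoidal.δ_μ_assoc]
    rw [this]
    infer_instance
  · intro h
    infer_instance

end General

section Sch

/-- the structure morphism is a covering for the fppf topology -/
def IsFppfCov {S : Scheme.{u}} (A : Over S) : Prop :=
  ∃ (Z : Scheme.{u}) (v : Z ⟶ S) (w : Z ⟶ A.left), w ≫ A.hom = v ∧
    Flat v ∧ Surjective v ∧ LocallyOfFinitePresentation v ∧ QuasiCompact v ∧ QuasiSeparated v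

theorem cov_iff {S : Scheme.{u}} (A : Over S) :
    IsFppfCov A ↔ ∃ (Z : Over S) (_ : Z ⟶ A), Flat Z.hom ∧ Surjective Z.hom ∧
      LocallyOfFinitePresentation Z.hom ∧ QuasiCompact Z.hom ∧ QuasiSeparated Z.hom := by
  constructor
  · rintro ⟨Z, v, w, hw, h⟩
    exact ⟨Over.mk v, Over.homMk w hw, h⟩
  · rintro ⟨Z, w, h⟩
    exact ⟨Z.left, Z.hom, w.left, Over.w w, h⟩

theorem cov_iso {S : Scheme.{u}} {A A' : Over S} (e : A ≅ A') (h : IsFppfCov A) : IsFppfCov A' := by
  rw [cov_iff] at h ⊢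
  obtain ⟨Z, w, h⟩ := h
  exact ⟨Z, w ≫ e.hom, h⟩

theorem cov_bc {S S' : Scheme.{u}} (g : S' ⟶ S) {A : Over S} (h : IsFppfCov A) :
    IsFppfCov ((Over.pullback g).obj A) := by
  rw [cov_iff] at h ⊢
  obtain ⟨Z, w, h1, h2, h3, h4, h5⟩ := h
  refine ⟨(Over.pullback g).obj Z, (Over.pullback g).map w, ?_, ?_, ?_, ?_, ?_⟩
  · show Flat (pullback.snd Z.hom g); infer_instance
  · show Surjective (pullback.snd Z.hom g); infer_instance
  · show LocallyOfFinitePresentation (pullback.snd Z.hom g); infer_instance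
  · show QuasiCompact (pullback.snd Z.hom g); infer_instance
  · show QuasiSeparated (pullback.snd Z.hom g); infer_instance

variable {X Y Z : Scheme.{u}} (f : X ⟶ Y) (g : Y ⟶ Z) {c : X ⟶ Z} (hc : f ≫ g = c)

include hc in
theorem isIso_comp {A B : Over Z} (a : A ⟶ B) [IsIso ((Over.pullback g).map a)] :
    IsIso ((Over.pullback c).map a) := by
  have ha := compIso_natural f g hc a
  have : (Over.pullback c).map a = (compIso f g hc A).inv ≫
      (Over.pullback f).map ((Over.pullback g).map a) ≫ (compIso f g hc B).hom := by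
    rw [ha, Iso.inv_hom_id_assoc]
  rw [this]
  infer_instance

include hc in
theorem isIso_comp' {A B : Over Z} (a : A ⟶ B)
    [IsIso ((Over.pullback f).map ((Over.pullback g).map a))] :
    IsIso ((Over.pullback c).map a) := by
  have ha := compIso_natural f g hc a
  have : (Over.pullback c).map a = (compIso f g hc A).inv ≫
      (Over.pullback f).map ((Over.pullback g).map a) ≫ (compIso f g hc B).hom := by
    rw [ha, Iso.inv_hom_id_assoc]
  rw [this]
  infer_instance

include hc in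
theorem cov_comp {A : Over Z} (h : IsFppfCov ((Over.pullback g).obj A)) :
    IsFppfCov ((Over.pullback c).obj A) :=
  cov_iso (compIso f g hc A) (cov_bc f h)

end Sch

section Sch2

variable {X Y Z : Scheme.{u}} (f : X ⟶ Y) (g : Y ⟶ Z) {c : X ⟶ Z} (hc : f ≫ g = c)

include hc in
theorem prop_comp (P : MorphismProperty Scheme.{u}) [P.IsStableUnderBaseChange] [P.RespectsIso]
    {A : Over Z} (h : P ((Over.pullback g).obj A).hom) : P ((Over.pullback c).obj A).hom := by
  have e : ((Over.pullback c).obj A).hom = (compIso f g hc A).inv.left ≫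
      ((Over.pullback f).obj ((Over.pullback g).obj A)).hom := (Over.w (compIso f g hc A).inv).symm
  rw [e, P.cancel_left_of_respectsIso]
  exact P.pullback_snd _ _ h

end Sch2

section Lim

variable {I : Type u} [SmallCategory I] [IsCofiltered I] (D : I ⥤ Scheme.{u})
  [∀ {i j} (f : i ⟶ j), IsAffineHom (D.map f)] (c : Cone D) (hc : IsLimit c)

omit [IsCofiltered I] [∀ {i j} (f : i ⟶ j), IsAffineHom (D.map f)] in
theorem snd_of_stage_id (P : MorphismProperty Scheme.{u}) [P.RespectsIso] {i i' : I} (φ : i' ⟶ i)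
    (Z : Over (D.obj i)) {Xi Yi : Scheme.{u}} (fi : Xi ⟶ Yi) (gi : Yi ⟶ D.obj i')
    (pY : Yi ⟶ D.obj i) (pX : Xi ⟶ Z.left) (hY : IsPullback pY gi (𝟙 _) (D.map φ))
    (hX : IsPullback pX fi Z.hom pY) (h : P fi) : P ((Over.pullback (D.map φ)).obj Z).hom := by
  haveI : IsIso gi := hY.isIso_snd_of_isIso
  let e : Yi ≅ D.obj i' := asIso gi
  have h1 : IsPullback pX (fi ≫ gi) Z.hom (D.map φ) := by
    refine IsPullback.of_iso hX (Iso.refl _) (Iso.refl _) e (Iso.refl _) (by simp) (by simp [e])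
      (by simp) ?_
    have := hY.w
    simp only [Category.comp_id] at this
    simp [e, this]
  exact (Groth.Agent.Helper7.LimSep.snd_iff_of_isPullback P h1).1
    ((P.cancel_right_of_respectsIso fi gi).2 h)

variable [∀ i, CompactSpace (D.obj i)] [∀ i, QuasiSeparatedSpace (D.obj i)]

include hc in
theorem flat_stage (i : I) (Z : Over (D.obj i)) [LocallyOfFinitePresentation Z.hom]
    [QuasiCompact Z.hom] [QuasiSeparated Z.hom]
    (h : Flat ((Over.pullback (c.π.app i)).obj Z).hom) :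
    ∃ (i' : I) (φ : i' ⟶ i), Flat ((Over.pullback (D.map φ)).obj Z).hom := by
  haveI : Flat (pullback.snd Z.hom (c.π.app i)) := h
  haveI : CompactSpace Z.left := QuasiCompact.compactSpace_of_compactSpace Z.hom
  haveI : QuasiSeparatedSpace Z.left := quasiSeparatedSpace_of_quasiSeparated Z.hom
  have hY0 : IsPullback (c.π.app i) (𝟙 c.pt) (𝟙 (D.obj i)) (c.π.app i) := by
    haveI : IsIso (𝟙 c.pt) := IsIso.id _
    exact IsPullback.of_vert_isIso ⟨by simp⟩
  obtain ⟨i', φ, Xi, Yi, fi, gi, pY, pX, hY, hX, hfl⟩ :=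
    Groth.Agent.S2075.result D c hc i Z.hom (𝟙 (D.obj i)) (pullback.snd Z.hom (c.π.app i))
      (𝟙 c.pt) (c.π.app i) (pullback.fst Z.hom (c.π.app i)) hY0 (IsPullback.of_hasPullback _ _)
  exact ⟨i', φ, snd_of_stage_id D @Flat φ Z fi gi pY pX hY hX hfl⟩

include hc in
theorem surjective_stage (i : I) (Z : Over (D.obj i)) [LocallyOfFinitePresentation Z.hom]
    [QuasiCompact Z.hom] [QuasiSeparated Z.hom]
    (h : Surjective ((Over.pullback (c.π.app i)).obj Z).hom) :
    ∃ (i' : I) (φ : i' ⟶ i), Surjective ((Over.pullback (D.map φ)).obj Z).hom := by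
  haveI : Surjective (pullback.snd Z.hom (c.π.app i)) := h
  haveI : LocallyOfFinitePresentation (Z.hom ≫ 𝟙 (D.obj i)) := by
    rw [Category.comp_id]; infer_instance
  haveI : QuasiCompact (Z.hom ≫ 𝟙 (D.obj i)) := by rw [Category.comp_id]; infer_instance
  haveI : QuasiSeparated (Z.hom ≫ 𝟙 (D.obj i)) := by rw [Category.comp_id]; infer_instance
  have hY0 : IsPullback (c.π.app i) (𝟙 c.pt) (𝟙 (D.obj i)) (c.π.app i) := by
    haveI : IsIso (𝟙 c.pt) := IsIso.id _
    exact IsPullback.of_vert_isIso ⟨by simp⟩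
  obtain ⟨i', φ, Xi, Yi, fi, gi, pY, pX, hY, hX, hfl⟩ :=
    Groth.Agent.S2581.result D c hc i Z.hom (𝟙 (D.obj i)) (pullback.snd Z.hom (c.π.app i))
      (𝟙 c.pt) (c.π.app i) (pullback.fst Z.hom (c.π.app i)) hY0 (IsPullback.of_hasPullback _ _)
  exact ⟨i', φ, snd_of_stage_id D @Surjective φ Z fi gi pY pX hY hX hfl⟩

end Lim

section Lim2

variable {I : Type u} [SmallCategory I] [IsCofiltered I] (D : I ⥤ Scheme.{u})
  [∀ {i j} (f : i ⟶ j), IsAffineHom (D.map f)] (c : Cone D) (hc : IsLimit c)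
  [∀ i, CompactSpace (D.obj i)] [∀ i, QuasiSeparatedSpace (D.obj i)]

omit [IsCofiltered I] [∀ {i j} (f : i ⟶ j), IsAffineHom (D.map f)]
  [∀ i, QuasiSeparatedSpace (D.obj i)] in
theorem compactSpace_bc' {i j : I} (f : i ⟶ j) (A : Over (D.obj j)) [QuasiCompact A.hom] :
    CompactSpace (Red.bc (D.map f) A).left := by
  show CompactSpace ↥(pullback A.hom (D.map f))
  exact QuasiCompact.compactSpace_of_compactSpace (pullback.snd A.hom (D.map f))

include hc in
theorem isIso_descend (j : I) (A B : Over (D.obj j))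
    [LocallyOfFinitePresentation A.hom] [QuasiCompact A.hom] [QuasiSeparated A.hom]
    [LocallyOfFinitePresentation B.hom] [QuasiCompact B.hom] [QuasiSeparated B.hom]
    (a : A ⟶ B) [IsIso ((Over.pullback (c.π.app j)).map a)] :
    ∃ (i : I) (f : i ⟶ j), IsIso ((Over.pullback (D.map f)).map a) := by
  obtain ⟨i₂, f₂, t₂, ht₂⟩ := exists_hom_descend_over D c hc j B A
    (inv ((Over.pullback (c.π.app j)).map a))
  have ha := compIso_natural (c.π.app i₂) (D.map f₂) (c.w f₂) a
  have ha' : (Over.pullback (c.π.app i₂)).map ((Over.pullback (D.map f₂)).map a) =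
      (compIso (c.π.app i₂) (D.map f₂) (c.w f₂) A).hom ≫ (Over.pullback (c.π.app j)).map a ≫
        (compIso (c.π.app i₂) (D.map f₂) (c.w f₂) B).inv := by
    rw [← Category.assoc, ← ha, Category.assoc, Iso.hom_inv_id, Category.comp_id]
  have e1 : (Over.pullback (c.π.app i₂)).map ((Over.pullback (D.map f₂)).map a ≫ t₂) =
      (Over.pullback (c.π.app i₂)).map (𝟙 _) := by
    rw [Functor.map_comp, ht₂, CategoryTheory.Functor.map_id, ha']
    simp only [Category.assoc, Iso.inv_hom_id_assoc, IsIso.hom_inv_id_assoc, Iso.hom_inv_id]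
  have e2 : (Over.pullback (c.π.app i₂)).map (t₂ ≫ (Over.pullback (D.map f₂)).map a) =
      (Over.pullback (c.π.app i₂)).map (𝟙 _) := by
    rw [Functor.map_comp, ht₂, CategoryTheory.Functor.map_id, ha']
    simp only [Category.assoc, Iso.inv_hom_id_assoc, IsIso.inv_hom_id_assoc, Iso.hom_inv_id]
  haveI : CompactSpace (Red.bc (D.map f₂) A).left := compactSpace_bc' D f₂ A
  haveI : CompactSpace (Red.bc (D.map f₂) B).left := compactSpace_bc' D f₂ B
  haveI : LocallyOfFiniteType (Red.bc (D.map f₂) A).hom := by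
    show LocallyOfFiniteType (pullback.snd A.hom (D.map f₂)); infer_instance
  haveI : LocallyOfFiniteType (Red.bc (D.map f₂) B).hom := by
    show LocallyOfFiniteType (pullback.snd B.hom (D.map f₂)); infer_instance
  obtain ⟨i₃, g₃, E1⟩ := map_eq_eventually D c hc i₂ _ _ e1
  obtain ⟨i₄, g₄, E2⟩ := map_eq_eventually D c hc i₂ _ _ e2
  obtain ⟨k, b₃, b₄, hb⟩ := IsCofiltered.cospan g₃ g₄
  obtain ⟨ψ, hψ⟩ : ∃ ψ : k ⟶ i₂, ψ = b₃ ≫ g₃ := ⟨_, rfl⟩
  have E1' := map_eq_comp (D.map b₃) (D.map g₃) (c := D.map ψ) (by rw [hψ, D.map_comp]) _ _ E1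
  have E2' := map_eq_comp (D.map b₄) (D.map g₄) (c := D.map ψ) (by rw [hψ, hb, D.map_comp]) _ _ E2
  haveI : IsIso ((Over.pullback (D.map ψ)).map ((Over.pullback (D.map f₂)).map a)) :=
    ⟨(Over.pullback (D.map ψ)).map t₂, by rw [← Functor.map_comp, E1', CategoryTheory.Functor.map_id],
      by rw [← Functor.map_comp, E2', CategoryTheory.Functor.map_id]⟩
  exact ⟨k, ψ ≫ f₂, isIso_comp' (D.map ψ) (D.map f₂) (D.map_comp ψ f₂).symm a⟩

include hc in
theorem cov_descend (j : I) (A : Over (D.obj j))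
    [LocallyOfFinitePresentation A.hom] [QuasiCompact A.hom] [QuasiSeparated A.hom]
    (h : IsFppfCov ((Over.pullback (c.π.app j)).obj A)) :
    ∃ (i : I) (f : i ⟶ j), IsFppfCov ((Over.pullback (D.map f)).obj A) := by
  rw [cov_iff] at h
  obtain ⟨Z, w, hfl, hsurj, hlfp, hqc, hqs⟩ := h
  obtain ⟨i₁, Z₁, v₁, g, h1, h2, h3, hpb⟩ :=
    Groth.Agent.Helper4.LimDesc.exists_descend_finitePresentation D c hc Z.left Z.hom
  let ZO₁ : Over (D.obj i₁) := Over.mk v₁
  let e₁ : Z ≅ (Over.pullback (c.π.app i₁)).obj ZO₁ :=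
    Over.isoMk hpb.isoPullback hpb.isoPullback_hom_snd
  let k := IsCofiltered.min i₁ j
  let a : k ⟶ i₁ := IsCofiltered.minToLeft i₁ j
  let b : k ⟶ j := IsCofiltered.minToRight i₁ j
  let ZOk : Over (D.obj k) := (Over.pullback (D.map a)).obj ZO₁
  let Ak : Over (D.obj k) := (Over.pullback (D.map b)).obj A
  let w' : (Over.pullback (c.π.app k)).obj ZOk ⟶ (Over.pullback (c.π.app k)).obj Ak :=
    (compIso (c.π.app k) (D.map a) (c.w a) ZO₁).hom ≫ e₁.inv ≫ w ≫
      (compIso (c.π.app k) (D.map b) (c.w b) A).inv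
  haveI : LocallyOfFinitePresentation ZOk.hom := by
    show LocallyOfFinitePresentation (pullback.snd v₁ (D.map a)); infer_instance
  haveI : QuasiCompact ZOk.hom := by
    show QuasiCompact (pullback.snd v₁ (D.map a)); infer_instance
  haveI : QuasiSeparated ZOk.hom := by
    show QuasiSeparated (pullback.snd v₁ (D.map a)); infer_instance
  haveI : LocallyOfFinitePresentation Ak.hom := by
    show LocallyOfFinitePresentation (pullback.snd A.hom (D.map b)); infer_instance
  obtain ⟨i₂, f₂, w₂, -⟩ := exists_hom_descend_over D c hc k ZOk Ak w'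
  let Z₂ : Over (D.obj i₂) := (Over.pullback (D.map f₂)).obj ZOk
  haveI : LocallyOfFinitePresentation Z₂.hom := by
    show LocallyOfFinitePresentation (pullback.snd ZOk.hom (D.map f₂)); infer_instance
  haveI : QuasiCompact Z₂.hom := by
    show QuasiCompact (pullback.snd ZOk.hom (D.map f₂)); infer_instance
  haveI : QuasiSeparated Z₂.hom := by
    show QuasiSeparated (pullback.snd ZOk.hom (D.map f₂)); infer_instance
  let θ : (Over.pullback (c.π.app i₂)).obj Z₂ ≅ Z :=
    compIso (c.π.app i₂) (D.map f₂) (c.w f₂) ZOk ≪≫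
      compIso (c.π.app k) (D.map a) (c.w a) ZO₁ ≪≫ e₁.symm
  have hθ : ((Over.pullback (c.π.app i₂)).obj Z₂).hom = θ.hom.left ≫ Z.hom := (Over.w θ.hom).symm
  haveI : IsIso θ.hom.left := (Over.forget _).map_isIso θ.hom
  have hfl₂ : Flat ((Over.pullback (c.π.app i₂)).obj Z₂).hom := by
    rw [hθ]; exact (MorphismProperty.cancel_left_of_respectsIso @Flat θ.hom.left Z.hom).2 hfl
  have hs₂ : Surjective ((Over.pullback (c.π.app i₂)).obj Z₂).hom := by
    rw [hθ]; exact (MorphismProperty.cancel_left_of_respectsIso @Surjective θ.hom.left Z.hom).2 hsurj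
  obtain ⟨i₃, φ₃, hfl₃⟩ := flat_stage D c hc i₂ Z₂ hfl₂
  obtain ⟨i₄, φ₄, hs₄⟩ := surjective_stage D c hc i₂ Z₂ hs₂
  obtain ⟨m, b₃, b₄, hb⟩ := IsCofiltered.cospan φ₃ φ₄
  obtain ⟨ψ, hψ⟩ : ∃ ψ : m ⟶ i₂, ψ = b₃ ≫ φ₃ := ⟨_, rfl⟩
  have hflψ : Flat ((Over.pullback (D.map ψ)).obj Z₂).hom :=
    prop_comp (D.map b₃) (D.map φ₃) (c := D.map ψ) (by rw [hψ, D.map_comp]) @Flat hfl₃
  have hsψ : Surjective ((Over.pullback (D.map ψ)).obj Z₂).hom :=
    prop_comp (D.map b₄) (D.map φ₄) (c := D.map ψ) (by rw [hψ, hb, D.map_comp]) @Surjective hs₄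
  have hcov : IsFppfCov ((Over.pullback (D.map ψ)).obj ((Over.pullback (D.map f₂)).obj Ak)) := by
    rw [cov_iff]
    refine ⟨(Over.pullback (D.map ψ)).obj Z₂, (Over.pullback (D.map ψ)).map w₂, hflψ, hsψ, ?_, ?_, ?_⟩
    · show LocallyOfFinitePresentation (pullback.snd Z₂.hom (D.map ψ)); infer_instance
    · show QuasiCompact (pullback.snd Z₂.hom (D.map ψ)); infer_instance
    · show QuasiSeparated (pullback.snd Z₂.hom (D.map ψ)); infer_instance
  have hcov2 := cov_iso (compIso (D.map ψ) (D.map f₂) (c := D.map (ψ ≫ f₂)) (D.map_comp ψ f₂).symm Ak)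
    hcov
  have hcov3 := cov_iso (compIso (D.map (ψ ≫ f₂)) (D.map b) (c := D.map ((ψ ≫ f₂) ≫ b))
    (D.map_comp (ψ ≫ f₂) b).symm A) hcov2
  exact ⟨m, (ψ ≫ f₂) ≫ b, hcov3⟩

end Lim2

section Main

variable {I : Type u} [SmallCategory I] [IsCofiltered I] (D : I ⥤ Scheme.{u})
  [∀ {i j} (f : i ⟶ j), IsAffineHom (D.map f)] (c : Cone D) (hc : IsLimit c)
  [∀ i, CompactSpace (D.obj i)] [∀ i, QuasiSeparatedSpace (D.obj i)]
  (j : I) (Gj Xj : Over (D.obj j)) [GrpObj Gj] (act : Gj ⊗ Xj ⟶ Xj)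
  [LocallyOfFinitePresentation Gj.hom] [QuasiCompact Gj.hom] [QuasiSeparated Gj.hom]
  [LocallyOfFinitePresentation Xj.hom] [QuasiCompact Xj.hom] [QuasiSeparated Xj.hom]

include hc in
theorem torsor_iff :
    (IsIso (lift (LaxMonoidal.μ (Over.pullback (c.π.app j)) Gj Xj ≫
        (Over.pullback (c.π.app j)).map act)
        (snd (Red.bc (c.π.app j) Gj) (Red.bc (c.π.app j) Xj))) ∧
      IsFppfCov (Red.bc (c.π.app j) Xj)) ↔
    ∃ (i : I) (f : i ⟶ j), IsIso (lift (LaxMonoidal.μ (Over.pullback (D.map f)) Gj Xj ≫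
        (Over.pullback (D.map f)).map act)
        (snd (Red.bc (D.map f) Gj) (Red.bc (D.map f) Xj))) ∧
      IsFppfCov (Red.bc (D.map f) Xj) := by
  haveI : LocallyOfFinitePresentation (Gj ⊗ Xj).hom := by
    show LocallyOfFinitePresentation (pullback.fst Gj.hom Xj.hom ≫ Gj.hom); infer_instance
  haveI : QuasiCompact (Gj ⊗ Xj).hom := by
    show QuasiCompact (pullback.fst Gj.hom Xj.hom ≫ Gj.hom); infer_instance
  haveI : QuasiSeparated (Gj ⊗ Xj).hom := by
    show QuasiSeparated (pullback.fst Gj.hom Xj.hom ≫ Gj.hom); infer_instance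
  haveI : LocallyOfFinitePresentation (Xj ⊗ Xj).hom := by
    show LocallyOfFinitePresentation (pullback.fst Xj.hom Xj.hom ≫ Xj.hom); infer_instance
  haveI : QuasiCompact (Xj ⊗ Xj).hom := by
    show QuasiCompact (pullback.fst Xj.hom Xj.hom ≫ Xj.hom); infer_instance
  haveI : QuasiSeparated (Xj ⊗ Xj).hom := by
    show QuasiSeparated (pullback.fst Xj.hom Xj.hom ≫ Xj.hom); infer_instance
  constructor
  · rintro ⟨hiso, hcov⟩
    haveI : IsIso ((Over.pullback (c.π.app j)).map (lift act (snd Gj Xj))) :=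
      (isIso_shear_iff _ act).1 hiso
    have s1 := isIso_descend D c hc j (Gj ⊗ Xj) (Xj ⊗ Xj) (lift act (snd Gj Xj))
    have s2 := cov_descend D c hc j Xj hcov
    obtain ⟨i, f, h1, h2⟩ := exists_common
      (P := fun i f => IsIso ((Over.pullback (D.map f)).map (lift act (snd Gj Xj))))
      (Q := fun i f => IsFppfCov (Red.bc (D.map f) Xj))
      (fun i f i' g h => by
        haveI := h
        exact isIso_comp (D.map g) (D.map f) (D.map_comp g f).symm _)
      (fun i f i' g h => cov_comp (D.map g) (D.map f) (D.map_comp g f).symm h) s1 s2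
    exact ⟨i, f, (isIso_shear_iff _ act).2 h1, h2⟩
  · rintro ⟨i, f, hiso, hcov⟩
    haveI : IsIso ((Over.pullback (D.map f)).map (lift act (snd Gj Xj))) :=
      (isIso_shear_iff _ act).1 hiso
    exact ⟨(isIso_shear_iff _ act).2 (isIso_comp (c.π.app i) (D.map f) (c.w f) _),
      cov_comp (c.π.app i) (D.map f) (c.w f) hcov⟩

end Main

end Groth.Agent.Helper7.TorsLim
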