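import Mathlib
import Groth.Agent.Lib.Helper7.QuotLimA
import Groth.Agent.Lib.Helper7.TorsLim
import Groth.Agent.S0114
import Groth.Agent.S5939

/-!
# Representability of quotients by flat equivalence relations over a cofiltered limit (helper7)
-/

set_option autoImplicit false
set_option linter.unusedSectionVars false
set_option linter.style.haveILetI false
universe v u

open CategoryTheory AlgebraicGeometry
open MonoidalCategory CartesianMonoidalCategory CategoryTheory.Limits MonObj GrpObj Functor
open scoped CategoryTheory.Obj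

noncomputable section

namespace Groth.Agent.Helper7.QuotLim

open Groth.Agent.Helper18.ChowTower Groth.Agent.Helper7.GrpHomLim Groth.Agent.Helper7.GrpNormLim
  Groth.Agent.Helper7.GrpSubLim Groth.Agent.Helper7.GrpDescB Groth.Agent.Helper7.TorsLim

section Lim

variable {I : Type u} [SmallCategory I] (D : I ⥤ Scheme.{u}) (c : Cone D)

theorem prop_of_stage (P : MorphismProperty Scheme.{u}) [P.RespectsIso] {i j : I} (φ : i ⟶ j)
    {A B : Over (D.obj j)} (a : A ⟶ B) {Xi Yi : Scheme.{u}} (fi : Xi ⟶ Yi) (gi : Yi ⟶ D.obj i)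
    (pY : Yi ⟶ B.left) (pX : Xi ⟶ A.left) (hY : IsPullback pY gi B.hom (D.map φ))
    (hX : IsPullback pX fi a.left pY) (h : P fi) : P ((Over.pullback (D.map φ)).map a).left := by
  let e : Yi ≅ pullback B.hom (D.map φ) := hY.isoPullback
  have he : e.hom ≫ pullback.fst B.hom (D.map φ) = pY := hY.isoPullback_hom_fst
  have h1 : IsPullback pX (fi ≫ e.hom) a.left (pullback.fst B.hom (D.map φ)) := by
    refine IsPullback.of_iso hX (Iso.refl _) (Iso.refl _) e (Iso.refl _) (by simp) (by simp)
      (by simp) (by simp [he])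
  have h2 := (isPullback_map_left (D.map φ) a).flip
  rw [Groth.Agent.Helper7.LimSep.snd_iff_of_isPullback P h2,
    ← Groth.Agent.Helper7.LimSep.snd_iff_of_isPullback P h1]
  exact (P.cancel_right_of_respectsIso fi e.hom).2 h

variable [IsCofiltered I] [∀ {i j} (f : i ⟶ j), IsAffineHom (D.map f)] (hc : IsLimit c)
  [∀ i, CompactSpace (D.obj i)] [∀ i, QuasiSeparatedSpace (D.obj i)]

include hc in
theorem flat_hom_stage (j : I) {A B : Over (D.obj j)} (a : A ⟶ B)
    [LocallyOfFinitePresentation A.hom] [QuasiCompact A.hom] [QuasiSeparated A.hom]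
    [LocallyOfFinitePresentation B.hom] [QuasiCompact B.hom] [QuasiSeparated B.hom]
    (h : Flat ((Over.pullback (c.π.app j)).map a).left) :
    ∃ (i : I) (f : i ⟶ j), Flat ((Over.pullback (D.map f)).map a).left := by
  haveI := h
  haveI : CompactSpace A.left := QuasiCompact.compactSpace_of_compactSpace A.hom
  haveI : QuasiSeparatedSpace A.left := quasiSeparatedSpace_of_quasiSeparated A.hom
  haveI : CompactSpace B.left := QuasiCompact.compactSpace_of_compactSpace B.hom
  haveI : QuasiSeparatedSpace B.left := quasiSeparatedSpace_of_quasiSeparated B.hom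
  haveI : LocallyOfFinitePresentation a.left :=
    Groth.Agent.Helper7.LfpComp.locallyOfFinitePresentation_of_comp a.left B.hom
      inferInstance (by rw [Over.w a]; infer_instance)
  obtain ⟨i, φ, Xi, Yi, fi, gi, pY, pX, hY, hX, hfl⟩ :=
    Groth.Agent.S2075.result D c hc j a.left B.hom ((Over.pullback (c.π.app j)).map a).left
      (pullback.snd B.hom (c.π.app j)) (pullback.fst B.hom (c.π.app j))
      (pullback.fst A.hom (c.π.app j))
      (IsPullback.of_hasPullback B.hom (c.π.app j)) (isPullback_map_left (c.π.app j) a).flip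
  exact ⟨i, φ, prop_of_stage D @Flat φ a fi gi pY pX hY hX hfl⟩

include hc in
theorem surj_hom_stage (j : I) {A B : Over (D.obj j)} (a : A ⟶ B)
    [LocallyOfFinitePresentation A.hom] [QuasiCompact A.hom] [QuasiSeparated A.hom]
    [LocallyOfFinitePresentation B.hom] [QuasiCompact B.hom] [QuasiSeparated B.hom]
    (h : Surjective ((Over.pullback (c.π.app j)).map a).left) :
    ∃ (i : I) (f : i ⟶ j), Surjective ((Over.pullback (D.map f)).map a).left := by
  haveI := h
  haveI : LocallyOfFinitePresentation (a.left ≫ B.hom) := by rw [Over.w a]; infer_instance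
  haveI : QuasiCompact (a.left ≫ B.hom) := by rw [Over.w a]; infer_instance
  haveI : QuasiSeparated (a.left ≫ B.hom) := by rw [Over.w a]; infer_instance
  obtain ⟨i, φ, Xi, Yi, fi, gi, pY, pX, hY, hX, hfl⟩ :=
    Groth.Agent.S2581.result D c hc j a.left B.hom ((Over.pullback (c.π.app j)).map a).left
      (pullback.snd B.hom (c.π.app j)) (pullback.fst B.hom (c.π.app j))
      (pullback.fst A.hom (c.π.app j))
      (IsPullback.of_hasPullback B.hom (c.π.app j)) (isPullback_map_left (c.π.app j) a).flip
  exact ⟨i, φ, prop_of_stage D @Surjective φ a fi gi pY pX hY hX hfl⟩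

include hc in
theorem flat_hom_ev (j : I) {A B : Over (D.obj j)} (a : A ⟶ B)
    [LocallyOfFinitePresentation A.hom] [QuasiCompact A.hom] [QuasiSeparated A.hom]
    [LocallyOfFinitePresentation B.hom] [QuasiCompact B.hom] [QuasiSeparated B.hom]
    (h : Flat ((Over.pullback (c.π.app j)).map a).left) :
    Ev (fun i (f : i ⟶ j) => Flat ((Over.pullback (D.map f)).map a).left) :=
  ⟨fun _ f _ g h => hom_prop_comp (D.map g) (D.map f) (D.map_comp g f).symm @Flat a h,
    flat_hom_stage D c hc j a h⟩

include hc in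
theorem surj_hom_ev (j : I) {A B : Over (D.obj j)} (a : A ⟶ B)
    [LocallyOfFinitePresentation A.hom] [QuasiCompact A.hom] [QuasiSeparated A.hom]
    [LocallyOfFinitePresentation B.hom] [QuasiCompact B.hom] [QuasiSeparated B.hom]
    (h : Surjective ((Over.pullback (c.π.app j)).map a).left) :
    Ev (fun i (f : i ⟶ j) => Surjective ((Over.pullback (D.map f)).map a).left) :=
  ⟨fun _ f _ g h => hom_prop_comp (D.map g) (D.map f) (D.map_comp g f).symm @Surjective a h,
    surj_hom_stage D c hc j a h⟩

end Lim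

section Core

variable {I : Type u} [SmallCategory I] [IsCofiltered I] (D : I ⥤ Scheme.{u})
  [∀ {i j} (f : i ⟶ j), IsAffineHom (D.map f)] (c : Cone D) (hc : IsLimit c)
  [∀ i, CompactSpace (D.obj i)] [∀ i, QuasiSeparatedSpace (D.obj i)]

include hc in
theorem core (j : I) (Xj Rj Yj : Over (D.obj j))
    [LocallyOfFinitePresentation Xj.hom] [QuasiCompact Xj.hom] [QuasiSeparated Xj.hom]
    [LocallyOfFinitePresentation Rj.hom] [QuasiCompact Rj.hom] [QuasiSeparated Rj.hom]
    [LocallyOfFinitePresentation Yj.hom] [QuasiCompact Yj.hom] [QuasiSeparated Yj.hom]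
    (sj tj : Rj ⟶ Xj) (pj : Xj ⟶ Yj) [Mono (lift sj tj)]
    (hpb : IsPullback ((Over.pullback (c.π.app j)).map sj) ((Over.pullback (c.π.app j)).map tj)
      ((Over.pullback (c.π.app j)).map pj) ((Over.pullback (c.π.app j)).map pj))
    (hfl : Flat ((Over.pullback (c.π.app j)).map pj).left)
    (hsu : Surjective ((Over.pullback (c.π.app j)).map pj).left) :
    ∃ (i : I) (f : i ⟶ j), Quot ((Over.pullback (D.map f)).map sj)
      ((Over.pullback (D.map f)).map tj) := by
  -- the kernel pair of `pj`
  let K : Over (D.obj j) := pullback pj pj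
  let k₁ : K ⟶ Xj := pullback.fst pj pj
  let k₂ : K ⟶ Xj := pullback.snd pj pj
  have hK : IsPullback k₁ k₂ pj pj := IsPullback.of_hasPullback pj pj
  have hKl : IsPullback k₁.left k₂.left pj.left pj.left := hK.map (Over.forget _)
  haveI : QuasiCompact (pj.left ≫ Yj.hom) := by rw [Over.w pj]; infer_instance
  haveI : QuasiSeparated (pj.left ≫ Yj.hom) := by rw [Over.w pj]; infer_instance
  haveI : QuasiCompact pj.left := QuasiCompact.of_comp pj.left Yj.hom
  haveI : QuasiSeparated pj.left := QuasiSeparated.of_comp pj.left Yj.hom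
  haveI : LocallyOfFinitePresentation pj.left :=
    Groth.Agent.Helper7.LfpComp.locallyOfFinitePresentation_of_comp pj.left Yj.hom
      inferInstance (by rw [Over.w pj]; infer_instance)
  haveI : QuasiCompact k₁.left :=
    MorphismProperty.of_isPullback (P := @QuasiCompact) hKl.flip inferInstance
  haveI : QuasiSeparated k₁.left :=
    MorphismProperty.of_isPullback (P := @QuasiSeparated) hKl.flip inferInstance
  haveI : QuasiCompact K.hom := by rw [← Over.w k₁]; infer_instance
  haveI : QuasiSeparated K.hom := by rw [← Over.w k₁]; infer_instance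
  haveI : CompactSpace K.left := QuasiCompact.compactSpace_of_compactSpace K.hom
  haveI : QuasiSeparatedSpace K.left := quasiSeparatedSpace_of_quasiSeparated K.hom
  haveI : LocallyOfFiniteType (Xj ⊗ Xj).hom := by
    show LocallyOfFiniteType (pullback.fst Xj.hom Xj.hom ≫ Xj.hom); infer_instance
  haveI : CompactSpace Rj.left := QuasiCompact.compactSpace_of_compactSpace Rj.hom
  haveI : LocallyOfFiniteType Yj.hom := inferInstance
  -- the four eventually-true conditions
  have E1 := flat_hom_ev D c hc j pj hfl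
  have E2 := surj_hom_ev D c hc j pj hsu
  have E3 := eqAt_ev D c hc j (sj ≫ pj) (tj ≫ pj) (by
    rw [Functor.map_comp, Functor.map_comp, hpb.w])
  have E4 : Ev (fun i (f : i ⟶ j) => Fact D (lift k₁ k₂) (lift sj tj) i f) := by
    refine ⟨fun i f l g h => fact_mono D _ _ i f l g h,
      fact_descend' D c hc j K Rj (Xj ⊗ Xj) (lift k₁ k₂) (lift sj tj) ?_⟩
    have hw : (Over.pullback (c.π.app j)).map k₁ ≫ (Over.pullback (c.π.app j)).map pj =
        (Over.pullback (c.π.app j)).map k₂ ≫ (Over.pullback (c.π.app j)).map pj := by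
      rw [← Functor.map_comp, ← Functor.map_comp, hK.w]
    refine ⟨hpb.lift _ _ hw, ?_⟩
    rw [← cancel_mono (OplaxMonoidal.δ (Over.pullback (c.π.app j)) Xj Xj), Category.assoc,
      Functor.OplaxMonoidal.lift_δ, Functor.OplaxMonoidal.lift_δ]
    apply CartesianMonoidalCategory.hom_ext
    · simp only [Category.assoc, lift_fst]
      rw [hpb.lift_fst]
    · simp only [Category.assoc, lift_snd]
      rw [hpb.lift_snd]
  obtain ⟨i, f, ⟨⟨h1, h2⟩, h3⟩, h4⟩ := (((E1.and E2).and E3).and E4).2
  refine ⟨i, f, (Over.pullback (D.map f)).obj Yj, (Over.pullback (D.map f)).map pj, h1, h2, ?_, ?_⟩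
  · exact MorphismProperty.of_isPullback (P := @LocallyOfFinitePresentation)
      (isPullback_map_left (D.map f) pj).flip inferInstance
  · haveI : Mono ((Over.pullback (D.map f)).map (lift sj tj)) := inferInstance
    exact isPullback_of_fact (Over.pullback (D.map f)) sj tj pj k₁ k₂
      (hK.map (Over.pullback (D.map f))) h3 h4

end Core

section Forward

variable {I : Type u} [SmallCategory I] [IsCofiltered I] (D : I ⥤ Scheme.{u})
  [∀ {i j} (f : i ⟶ j), IsAffineHom (D.map f)] (c : Cone D) (hc : IsLimit c)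
  [∀ i, CompactSpace (D.obj i)] [∀ i, QuasiSeparatedSpace (D.obj i)]

omit [IsCofiltered I] [∀ {i j} (f : i ⟶ j), IsAffineHom (D.map f)]
  [∀ i, CompactSpace (D.obj i)] [∀ i, QuasiSeparatedSpace (D.obj i)] in
theorem fp_bc {S S' : Scheme.{u}} (ψ : S' ⟶ S) (A : Over S) [LocallyOfFinitePresentation A.hom]
    [QuasiCompact A.hom] [QuasiSeparated A.hom] :
    LocallyOfFinitePresentation ((Over.pullback ψ).obj A).hom ∧
      QuasiCompact ((Over.pullback ψ).obj A).hom ∧ QuasiSeparated ((Over.pullback ψ).obj A).hom := by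
  refine ⟨?_, ?_, ?_⟩
  · show LocallyOfFinitePresentation (pullback.snd A.hom ψ); infer_instance
  · show QuasiCompact (pullback.snd A.hom ψ); infer_instance
  · show QuasiSeparated (pullback.snd A.hom ψ); infer_instance

include hc in
theorem forward (j : I) (Xj Rj : Over (D.obj j))
    [LocallyOfFinitePresentation Xj.hom] [QuasiCompact Xj.hom] [QuasiSeparated Xj.hom]
    [LocallyOfFinitePresentation Rj.hom] [QuasiCompact Rj.hom] [QuasiSeparated Rj.hom]
    (sj tj : Rj ⟶ Xj) [Mono (lift sj tj)]
    (h : Quot ((Over.pullback (c.π.app j)).map sj) ((Over.pullback (c.π.app j)).map tj)) :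
    ∃ (i : I) (f : i ⟶ j), Quot ((Over.pullback (D.map f)).map sj)
      ((Over.pullback (D.map f)).map tj) := by
  obtain ⟨Y, p, hfl, hsu, hlfp, hpb⟩ := h
  haveI := hfl
  haveI := hsu
  haveI := hlfp
  obtain ⟨hX1, hX2, hX3⟩ := fp_bc (c.π.app j) Xj
  obtain ⟨hR1, hR2, hR3⟩ := fp_bc (c.π.app j) Rj
  haveI := hX1
  haveI := hX2
  haveI := hX3
  haveI := hR2
  -- `Y` is of finite presentation over the limit
  haveI : LocallyOfFinitePresentation (p.left ≫ Y.hom) := by rw [Over.w p]; infer_instance
  haveI : QuasiCompact (p.left ≫ Y.hom) := by rw [Over.w p]; infer_instance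
  haveI : QuasiSeparated (p.left ≫ Y.hom) := by rw [Over.w p]; infer_instance
  haveI hYlfp : LocallyOfFinitePresentation Y.hom := Groth.Agent.S0114.result p.left Y.hom
  haveI : QuasiCompact (((Over.pullback (c.π.app j)).map sj).left ≫
      ((Over.pullback (c.π.app j)).obj Xj).hom) := by
    rw [Over.w]; infer_instance
  haveI : QuasiCompact ((Over.pullback (c.π.app j)).map sj).left :=
    QuasiCompact.of_comp _ ((Over.pullback (c.π.app j)).obj Xj).hom
  haveI : QuasiCompact p.left :=
    qc_of_isPullback p.left ((Over.pullback (c.π.app j)).map sj).left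
      ((Over.pullback (c.π.app j)).map tj).left (hpb.map (Over.forget _))
  obtain ⟨hYqc, hYqs⟩ := Groth.Agent.S5939.result p.left Y.hom
  haveI := hYqc
  haveI := hYqs
  -- descend `Y`
  obtain ⟨i₁, Y₁, v₁, g₁, h1, h2, h3, hpbY⟩ :=
    Groth.Agent.Helper4.LimDesc.exists_descend_finitePresentation D c hc Y.left Y.hom
  let YO₁ : Over (D.obj i₁) := Over.mk v₁
  haveI : LocallyOfFinitePresentation YO₁.hom := h1
  haveI : QuasiCompact YO₁.hom := h2
  haveI : QuasiSeparated YO₁.hom := h3
  let e₁ : Y ≅ (Over.pullback (c.π.app i₁)).obj YO₁ :=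
    Over.isoMk hpbY.isoPullback hpbY.isoPullback_hom_snd
  let k := IsCofiltered.min i₁ j
  let a : k ⟶ i₁ := IsCofiltered.minToLeft i₁ j
  let b : k ⟶ j := IsCofiltered.minToRight i₁ j
  obtain ⟨hYk1, hYk2, hYk3⟩ := fp_bc (D.map a) YO₁
  obtain ⟨hXk1, hXk2, hXk3⟩ := fp_bc (D.map b) Xj
  obtain ⟨hRk1, hRk2, hRk3⟩ := fp_bc (D.map b) Rj
  haveI := hYk1
  haveI := hYk2
  haveI := hYk3
  haveI := hXk1
  haveI := hXk2
  haveI := hXk3
  haveI := hRk1
  haveI := hRk2
  haveI := hRk3
  haveI : CompactSpace ((Over.pullback (D.map b)).obj Xj).left :=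
    QuasiCompact.compactSpace_of_compactSpace ((Over.pullback (D.map b)).obj Xj).hom
  haveI : QuasiSeparatedSpace ((Over.pullback (D.map b)).obj Xj).left :=
    quasiSeparatedSpace_of_quasiSeparated ((Over.pullback (D.map b)).obj Xj).hom
  obtain ⟨l, g, pl, hpl⟩ := exists_hom_descend_over' D c hc k ((Over.pullback (D.map b)).obj Xj)
    ((Over.pullback (D.map a)).obj YO₁)
    ((compIso (c.π.app k) (D.map b) (c.w b) Xj).hom ≫ p ≫ e₁.hom ≫
      (compIso (c.π.app k) (D.map a) (c.w a) YO₁).inv)
  obtain ⟨hYl1, hYl2, hYl3⟩ := fp_bc (D.map g) ((Over.pullback (D.map a)).obj YO₁)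
  obtain ⟨hXl1, hXl2, hXl3⟩ := fp_bc (D.map g) ((Over.pullback (D.map b)).obj Xj)
  obtain ⟨hRl1, hRl2, hRl3⟩ := fp_bc (D.map g) ((Over.pullback (D.map b)).obj Rj)
  haveI := hYl1
  haveI := hYl2
  haveI := hYl3
  haveI := hXl1
  haveI := hXl2
  haveI := hXl3
  haveI := hRl1
  haveI := hRl2
  haveI := hRl3
  haveI : Mono ((Over.pullback (D.map b)).map (lift sj tj)) := inferInstance
  haveI := mono_lift_map (Over.pullback (D.map b)) sj tj
  haveI : Mono ((Over.pullback (D.map g)).map (lift ((Over.pullback (D.map b)).map sj)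
      ((Over.pullback (D.map b)).map tj))) := inferInstance
  haveI := mono_lift_map (Over.pullback (D.map g)) ((Over.pullback (D.map b)).map sj)
    ((Over.pullback (D.map b)).map tj)
  -- comparison isomorphisms with the objects over the limit
  let θX := compIso (c.π.app l) (D.map g) (c.w g) ((Over.pullback (D.map b)).obj Xj) ≪≫
    compIso (c.π.app k) (D.map b) (c.w b) Xj
  let θR := compIso (c.π.app l) (D.map g) (c.w g) ((Over.pullback (D.map b)).obj Rj) ≪≫
    compIso (c.π.app k) (D.map b) (c.w b) Rj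
  let θY := compIso (c.π.app l) (D.map g) (c.w g) ((Over.pullback (D.map a)).obj YO₁) ≪≫
    compIso (c.π.app k) (D.map a) (c.w a) YO₁ ≪≫ e₁.symm
  have hs : (Over.pullback (c.π.app l)).map ((Over.pullback (D.map g)).map
      ((Over.pullback (D.map b)).map sj)) ≫ θX.hom =
      θR.hom ≫ (Over.pullback (c.π.app j)).map sj := by
    simp only [θX, θR, Iso.trans_hom, Category.assoc]
    rw [← Category.assoc, compIso_natural, Category.assoc, compIso_natural]
  have ht : (Over.pullback (c.π.app l)).map ((Over.pullback (D.map g)).map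
      ((Over.pullback (D.map b)).map tj)) ≫ θX.hom =
      θR.hom ≫ (Over.pullback (c.π.app j)).map tj := by
    simp only [θX, θR, Iso.trans_hom, Category.assoc]
    rw [← Category.assoc, compIso_natural, Category.assoc, compIso_natural]
  have hp : (Over.pullback (c.π.app l)).map pl = θX.hom ≫ p ≫ θY.inv := by
    rw [hpl]
    simp only [θX, θY, Iso.trans_hom, Iso.trans_inv, Iso.symm_inv, Category.assoc]
  have hpb' : IsPullback
      ((Over.pullback (c.π.app l)).map ((Over.pullback (D.map g)).map
        ((Over.pullback (D.map b)).map sj)))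
      ((Over.pullback (c.π.app l)).map ((Over.pullback (D.map g)).map
        ((Over.pullback (D.map b)).map tj)))
      ((Over.pullback (c.π.app l)).map pl) ((Over.pullback (c.π.app l)).map pl) := by
    refine IsPullback.of_iso hpb θR.symm θX.symm θX.symm θY.symm ?_ ?_ ?_ ?_
    · rw [Iso.symm_hom, Iso.symm_hom, Iso.comp_inv_eq, Category.assoc, hs, Iso.inv_hom_id_assoc]
    · rw [Iso.symm_hom, Iso.symm_hom, Iso.comp_inv_eq, Category.assoc, ht, Iso.inv_hom_id_assoc]
    · rw [Iso.symm_hom, Iso.symm_hom, hp, Iso.inv_hom_id_assoc]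
    · rw [Iso.symm_hom, Iso.symm_hom, hp, Iso.inv_hom_id_assoc]
  haveI : IsIso θX.hom.left := (Over.forget _).map_isIso θX.hom
  haveI : IsIso θY.inv.left := (Over.forget _).map_isIso θY.inv
  have hfl' : Flat ((Over.pullback (c.π.app l)).map pl).left := by
    rw [hp, Over.comp_left, Over.comp_left, MorphismProperty.cancel_left_of_respectsIso @Flat,
      MorphismProperty.cancel_right_of_respectsIso @Flat]
    exact hfl
  have hsu' : Surjective ((Over.pullback (c.π.app l)).map pl).left := by
    rw [hp, Over.comp_left, Over.comp_left,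
      MorphismProperty.cancel_left_of_respectsIso @Surjective,
      MorphismProperty.cancel_right_of_respectsIso @Surjective]
    exact hsu
  obtain ⟨m, f', hq⟩ := core D c hc l _ _ _ _ _ pl hpb' hfl' hsu'
  have hq2 := (quot_comp (D.map f') (D.map g) (D.map_comp f' g).symm
    ((Over.pullback (D.map b)).map sj) ((Over.pullback (D.map b)).map tj)).1 hq
  have hq3 := (quot_comp (D.map (f' ≫ g)) (D.map b) (D.map_comp (f' ≫ g) b).symm sj tj).1 hq2
  exact ⟨m, (f' ≫ g) ≫ b, hq3⟩

include hc in
theorem main (j : I) (Xj Rj : Over (D.obj j))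
    [LocallyOfFinitePresentation Xj.hom] [QuasiCompact Xj.hom] [QuasiSeparated Xj.hom]
    [LocallyOfFinitePresentation Rj.hom] [QuasiCompact Rj.hom] [QuasiSeparated Rj.hom]
    (sj tj : Rj ⟶ Xj) [Mono (lift sj tj)] :
    Quot ((Over.pullback (c.π.app j)).map sj) ((Over.pullback (c.π.app j)).map tj) ↔
    ∃ (i : I) (f : i ⟶ j), Quot ((Over.pullback (D.map f)).map sj)
      ((Over.pullback (D.map f)).map tj) := by
  constructor
  · exact forward D c hc j Xj Rj sj tj
  · rintro ⟨i, f, h⟩
    exact (quot_comp (c.π.app i) (D.map f) (c.w f) sj tj).1 (quot_bc (c.π.app i) _ _ h)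

end Forward

end Groth.Agent.Helper7.QuotLim
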