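import Mathlib
import Groth.Agent.Lib.Helper7.QuotLimB

/-!
# Representability of `G/G'` over a cofiltered limit (helper7)
-/

set_option autoImplicit false
set_option linter.unusedSectionVars false
set_option linter.style.haveILetI false
universe v u

open CategoryTheory AlgebraicGeometry
open MonoidalCategory CartesianMonoidalCategory CategoryTheory.Limits MonObj GrpObj Functor
open scoped CategoryTheory.Obj

noncomputable section

namespace Groth.Agent.Helper7.QuotLim

open Groth.Agent.Helper18.ChowTower Groth.Agent.Helper7.GrpHomLim Groth.Agent.Helper7.GrpNormLim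
  Groth.Agent.Helper7.GrpSubLim Groth.Agent.Helper7.GrpDescB Groth.Agent.Helper7.TorsLim

section General

variable {C : Type u} [Category.{v} C] [CartesianMonoidalCategory C]

theorem mono_shear {G H : C} [GrpObj G] (u : H ⟶ G) [Mono u] :
    Mono (lift ((G ◁ u) ≫ μ[G]) (fst G H)) := by
  constructor
  intro T x y h
  have h1 : x ≫ fst G H = y ≫ fst G H := by
    have := congrArg (· ≫ snd G G) h
    simpa using this
  have h2 : x ≫ (G ◁ u) ≫ μ[G] = y ≫ (G ◁ u) ≫ μ[G] := by
    have := congrArg (· ≫ fst G G) h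
    simpa using this
  have key : ∀ z : T ⟶ G ⊗ H, z ≫ (G ◁ u) ≫ μ[G] = (z ≫ fst G H) * (z ≫ snd G H ≫ u) := by
    intro z
    rw [Hom.mul_def, ← Category.assoc]
    congr 1
    apply CartesianMonoidalCategory.hom_ext <;> simp
  rw [key, key, h1] at h2
  have h3 : x ≫ snd G H ≫ u = y ≫ snd G H ≫ u := mul_left_cancel h2
  have h4 : x ≫ snd G H = y ≫ snd G H := by
    rw [← cancel_mono u]
    simpa using h3
  exact CartesianMonoidalCategory.hom_ext _ _ h1 h4

end General

section Sch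

theorem quot_grp_iff {B B' : Scheme.{u}} (ψ : B' ⟶ B) {G H : Over B} [GrpObj G] (u : H ⟶ G) :
    Quot ((Over.pullback ψ).map ((G ◁ u) ≫ μ[G])) ((Over.pullback ψ).map (fst G H)) ↔
    ∃ (Q : Over B') (p : Red.bc ψ G ⟶ Q), Flat p.left ∧ Surjective p.left ∧
      LocallyOfFinitePresentation p.left ∧
      IsPullback ((Red.bc ψ G ◁ (Over.pullback ψ).map u) ≫ μ[Red.bc ψ G])
        (fst (Red.bc ψ G) (Red.bc ψ H)) p p := by
  have hs : (Over.pullback ψ).map ((G ◁ u) ≫ μ[G]) =
      OplaxMonoidal.δ (Over.pullback ψ) G H ≫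
        (Red.bc ψ G ◁ (Over.pullback ψ).map u) ≫ μ[Red.bc ψ G] := by
    rw [Functor.map_comp, Functor.Monoidal.map_whiskerLeft, obj.μ_def]
    simp only [Category.assoc]
  have ht : (Over.pullback ψ).map (fst G H) =
      OplaxMonoidal.δ (Over.pullback ψ) G H ≫ fst (Red.bc ψ G) (Red.bc ψ H) :=
    (Functor.OplaxMonoidal.δ_fst (Over.pullback ψ) G H).symm
  constructor
  · intro h
    exact quot_iso _ _ _ _ (Functor.Monoidal.μIso (Over.pullback ψ) G H).symm (Iso.refl _)
      (by rw [Iso.refl_hom, Category.comp_id, hs]; rfl)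
      (by rw [Iso.refl_hom, Category.comp_id, ht]; rfl) h
  · intro h
    have h' : Quot ((Red.bc ψ G ◁ (Over.pullback ψ).map u) ≫ μ[Red.bc ψ G])
        (fst (Red.bc ψ G) (Red.bc ψ H)) := h
    exact quot_iso _ _ _ _ (Functor.Monoidal.μIso (Over.pullback ψ) G H) (Iso.refl _)
      (by rw [Iso.refl_hom, Category.comp_id, hs]; simp)
      (by rw [Iso.refl_hom, Category.comp_id, ht]; simp) h'

end Sch

section Main

variable {I : Type u} [SmallCategory I] [IsCofiltered I] (D : I ⥤ Scheme.{u})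
  [∀ {i j} (f : i ⟶ j), IsAffineHom (D.map f)] (c : Cone D) (hc : IsLimit c)
  [∀ i, CompactSpace (D.obj i)] [∀ i, QuasiSeparatedSpace (D.obj i)]

include hc in
theorem main_grp (j : I) (Gj G'j : Over (D.obj j)) [GrpObj Gj] [GrpObj G'j]
    [LocallyOfFinitePresentation Gj.hom] [QuasiCompact Gj.hom] [QuasiSeparated Gj.hom]
    [LocallyOfFinitePresentation G'j.hom] [QuasiCompact G'j.hom] [QuasiSeparated G'j.hom]
    (uj : G'j ⟶ Gj) [Mono uj] :
    (∃ (Q : Over c.pt) (p : Red.bc (c.π.app j) Gj ⟶ Q), Flat p.left ∧ Surjective p.left ∧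
      LocallyOfFinitePresentation p.left ∧
      IsPullback ((Red.bc (c.π.app j) Gj ◁ (Over.pullback (c.π.app j)).map uj) ≫
        μ[Red.bc (c.π.app j) Gj]) (fst (Red.bc (c.π.app j) Gj) (Red.bc (c.π.app j) G'j)) p p) ↔
    ∃ (i : I) (f : i ⟶ j), ∃ (Q : Over (D.obj i)) (p : Red.bc (D.map f) Gj ⟶ Q),
      Flat p.left ∧ Surjective p.left ∧ LocallyOfFinitePresentation p.left ∧
      IsPullback ((Red.bc (D.map f) Gj ◁ (Over.pullback (D.map f)).map uj) ≫
        μ[Red.bc (D.map f) Gj]) (fst (Red.bc (D.map f) Gj) (Red.bc (D.map f) G'j)) p p := by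
  haveI := mono_shear uj
  haveI : LocallyOfFinitePresentation (Gj ⊗ G'j).hom := by
    show LocallyOfFinitePresentation (pullback.fst Gj.hom G'j.hom ≫ Gj.hom); infer_instance
  haveI := qc_tensor Gj G'j
  haveI := qs_tensor Gj G'j
  refine Iff.trans (quot_grp_iff (c.π.app j) uj).symm
    (Iff.trans (main D c hc j Gj (Gj ⊗ G'j) ((Gj ◁ uj) ≫ μ[Gj]) (fst Gj G'j)) ?_)
  constructor
  · rintro ⟨i, f, h⟩
    exact ⟨i, f, (quot_grp_iff (D.map f) uj).1 h⟩
  · rintro ⟨i, f, h⟩
    exact ⟨i, f, (quot_grp_iff (D.map f) uj).2 h⟩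

end Main

end Groth.Agent.Helper7.QuotLim
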