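import Mathlib
open AlgebraicGeometry CategoryTheory TopologicalSpace Opposite
universe u
namespace Groth.Agent.Helper7

variable {S X Y : Scheme.{u}} [X.Over S] [Y.Over S]

/-- The set of `S`-representatives of a rational map. -/
abbrev SReps (S : Scheme.{u}) {X Y : Scheme.{u}} [X.Over S] [Y.Over S] (f : X ⤏ Y) : Type u :=
  {g : X.PartialMap Y // g.IsOver S ∧ g.toRationalMap = f}

/-- Union of domains of `S`-representatives. -/
abbrev domS (S : Scheme.{u}) {X Y : Scheme.{u}} [X.Over S] [Y.Over S] (f : X ⤏ Y) : X.Opens :=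
  ⨆ g : SReps S f, g.1.domain

set_option backward.isDefEq.respectTransparency false in
noncomputable def coverDomS (S : Scheme.{u}) {X Y : Scheme.{u}} [X.Over S] [Y.Over S] (f : X ⤏ Y) :
    (domS S f).toScheme.OpenCover where
  I₀ := SReps S f
  X g := g.1.domain.toScheme
  f g := X.homOfLE (le_iSup (fun g : SReps S f => g.1.domain) g)
  mem₀ := by
    rw [Scheme.presieve₀_mem_precoverage_iff]
    refine ⟨fun x ↦ ?_, inferInstance⟩
    obtain ⟨g, hg⟩ := TopologicalSpace.Opens.mem_iSup.mp x.2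
    exact ⟨g, ⟨x.1, hg⟩, Subtype.ext (by simp)⟩


set_option backward.isDefEq.respectTransparency false in
noncomputable def glueS (S : Scheme.{u}) {X Y : Scheme.{u}} [X.Over S] [Y.Over S] [IsReduced X]
    [IsSeparated (Y ↘ S)] (f : X ⤏ Y) : (domS S f).toScheme ⟶ Y := by
  refine (coverDomS S f).glueMorphisms (fun g ↦ g.1.hom) ?_
  intro x y
  have := x.2.1
  have := y.2.1
  refine (cancel_epi (isPullback_opens_inf_le
    (le_iSup (fun g : SReps S f => g.1.domain) x)
    (le_iSup (fun g : SReps S f => g.1.domain) y)).isoPullback.hom).mp ?_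
  simp only [coverDomS, IsPullback.isoPullback_hom_fst_assoc,
    IsPullback.isoPullback_hom_snd_assoc]
  have := (Scheme.PartialMap.equiv_iff_of_isSeparated (S := S) (f := x.1) (g := y.1)).mp ?_
  · exact this
  · rw [← Scheme.PartialMap.toRationalMap_eq_iff, x.2.2, y.2.2]

lemma ι_glueS (S : Scheme.{u}) {X Y : Scheme.{u}} [X.Over S] [Y.Over S] [IsReduced X]
    [IsSeparated (Y ↘ S)] (f : X ⤏ Y) (g : SReps S f) :
    X.homOfLE (le_iSup (fun g : SReps S f => g.1.domain) g) ≫ glueS S f = g.1.hom :=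
  (coverDomS S f).ι_glueMorphisms _ _ g

theorem exists_largest_partialMap_over_of_isSeparated
    (S X Y : Scheme.{u}) [X.Over S] [Y.Over S] [IsReduced X] [IsSeparated (Y ↘ S)]
    (f : X ⤏ Y) [f.IsOver S] :
    ∃ g : X.PartialMap Y, g.IsOver S ∧ g.toRationalMap = f ∧
      ∀ h : X.PartialMap Y, h.IsOver S → h.toRationalMap = f →
        ∃ hle : h.domain ≤ g.domain, h = g.restrict h.domain h.dense_domain hle := by
  obtain ⟨h₀, hh₀, hh₀f⟩ := f.exists_partialMap_over (S := S)
  let i₀ : SReps S f := ⟨h₀, hh₀, hh₀f⟩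
  have hle₀ : h₀.domain ≤ domS S f := le_iSup (fun g : SReps S f => g.1.domain) i₀
  have hdense : Dense (domS S f : Set X) := h₀.dense_domain.mono hle₀
  let g : X.PartialMap Y := ⟨domS S f, hdense, glueS S f⟩
  refine ⟨g, ?_, ?_, ?_⟩
  · constructor
    apply (coverDomS S f).hom_ext
    intro (i : SReps S f)
    have := i.2.1
    have h1 : i.1.hom ≫ (Y ↘ S) = i.1.domain.ι ≫ (X ↘ S) := CategoryTheory.comp_over i.1.hom S
    have h2 := ι_glueS S f i
    have hle : i.1.domain ≤ domS S f := le_iSup (fun g : SReps S f => g.1.domain) i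
    change X.homOfLE hle ≫ glueS S f ≫ (Y ↘ S) = X.homOfLE hle ≫ (domS S f).ι ≫ (X ↘ S)
    rw [reassoc_of% h2, h1, Scheme.homOfLE_ι_assoc]
  · rw [← hh₀f, ← Scheme.PartialMap.restrict_toRationalMap g h₀.domain h₀.dense_domain hle₀]
    congr 1
    refine Scheme.PartialMap.ext _ _ rfl ?_
    change X.homOfLE hle₀ ≫ glueS S f = (X.isoOfEq (rfl : h₀.domain = h₀.domain)).hom ≫ h₀.hom
    rw [Scheme.isoOfEq_rfl, Iso.refl_hom, Category.id_comp]
    exact ι_glueS S f i₀
  · intro h hh hhf
    let i : SReps S f := ⟨h, hh, hhf⟩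
    have hle : h.domain ≤ domS S f := le_iSup (fun g : SReps S f => g.1.domain) i
    refine ⟨hle, ?_⟩
    refine Scheme.PartialMap.ext _ _ rfl ?_
    change h.hom = (X.isoOfEq (rfl : h.domain = h.domain)).hom ≫ X.homOfLE hle ≫ glueS S f
    rw [Scheme.isoOfEq_rfl, Iso.refl_hom, Category.id_comp]
    exact (ι_glueS S f i).symm

end Groth.Agent.Helper7
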