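import Mathlib
import Groth.Agent.Lib.Helper14.EtaleReduced

/-!
# Reductions mod `p` of a reduced ring of finite type over `ℤ` are reduced for almost all `p`
-/

universe u

namespace Groth.Agent.Helper7.RedModP

open IsLocalRing TensorProduct

set_option linter.style.haveILetI false

variable (A : Type u) [CommRing A]

/-- a prime ideal contains at most one prime number -/
theorem finite_primes_mem (T : Set (Ideal A)) (hT : T.Finite) (hprime : ∀ Q ∈ T, Q.IsPrime) :
    {p : ℕ | p.Prime ∧ ∃ Q ∈ T, (p : A) ∈ Q}.Finite := by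
  have hsub : {p : ℕ | p.Prime ∧ ∃ Q ∈ T, (p : A) ∈ Q} ⊆
      ⋃ Q ∈ T, {p : ℕ | p.Prime ∧ (p : A) ∈ Q} := by
    rintro p ⟨hp, Q, hQ, hpQ⟩
    simp only [Set.mem_iUnion]
    exact ⟨Q, hQ, hp, hpQ⟩
  refine (Set.Finite.biUnion hT (fun Q hQ => ?_)).subset hsub
  apply Set.Subsingleton.finite
  rintro p ⟨hp, hpQ⟩ q ⟨hq, hqQ⟩
  by_contra hne
  have hcop : Nat.Coprime p q := (Nat.coprime_primes hp hq).mpr hne
  obtain ⟨a, b, hab⟩ := Nat.isCoprime_iff_coprime.mpr hcop
  have h1 : (a : A) * (p : A) + (b : A) * (q : A) = 1 := by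
    have := congrArg (Int.cast : ℤ → A) hab
    push_cast at this
    exact this
  have : (1 : A) ∈ Q := by
    rw [← h1]
    exact Q.add_mem (Q.mul_mem_left _ hpQ) (Q.mul_mem_left _ hqQ)
  exact (hprime Q hQ).ne_top ((Ideal.eq_top_iff_one Q).mpr this)

theorem natCast_mem_prime (P : Ideal A) [P.IsPrime] (h0 : ∀ p : ℕ, p.Prime → (p : A) ∉ P)
    (n : ℕ) (hn : (n : A) ∈ P) : n = 0 := by
  induction n using Nat.recOnMul with
  | zero => rfl
  | one =>
    exfalso
    rw [Nat.cast_one] at hn
    exact (Ideal.IsPrime.ne_top ‹_›) ((Ideal.eq_top_iff_one P).mpr hn)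
  | prime p hp => exact absurd hn (h0 p hp)
  | mul a b iha ihb =>
    rw [Nat.cast_mul] at hn
    rcases Ideal.IsPrime.mem_or_mem ‹_› hn with h | h
    · rw [iha h, zero_mul]
    · rw [ihb h, mul_zero]

/-- localization of a reduced ring of finite type over `ℤ` at a minimal prime of characteristic
zero is formally smooth over `ℤ` -/
theorem isSmoothAt_of_minimal [Algebra.FiniteType ℤ A] [IsReduced A] (P : Ideal A) [P.IsPrime]
    (hP : P ∈ minimalPrimes A) (h0 : ∀ p : ℕ, p.Prime → (p : A) ∉ P) :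
    Algebra.FormallySmooth ℤ (Localization.AtPrime P) := by
  haveI : Subsingleton (PrimeSpectrum (Localization.AtPrime P)) :=
    IsLocalization.subsingleton_primeSpectrum_of_mem_minimalPrimes P hP _
  have hF : IsField (Localization.AtPrime P) :=
    PrimeSpectrum.subsingleton_iff_isField_of_isReduced.mp ‹_›
  letI : Field (Localization.AtPrime P) := hF.toField
  haveI : CharZero (Localization.AtPrime P) := by
    apply charZero_of_inj_zero
    intro n hn
    have h1 : algebraMap A (Localization.AtPrime P) (n : A) = 0 := by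
      rw [map_natCast]; exact hn
    rw [IsLocalization.map_eq_zero_iff P.primeCompl] at h1
    obtain ⟨s, hs⟩ := h1
    have h2 : (n : A) ∈ P := by
      have h3 : (s : A) * (n : A) ∈ P := by rw [hs]; exact P.zero_mem
      exact (Ideal.IsPrime.mem_or_mem ‹_› h3).resolve_left s.2
    exact natCast_mem_prime A P h0 n h2
  haveI : Algebra.EssFiniteType ℤ (Localization.AtPrime P) :=
    Algebra.EssFiniteType.comp ℤ A _
  have hST := IsScalarTower.of_algebraMap_eq' (R := ℤ) (S := ℚ) (A := Localization.AtPrime P)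
    (Subsingleton.elim _ _)
  haveI := hST
  haveI : Algebra.EssFiniteType ℚ (Localization.AtPrime P) :=
    Algebra.EssFiniteType.of_comp ℤ ℚ _
  haveI : Algebra.FormallySmooth ℚ (Localization.AtPrime P) := inferInstance
  haveI : Algebra.FormallySmooth ℤ ℚ := Algebra.FormallySmooth.of_isLocalization (nonZeroDivisors ℤ)
  exact Algebra.FormallySmooth.comp ℤ ℚ _

/-- if `A_g` is smooth over `ℤ` then `A_g / p` is reduced -/
theorem isReduced_quot_of_smooth (B : Type u) [CommRing B] [Algebra.Smooth ℤ B] (p : ℕ)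
    (hp : p.Prime) : IsReduced (B ⧸ Ideal.span {(p : B)}) := by
  haveI hpr : (Ideal.span {(p : ℤ)}).IsPrime :=
    (Ideal.span_singleton_prime (by exact_mod_cast hp.ne_zero)).mpr (Nat.prime_iff_prime_int.mp hp)
  haveI : IsReduced (ℤ ⧸ Ideal.span {(p : ℤ)}) := inferInstance
  haveI : IsReduced ((ℤ ⧸ Ideal.span {(p : ℤ)}) ⊗[ℤ] B) :=
    Groth.Agent.Helper14.isReduced_of_smooth (ℤ ⧸ Ideal.span {(p : ℤ)}) _
  have hmap : (Ideal.span {(p : ℤ)}).map (algebraMap ℤ B) = Ideal.span {(p : B)} := by
    rw [Ideal.map_span, Set.image_singleton, map_natCast]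
  let e := Algebra.TensorProduct.quotIdealMapEquivQuotTensor B (Ideal.span {(p : ℤ)})
  haveI : IsReduced (B ⧸ (Ideal.span {(p : ℤ)}).map (algebraMap ℤ B)) :=
    isReduced_of_injective e.toRingEquiv.toRingHom e.injective
  rw [← hmap]
  infer_instance

theorem main [Algebra.FiniteType ℤ A] [IsReduced A] :
    {p : ℕ | p.Prime ∧ ¬ IsReduced (A ⧸ Ideal.span {(p : A)})}.Finite := by
  classical
  haveI : IsNoetherianRing A := Algebra.FiniteType.isNoetherianRing ℤ A
  haveI : Algebra.FinitePresentation ℤ A :=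
    Algebra.FinitePresentation.of_finiteType.mp inferInstance
  have hMfin : (minimalPrimes A).Finite := minimalPrimes.finite_of_isNoetherianRing A
  have hMprime : ∀ P ∈ minimalPrimes A, P.IsPrime := fun P hP => hP.1.1
  -- primes lying in some minimal prime
  have hS₁ : {p : ℕ | p.Prime ∧ ∃ P ∈ minimalPrimes A, (p : A) ∈ P}.Finite :=
    finite_primes_mem A _ hMfin hMprime
  -- characteristic zero minimal primes
  obtain ⟨M₀, hM₀⟩ : ∃ M₀ : Set (Ideal A), M₀ =
      {P | P ∈ minimalPrimes A ∧ ∀ p : ℕ, p.Prime → (p : A) ∉ P} := ⟨_, rfl⟩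
  have hM₀fin : M₀.Finite := hMfin.subset (by rw [hM₀]; exact fun P hP => hP.1)
  have hM₀prime : ∀ P ∈ M₀, P.IsPrime := fun P hP => by rw [hM₀] at hP; exact hP.1.1.1
  have hopen : IsOpen (Algebra.smoothLocus ℤ A) := Algebra.isOpen_smoothLocus
  obtain ⟨I, hI⟩ : ∃ I : Ideal A, (Algebra.smoothLocus ℤ A)ᶜ = PrimeSpectrum.zeroLocus I := by
    obtain ⟨s, hs⟩ := (PrimeSpectrum.isClosed_iff_zeroLocus _).mp hopen.isClosed_compl
    exact ⟨Ideal.span s, by rw [PrimeSpectrum.zeroLocus_span, hs]⟩
  have hIP : ∀ P ∈ M₀, ¬ I ≤ P := by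
    intro P hP hle
    haveI := hM₀prime P hP
    rw [hM₀] at hP
    have h1 : (⟨P, inferInstance⟩ : PrimeSpectrum A) ∈ Algebra.smoothLocus ℤ A :=
      isSmoothAt_of_minimal A P hP.1 hP.2
    have h2 : (⟨P, inferInstance⟩ : PrimeSpectrum A) ∈ PrimeSpectrum.zeroLocus (I : Set A) := by
      rw [PrimeSpectrum.mem_zeroLocus]; exact hle
    rw [← hI] at h2
    exact h2 h1
  obtain ⟨g, hgI, hgP⟩ : ∃ g ∈ I, ∀ P ∈ M₀, g ∉ P := by
    by_contra hcon
    push Not at hcon
    have hsub : (I : Set A) ⊆ ⋃ P ∈ (hM₀fin.toFinset : Set (Ideal A)), ((id P : Ideal A) : Set A) := by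
      intro c hc
      obtain ⟨P, hP, hcP⟩ := hcon c hc
      simp only [Set.mem_iUnion]
      exact ⟨P, by simpa using hP, hcP⟩
    obtain ⟨P, hP, hJP⟩ := (Ideal.subset_union_prime (s := hM₀fin.toFinset) (f := id) ⊥ ⊥
      (fun P hP _ _ => hM₀prime P (by simpa using hP))).mp hsub
    exact hIP P (by simpa using hP) hJP
  haveI hsm : Algebra.Smooth ℤ (Localization.Away g) := by
    rw [← Algebra.basicOpen_subset_smoothLocus_iff_smooth]
    intro x hx
    by_contra hx'
    have h1 : x ∈ PrimeSpectrum.zeroLocus (I : Set A) := by rw [← hI]; exact hx'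
    exact hx (h1 hgI)
  -- primes which are zero divisors on `A / g`
  have hS₂ : {p : ℕ | p.Prime ∧ ∃ Q ∈ associatedPrimes A (A ⧸ Ideal.span {g}), (p : A) ∈ Q}.Finite :=
    finite_primes_mem A _ (associatedPrimes.finite A _) (fun Q hQ => hQ.isPrime)
  apply (hS₁.union hS₂).subset
  rintro p ⟨hp, hnr⟩
  by_contra hpS
  simp only [Set.mem_union, Set.mem_ofPred_eq, not_or, not_and, not_exists] at hpS
  obtain ⟨hp1, hp2⟩ := hpS
  have hp1' : ∀ P ∈ minimalPrimes A, (p : A) ∉ P := fun P hP => hp1 hp P hP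
  have hp2' : ∀ Q ∈ associatedPrimes A (A ⧸ Ideal.span {g}), (p : A) ∉ Q := fun Q hQ => hp2 hp Q hQ
  apply hnr
  -- the torsion lemma
  have hT : ∀ (m : ℕ) (e : A), g ^ m * e = 0 → e ∈ Ideal.span {(p : A)} := by
    intro m e hme
    let q : Ideal A → ℕ := fun P =>
      if h : ∃ q : ℕ, q.Prime ∧ (q : A) ∈ P then h.choose else 1
    let N : ℕ := ∏ P ∈ hMfin.toFinset, q P
    have hNe : (N : A) * e = 0 := by
      have hnil : (N : A) * e ∈ nilradical A := by
        rw [nilradical, ← Ideal.sInf_minimalPrimes, Ideal.mem_sInf]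
        intro P hP
        haveI : P.IsPrime := hP.1.1
        by_cases hq : ∃ q : ℕ, q.Prime ∧ (q : A) ∈ P
        · have hqP : ((q P : ℕ) : A) ∈ P := by
            simp only [q, dif_pos hq]
            exact hq.choose_spec.2
          have hdvd : q P ∣ N := Finset.dvd_prod_of_mem _ (by simpa using hP)
          obtain ⟨c, hc⟩ := hdvd
          rw [hc, Nat.cast_mul, mul_assoc]
          exact P.mul_mem_right _ hqP
        · push Not at hq
          have hPM₀ : P ∈ M₀ := by rw [hM₀]; exact ⟨hP, hq⟩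
          have h1 : g ^ m * e ∈ P := by rw [hme]; exact P.zero_mem
          have h2 : e ∈ P := by
            rcases Ideal.IsPrime.mem_or_mem ‹_› h1 with h | h
            · exact absurd (Ideal.IsPrime.mem_of_pow_mem ‹_› _ h) (hgP P hPM₀)
            · exact h
          exact P.mul_mem_left _ h2
      rw [nilradical_eq_zero] at hnil
      exact hnil
    have hcop : Nat.Coprime N p := by
      apply Nat.Coprime.prod_left
      intro P hP
      by_cases hq : ∃ q : ℕ, q.Prime ∧ (q : A) ∈ P
      · have hqq : q P = hq.choose := by simp only [q, dif_pos hq]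
        rw [hqq]
        rw [Nat.coprime_primes hq.choose_spec.1 hp]
        intro heq
        have := hq.choose_spec.2
        rw [heq] at this
        exact hp1' P (by simpa using hP) this
      · have hqq : q P = 1 := by simp only [q, dif_neg hq]
        rw [hqq]
        exact Nat.coprime_one_left p
    obtain ⟨a, b, hab⟩ := Nat.isCoprime_iff_coprime.mpr hcop
    have h1 : (a : A) * (N : A) + (b : A) * (p : A) = 1 := by
      have := congrArg (Int.cast : ℤ → A) hab
      push_cast at this
      exact this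
    rw [Ideal.mem_span_singleton']
    refine ⟨(b : A) * e, ?_⟩
    calc (b : A) * e * (p : A) = ((a : A) * (N : A) + (b : A) * (p : A)) * e - (a : A) * ((N : A) * e) := by
          ring
      _ = e := by rw [h1, hNe, mul_zero, sub_zero, one_mul]
  -- `g` is a nonzerodivisor modulo `p`
  have hreg : ∀ x : A, g * x ∈ Ideal.span {(p : A)} → x ∈ Ideal.span {(p : A)} := by
    intro x hx
    rw [Ideal.mem_span_singleton'] at hx
    obtain ⟨y, hy⟩ := hx
    have hyg : y ∈ Ideal.span {g} := by
      by_contra hyn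
      have hy0 : Ideal.Quotient.mk (Ideal.span {g}) y ≠ 0 := by
        rwa [Ne, Ideal.Quotient.eq_zero_iff_mem]
      obtain ⟨Q, hQ, hle⟩ := exists_le_isAssociatedPrime_of_isNoetherianRing A _ hy0
      apply hp2' Q hQ
      apply hle
      rw [Submodule.mem_colon_singleton, Submodule.mem_bot, Algebra.smul_def]
      have : (p : A) * y ∈ Ideal.span {g} := by
        rw [mul_comm, hy]; exact Ideal.mul_mem_right _ _ (Ideal.mem_span_singleton_self g)
      rw [← Ideal.Quotient.eq_zero_iff_mem, map_mul] at this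
      exact this
    rw [Ideal.mem_span_singleton'] at hyg
    obtain ⟨z, hz⟩ := hyg
    have he : g ^ 1 * (x - (p : A) * z) = 0 := by
      rw [pow_one, mul_sub, ← hy, ← hz]; ring
    have := hT 1 _ he
    have h2 : x = (x - (p : A) * z) + (p : A) * z := by ring
    rw [h2]
    exact Ideal.add_mem _ this (Ideal.mul_mem_right _ _ (Ideal.mem_span_singleton_self _))
  have hreg_pow : ∀ (k : ℕ) (x : A), g ^ k * x ∈ Ideal.span {(p : A)} → x ∈ Ideal.span {(p : A)} := by
    intro k
    induction k with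
    | zero => intro x hx; simpa using hx
    | succ k ih =>
      intro x hx
      apply ih
      apply hreg
      rw [← mul_assoc, ← pow_succ']
      exact hx
  -- injectivity of `A / p → A_g / p`
  have hinj : ∀ x : A, algebraMap A (Localization.Away g) x ∈
      Ideal.span {(p : Localization.Away g)} → x ∈ Ideal.span {(p : A)} := by
    intro x hx
    rw [Ideal.mem_span_singleton'] at hx
    obtain ⟨c, hc⟩ := hx
    obtain ⟨⟨a, s⟩, has⟩ := IsLocalization.surj (Submonoid.powers g) c
    simp only at has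
    obtain ⟨k, hk⟩ := s.2
    replace hk : g ^ k = (s : A) := hk
    have h1 : algebraMap A (Localization.Away g) (x * g ^ k) =
        algebraMap A (Localization.Away g) (a * (p : A)) := by
      rw [map_mul, map_mul, ← hc, map_natCast, hk, ← has]; ring
    rw [IsLocalization.eq_iff_exists (Submonoid.powers g)] at h1
    obtain ⟨t, ht⟩ := h1
    obtain ⟨m, hm⟩ := t.2
    replace hm : g ^ m = (t : A) := hm
    have h2 : g ^ m * (g ^ k * x - (p : A) * a) = 0 := by
      rw [hm, mul_sub]
      have : (t : A) * (g ^ k * x) = (t : A) * (x * g ^ k) := by ring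
      rw [this, ht]; ring
    have h3 := hT m _ h2
    apply hreg_pow k
    have h4 : g ^ k * x = (g ^ k * x - (p : A) * a) + (p : A) * a := by ring
    rw [h4]
    exact Ideal.add_mem _ h3 (Ideal.mul_mem_right _ _ (Ideal.mem_span_singleton_self _))
  have hsm' : @Algebra.Smooth ℤ _ (Localization.Away g) _ (Ring.toIntAlgebra _) := by
    convert hsm
    exact Subsingleton.elim _ _
  haveI hred := @isReduced_quot_of_smooth (Localization.Away g) _ hsm' p hp
  constructor
  intro y hy
  obtain ⟨x, rfl⟩ := Ideal.Quotient.mk_surjective y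
  obtain ⟨n, hn⟩ := hy
  rw [← map_pow, Ideal.Quotient.eq_zero_iff_mem] at hn
  rw [Ideal.Quotient.eq_zero_iff_mem]
  apply hinj
  have h1 : (algebraMap A (Localization.Away g) x) ^ n ∈ Ideal.span {(p : Localization.Away g)} := by
    rw [← map_pow]
    rw [Ideal.mem_span_singleton'] at hn ⊢
    obtain ⟨d, hd⟩ := hn
    exact ⟨algebraMap A _ d, by rw [← hd, map_mul, map_natCast]⟩
  have h2 : IsNilpotent (Ideal.Quotient.mk (Ideal.span {(p : Localization.Away g)})
      (algebraMap A (Localization.Away g) x)) :=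
    ⟨n, by rw [← map_pow, Ideal.Quotient.eq_zero_iff_mem]; exact h1⟩
  have h3 := hred.eq_zero _ h2
  rwa [Ideal.Quotient.eq_zero_iff_mem] at h3

end Groth.Agent.Helper7.RedModP
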