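import Mathlib
import Groth.Prelude.Def_Found
import Groth.Agent.Lib.Helper7.RegLim
import Groth.Agent.Lib.Helper14.SmoothReg

/-! A direct limit of smooth algebras with Noetherian fibres is a regular homomorphism (S9308). -/

universe u

namespace Groth.Agent.Helper7.RegHomLim

set_option linter.style.haveILetI false
set_option linter.unusedSectionVars false

open TensorProduct

section Colim

variable {ι : Type u} [Preorder ι] [Nonempty ι] [IsDirectedOrder ι]
  (G' : ι → Type u) [∀ i, CommRing (G' i)]
  (f' : ∀ i j, i ≤ j → G' i →+* G' j) [DirectedSystem G' (fun i j h ↦ f' i j h)]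
  (T : Type u) [CommRing T] (φ : ∀ i, G' i →+* T)

/-- A ring which "is" the colimit of a directed system is isomorphic to `Ring.DirectLimit`. -/
theorem lift_bijective (hφ : ∀ i j hij x, φ j (f' i j hij x) = φ i x)
    (ha : ∀ t : T, ∃ i x, φ i x = t)
    (hb : ∀ i x, φ i x = 0 → ∃ j, ∃ hij : i ≤ j, f' i j hij x = 0) :
    Function.Bijective (Ring.DirectLimit.lift G' (fun i j h ↦ f' i j h) T φ hφ) := by
  constructor
  · rw [injective_iff_map_eq_zero]
    intro z hz
    obtain ⟨i, x, rfl⟩ := Ring.DirectLimit.exists_of z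
    rw [Ring.DirectLimit.lift_of] at hz
    obtain ⟨j, hij, hj⟩ := hb i x hz
    rw [← Ring.DirectLimit.of_f hij, hj, map_zero]
  · intro t
    obtain ⟨i, x, rfl⟩ := ha t
    exact ⟨Ring.DirectLimit.of G' _ i x, by rw [Ring.DirectLimit.lift_of]⟩

theorem isRegularRing_of_colim [IsNoetherianRing T]
    (hφ : ∀ i j hij x, φ j (f' i j hij x) = φ i x)
    (ha : ∀ t : T, ∃ i x, φ i x = t)
    (hb : ∀ i x, φ i x = 0 → ∃ j, ∃ hij : i ≤ j, f' i j hij x = 0)
    (hreg : ∀ i, IsRegularRing (G' i)) : IsRegularRing T := by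
  let e : Ring.DirectLimit G' (fun i j h ↦ f' i j h) ≃+* T :=
    RingEquiv.ofBijective _ (lift_bijective G' f' T φ hφ ha hb)
  haveI : IsNoetherianRing (Ring.DirectLimit G' (fun i j h ↦ f' i j h)) :=
    isNoetherianRing_of_ringEquiv T e.symm
  haveI := Groth.Agent.Helper7.RegLim.main G' f' hreg
  exact IsRegularRing.of_ringEquiv e

end Colim

section Main

variable {R : Type u} [CommRing R] {ι : Type u} [Preorder ι] [IsDirectedOrder ι] [Nonempty ι]
  (G : ι → Type u) [∀ i, CommRing (G i)] [∀ i, Algebra R (G i)]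
  (f : ∀ i j : ι, i ≤ j → (G i →ₐ[R] G j)) [DirectedSystem G (fun i j h => f i j h)]

theorem of_apply (i : ι) (x : G i) :
    DirectLimit.Algebra.of G f i x = (⟦⟨i, x⟩⟧ : DirectLimit G f) := rfl

theorem exists_lift_family {n : ℕ} (x : Fin n → DirectLimit G f) :
    ∃ (i : ι) (x' : Fin n → G i), ∀ k, DirectLimit.Algebra.of G f i (x' k) = x k := by
  classical
  choose ik xk hxk using fun k => DirectLimit.exists_eq_mk f (x k)
  obtain ⟨M, hM⟩ := Finite.exists_le ik
  refine ⟨M, fun k => f (ik k) M (hM k) (xk k), fun k => ?_⟩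
  rw [DirectLimit.Algebra.of_f, hxk k]
  rfl

theorem of_eq_zero (i : ι) (y : G i) (h : DirectLimit.Algebra.of G f i y = 0) :
    ∃ j, ∃ hij : i ≤ j, f i j hij y = 0 := by
  rw [of_apply] at h
  exact (DirectLimit.exists_eq_zero (f := f) ⟨i, y⟩).mp h

theorem flat_directLimit (hfl : ∀ i, Module.Flat R (G i)) : Module.Flat R (DirectLimit G f) := by
  rw [Module.Flat.iff_forall_isTrivialRelation]
  intro l r x hx
  obtain ⟨i, x', hx'⟩ := exists_lift_family G f x
  have h0 : DirectLimit.Algebra.of G f i (∑ k, r k • x' k) = 0 := by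
    rw [map_sum, ← hx]
    refine Finset.sum_congr rfl fun k _ => ?_
    rw [map_smul, hx' k]
  obtain ⟨j, hij, hj⟩ := of_eq_zero G f i _ h0
  have hrel : ∑ k, r k • (f i j hij (x' k)) = 0 := by
    rw [← hj, map_sum]
    refine Finset.sum_congr rfl fun k _ => ?_
    rw [map_smul]
  haveI := hfl j
  obtain ⟨m, a, y, hxy, ha⟩ := Module.Flat.isTrivialRelation_of_sum_smul_eq_zero (R := R)
    (M := G j) (f := r) (x := fun k => f i j hij (x' k)) hrel
  refine ⟨m, a, fun t => DirectLimit.Algebra.of G f j (y t), fun k => ?_, ha⟩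
  have hxy' : f i j hij (x' k) = ∑ t, a k t • y t := hxy k
  rw [← hx' k, ← DirectLimit.Algebra.of_f hij, hxy', map_sum]
  refine Finset.sum_congr rfl fun t _ => ?_
  rw [map_smul]

variable (K : Type u) [CommRing K] [Algebra R K]

/-- Transition maps of the tensored system. -/
noncomputable def tmap (i j : ι) (h : i ≤ j) : K ⊗[R] G i →+* K ⊗[R] G j :=
  (Algebra.TensorProduct.map (AlgHom.id R K) (f i j h)).toRingHom

theorem tmap_apply (i j : ι) (h : i ≤ j) (z : K ⊗[R] G i) :
    tmap G f K i j h z = LinearMap.lTensor K (f i j h).toLinearMap z := by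
  induction z using TensorProduct.induction_on with
  | zero => simp
  | tmul a x => simp [tmap]
  | add x y hx hy => rw [map_add, map_add, hx, hy]

/-- The maps to the tensored colimit. -/
noncomputable def tof (i : ι) : K ⊗[R] G i →+* K ⊗[R] DirectLimit G f :=
  (Algebra.TensorProduct.map (AlgHom.id R K) (DirectLimit.Algebra.of G f i)).toRingHom

theorem tof_tmul (i : ι) (a : K) (x : G i) :
    tof G f K i (a ⊗ₜ x) = a ⊗ₜ DirectLimit.Algebra.of G f i x := by
  simp [tof]

theorem tof_tmap (i j : ι) (h : i ≤ j) (z : K ⊗[R] G i) :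
    tof G f K j (tmap G f K i j h z) = tof G f K i z := by
  induction z using TensorProduct.induction_on with
  | zero => simp
  | tmul a x =>
    have : tmap G f K i j h (a ⊗ₜ x) = a ⊗ₜ f i j h x := by simp [tmap]
    rw [this, tof_tmul, tof_tmul, DirectLimit.Algebra.of_f]
  | add x y hx hy => rw [map_add, map_add, hx, hy, map_add]

instance directedSystem_tmap :
    DirectedSystem (fun i => K ⊗[R] G i) (fun i j h => tmap G f K i j h) where
  map_self i z := by
    induction z using TensorProduct.induction_on with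
    | zero => simp
    | tmul a x =>
      have : tmap G f K i i le_rfl (a ⊗ₜ x) = a ⊗ₜ f i i le_rfl x := by simp [tmap]
      rw [this, DirectedSystem.map_self' f x]
    | add x y hx hy => rw [map_add, hx, hy]
  map_map k j i hij hjk z := by
    induction z using TensorProduct.induction_on with
    | zero => simp
    | tmul a x =>
      have h1 : tmap G f K i j hij (a ⊗ₜ x) = a ⊗ₜ f i j hij x := by simp [tmap]
      have h2 : tmap G f K j k hjk (a ⊗ₜ f i j hij x) = a ⊗ₜ f j k hjk (f i j hij x) := by
        simp [tmap]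
      have h3 : tmap G f K i k (hij.trans hjk) (a ⊗ₜ x) = a ⊗ₜ f i k (hij.trans hjk) x := by
        simp [tmap]
      rw [h1, h2, h3, DirectedSystem.map_map' f hij hjk x]
    | add x y hx hy => rw [map_add, map_add, hx, hy, map_add]

theorem tof_surj (t : K ⊗[R] DirectLimit G f) : ∃ i x, tof G f K i x = t := by
  induction t using TensorProduct.induction_on with
  | zero =>
    obtain ⟨i⟩ := ‹Nonempty ι›
    exact ⟨i, 0, map_zero _⟩
  | tmul a l =>
    obtain ⟨i, x, rfl⟩ := DirectLimit.exists_eq_mk f l
    exact ⟨i, a ⊗ₜ x, tof_tmul G f K i a x⟩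
  | add t₁ t₂ h₁ h₂ =>
    obtain ⟨i, x, rfl⟩ := h₁
    obtain ⟨j, y, rfl⟩ := h₂
    obtain ⟨k, hik, hjk⟩ := exists_ge_ge i j
    exact ⟨k, tmap G f K i k hik x + tmap G f K j k hjk y, by
      rw [map_add, tof_tmap, tof_tmap]⟩

theorem tof_zero_exact (i : ι) (z : K ⊗[R] G i) (hz : tof G f K i z = 0) :
    ∃ j, ∃ hij : i ≤ j, tmap G f K i j hij z = 0 := by
  classical
  let fl : ∀ i j, i ≤ j → G i →ₗ[R] G j := fun i j h => (f i j h).toLinearMap
  haveI : DirectedSystem G (fun i j h => fl i j h) :=
    ⟨fun i x => DirectedSystem.map_self' f x,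
      fun _ _ _ hij hjk x => DirectedSystem.map_map' f hij hjk x⟩
  haveI : DirectedSystem (fun i => K ⊗[R] G i)
      (fun i j h => LinearMap.lTensor K (fl i j h)) :=
    ⟨fun i z => by
        have := DirectedSystem.map_self' (fun i j h => tmap G f K i j h) z
        rwa [tmap_apply] at this,
      fun _ _ _ hij hjk z => by
        have := DirectedSystem.map_map' (fun i j h => tmap G f K i j h) hij hjk z
        rwa [tmap_apply, tmap_apply, tmap_apply] at this⟩
  let θ : DirectLimit G f →ₗ[R] Module.DirectLimit G fl :=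
    DirectLimit.Module.lift R ι G f (fun i => Module.DirectLimit.of R ι G fl i)
      (fun i j hij x => Module.DirectLimit.of_f)
  let ψ : K ⊗[R] DirectLimit G f →ₗ[R]
      Module.DirectLimit (fun i => K ⊗[R] G i) (fun i j h => LinearMap.lTensor K (fl i j h)) :=
    (TensorProduct.directLimitRight fl K).toLinearMap ∘ₗ LinearMap.lTensor K θ
  have hψ : ∀ w : K ⊗[R] G i, ψ (tof G f K i w) =
      Module.DirectLimit.of R ι (fun i => K ⊗[R] G i)
        (fun i j h => LinearMap.lTensor K (fl i j h)) i w := by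
    intro w
    induction w using TensorProduct.induction_on with
    | zero => simp
    | tmul a x =>
      rw [tof_tmul]
      have hψdef : ∀ t, ψ t = TensorProduct.directLimitRight fl K (LinearMap.lTensor K θ t) :=
        fun t => rfl
      rw [hψdef, LinearMap.lTensor_tmul]
      have : θ (DirectLimit.Algebra.of G f i x) = Module.DirectLimit.of R ι G fl i x := rfl
      rw [this, TensorProduct.directLimitRight_tmul_of]
    | add x y hx hy => rw [map_add, map_add, hx, hy, map_add]
  have h0 := hψ z
  rw [hz, map_zero] at h0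
  obtain ⟨j, hij, hj⟩ := Module.DirectLimit.of.zero_exact h0.symm
  exact ⟨j, hij, by rw [tmap_apply]; exact hj⟩

theorem isRegularRing_tensor_directLimit [IsNoetherianRing (K ⊗[R] DirectLimit G f)]
    (hreg : ∀ i, IsRegularRing (K ⊗[R] G i)) : IsRegularRing (K ⊗[R] DirectLimit G f) :=
  isRegularRing_of_colim (fun i => K ⊗[R] G i) (fun i j h => tmap G f K i j h)
    (K ⊗[R] DirectLimit G f) (fun i => tof G f K i) (fun i j hij x => tof_tmap G f K i j hij x)
    (tof_surj G f K) (tof_zero_exact G f K) hreg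

theorem s9308 (hs : ∀ i, Algebra.Smooth R (G i))
    (hN : ∀ (p : Ideal R) [p.IsPrime], IsNoetherianRing (p.Fiber (DirectLimit G f))) :
    CAlg.IsRegularHom R (DirectLimit G f) := by
  refine ⟨flat_directLimit G f (fun i => inferInstance), fun p hp => ⟨hN p, ?_⟩⟩
  intro k' _ _ hfin
  haveI := hfin
  haveI := hN p
  letI : Algebra R k' :=
    ((algebraMap p.ResidueField k').comp (algebraMap R p.ResidueField)).toAlgebra
  haveI : IsScalarTower R p.ResidueField k' := IsScalarTower.of_algebraMap_eq (fun _ => rfl)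
  let e1 : k' ⊗[p.ResidueField] (p.ResidueField ⊗[R] DirectLimit G f) ≃ₐ[k']
      k' ⊗[R] DirectLimit G f :=
    Algebra.TensorProduct.cancelBaseChange R p.ResidueField k' k' (DirectLimit G f)
  haveI : IsNoetherianRing ((p.Fiber (DirectLimit G f)) ⊗[p.ResidueField] k') :=
    IsNoetherianRing.of_finite (p.Fiber (DirectLimit G f))
      ((p.Fiber (DirectLimit G f)) ⊗[p.ResidueField] k')
  haveI : IsNoetherianRing (k' ⊗[p.ResidueField] (p.Fiber (DirectLimit G f))) :=
    isNoetherianRing_of_ringEquiv _
      (Algebra.TensorProduct.comm p.ResidueField (p.Fiber (DirectLimit G f)) k').toRingEquiv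
  haveI : IsNoetherianRing (k' ⊗[R] DirectLimit G f) :=
    isNoetherianRing_of_ringEquiv _ e1.toRingEquiv
  have hreg : IsRegularRing (k' ⊗[R] DirectLimit G f) := by
    refine isRegularRing_tensor_directLimit G f k' (fun i => ?_)
    haveI : Algebra.Smooth k' (k' ⊗[R] G i) := inferInstance
    haveI : IsRegularRing k' := inferInstance
    exact Groth.Agent.Helper14.SmoothReg.isRegularRing_of_smooth k' _
  exact IsRegularRing.of_ringEquiv e1.symm.toRingEquiv

end Main

end Groth.Agent.Helper7.RegHomLim
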