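import Mathlib
import Groth.Prelude.Def_Found
import Groth.Agent.Lib.Helper7.ComplJap

universe u
namespace Groth.Agent.Helper7.SemiLoc
open TensorProduct IsLocalRing AlgebraicGeometry CategoryTheory

set_option linter.style.haveILetI false
set_option linter.unusedSectionVars false

variable {A K' : Type u} [CommRing A] [IsDomain A] [IsLocalRing A] [IsNoetherianRing A]
    [Field K'] [Algebra A K'] [Algebra (FractionRing A) K'] [IsScalarTower A (FractionRing A) K']
    [FiniteDimensional (FractionRing A) K']

theorem residue_finite (Cα : Subalgebra A K') (hPα : Groth.Agent.Helper7.JapFlat.PP Cα)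
    (hmain : ∀ C : Subalgebra A K', Groth.Agent.Helper7.JapFlat.PP C → ∀ hle : Cα ≤ C,
        (∀ y : ↥C ⊗[A] AdicCompletion (maximalIdeal A) A,
          ∃ x : ↥Cα ⊗[A] AdicCompletion (maximalIdeal A) A,
          IsNilpotent (Algebra.TensorProduct.map (Subalgebra.inclusion hle)
            (AlgHom.id A (AdicCompletion (maximalIdeal A) A)) x - y)))
    (m' : Ideal (integralClosure A K')) (hm' : m'.IsMaximal) :
    Module.Finite A (integralClosure A K' ⧸ m') := by
  classical
  haveI := hPα.1
  have hint : Cα ≤ integralClosure A K' := fun c hc =>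
    (Algebra.IsIntegral.isIntegral (R := A) (⟨c, hc⟩ : Cα)).map Cα.val
  letI : Field (integralClosure A K' ⧸ m') := Ideal.Quotient.field m'
  let F := integralClosure A K' ⧸ m'
  let j : Cα →ₐ[A] F := (Ideal.Quotient.mkₐ A m').comp (Subalgebra.inclusion hint)
  -- the map Â → F
  have hcomap : m'.comap (algebraMap A (integralClosure A K')) = maximalIdeal A := by
    have hmax : (m'.comap (algebraMap A (integralClosure A K'))).IsMaximal :=
      Ideal.isMaximal_comap_of_isIntegral_of_isMaximal m'
    exact eq_maximalIdeal hmax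
  have hker : ∀ a ∈ (maximalIdeal A) ^ 1, (Algebra.ofId A F) a = 0 := by
    intro a ha
    rw [pow_one, ← hcomap] at ha
    show Ideal.Quotient.mk m' (algebraMap A (integralClosure A K') a) = 0
    exact Ideal.Quotient.eq_zero_iff_mem.mpr ha
  let ρ₀ : (A ⧸ (maximalIdeal A) ^ 1) →ₐ[A] F := Ideal.Quotient.liftₐ _ (Algebra.ofId A F) hker
  let ρ : AdicCompletion (maximalIdeal A) A →ₐ[A] F :=
    ρ₀.comp (AdicCompletion.evalₐ (maximalIdeal A) 1)
  have hρ : ∀ â, ρ â ∈ j.range := by
    intro â
    obtain ⟨a, ha⟩ := Ideal.Quotient.mk_surjective (AdicCompletion.evalₐ (maximalIdeal A) 1 â)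
    have : ρ â = algebraMap A F a := by
      show ρ₀ (AdicCompletion.evalₐ (maximalIdeal A) 1 â) = _
      rw [← ha]
      rfl
    rw [this]
    exact Subalgebra.algebraMap_mem _ a
  -- surjectivity of j
  have hsurj : Function.Surjective j := by
    intro y
    obtain ⟨⟨x, hx⟩, rfl⟩ := Ideal.Quotient.mk_surjective y
    haveI : Module.Finite A ↥(Algebra.adjoin A {x}) :=
      Algebra.finite_adjoin_simple_of_isIntegral hx
    let C : Subalgebra A K' := Cα ⊔ Algebra.adjoin A {x}
    have hfin : Module.Finite A C := Subalgebra.finite_sup _ _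
    have hle : Cα ≤ C := le_sup_left
    have hPC := Groth.Agent.Helper7.JapFlat.pp_mono hPα hle hfin
    have hxC : x ∈ C := (le_sup_right : Algebra.adjoin A {x} ≤ C) (Algebra.subset_adjoin rfl)
    have hC : C ≤ integralClosure A K' :=
      sup_le hint (Algebra.adjoin_le (by rintro _ rfl; exact hx))
    let jC : C →ₐ[A] F := (Ideal.Quotient.mkₐ A m').comp (Subalgebra.inclusion hC)
    let ψC : ↥C ⊗[A] AdicCompletion (maximalIdeal A) A →ₐ[A] F :=
      Algebra.TensorProduct.lift jC ρ (fun _ _ => Commute.all _ _)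
    let ψα : ↥Cα ⊗[A] AdicCompletion (maximalIdeal A) A →ₐ[A] F :=
      Algebra.TensorProduct.lift j ρ (fun _ _ => Commute.all _ _)
    have hcomp : ∀ z, ψC (Algebra.TensorProduct.map (Subalgebra.inclusion hle)
        (AlgHom.id A (AdicCompletion (maximalIdeal A) A)) z) = ψα z := by
      intro z
      induction z using TensorProduct.induction_on with
      | zero => simp
      | tmul c â =>
        simp only [Algebra.TensorProduct.map_tmul, ψC, ψα, Algebra.TensorProduct.lift_tmul]
        rfl
      | add u v hu hv => simp only [map_add, hu, hv]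
    have hrange : ∀ z, ψα z ∈ j.range := by
      intro z
      induction z using TensorProduct.induction_on with
      | zero => simp
      | tmul c â =>
        simp only [ψα, Algebra.TensorProduct.lift_tmul]
        exact Subalgebra.mul_mem _ ⟨c, rfl⟩ (hρ â)
      | add u v hu hv => rw [map_add]; exact Subalgebra.add_mem _ hu hv
    obtain ⟨z, hz⟩ := hmain C hPC hle ((⟨x, hxC⟩ : C) ⊗ₜ 1)
    have hz' := hz.map ψC
    have h0 : ψC (Algebra.TensorProduct.map (Subalgebra.inclusion hle)
        (AlgHom.id A (AdicCompletion (maximalIdeal A) A)) z - (⟨x, hxC⟩ : C) ⊗ₜ 1) = 0 :=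
      hz'.eq_zero
    rw [map_sub, hcomp, sub_eq_zero] at h0
    have h1 : ψC ((⟨x, hxC⟩ : C) ⊗ₜ 1) = Ideal.Quotient.mk m' ⟨x, hx⟩ := by
      simp only [ψC, Algebra.TensorProduct.lift_tmul, map_one, mul_one]
      rfl
    have := hrange z
    rw [h0, h1] at this
    exact this
  exact Module.Finite.of_surjective j.toLinearMap hsurj

theorem s2474 : {m : Ideal (integralClosure A K') | m.IsMaximal}.Finite ∧
      ∀ (m : Ideal (integralClosure A K')), m.IsMaximal →
        Module.Finite A (integralClosure A K' ⧸ m) := by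
  classical
  obtain ⟨Cα, hPα, hmain, hrad⟩ := Groth.Agent.Helper7.ComplJap.s4615 (A := A) (K' := K')
  haveI := hPα.1
  have hint : Cα ≤ integralClosure A K' := fun c hc =>
    (Algebra.IsIntegral.isIntegral (R := A) (⟨c, hc⟩ : Cα)).map Cα.val
  refine ⟨?_, fun m hm => residue_finite Cα hPα (fun C hC hle => (hmain C hC hle).2) m hm⟩
  haveI := hrad hint
  let f : Cα →+* integralClosure A K' := (Subalgebra.inclusion hint).toRingHom
  have hinj : Function.Injective (PrimeSpectrum.comap f) :=
    Scheme.Hom.injective (Spec.map (CommRingCat.ofHom f))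
  have hfinC : ((maximalIdeal A).primesOver Cα).Finite :=
    Algebra.QuasiFinite.finite_primesOver _
  refine Set.Finite.of_injOn (f := fun m => m.comap f) ?_ ?_ hfinC
  · intro m hm
    have hm' : m.IsMaximal := hm
    haveI := hm'.isPrime
    refine ⟨Ideal.comap_isPrime _ _, ⟨?_⟩⟩
    have hmax : (m.comap (algebraMap A (integralClosure A K'))).IsMaximal :=
      Ideal.isMaximal_comap_of_isIntegral_of_isMaximal m
    have h1 : m.comap (algebraMap A (integralClosure A K')) = maximalIdeal A :=
      eq_maximalIdeal hmax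
    rw [← h1]
    rfl
  · intro m hm m₂ hm₂ heq
    have hm' : m.IsMaximal := hm
    have hm₂' : m₂.IsMaximal := hm₂
    have := @hinj ⟨m, hm'.isPrime⟩ ⟨m₂, hm₂'.isPrime⟩ (PrimeSpectrum.ext heq)
    exact congrArg PrimeSpectrum.asIdeal this

end Groth.Agent.Helper7.SemiLoc
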