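import Mathlib
import Groth.Prelude.Def_CAlgX
import Groth.Prelude.Def_EGA41
import Groth.Agent.S4537
import Groth.Agent.Lib.Helper7.SmallExt

/-!
EGA 0_IV 19.7-style characterization of adic formal smoothness of local homomorphisms of Noetherian
local rings via Artinian local test rings (helper7).
-/

universe u
namespace Groth.Agent.Helper7.SmallExt
open IsLocalRing

set_option linter.style.haveILetI false
set_option linter.unusedSectionVars false
set_option linter.unusedVariables false

theorem s2481 {A B : Type u} [CommRing A] [IsLocalRing A] [IsNoetherianRing A] [CommRing B]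
    [IsLocalRing B] [IsNoetherianRing B] [Algebra A B] [IsLocalHom (algebraMap A B)] :
    EGA41.IsFormallySmoothAdic A (maximalIdeal A) B (maximalIdeal B) ↔
      ∀ (C : Type u) [CommRing C] [IsLocalRing C] [IsArtinianRing C] [Algebra A C]
        [IsLocalHom (algebraMap A C)]
        (J : Ideal C), IsNilpotent J → ∀ [IsLocalRing (C ⧸ J)] (u : B →ₐ[A] C ⧸ J)
        [IsLocalHom u.toRingHom],
        Function.Bijective (ResidueField.map u.toRingHom) →
        ∃ f : B →ₐ[A] C, IsLocalHom f.toRingHom ∧ (Ideal.Quotient.mkₐ A J).comp f = u := by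
  constructor
  · intro h C _ _ _ _ _ J hJ _ u _ hbij
    have h1 : ∃ k : ℕ, (maximalIdeal A ^ k).map (algebraMap A C) = ⊥ := by
      obtain ⟨k, hk⟩ := exists_pow_map_eq_zero (S := A) (algebraMap A C)
      refine ⟨k, ?_⟩
      rw [eq_bot_iff, Ideal.map_le_iff_le_comap]
      intro x hx
      rw [Ideal.mem_comap, Ideal.mem_bot]
      exact hk x hx
    obtain ⟨v, hv⟩ := h C J hJ h1 u (exists_pow_map_eq_zero u.toRingHom)
    refine ⟨v, ⟨fun b hb => ?_⟩, hv⟩
    have h2 : IsUnit (Ideal.Quotient.mk J (v b)) := hb.map (Ideal.Quotient.mk J)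
    have h3 : Ideal.Quotient.mk J (v b) = u b := congrArg (fun f => f b) hv
    rw [h3] at h2
    exact isUnit_of_map_unit u.toRingHom b h2
  · intro H
    have hS : SmallLift A B := by
      intro C _ _ _ _ _ J hJ hlen _ ψ _ hbij
      have hnil : IsNilpotent J := ⟨2, hJ⟩
      obtain ⟨f, -, hf⟩ := H C J hnil ψ hbij
      exact ⟨f, hf⟩
    have h1 : CAlgX.IsAdicFormallySmooth A B (maximalIdeal B) := adicFS_of_smallLift hS
    have h2 : EGA41.IsFormallySmoothAdic A ⊥ B (maximalIdeal B) :=
      (Groth.Agent.S4537.result (maximalIdeal B)).mp h1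
    exact fun C _ _ J hJ _ u hu => h2 C J hJ ⟨1, by rw [pow_one, Ideal.map_bot]⟩ u hu

end Groth.Agent.Helper7.SmallExt
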