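import Mathlib
import Groth.Prelude.Def_CAlgX
import Groth.Agent.S2453
import Groth.Agent.Lib.Helper7.SmallExt

/-!
Regularity of a complete local algebra with rational residue field via infinitesimal lifting (helper7).
-/

universe u
namespace Groth.Agent.Helper7.SmallExt
open IsLocalRing

set_option linter.style.haveILetI false
set_option linter.unusedSectionVars false
set_option linter.unusedVariables false

theorem isLocalHom_of_field {k B : Type*} [Field k] [CommRing B] [Nontrivial B] (f : k →+* B) :
    IsLocalHom f := by
  constructor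
  intro a ha
  rw [isUnit_iff_ne_zero]
  rintro rfl
  rw [map_zero] at ha
  exact not_isUnit_zero ha

theorem s19506 (k A : Type u) [Field k]
    [CommRing A] [Algebra k A] [IsLocalRing A] [IsNoetherianRing A]
    (π : A →ₐ[k] k) (hπ : RingHom.ker π = IsLocalRing.maximalIdeal A) :
    IsRegularLocalRing A ↔
      ∀ (R : Type u) [CommRing R] [Algebra k R] [IsArtinianRing R] [IsLocalRing R] (J : Ideal R),
        J ^ 2 = ⊥ → ∀ f : A →ₐ[k] R ⧸ J, IsLocalHom (f : A →+* R ⧸ J) →
          ∃ g : A →ₐ[k] R, (Ideal.Quotient.mkₐ k J).comp g = f := by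
  -- the residue field is `k`
  have hsurj : Function.Surjective ((residue A).comp (algebraMap k A)) := by
    intro y
    obtain ⟨a, rfl⟩ := residue_surjective y
    refine ⟨π a, ?_⟩
    show residue A (algebraMap k A (π a)) = residue A a
    rw [← sub_eq_zero, ← map_sub, residue_eq_zero_iff, ← hπ, RingHom.mem_ker, map_sub,
      AlgHom.commutes, Algebra.algebraMap_self, RingHom.id_apply, sub_self]
  haveI : Algebra.IsGeometricallyReduced k (ResidueField A) := by
    have hbij : Function.Bijective (algebraMap k (ResidueField A)) :=
      ⟨(algebraMap k (ResidueField A)).injective, hsurj⟩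
    let e : k ≃ₐ[k] ResidueField A := AlgEquiv.ofBijective (Algebra.ofId k (ResidueField A)) hbij
    haveI : Algebra.IsGeometricallyReduced k k := by
      rw [Algebra.isGeometricallyReduced_field_iff]
      exact isReduced_of_injective
        (Algebra.TensorProduct.rid k (AlgebraicClosure k) (AlgebraicClosure k)).toRingEquiv.toRingHom
        (Algebra.TensorProduct.rid k (AlgebraicClosure k) (AlgebraicClosure k)).injective
    exact Algebra.IsGeometricallyReduced.of_injective e.symm.toAlgHom e.symm.injective
  haveI : IsLocalHom (algebraMap k A) := isLocalHom_of_field _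
  have htfae := Groth.Agent.S2453.result (k := k) (A := A)
  have h14 : CAlgX.IsAdicFormallySmooth k A (maximalIdeal A) ↔ IsRegularLocalRing A :=
    htfae.out 0 3
  rw [← h14]
  constructor
  · intro h R _ _ _ _ J hJ f hf
    have hJtop : J ≠ ⊤ := by
      intro htop
      haveI : Subsingleton (R ⧸ J) := Ideal.Quotient.subsingleton_iff.mpr htop
      have h0 : IsUnit (f 0) := by
        rw [map_zero]; exact isUnit_of_subsingleton _
      have := hf.map_nonunit 0 h0
      exact not_isUnit_zero this
    haveI : Nontrivial (R ⧸ J) := Ideal.Quotient.nontrivial_iff.mpr hJtop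
    haveI : IsLocalRing (R ⧸ J) :=
      IsLocalRing.of_surjective' (Ideal.Quotient.mk J) Ideal.Quotient.mk_surjective
    haveI : IsLocalHom f.toRingHom := ⟨fun a ha => hf.map_nonunit a ha⟩
    exact h R J hJ f (exists_pow_map_eq_zero f.toRingHom)
  · intro H
    apply adicFS_of_smallLift
    intro A' _ _ _ _ _ J hJ hlen _ ψ hψ hbij
    exact H A' J hJ ψ ⟨fun a ha => hψ.map_nonunit a ha⟩

end Groth.Agent.Helper7.SmallExt
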