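import Mathlib
open CategoryTheory CategoryTheory.Limits AlgebraicGeometry
universe u
namespace Groth.Agent.Helper7

theorem range_spec_filteredColimit_eq_iInter_range {I : Type u} [SmallCategory I] [IsFiltered I]
    (B : CommRingCat.{u}) (D : I ⥤ CommRingCat.{u}) (s : (Functor.const I).obj B ⟶ D) (c : Cocone D)
    (hc : IsColimit c) (i₀ : I) :
    Set.range (Spec.map (s.app i₀ ≫ c.ι.app i₀)).base = ⋂ i : I, Set.range (Spec.map (s.app i)).base := by
  have hs : ∀ {j k : I} (f : j ⟶ k), s.app j ≫ D.map f = s.app k := by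
    intro j k f
    have := s.naturality f
    simpa using this.symm
  have hsc : ∀ i : I, s.app i ≫ c.ι.app i = s.app i₀ ≫ c.ι.app i₀ := by
    intro i
    have h1 : s.app i ≫ c.ι.app i = s.app (IsFiltered.max i i₀) ≫ c.ι.app (IsFiltered.max i i₀) := by
      rw [← hs (IsFiltered.leftToMax i i₀), Category.assoc, c.w]
    have h2 : s.app i₀ ≫ c.ι.app i₀ = s.app (IsFiltered.max i i₀) ≫ c.ι.app (IsFiltered.max i i₀) := by
      rw [← hs (IsFiltered.rightToMax i i₀), Category.assoc, c.w]
    rw [h1, h2]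
  apply Set.Subset.antisymm
  · rintro _ ⟨q, rfl⟩
    rw [Set.mem_iInter]
    intro i
    rw [← hsc i, Spec.map_comp]
    exact ⟨_, rfl⟩
  · intro p hp
    rw [Set.mem_iInter] at hp
    -- reformulate in terms of ideals
    let φ : ∀ j : I, B →+* D.obj j := fun j => (s.app j).hom
    let ι : ∀ j : I, D.obj j →+* c.pt := fun j => (c.ι.app j).hom
    let Φ : B →+* c.pt := (s.app i₀ ≫ c.ι.app i₀).hom
    have hΦ : ∀ j, (ι j).comp (φ j) = Φ := by
      intro j
      have := hsc j
      exact congrArg CommRingCat.Hom.hom this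
    have hφ : ∀ {j k : I} (f : j ⟶ k), (D.map f).hom.comp (φ j) = φ k := by
      intro j k f
      exact congrArg CommRingCat.Hom.hom (hs f)
    have hι : ∀ {j k : I} (f : j ⟶ k), (ι k).comp (D.map f).hom = ι j := by
      intro j k f
      exact congrArg CommRingCat.Hom.hom (c.w f)
    have hpj : ∀ j : I, (p.asIdeal.map (φ j)).comap (φ j) = p.asIdeal := by
      intro j
      rw [Ideal.comap_map_eq_self_iff_of_isPrime]
      obtain ⟨q, hq⟩ := hp j
      refine ⟨q.asIdeal, q.isPrime, ?_⟩
      have := congrArg PrimeSpectrum.asIdeal hq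
      exact this
    have hmapmem : ∀ {j k : I} (f : j ⟶ k) (y : D.obj j), y ∈ p.asIdeal.map (φ j) →
        (D.map f).hom y ∈ p.asIdeal.map (φ k) := by
      intro j k f y hy
      rw [← hφ f, ← Ideal.map_map]
      exact Ideal.mem_map_of_mem _ hy
    suffices h : (p.asIdeal.map Φ).comap Φ = p.asIdeal by
      rw [Ideal.comap_map_eq_self_iff_of_isPrime] at h
      obtain ⟨q, hq, hqp⟩ := h
      refine ⟨⟨q, hq⟩, ?_⟩
      exact PrimeSpectrum.ext hqp
    apply le_antisymm _ Ideal.le_comap_map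
    intro b hb
    rw [Ideal.mem_comap] at hb
    have key : ∀ x ∈ p.asIdeal.map Φ, ∃ (j : I) (y : D.obj j), y ∈ p.asIdeal.map (φ j) ∧ ι j y = x := by
      intro x hx
      induction hx using Submodule.span_induction with
      | mem x hx =>
        obtain ⟨a, ha, rfl⟩ := hx
        refine ⟨i₀, φ i₀ a, Ideal.mem_map_of_mem _ ha, ?_⟩
        rfl
      | zero => exact ⟨i₀, 0, Ideal.zero_mem _, map_zero _⟩
      | add x y _ _ hx hy =>
        obtain ⟨j1, y1, hy1, rfl⟩ := hx
        obtain ⟨j2, y2, hy2, rfl⟩ := hy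
        refine ⟨IsFiltered.max j1 j2, (D.map (IsFiltered.leftToMax j1 j2)).hom y1 +
          (D.map (IsFiltered.rightToMax j1 j2)).hom y2,
          Ideal.add_mem _ (hmapmem _ _ hy1) (hmapmem _ _ hy2), ?_⟩
        rw [map_add, ← RingHom.comp_apply, ← RingHom.comp_apply, hι, hι]
      | smul a x _ hx =>
        obtain ⟨j1, y1, hy1, rfl⟩ := hx
        obtain ⟨j2, a', rfl⟩ := Concrete.isColimit_exists_rep D hc a
        refine ⟨IsFiltered.max j1 j2, (D.map (IsFiltered.rightToMax j1 j2)).hom a' *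
          (D.map (IsFiltered.leftToMax j1 j2)).hom y1,
          Ideal.mul_mem_left _ _ (hmapmem _ _ hy1), ?_⟩
        rw [map_mul, ← RingHom.comp_apply, ← RingHom.comp_apply, hι, hι]
        rfl
    obtain ⟨j, y, hy, hyb⟩ := key _ hb
    have h1 : c.ι.app j y = c.ι.app j (φ j b) := by
      change ι j y = ι j (φ j b)
      rw [hyb, ← RingHom.comp_apply, hΦ]
    obtain ⟨k, f, g, hfg⟩ := Concrete.isColimit_exists_of_rep_eq D hc _ _ h1
    have h2 : φ k b ∈ p.asIdeal.map (φ k) := by
      have h3 : (D.map g).hom (φ j b) = φ k b := by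
        rw [← RingHom.comp_apply, hφ]
      rw [← h3]
      change (D.map g) (φ j b) ∈ _
      rw [← hfg]
      exact hmapmem f y hy
    rw [← hpj k]
    exact h2

end Groth.Agent.Helper7
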