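import Mathlib

/-!
# Dimension of stalks along a morphism of locally Noetherian schemes (helper7)
-/

open AlgebraicGeometry CategoryTheory

universe u

namespace Groth.Agent.Helper7.StalkDim

/-- In the fibre through `x₀` there is a point whose local ring has dimension at most that of
`O_{Y, f x₀}` (a generic point of the fibre). -/
theorem exists_stalk_dim_le {X Y : Scheme.{u}} (f : X ⟶ Y) [IsLocallyNoetherian X]
    [IsLocallyNoetherian Y] (x₀ : X) :
    ∃ x : X, f x = f x₀ ∧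
      ringKrullDim (X.presheaf.stalk x) ≤ ringKrullDim (Y.presheaf.stalk (f x₀)) := by
  obtain ⟨V, hV, hyV, -⟩ := exists_isAffineOpen_mem_and_subset (x := f x₀)
    (U := (⊤ : Y.Opens)) trivial
  obtain ⟨U, hU, hxU, e⟩ := exists_isAffineOpen_mem_and_subset (x := x₀)
    (U := f ⁻¹ᵁ V) hyV
  let _ : Algebra Γ(Y, V) Γ(X, U) := (f.appLE V U e).hom.toAlgebra
  have hN : IsNoetherianRing Γ(X, U) := IsLocallyNoetherian.component_noetherian ⟨U, hU⟩
  have hN' : IsNoetherianRing Γ(Y, V) := IsLocallyNoetherian.component_noetherian ⟨V, hV⟩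
  set P₀ := (hU.primeIdealOf ⟨x₀, hxU⟩).asIdeal with hP₀
  set p := (hV.primeIdealOf ⟨f x₀, e hxU⟩).asIdeal with hp
  have hP₀p : P₀.comap (algebraMap Γ(Y, V) Γ(X, U)) = p :=
    congrArg PrimeSpectrum.asIdeal (IsAffineOpen.comap_primeIdealOf_appLE (f := f) V hV U hU e hxU)
  have hle : p.map (algebraMap Γ(Y, V) Γ(X, U)) ≤ P₀ := by
    rw [Ideal.map_le_iff_le_comap, hP₀p]
  obtain ⟨P, hPmin, hPP₀⟩ := Ideal.exists_minimalPrimes_le hle
  have hPprime : P.IsPrime := hPmin.1.1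
  have hPover : P.comap (algebraMap Γ(Y, V) Γ(X, U)) = p :=
    le_antisymm ((Ideal.comap_mono hPP₀).trans hP₀p.le) (Ideal.map_le_iff_le_comap.1 hPmin.1.2)
  have hlies : P.LiesOver p := ⟨hPover.symm⟩
  have key := Ideal.height_le_height_add_of_liesOver p P
  have hker : RingHom.ker (Ideal.Quotient.mk (p.map (algebraMap Γ(Y, V) Γ(X, U)))) ≤ P := by
    rw [Ideal.mk_ker]; exact hPmin.1.2
  have hQprime : (P.map (Ideal.Quotient.mk (p.map (algebraMap Γ(Y, V) Γ(X, U))))).IsPrime :=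
    Ideal.map_isPrime_of_surjective Ideal.Quotient.mk_surjective hker
  have h0 : (P.map (Ideal.Quotient.mk (p.map (algebraMap Γ(Y, V) Γ(X, U))))).height = 0 := by
    rw [Ideal.height_eq_zero_iff]
    have h1 := Ideal.minimalPrimes_map_of_surjective
      (f := Ideal.Quotient.mk (p.map (algebraMap Γ(Y, V) Γ(X, U)))) Ideal.Quotient.mk_surjective
      (p.map (algebraMap Γ(Y, V) Γ(X, U)))
    rw [Ideal.map_quotient_self, Ideal.mk_ker, sup_idem] at h1
    change _ ∈ (⊥ : Ideal _).minimalPrimes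
    rw [h1]
    exact ⟨P, hPmin, rfl⟩
  rw [h0, add_zero] at key
  let y : PrimeSpectrum Γ(X, U) := ⟨P, hPprime⟩
  have hyU : hU.fromSpec y ∈ U := by
    have : hU.fromSpec y ∈ Set.range hU.fromSpec := ⟨y, rfl⟩
    rw [hU.range_fromSpec] at this
    exact this
  refine ⟨hU.fromSpec y, ?_, ?_⟩
  · have h1 := IsAffineOpen.SpecMap_appLE_fromSpec f hV hU e
    have h2 : f (hU.fromSpec y) = hV.fromSpec (Spec.map (f.appLE V U e) y) := by
      change (hU.fromSpec ≫ f) y = (Spec.map (f.appLE V U e) ≫ hV.fromSpec) y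
      rw [h1]
    rw [h2]
    have h3 : Spec.map (f.appLE V U e) y = hV.primeIdealOf ⟨f x₀, e hxU⟩ :=
      PrimeSpectrum.ext hPover
    rw [h3]
    exact hV.fromSpec_primeIdealOf ⟨f x₀, e hxU⟩
  · let _ : Algebra Γ(X, U) (X.presheaf.stalk (hU.fromSpec y)) :=
      X.presheaf.algebra_section_stalk ⟨hU.fromSpec y, hyU⟩
    let _ : Algebra Γ(Y, V) (Y.presheaf.stalk (f x₀)) :=
      Y.presheaf.algebra_section_stalk ⟨f x₀, e hxU⟩
    have : IsLocalization.AtPrime (X.presheaf.stalk (hU.fromSpec y)) P :=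
      hU.isLocalization_stalk' y hyU
    have : IsLocalization.AtPrime (Y.presheaf.stalk (f x₀)) p :=
      hV.isLocalization_stalk ⟨f x₀, e hxU⟩
    rw [IsLocalization.AtPrime.ringKrullDim_eq_height P (X.presheaf.stalk (hU.fromSpec y)),
      IsLocalization.AtPrime.ringKrullDim_eq_height p (Y.presheaf.stalk (f x₀))]
    exact_mod_cast key

/-- For a flat morphism, `dim O_{Y, f x} ≤ dim O_{X, x}`. -/
theorem stalk_dim_le_of_flat {X Y : Scheme.{u}} (f : X ⟶ Y) [IsLocallyNoetherian X]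
    [IsLocallyNoetherian Y] [Flat f] (x₀ : X) :
    ringKrullDim (Y.presheaf.stalk (f x₀)) ≤ ringKrullDim (X.presheaf.stalk x₀) := by
  obtain ⟨V, hV, hyV, -⟩ := exists_isAffineOpen_mem_and_subset (x := f x₀)
    (U := (⊤ : Y.Opens)) trivial
  obtain ⟨U, hU, hxU, e⟩ := exists_isAffineOpen_mem_and_subset (x := x₀)
    (U := f ⁻¹ᵁ V) hyV
  let _ : Algebra Γ(Y, V) Γ(X, U) := (f.appLE V U e).hom.toAlgebra
  have hN : IsNoetherianRing Γ(X, U) := IsLocallyNoetherian.component_noetherian ⟨U, hU⟩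
  have hN' : IsNoetherianRing Γ(Y, V) := IsLocallyNoetherian.component_noetherian ⟨V, hV⟩
  have hflat : Module.Flat Γ(Y, V) Γ(X, U) :=
    HasRingHomProperty.appLE (P := @Flat) f inferInstance ⟨V, hV⟩ ⟨U, hU⟩ e
  set P₀ := (hU.primeIdealOf ⟨x₀, hxU⟩).asIdeal with hP₀
  set p := (hV.primeIdealOf ⟨f x₀, e hxU⟩).asIdeal with hp
  have hP₀p : P₀.comap (algebraMap Γ(Y, V) Γ(X, U)) = p :=
    congrArg PrimeSpectrum.asIdeal (IsAffineOpen.comap_primeIdealOf_appLE (f := f) V hV U hU e hxU)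
  have hlies : P₀.LiesOver p := ⟨hP₀p.symm⟩
  have key := Ideal.height_eq_height_add_of_liesOver_of_hasGoingDown p P₀
  let _ : Algebra Γ(X, U) (X.presheaf.stalk x₀) := X.presheaf.algebra_section_stalk ⟨x₀, hxU⟩
  let _ : Algebra Γ(Y, V) (Y.presheaf.stalk (f x₀)) :=
    Y.presheaf.algebra_section_stalk ⟨f x₀, e hxU⟩
  have : IsLocalization.AtPrime (X.presheaf.stalk x₀) P₀ := hU.isLocalization_stalk ⟨x₀, hxU⟩
  have : IsLocalization.AtPrime (Y.presheaf.stalk (f x₀)) p :=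
    hV.isLocalization_stalk ⟨f x₀, e hxU⟩
  rw [IsLocalization.AtPrime.ringKrullDim_eq_height P₀ (X.presheaf.stalk x₀),
    IsLocalization.AtPrime.ringKrullDim_eq_height p (Y.presheaf.stalk (f x₀)), key]
  exact_mod_cast le_self_add

end Groth.Agent.Helper7.StalkDim
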