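import Groth.Agent.Lib.Helper7.TSum1

/-!
# Additive functors on modules with the "finite support" property preserve coproducts (II)
-/

set_option autoImplicit false
universe u

namespace Groth.Agent.Helper7.TSum

open CategoryTheory CategoryTheory.Limits DirectSum

variable {A : Type u} [CommRing A]

/-- The finite support property. -/
def FinSupp (T : ModuleCat.{u} A ⥤ ModuleCat.{u} A) : Prop :=
  ∀ (J : Type u) [DecidableEq J] (M : J → ModuleCat.{u} A) (y : T.obj (sumObj M)),
    ∃ F : Finset J, (T.map (eF M F)).hom y = y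

variable (T : ModuleCat.{u} A ⥤ ModuleCat.{u} A) [T.Additive]
variable {J : Type u} [DecidableEq J] (M : J → ModuleCat.{u} A)

/-- The comparison map `⨁ T(M_j) → T(⨁ M_j)`. -/
noncomputable def Φ : sumObj (fun j => T.obj (M j)) ⟶ T.obj (sumObj M) :=
  (isColimitSum (fun j => T.obj (M j))).desc (Cofan.mk (T.obj (sumObj M)) (fun j => T.map (inj M j)))

lemma inj_Φ (j : J) : inj (fun j => T.obj (M j)) j ≫ Φ T M = T.map (inj M j) :=
  (isColimitSum (fun j => T.obj (M j))).fac
    (Cofan.mk (T.obj (sumObj M)) (fun j => T.map (inj M j))) ⟨j⟩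

lemma Φ_proj (k : J) : Φ T M ≫ T.map (proj M k) = proj (fun j => T.obj (M j)) k := by
  apply sumObj_hom_ext
  intro j
  rw [← Category.assoc, inj_Φ, ← T.map_comp]
  by_cases hjk : j = k
  · subst hjk
    rw [inj_proj_self, inj_proj_self, T.map_id]
  · rw [inj_proj_ne M hjk, inj_proj_ne _ hjk, T.map_zero]

lemma Φ_injective : Function.Injective (Φ T M).hom := by
  rw [injective_iff_map_eq_zero]
  intro w hw
  apply DirectSum.ext_component A
  intro k
  have := congrArg (fun f => f.hom w) (Φ_proj T M k)
  simp only [ModuleCat.hom_comp, LinearMap.coe_comp, Function.comp_apply] at this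
  rw [hw, map_zero] at this
  rw [map_zero]
  exact this.symm

lemma Φ_surjective (h : FinSupp T) : Function.Surjective (Φ T M).hom := by
  intro y
  obtain ⟨F, hF⟩ := h J M y
  refine ⟨∑ j ∈ F, (inj (fun j => T.obj (M j)) j).hom ((T.map (proj M j)).hom y), ?_⟩
  rw [map_sum]
  have h1 : ∀ j ∈ F, (Φ T M).hom ((inj (fun j => T.obj (M j)) j).hom ((T.map (proj M j)).hom y)) =
      (T.map (proj M j ≫ inj M j)).hom y := by
    intro j _
    rw [T.map_comp, ← inj_Φ T M j]
    rfl
  rw [Finset.sum_congr rfl h1]
  conv_rhs => rw [← hF]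
  rw [eF, T.map_sum, ModuleCat.hom_sum, LinearMap.sum_apply]

/-- `T` preserves the coproduct cofan. -/
noncomputable def isColimitMap (h : FinSupp T) :
    IsColimit (Cofan.mk (T.obj (sumObj M)) (fun j => T.map (inj M j))) := by
  have : IsIso ((isColimitSum (fun j => T.obj (M j))).desc
      (Cofan.mk (T.obj (sumObj M)) (fun j => T.map (inj M j)))) := by
    rw [ConcreteCategory.isIso_iff_bijective]
    exact ⟨Φ_injective T M, Φ_surjective T M h⟩
  exact IsColimit.ofPointIso (isColimitSum (fun j => T.obj (M j)))

omit [DecidableEq J] in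
theorem preservesColimitsOfShape_discrete (h : FinSupp T) (J : Type u) :
    PreservesColimitsOfShape (Discrete J) T := by
  classical
  constructor
  intro K
  let M : J → ModuleCat.{u} A := fun j => K.obj ⟨j⟩
  have hK : K ≅ Discrete.functor M := Discrete.natIsoFunctor
  have : PreservesColimit (Discrete.functor M) T :=
    preservesColimit_of_preserves_colimit_cocone (isColimitSum M)
      ((isColimitMapCoconeCofanMkEquiv T M (inj M)).symm (isColimitMap T M h))
  exact preservesColimit_of_iso_diagram T hK.symm

end Groth.Agent.Helper7.TSum
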