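import Groth.Agent.Lib.Helper7.TComp2
import Mathlib.RingTheory.Flat.Basic
import Mathlib.CategoryTheory.Functor.EpiMono

/-!
# Comparison maps `t_M` (III): functors preserving epimorphisms; flatness of `T(A)`
-/

set_option autoImplicit false
universe u

namespace Groth.Agent.Helper7.TComp

open CategoryTheory CategoryTheory.Limits TensorProduct MonoidalCategory

variable {A : Type u} [CommRing A]
  (T : ModuleCat.{u} A ⥤ ModuleCat.{u} A) [T.Additive] [T.Linear A]
  [∀ J : Type u, PreservesColimitsOfShape (Discrete J) T]

/-- preserves epis ⇒ all `t_M` surjective. -/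
theorem tM_surjective_of_preservesEpimorphisms [T.PreservesEpimorphisms]
    (M : ModuleCat.{u} A) : Function.Surjective (tM T M) := by
  intro y
  have hepi : Epi (ModuleCat.ofHom (freeCover M)) :=
    (ModuleCat.epi_iff_surjective _).mpr (freeCover_surjective M)
  have : Epi (T.map (ModuleCat.ofHom (freeCover M))) := inferInstance
  obtain ⟨y₂, rfl⟩ := (ModuleCat.epi_iff_surjective _).mp this y
  obtain ⟨z, rfl⟩ := (tM_bijective_of_free T (ModuleCat.of A (M →₀ A))).2 y₂
  exact ⟨_, (tM_naturality_apply T (ModuleCat.ofHom (freeCover M)) z).symm⟩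

/-- half exact + preserves epis ⇒ all `t_M` bijective. -/
theorem tM_bijective_of_halfExact_of_preservesEpimorphisms [T.PreservesEpimorphisms]
    (hT : ∀ S : ShortComplex (ModuleCat.{u} A), S.ShortExact → (S.map T).Exact)
    (M : ModuleCat.{u} A) : Function.Bijective (tM T M) :=
  tM_bijective_of_halfExact T hT (tM_surjective_of_preservesEpimorphisms T) M

omit [T.Additive] [T.Linear A] [∀ J : Type u, PreservesColimitsOfShape (Discrete J) T] in
/-- If `T ≅ N ⊗ -` preserves monomorphisms then `N` is flat. -/
theorem flat_of_iso_tensorLeft (N : ModuleCat.{u} A) (e : tensorLeft N ≅ T)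
    [T.PreservesMonomorphisms] : Module.Flat A N := by
  have : (tensorLeft N).PreservesMonomorphisms := Functor.PreservesMonomorphisms.of_iso e.symm
  rw [Module.Flat.iff_lTensor_preserves_injective_linearMap']
  intro N' N'' _ _ _ _ f hf
  have hmono : Mono (ModuleCat.ofHom f) := (ModuleCat.mono_iff_injective _).mpr hf
  have h2 : Mono ((tensorLeft N).map (ModuleCat.ofHom f)) := inferInstance
  exact (ModuleCat.mono_iff_injective _).mp h2

/-- `N ⊗ -` preserves epimorphisms. -/
instance preservesEpimorphisms_tensorLeft (N : ModuleCat.{u} A) :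
    (tensorLeft N).PreservesEpimorphisms where
  preserves {X Y} f hf := by
    rw [ModuleCat.epi_iff_surjective] at hf ⊢
    exact LinearMap.lTensor_surjective _ hf

/-- `N ⊗ -` preserves monomorphisms for `N` flat. -/
theorem preservesMonomorphisms_tensorLeft (N : ModuleCat.{u} A) [Module.Flat A N] :
    (tensorLeft N).PreservesMonomorphisms where
  preserves {X Y} f hf := by
    rw [ModuleCat.mono_iff_injective] at hf ⊢
    exact Module.Flat.lTensor_preserves_injective_linearMap _ hf

end Groth.Agent.Helper7.TComp
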