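import Groth.Agent.Lib.Helper7.TComp1
import Mathlib.Algebra.Category.ModuleCat.Monoidal.Closed
import Mathlib.Algebra.Homology.ShortComplex.ModuleCat
import Mathlib.LinearAlgebra.TensorProduct.RightExactness
import Mathlib.LinearAlgebra.Finsupp.VectorSpace

/-!
# Right exactness of `T` versus bijectivity of the comparison maps `t_M`
-/

set_option autoImplicit false
universe u

namespace Groth.Agent.Helper7.TComp

open CategoryTheory CategoryTheory.Limits TensorProduct MonoidalCategory

variable {A : Type u} [CommRing A]
  (T : ModuleCat.{u} A ⥤ ModuleCat.{u} A) [T.Additive] [T.Linear A]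

/-- The free cover `(M →₀ A) → M`. -/
noncomputable def freeCover (M : ModuleCat.{u} A) : (M →₀ A) →ₗ[A] M :=
  Finsupp.linearCombination A id

lemma freeCover_surjective (M : ModuleCat.{u} A) : Function.Surjective (freeCover M) := by
  intro x
  exact ⟨Finsupp.single x 1, by simp [freeCover]⟩

instance (M : ModuleCat.{u} A) : Module.Free A (ModuleCat.of A (M →₀ A)) :=
  inferInstanceAs (Module.Free A (M →₀ A))

/-- right exact ⇒ half exact. -/
theorem halfExact_of_preservesFiniteColimits
    (T : ModuleCat.{u} A ⥤ ModuleCat.{u} A) [T.Additive] [PreservesFiniteColimits T]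
    (S : ShortComplex (ModuleCat.{u} A)) (hS : S.ShortExact) : (S.map T).Exact := by
  have := hS.epi_g
  exact hS.exact.map_of_epi_of_preservesCokernel T this inferInstance

/-- If all `t_M` are bijective then `T ≅ T(A) ⊗ -`. -/
noncomputable def isoTensorLeft (h : ∀ M : ModuleCat.{u} A, Function.Bijective (tM T M)) :
    tensorLeft (T.obj (ModuleCat.of A A)) ≅ T :=
  NatIso.ofComponents (fun M => (LinearEquiv.ofBijective (tM T M) (h M)).toModuleIso)
    (fun {M N} g => by
      ext : 1
      exact (tM_naturality T g).symm)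

theorem preservesFiniteColimits_of_bijective
    (h : ∀ M : ModuleCat.{u} A, Function.Bijective (tM T M)) : PreservesFiniteColimits T :=
  preservesFiniteColimits_of_natIso (isoTensorLeft T h)

theorem preservesColimits_of_bijective
    (h : ∀ M : ModuleCat.{u} A, Function.Bijective (tM T M)) :
    PreservesColimitsOfSize.{u, u} T :=
  preservesColimits_of_natIso (isoTensorLeft T h)

variable [∀ J : Type u, PreservesColimitsOfShape (Discrete J) T]

/-- half exact + all `t_M` surjective ⇒ all `t_M` bijective. -/
theorem tM_bijective_of_halfExact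
    (hT : ∀ S : ShortComplex (ModuleCat.{u} A), S.ShortExact → (S.map T).Exact)
    (hs : ∀ M : ModuleCat.{u} A, Function.Surjective (tM T M)) (M : ModuleCat.{u} A) :
    Function.Bijective (tM T M) := by
  refine ⟨?_, hs M⟩
  have hSE := LinearMap.shortExact_shortComplexKer (freeCover_surjective M)
  set S := (freeCover M).shortComplexKer with hS
  have hex := hT S hSE
  have hL : Function.Bijective (tM T S.X₂) :=
    tM_bijective_of_free T (ModuleCat.of A (M →₀ A))
  rw [injective_iff_map_eq_zero]
  intro z hz
  -- lift z to w ∈ T(A) ⊗ L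
  obtain ⟨w, rfl⟩ := LinearMap.lTensor_surjective (T.obj (ModuleCat.of A A))
    (freeCover_surjective M) z
  have h1 : (T.map S.g).hom (tM T S.X₂ w) = 0 := by
    rw [tM_naturality_apply]; exact hz
  rw [ShortComplex.moduleCat_exact_iff] at hex
  obtain ⟨r, hr⟩ := hex (tM T S.X₂ w) h1
  obtain ⟨r', rfl⟩ := hs S.X₁ r
  have h2 : tM T S.X₂ (S.f.hom.lTensor _ r') = tM T S.X₂ w := by
    rw [← tM_naturality_apply]; exact hr
  have h3 := hL.1 h2
  rw [← h3, ← LinearMap.comp_apply, ← LinearMap.lTensor_comp]
  have : (freeCover M) ∘ₗ S.f.hom = 0 := by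
    have := S.zero
    exact congrArg ModuleCat.Hom.hom this
  rw [this]
  simp

/-- right exact ⇒ all `t_M` surjective. -/
theorem tM_surjective_of_preservesFiniteColimits [PreservesFiniteColimits T]
    (M : ModuleCat.{u} A) : Function.Surjective (tM T M) := by
  intro y
  have hepi : Epi (ModuleCat.ofHom (freeCover M)) :=
    (ModuleCat.epi_iff_surjective _).mpr (freeCover_surjective M)
  have : Epi (T.map (ModuleCat.ofHom (freeCover M))) := inferInstance
  obtain ⟨y₂, rfl⟩ := (ModuleCat.epi_iff_surjective _).mp this y
  obtain ⟨z, rfl⟩ := (tM_bijective_of_free T (ModuleCat.of A (M →₀ A))).2 y₂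
  exact ⟨_, (tM_naturality_apply T (ModuleCat.ofHom (freeCover M)) z).symm⟩

end Groth.Agent.Helper7.TComp
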