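import Groth.Agent.Lib.Helper7.TFun1
import Groth.Agent.Lib.Helper7.TSum2
import Groth.Agent.Lib.Helper7.TComp2

/-!
# `T_p` commutes with direct sums; consequences via the comparison maps `t_M`
-/

set_option autoImplicit false
universe u

namespace Groth.Agent.Helper7.TFun

open CategoryTheory CategoryTheory.Limits MonoidalCategory CohIII

variable {A : Type u} [CommRing A] {ι : Type} {c : ComplexShape ι}
  (P : HomologicalComplex (ModuleCat.{u} A) c)

theorem finSupp_TFun (p : ι) : TSum.FinSupp (TFun P p) := by
  intro J _ M y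
  have hepi : Epi ((tensorObj P (TSum.sumObj M)).homologyπ p) := inferInstance
  obtain ⟨z', rfl⟩ := (ModuleCat.epi_iff_surjective _).mp hepi y
  obtain ⟨F, hF⟩ := TSum.exists_lTensor_eL_eq M (P.X p)
    (((tensorObj P (TSum.sumObj M)).iCycles p).hom z')
  refine ⟨F, ?_⟩
  have hnat := HomologicalComplex.homologyπ_naturality (tensorMap P (TSum.eF M F)) p
  have hcyc : (HomologicalComplex.cyclesMap (tensorMap P (TSum.eF M F)) p).hom z' = z' := by
    apply (ModuleCat.mono_iff_injective ((tensorObj P (TSum.sumObj M)).iCycles p)).mp inferInstance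
    have h2 := HomologicalComplex.cyclesMap_i (tensorMap P (TSum.eF M F)) p
    have h3 := congrArg (fun f => f.hom z') h2
    simp only [ModuleCat.hom_comp, LinearMap.coe_comp, Function.comp_apply] at h3
    refine h3.trans ?_
    have e : ((tensorMap P (TSum.eF M F)).f p).hom =
        LinearMap.lTensor (P.X p) (TSum.eL M F) := by
      rw [← TSum.eF_hom]; rfl
    rw [e]
    exact hF
  have h4 := congrArg (fun f => f.hom z') hnat
  simp only [ModuleCat.hom_comp, LinearMap.coe_comp, Function.comp_apply] at h4
  rw [TFun_map]
  refine h4.trans ?_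
  rw [hcyc]

instance (p : ι) (J : Type u) : PreservesColimitsOfShape (Discrete J) (TFun P p) :=
  TSum.preservesColimitsOfShape_discrete _ (finSupp_TFun P p) J

end Groth.Agent.Helper7.TFun
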