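import Mathlib.Algebra.Category.ModuleCat.Monoidal.Basic
import Mathlib.Algebra.Category.ModuleCat.Abelian
import Mathlib.Algebra.Category.ModuleCat.Colimits
import Mathlib.CategoryTheory.Linear.LinearFunctor
import Mathlib.CategoryTheory.Limits.Preserves.Finite
import Mathlib.CategoryTheory.Limits.Preserves.Shapes.Products
import Mathlib.Algebra.Category.ModuleCat.Basic
import Mathlib.LinearAlgebra.TensorProduct.Basic
import Mathlib.LinearAlgebra.FreeModule.Basic
import Mathlib.Algebra.Homology.ShortComplex.ShortExact

/-!
# The canonical comparison map `t_M : T(A) ⊗_A M → T(M)` for an `A`-linear endofunctor of `A`-modules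
-/

set_option autoImplicit false
universe u

namespace Groth.Agent.Helper7.TComp

open CategoryTheory CategoryTheory.Limits TensorProduct

variable {A : Type u} [CommRing A]
  (T : ModuleCat.{u} A ⥤ ModuleCat.{u} A) [T.Additive] [T.Linear A]

/-- `θ_x : A → M`, `a ↦ a • x`. -/
noncomputable def theta (M : ModuleCat.{u} A) (x : M) : ModuleCat.of A A ⟶ M :=
  ModuleCat.ofHom ((LinearMap.ringLmapEquivSelf A A M).symm x)

@[simp] lemma theta_apply (M : ModuleCat.{u} A) (x : M) (a : A) :
    (theta M x).hom a = a • x := by
  simp [theta]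

lemma theta_comp {M N : ModuleCat.{u} A} (g : M ⟶ N) (x : M) :
    theta M x ≫ g = theta N (g.hom x) := by
  ext
  simp [theta]

/-- The comparison map `T(A) ⊗ M → T(M)`, in the exact form used by the statements. -/
noncomputable def tM (M : ModuleCat.{u} A) :
    TensorProduct A (T.obj (ModuleCat.of A A)) M →ₗ[A] T.obj M :=
  TensorProduct.lift (LinearMap.flip
    ((ModuleCat.homLinearEquiv (S := A)).toLinearMap ∘ₗ Functor.mapLinearMap A T ∘ₗ
      (ModuleCat.homLinearEquiv (S := A)).symm.toLinearMap ∘ₗ
        (LinearMap.ringLmapEquivSelf A A M).symm.toLinearMap))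

lemma tM_tmul (M : ModuleCat.{u} A) (y : T.obj (ModuleCat.of A A)) (x : M) :
    tM T M (y ⊗ₜ x) = (T.map (theta M x)).hom y := by
  simp only [tM, TensorProduct.lift.tmul, LinearMap.flip_apply]
  rfl

lemma tM_naturality {M N : ModuleCat.{u} A} (g : M ⟶ N) :
    (T.map g).hom ∘ₗ tM T M = tM T N ∘ₗ g.hom.lTensor _ := by
  apply TensorProduct.ext'
  intro y x
  simp only [LinearMap.coe_comp, Function.comp_apply, tM_tmul, LinearMap.lTensor_tmul]
  rw [← theta_comp g x, T.map_comp]
  rfl

lemma tM_naturality_apply {M N : ModuleCat.{u} A} (g : M ⟶ N)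
    (z : TensorProduct A (T.obj (ModuleCat.of A A)) M) :
    (T.map g).hom (tM T M z) = tM T N (g.hom.lTensor _ z) :=
  LinearMap.congr_fun (tM_naturality T g) z

section Free

variable {J : Type u} {L : ModuleCat.{u} A} (b : Module.Basis J A L)

/-- A free module with basis `b` is the coproduct of copies of `A`. -/
noncomputable def isColimitBasis :
    IsColimit (Cofan.mk L (fun j : J => theta L (b j)) : Cofan (fun _ : J => ModuleCat.of A A)) :=
  Cofan.IsColimit.mk _
    (fun s => ModuleCat.ofHom (b.constr A (fun j => (s.inj j).hom 1)))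
    (fun s j => by
      ext
      simp [theta])
    (fun s m hm => by
      ext x
      refine LinearMap.congr_fun (b.ext (f₁ := m.hom)
        (f₂ := b.constr A (fun j => (s.inj j).hom 1)) ?_) x
      intro j
      have := congrArg (fun f => f.hom (1 : A)) (hm j)
      simpa [theta] using this)

/-- `N ⊗ L` for `L` free with basis `b` is the coproduct of copies of `N`. -/
noncomputable def isColimitTensorBasis (N : ModuleCat.{u} A) :
    IsColimit (Cofan.mk (ModuleCat.of A (TensorProduct A N L))
      (fun j : J => ModuleCat.ofHom ((TensorProduct.mk A N L).flip (b j))) :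
        Cofan (fun _ : J => N)) :=
  Cofan.IsColimit.mk _
    (fun s => ModuleCat.ofHom (TensorProduct.lift
      (LinearMap.flip (b.constr A (fun j => (s.inj j).hom)))))
    (fun s j => by
      ext y
      simp)
    (fun s m hm => by
      ext : 1
      apply TensorProduct.ext
      apply LinearMap.ext
      intro y
      apply b.ext
      intro j
      have := congrArg (fun f => f.hom y) (hm j)
      simpa using this)

end Free

variable [∀ J : Type u, PreservesColimitsOfShape (Discrete J) T]

/-- `t_L` is bijective for `L` free. -/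
theorem tM_bijective_of_free (L : ModuleCat.{u} A) [Module.Free A L] :
    Function.Bijective (tM T L) := by
  classical
  obtain ⟨⟨J, b⟩⟩ := (Module.Free.exists_basis (R := A) (M := L))
  -- the cofan T(L) with injections T(θ_{b j}) is a colimit
  have h₁ := isColimitCofanMkObjOfIsColimit T _ _ (isColimitBasis b)
  have h₂ := isColimitTensorBasis b (T.obj (ModuleCat.of A A))
  have key : ModuleCat.ofHom (tM T L) = (h₂.coconePointUniqueUpToIso h₁).hom := by
    refine Cofan.IsColimit.hom_ext h₂ _ _ (fun j => ?_)
    have := IsColimit.comp_coconePointUniqueUpToIso_hom h₂ h₁ ⟨j⟩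
    refine Eq.trans ?_ this.symm
    ext y
    simp [tM_tmul]
  have hiso : IsIso (ModuleCat.ofHom (tM T L)) := by
    rw [key]; infer_instance
  exact ConcreteCategory.bijective_of_isIso (ModuleCat.ofHom (tM T L))

end Groth.Agent.Helper7.TComp
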