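import Groth.Agent.Lib.Helper7.TBr5

/-!
# Finiteness of `T_q(M)` for finite `M` (helper7)
-/

set_option autoImplicit false
universe u
open CategoryTheory MonoidalCategory TensorProduct CategoryTheory.Limits

namespace Groth.Agent.Helper7.TFin

open Groth.Agent.Helper7.TComp

theorem isZero_TFun_obj {A : Type u} [CommRing A]
    (P : ChainComplex (ModuleCat.{u} A) ℤ) (q : ℤ) (hz : IsZero (P.X q)) (M : ModuleCat.{u} A) :
    IsZero ((CohIII.TFun P q).obj M) := by
  apply ShortComplex.isZero_homology_of_isZero_X₂
  have : IsZero ((tensorRight M).obj (P.X q)) := Functor.map_isZero (tensorRight M) hz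
  exact this

theorem exact_of_isZero {A : Type u} [CommRing A]
    (P : ChainComplex (ModuleCat.{u} A) ℤ) (q : ℤ) (hz : IsZero (P.X q)) :
    (CohIII.TFun P q).PreservesMonomorphisms ∧ (CohIII.TFun P q).PreservesEpimorphisms := by
  have hz' := isZero_TFun_obj P q hz
  refine ⟨⟨fun {M N} g _ => ?_⟩, ⟨fun {M N} g _ => ?_⟩⟩
  · exact ⟨fun {Z} a b _ => (hz' M).eq_of_tgt a b⟩
  · exact ⟨fun {Z} a b _ => (hz' N).eq_of_src a b⟩

theorem finite_TFun_obj_of_finite {A : Type u} [CommRing A] [IsNoetherianRing A]
    (P : ChainComplex (ModuleCat.{u} A) ℤ) (hP : ∀ i, Module.Flat A (P.X i)) (i₀ : ℤ)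
    (hb : ∀ i < i₀, IsZero (P.X i))
    (hfg : ∀ n : ℤ, Module.Finite A ((CohIII.TFun P n).obj (ModuleCat.of A A)))
    (q : ℤ) (M : Type u) [AddCommGroup M] [Module A M] [Module.Finite A M] :
    Module.Finite A ((CohIII.TFun P q).obj (ModuleCat.of A M)) := by
  have key : ∀ n : ℕ, ∀ q : ℤ, q < i₀ + n → ∀ (M : Type u) [AddCommGroup M] [Module A M]
      [Module.Finite A M], Module.Finite A ((CohIII.TFun P q).obj (ModuleCat.of A M)) := by
    intro n
    induction n with
    | zero =>
      intro q hq M _ _ _
      have hz := isZero_TFun_obj P q (hb q (by simpa using hq)) (ModuleCat.of A M)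
      have : Subsingleton ((CohIII.TFun P q).obj (ModuleCat.of A M)) :=
        ModuleCat.subsingleton_of_isZero hz
      infer_instance
    | succ n ih =>
      intro q hq M _ _ _
      by_cases hlt : q < i₀ + n
      · exact ih q hlt M
      · obtain ⟨m, f, hf⟩ := Module.Finite.exists_fin' A M
        have hSE := LinearMap.shortExact_shortComplexKer hf
        have hrel : (ComplexShape.down ℤ).Rel q (q - 1) := by
          change q - 1 + 1 = q
          omega
        have hex := Groth.Agent.Helper7.TFun.exact₃ P hP _ hSE q (q - 1) hrel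
        rw [ShortComplex.moduleCat_exact_iff_range_eq_ker] at hex
        have hfree : Module.Free A (ModuleCat.of A (Fin m → A)) :=
          inferInstanceAs (Module.Free A (Fin m → A))
        have hbij := tM_bijective_of_free (CohIII.TFun P q) (ModuleCat.of A (Fin m → A))
        have := hfg q
        have h2 : Module.Finite A ((CohIII.TFun P q).obj (ModuleCat.of A (Fin m → A))) :=
          Module.Finite.equiv (LinearEquiv.ofBijective _ hbij)
        have h1 : Module.Finite A ((CohIII.TFun P (q - 1)).obj
            (ModuleCat.of A (LinearMap.ker f))) :=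
          ih (q - 1) (by push_cast at hq; omega) (LinearMap.ker f)
        have n1 : IsNoetherian A ((CohIII.TFun P q).obj (ModuleCat.of A (Fin m → A))) :=
          inferInstance
        have n2 : IsNoetherian A ((CohIII.TFun P (q - 1)).obj
            (ModuleCat.of A (LinearMap.ker f))) := inferInstance
        have n3 : IsNoetherian A ((CohIII.TFun P q).obj (ModuleCat.of A M)) :=
          @isNoetherian_of_range_eq_ker A ((CohIII.TFun P q).obj (ModuleCat.of A (Fin m → A)))
            ((CohIII.TFun P q).obj (ModuleCat.of A M)) _ _ _ _ _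
            ((CohIII.TFun P (q - 1)).obj (ModuleCat.of A (LinearMap.ker f))) _ _ n1 n2
            ((CohIII.TFun P q).map f.shortComplexKer.g).hom
            (Groth.Agent.Helper7.TFun.δ P hP _ hSE q (q - 1) hrel).hom hex
        infer_instance
  obtain ⟨n, hn⟩ : ∃ n : ℕ, q < i₀ + n := ⟨(q - i₀ + 1).toNat, by omega⟩
  exact key n q hn M

end Groth.Agent.Helper7.TFin
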