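import Groth.Agent.Lib.Helper7.TFin1
import Groth.Agent.S4485
import Groth.Agent.S4486

/-!
# Constancy of `dRank` on a dense open of an irreducible component (helper7)
-/

set_option autoImplicit false
universe u
open CategoryTheory MonoidalCategory TensorProduct CategoryTheory.Limits

namespace Groth.Agent.Helper7.TFin

open Groth.Agent.Helper7.TComp

theorem finite_of_restrict' {A B : Type u} [CommRing A] [CommRing B] [Algebra A B]
    (V : ModuleCat.{u} B)
    (h : Module.Finite A ((ModuleCat.restrictScalars (algebraMap A B)).obj V)) :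
    Module.Finite B V := by
  obtain ⟨s, hs⟩ := h.fg_top
  let s' : Finset V := s
  refine ⟨⟨s', ?_⟩⟩
  have key : ∀ x : (ModuleCat.restrictScalars (algebraMap A B)).obj V,
      x ∈ Submodule.span A (s : Set ((ModuleCat.restrictScalars (algebraMap A B)).obj V)) →
      (show V from x) ∈ Submodule.span B (s' : Set V) := by
    intro x hx
    induction hx using Submodule.span_induction with
    | mem x hx => exact Submodule.subset_span hx
    | zero => exact Submodule.zero_mem _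
    | add x y _ _ hx hy => exact Submodule.add_mem _ hx hy
    | smul a x _ hx => exact Submodule.smul_mem _ (algebraMap A B a) hx
  rw [eq_top_iff]
  intro v _
  exact key v (by rw [hs]; trivial)

/-- `B|_A ≅ B` in `ModuleCat A` -/
noncomputable def selfIso {A B : Type u} [CommRing A] [CommRing B] [Algebra A B] :
    ModuleCat.of A B ≅
      (ModuleCat.restrictScalars (algebraMap A B)).obj (ModuleCat.of B B) :=
  (Groth.Agent.Helper4.DRank.e₀ (A := A) (k := B)).symm.toModuleIso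

/-- finiteness of `T^B_q(B)` for a finite `A`-algebra `B`-module -/
theorem finite_TFun_bcCx_self {A B : Type u} [CommRing A] [IsNoetherianRing A] [CommRing B]
    [Algebra A B] [Module.Finite A B]
    (P : ChainComplex (ModuleCat.{u} A) ℤ) (hP : ∀ i, Module.Flat A (P.X i)) (i₀ : ℤ)
    (hb : ∀ i < i₀, IsZero (P.X i))
    (hfg : ∀ n : ℤ, Module.Finite A ((CohIII.TFun P n).obj (ModuleCat.of A A))) (q : ℤ) :
    Module.Finite B ((CohIII.TFun (CohIII.bcCx (algebraMap A B) P) q).obj (ModuleCat.of B B)) := by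
  apply finite_of_restrict' (A := A)
  have h1 := finite_TFun_obj_of_finite P hP i₀ hb hfg q B
  have e1 := ((CohIII.TFun P q).mapIso (selfIso (A := A) (B := B))).toLinearEquiv
  have e2 := (Groth.Agent.Helper7.TBr.hIso P q (ModuleCat.of B B)).symm.toLinearEquiv
  exact Module.Finite.equiv (e1 ≪≫ₗ e2)

theorem exists_const_dRank {A : Type u} [CommRing A] [IsNoetherianRing A]
    (P : ChainComplex (ModuleCat.{u} A) ℤ) (hP : ∀ i, Module.Flat A (P.X i)) (i₀ : ℤ)
    (hb : ∀ i < i₀, IsZero (P.X i))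
    (hfg : ∀ n : ℤ, Module.Finite A ((CohIII.TFun P n).obj (ModuleCat.of A A))) (N : ℤ)
    (𝔭 : Ideal A) [𝔭.IsPrime] :
    ∃ f : A, f ∉ 𝔭 ∧ ∀ q ≤ N, ∃ c : ℕ, ∀ x : PrimeSpectrum A, 𝔭 ≤ x.asIdeal → f ∉ x.asIdeal →
      CohIII.dRank P q x = c := by
  have hP' : ∀ i, Module.Flat (A ⧸ 𝔭) ((CohIII.bcCx (algebraMap A (A ⧸ 𝔭)) P).X i) :=
    fun i => Groth.Agent.Helper7.TBr.flat_bcCx P i (hP i)
  have hb' : ∀ i < i₀, IsZero ((CohIII.bcCx (algebraMap A (A ⧸ 𝔭)) P).X i) :=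
    fun i hi => Groth.Agent.Helper7.TBr.isZero_bcCx P i (hb i hi)
  have hfin' : ∀ n : ℤ, Module.Finite (A ⧸ 𝔭)
      ((CohIII.TFun (CohIII.bcCx (algebraMap A (A ⧸ 𝔭)) P) n).obj
        (ModuleCat.of (A ⧸ 𝔭) (A ⧸ 𝔭))) :=
    fun n => finite_TFun_bcCx_self (B := A ⧸ 𝔭) P hP i₀ hb hfg n
  have hfp' : ∀ n : ℤ, Module.FinitePresentation (A ⧸ 𝔭)
      (CohIII.T (CohIII.bcCx (algebraMap A (A ⧸ 𝔭)) P) n (ModuleCat.of (A ⧸ 𝔭) (A ⧸ 𝔭))) :=
    fun n => @Module.finitePresentation_of_finite (A ⧸ 𝔭) _ _ _ _ _ (hfin' n)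
  obtain ⟨f', hf'0, hex⟩ := Groth.Agent.S4486.result _ hP' i₀ hb' hfp' N
  obtain ⟨f, rfl⟩ := Ideal.Quotient.mk_surjective f'
  refine ⟨f, fun hf => hf'0 (Ideal.Quotient.eq_zero_iff_mem.2 hf), fun q hq => ?_⟩
  have hBdom : IsDomain (Localization.Away (Ideal.Quotient.mk 𝔭 f)) :=
    IsLocalization.isDomain_localization (powers_le_nonZeroDivisors_of_noZeroDivisors hf'0)
  have hBnoeth : IsNoetherianRing (Localization.Away (Ideal.Quotient.mk 𝔭 f)) :=
    IsLocalization.isNoetherianRing (Submonoid.powers (Ideal.Quotient.mk 𝔭 f)) _ inferInstance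
  have hBflat : Module.Flat (A ⧸ 𝔭) (Localization.Away (Ideal.Quotient.mk 𝔭 f)) :=
    IsLocalization.flat _ (Submonoid.powers (Ideal.Quotient.mk 𝔭 f))
  have hP'' : ∀ i, Module.Flat (Localization.Away (Ideal.Quotient.mk 𝔭 f))
      ((CohIII.bcCx (algebraMap (A ⧸ 𝔭) (Localization.Away (Ideal.Quotient.mk 𝔭 f)))
        (CohIII.bcCx (algebraMap A (A ⧸ 𝔭)) P)).X i) :=
    fun i => Groth.Agent.Helper7.TBr.flat_bcCx _ i (hP' i)
  have hfin'' : Module.Finite (Localization.Away (Ideal.Quotient.mk 𝔭 f))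
      ((CohIII.TFun (CohIII.bcCx (algebraMap (A ⧸ 𝔭) (Localization.Away (Ideal.Quotient.mk 𝔭 f)))
        (CohIII.bcCx (algebraMap A (A ⧸ 𝔭)) P)) q).obj
        (ModuleCat.of (Localization.Away (Ideal.Quotient.mk 𝔭 f))
          (Localization.Away (Ideal.Quotient.mk 𝔭 f)))) := by
    have := hfin' q
    exact Module.Finite.equiv (Groth.Agent.Helper7.TBr.TFunUnitEquiv
      (B := Localization.Away (Ideal.Quotient.mk 𝔭 f)) (CohIII.bcCx (algebraMap A (A ⧸ 𝔭)) P) q).symm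
  have hfp'' := @Module.finitePresentation_of_finite _ _ _ _ _ _ hfin''
  have hlc := Groth.Agent.S4485.result _ hP'' q (hex q hq) hfp''
  refine ⟨CohIII.dRank (CohIII.bcCx (algebraMap (A ⧸ 𝔭) (Localization.Away (Ideal.Quotient.mk 𝔭 f)))
    (CohIII.bcCx (algebraMap A (A ⧸ 𝔭)) P)) q ⟨⊥, Ideal.isPrime_bot⟩, fun x hx hfx => ?_⟩
  obtain ⟨x', rfl⟩ : x ∈ Set.range (PrimeSpectrum.comap (algebraMap A (A ⧸ 𝔭))) := by
    rw [_root_.range_comap_of_surjective _ (algebraMap A (A ⧸ 𝔭)) Ideal.Quotient.mk_surjective,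
      PrimeSpectrum.mem_zeroLocus]
    intro a ha
    apply hx
    have ha' : algebraMap A (A ⧸ 𝔭) a = 0 := ha
    exact Ideal.Quotient.eq_zero_iff_mem.1 ha'
  obtain ⟨y, rfl⟩ : x' ∈ Set.range (PrimeSpectrum.comap
      (algebraMap (A ⧸ 𝔭) (Localization.Away (Ideal.Quotient.mk 𝔭 f)))) := by
    rw [PrimeSpectrum.localization_away_comap_range _ (Ideal.Quotient.mk 𝔭 f)]
    exact hfx
  rw [← Groth.Agent.Helper4.DRank.dRank_bcCx, ← Groth.Agent.Helper4.DRank.dRank_bcCx]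
  exact hlc.apply_eq_of_preconnectedSpace _ _

end Groth.Agent.Helper7.TFin
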