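import Groth.Prelude.Def_ega3
import Mathlib.Algebra.Homology.HomologySequence
import Mathlib.Algebra.Homology.HomologicalComplexAbelian
import Mathlib.Algebra.Homology.ShortComplex.ModuleCat
import Mathlib.Algebra.Homology.ShortComplex.Linear
import Mathlib.RingTheory.Flat.Basic
import Mathlib.CategoryTheory.Monoidal.Linear

/-!
# The homological functor `T_p(M) = H_p(P ⊗ M)` of a complex of flat modules: linearity and the
long exact sequence
-/

set_option autoImplicit false
universe u

namespace Groth.Agent.Helper7.TFun

open CategoryTheory CategoryTheory.Limits MonoidalCategory CohIII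

variable {A : Type u} [CommRing A] {ι : Type} {c : ComplexShape ι}
  (P : HomologicalComplex (ModuleCat.{u} A) c)

@[simp] lemma tensorMap_f {M N : ModuleCat.{u} A} (g : M ⟶ N) (i : ι) :
    (tensorMap P g).f i = P.X i ◁ g := rfl

lemma tensorMap_add {M N : ModuleCat.{u} A} (g h : M ⟶ N) :
    tensorMap P (g + h) = tensorMap P g + tensorMap P h := by
  ext i : 1
  simp only [tensorMap_f, HomologicalComplex.add_f_apply]
  exact MonoidalPreadditive.whiskerLeft_add _ _

lemma tensorMap_zero {M N : ModuleCat.{u} A} :
    tensorMap P (0 : M ⟶ N) = 0 := by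
  ext i : 1
  simp only [tensorMap_f, HomologicalComplex.zero_f]
  exact MonoidalPreadditive.whiskerLeft_zero

lemma tensorMap_smul {M N : ModuleCat.{u} A} (a : A) (g : M ⟶ N) :
    tensorMap P (a • g) = a • tensorMap P g := by
  ext i : 1
  simp only [tensorMap_f, HomologicalComplex.smul_f_apply]
  exact MonoidalLinear.whiskerLeft_smul _ _ _

lemma tensorMap_comp {M N L : ModuleCat.{u} A} (g : M ⟶ N) (h : N ⟶ L) :
    tensorMap P (g ≫ h) = tensorMap P g ≫ tensorMap P h := by
  ext i : 1
  simp only [tensorMap_f, HomologicalComplex.comp_f]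
  exact MonoidalCategory.whiskerLeft_comp _ _ _

lemma homologyMap_smul {K L : HomologicalComplex (ModuleCat.{u} A) c} (a : A) (φ : K ⟶ L)
    (i : ι) : HomologicalComplex.homologyMap (a • φ) i = a • HomologicalComplex.homologyMap φ i := by
  have h : (HomologicalComplex.shortComplexFunctor (ModuleCat.{u} A) c i).map (a • φ) =
      a • (HomologicalComplex.shortComplexFunctor (ModuleCat.{u} A) c i).map φ := by
    ext <;> rfl
  change ShortComplex.homologyMap
    ((HomologicalComplex.shortComplexFunctor (ModuleCat.{u} A) c i).map (a • φ)) =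
    a • ShortComplex.homologyMap ((HomologicalComplex.shortComplexFunctor (ModuleCat.{u} A) c i).map φ)
  rw [h, ShortComplex.homologyMap_smul]

lemma TFun_map {M N : ModuleCat.{u} A} (p : ι) (g : M ⟶ N) :
    (TFun P p).map g = HomologicalComplex.homologyMap (tensorMap P g) p := rfl

instance (p : ι) : (TFun P p).Additive where
  map_add {M N g h} := by
    rw [TFun_map, TFun_map, TFun_map, tensorMap_add, HomologicalComplex.homologyMap_add]
    rfl

instance (p : ι) : (TFun P p).Linear A where
  map_smul {M N} g a := by
    rw [TFun_map, TFun_map, tensorMap_smul, homologyMap_smul]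
    rfl

lemma TFun_map_smul_id (p : ι) (M : ModuleCat.{u} A) (a : A) :
    (TFun P p).map (a • 𝟙 M) = a • 𝟙 _ := by
  rw [(TFun P p).map_smul, CategoryTheory.Functor.map_id]

section LES

variable (hP : ∀ i, Module.Flat A (P.X i))

/-- The short complex of complexes `P ⊗ S`. -/
noncomputable def tensorSC (S : ShortComplex (ModuleCat.{u} A)) :
    ShortComplex (HomologicalComplex (ModuleCat.{u} A) c) :=
  ShortComplex.mk (tensorMap P S.f) (tensorMap P S.g) (by
    rw [← tensorMap_comp, S.zero, tensorMap_zero])

include hP in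
lemma tensorSC_shortExact (S : ShortComplex (ModuleCat.{u} A)) (hS : S.ShortExact) :
    (tensorSC P S).ShortExact := by
  apply HomologicalComplex.shortExact_of_degreewise_shortExact
  intro i
  have := hP i
  apply ModuleCat.shortComplex_shortExact
  · change Function.Exact (S.f.hom.lTensor (P.X i)) (S.g.hom.lTensor (P.X i))
    exact Module.Flat.lTensor_exact (P.X i)
      ((ShortComplex.ShortExact.moduleCat_exact_iff_function_exact S).mp hS.exact)
  · change Function.Injective (S.f.hom.lTensor (P.X i))
    exact Module.Flat.lTensor_preserves_injective_linearMap _ hS.moduleCat_injective_f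
  · change Function.Surjective (S.g.hom.lTensor (P.X i))
    exact LinearMap.lTensor_surjective _ hS.moduleCat_surjective_g

include hP in
/-- `T_p` is half exact. -/
lemma halfExact (p : ι) (S : ShortComplex (ModuleCat.{u} A)) (hS : S.ShortExact) :
    (S.map (TFun P p)).Exact :=
  (tensorSC_shortExact P hP S hS).homology_exact₂ p

/-- The connecting homomorphism `T_i(M'') → T_j(M')`. -/
noncomputable def δ (S : ShortComplex (ModuleCat.{u} A)) (hS : S.ShortExact) (i j : ι)
    (hij : c.Rel i j) : (TFun P i).obj S.X₃ ⟶ (TFun P j).obj S.X₁ :=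
  (tensorSC_shortExact P hP S hS).δ i j hij

lemma δ_comp (S : ShortComplex (ModuleCat.{u} A)) (hS : S.ShortExact) (i j : ι)
    (hij : c.Rel i j) : δ P hP S hS i j hij ≫ (TFun P j).map S.f = 0 :=
  (tensorSC_shortExact P hP S hS).δ_comp i j hij

lemma comp_δ (S : ShortComplex (ModuleCat.{u} A)) (hS : S.ShortExact) (i j : ι)
    (hij : c.Rel i j) : (TFun P i).map S.g ≫ δ P hP S hS i j hij = 0 :=
  (tensorSC_shortExact P hP S hS).comp_δ i j hij

/-- Exactness at `T_j(M')`. -/
lemma exact₁ (S : ShortComplex (ModuleCat.{u} A)) (hS : S.ShortExact) (i j : ι)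
    (hij : c.Rel i j) : (ShortComplex.mk _ _ (δ_comp P hP S hS i j hij)).Exact :=
  (tensorSC_shortExact P hP S hS).homology_exact₁ i j hij

/-- Exactness at `T_i(M'')`. -/
lemma exact₃ (S : ShortComplex (ModuleCat.{u} A)) (hS : S.ShortExact) (i j : ι)
    (hij : c.Rel i j) : (ShortComplex.mk _ _ (comp_δ P hP S hS i j hij)).Exact :=
  (tensorSC_shortExact P hP S hS).homology_exact₃ i j hij

end LES

end Groth.Agent.Helper7.TFun
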