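import Mathlib.Algebra.Category.ModuleCat.Abelian
import Mathlib.Algebra.Category.ModuleCat.Colimits
import Mathlib.Algebra.Category.ModuleCat.FilteredColimits
import Mathlib.CategoryTheory.Linear.LinearFunctor
import Mathlib.CategoryTheory.Filtered.Basic
import Mathlib.CategoryTheory.Limits.Types.Filtered
import Mathlib.CategoryTheory.Limits.ConcreteCategory.Basic
import Mathlib.Algebra.Module.LocalizedModule.Basic

/-!
# Localization of a module as a filtered colimit, and functors commuting with filtered colimits
-/

set_option autoImplicit false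
universe u

namespace Groth.Agent.Helper7.TLoc

open CategoryTheory CategoryTheory.Limits

variable {A : Type u} [CommRing A]

/-- The filtered category attached to a submonoid `S`: objects are elements of `S`, morphisms `s ⟶ s'` are
`t ∈ S` with `s * t = s'`. -/
structure LocCat (S : Submonoid A) : Type u where
  val : S

namespace LocCat

variable {S : Submonoid A}

instance : Category.{u} (LocCat S) where
  Hom s s' := {t : S // s.val * t = s'.val}
  id s := ⟨1, mul_one _⟩
  comp {a b c} f g := ⟨f.1 * g.1, by rw [← mul_assoc, f.2, g.2]⟩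
  id_comp f := Subtype.ext (one_mul _)
  comp_id f := Subtype.ext (mul_one _)
  assoc f g h := Subtype.ext (mul_assoc _ _ _)

lemma comp_val {a b c : LocCat S} (f : a ⟶ b) (g : b ⟶ c) : (f ≫ g).1 = f.1 * g.1 := rfl

lemma id_val (a : LocCat S) : (𝟙 a : a ⟶ a).1 = 1 := rfl

instance : IsFiltered (LocCat S) where
  nonempty := ⟨⟨1⟩⟩
  cocone_objs s s' := ⟨⟨s.val * s'.val⟩, ⟨s'.val, rfl⟩, ⟨s.val, mul_comm _ _⟩, trivial⟩
  cocone_maps {s s'} t t' := ⟨⟨s'.val * s.val⟩, ⟨s.val, rfl⟩, by
    apply Subtype.ext
    rw [comp_val, comp_val]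
    change t.1 * s.val = t'.1 * s.val
    rw [mul_comm t.1, mul_comm t'.1, t.2, t'.2]⟩

end LocCat

variable (S : Submonoid A) (M : ModuleCat.{u} A)

/-- The diagram `s ↦ M` with transition maps multiplication by `t`. -/
noncomputable def locDiagram : LocCat S ⥤ ModuleCat.{u} A where
  obj _ := M
  map {s s'} t := (t.1 : A) • 𝟙 M
  map_id s := by
    change ((1 : S) : A) • 𝟙 M = 𝟙 M
    simp
  map_comp {a b c} f g := by
    ext x
    simp [LocCat.comp_val, mul_smul, smul_comm (f.1 : A) (g.1 : A) x]

lemma locDiagram_map_apply {s s' : LocCat S} (t : s ⟶ s') (x : M) :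
    ((locDiagram S M).map t).hom x = (t.1 : A) • x := rfl

/-- `x ↦ x / s`. -/
noncomputable def divMap (s : S) : M ⟶ ModuleCat.of A (LocalizedModule S M) :=
  ModuleCat.ofHom
    { toFun := fun x => LocalizedModule.mk x s
      map_add' := fun x y => by
        rw [LocalizedModule.mk_add_mk, ← smul_add, LocalizedModule.mk_cancel_common_left]
      map_smul' := fun a x => by
        simp [LocalizedModule.smul'_mk] }

lemma divMap_apply (s : S) (x : M) : (divMap S M s).hom x = LocalizedModule.mk x s := rfl

lemma divMap_one : divMap S M 1 = ModuleCat.ofHom (LocalizedModule.mkLinearMap S M) := by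
  ext x
  rfl

lemma smul_divMap (s : S) : (s : A) • divMap S M s = divMap S M 1 := by
  ext x
  change (s : A) • LocalizedModule.mk x s = LocalizedModule.mk x 1
  rw [LocalizedModule.smul'_mk]
  have := LocalizedModule.mk_cancel (S := S) (M := M) s x
  rw [← this]
  congr 1

lemma divMap_naturality (s s' t : S) (h : s * t = s') (x : M) :
    LocalizedModule.mk ((t : A) • x) s' = LocalizedModule.mk x s := by
  subst h
  rw [mul_comm, ← Submonoid.smul_def, LocalizedModule.mk_cancel_common_left]

/-- The cocone with point `S⁻¹M`. -/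
noncomputable def locCocone : Cocone (locDiagram S M) where
  pt := ModuleCat.of A (LocalizedModule S M)
  ι :=
    { app := fun s => divMap S M s.val
      naturality := fun s s' t => by
        ext x
        exact divMap_naturality S M s.val s'.val t.1 t.2 x }

lemma exists_of_mk_eq (s s' : LocCat S) (x x' : M)
    (h : LocalizedModule.mk x s.val = LocalizedModule.mk x' s'.val) :
    ∃ (k : LocCat S) (f : s ⟶ k) (g : s' ⟶ k), (f.1 : A) • x = (g.1 : A) • x' := by
  rw [LocalizedModule.mk_eq] at h
  obtain ⟨u, hu⟩ := h
  refine ⟨⟨s.val * s'.val * u⟩, ⟨s'.val * u, by rw [mul_assoc]⟩,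
    ⟨s.val * u, by rw [mul_comm s.val s'.val, mul_assoc]⟩, ?_⟩
  change ((s'.val * u : S) : A) • x = ((s.val * u : S) : A) • x'
  rw [← Submonoid.smul_def, ← Submonoid.smul_def, mul_comm s'.val, mul_comm s.val, mul_smul,
    mul_smul]
  exact hu

/-- `S⁻¹M` is the filtered colimit of the diagram. -/
noncomputable def isColimitLocCocone : IsColimit (locCocone S M) := by
  refine isColimitOfReflects (forget (ModuleCat.{u} A))
    (Types.FilteredColimit.isColimitOf _ _ ?_ ?_)
  · intro x
    induction x using LocalizedModule.induction_on with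
    | h m s => exact ⟨⟨s⟩, m, rfl⟩
  · intro s s' x x' h
    exact exists_of_mk_eq S M s s' x x' h

end Groth.Agent.Helper7.TLoc
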