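import Groth.Agent.Lib.Helper7.TLoc1

/-!
# `T(S⁻¹M) = S⁻¹T(M)` for linear functors commuting with filtered colimits
-/

set_option autoImplicit false
universe u

namespace Groth.Agent.Helper7.TLoc

open CategoryTheory CategoryTheory.Limits

variable {A : Type u} [CommRing A]
  (T : ModuleCat.{u} A ⥤ ModuleCat.{u} A) [T.Additive] [T.Linear A]

omit [T.Additive] in
lemma map_smul_apply {M N : ModuleCat.{u} A} (a : A) (f : M ⟶ N) (y : T.obj M) :
    (T.map (a • f)).hom y = a • (T.map f).hom y := by
  rw [Functor.map_smul]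
  rfl

omit [T.Additive] in
lemma map_smul_id_apply {M : ModuleCat.{u} A} (a : A) (y : T.obj M) :
    (T.map (a • 𝟙 M)).hom y = a • y := by
  rw [map_smul_apply, T.map_id]
  rfl

theorem isLocalizedModule_map
    (hT : ∀ (J : Type u) [SmallCategory J] [IsFiltered J], PreservesColimitsOfShape J T)
    (S : Submonoid A) (M : ModuleCat.{u} A) :
    IsLocalizedModule S (T.map (ModuleCat.ofHom (LocalizedModule.mkLinearMap S M) :
      M ⟶ ModuleCat.of A (LocalizedModule S M))).hom := by
  have := hT (LocCat S)
  have hc : IsColimit (T.mapCocone (locCocone S M)) :=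
    isColimitOfPreserves T (isColimitLocCocone S M)
  rw [← divMap_one]
  refine ⟨?_, ?_, ?_⟩
  · -- units
    intro s
    have hu := IsLocalizedModule.map_units (LocalizedModule.mkLinearMap S M) s
    rw [Module.End.isUnit_iff] at hu ⊢
    -- `s •` on `S⁻¹M` is bijective, so an iso in ModuleCat
    have hiso : IsIso ((s : A) • 𝟙 (ModuleCat.of A (LocalizedModule S M))) := by
      rw [ConcreteCategory.isIso_iff_bijective]
      exact hu
    have hiso' : IsIso (T.map ((s : A) • 𝟙 (ModuleCat.of A (LocalizedModule S M)))) :=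
      inferInstance
    have hb := (ConcreteCategory.isIso_iff_bijective _).mp hiso'
    convert hb using 1
    ext y
    exact (map_smul_id_apply T (s : A) y).symm
  · -- surjectivity
    intro y
    obtain ⟨s, x, hx⟩ := Concrete.isColimit_exists_rep _ hc y
    refine ⟨⟨x, s.val⟩, ?_⟩
    change (s.val : A) • y = (T.map (divMap S M 1)).hom x
    rw [← hx, ← smul_divMap S M s.val, map_smul_apply]
    rfl
  · -- kernel
    intro x x' h
    have h' : (T.mapCocone (locCocone S M)).ι.app ⟨1⟩ x =
        (T.mapCocone (locCocone S M)).ι.app ⟨1⟩ x' := h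
    obtain ⟨k, f, g, hfg⟩ := Concrete.isColimit_exists_of_rep_eq _ hc x x' h'
    have hf : f.1 = k.val := by have := f.2; rwa [one_mul] at this
    have hg : g.1 = k.val := by have := g.2; rwa [one_mul] at this
    refine ⟨k.val, ?_⟩
    have h1 : ((locDiagram S M ⋙ T).map f).hom x = (k.val : A) • x := by
      change (T.map ((f.1 : A) • 𝟙 M)).hom x = _
      rw [map_smul_id_apply, hf]
    have h2 : ((locDiagram S M ⋙ T).map g).hom x' = (k.val : A) • x' := by
      change (T.map ((g.1 : A) • 𝟙 M)).hom x' = _
      rw [map_smul_id_apply, hg]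
    rw [Submonoid.smul_def, Submonoid.smul_def, ← h1, ← h2]
    exact hfg

end Groth.Agent.Helper7.TLoc
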