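import Groth.Agent.Lib.Helper7.TLoc2
import Mathlib.Algebra.Category.ModuleCat.ChangeOfRings
import Mathlib.RingTheory.Localization.AtPrime.Basic
import Mathlib.RingTheory.Localization.Module
import Mathlib.Algebra.Module.LocalizedModule.Exact
import Mathlib.RingTheory.LocalProperties.Exactness
import Mathlib.Algebra.Homology.ShortComplex.ExactFunctor
import Mathlib.Algebra.Homology.ShortComplex.ModuleCat

/-!
# Exactness of `T` can be checked after localizing at maximal ideals
-/

set_option autoImplicit false
universe u

namespace Groth.Agent.Helper7.TLoc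

open CategoryTheory CategoryTheory.Limits

variable {A : Type u} [CommRing A]
  (T : ModuleCat.{u} A ⥤ ModuleCat.{u} A) [T.Additive] [T.Linear A]

/-- General form: `T` of a localization map is a localization map. -/
theorem isLocalizedModule_map'
    (hT : ∀ (J : Type u) [SmallCategory J] [IsFiltered J], PreservesColimitsOfShape J T)
    (S : Submonoid A) {M N : ModuleCat.{u} A} (φ : M ⟶ N) [IsLocalizedModule S φ.hom] :
    IsLocalizedModule S (T.map φ).hom := by
  let e : LocalizedModule S M ≃ₗ[A] N := IsLocalizedModule.iso S φ.hom
  have hφ : φ = ModuleCat.ofHom (LocalizedModule.mkLinearMap S M) ≫ e.toModuleIso.hom := by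
    ext x
    simp [e, IsLocalizedModule.iso_apply_mk]
  have h1 := isLocalizedModule_map T hT S M
  have h2 : (T.map φ).hom = ((T.mapIso e.toModuleIso).toLinearEquiv).toLinearMap ∘ₗ
      (T.map (ModuleCat.ofHom (LocalizedModule.mkLinearMap S M))).hom := by
    rw [hφ, T.map_comp]
    rfl
  rw [h2]
  infer_instance

variable (m : Ideal A) [m.IsPrime]

/-- `M_m` as an `A_m`-module. -/
noncomputable def locObj (M : ModuleCat.{u} A) : ModuleCat.{u} (Localization.AtPrime m) :=
  ModuleCat.of _ (LocalizedModule m.primeCompl M)

/-- `f_m`. -/
noncomputable def locMap {M N : ModuleCat.{u} A} (f : M ⟶ N) : locObj m M ⟶ locObj m N :=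
  ModuleCat.ofHom (LocalizedModule.map m.primeCompl f.hom)

/-- `M_m` as an `A`-module. -/
noncomputable abbrev resObj (M : ModuleCat.{u} A) : ModuleCat.{u} A :=
  (ModuleCat.restrictScalars (algebraMap A (Localization.AtPrime m))).obj (locObj m M)

/-- the identity `LocalizedModule ≃ restrictScalars`. -/
noncomputable def resEquiv (M : ModuleCat.{u} A) :
    LocalizedModule m.primeCompl M ≃ₗ[A] resObj m M where
  toFun x := x
  invFun x := x
  left_inv _ := rfl
  right_inv _ := rfl
  map_add' _ _ := rfl
  map_smul' a x := by
    change a • x = algebraMap A (Localization.AtPrime m) a • x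
    rw [algebraMap_smul]

/-- `M → M_m`. -/
noncomputable def toLoc (M : ModuleCat.{u} A) : M ⟶ resObj m M :=
  ModuleCat.ofHom (X := M) (Y := resObj m M)
    ((resEquiv m M).toLinearMap ∘ₗ LocalizedModule.mkLinearMap m.primeCompl M)

instance (M : ModuleCat.{u} A) : IsLocalizedModule m.primeCompl (toLoc m M).hom := by
  change IsLocalizedModule m.primeCompl
    ((resEquiv m M).toLinearMap ∘ₗ LocalizedModule.mkLinearMap m.primeCompl M)
  infer_instance

lemma toLoc_naturality {M N : ModuleCat.{u} A} (f : M ⟶ N) :
    toLoc m M ≫ (ModuleCat.restrictScalars (algebraMap A (Localization.AtPrime m))).map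
      (locMap m f) = f ≫ toLoc m N := by
  ext x
  change LocalizedModule.map m.primeCompl f.hom (LocalizedModule.mk x 1) =
    LocalizedModule.mk (f.hom x) 1
  rw [LocalizedModule.map_mk]

/-- the localized short complex -/
noncomputable def locSC (S : ShortComplex (ModuleCat.{u} A)) :
    ShortComplex (ModuleCat.{u} (Localization.AtPrime m)) :=
  ShortComplex.mk (locMap m S.f) (locMap m S.g) (by
    ext x
    induction x using LocalizedModule.induction_on with
    | h x s =>
      change LocalizedModule.map m.primeCompl S.g.hom
        (LocalizedModule.map m.primeCompl S.f.hom (LocalizedModule.mk x s)) = 0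
      rw [LocalizedModule.map_mk, LocalizedModule.map_mk]
      have : S.g.hom (S.f.hom x) = 0 := S.moduleCat_zero_apply x
      rw [this, LocalizedModule.zero_mk])

lemma locSC_shortExact (S : ShortComplex (ModuleCat.{u} A)) (hS : S.ShortExact) :
    (locSC m S).ShortExact := by
  apply ModuleCat.shortComplex_shortExact
  · exact LocalizedModule.map_exact m.primeCompl S.f.hom S.g.hom
      ((ShortComplex.ShortExact.moduleCat_exact_iff_function_exact S).mp hS.exact)
  · exact LocalizedModule.map_injective m.primeCompl S.f.hom hS.moduleCat_injective_f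
  · exact LocalizedModule.map_surjective m.primeCompl S.g.hom hS.moduleCat_surjective_g

variable (hT : ∀ (J : Type u) [SmallCategory J] [IsFiltered J], PreservesColimitsOfShape J T)
include hT

/-- The localized map of `T(f)` is `T(f_m)`. -/
lemma map_eq {M N : ModuleCat.{u} A} (f : M ⟶ N) :
    have := isLocalizedModule_map' T hT m.primeCompl (toLoc m M)
    have := isLocalizedModule_map' T hT m.primeCompl (toLoc m N)
    IsLocalizedModule.map m.primeCompl (T.map (toLoc m M)).hom (T.map (toLoc m N)).hom
      (T.map f).hom =
    (T.map ((ModuleCat.restrictScalars (algebraMap A (Localization.AtPrime m))).map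
      (locMap m f))).hom := by
  intro h1 h2
  apply IsLocalizedModule.lift_unique
  have := congrArg (fun g => (T.map g).hom) (toLoc_naturality m f)
  simp only [T.map_comp] at this
  exact this

end Groth.Agent.Helper7.TLoc
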