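import Groth.Agent.Lib.Helper7.TLoc3

/-!
# Exactness of `T` can be checked after localizing at maximal ideals (final statements)
-/

set_option autoImplicit false
universe u

namespace Groth.Agent.Helper7.TLoc

open CategoryTheory CategoryTheory.Limits

variable {A : Type u} [CommRing A]
  (T : ModuleCat.{u} A ⥤ ModuleCat.{u} A) [T.Additive] [T.Linear A]
  (hT : ∀ (J : Type u) [SmallCategory J] [IsFiltered J], PreservesColimitsOfShape J T)
include hT

theorem exact_map_of_local (S : ShortComplex (ModuleCat.{u} A))
    (h : ∀ (m : Ideal A) [m.IsMaximal], ((locSC m S).map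
      (ModuleCat.restrictScalars (algebraMap A (Localization.AtPrime m)) ⋙ T)).Exact) :
    (S.map T).Exact := by
  have inst : ∀ (M : ModuleCat.{u} A) (m : Ideal A) [m.IsMaximal],
      IsLocalizedModule.AtPrime m (T.map (toLoc m M)).hom :=
    fun M m _ => isLocalizedModule_map' T hT m.primeCompl (toLoc m M)
  have i1 := inst S.X₁
  have i2 := inst S.X₂
  have i3 := inst S.X₃
  rw [ShortComplex.ShortExact.moduleCat_exact_iff_function_exact]
  change Function.Exact (T.map S.f).hom (T.map S.g).hom
  refine @exact_of_isLocalized_maximal A _ _ _ _ _ _ _ _ _ _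
    (fun m _ => T.obj (resObj m S.X₁)) _ _ (fun m _ => (T.map (toLoc m S.X₁)).hom) i1
    (fun m _ => T.obj (resObj m S.X₂)) _ _ (fun m _ => (T.map (toLoc m S.X₂)).hom) i2
    (fun m _ => T.obj (resObj m S.X₃)) _ _ (fun m _ => (T.map (toLoc m S.X₃)).hom) i3
    (T.map S.f).hom (T.map S.g).hom ?_
  intro m hm
  have e1 := map_eq T m hT S.f
  have e2 := map_eq T m hT S.g
  simp only at e1 e2
  rw [e1, e2]
  exact (ShortComplex.ShortExact.moduleCat_exact_iff_function_exact _).mp (h m)

theorem mono_map_of_local {M N : ModuleCat.{u} A} (f : M ⟶ N)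
    (h : ∀ (m : Ideal A) [m.IsMaximal], Mono (T.map
      ((ModuleCat.restrictScalars (algebraMap A (Localization.AtPrime m))).map (locMap m f)))) :
    Mono (T.map f) := by
  have inst : ∀ (M : ModuleCat.{u} A) (m : Ideal A) [m.IsMaximal],
      IsLocalizedModule.AtPrime m (T.map (toLoc m M)).hom :=
    fun M m _ => isLocalizedModule_map' T hT m.primeCompl (toLoc m M)
  have i1 := inst M
  have i2 := inst N
  rw [ModuleCat.mono_iff_injective]
  change Function.Injective (T.map f).hom
  refine @injective_of_isLocalized_maximal A _ _ _ _ _ _ _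
    (fun m _ => T.obj (resObj m M)) _ _ (fun m _ => (T.map (toLoc m M)).hom) i1
    (fun m _ => T.obj (resObj m N)) _ _ (fun m _ => (T.map (toLoc m N)).hom) i2
    (T.map f).hom ?_
  intro m hm
  have e1 := map_eq T m hT f
  simp only at e1
  rw [e1]
  exact (ModuleCat.mono_iff_injective _).mp (h m)

theorem epi_map_of_local {M N : ModuleCat.{u} A} (f : M ⟶ N)
    (h : ∀ (m : Ideal A) [m.IsMaximal], Epi (T.map
      ((ModuleCat.restrictScalars (algebraMap A (Localization.AtPrime m))).map (locMap m f)))) :
    Epi (T.map f) := by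
  have inst : ∀ (M : ModuleCat.{u} A) (m : Ideal A) [m.IsMaximal],
      IsLocalizedModule.AtPrime m (T.map (toLoc m M)).hom :=
    fun M m _ => isLocalizedModule_map' T hT m.primeCompl (toLoc m M)
  have i1 := inst M
  have i2 := inst N
  rw [ModuleCat.epi_iff_surjective]
  change Function.Surjective (T.map f).hom
  refine @surjective_of_isLocalized_maximal A _ _ _ _ _ _ _
    (fun m _ => T.obj (resObj m M)) _ _ (fun m _ => (T.map (toLoc m M)).hom) i1
    (fun m _ => T.obj (resObj m N)) _ _ (fun m _ => (T.map (toLoc m N)).hom) i2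
    (T.map f).hom ?_
  intro m hm
  have e1 := map_eq T m hT f
  simp only at e1
  rw [e1]
  exact (ModuleCat.epi_iff_surjective _).mp (h m)

theorem preservesFiniteLimits_of_local
    (h : ∀ (m : Ideal A) [m.IsMaximal], PreservesFiniteLimits
      (ModuleCat.restrictScalars (algebraMap A (Localization.AtPrime m)) ⋙ T)) :
    PreservesFiniteLimits T := by
  rw [Functor.preservesFiniteLimits_iff_forall_exact_map_and_mono]
  intro S hS
  have key : ∀ (m : Ideal A) [m.IsMaximal], ((locSC m S).map
      (ModuleCat.restrictScalars (algebraMap A (Localization.AtPrime m)) ⋙ T)).Exact ∧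
      Mono ((ModuleCat.restrictScalars (algebraMap A (Localization.AtPrime m)) ⋙ T).map
        (locSC m S).f) :=
    fun m _ => (Functor.preservesFiniteLimits_iff_forall_exact_map_and_mono _).mp (h m) _
      (locSC_shortExact m S hS)
  exact ⟨exact_map_of_local T hT S (fun m _ => (key m).1),
    mono_map_of_local T hT S.f (fun m _ => (key m).2)⟩

theorem preservesFiniteColimits_of_local
    (h : ∀ (m : Ideal A) [m.IsMaximal], PreservesFiniteColimits
      (ModuleCat.restrictScalars (algebraMap A (Localization.AtPrime m)) ⋙ T)) :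
    PreservesFiniteColimits T := by
  rw [Functor.preservesFiniteColimits_iff_forall_exact_map_and_epi]
  intro S hS
  have key : ∀ (m : Ideal A) [m.IsMaximal], ((locSC m S).map
      (ModuleCat.restrictScalars (algebraMap A (Localization.AtPrime m)) ⋙ T)).Exact ∧
      Epi ((ModuleCat.restrictScalars (algebraMap A (Localization.AtPrime m)) ⋙ T).map
        (locSC m S).g) :=
    fun m _ => (Functor.preservesFiniteColimits_iff_forall_exact_map_and_epi _).mp (h m) _
      (locSC_shortExact m S hS)
  exact ⟨exact_map_of_local T hT S (fun m _ => (key m).1),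
    epi_map_of_local T hT S.g (fun m _ => (key m).2)⟩

end Groth.Agent.Helper7.TLoc
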