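import Mathlib.Algebra.Category.ModuleCat.Abelian
import Mathlib.Algebra.Category.ModuleCat.Colimits
import Mathlib.Algebra.DirectSum.Module
import Mathlib.CategoryTheory.Limits.Preserves.Shapes.Products
import Mathlib.CategoryTheory.Preadditive.AdditiveFunctor
import Mathlib.LinearAlgebra.TensorProduct.Basic
import Mathlib.LinearAlgebra.TensorProduct.Map

/-!
# Additive functors on modules with the "finite support" property preserve coproducts
-/

set_option autoImplicit false
universe u

namespace Groth.Agent.Helper7.TSum

open CategoryTheory CategoryTheory.Limits DirectSum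

variable {A : Type u} [CommRing A] {J : Type u} [DecidableEq J] (M : J → ModuleCat.{u} A)

/-- The direct sum of a family of modules. -/
noncomputable abbrev sumObj : ModuleCat.{u} A := ModuleCat.of A (⨁ j, M j)

/-- The injections, as linear maps. -/
noncomputable def injL (j : J) : M j →ₗ[A] (⨁ j, M j) := DirectSum.lof A J (fun j => M j) j

/-- The projections, as linear maps. -/
noncomputable def projL (j : J) : (⨁ j, M j) →ₗ[A] M j :=
  DirectSum.component A J (fun j => M j) j

lemma projL_injL_self (j : J) (x : M j) : projL M j (injL M j x) = x :=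
  DirectSum.component.lof_self A (M := fun j => M j) j x

lemma projL_injL_ne {j k : J} (h : j ≠ k) (x : M j) : projL M k (injL M j x) = 0 := by
  have := DirectSum.component.of (R := A) (M := fun j => M j) k j x
  unfold projL injL
  rw [dif_neg h] at this
  exact this

/-- The injections. -/
noncomputable def inj (j : J) : M j ⟶ sumObj M := ModuleCat.ofHom (injL M j)

/-- The projections. -/
noncomputable def proj (j : J) : sumObj M ⟶ M j := ModuleCat.ofHom (projL M j)

lemma inj_proj_self (j : J) : inj M j ≫ proj M j = 𝟙 _ := by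
  ext x
  exact projL_injL_self M j x

lemma inj_proj_ne {j k : J} (h : j ≠ k) : inj M j ≫ proj M k = 0 := by
  ext x
  exact projL_injL_ne M h x

lemma sumObj_hom_ext {N : ModuleCat.{u} A} {f g : sumObj M ⟶ N}
    (h : ∀ j, inj M j ≫ f = inj M j ≫ g) : f = g := by
  ext : 1
  apply DirectSum.linearMap_ext
  intro j
  exact congrArg ModuleCat.Hom.hom (h j)

/-- The coproduct cofan. -/
noncomputable def isColimitSum : IsColimit (Cofan.mk (sumObj M) (inj M)) :=
  Cofan.IsColimit.mk _
    (fun s => ModuleCat.ofHom (DirectSum.toModule A J s.pt (fun j => (s.inj j).hom)))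
    (fun s j => by
      ext x
      exact DirectSum.toModule_lof A (M := fun j => M j) (φ := fun j => (s.inj j).hom) j x)
    (fun s m hm => by
      apply sumObj_hom_ext
      intro j
      refine (hm j).trans ?_
      ext x
      exact (DirectSum.toModule_lof A (M := fun j => M j) (φ := fun j => (s.inj j).hom) j x).symm)

/-- The idempotent attached to a finite set of indices, as a linear map. -/
noncomputable def eL (F : Finset J) : (⨁ j, M j) →ₗ[A] (⨁ j, M j) :=
  ∑ j ∈ F, injL M j ∘ₗ projL M j

/-- The idempotent attached to a finite set of indices. -/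
noncomputable def eF (F : Finset J) : sumObj M ⟶ sumObj M := ∑ j ∈ F, proj M j ≫ inj M j

lemma eF_hom (F : Finset J) : (eF M F).hom = eL M F := by
  simp only [eF, eL, ModuleCat.hom_sum]
  rfl

lemma eL_injL (F : Finset J) (j : J) (x : M j) :
    eL M F (injL M j x) = if j ∈ F then injL M j x else 0 := by
  simp only [eL, LinearMap.sum_apply, LinearMap.coe_comp, Function.comp_apply]
  have h : ∀ k ∈ F, injL M k (projL M k (injL M j x)) = if k = j then injL M j x else 0 := by
    intro k _
    by_cases hjk : j = k
    · subst hjk
      rw [projL_injL_self, if_pos rfl]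
    · rw [projL_injL_ne M hjk, map_zero, if_neg (Ne.symm hjk)]
  rw [Finset.sum_congr rfl h, Finset.sum_ite_eq' F j]

lemma eL_comp_of_subset {F F' : Finset J} (h : F ⊆ F') : eL M F' ∘ₗ eL M F = eL M F := by
  apply DirectSum.linearMap_ext
  intro j
  apply LinearMap.ext
  intro x
  change eL M F' (eL M F (injL M j x)) = eL M F (injL M j x)
  rw [eL_injL]
  split_ifs with hj
  · rw [eL_injL, if_pos (h hj)]
  · rw [map_zero]

lemma exists_eL_eq (m : ⨁ j, M j) : ∃ F : Finset J, eL M F m = m := by
  induction m using DirectSum.induction_on with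
  | zero => exact ⟨∅, map_zero _⟩
  | of j x =>
    refine ⟨{j}, ?_⟩
    change eL M {j} (injL M j x) = injL M j x
    rw [eL_injL, if_pos (Finset.mem_singleton_self j)]
  | add a b ha hb =>
    obtain ⟨Fa, ha⟩ := ha
    obtain ⟨Fb, hb⟩ := hb
    refine ⟨Fa ∪ Fb, ?_⟩
    rw [map_add]
    congr 1
    · conv_lhs => rw [← ha]
      rw [← LinearMap.comp_apply, eL_comp_of_subset M Finset.subset_union_left, ha]
    · conv_lhs => rw [← hb]
      rw [← LinearMap.comp_apply, eL_comp_of_subset M Finset.subset_union_right, hb]

/-- Elements of `N ⊗ ⨁ M_j` have finite support. -/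
lemma exists_lTensor_eL_eq (N : Type u) [AddCommGroup N] [Module A N]
    (z : TensorProduct A N (⨁ j, M j)) :
    ∃ F : Finset J, (eL M F).lTensor N z = z := by
  induction z using TensorProduct.induction_on with
  | zero => exact ⟨∅, map_zero _⟩
  | tmul n m =>
    obtain ⟨F, hF⟩ := exists_eL_eq M m
    exact ⟨F, by rw [LinearMap.lTensor_tmul, hF]⟩
  | add a b ha hb =>
    obtain ⟨Fa, ha⟩ := ha
    obtain ⟨Fb, hb⟩ := hb
    refine ⟨Fa ∪ Fb, ?_⟩
    rw [map_add]
    congr 1
    · conv_lhs => rw [← ha]
      rw [← LinearMap.comp_apply, ← LinearMap.lTensor_comp,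
        eL_comp_of_subset M Finset.subset_union_left, ha]
    · conv_lhs => rw [← hb]
      rw [← LinearMap.comp_apply, ← LinearMap.lTensor_comp,
        eL_comp_of_subset M Finset.subset_union_right, hb]

end Groth.Agent.Helper7.TSum
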