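import Mathlib
import Groth.Agent.Lib.Helper1.LocalCriterion

namespace Groth.Agent.Helper7.TorMap

open TensorProduct Function

section Key

variable {R : Type*} [CommRing R] (I : Ideal R) (M : Type*) [AddCommGroup M] [Module R M]

theorem rTensor_injective_of_torsion [Module.Flat (R ⧸ I) ((R ⧸ I) ⊗[R] M)]
    {X Y : Type*} [AddCommGroup X] [Module R X] [AddCommGroup Y] [Module R Y]
    (hX : Module.IsTorsionBySet R X I) (hY : Module.IsTorsionBySet R Y I)
    (j : X →ₗ[R] Y) (hj : Injective j) : Injective (j.rTensor M) := by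
  let _ : Module (R ⧸ I) X := hX.module
  have : IsScalarTower R (R ⧸ I) X := hX.isScalarTower
  let _ : Module (R ⧸ I) Y := hY.module
  have : IsScalarTower R (R ⧸ I) Y := hY.isScalarTower
  let j' : X →ₗ[R ⧸ I] Y :=
    { toFun := j
      map_add' := j.map_add
      map_smul' := by
        intro r x
        obtain ⟨r, rfl⟩ := Ideal.Quotient.mk_surjective r
        simp only [Module.IsTorsionBySet.mk_smul, map_smul, RingHom.id_apply] }
  have h := (Helper1.rTensor_baseChange_injective_iff (R := R) (R ⧸ I) M j').mp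
    (Module.Flat.rTensor_preserves_injective_linearMap j' hj)
  exact h

/-- the multiplication map `I ⊗ M → M` -/
noncomputable def phi : ↥I ⊗[R] M →ₗ[R] M :=
  (TensorProduct.lid R M).toLinearMap ∘ₗ I.subtype.rTensor M

@[simp] lemma phi_tmul (i : I) (m : M) : phi I M (i ⊗ₜ m) = (i : R) • m := by simp [phi]

variable (E : Type*) [AddCommGroup E] [Module R E]

/-- the multiplication map `E ⊗ I → E` -/
noncomputable def mult : E ⊗[R] ↥I →ₗ[R] E :=
  (TensorProduct.rid R E).toLinearMap ∘ₗ I.subtype.lTensor E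

@[simp] lemma mult_tmul (e : E) (i : I) : mult I E (e ⊗ₜ i) = (i : R) • e := by simp [mult]

lemma mult_mem (t : E ⊗[R] ↥I) : mult I E t ∈ (I • ⊤ : Submodule R E) := by
  induction t with
  | zero => simp
  | add x y hx hy => rw [map_add]; exact Submodule.add_mem _ hx hy
  | tmul e i => rw [mult_tmul]; exact Submodule.smul_mem_smul i.2 Submodule.mem_top

lemma exists_mult_eq {e : E} (he : e ∈ (I • ⊤ : Submodule R E)) : ∃ t, mult I E t = e := by
  refine Submodule.smul_induction_on he ?_ ?_
  · intro i hi f _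
    exact ⟨f ⊗ₜ ⟨i, hi⟩, by simp⟩
  · rintro x y ⟨s, rfl⟩ ⟨t, rfl⟩
    exact ⟨s + t, map_add _ _ _⟩

lemma lTensor_phi_comp_assoc :
    (phi I M).lTensor E ∘ₗ (TensorProduct.assoc R E I M).toLinearMap = (mult I E).rTensor M := by
  apply TensorProduct.ext_threefold
  intro e i m
  simp [TensorProduct.smul_tmul]

lemma assoc_natural {E F : Type*} [AddCommGroup E] [Module R E] [AddCommGroup F] [Module R F]
    (π : F →ₗ[R] E) :
    π.rTensor (↥I ⊗[R] M) ∘ₗ (TensorProduct.assoc R F I M).toLinearMap =
      (TensorProduct.assoc R E I M).toLinearMap ∘ₗ (π.rTensor ↥I).rTensor M := by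
  apply TensorProduct.ext_threefold
  intro e i m
  simp

theorem mem_sup_aux [Module.Flat (R ⧸ I) ((R ⧸ I) ⊗[R] M)]
    (F : Type*) [AddCommGroup F] [Module R F] [Module.Flat R F] (π : F →ₗ[R] E)
    (hπ : Surjective π)
    (x : E ⊗[R] (↥I ⊗[R] M)) (hx : (phi I M).lTensor E x = 0) :
    ∃ (k : E ⊗[R] ↥(LinearMap.ker (phi I M))) (t : ↥(LinearMap.ker (mult I E)) ⊗[R] M),
      x = (LinearMap.ker (phi I M)).subtype.lTensor E k +
        TensorProduct.assoc R E I M ((LinearMap.ker (mult I E)).subtype.rTensor M t) := by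
  classical
  let Q := LinearMap.ker π
  obtain ⟨x', rfl⟩ := LinearMap.rTensor_surjective (↥I ⊗[R] M) hπ x
  -- Step 2
  have h2 : π.rTensor M ((phi I M).lTensor F x') = 0 := by
    rw [← LinearMap.comp_apply, LinearMap.rTensor_comp_lTensor, ← LinearMap.lTensor_comp_rTensor,
      LinearMap.comp_apply, hx]
  obtain ⟨q, hq⟩ := (rTensor_exact (f := Q.subtype) M (LinearMap.exact_subtype_ker_map π) hπ _).mp h2
  -- Step 3
  let Y := F ⧸ (I • ⊤ : Submodule R F)
  let ρ : F →ₗ[R] Y := Submodule.mkQ _
  have hY : Module.IsTorsionBySet R Y I := by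
    intro y a
    obtain ⟨f, rfl⟩ := Submodule.mkQ_surjective _ y
    rw [← map_smul, Submodule.mkQ_apply, Submodule.Quotient.mk_eq_zero]
    exact Submodule.smul_mem_smul a.2 Submodule.mem_top
  let X := LinearMap.range (ρ ∘ₗ Q.subtype)
  have hX : Module.IsTorsionBySet R X I := by
    intro y a
    apply Subtype.ext
    exact @hY (y : Y) a
  let c : Q →ₗ[R] X := (ρ ∘ₗ Q.subtype).rangeRestrict
  have hc : Surjective c := LinearMap.surjective_rangeRestrict _
  have hjc : X.subtype ∘ₗ c = ρ ∘ₗ Q.subtype := by ext q; rfl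
  have hρφ : ρ.rTensor M ∘ₗ (phi I M).lTensor F = 0 := by
    ext f i m
    simp only [TensorProduct.AlgebraTensorModule.curry_apply, LinearMap.restrictScalars_self,
      TensorProduct.curry_apply, LinearMap.comp_apply, LinearMap.lTensor_tmul, phi_tmul,
      LinearMap.rTensor_tmul, LinearMap.zero_apply]
    rw [TensorProduct.tmul_smul, TensorProduct.smul_tmul', ← map_smul]
    have : ρ ((i : R) • f) = 0 := by
      rw [Submodule.mkQ_apply, Submodule.Quotient.mk_eq_zero]
      exact Submodule.smul_mem_smul i.2 Submodule.mem_top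
    rw [this, TensorProduct.zero_tmul]
  have h3 : c.rTensor M q = 0 := by
    apply rTensor_injective_of_torsion I M hX hY X.subtype (Submodule.injective_subtype _)
    rw [map_zero, ← LinearMap.comp_apply, ← LinearMap.rTensor_comp, hjc, LinearMap.rTensor_comp,
      LinearMap.comp_apply, hq, ← LinearMap.comp_apply, hρφ, LinearMap.zero_apply]
  -- Step 4
  let P := LinearMap.ker (π ∘ₗ mult I F)
  let m : P →ₗ[R] Q := LinearMap.codRestrict Q (mult I F ∘ₗ P.subtype) (fun p => p.2)
  have hmc : Function.Exact m c := by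
    intro q0
    constructor
    · intro h0
      have h1 : (q0 : F) ∈ (I • ⊤ : Submodule R F) := by
        have := congrArg Subtype.val h0
        exact (Submodule.Quotient.mk_eq_zero _).mp this
      obtain ⟨t, ht⟩ := exists_mult_eq I F h1
      have htP : t ∈ P := by
        change π (mult I F t) = 0
        rw [ht]; exact q0.2
      exact ⟨⟨t, htP⟩, Subtype.ext ht⟩
    · rintro ⟨p, rfl⟩
      apply Subtype.ext
      change ρ (mult I F p) = 0
      rw [Submodule.mkQ_apply, Submodule.Quotient.mk_eq_zero]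
      exact mult_mem I F _
  obtain ⟨p, hp⟩ := (rTensor_exact (f := m) M hmc hc _).mp h3
  -- Step 5
  have hQm : Q.subtype ∘ₗ m = mult I F ∘ₗ P.subtype := by
    ext p; rfl
  have h5 : (phi I M).lTensor F (x' - TensorProduct.assoc R F I M (P.subtype.rTensor M p)) = 0 := by
    rw [map_sub, ← hq, ← hp, ← LinearMap.comp_apply (Q.subtype.rTensor M), ← LinearMap.rTensor_comp,
      hQm, LinearMap.rTensor_comp, ← lTensor_phi_comp_assoc]
    simp
  obtain ⟨k', hk'⟩ := (Module.Flat.lTensor_exact F (N := ↥(LinearMap.ker (phi I M))) (f := (LinearMap.ker (phi I M)).subtype) (g := phi I M) (LinearMap.exact_subtype_ker_map (phi I M)) _).mp h5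
  -- Step 6
  let n : P →ₗ[R] LinearMap.ker (mult I E) :=
    LinearMap.codRestrict _ (π.rTensor ↥I ∘ₗ P.subtype) (by
      intro p
      have h : mult I E ∘ₗ π.rTensor ↥I = π ∘ₗ mult I F := by
        apply TensorProduct.ext'
        intro f i
        simp
      change (mult I E ∘ₗ π.rTensor ↥I) p = 0
      rw [h]; exact p.2)
  have hn : (LinearMap.ker (mult I E)).subtype ∘ₗ n = π.rTensor ↥I ∘ₗ P.subtype := by
    ext p; rfl
  refine ⟨π.rTensor _ k', n.rTensor M p, ?_⟩
  have e1 : x' = (LinearMap.ker (phi I M)).subtype.lTensor F k' +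
      TensorProduct.assoc R F I M (P.subtype.rTensor M p) := by
    rw [hk']; abel
  rw [e1, map_add]
  congr 1
  · rw [← LinearMap.comp_apply, ← LinearMap.comp_apply, LinearMap.rTensor_comp_lTensor,
      LinearMap.lTensor_comp_rTensor]
  · rw [← LinearMap.comp_apply (LinearMap.rTensor M _), ← LinearMap.rTensor_comp, hn,
      LinearMap.rTensor_comp]
    have := congrArg (fun g => g (P.subtype.rTensor M p)) (assoc_natural I M π)
    simpa using this

theorem mem_sup_of_lTensor_phi_eq_zero [Module.Flat (R ⧸ I) ((R ⧸ I) ⊗[R] M)]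
    (x : E ⊗[R] (↥I ⊗[R] M)) (hx : (phi I M).lTensor E x = 0) :
    ∃ (k : E ⊗[R] ↥(LinearMap.ker (phi I M))) (t : ↥(LinearMap.ker (mult I E)) ⊗[R] M),
      x = (LinearMap.ker (phi I M)).subtype.lTensor E k +
        TensorProduct.assoc R E I M ((LinearMap.ker (mult I E)).subtype.rTensor M t) :=
  mem_sup_aux I M E (E →₀ R) (Finsupp.linearCombination R id)
    (Finsupp.linearCombination_id_surjective R E) x hx

end Key

section Loc

variable {R S : Type*} [CommRing R] [CommRing S] [Algebra R S]
  {M M' : Type*} [AddCommGroup M] [Module R M] [Module S M] [IsScalarTower R S M]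
  [AddCommGroup M'] [Module R M'] [Module S M'] [IsScalarTower R S M']
  (p : Submonoid S) (g : M →ₗ[S] M') [IsLocalizedModule p g]

include p in
/-- If the kernel of `M ⊗ f` dies in `M' ⊗ N`, where `M'` is a localization of `M`, then
`M' ⊗ f` is injective. -/
theorem lTensor_injective_of_ker_le {N P : Type*} [AddCommGroup N] [Module R N]
    [AddCommGroup P] [Module R P] (f : N →ₗ[R] P)
    (h : ∀ x : M ⊗[R] N, f.lTensor M x = 0 → AlgebraTensorModule.rTensor R N g x = 0) :
    Injective (f.lTensor M') := by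
  have key : Injective (AlgebraTensorModule.lTensor S M' f) := by
    rw [injective_iff_map_eq_zero]
    intro y hy
    obtain ⟨⟨x, s⟩, hxs⟩ := IsLocalizedModule.surj p (AlgebraTensorModule.rTensor R N g) y
    have hcomm : ∀ z, AlgebraTensorModule.lTensor S M' f (AlgebraTensorModule.rTensor R N g z) =
        AlgebraTensorModule.rTensor R P g (AlgebraTensorModule.lTensor S M f z) := by
      intro z
      induction z with
      | zero => simp
      | add a b ha hb => simp only [map_add, ha, hb]
      | tmul a b => simp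
    simp only [Submonoid.smul_def] at hxs
    have h1 : AlgebraTensorModule.rTensor R P g (AlgebraTensorModule.lTensor S M f x) = 0 := by
      rw [← hcomm, ← hxs, map_smul, hy, smul_zero]
    obtain ⟨t, ht⟩ := (IsLocalizedModule.eq_zero_iff p _).mp h1
    simp only [Submonoid.smul_def] at ht
    have h2 := h ((t : S) • x) (by
      have : AlgebraTensorModule.lTensor S M f ((t : S) • x) = 0 := by rw [map_smul]; exact ht
      exact this)
    rw [map_smul, ← hxs] at h2
    have h3 : t • s • y = 0 := by simpa [Submonoid.smul_def] using h2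
    exact IsLocalizedModule.smul_injective (AlgebraTensorModule.rTensor R N g) s
      ((IsLocalizedModule.smul_injective (AlgebraTensorModule.rTensor R N g) t)
        (by simpa using h3))
  exact key

include p in
theorem rTensor_injective_of_ker_le {N P : Type*} [AddCommGroup N] [Module R N]
    [AddCommGroup P] [Module R P] (f : N →ₗ[R] P)
    (h : ∀ x : N ⊗[R] M, f.rTensor M x = 0 → (g.restrictScalars R).lTensor N x = 0) :
    Injective (f.rTensor M') := by
  rw [← LinearMap.lTensor_inj_iff_rTensor_inj]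
  apply lTensor_injective_of_ker_le p g
  intro x hx
  have h1 : f.rTensor M (TensorProduct.comm R M N x) = 0 := by
    have : ∀ z, f.rTensor M (TensorProduct.comm R M N z) =
        TensorProduct.comm R M P (f.lTensor M z) := by
      intro z
      induction z with
      | zero => simp
      | add a b ha hb => simp only [map_add, ha, hb]
      | tmul a b => simp
    rw [this, hx, map_zero]
  have h2 := h _ h1
  have : ∀ z, (g.restrictScalars R).lTensor N (TensorProduct.comm R M N z) =
      TensorProduct.comm R M' N (AlgebraTensorModule.rTensor R N g z) := by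
    intro z
    induction z with
    | zero => simp
    | add a b ha hb => simp only [map_add, ha, hb]
    | tmul a b => simp
  rw [this] at h2
  exact (TensorProduct.comm R M' N).injective (by rw [h2, map_zero])

end Loc

section LemmaC

variable {R R' T : Type*} [CommRing R] [CommRing R'] [CommRing T] [Algebra R R'] [Algebra R' T]
  (W : Submonoid T) (I : Ideal R)
  {M M₁ M' : Type*} [AddCommGroup M] [Module R M]
  [AddCommGroup M₁] [Module R M₁] [Module R' M₁] [Module T M₁] [IsScalarTower R R' M₁]
  [IsScalarTower R' T M₁]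
  [AddCommGroup M'] [Module R M'] [Module R' M'] [Module T M'] [IsScalarTower R R' M']
  [IsScalarTower R' T M']
  (f₁ : M →ₗ[R] M₁) (hf₁ : IsBaseChange R' f₁)
  (g : M₁ →ₗ[T] M') [IsLocalizedModule W g]

include hf₁ W g in
theorem flat_quotient_of_localized [Module.Flat (R ⧸ I) ((R ⧸ I) ⊗[R] M)] :
    Module.Flat (R' ⧸ I.map (algebraMap R R')) ((R' ⧸ I.map (algebraMap R R')) ⊗[R'] M') := by
  have h0 : Module.Flat (R' ⧸ I.map (algebraMap R R'))
      ((R' ⧸ I.map (algebraMap R R')) ⊗[R ⧸ I] ((R ⧸ I) ⊗[R] M)) := inferInstance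
  have h1 : Module.Flat (R' ⧸ I.map (algebraMap R R'))
      ((R' ⧸ I.map (algebraMap R R')) ⊗[R] M) :=
    Module.Flat.of_linearEquiv
      (AlgebraTensorModule.cancelBaseChange R (R ⧸ I) (R' ⧸ I.map (algebraMap R R'))
        (R' ⧸ I.map (algebraMap R R')) M).symm
  have h2 : Module.Flat (R' ⧸ I.map (algebraMap R R'))
      ((R' ⧸ I.map (algebraMap R R')) ⊗[R'] (R' ⊗[R] M)) :=
    Module.Flat.of_linearEquiv
      (AlgebraTensorModule.cancelBaseChange R R' (R' ⧸ I.map (algebraMap R R'))
        (R' ⧸ I.map (algebraMap R R')) M)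
  have h3 : Module.Flat (R' ⧸ I.map (algebraMap R R'))
      ((R' ⧸ I.map (algebraMap R R')) ⊗[R'] M₁) :=
    Module.Flat.of_linearEquiv
      (AlgebraTensorModule.congr (LinearEquiv.refl (R' ⧸ I.map (algebraMap R R')) _)
        hf₁.equiv).symm
  exact Helper1.flat_baseChange_of_isLocalizedModule W g _

variable (fM : M →ₗ[R] M') (hfM : ∀ m, fM m = g (f₁ m))

variable (R') in
/-- The map of `h3`. -/
noncomputable def psi0 : ↥I ⊗[R] M →ₗ[R] ↥(I.map (algebraMap R R')) ⊗[R'] M' :=
  (TensorProduct.mapOfCompatibleSMul R' R R ↥(I.map (algebraMap R R')) M') ∘ₗ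
    (TensorProduct.map (Algebra.idealMap R' I) fM)

omit [IsScalarTower R' T M'] [Module T M'] in
@[simp] lemma psi0_tmul (i : I) (m : M) :
    psi0 R' I fM (i ⊗ₜ m) = (Algebra.idealMap R' I i) ⊗ₜ fM m := by
  simp [psi0]

include hf₁ W g hfM in
theorem rTensor_injective_of_localized [Module.Flat (R ⧸ I) ((R ⧸ I) ⊗[R] M)]
    (h3 : ∀ x : ↥I ⊗[R] M, I.subtype.rTensor M x = 0 → psi0 R' I fM x = 0) :
    Injective ((I.map (algebraMap R R')).subtype.rTensor M') := by
  set I' := I.map (algebraMap R R') with hI'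
  let a : ↥I →ₗ[R] ↥I' := Algebra.idealMap R' I
  -- the maps Ψ₁ and Ψ
  let Ψ₁ : R' ⊗[R] (↥I ⊗[R] M) →ₗ[R'] ↥I' ⊗[R'] M₁ :=
    LinearMap.liftBaseChange R'
      ((TensorProduct.mapOfCompatibleSMul R' R R ↥I' M₁) ∘ₗ (TensorProduct.map a f₁))
  let Ψ : R' ⊗[R] (↥I ⊗[R] M) →ₗ[R'] ↥I' ⊗[R'] M' := LinearMap.liftBaseChange R' (psi0 R' I fM)
  have hΨ₁ : ∀ (r : R') (i : I) (m : M), Ψ₁ (r ⊗ₜ (i ⊗ₜ m)) = r • (a i ⊗ₜ f₁ m) := by
    intro r i m; simp [Ψ₁]
  have hΨ : ∀ (r : R') (i : I) (m : M), Ψ (r ⊗ₜ (i ⊗ₜ m)) = r • (a i ⊗ₜ fM m) := by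
    intro r i m; simp [Ψ, a, psi0]
  -- Claim 1 : Ψ₁ is surjective
  have hsurj : Surjective Ψ₁ := by
    intro y
    induction y with
    | zero => exact ⟨0, map_zero _⟩
    | add y z hy hz =>
      obtain ⟨y', rfl⟩ := hy; obtain ⟨z', rfl⟩ := hz; exact ⟨y' + z', map_add _ _ _⟩
    | tmul i' m₁ =>
      change i' ⊗ₜ[R'] m₁ ∈ LinearMap.range Ψ₁
      refine hf₁.inductionOn m₁ _ ?_ ?_ ?_ ?_
      · simp
      · intro m
        obtain ⟨v, hv⟩ := i'
        rw [hI', Ideal.map] at hv
        refine Submodule.span_induction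
          (p := fun v hv => (⟨v, by rw [hI', Ideal.map]; exact hv⟩ : ↥I') ⊗ₜ[R'] f₁ m ∈
            LinearMap.range Ψ₁) ?_ ?_ ?_ ?_ hv
        · rintro _ ⟨i, hi, rfl⟩
          exact ⟨1 ⊗ₜ (⟨i, hi⟩ ⊗ₜ m), by rw [hΨ₁, one_smul]; rfl⟩
        · have : (⟨0, by simp⟩ : ↥I') = 0 := rfl
          rw [this, TensorProduct.zero_tmul]; exact Submodule.zero_mem _
        · intro v w hv hw h1 h2
          have : (⟨v + w, by rw [hI', Ideal.map]; exact Submodule.add_mem _ hv hw⟩ : ↥I') =
            ⟨v, by rw [hI', Ideal.map]; exact hv⟩ + ⟨w, by rw [hI', Ideal.map]; exact hw⟩ := rfl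
          rw [this, TensorProduct.add_tmul]; exact Submodule.add_mem _ h1 h2
        · intro r v hv h1
          have : (⟨r • v, by rw [hI', Ideal.map]; exact Submodule.smul_mem _ r hv⟩ : ↥I') =
            r • ⟨v, by rw [hI', Ideal.map]; exact hv⟩ := rfl
          rw [this, ← TensorProduct.smul_tmul']; exact Submodule.smul_mem _ r h1
      · intro r m₁ h
        rw [TensorProduct.tmul_smul]; exact Submodule.smul_mem _ r h
      · intro m₁ m₂ h1 h2
        rw [TensorProduct.tmul_add]; exact Submodule.add_mem _ h1 h2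
  -- Claim 2
  have hcl2 : ∀ y, TensorProduct.lid R' M₁ (I'.subtype.rTensor M₁ (Ψ₁ y)) =
      hf₁.equiv ((phi I M).lTensor R' y) := by
    intro y
    induction y with
    | zero => simp
    | add y z hy hz => simp only [map_add, hy, hz]
    | tmul r n =>
      induction n with
      | zero => simp
      | add y z hy hz => simp only [TensorProduct.tmul_add, map_add, hy, hz]
      | tmul i m =>
        rw [hΨ₁, map_smul, map_smul]
        simp only [LinearMap.rTensor_tmul, Submodule.subtype_apply, TensorProduct.lid_tmul,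
          LinearMap.lTensor_tmul, phi_tmul, IsBaseChange.equiv_tmul, map_smul]
        congr 1
        change algebraMap R R' (i : R) • f₁ m = _
        rw [algebraMap_smul]
  -- Claim 3
  have hcl3 : ∀ y, ((g.restrictScalars R').lTensor ↥I') (Ψ₁ y) = Ψ y := by
    intro y
    induction y with
    | zero => simp
    | add y z hy hz => simp only [map_add, hy, hz]
    | tmul r n =>
      induction n with
      | zero => simp
      | add y z hy hz => simp only [TensorProduct.tmul_add, map_add, hy, hz]
      | tmul i m =>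
        rw [hΨ₁, hΨ, map_smul]
        simp [hfM]
  -- Claim 4
  have hk : ∀ k : R' ⊗[R] ↥(LinearMap.ker (phi I M)),
      Ψ ((LinearMap.ker (phi I M)).subtype.lTensor R' k) = 0 := by
    intro k
    induction k with
    | zero => simp
    | add y z hy hz => simp only [map_add, hy, hz, add_zero]
    | tmul r k₀ =>
      have h0 : I.subtype.rTensor M (k₀ : ↥I ⊗[R] M) = 0 := by
        have h : phi I M k₀ = 0 := k₀.2
        change TensorProduct.lid R M (I.subtype.rTensor M k₀) = 0 at h
        exact (TensorProduct.lid R M).injective (by rw [h, map_zero])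
      have h1 := h3 _ h0
      simp only [LinearMap.lTensor_tmul, Submodule.subtype_apply, Ψ,
        LinearMap.liftBaseChange_tmul, h1, smul_zero]
  have hz : ∀ (z : R' ⊗[R] ↥I) (m : M), Ψ (TensorProduct.assoc R R' I M (z ⊗ₜ m)) =
      (LinearMap.liftBaseChange R' a z) ⊗ₜ fM m := by
    intro z m
    induction z with
    | zero => simp
    | add y z hy hz => simp only [TensorProduct.add_tmul, map_add, hy, hz]
    | tmul r i =>
      rw [TensorProduct.assoc_tmul, hΨ, LinearMap.liftBaseChange_tmul, TensorProduct.smul_tmul']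
  have hsub : ∀ z : R' ⊗[R] ↥I,
      ((LinearMap.liftBaseChange R' a z : ↥I') : R') = mult I R' z := by
    intro z
    induction z with
    | zero => simp
    | add y z hy hz => simp only [map_add, Submodule.coe_add, hy, hz]
    | tmul r i =>
      rw [LinearMap.liftBaseChange_tmul, mult_tmul, Submodule.coe_smul, smul_eq_mul,
        Algebra.smul_def (i : R) r, mul_comm]
      rfl
  have ht : ∀ t : ↥(LinearMap.ker (mult I R')) ⊗[R] M, Ψ (TensorProduct.assoc R R' I M
      ((LinearMap.ker (mult I R')).subtype.rTensor M t)) = 0 := by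
    intro t
    induction t with
    | zero => simp
    | add y z hy hz => simp only [map_add, hy, hz, add_zero]
    | tmul κ m =>
      rw [LinearMap.rTensor_tmul, Submodule.subtype_apply, hz]
      have : LinearMap.liftBaseChange R' a (κ : R' ⊗[R] ↥I) = 0 := by
        apply Subtype.ext
        rw [hsub]; exact κ.2
      rw [this, TensorProduct.zero_tmul]
  have hcl4 : ∀ y, (phi I M).lTensor R' y = 0 → Ψ y = 0 := by
    intro y hy
    obtain ⟨k, t, rfl⟩ := mem_sup_of_lTensor_phi_eq_zero I M R' y hy
    rw [map_add, hk, ht, add_zero]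
  -- conclusion
  apply rTensor_injective_of_ker_le W g I'.subtype
  intro x hx
  obtain ⟨y, rfl⟩ := hsurj x
  have h1 : (phi I M).lTensor R' y = 0 := by
    apply hf₁.equiv.injective
    rw [← hcl2, hx, map_zero, map_zero]
  rw [hcl3, hcl4 y h1]

end LemmaC

end Groth.Agent.Helper7.TorMap
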