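import Mathlib
import Groth.Agent.Lib.Helper7.TorMap
import Groth.Agent.S0391

namespace Groth.Agent.Helper7.TorMap

open TensorProduct Function

attribute [local instance] Algebra.TensorProduct.rightAlgebra

universe u

set_option linter.style.haveILetI false

theorem main
    (R S R' S' : Type u) [CommRing R] [CommRing S] [CommRing R'] [CommRing S']
    [IsLocalRing R] [IsLocalRing S] [IsLocalRing R'] [IsLocalRing S']
    [IsNoetherianRing R] [IsNoetherianRing S] [IsNoetherianRing R'] [IsNoetherianRing S']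
    [Algebra R S] [Algebra R R'] [Algebra S S'] [Algebra R' S'] [Algebra R S']
    [IsScalarTower R S S'] [IsScalarTower R R' S']
    [IsLocalHom (algebraMap R S)] [IsLocalHom (algebraMap R R')] [IsLocalHom (algebraMap S S')]
    [IsLocalHom (algebraMap R' S')]
    (I : Ideal R) (hI : I ≠ ⊤) (M : Type u) [AddCommGroup M] [Module S M] [Module R M]
    [IsScalarTower R S M] [Module.Finite S M]
    (M' : Type u) [AddCommGroup M'] [Module S' M'] [Module R' M'] [IsScalarTower R' S' M']
    [Module S M'] [IsScalarTower S S' M'] [Module R M'] [IsScalarTower R R' M']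
    [IsScalarTower R S M']
    (f : M →ₗ[S] M') (hf : IsBaseChange S' f)
    (h1 : ∃ W : Submonoid (S ⊗[R] R'),
      letI : Algebra (S ⊗[R] R') S' :=
        (Algebra.TensorProduct.lift (IsScalarTower.toAlgHom R S S') (IsScalarTower.toAlgHom R R' S')
          (fun s r => Commute.all _ _)).toRingHom.toAlgebra;
      IsLocalization W S')
    (h2 : Module.Flat (R ⧸ I) ((R ⧸ I) ⊗[R] M))
    (h3 : ∀ x : ↥I ⊗[R] M, (Submodule.subtype I).rTensor M x = 0 →
      (TensorProduct.mapOfCompatibleSMul R' R R ↥(I.map (algebraMap R R')) M')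
        ((TensorProduct.map (Algebra.idealMap R' I) (f.restrictScalars R)) x) = 0) :
    Module.Flat R' M' := by
  obtain ⟨W, hW⟩ := h1
  letI algTS' : Algebra (S ⊗[R] R') S' :=
    (Algebra.TensorProduct.lift (IsScalarTower.toAlgHom R S S') (IsScalarTower.toAlgHom R R' S')
      (fun s r => Commute.all _ _)).toRingHom.toAlgebra
  haveI : IsLocalization W S' := hW
  have halg : ∀ (s : S) (r : R'), algebraMap (S ⊗[R] R') S' (s ⊗ₜ r) =
      algebraMap S S' s * algebraMap R' S' r := by
    intro s r
    change (Algebra.TensorProduct.lift (IsScalarTower.toAlgHom R S S')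
      (IsScalarTower.toAlgHom R R' S') (fun s r => Commute.all _ _)) (s ⊗ₜ r) = _
    simp
  haveI : IsScalarTower R' (S ⊗[R] R') S' := IsScalarTower.of_algebraMap_eq (fun r => by
    rw [Algebra.TensorProduct.right_algebraMap_apply, halg, map_one, one_mul])
  haveI : IsScalarTower S (S ⊗[R] R') S' := IsScalarTower.of_algebraMap_eq (fun s => by
    rw [Algebra.TensorProduct.algebraMap_apply, halg, map_one, mul_one]; rfl)
  letI : Module (S ⊗[R] R') M' := Module.compHom M' (algebraMap (S ⊗[R] R') S')
  haveI : IsScalarTower (S ⊗[R] R') S' M' := ⟨fun t s m => by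
    change (algebraMap (S ⊗[R] R') S' t * s) • m = algebraMap (S ⊗[R] R') S' t • (s • m)
    rw [mul_smul]⟩
  haveI : IsScalarTower R' (S ⊗[R] R') M' := IsScalarTower.to₁₂₄ R' (S ⊗[R] R') S' M'
  haveI : IsScalarTower S (S ⊗[R] R') M' := IsScalarTower.to₁₂₄ S (S ⊗[R] R') S' M'
  -- the module M₁
  let f₁ : M →ₗ[R] (S ⊗[R] R') ⊗[S] M := (TensorProduct.mk S (S ⊗[R] R') M 1).restrictScalars R
  have hf₁ : IsBaseChange R' f₁ :=
    IsBaseChange.of_equiv (Algebra.IsPushout.cancelBaseChange R R' S (S ⊗[R] R') M).symm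
      (fun m => by simp [f₁])
  let g : (S ⊗[R] R') ⊗[S] M →ₗ[S ⊗[R] R'] M' :=
    (TensorProduct.isBaseChange S M (S ⊗[R] R')).lift f
  have hg1 : ∀ m, g ((1 : S ⊗[R] R') ⊗ₜ m) = f m := fun m =>
    (TensorProduct.isBaseChange S M (S ⊗[R] R')).lift_eq f m
  have hgbc : IsBaseChange S' g := by
    apply IsBaseChange.of_comp (TensorProduct.isBaseChange S M (S ⊗[R] R'))
    have : (g.restrictScalars S) ∘ₗ (TensorProduct.mk S (S ⊗[R] R') M 1) = f := by
      ext m; exact hg1 m
    rw [this]; exact hf
  haveI : IsLocalizedModule W g := (isLocalizedModule_iff_isBaseChange W S' g).mpr hgbc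
  have hfM : ∀ m, (f.restrictScalars R) m = g (f₁ m) := fun m => (hg1 m).symm
  have hc := rTensor_injective_of_localized W I f₁ hf₁ g (f.restrictScalars R) hfM h3
  have hd := flat_quotient_of_localized W I f₁ hf₁ g
  have hfin : Module.Finite S' M' := Module.Finite.equiv hf.equiv
  have hI' : I.map (algebraMap R R') ≠ ⊤ := by
    have h1 : I ≤ IsLocalRing.maximalIdeal R := IsLocalRing.le_maximalIdeal hI
    have h2 : (IsLocalRing.maximalIdeal R).map (algebraMap R R') ≤ IsLocalRing.maximalIdeal R' :=
      ((IsLocalRing.local_hom_TFAE (algebraMap R R')).out 0 2).mp (inferInstance : IsLocalHom (algebraMap R R'))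
    intro h
    have h3 := (Ideal.map_mono h1).trans h2
    rw [h, top_le_iff] at h3
    exact (IsLocalRing.maximalIdeal.isMaximal R').ne_top h3
  exact Groth.Agent.S0391.result (R := R') (S := S') (M := M') (I.map (algebraMap R R')) hI' hc hd

end Groth.Agent.Helper7.TorMap
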