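import Mathlib
import Groth.Agent.Lib.Helper7.FibCritGeom4
import Groth.Agent.Lib.Helper18.EssFree2

/-!
# Closed conditions tested on a fibrewise schematically dense family (helper7)

`Fp f j g` (helper18) says that the base change of `Z` along `g` lies in the closed subscheme `Y`.
If `w i : W i ⟶ Z` is a family, flat over the base and schematically dominant on all fibres, this
may be tested on the members of the family.
-/

set_option autoImplicit false
set_option linter.style.haveILetI false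
set_option linter.unusedSectionVars false

universe u

open CategoryTheory AlgebraicGeometry Limits

namespace Groth.Agent.Helper7.TorsDense

open Groth.Agent.Helper7.SchDom Groth.Agent.Helper7.FibCritGeom Groth.Agent.Helper18.EssFree

lemma app_eq_zero_of_comp {A B C : Scheme.{u}} (φ : A ⟶ B) (ψ : B ⟶ C) (U : C.Opens)
    (a : Γ(C, U)) (h : ψ.app U a = 0) : (φ ≫ ψ).app U a = 0 := by
  change φ.app (ψ ⁻¹ᵁ U) (ψ.app U a) = 0
  rw [h, map_zero]

lemma app_eq_zero_congr {A B : Scheme.{u}} {φ ψ : A ⟶ B} (h : φ = ψ) (U : B.Opens) (a : Γ(B, U))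
    (h0 : ψ.app U a = 0) : φ.app U a = 0 := by
  subst h
  exact h0

lemma app_app_eq_zero {A B C : Scheme.{u}} (φ : A ⟶ B) (ψ : B ⟶ C) (U : C.Opens)
    (a : Γ(C, U)) (h : (φ ≫ ψ).app U a = 0) : φ.app (ψ ⁻¹ᵁ U) (ψ.app U a) = 0 := h

variable {S Z Y : Scheme.{u}} (f : Z ⟶ S) (j : Y ⟶ Z) [IsClosedImmersion j]
  {ι : Type u} (W : ι → Scheme.{u}) (w : ∀ i, W i ⟶ Z)

/-- a closed condition on `Z` passes to the members of a family -/
theorem fp_member {S' : Scheme.{u}} (g : S' ⟶ S) (h : Fp f j g) (i : ι) :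
    Fp (w i ≫ f) (pullback.snd j (w i)) g := by
  obtain ⟨l, hl⟩ := h
  obtain ⟨q, hq⟩ : ∃ q : pullback (w i ≫ f) g ⟶ pullback f g,
      q = pullback.map (w i ≫ f) g f g (w i) (𝟙 S') (𝟙 S) (Category.comp_id _)
        ((Category.comp_id _).trans (Category.id_comp _).symm) := ⟨_, rfl⟩
  have hq1 : q ≫ pullback.fst f g = pullback.fst (w i ≫ f) g ≫ w i := by
    rw [hq]
    exact pullback.lift_fst _ _ _
  refine ⟨pullback.lift (q ≫ l) (pullback.fst (w i ≫ f) g) ?_, pullback.lift_snd _ _ _⟩
  rw [Category.assoc, hl, hq1]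

/-- **a closed condition may be tested on a fibrewise schematically dominant family** -/
theorem fp_of_forall_member [IsLocallyNoetherian Z] [∀ i, Flat (w i ≫ f)]
    (hfib : ∀ s : S, IsSchDom (fun i => MoreMor.fiberMap (w i) f s)) {S' : Scheme.{u}}
    (g : S' ⟶ S) (h : ∀ i, Fp (w i ≫ f) (pullback.snd j (w i)) g) : Fp f j g := by
  have hdom := isSchDom_pullback_of_fib f W w hfib g
  suffices H : j.ker ≤ (pullback.fst f g).ker from
    ⟨IsClosedImmersion.lift j (pullback.fst f g) H, IsClosedImmersion.lift_fac _ _ _⟩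
  refine Scheme.IdealSheafData.le_ofIdeals_iff.mpr ?_
  intro U a ha
  rw [Scheme.Hom.ker_apply, RingHom.mem_ker] at ha
  rw [RingHom.mem_ker]
  apply hdom ((pullback.fst f g) ⁻¹ᵁ U.1) ((pullback.fst f g).app U.1 a)
  intro i
  apply app_app_eq_zero
  obtain ⟨l, hl⟩ := h i
  have e1 : pullback.map (w i ≫ f) g f g (w i) (𝟙 S') (𝟙 S) (Category.comp_id _)
      ((Category.comp_id _).trans (Category.id_comp _).symm) ≫ pullback.fst f g =
      (l ≫ pullback.fst j (w i)) ≫ j := by
    rw [Category.assoc, pullback.condition, ← Category.assoc, hl]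
    exact pullback.lift_fst _ _ _
  exact app_eq_zero_congr e1 U.1 a (app_eq_zero_of_comp _ j U.1 a ha)

theorem fp_iff_forall_member [IsLocallyNoetherian Z] [∀ i, Flat (w i ≫ f)]
    (hfib : ∀ s : S, IsSchDom (fun i => MoreMor.fiberMap (w i) f s)) {S' : Scheme.{u}}
    (g : S' ⟶ S) : Fp f j g ↔ ∀ i, Fp (w i ≫ f) (pullback.snd j (w i)) g :=
  ⟨fun h i => fp_member f j W w g h i, fp_of_forall_member f j W w hfib g⟩

end Groth.Agent.Helper7.TorsDense
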