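import Mathlib
import Groth.Agent.Lib.Helper7.TorsDense1

/-!
# Representability of closed conditions tested on a family of finite flat subschemes (helper7)
-/

set_option autoImplicit false
set_option linter.style.haveILetI false
set_option linter.unusedSectionVars false

universe u

open CategoryTheory AlgebraicGeometry Limits

namespace Groth.Agent.Helper7.TorsDense

open Groth.Agent.Helper7.SchDom Groth.Agent.Helper7.FibCritGeom Groth.Agent.Helper18.EssFree

/-- a finite flat morphism to a locally Noetherian scheme is essentially free (even locally free) -/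
theorem essFreeHyp_of_finite_flat {Q S : Scheme.{u}} [IsLocallyNoetherian S] (q : Q ⟶ S)
    [IsFinite q] [Flat q] :
    ∀ s : S, ∃ U : S.Opens, s ∈ U ∧ IsAffineOpen U ∧
      ∃ (S' : Scheme.{u}) (_ : IsAffine S') (g : S' ⟶ (U : Scheme.{u})), Flat g ∧ Surjective g ∧
        ∀ x : ↥(pullback q (g ≫ U.ι)), ∃ V : (pullback q (g ≫ U.ι)).Opens, x ∈ V ∧
          IsAffineOpen V ∧
          (letI := (V.ι ≫ pullback.snd q (g ≫ U.ι)).appTop.hom.toAlgebra
           Module.Projective Γ(S', ⊤) Γ(↑V, ⊤)) := by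
  intro s
  obtain ⟨U, hU, hsU⟩ : ∃ U : S.Opens, IsAffineOpen U ∧ s ∈ U := by
    obtain ⟨U, hU, hsU, -⟩ := TopologicalSpace.Opens.isBasis_iff_nbhd.mp S.isBasis_affineOpens
      (TopologicalSpace.Opens.mem_top s)
    exact ⟨U, hU, hsU⟩
  haveI : IsAffine (U : Scheme.{u}) := hU
  refine ⟨U, hsU, hU, U, hU, 𝟙 _, inferInstance, inferInstance, ?_⟩
  intro x
  haveI : IsAffine (pullback q (𝟙 (U : Scheme.{u}) ≫ U.ι)) :=
    isAffine_of_isAffineHom (pullback.snd q (𝟙 (U : Scheme.{u}) ≫ U.ι))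
  refine ⟨⊤, trivial, isAffineOpen_top _, ?_⟩
  obtain ⟨φ, hφ⟩ : ∃ φ : ((⊤ : (pullback q (𝟙 (U : Scheme.{u}) ≫ U.ι)).Opens) : Scheme.{u}) ⟶
      (U : Scheme.{u}), φ = (⊤ : (pullback q (𝟙 (U : Scheme.{u}) ≫ U.ι)).Opens).ι ≫
        pullback.snd q (𝟙 (U : Scheme.{u}) ≫ U.ι) := ⟨_, rfl⟩
  rw [← hφ]
  haveI : IsAffine ((⊤ : (pullback q (𝟙 (U : Scheme.{u}) ≫ U.ι)).Opens) : Scheme.{u}) :=
    isAffineOpen_top _
  haveI : IsIso (⊤ : (pullback q (𝟙 (U : Scheme.{u}) ≫ U.ι)).Opens).ι :=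
    (Scheme.topIso (pullback q (𝟙 (U : Scheme.{u}) ≫ U.ι))).isIso_hom
  have hfin : IsFinite φ := by rw [hφ]; infer_instance
  have hflat : Flat φ := by rw [hφ]; infer_instance
  have h1 : RingHom.Finite φ.appTop.hom :=
    ((HasAffineProperty.iff_of_isAffine (P := @IsFinite)).mp hfin).2
  have h2 : RingHom.Flat φ.appTop.hom := (HasRingHomProperty.iff_of_isAffine (P := @Flat)).mp hflat
  letI := φ.appTop.hom.toAlgebra
  haveI : Module.Finite Γ((U : Scheme.{u}), ⊤)
      Γ(((⊤ : (pullback q (𝟙 (U : Scheme.{u}) ≫ U.ι)).Opens) : Scheme.{u}), ⊤) := h1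
  haveI : Module.Flat Γ((U : Scheme.{u}), ⊤)
      Γ(((⊤ : (pullback q (𝟙 (U : Scheme.{u}) ≫ U.ι)).Opens) : Scheme.{u}), ⊤) := h2
  haveI : IsNoetherianRing Γ((U : Scheme.{u}), ⊤) :=
    IsLocallyNoetherian.component_noetherian ⟨⊤, isAffineOpen_top _⟩
  haveI : Module.FinitePresentation Γ((U : Scheme.{u}), ⊤)
      Γ(((⊤ : (pullback q (𝟙 (U : Scheme.{u}) ≫ U.ι)).Opens) : Scheme.{u}), ⊤) :=
    Module.finitePresentation_of_finite _ _
  exact Module.Flat.projective_of_finitePresentation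

/-- Weil restriction of a closed subscheme along a finite flat morphism to a locally Noetherian
scheme -/
theorem finflat_closed {Q S Y : Scheme.{u}} [IsLocallyNoetherian S] (q : Q ⟶ S) [IsFinite q]
    [Flat q] (j : Y ⟶ Q) [IsClosedImmersion j] :
    ∃ (T : Scheme.{u}) (t : T ⟶ S), IsClosedImmersion t ∧
      ∀ (S' : Scheme.{u}) (g : S' ⟶ S), (∃ g' : S' ⟶ T, g' ≫ t = g) ↔ Fp q j g := by
  obtain ⟨T, t, ht, h, -⟩ := essFree_closed q j (essFreeHyp_of_finite_flat q)
  exact ⟨T, t, ht, h⟩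

/-- factorization through a closed immersion in terms of kernels -/
theorem factors_iff_ker_le {T S S' : Scheme.{u}} (t : T ⟶ S) [IsClosedImmersion t] (g : S' ⟶ S) :
    (∃ g' : S' ⟶ T, g' ≫ t = g) ↔ t.ker ≤ g.ker := by
  constructor
  · rintro ⟨g', rfl⟩
    exact Scheme.Hom.le_ker_comp g' t
  · intro H
    exact ⟨IsClosedImmersion.lift t g H, IsClosedImmersion.lift_fac _ _ _⟩

/-- intersections of closed conditions are closed conditions -/
theorem exists_closed_of_forall {S : Scheme.{u}} {ι : Type*}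
    (P : ι → ∀ {S' : Scheme.{u}}, (S' ⟶ S) → Prop)
    (h : ∀ i, ∃ (T : Scheme.{u}) (t : T ⟶ S), IsClosedImmersion t ∧
      ∀ (S' : Scheme.{u}) (g : S' ⟶ S), (∃ g' : S' ⟶ T, g' ≫ t = g) ↔ P i g) :
    ∃ (T : Scheme.{u}) (t : T ⟶ S), IsClosedImmersion t ∧
      ∀ (S' : Scheme.{u}) (g : S' ⟶ S), (∃ g' : S' ⟶ T, g' ≫ t = g) ↔ ∀ i, P i g := by
  choose T t ht hP using h
  refine ⟨(⨆ i, (t i).ker).subscheme, (⨆ i, (t i).ker).subschemeι, inferInstance, ?_⟩
  intro S' g
  rw [factors_iff_ker_le, Scheme.IdealSheafData.ker_subschemeι, iSup_le_iff]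
  refine forall_congr' fun i => ?_
  haveI := ht i
  rw [← factors_iff_ker_le, hP i]

variable {S Z Y : Scheme.{u}} (f : Z ⟶ S) (j : Y ⟶ Z) [IsClosedImmersion j]
  {ι : Type u} (W : ι → Scheme.{u}) (w : ∀ i, W i ⟶ Z)

/-- **Representability by a closed subscheme of the base** of the condition `Z_{S'} ⊆ Y`, when `Z`
carries a family of subschemes finite and flat over the base which is schematically dominant on
all fibres. -/
theorem closed_of_fib [IsLocallyNoetherian S] [LocallyOfFiniteType f] [∀ i, IsFinite (w i ≫ f)]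
    [∀ i, Flat (w i ≫ f)]
    (hfib : ∀ s : S, IsSchDom (fun i => MoreMor.fiberMap (w i) f s)) :
    ∃ (T : Scheme.{u}) (t : T ⟶ S), IsClosedImmersion t ∧
      ∀ (S' : Scheme.{u}) (g : S' ⟶ S), (∃ g' : S' ⟶ T, g' ≫ t = g) ↔ Fp f j g := by
  haveI : IsLocallyNoetherian Z := LocallyOfFiniteType.isLocallyNoetherian f
  obtain ⟨T, t, ht, h⟩ := exists_closed_of_forall
    (fun i {S'} g => Fp (w i ≫ f) (pullback.snd j (w i)) g)
    (fun i => finflat_closed (w i ≫ f) (pullback.snd j (w i)))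
  refine ⟨T, t, ht, fun S' g => ?_⟩
  rw [h, fp_iff_forall_member f j W w hfib g]

end Groth.Agent.Helper7.TorsDense
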