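import Mathlib
import Groth.Agent.Lib.Helper7.TorsDense2

/-!
# Closed conditions tested on a directed family of finite flat subschemes: Noetherian base (helper7)
-/

set_option autoImplicit false
set_option linter.style.haveILetI false
set_option linter.unusedSectionVars false

universe u

open CategoryTheory AlgebraicGeometry Limits

namespace Groth.Agent.Helper7.TorsDense

open Groth.Agent.Helper7.SchDom Groth.Agent.Helper7.FibCritGeom Groth.Agent.Helper18.EssFree

/-- finitely many monotone maps from a directed preorder to Noetherian orders are simultaneously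
maximal somewhere -/
theorem exists_max_of_directed {ι : Type*} [Preorder ι] [IsDirected ι (· ≤ ·)] [Nonempty ι]
    {κ : Type*} [Finite κ] (L : κ → Type*) [∀ k, PartialOrder (L k)] [∀ k, WellFoundedGT (L k)]
    (φ : ∀ k, ι → L k) (hφ : ∀ k, Monotone (φ k)) : ∃ i₀, ∀ i k, φ k i ≤ φ k i₀ := by
  have h1 : ∀ k, ∃ ik : ι, ∀ i, ¬ (φ k i > φ k ik) := by
    intro k
    obtain ⟨m, ⟨ik, rfl⟩, hm⟩ := WellFounded.has_min (wellFounded_gt (α := L k))
      (Set.range (φ k)) ⟨_, ⟨Classical.arbitrary ι, rfl⟩⟩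
    exact ⟨ik, fun i => hm _ ⟨i, rfl⟩⟩
  choose ik hik using h1
  obtain ⟨i₀, hi₀⟩ := Finite.exists_le ik
  refine ⟨i₀, fun i k => ?_⟩
  obtain ⟨i', h1, h2⟩ := exists_ge_ge i (ik k)
  have h3 : φ k (ik k) ≤ φ k i' := hφ k h2
  have h4 : φ k i' = φ k (ik k) := by
    by_contra hne
    exact hik k i' (lt_of_le_of_ne h3 (Ne.symm hne))
  calc φ k i ≤ φ k i' := hφ k h1
    _ = φ k (ik k) := h4
    _ ≤ φ k i₀ := hφ k (hi₀ k)

variable {S Z Y : Scheme.{u}} (f : Z ⟶ S) (j : Y ⟶ Z) [IsClosedImmersion j]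
  {ι : Type u} (W : ι → Scheme.{u}) (w : ∀ i, W i ⟶ Z)

/-- another form of the condition for the members of the family -/
theorem fp_member_iff {S' : Scheme.{u}} (g : S' ⟶ S) (i : ι) :
    Fp (w i ≫ f) (pullback.snd j (w i)) g ↔
      ∃ l : pullback (w i ≫ f) g ⟶ Y, l ≫ j = pullback.fst (w i ≫ f) g ≫ w i := by
  constructor
  · rintro ⟨l, hl⟩
    refine ⟨l ≫ pullback.fst j (w i), ?_⟩
    rw [Category.assoc, pullback.condition, ← Category.assoc, hl]
  · rintro ⟨l, hl⟩
    exact ⟨pullback.lift l (pullback.fst (w i ≫ f) g) hl, pullback.lift_snd _ _ _⟩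

theorem fp_member_mono {S' : Scheme.{u}} (g : S' ⟶ S) {i i' : ι} (a : W i ⟶ W i')
    (ha : a ≫ w i' = w i) (h : Fp (w i' ≫ f) (pullback.snd j (w i')) g) :
    Fp (w i ≫ f) (pullback.snd j (w i)) g := by
  rw [fp_member_iff] at h ⊢
  obtain ⟨l', hl'⟩ := h
  have e1 : (w i ≫ f) ≫ 𝟙 S = a ≫ w i' ≫ f := by
    rw [Category.comp_id, ← Category.assoc, ha]
  have e2 : g ≫ 𝟙 S = 𝟙 S' ≫ g := by rw [Category.comp_id, Category.id_comp]
  refine ⟨pullback.map (w i ≫ f) g (w i' ≫ f) g a (𝟙 S') (𝟙 S) e1 e2 ≫ l', ?_⟩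
  rw [Category.assoc, hl', ← Category.assoc, pullback.lift_fst, Category.assoc, ha]

/-- **Noetherian base**: the condition `Z_{S'} ⊆ Y` may be tested on a single member of a directed
family of finite flat subschemes which is schematically dominant on all fibres. -/
theorem exists_member_of_noetherian [IsNoetherian S] [LocallyOfFiniteType f] [Preorder ι]
    [IsDirected ι (· ≤ ·)] [Nonempty ι] [∀ i, IsFinite (w i ≫ f)] [∀ i, Flat (w i ≫ f)]
    (hfib : ∀ s : S, IsSchDom (fun i => MoreMor.fiberMap (w i) f s))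
    (hmono : ∀ i i', i ≤ i' → ∃ a : W i ⟶ W i', a ≫ w i' = w i) :
    ∃ i₀, ∀ (S' : Scheme.{u}) (g : S' ⟶ S),
      Fp f j g ↔ Fp (w i₀ ≫ f) (pullback.snd j (w i₀)) g := by
  haveI : IsLocallyNoetherian Z := LocallyOfFiniteType.isLocallyNoetherian f
  have hrep := fun i => finflat_closed (w i ≫ f) (pullback.snd j (w i))
  choose T t ht hT using hrep
  have hker : ∀ i (S' : Scheme.{u}) (g : S' ⟶ S),
      Fp (w i ≫ f) (pullback.snd j (w i)) g ↔ (t i).ker ≤ g.ker := by
    intro i S' g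
    haveI := ht i
    rw [← hT i, factors_iff_ker_le]
  have hmonoker : ∀ i i', i ≤ i' → (t i).ker ≤ (t i').ker := by
    intro i i' hii'
    obtain ⟨a, ha⟩ := hmono i i' hii'
    rw [← hker i]
    exact fp_member_mono f j W w (t i') a ha ((hker i' _ (t i')).mpr le_rfl)
  obtain ⟨𝒰, h𝒰⟩ : ∃ 𝒰 : Scheme.OpenCover.{u} S, 𝒰 = S.affineCover.finiteSubcover := ⟨_, rfl⟩
  haveI : Finite 𝒰.I₀ := by rw [h𝒰]; infer_instance
  haveI : ∀ k, IsAffine (𝒰.X k) := by rw [h𝒰]; infer_instance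
  obtain ⟨U, hU⟩ : ∃ U : 𝒰.I₀ → S.affineOpens,
      U = fun k => ⟨(𝒰.f k).opensRange, isAffineOpen_opensRange _⟩ := ⟨_, rfl⟩
  have hUtop : ⨆ k, (U k).1 = ⊤ := by
    rw [hU]
    exact 𝒰.iSup_opensRange
  haveI : ∀ k, IsNoetherianRing Γ(S, (U k).1) := fun k =>
    IsLocallyNoetherian.component_noetherian (U k)
  obtain ⟨i₀, hi₀⟩ := exists_max_of_directed (fun k => Ideal Γ(S, (U k).1))
    (fun k i => (t i).ker.ideal (U k)) (fun k i i' hii' => hmonoker i i' hii' (U k))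
  have hmax : ∀ i, (t i).ker ≤ (t i₀).ker := fun i =>
    Scheme.IdealSheafData.le_of_iSup_eq_top U hUtop (fun k => hi₀ i k)
  refine ⟨i₀, fun S' g => ?_⟩
  rw [fp_iff_forall_member f j W w hfib g]
  constructor
  · intro h
    exact h i₀
  · intro h i
    rw [hker] at h ⊢
    exact (hmax i).trans h

end Groth.Agent.Helper7.TorsDense
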