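import Mathlib
import Groth.Agent.Lib.Helper7.TorsDense3

/-!
# Closed conditions on a commutative group scheme tested on its torsion subgroups (helper7)
-/

set_option autoImplicit false
set_option linter.style.haveILetI false
set_option linter.unusedSectionVars false

universe u

open CategoryTheory MonoidalCategory CartesianMonoidalCategory MonObj GrpObj AlgebraicGeometry Limits

namespace Groth.Agent.Helper7.TorsDense

open Groth.Agent.Helper7.SchDom Groth.Agent.Helper7.FibCritGeom Groth.Agent.Helper18.EssFree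

/-- the index type: the members of `E`, ordered by divisibility -/
structure Idx (E : Set ℕ) : Type u where
  /-- the integer -/
  n : ℕ
  /-- it lies in `E` -/
  mem : n ∈ E

instance (E : Set ℕ) : Preorder (Idx.{u} E) where
  le a b := a.n ∣ b.n
  le_refl a := dvd_refl a.n
  le_trans a b c hab hbc := dvd_trans hab hbc

lemma Idx.le_def {E : Set ℕ} (a b : Idx.{u} E) : a ≤ b ↔ a.n ∣ b.n := Iff.rfl

lemma Idx.isDirected {E : Set ℕ} (hEmul : ∀ m ∈ E, ∀ n ∈ E, m * n ∈ E) :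
    IsDirected (Idx.{u} E) (· ≤ ·) :=
  ⟨fun a b => ⟨⟨a.n * b.n, hEmul _ a.mem _ b.mem⟩, Dvd.intro _ rfl, Dvd.intro_left _ rfl⟩⟩

variable {S : Scheme.{u}} (H : Over S) [GrpObj H]

/-- the kernel of the `n`-th power map -/
noncomputable abbrev ker (n : ℕ) : Scheme.{u} := pullback η[H].left (𝟙 H ^ n : H ⟶ H).left

/-- the inclusion of the kernel of the `n`-th power map -/
noncomputable abbrev kerι (n : ℕ) : ker H n ⟶ H.left :=
  pullback.snd η[H].left (𝟙 H ^ n : H ⟶ H).left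

lemma ker_fst_eq (n : ℕ) :
    pullback.fst η[H].left (𝟙 H ^ n : H ⟶ H).left = kerι H n ≫ H.hom := by
  have h1 := pullback.condition (f := η[H].left) (g := (𝟙 H ^ n : H ⟶ H).left)
  have h2 := congrArg (fun φ => φ ≫ H.hom) h1
  simp only [Category.assoc, Over.w] at h2
  rw [← h2]
  exact (Category.comp_id _).symm

/-- the kernel of the `n`-th power map as an object over `S` -/
noncomputable abbrev kerO (n : ℕ) : Over S := Over.mk (kerι H n ≫ H.hom)

/-- the inclusion of the kernel of the `n`-th power map as a morphism over `S` -/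
noncomputable abbrev kerκ (n : ℕ) : kerO H n ⟶ H := Over.homMk (kerι H n) rfl

lemma kerκ_pow (n : ℕ) : (kerκ H n) ^ n = 1 := by
  have h1 : kerκ H n ≫ (𝟙 H ^ n : H ⟶ H) = (kerκ H n) ^ n := by
    rw [MonObj.comp_pow, Category.comp_id]
  rw [← h1]
  ext1
  rw [Over.comp_left, Hom.one_def, Over.comp_left, Over.toUnit_left]
  change kerι H n ≫ (𝟙 H ^ n : H ⟶ H).left = (kerι H n ≫ H.hom) ≫ η[H].left
  rw [← ker_fst_eq]
  exact pullback.condition.symm

/-- the kernels of the power maps are ordered by divisibility -/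
theorem exists_ker_hom {n m : ℕ} (h : n ∣ m) : ∃ a : ker H n ⟶ ker H m, a ≫ kerι H m = kerι H n := by
  obtain ⟨d, rfl⟩ := h
  have h1 : kerκ H n ≫ (𝟙 H ^ (n * d) : H ⟶ H) = 1 := by
    rw [MonObj.comp_pow, Category.comp_id, pow_mul, kerκ_pow, one_pow]
  have h2 : kerι H n ≫ (𝟙 H ^ (n * d) : H ⟶ H).left =
      pullback.fst η[H].left (𝟙 H ^ n : H ⟶ H).left ≫ η[H].left := by
    have h3 := congrArg (fun φ => φ.left) h1
    simp only [Over.comp_left, Hom.one_def, Over.toUnit_left] at h3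
    rw [ker_fst_eq]
    exact h3
  exact ⟨pullback.lift (pullback.fst η[H].left (𝟙 H ^ n : H ⟶ H).left) (kerι H n) h2.symm,
    pullback.lift_snd _ _ _⟩

/-- **The statement on torsion-dense commutative groups.** -/
theorem main [IsLocallyNoetherian S] [LocallyOfFiniteType H.hom]
    (E : Set ℕ) (hE : E.Nonempty) (hEmul : ∀ m ∈ E, ∀ n ∈ E, m * n ∈ E)
    (ha : ∀ n ∈ E, IsFinite (kerι H n ≫ H.hom) ∧ Flat (kerι H n ≫ H.hom))
    (hb : ∀ (s : S) (V : (H.hom.fiber s).Opens) (t : Γ(H.hom.fiber s, V)),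
      (∀ n ∈ E, (MoreMor.fiberMap (kerι H n) H.hom s).app V t = 0) → t = 0)
    (Y : Scheme.{u}) (y : Y ⟶ H.left) [IsClosedImmersion y] :
    (∃ (T : Scheme.{u}) (t : T ⟶ S), IsClosedImmersion t ∧
      ∀ (S' : Scheme.{u}) (g : S' ⟶ S), (∃ g' : S' ⟶ T, g' ≫ t = g) ↔
        ∃ l : pullback H.hom g ⟶ Y, l ≫ y = pullback.fst H.hom g) ∧
    (AlgebraicGeometry.IsNoetherian S → ∃ n ∈ E, ∀ (S' : Scheme.{u}) (g : S' ⟶ S),
      (∃ l : pullback H.hom g ⟶ Y, l ≫ y = pullback.fst H.hom g) ↔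
        ∃ l : pullback (kerι H n ≫ H.hom) g ⟶ Y,
          l ≫ y = pullback.fst (kerι H n ≫ H.hom) g ≫ kerι H n) := by
  haveI : ∀ i : Idx.{u} E, IsFinite (kerι H i.n ≫ H.hom) := fun i => (ha i.n i.mem).1
  haveI : ∀ i : Idx.{u} E, Flat (kerι H i.n ≫ H.hom) := fun i => (ha i.n i.mem).2
  have hfib : ∀ s : S, IsSchDom (fun i : Idx.{u} E => MoreMor.fiberMap (kerι H i.n) H.hom s) :=
    fun s V t h => hb s V t (fun n hn => h ⟨n, hn⟩)
  refine ⟨closed_of_fib H.hom y (fun i : Idx.{u} E => ker H i.n) (fun i => kerι H i.n) hfib, ?_⟩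
  intro hS
  haveI := hS
  haveI : IsDirected (Idx.{u} E) (· ≤ ·) := Idx.isDirected hEmul
  haveI : Nonempty (Idx.{u} E) := ⟨⟨hE.some, hE.some_mem⟩⟩
  obtain ⟨i₀, hi₀⟩ := exists_member_of_noetherian H.hom y (fun i : Idx.{u} E => ker H i.n)
    (fun i => kerι H i.n) hfib (fun i i' hii' => exists_ker_hom H hii')
  refine ⟨i₀.n, i₀.mem, fun S' g => ?_⟩
  exact (hi₀ S' g).trans (fp_member_iff H.hom y (fun i : Idx.{u} E => ker H i.n)
    (fun i => kerι H i.n) g i₀)

end Groth.Agent.Helper7.TorsDense
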