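import Mathlib
import Groth.Agent.Lib.Helper7.TorsDense4

/-!
# Universally schematically dominant families: general squares, and the representability results
in terms of universal dominance (helper7)
-/

set_option autoImplicit false
set_option linter.style.haveILetI false
set_option linter.unusedSectionVars false

universe u

open CategoryTheory AlgebraicGeometry Limits

namespace Groth.Agent.Helper7.TorsDense

open Groth.Agent.Helper7.SchDom Groth.Agent.Helper7.FibCritGeom Groth.Agent.Helper18.EssFree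

section Iso

variable {X X' : Scheme.{u}} {ι : Type u} {Z Z' : ι → Scheme.{u}}

/-- precomposition with isomorphisms preserves schematic dominance -/
theorem isSchDom_iso_comp (q : ∀ i, Z i ⟶ X) (α : ∀ i, Z' i ⟶ Z i) [∀ i, IsIso (α i)]
    (h : IsSchDom q) : IsSchDom (fun i => α i ≫ q i) := by
  intro V t ht
  apply h V t
  intro i
  have h1 : (α i).app (q i ⁻¹ᵁ V) ((q i).app V t) = 0 := ht i
  have hinj := (ConcreteCategory.bijective_of_isIso ((α i).app (q i ⁻¹ᵁ V))).1
  exact hinj (h1.trans (map_zero _).symm)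

/-- postcomposition with an isomorphism preserves schematic dominance -/
theorem isSchDom_comp_iso (q : ∀ i, Z i ⟶ X) (β : X ⟶ X') [IsIso β]
    (h : IsSchDom q) : IsSchDom (fun i => q i ≫ β) := by
  intro V t ht
  have h1 : β.app V t = 0 := by
    apply h (β ⁻¹ᵁ V) (β.app V t)
    intro i
    exact ht i
  have hinj := (ConcreteCategory.bijective_of_isIso (β.app V)).1
  exact hinj (h1.trans (map_zero _).symm)

end Iso

variable {S Z Y : Scheme.{u}} (f : Z ⟶ S) (j : Y ⟶ Z) [IsClosedImmersion j]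
  {ι : Type u} (W : ι → Scheme.{u}) (w : ∀ i, W i ⟶ Z)

/-- the family is universally schematically dominant relative to the base -/
def USD : Prop :=
  ∀ {S' : Scheme.{u}} (g : S' ⟶ S),
    IsSchDom (fun i => pullback.map (w i ≫ f) g f g (w i) (𝟙 S') (𝟙 S) (Category.comp_id _)
      ((Category.comp_id _).trans (Category.id_comp _).symm))

theorem usd_of_fib [IsLocallyNoetherian Z] [∀ i, Flat (w i ≫ f)]
    (hfib : ∀ s : S, IsSchDom (fun i => MoreMor.fiberMap (w i) f s)) : USD f W w :=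
  fun g => isSchDom_pullback_of_fib f W w hfib g

/-- universal schematic dominance, for general pullback squares -/
theorem USD.squares (h : USD f W w) {S' X' : Scheme.{u}} (g : S' ⟶ S) {pr₁ : X' ⟶ Z}
    {pr₂ : X' ⟶ S'} (H : IsPullback pr₁ pr₂ f g) {Z' : ι → Scheme.{u}}
    {pz₁ : ∀ i, Z' i ⟶ W i} {pz₂ : ∀ i, Z' i ⟶ S'}
    (HZ : ∀ i, IsPullback (pz₁ i) (pz₂ i) (w i ≫ f) g) (f' : ∀ i, Z' i ⟶ X')
    (hf₁ : ∀ i, f' i ≫ pr₁ = pz₁ i ≫ w i) (hf₂ : ∀ i, f' i ≫ pr₂ = pz₂ i) : IsSchDom f' := by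
  have h1 := isSchDom_comp_iso _ H.isoPullback.inv
    (isSchDom_iso_comp _ (fun i => (HZ i).isoPullback.hom) (h g))
  have h2 : (fun i => ((HZ i).isoPullback.hom ≫ pullback.map (w i ≫ f) g f g (w i) (𝟙 S') (𝟙 S)
      (Category.comp_id _) ((Category.comp_id _).trans (Category.id_comp _).symm)) ≫
      H.isoPullback.inv) = f' := by
    funext i
    rw [Iso.comp_inv_eq]
    apply pullback.hom_ext
    · rw [Category.assoc, Category.assoc, pullback.lift_fst, IsPullback.isoPullback_hom_fst,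
        ← Category.assoc, IsPullback.isoPullback_hom_fst, hf₁]
    · rw [Category.assoc, Category.assoc, pullback.lift_snd, IsPullback.isoPullback_hom_snd,
        ← Category.assoc, IsPullback.isoPullback_hom_snd, hf₂, Category.comp_id]
  rw [← h2]
  exact h1

/-- a closed condition may be tested on a universally schematically dominant family -/
theorem fp_of_forall_member' (hdom : USD f W w) {S' : Scheme.{u}}
    (g : S' ⟶ S) (h : ∀ i, Fp (w i ≫ f) (pullback.snd j (w i)) g) : Fp f j g := by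
  suffices H : j.ker ≤ (pullback.fst f g).ker from
    ⟨IsClosedImmersion.lift j (pullback.fst f g) H, IsClosedImmersion.lift_fac _ _ _⟩
  refine Scheme.IdealSheafData.le_ofIdeals_iff.mpr ?_
  intro U a ha
  rw [Scheme.Hom.ker_apply, RingHom.mem_ker] at ha
  rw [RingHom.mem_ker]
  apply hdom g ((pullback.fst f g) ⁻¹ᵁ U.1) ((pullback.fst f g).app U.1 a)
  intro i
  apply app_app_eq_zero
  obtain ⟨l, hl⟩ := h i
  have e1 : pullback.map (w i ≫ f) g f g (w i) (𝟙 S') (𝟙 S) (Category.comp_id _)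
      ((Category.comp_id _).trans (Category.id_comp _).symm) ≫ pullback.fst f g =
      (l ≫ pullback.fst j (w i)) ≫ j := by
    rw [Category.assoc, pullback.condition, ← Category.assoc, hl]
    exact pullback.lift_fst _ _ _
  exact app_eq_zero_congr e1 U.1 a (app_eq_zero_of_comp _ j U.1 a ha)

theorem fp_iff_forall_member' (hdom : USD f W w) {S' : Scheme.{u}} (g : S' ⟶ S) :
    Fp f j g ↔ ∀ i, Fp (w i ≫ f) (pullback.snd j (w i)) g :=
  ⟨fun h i => fp_member f j W w g h i, fp_of_forall_member' f j W w hdom g⟩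

theorem closed_of_usd [IsLocallyNoetherian S] [∀ i, IsFinite (w i ≫ f)]
    [∀ i, Flat (w i ≫ f)] (hdom : USD f W w) :
    ∃ (T : Scheme.{u}) (t : T ⟶ S), IsClosedImmersion t ∧
      ∀ (S' : Scheme.{u}) (g : S' ⟶ S), (∃ g' : S' ⟶ T, g' ≫ t = g) ↔ Fp f j g := by
  obtain ⟨T, t, ht, h⟩ := exists_closed_of_forall
    (fun i {S'} g => Fp (w i ≫ f) (pullback.snd j (w i)) g)
    (fun i => finflat_closed (w i ≫ f) (pullback.snd j (w i)))
  refine ⟨T, t, ht, fun S' g => ?_⟩
  rw [h, fp_iff_forall_member' f j W w hdom g]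

theorem exists_member_of_noetherian' [IsNoetherian S] [Preorder ι]
    [IsDirected ι (· ≤ ·)] [Nonempty ι] [∀ i, IsFinite (w i ≫ f)] [∀ i, Flat (w i ≫ f)]
    (hdom : USD f W w)
    (hmono : ∀ i i', i ≤ i' → ∃ a : W i ⟶ W i', a ≫ w i' = w i) :
    ∃ i₀, ∀ (S' : Scheme.{u}) (g : S' ⟶ S),
      Fp f j g ↔ Fp (w i₀ ≫ f) (pullback.snd j (w i₀)) g := by
  have hrep := fun i => finflat_closed (w i ≫ f) (pullback.snd j (w i))
  choose T t ht hT using hrep
  have hker : ∀ i (S' : Scheme.{u}) (g : S' ⟶ S),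
      Fp (w i ≫ f) (pullback.snd j (w i)) g ↔ (t i).ker ≤ g.ker := by
    intro i S' g
    haveI := ht i
    rw [← hT i, factors_iff_ker_le]
  have hmonoker : ∀ i i', i ≤ i' → (t i).ker ≤ (t i').ker := by
    intro i i' hii'
    obtain ⟨a, ha⟩ := hmono i i' hii'
    rw [← hker i]
    exact fp_member_mono f j W w (t i') a ha ((hker i' _ (t i')).mpr le_rfl)
  obtain ⟨𝒰, h𝒰⟩ : ∃ 𝒰 : Scheme.OpenCover.{u} S, 𝒰 = S.affineCover.finiteSubcover := ⟨_, rfl⟩
  haveI : Finite 𝒰.I₀ := by rw [h𝒰]; infer_instance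
  haveI : ∀ k, IsAffine (𝒰.X k) := by rw [h𝒰]; infer_instance
  obtain ⟨U, hU⟩ : ∃ U : 𝒰.I₀ → S.affineOpens,
      U = fun k => ⟨(𝒰.f k).opensRange, isAffineOpen_opensRange _⟩ := ⟨_, rfl⟩
  have hUtop : ⨆ k, (U k).1 = ⊤ := by
    rw [hU]
    exact 𝒰.iSup_opensRange
  haveI : ∀ k, IsNoetherianRing Γ(S, (U k).1) := fun k =>
    IsLocallyNoetherian.component_noetherian (U k)
  obtain ⟨i₀, hi₀⟩ := exists_max_of_directed (fun k => Ideal Γ(S, (U k).1))
    (fun k i => (t i).ker.ideal (U k)) (fun k i i' hii' => hmonoker i i' hii' (U k))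
  have hmax : ∀ i, (t i).ker ≤ (t i₀).ker := fun i =>
    Scheme.IdealSheafData.le_of_iSup_eq_top U hUtop (fun k => hi₀ i k)
  refine ⟨i₀, fun S' g => ?_⟩
  rw [fp_iff_forall_member' f j W w hdom g]
  constructor
  · intro h
    exact h i₀
  · intro h i
    rw [hker] at h ⊢
    exact (hmax i).trans h

end Groth.Agent.Helper7.TorsDense
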