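import Mathlib
import Groth.Agent.Lib.Helper7.TorsDense5

/-!
# Transporters into closed subgroups, tested on torsion subgroups (helper7)

The comparison between the scheme-level condition `Fp` and the functor-of-points conditions follows
helper18's `EssFree5`.
-/

set_option autoImplicit false
set_option linter.style.haveILetI false
set_option linter.unusedSectionVars false

universe u

open CategoryTheory MonoidalCategory CartesianMonoidalCategory MonObj GrpObj AlgebraicGeometry Limits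

namespace Groth.Agent.Helper7.TorsDense

open Groth.Agent.Helper7.SchDom Groth.Agent.Helper7.FibCritGeom Groth.Agent.Helper18.EssFree

variable {S : Scheme.{u}}

section Generic

variable {X Y W D : Over S}

/-- the scheme-level condition in terms of morphisms over `S` -/
theorem fp_iff_whisker (c : Y ⊗ X ⟶ W) (y : D ⟶ W) {T : Over S} (x : T ⟶ X) :
    Fp (snd Y X).left (pullback.snd y.left c.left) x.left ↔
      ∃ w : Y ⊗ T ⟶ D, w ≫ y = (Y ◁ x) ≫ c := by
  obtain ⟨p, hp⟩ : ∃ p : (Y ⊗ X).left ⟶ X.left, p = (snd Y X).left := ⟨_, rfl⟩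
  obtain ⟨j', hj'⟩ : ∃ j' : pullback y.left c.left ⟶ (Y ⊗ X).left,
      j' = pullback.snd y.left c.left := ⟨_, rfl⟩
  rw [← hp, ← hj']
  have hsnd : (Y ◁ x).left ≫ p = (snd Y T).left ≫ x.left := by
    rw [hp, ← Over.comp_left, whiskerLeft_snd, Over.comp_left]
  obtain ⟨eh, heh⟩ : ∃ eh : (Y ⊗ T).left ⟶ pullback p x.left,
      eh ≫ pullback.fst p x.left = (Y ◁ x).left :=
    ⟨pullback.lift (Y ◁ x).left (snd Y T).left hsnd, pullback.lift_fst _ _ _⟩
  have hcond : (pullback.fst p x.left ≫ (fst Y X).left) ≫ Y.hom =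
      pullback.snd p x.left ≫ T.hom := by
    rw [Category.assoc, Over.w, ← Over.w (snd Y X), ← Category.assoc, ← hp, pullback.condition,
      Category.assoc, Over.w]
  obtain ⟨ei, hei1, hei2⟩ : ∃ ei : pullback p x.left ⟶ (Y ⊗ T).left,
      ei ≫ (fst Y T).left = pullback.fst p x.left ≫ (fst Y X).left ∧
      ei ≫ (snd Y T).left = pullback.snd p x.left :=
    ⟨pullback.lift (pullback.fst p x.left ≫ (fst Y X).left) (pullback.snd p x.left) hcond,
      pullback.lift_fst _ _ _, pullback.lift_snd _ _ _⟩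
  have hei : ei ≫ (Y ◁ x).left = pullback.fst p x.left := by
    apply pullback.hom_ext
    · rw [Category.assoc]
      change ei ≫ (Y ◁ x).left ≫ (fst Y X).left = _
      rw [← Over.comp_left, whiskerLeft_fst]
      exact hei1
    · rw [Category.assoc]
      change ei ≫ (Y ◁ x).left ≫ (snd Y X).left = pullback.fst p x.left ≫ (snd Y X).left
      rw [← Over.comp_left, whiskerLeft_snd, Over.comp_left, ← Category.assoc, hei2, ← hp,
        pullback.condition]
  constructor
  · rintro ⟨l, hl⟩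
    have hw : (eh ≫ l ≫ pullback.fst y.left c.left) ≫ y.left = (Y ◁ x).left ≫ c.left := by
      rw [Category.assoc, Category.assoc, pullback.condition, ← Category.assoc l, ← hj', hl,
        ← Category.assoc, heh]
    refine ⟨Over.homMk (eh ≫ l ≫ pullback.fst y.left c.left) ?_, ?_⟩
    · rw [← Over.w y, ← Category.assoc, hw, Category.assoc, Over.w, Over.w]
    · ext1
      exact hw
  · rintro ⟨w, hw⟩
    have hw' : w.left ≫ y.left = (Y ◁ x).left ≫ c.left := congrArg (fun f => f.left) hw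
    refine ⟨pullback.lift (ei ≫ w.left) (pullback.fst p x.left) ?_, ?_⟩
    · rw [Category.assoc, hw', ← Category.assoc, hei]
    · rw [hj']
      exact pullback.lift_snd _ _ _

/-- Yoneda form of the previous condition -/
theorem whisker_iff_pts (c : Y ⊗ X ⟶ W) (y : D ⟶ W) {T : Over S} (g : T ⟶ X) :
    (∃ w : Y ⊗ T ⟶ D, w ≫ y = (Y ◁ g) ≫ c) ↔
      ∀ (T' : Over S) (s : T' ⟶ T) (x : T' ⟶ Y),
        ∃ x' : T' ⟶ D, lift x (s ≫ g) ≫ c = x' ≫ y := by
  constructor
  · rintro ⟨w, hw⟩ T' s x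
    refine ⟨lift x s ≫ w, ?_⟩
    rw [Category.assoc, hw, ← Category.assoc]
    congr 1
    apply CartesianMonoidalCategory.hom_ext <;> simp
  · intro h'
    obtain ⟨x', hx'⟩ := h' (Y ⊗ T) (snd Y T) (fst Y T)
    refine ⟨x', ?_⟩
    rw [← hx']
    congr 1

/-- factorization over `S` through a closed subscheme of the total space -/
theorem over_factor_iff {T₀ : Scheme.{u}} (t : T₀ ⟶ X.left) {T : Over S} (x : T ⟶ X) :
    (∃ z : T ⟶ Over.mk (t ≫ X.hom),
      z ≫ (Over.homMk t rfl : Over.mk (t ≫ X.hom) ⟶ X) = x) ↔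
      ∃ g' : T.left ⟶ T₀, g' ≫ t = x.left := by
  constructor
  · rintro ⟨z, hz⟩
    exact ⟨z.left, congrArg (fun f => f.left) hz⟩
  · rintro ⟨g', hg'⟩
    refine ⟨Over.homMk g' ?_, ?_⟩
    · change g' ≫ t ≫ X.hom = T.hom
      rw [← Category.assoc, hg', Over.w]
    · ext1
      exact hg'

end Generic

section USDG

variable (H G : Over S) {J : Type u} (A : J → Over S) (κ : ∀ i, A i ⟶ H)

/-- universal schematic dominance passes to the base change to `G` -/
theorem usd_G (hdom : USD H.hom (fun i => (A i).left) (fun i => (κ i).left)) :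
    USD (snd H G).left (fun i => (A i ⊗ G).left) (fun i => (κ i ▷ G).left) := by
  intro X₁ g₁
  have hHG : IsPullback (fst H G).left (snd H G).left H.hom G.hom :=
    IsPullback.of_hasPullback H.hom G.hom
  have e : ∀ i, (κ i ▷ G).left ≫ (snd H G).left = (snd (A i) G).left := by
    intro i
    rw [← Over.comp_left, whiskerRight_snd]
  have e' : ∀ i, (κ i ▷ G).left ≫ (fst H G).left = (fst (A i) G).left ≫ (κ i).left := by
    intro i
    rw [← Over.comp_left, whiskerRight_fst, Over.comp_left]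
  have hAG : ∀ i, IsPullback (fst (A i) G).left ((κ i ▷ G).left ≫ (snd H G).left)
      ((κ i).left ≫ H.hom) G.hom := by
    intro i
    rw [e, Over.w]
    exact IsPullback.of_hasPullback (A i).hom G.hom
  refine USD.squares H.hom (fun i => (A i).left) (fun i => (κ i).left) hdom (g₁ ≫ G.hom)
    ((IsPullback.of_hasPullback (snd H G).left g₁).paste_horiz hHG)
    (fun i => (IsPullback.of_hasPullback ((κ i ▷ G).left ≫ (snd H G).left) g₁).paste_horiz
      (hAG i)) _ ?_ ?_
  · intro i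
    rw [← Category.assoc, pullback.lift_fst, Category.assoc, e', Category.assoc]
  · intro i
    rw [pullback.lift_snd, Category.comp_id]

end USDG

section Transporter

variable (H : Over S) [GrpObj H]

/-- the morphism over `S` between kernels of power maps -/
theorem exists_kerO_hom {n m : ℕ} (h : n ∣ m) :
    ∃ α : kerO H n ⟶ kerO H m, α ≫ kerκ H m = kerκ H n := by
  obtain ⟨a, ha⟩ := exists_ker_hom H h
  refine ⟨Over.homMk a ?_, ?_⟩
  · change a ≫ kerι H m ≫ H.hom = kerι H n ≫ H.hom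
    rw [← Category.assoc, ha]
  · ext1
    exact ha

/-- **Transporters into closed subgroups, for torsion-dense groups.** -/
theorem transporter_main [IsLocallyNoetherian S] [LocallyOfFiniteType H.hom]
    (E : Set ℕ) (hE : E.Nonempty) (hEmul : ∀ m ∈ E, ∀ n ∈ E, m * n ∈ E)
    (ha : ∀ n ∈ E, IsFinite (kerι H n ≫ H.hom) ∧ Flat (kerι H n ≫ H.hom))
    (hb : ∀ (s : S) (V : (H.hom.fiber s).Opens) (t : Γ(H.hom.fiber s, V)),
      (∀ n ∈ E, (MoreMor.fiberMap (kerι H n) H.hom s).app V t = 0) → t = 0)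
    (G K : Over S) [GrpObj G] [LocallyOfFiniteType G.hom] (u : H ⟶ G)
    (k : K ⟶ G) [IsClosedImmersion k.left] :
    (∃ (T : Over S) (j : T ⟶ G), IsClosedImmersion j.left ∧
      ∀ (X : Over S) (g : X ⟶ G), (∃ t : X ⟶ T, t ≫ j = g) ↔
        ∀ (X' : Over S) (x : X' ⟶ X) (h : X' ⟶ H),
          ∃ κ : X' ⟶ K, (x ≫ g) * (h ≫ u) * (x ≫ g)⁻¹ = κ ≫ k) ∧
    (AlgebraicGeometry.IsNoetherian G.left → ∃ n ∈ E, ∀ (X : Over S) (g : X ⟶ G),
      (∀ (X' : Over S) (x : X' ⟶ X) (h : X' ⟶ H),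
          ∃ κ : X' ⟶ K, (x ≫ g) * (h ≫ u) * (x ≫ g)⁻¹ = κ ≫ k) ↔
        ∀ (X' : Over S) (x : X' ⟶ X) (h : X' ⟶ H), h ^ n = 1 →
          ∃ κ : X' ⟶ K, (x ≫ g) * (h ≫ u) * (x ≫ g)⁻¹ = κ ≫ k) := by
  haveI : ∀ i : Idx.{u} E, IsFinite (kerι H i.n ≫ H.hom) := fun i => (ha i.n i.mem).1
  haveI : ∀ i : Idx.{u} E, Flat (kerι H i.n ≫ H.hom) := fun i => (ha i.n i.mem).2
  haveI : IsLocallyNoetherian H.left := LocallyOfFiniteType.isLocallyNoetherian H.hom
  haveI : IsLocallyNoetherian G.left := LocallyOfFiniteType.isLocallyNoetherian G.hom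
  have hfib : ∀ s : S, IsSchDom (fun i : Idx.{u} E => MoreMor.fiberMap (kerι H i.n) H.hom s) :=
    fun s V t h => hb s V t (fun n hn => h ⟨n, hn⟩)
  have hdom : USD H.hom (fun i : Idx.{u} E => (kerO H i.n).left)
      (fun i => (kerκ H i.n).left) :=
    usd_of_fib H.hom (fun i : Idx.{u} E => ker H i.n) (fun i => kerι H i.n) hfib
  have hdomG : USD (snd H G).left (fun i : Idx.{u} E => (kerO H i.n ⊗ G).left)
      (fun i => (kerκ H i.n ▷ G).left) :=
    usd_G H G (fun i : Idx.{u} E => kerO H i.n) (fun i => kerκ H i.n) hdom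
  -- the conjugation map
  obtain ⟨c, hc⟩ : ∃ c : H ⊗ G ⟶ G, c = snd H G * (fst H G ≫ u) * (snd H G)⁻¹ := ⟨_, rfl⟩
  have hconj : ∀ {X' : Over S} (h : X' ⟶ H) (g' : X' ⟶ G),
      lift h g' ≫ c = g' * (h ≫ u) * g'⁻¹ := by
    intro X' h g'
    rw [hc, MonObj.comp_mul, MonObj.comp_mul, GrpObj.comp_inv, lift_snd, lift_fst_assoc]
  have e : ∀ i : Idx.{u} E, (kerκ H i.n ▷ G).left ≫ (snd H G).left =
      (snd (kerO H i.n) G).left := by
    intro i
    rw [← Over.comp_left, whiskerRight_snd]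
  haveI : ∀ i : Idx.{u} E, IsFinite ((kerκ H i.n ▷ G).left ≫ (snd H G).left) := by
    intro i
    rw [e]
    exact inferInstanceAs (IsFinite (pullback.snd (kerι H i.n ≫ H.hom) G.hom))
  haveI : ∀ i : Idx.{u} E, Flat ((kerκ H i.n ▷ G).left ≫ (snd H G).left) := by
    intro i
    rw [e]
    exact inferInstanceAs (Flat (pullback.snd (kerι H i.n ≫ H.hom) G.hom))
  -- the chain of equivalences
  have hchain : ∀ (X : Over S) (g : X ⟶ G),
      Fp (snd H G).left (pullback.snd k.left c.left) g.left ↔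
        ∀ (X' : Over S) (x : X' ⟶ X) (h : X' ⟶ H),
          ∃ κ : X' ⟶ K, (x ≫ g) * (h ≫ u) * (x ≫ g)⁻¹ = κ ≫ k := by
    intro X g
    rw [fp_iff_whisker c k g, whisker_iff_pts c k g]
    refine forall_congr' fun X' => forall_congr' fun x => forall_congr' fun h => ?_
    rw [hconj]
  constructor
  · obtain ⟨T₀, t, ht, hrep⟩ := closed_of_usd (snd H G).left (pullback.snd k.left c.left)
      (fun i : Idx.{u} E => (kerO H i.n ⊗ G).left) (fun i => (kerκ H i.n ▷ G).left) hdomG
    refine ⟨Over.mk (t ≫ G.hom), Over.homMk t rfl, ht, fun X g => ?_⟩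
    rw [over_factor_iff t g, hrep, hchain]
  · intro hG
    haveI := hG
    haveI : IsDirected (Idx.{u} E) (· ≤ ·) := Idx.isDirected hEmul
    haveI : Nonempty (Idx.{u} E) := ⟨⟨hE.some, hE.some_mem⟩⟩
    obtain ⟨i₀, hi₀⟩ := exists_member_of_noetherian' (snd H G).left (pullback.snd k.left c.left)
      (fun i : Idx.{u} E => (kerO H i.n ⊗ G).left) (fun i => (kerκ H i.n ▷ G).left) hdomG
      (fun i i' hii' => by
        obtain ⟨α, hα⟩ := exists_kerO_hom H hii'
        refine ⟨(α ▷ G).left, ?_⟩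
        rw [← Over.comp_left, ← comp_whiskerRight, hα])
    refine ⟨i₀.n, i₀.mem, fun X g => ⟨fun h X' x hh _ => h X' x hh, fun h => ?_⟩⟩
    rw [← hchain, hi₀, fp_member_iff]
    -- the test point
    obtain ⟨P, p₁, p₂, hcondP, hlift⟩ : ∃ (P : Scheme.{u}) (p₁ : P ⟶ (kerO H i₀.n ⊗ G).left)
        (p₂ : P ⟶ X.left), p₁ ≫ (kerκ H i₀.n ▷ G).left ≫ (snd H G).left = p₂ ≫ g.left ∧
        ((∃ l : P ⟶ pullback k.left c.left, l ≫ pullback.snd k.left c.left =
            p₁ ≫ (kerκ H i₀.n ▷ G).left) →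
          ∃ l : pullback ((kerκ H i₀.n ▷ G).left ≫ (snd H G).left) g.left ⟶
              pullback k.left c.left, l ≫ pullback.snd k.left c.left =
            pullback.fst ((kerκ H i₀.n ▷ G).left ≫ (snd H G).left) g.left ≫
              (kerκ H i₀.n ▷ G).left) :=
      ⟨_, pullback.fst _ _, pullback.snd _ _, pullback.condition, id⟩
    apply hlift
    have hw1 : (p₁ ≫ (fst (kerO H i₀.n) G).left) ≫ (kerO H i₀.n).hom = p₂ ≫ X.hom := by
      rw [Category.assoc, Over.w (fst (kerO H i₀.n) G), ← Over.w (snd (kerO H i₀.n) G), ← e,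
        ← Category.assoc, ← Category.assoc, Category.assoc p₁, hcondP, Category.assoc, Over.w]
    obtain ⟨x, hx⟩ : ∃ x : Over.mk (p₂ ≫ X.hom) ⟶ X, x.left = p₂ := ⟨Over.homMk p₂ rfl, rfl⟩
    obtain ⟨h', hh'⟩ : ∃ h' : Over.mk (p₂ ≫ X.hom) ⟶ kerO H i₀.n,
        h'.left = p₁ ≫ (fst (kerO H i₀.n) G).left := ⟨Over.homMk _ hw1, rfl⟩
    have hpow : (h' ≫ kerκ H i₀.n) ^ i₀.n = 1 := by
      rw [← MonObj.comp_pow, kerκ_pow, MonObj.comp_one]
    obtain ⟨κ, hκ⟩ := h _ x (h' ≫ kerκ H i₀.n) hpow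
    rw [← hconj] at hκ
    have e'' : (kerκ H i₀.n ▷ G).left ≫ (fst H G).left =
        (fst (kerO H i₀.n) G).left ≫ (kerκ H i₀.n).left := by
      rw [← Over.comp_left, whiskerRight_fst, Over.comp_left]
    have hl1 : (lift (h' ≫ kerκ H i₀.n) (x ≫ g)).left ≫ (fst H G).left =
        h'.left ≫ (kerκ H i₀.n).left := by
      rw [← Over.comp_left, lift_fst, Over.comp_left]
    have hl2 : (lift (h' ≫ kerκ H i₀.n) (x ≫ g)).left ≫ (snd H G).left = x.left ≫ g.left := by
      rw [← Over.comp_left, lift_snd, Over.comp_left]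
    have hleft : (lift (h' ≫ kerκ H i₀.n) (x ≫ g)).left = p₁ ≫ (kerκ H i₀.n ▷ G).left := by
      apply Over.tensorObj_ext
      · change (lift (h' ≫ kerκ H i₀.n) (x ≫ g)).left ≫ (fst H G).left =
          (p₁ ≫ (kerκ H i₀.n ▷ G).left) ≫ (fst H G).left
        rw [hl1, hh', Category.assoc, Category.assoc, e'']
      · change (lift (h' ≫ kerκ H i₀.n) (x ≫ g)).left ≫ (snd H G).left =
          (p₁ ≫ (kerκ H i₀.n ▷ G).left) ≫ (snd H G).left
        rw [hl2, hx, Category.assoc, hcondP]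
    have hκ' : κ.left ≫ k.left = (p₁ ≫ (kerκ H i₀.n ▷ G).left) ≫ c.left := by
      have h3 := congrArg (fun φ => φ.left) hκ
      simp only [Over.comp_left] at h3
      rw [← hleft]
      exact h3.symm
    exact ⟨pullback.lift κ.left (p₁ ≫ (kerκ H i₀.n ▷ G).left) hκ', pullback.lift_snd _ _ _⟩

end Transporter

end Groth.Agent.Helper7.TorsDense
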