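import Mathlib
import Groth.Prelude
import Groth.Agent.Lib.Helper12.TanK
import Groth.Agent.Lib.Helper12.TanG
import Groth.Agent.S17448

/-!
# Torsion points of smooth commutative group schemes: multiplication by an invertible integer is
étale, and torsion points lift uniquely over henselian local rings
-/

set_option autoImplicit false
set_option linter.style.haveILetI false
set_option linter.unusedSectionVars false

universe u

open CategoryTheory CategoryTheory.Limits AlgebraicGeometry MonoidalCategory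
  CartesianMonoidalCategory MonObj GrpObj
open Groth.Agent.Helper12.Tan Groth.Agent.Helper16

namespace Groth.Agent.Helper7.TorsEt

/-- multiplication by `N` on a smooth commutative group scheme is étale when `N` is invertible
in all residue fields of the base -/
theorem etale_pow {S : Scheme.{u}} (G : Over S) [GrpObj G] [IsCommMonObj G] [Smooth G.hom] (N : ℕ)
    (hN : ∀ s : S, (N : S.residueField s) ≠ 0) : Etale ((𝟙 G : G ⟶ G) ^ N).left := by
  haveI : LocallyOfFinitePresentation (((𝟙 G : G ⟶ G) ^ N).left ≫ G.hom) := by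
    rw [Over.w]; infer_instance
  haveI : Flat (((𝟙 G : G ⟶ G) ^ N).left ≫ G.hom) := by
    rw [Over.w]; infer_instance
  refine EtFibCrit.etale_of_fibres G.hom ((𝟙 G : G ⟶ G) ^ N).left (fun s => ?_)
  rw [← Isog.prop_map_iff @Etale]
  haveI : IsMonHom ((𝟙 G : G ⟶ G) ^ N) := isMonHom_pow _ _
  have h : (𝟙 G : G ⟶ G) ^ N = (𝟙 G : G ⟶ G) ^ (N : ℤ) := (zpow_natCast _ _).symm
  haveI : IsMonHom ((𝟙 G : G ⟶ G) ^ (N : ℤ)) := by rw [← h]; infer_instance
  rw [h, pullback_map_zpow]
  haveI : IsMonHom ((𝟙 ((Over.pullback (S.fromSpecResidueField s)).obj G)) ^ (N : ℤ)) := by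
    rw [← pullback_map_zpow]
    infer_instance
  haveI : LocallyOfFiniteType ((Over.pullback (S.fromSpecResidueField s)).obj G).hom :=
    inferInstanceAs (LocallyOfFiniteType (pullback.snd _ _))
  exact etale_zpow_of_isMonHom (k := S.residueField s)
    ((Over.pullback (S.fromSpecResidueField s)).obj G) (N : ℤ) (by exact_mod_cast hN s)

theorem natCast_residueField_ne_zero (R : Type u) [CommRing R] (N : ℕ) (hN : IsUnit (N : R))
    (s : Spec (CommRingCat.of R)) : (N : (Spec (CommRingCat.of R)).residueField s) ≠ 0 := by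
  have h := hN.map ((Scheme.ΓSpecIso (CommRingCat.of R)).inv ≫
    (Spec (CommRingCat.of R)).Γevaluation s).hom
  rw [map_natCast] at h
  exact h.ne_zero

section Pts

variable {S : Scheme.{u}} (G : Over S) [GrpObj G] [IsCommMonObj G]

theorem one_left (T : Over S) : (1 : T ⟶ G).left = T.hom ≫ η[G].left := by
  rw [Hom.one_def, Over.comp_left]
  rfl

theorem pow_left (T : Over S) (a : T ⟶ G) (N : ℕ) :
    (a ^ N).left = a.left ≫ ((𝟙 G : G ⟶ G) ^ N).left := by
  rw [← Over.comp_left, MonObj.comp_pow, Category.comp_id]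

theorem mem_torsPts_iff (N : ℕ) (T : Over S) (a : T ⟶ G) :
    a ∈ AbDual.torsPts G N T ↔ a.left ≫ ((𝟙 G : G ⟶ G) ^ N).left = T.hom ≫ η[G].left := by
  rw [AbDual.mem_torsPts, ← pow_left, ← one_left]
  constructor
  · intro h
    rw [h]
  · intro h
    exact Over.OverMorphism.ext h

end Pts

set_option maxHeartbeats 1600000 in
theorem existsUnique_torsion_lift (R : Type u) [CommRing R] [HenselianLocalRing R]
    (G : Over (Spec (CommRingCat.of R))) [GrpObj G] [IsCommMonObj G]
    [Smooth G.hom] [IsSeparated G.hom] [QuasiCompact G.hom]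
    (N : ℕ) (hN : IsUnit (N : R))
    (τ : Over.mk (Spec.map (CommRingCat.ofHom (IsLocalRing.residue R))) ⟶ G)
    (hτ : τ ∈ AbDual.torsPts G N (Over.mk (Spec.map (CommRingCat.ofHom (IsLocalRing.residue R))))) :
    ∃! σ : Over.mk (𝟙 (Spec (CommRingCat.of R))) ⟶ G,
      σ ∈ AbDual.torsPts G N (Over.mk (𝟙 (Spec (CommRingCat.of R)))) ∧
        Over.homMk (Spec.map (CommRingCat.ofHom (IsLocalRing.residue R))) (Category.comp_id _) ≫ σ =
          τ := by
  obtain ⟨pN, hpN⟩ : ∃ pN : G.left ⟶ G.left, pN = ((𝟙 G : G ⟶ G) ^ N).left := ⟨_, rfl⟩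
  obtain ⟨e, he⟩ : ∃ e : Spec (CommRingCat.of R) ⟶ G.left, e = η[G].left := ⟨_, rfl⟩
  have heG : e ≫ G.hom = 𝟙 _ := by rw [he]; exact Over.w η[G]
  have hpNG : pN ≫ G.hom = G.hom := by rw [hpN]; exact Over.w _
  haveI : Etale pN := by
    rw [hpN]
    exact etale_pow G N (natCast_residueField_ne_zero R N hN)
  haveI : IsClosedImmersion e := by
    haveI : IsClosedImmersion (e ≫ G.hom) := by rw [heG]; infer_instance
    exact IsClosedImmersion.of_comp e G.hom
  obtain ⟨f, hf⟩ : ∃ f : pullback pN e ⟶ Spec (CommRingCat.of R), f = pullback.snd pN e :=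
    ⟨_, rfl⟩
  have hf' : f = pullback.fst pN e ≫ G.hom := by
    rw [hf, ← hpNG, ← Category.assoc, pullback.condition, Category.assoc, heG, Category.comp_id]
  haveI : Etale f := by rw [hf]; infer_instance
  haveI : IsSeparated f := by rw [hf']; infer_instance
  haveI : QuasiCompact f := by rw [hf']; infer_instance
  haveI : LocallyQuasiFinite f := Groth.Agent.Helper12.Tan.locallyQuasiFinite_of_unramified f
  have hτ' : τ.left ≫ pN = Spec.map (CommRingCat.ofHom (IsLocalRing.residue R)) ≫ e := by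
    have h := (mem_torsPts_iff G N _ τ).mp hτ
    rw [hpN, he]
    exact h
  obtain ⟨t, ht1, ht2⟩ : ∃ t : Spec (CommRingCat.of (IsLocalRing.ResidueField R)) ⟶ pullback pN e,
      t ≫ pullback.fst pN e = τ.left ∧
        t ≫ f = Spec.map (CommRingCat.ofHom (IsLocalRing.residue R)) := by
    refine ⟨pullback.lift τ.left _ hτ', pullback.lift_fst _ _ _, ?_⟩
    rw [hf, pullback.lift_snd]
  obtain ⟨s, ⟨hs1, hs2⟩, hsu⟩ := Groth.Agent.S17448.result R f t ht2
  have hsσ : (s ≫ pullback.fst pN e) ≫ G.hom = (Over.mk (𝟙 (Spec (CommRingCat.of R)))).hom := by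
    rw [Category.assoc, ← hf', hs1]
    rfl
  have hσl : (Over.homMk (s ≫ pullback.fst pN e) hsσ :
      Over.mk (𝟙 (Spec (CommRingCat.of R))) ⟶ G).left = s ≫ pullback.fst pN e := rfl
  have hρl : (Over.homMk (Spec.map (CommRingCat.ofHom (IsLocalRing.residue R)))
      (Category.comp_id _) : Over.mk (Spec.map (CommRingCat.ofHom (IsLocalRing.residue R))) ⟶
        Over.mk (𝟙 (Spec (CommRingCat.of R)))).left =
      Spec.map (CommRingCat.ofHom (IsLocalRing.residue R)) := rfl
  refine ⟨Over.homMk (s ≫ pullback.fst pN e) hsσ, ⟨?_, ?_⟩, ?_⟩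
  · rw [mem_torsPts_iff, hσl, ← hpN, ← he, Category.assoc, pullback.condition,
      ← Category.assoc, ← hf, hs1]
    rfl
  · ext
    rw [Over.comp_left, hσl, hρl, ← Category.assoc, hs2, ht1]
  · rintro σ' ⟨hσ'1, hσ'2⟩
    have h1 : σ'.left ≫ pN = 𝟙 (Spec (CommRingCat.of R)) ≫ e := by
      have h := (mem_torsPts_iff G N _ σ').mp hσ'1
      rw [hpN, he]
      exact h
    have hs' : pullback.lift σ'.left (𝟙 (Spec (CommRingCat.of R))) h1 = s := by
      apply hsu
      refine ⟨?_, ?_⟩
      · rw [hf, pullback.lift_snd]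
      · apply pullback.hom_ext
        · rw [Category.assoc, pullback.lift_fst, ht1, ← hσ'2, Over.comp_left, hρl]
        · rw [Category.assoc, pullback.lift_snd, Category.comp_id, ← hf, ht2]
    ext
    rw [hσl, ← hs', pullback.lift_fst]

end Groth.Agent.Helper7.TorsEt
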