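import Mathlib
import Groth.Prelude
import Groth.Agent.Lib.Helper7.TorsEt

/-!
# Prime-to-`p` torsion injects into the special fibre
-/

set_option autoImplicit false
set_option linter.style.haveILetI false
set_option linter.unusedSectionVars false

universe u

open CategoryTheory CategoryTheory.Limits AlgebraicGeometry MonoidalCategory
  CartesianMonoidalCategory MonObj GrpObj

namespace Groth.Agent.Helper7.TorsEt

/-- two sections through the same point of the special fibre, one of them a closed immersion,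
restrict to the same `k`-point -/
theorem kpoint_eq_of_base_eq {R : Type u} [CommRing R] [IsLocalRing R]
    {X : Scheme.{u}} (g : X ⟶ Spec (CommRingCat.of R)) [IsSeparated g]
    (e x : Spec (CommRingCat.of R) ⟶ X) (he : e ≫ g = 𝟙 _) (hx : x ≫ g = 𝟙 _)
    (hred : x.base (IsLocalRing.closedPoint R) = e.base (IsLocalRing.closedPoint R)) :
    Spec.map (CommRingCat.ofHom (IsLocalRing.residue R)) ≫ x =
      Spec.map (CommRingCat.ofHom (IsLocalRing.residue R)) ≫ e := by
  haveI : IsClosedImmersion e := by
    haveI : IsClosedImmersion (e ≫ g) := by rw [he]; infer_instance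
    exact IsClosedImmersion.of_comp e g
  obtain ⟨ρ, hρ⟩ : ∃ ρ : Spec (CommRingCat.of (IsLocalRing.ResidueField R)) ⟶
      Spec (CommRingCat.of R), ρ = Spec.map (CommRingCat.ofHom (IsLocalRing.residue R)) :=
    ⟨_, rfl⟩
  rw [← hρ]
  obtain ⟨a, ha⟩ : ∃ a : Spec (CommRingCat.of (IsLocalRing.ResidueField R)) ⟶ X, a = ρ ≫ x :=
    ⟨_, rfl⟩
  rw [← ha]
  have hρpt : ∀ z : Spec (CommRingCat.of (IsLocalRing.ResidueField R)),
      ρ.base z = IsLocalRing.closedPoint R := by
    intro z
    rw [hρ]
    have : z = IsLocalRing.closedPoint (IsLocalRing.ResidueField R) := Subsingleton.elim _ _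
    rw [this]
    exact (IsLocalRing.comap_closedPoint (IsLocalRing.residue R))
  haveI : Surjective (pullback.fst a e) := by
    constructor
    intro z
    have hz : a.base z = e.base (IsLocalRing.closedPoint R) := by
      rw [ha, Scheme.Hom.comp_base, TopCat.comp_app, hρpt z, hred]
    obtain ⟨w, hw1, -⟩ := Scheme.Pullback.exists_preimage_pullback z _ hz
    exact ⟨w, hw1⟩
  haveI : IsIso (pullback.fst a e) := isIso_of_isClosedImmersion_of_surjective _
  have hc : (inv (pullback.fst a e) ≫ pullback.snd a e) ≫ e = a := by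
    rw [Category.assoc, ← pullback.condition, IsIso.inv_hom_id_assoc]
  have hc2 : inv (pullback.fst a e) ≫ pullback.snd a e = ρ := by
    have h1 := congrArg (fun t => t ≫ g) hc
    simp only [Category.assoc] at h1
    rw [he, Category.comp_id] at h1
    have h2 : a ≫ g = ρ := by rw [ha, Category.assoc, hx, Category.comp_id]
    exact h1.trans h2
  rw [← hc, hc2]

theorem comp_one' {S : Scheme.{u}} (G : Over S) [GrpObj G] {T T' : Over S} (f : T ⟶ T') :
    f ≫ (1 : T' ⟶ G) = 1 := by
  rw [Hom.one_def, Hom.one_def, ← Category.assoc]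
  congr 1
  exact toUnit_unique _ _

theorem eq_one_of_torsion (R : Type u) [CommRing R] [HenselianLocalRing R]
    (G : Over (Spec (CommRingCat.of R))) [GrpObj G] [IsCommMonObj G]
    [Smooth G.hom] [IsSeparated G.hom] [QuasiCompact G.hom]
    (n : ℕ) (hn : IsUnit (n : R))
    (x : 𝟙_ (Over (Spec (CommRingCat.of R))) ⟶ G) (hx : x ^ n = 1)
    (hred : x.left.base (IsLocalRing.closedPoint R) =
      (η[G]).left.base (IsLocalRing.closedPoint R)) : x = 1 := by
  obtain ⟨ρ, hρ⟩ : ∃ ρ : Over.mk (Spec.map (CommRingCat.ofHom (IsLocalRing.residue R))) ⟶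
      Over.mk (𝟙 (Spec (CommRingCat.of R))),
      ρ = Over.homMk (Spec.map (CommRingCat.ofHom (IsLocalRing.residue R)))
        (Category.comp_id _) := ⟨_, rfl⟩
  have hρl : ρ.left = Spec.map (CommRingCat.ofHom (IsLocalRing.residue R)) := by
    rw [hρ]; rfl
  have hτ : (1 : Over.mk (Spec.map (CommRingCat.ofHom (IsLocalRing.residue R))) ⟶ G) ∈
      AbDual.torsPts G n (Over.mk (Spec.map (CommRingCat.ofHom (IsLocalRing.residue R)))) := by
    rw [AbDual.mem_torsPts, one_pow]
  obtain ⟨σ, -, hσu⟩ := existsUnique_torsion_lift R G n hn 1 hτ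
  have h1 : (1 : Over.mk (𝟙 (Spec (CommRingCat.of R))) ⟶ G) = σ := by
    apply hσu
    refine ⟨?_, ?_⟩
    · rw [AbDual.mem_torsPts, one_pow]
    · rw [← hρ]
      exact comp_one' G ρ
  have h2 : (x : Over.mk (𝟙 (Spec (CommRingCat.of R))) ⟶ G) = σ := by
    apply hσu
    refine ⟨?_, ?_⟩
    · rw [AbDual.mem_torsPts]
      exact hx
    · rw [← hρ]
      rw [← comp_one' G ρ]
      apply Over.OverMorphism.ext
      rw [Over.comp_left, Over.comp_left, hρl]
      have hone : (1 : Over.mk (𝟙 (Spec (CommRingCat.of R))) ⟶ G).left = η[G].left := by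
        rw [one_left]
        exact Category.id_comp _
      rw [hone]
      refine kpoint_eq_of_base_eq G.hom η[G].left x.left (Over.w η[G]) (Over.w x) hred
  exact h2.trans h1.symm

theorem henselianLocalRing_of_isAdicComplete (R : Type u) [CommRing R] [IsLocalRing R]
    [IsAdicComplete (IsLocalRing.maximalIdeal R) R] : HenselianLocalRing R where
  is_henselian f hf a₀ h₁ h₂ :=
    HenselianRing.is_henselian (I := IsLocalRing.maximalIdeal R) f hf a₀ h₁ (h₂.map _)

theorem isUnit_natCast_of_coprime (R : Type u) [CommRing R] [IsLocalRing R] (p : ℕ)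
    [Fact p.Prime] [CharP (IsLocalRing.ResidueField R) p] (n : ℕ) (hnp : Nat.Coprime n p) :
    IsUnit (n : R) := by
  rw [← IsLocalRing.residue_ne_zero_iff_isUnit, map_natCast]
  intro h0
  have hd := (CharP.cast_eq_zero_iff (IsLocalRing.ResidueField R) p n).mp h0
  have hp1 := Nat.Coprime.eq_one_of_dvd hnp.symm hd
  exact (Fact.out : p.Prime).one_lt.ne' hp1

end Groth.Agent.Helper7.TorsEt
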