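import Mathlib
import Groth.Prelude
import Groth.Agent.Lib.Helper7.TorsEt2
import Groth.Agent.Lib.Lead.Hom16
import Groth.Agent.S7773

/-!
# Torsion of an abelian scheme over a regular local ring containing `ℚ`: rational points of the
generic fibre inject into those of the closed fibre
-/

set_option autoImplicit false
set_option linter.style.haveILetI false
set_option linter.unusedSectionVars false

universe u

open CategoryTheory CategoryTheory.Limits AlgebraicGeometry MonoidalCategory
  CartesianMonoidalCategory MonObj GrpObj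
open Groth.Agent.Helper12.Tan Groth.Agent.Helper16
open Groth.Agent.Helper7.TorsEt

namespace Groth.Agent.Helper7.TorsReg

/-- two field-valued points with the same image point and the same (closed immersion) composite
to a base over which the target is separated are equal -/
theorem fieldPoint_eq_of_base_eq {k : Type u} [Field k] {X Z : Scheme.{u}} (g : X ⟶ Z)
    [IsSeparated g] (a b : Spec (CommRingCat.of k) ⟶ X) (hab : a ≫ g = b ≫ g)
    [IsClosedImmersion (b ≫ g)] (z : Spec (CommRingCat.of k)) (hz : a.base z = b.base z) :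
    a = b := by
  haveI : IsClosedImmersion b := IsClosedImmersion.of_comp b g
  haveI : Surjective (pullback.fst a b) := by
    constructor
    intro w
    obtain rfl : w = z := Subsingleton.elim _ _
    obtain ⟨v, hv, -⟩ := Scheme.Pullback.exists_preimage_pullback w w hz
    exact ⟨v, hv⟩
  haveI : IsIso (pullback.fst a b) := isIso_of_isClosedImmersion_of_surjective _
  have hc : (inv (pullback.fst a b) ≫ pullback.snd a b) ≫ b = a := by
    rw [Category.assoc, ← pullback.condition, IsIso.inv_hom_id_assoc]
  have h3 : (inv (pullback.fst a b) ≫ pullback.snd a b) ≫ (b ≫ g) = 𝟙 _ ≫ (b ≫ g) :=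
    calc (inv (pullback.fst a b) ≫ pullback.snd a b) ≫ (b ≫ g)
        = ((inv (pullback.fst a b) ≫ pullback.snd a b) ≫ b) ≫ g := (Category.assoc _ _ _).symm
      _ = a ≫ g := by rw [hc]
      _ = b ≫ g := hab
      _ = 𝟙 _ ≫ (b ≫ g) := (Category.id_comp _).symm
  have hc2 : inv (pullback.fst a b) ≫ pullback.snd a b = 𝟙 _ := (cancel_mono (b ≫ g)).mp h3
  rw [← hc, hc2, Category.id_comp]

theorem exists_ringHom_of_range_le {R K B : Type*} [CommRing R] [CommRing K] [CommRing B]
    (i : R →+* K) (hi : Function.Injective i) (β : B →+* K) (h : ∀ b, ∃ r, i r = β b) :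
    ∃ σ : B →+* R, ∀ b, i (σ b) = β b := by
  choose σ hσ using h
  exact ⟨{ toFun := σ
           map_one' := hi (by rw [hσ, map_one, map_one])
           map_mul' := fun x y => hi (by rw [hσ, map_mul, map_mul, hσ, hσ])
           map_zero' := hi (by rw [hσ, map_zero, map_zero])
           map_add' := fun x y => hi (by rw [hσ, map_add, map_add, hσ, hσ]) }, hσ⟩

/-- a point of a finite scheme over an integrally closed domain with values in the fraction
field extends to a section -/
theorem exists_section_of_isFinite {R : Type u} [CommRing R] [IsDomain R] [IsIntegrallyClosed R]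
    {T : Scheme.{u}} (f : T ⟶ Spec (CommRingCat.of R)) [IsFinite f]
    (t : Spec (CommRingCat.of (FractionRing R)) ⟶ T)
    (ht : t ≫ f = Spec.map (CommRingCat.ofHom (algebraMap R (FractionRing R)))) :
    ∃ s : Spec (CommRingCat.of R) ⟶ T, s ≫ f = 𝟙 _ ∧
      Spec.map (CommRingCat.ofHom (algebraMap R (FractionRing R))) ≫ s = t := by
  haveI : IsAffine T := isAffine_of_isAffineHom f
  obtain ⟨φ, hφ⟩ : ∃ φ : CommRingCat.of R ⟶ Γ(T, ⊤), Spec.map φ = T.isoSpec.inv ≫ f :=
    ⟨Spec.preimage _, Spec.map_preimage _⟩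
  obtain ⟨β, hβ⟩ : ∃ β : Γ(T, ⊤) ⟶ CommRingCat.of (FractionRing R),
      Spec.map β = t ≫ T.isoSpec.hom := ⟨Spec.preimage _, Spec.map_preimage _⟩
  have hφβ : φ ≫ β = CommRingCat.ofHom (algebraMap R (FractionRing R)) := by
    apply Spec.map_injective
    rw [Spec.map_comp, hφ, hβ, Category.assoc, Iso.hom_inv_id_assoc, ht]
  have hcomp : β.hom.comp φ.hom = algebraMap R (FractionRing R) := by
    rw [← CommRingCat.hom_comp, hφβ]
    rfl
  have hfin : φ.hom.Finite := by
    have : IsFinite (Spec.map φ) := by rw [hφ]; infer_instance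
    exact (IsFinite.SpecMap_iff φ).mp this
  have hint : ∀ b : Γ(T, ⊤), ∃ r : R, algebraMap R (FractionRing R) r = β.hom b := by
    intro b
    have h1 : φ.hom.IsIntegralElem b := hfin.to_isIntegral b
    have h2 : IsIntegral R (β.hom b) := by
      obtain ⟨p, hp, hpe⟩ := h1
      refine ⟨p, hp, ?_⟩
      have h := congrArg β.hom hpe
      rw [Polynomial.hom_eval₂, map_zero, hcomp] at h
      exact h
    exact IsIntegrallyClosed.isIntegral_iff.mp h2
  obtain ⟨σ, hσ⟩ := exists_ringHom_of_range_le (algebraMap R (FractionRing R))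
    (IsFractionRing.injective R (FractionRing R)) β.hom hint
  have h1 : φ ≫ CommRingCat.ofHom σ = 𝟙 _ := by
    ext r
    apply IsFractionRing.injective R (FractionRing R)
    have h := hσ (φ.hom r)
    have h' : β.hom (φ.hom r) = algebraMap R (FractionRing R) r := by
      rw [← hcomp]; rfl
    rw [h'] at h
    exact h
  have h2 : CommRingCat.ofHom σ ≫ CommRingCat.ofHom (algebraMap R (FractionRing R)) = β := by
    ext b
    exact hσ b
  refine ⟨Spec.map (CommRingCat.ofHom σ) ≫ T.isoSpec.inv, ?_, ?_⟩
  · rw [Category.assoc, ← hφ, ← Spec.map_comp, h1, Spec.map_id]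
  · rw [← Category.assoc, ← Spec.map_comp, h2, hβ, Category.assoc, Iso.hom_inv_id,
      Category.comp_id]

set_option maxHeartbeats 1600000 in
/-- for a finite étale scheme over an integrally closed local domain there are at most as many
points with values in the fraction field as with values in the residue field -/
theorem card_fracPoints_le_card_resPoints {R : Type u} [CommRing R] [IsDomain R] [IsLocalRing R]
    [IsIntegrallyClosed R] {T : Scheme.{u}} (f : T ⟶ Spec (CommRingCat.of R)) [IsFinite f]
    [Etale f] :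
    Nat.card {t : Spec (CommRingCat.of (FractionRing R)) ⟶ T //
        t ≫ f = Spec.map (CommRingCat.ofHom (algebraMap R (FractionRing R)))} ≤
      Nat.card {t : Spec (CommRingCat.of (IsLocalRing.ResidueField R)) ⟶ T //
        t ≫ f = Spec.map (CommRingCat.ofHom (IsLocalRing.residue R))} := by
  haveI : Finite {t : Spec (CommRingCat.of (IsLocalRing.ResidueField R)) ⟶ T //
      t ≫ f = Spec.map (CommRingCat.ofHom (IsLocalRing.residue R))} := by
    obtain ⟨c, hc⟩ : ∃ c : ↥(Spec (CommRingCat.of R)), c = IsLocalRing.closedPoint R := ⟨_, rfl⟩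
    have hfin := f.finite_preimage_singleton c
    haveI := hfin.to_subtype
    have hmem : ∀ t : {t : Spec (CommRingCat.of (IsLocalRing.ResidueField R)) ⟶ T //
        t ≫ f = Spec.map (CommRingCat.ofHom (IsLocalRing.residue R))},
        f.base (t.1.base (IsLocalRing.closedPoint (IsLocalRing.ResidueField R))) = c := by
      intro t
      have h1 : f.base (t.1.base (IsLocalRing.closedPoint (IsLocalRing.ResidueField R))) =
          (t.1 ≫ f).base (IsLocalRing.closedPoint (IsLocalRing.ResidueField R)) := by
        rw [Scheme.Hom.comp_base, TopCat.comp_app]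
      refine h1.trans ?_
      rw [t.2, hc]
      exact IsLocalRing.comap_closedPoint (IsLocalRing.residue R)
    refine Finite.of_injective (β := ↥(f ⁻¹' {c}))
      (fun t => ⟨t.1.base (IsLocalRing.closedPoint (IsLocalRing.ResidueField R)), hmem t⟩) ?_
    intro t1 t2 h
    have h' : t1.1.base (IsLocalRing.closedPoint (IsLocalRing.ResidueField R)) =
        t2.1.base (IsLocalRing.closedPoint (IsLocalRing.ResidueField R)) :=
      congrArg Subtype.val h
    apply Subtype.ext
    haveI : IsClosedImmersion (t2.1 ≫ f) := by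
      rw [t2.2]
      exact IsClosedImmersion.spec_of_surjective _ IsLocalRing.residue_surjective
    exact fieldPoint_eq_of_base_eq f t1.1 t2.1 (t1.2.trans t2.2.symm) _ h'
  have hex : ∀ t : {t : Spec (CommRingCat.of (FractionRing R)) ⟶ T //
      t ≫ f = Spec.map (CommRingCat.ofHom (algebraMap R (FractionRing R)))},
      ∃ s : Spec (CommRingCat.of R) ⟶ T, s ≫ f = 𝟙 _ ∧
        Spec.map (CommRingCat.ofHom (algebraMap R (FractionRing R))) ≫ s = t.1 :=
    fun t => exists_section_of_isFinite f t.1 t.2
  choose s hs1 hs2 using hex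
  refine Nat.card_le_card_of_injective
    (fun t => ⟨Spec.map (CommRingCat.ofHom (IsLocalRing.residue R)) ≫ s t, by
      rw [Category.assoc, hs1, Category.comp_id]⟩) ?_
  intro t1 t2 h
  have h' : Spec.map (CommRingCat.ofHom (IsLocalRing.residue R)) ≫ s t1 =
      Spec.map (CommRingCat.ofHom (IsLocalRing.residue R)) ≫ s t2 := congrArg Subtype.val h
  have hss : s t1 = s t2 :=
    Groth.Agent.S7773.result R (IsLocalRing.maximalIdeal R)
      (IsLocalRing.maximalIdeal_le_jacobson ⊥) (Ideal.IsPrime.ne_top inferInstance) T f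
      (s t1) (s t2) (hs1 t1) (hs1 t2) h'
  apply Subtype.ext
  rw [← hs2 t1, ← hs2 t2, hss]

section Equiv

variable {S : Scheme.{u}} (G : Over S) [GrpObj G] [IsCommMonObj G]

theorem pow_left_hom (N : ℕ) : ((𝟙 G : G ⟶ G) ^ N).left ≫ G.hom = G.hom := Over.w _

theorem unit_left_hom : η[G].left ≫ G.hom = 𝟙 S := Over.w η[G]

theorem snd_eq_fst_hom (N : ℕ) :
    pullback.snd ((𝟙 G : G ⟶ G) ^ N).left η[G].left =
      pullback.fst ((𝟙 G : G ⟶ G) ^ N).left η[G].left ≫ G.hom := by
  have h := congrArg (fun t => t ≫ G.hom) (pullback.condition (f := ((𝟙 G : G ⟶ G) ^ N).left)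
    (g := η[G].left))
  simp only [Category.assoc] at h
  rw [pow_left_hom, unit_left_hom] at h
  exact (h.trans (Category.comp_id _)).symm

/-- `Y`-points of `G` killed by `N` are the `Y`-points of the kernel of `N` -/
noncomputable def torsEquiv (N : ℕ) (Y : Over S) :
    AbDual.torsPts G N Y ≃ {t : Y.left ⟶ pullback ((𝟙 G : G ⟶ G) ^ N).left η[G].left //
      t ≫ pullback.snd _ _ = Y.hom} where
  toFun a := ⟨pullback.lift a.1.left Y.hom ((mem_torsPts_iff G N Y a.1).mp a.2),
    pullback.lift_snd _ _ _⟩
  invFun t := ⟨Over.homMk (t.1 ≫ pullback.fst _ _) (by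
      rw [Category.assoc, ← snd_eq_fst_hom, t.2]), by
    rw [mem_torsPts_iff]
    have hl : (Over.homMk (t.1 ≫ pullback.fst ((𝟙 G : G ⟶ G) ^ N).left η[G].left) (by
      rw [Category.assoc, ← snd_eq_fst_hom, t.2]) : Y ⟶ G).left =
        t.1 ≫ pullback.fst ((𝟙 G : G ⟶ G) ^ N).left η[G].left := rfl
    rw [hl, Category.assoc, pullback.condition, ← Category.assoc, t.2]⟩
  left_inv a := by
    apply Subtype.ext
    apply Over.OverMorphism.ext
    exact pullback.lift_fst _ _ _
  right_inv t := by
    apply Subtype.ext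
    apply pullback.hom_ext
    · exact pullback.lift_fst _ _ _
    · rw [pullback.lift_snd]
      exact t.2.symm

end Equiv

set_option maxHeartbeats 1600000 in
theorem card_torsPts_le (R : Type u) [CommRing R] [IsDomain R] [IsRegularLocalRing R]
    [Algebra ℚ R] (A : Over (Spec (CommRingCat.of R))) [GrpObj A] [IsCommMonObj A]
    [Smooth A.hom] [IsProper A.hom] (m : ℕ) (hm : 1 ≤ m) :
    Nat.card (AbDual.torsPts A m
        (Over.mk (Spec.map (CommRingCat.ofHom (algebraMap R (FractionRing R)))))) ≤
      Nat.card (AbDual.torsPts A m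
        (Over.mk (Spec.map (CommRingCat.ofHom (IsLocalRing.residue R))))) := by
  haveI : IsIntegrallyClosed R := Groth.Agent.Lead.Hom.isIntegrallyClosed_of_isRegularLocalRing R
  have hmR : IsUnit ((m : ℕ) : R) := by
    have h1 : IsUnit ((m : ℕ) : ℚ) := by
      rw [isUnit_iff_ne_zero]
      exact_mod_cast (Nat.pos_of_ne_zero (by omega)).ne'
    have h2 := h1.map (algebraMap ℚ R)
    rwa [map_natCast] at h2
  haveI : Etale ((𝟙 A : A ⟶ A) ^ m).left :=
    etale_pow A m (natCast_residueField_ne_zero R m hmR)
  haveI : IsClosedImmersion η[A].left := by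
    obtain ⟨e, he⟩ : ∃ e : Spec (CommRingCat.of R) ⟶ A.left, e = η[A].left := ⟨_, rfl⟩
    have heG : e ≫ A.hom = 𝟙 (Spec (CommRingCat.of R)) := by rw [he]; exact Over.w η[A]
    rw [← he]
    haveI : IsClosedImmersion (e ≫ A.hom) := by rw [heG]; infer_instance
    exact IsClosedImmersion.of_comp e A.hom
  haveI : Etale (pullback.snd ((𝟙 A : A ⟶ A) ^ m).left η[A].left) := inferInstance
  haveI : IsProper (pullback.snd ((𝟙 A : A ⟶ A) ^ m).left η[A].left) := by
    rw [snd_eq_fst_hom]; infer_instance
  haveI : LocallyQuasiFinite (pullback.snd ((𝟙 A : A ⟶ A) ^ m).left η[A].left) :=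
    Groth.Agent.Helper12.Tan.locallyQuasiFinite_of_unramified _
  haveI : IsFinite (pullback.snd ((𝟙 A : A ⟶ A) ^ m).left η[A].left) :=
    IsFinite.of_isProper_of_locallyQuasiFinite _
  rw [Nat.card_congr (torsEquiv A m _), Nat.card_congr (torsEquiv A m _)]
  exact card_fracPoints_le_card_resPoints (pullback.snd ((𝟙 A : A ⟶ A) ^ m).left η[A].left)

end Groth.Agent.Helper7.TorsReg
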