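import Groth.Agent.Lib.Helper7.ThirdIsoA

/-!
# The fibration `G/H ⟶ G/H'` with fibre `H'/H`, abstractly (helper7)

For `H ⊆ H' ⊆ G` with quotients `q : G ⟶ X`, `q' : G ⟶ X'`, `r : H' ⟶ Y` by a class of covers
with descent of morphisms, the base change of `X ⟶ X'` along `q'` is the projection `G ⊗ Y ⟶ G`.
-/

set_option autoImplicit false
set_option linter.style.haveILetI false
set_option linter.unusedSectionVars false
universe v u

open CategoryTheory CategoryTheory.Limits MonoidalCategory CartesianMonoidalCategory MonObj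

namespace Groth.Agent.Helper7.ThirdIso

variable {C : Type u} [Category.{v} C] [CartesianMonoidalCategory C] [HasPullbacks C]

set_option maxHeartbeats 1600000 in
theorem tower {E : MorphismProperty C} (hE : CoverClass E)
    (hdesc : ∀ {X Y Z : C} (f : X ⟶ Y) (φ : X ⟶ Z), E f →
      (∀ {T : C} (a b : T ⟶ X), a ≫ f = b ≫ f → a ≫ φ = b ≫ φ) → ∃ φ' : Y ⟶ Z, f ≫ φ' = φ)
    {G H H' X X' Y : C} [GrpObj G] [GrpObj H']
    (i : H ⟶ G) (i' : H' ⟶ G) [IsMonHom i'] [Mono i'] (e : H ⟶ H') (he : e ≫ i' = i)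
    (q : G ⟶ X) (hEq : E q) (hq : IsPullback (fst G H) ((G ◁ i) ≫ μ[G]) q q)
    (q' : G ⟶ X') (hq' : IsPullback (fst G H') ((G ◁ i') ≫ μ[G]) q' q')
    (r : H' ⟶ Y) (hEr : E r) (hr : IsPullback (fst H' H) ((H' ◁ e) ≫ μ[H']) r r)
    (f : X ⟶ X') (hf : q ≫ f = q') :
    ∃ a : G ⊗ Y ⟶ X, IsPullback a (fst G Y) f q' ∧ (G ◁ r) ≫ a = (G ◁ i') ≫ μ[G] ≫ q := by
  let P := pullback f q'
  let π₁ : P ⟶ X := pullback.fst f q'
  let π₂ : P ⟶ G := pullback.snd f q'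
  have hP : IsPullback π₁ π₂ f q' := IsPullback.of_hasPullback _ _
  let m' : G ⊗ H' ⟶ G := (G ◁ i') ≫ μ[G]
  have hm'pt : ∀ {T : C} (w : T ⟶ G ⊗ H'),
      w ≫ m' = (w ≫ fst G H') * ((w ≫ snd G H') ≫ i') := by
    intro T w
    have := shear_pt' i' w
    simpa only [Category.assoc] using this
  have hX'w : fst G H' ≫ q' = m' ≫ q' := hq'.w
  let ρ : G ⊗ H' ⟶ P := pullback.lift (m' ≫ q) (fst G H') (by rw [Category.assoc, hf, hX'w])
  have hρ₁ : ρ ≫ π₁ = m' ≫ q := pullback.lift_fst _ _ _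
  have hρ₂ : ρ ≫ π₂ = fst G H' := pullback.lift_snd _ _ _
  have hsqρ : IsPullback ρ m' π₁ q := by
    have s : IsPullback m' (ρ ≫ π₂) (q ≫ f) q' := by
      rw [hρ₂, hf]; exact hq'.flip
    exact (IsPullback.of_bot s hρ₁.symm hP).flip
  haveI := hE.bc
  have hEρ : E ρ := E.of_isPullback hsqρ.flip hEq
  let c₁ : G ⊗ H' ⟶ G ⊗ Y := G ◁ r
  have hEc₁ : E c₁ := E_whiskerLeft hE G r hEr
  have hc₁f : c₁ ≫ fst G Y = fst G H' := whiskerLeft_fst _ _
  have hc₁s : c₁ ≫ snd G Y = snd G H' ≫ r := whiskerLeft_snd _ _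
  have hk : ∀ {T : C} (w : T ⟶ G ⊗ H'),
      (w ≫ ρ) ≫ π₁ = ((w ≫ fst G H') * ((w ≫ snd G H') ≫ i')) ≫ q := by
    intro T w
    rw [Category.assoc, hρ₁, ← hm'pt]
    exact (Category.assoc _ _ _).symm
  obtain ⟨d₁, hd₁⟩ := hdesc c₁ ρ hEc₁ (by
    intro T w₁ w₂ hw
    have e1 : w₁ ≫ fst G H' = w₂ ≫ fst G H' := by
      have := congrArg (fun f => f ≫ fst G Y) hw
      simpa only [Category.assoc, hc₁f] using this
    have e2 : (w₁ ≫ snd G H') ≫ r = (w₂ ≫ snd G H') ≫ r := by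
      have := congrArg (fun f => f ≫ snd G Y) hw
      simpa only [Category.assoc, hc₁s] using this
    obtain ⟨n, hn⟩ := quot_ex e r hr _ _ e2
    apply pullback.hom_ext
    · show (w₁ ≫ ρ) ≫ π₁ = (w₂ ≫ ρ) ≫ π₁
      have e4 : (w₂ ≫ snd G H') ≫ i' = ((w₁ ≫ snd G H') ≫ i') * (n ≫ i) := by
        rw [hn, MonObj.mul_comp, Category.assoc n, he]
      rw [hk w₁, hk w₂, ← e1, e4, ← _root_.mul_assoc, quot_comm i q hq]
    · show (w₁ ≫ ρ) ≫ π₂ = (w₂ ≫ ρ) ≫ π₂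
      rw [Category.assoc, Category.assoc, hρ₂, e1])
  obtain ⟨d₂, hd₂⟩ := hdesc ρ c₁ hEρ (by
    intro T w₁ w₂ hw
    have e1 : w₁ ≫ fst G H' = w₂ ≫ fst G H' := by
      have := congrArg (fun f => f ≫ π₂) hw
      simpa only [Category.assoc, hρ₂] using this
    have e2 : ((w₁ ≫ fst G H') * ((w₁ ≫ snd G H') ≫ i')) ≫ q =
        ((w₂ ≫ fst G H') * ((w₂ ≫ snd G H') ≫ i')) ≫ q := by
      rw [← hk w₁, ← hk w₂, hw]
    obtain ⟨n, hn⟩ := quot_ex i q hq _ _ e2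
    have e3 : w₂ ≫ snd G H' = (w₁ ≫ snd G H') * (n ≫ e) := by
      rw [← cancel_mono i', MonObj.mul_comp, Category.assoc n, he]
      rw [← e1, _root_.mul_assoc] at hn
      exact mul_left_cancel hn
    apply CartesianMonoidalCategory.hom_ext
    · rw [Category.assoc, Category.assoc, hc₁f, e1]
    · rw [Category.assoc, Category.assoc, hc₁s, ← Category.assoc, ← Category.assoc, e3,
        quot_comm e r hr])
  haveI : Epi c₁ := hE.epi c₁ hEc₁
  haveI : Epi ρ := hE.epi ρ hEρ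
  have h12 : d₁ ≫ d₂ = 𝟙 _ := by
    rw [← cancel_epi c₁, ← Category.assoc, hd₁, hd₂, Category.comp_id]
  have h21 : d₂ ≫ d₁ = 𝟙 _ := by
    rw [← cancel_epi ρ, ← Category.assoc, hd₂, hd₁, Category.comp_id]
  refine ⟨d₁ ≫ π₁, ?_, ?_⟩
  · refine IsPullback.of_iso_pullback ⟨?_⟩ ⟨d₁, d₂, h12, h21⟩ rfl ?_
    · rw [← cancel_epi c₁]
      simp only [← Category.assoc]
      rw [hd₁, hρ₁, hc₁f, Category.assoc, hf]
      exact hX'w.symm
    · show d₁ ≫ π₂ = fst G Y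
      rw [← cancel_epi c₁, ← Category.assoc, hd₁, hρ₂, hc₁f]
  · show c₁ ≫ d₁ ≫ π₁ = _
    rw [← Category.assoc, hd₁, hρ₁, Category.assoc]

end Groth.Agent.Helper7.ThirdIso
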