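import Groth.Agent.Lib.Helper22.TF1

/-!
# TwoBranch1: the two-branch ring `{(f, g) ∈ k[[X]]² | X^δ ∣ f - g}` (helper7)

* `tbA k δ` the subalgebra, `RA k δ` a type synonym carrying its ring structure;
* `hres`: every residue field is `k` (for `1 ≤ δ`);
* `J a e`: the submodule `{(x, y) | X^a ∣ y, X^e ∣ x - y}` (for `e ≤ a + δ`);
* `len_J`: `length (J a e / J a' e') = (a' - a) + (e' - e)`.
-/

open Classical

universe u

namespace Groth.Agent.Helper7.TwoBranch

open Groth.Agent.Helper22.TF

section Ring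

variable (k : Type u) [Field k] (δ : ℕ)

/-- The two-branch ring `{(f, g) | X^δ ∣ f - g}`. -/
def tbA : Subalgebra k (PowerSeries k × PowerSeries k) where
  carrier := {f | (PowerSeries.X : PowerSeries k) ^ δ ∣ f.1 - f.2}
  mul_mem' := by
    intro f g hf hg
    show (PowerSeries.X : PowerSeries k) ^ δ ∣ f.1 * g.1 - f.2 * g.2
    have : f.1 * g.1 - f.2 * g.2 = f.1 * (g.1 - g.2) + (f.1 - f.2) * g.2 := by ring
    rw [this]
    exact dvd_add (Dvd.dvd.mul_left hg _) (Dvd.dvd.mul_right hf _)
  one_mem' := by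
    show (PowerSeries.X : PowerSeries k) ^ δ ∣ (1 : PowerSeries k) - 1
    rw [sub_self]; exact dvd_zero _
  add_mem' := by
    intro f g hf hg
    show (PowerSeries.X : PowerSeries k) ^ δ ∣ (f.1 + g.1) - (f.2 + g.2)
    have : (f.1 + g.1) - (f.2 + g.2) = (f.1 - f.2) + (g.1 - g.2) := by ring
    rw [this]; exact dvd_add hf hg
  zero_mem' := by
    show (PowerSeries.X : PowerSeries k) ^ δ ∣ (0 : PowerSeries k) - 0
    rw [sub_self]; exact dvd_zero _
  algebraMap_mem' := by
    intro c
    show (PowerSeries.X : PowerSeries k) ^ δ ∣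
      (algebraMap k (PowerSeries k × PowerSeries k) c).1 -
        (algebraMap k (PowerSeries k × PowerSeries k) c).2
    rw [Prod.algebraMap_apply]
    show (PowerSeries.X : PowerSeries k) ^ δ ∣ algebraMap k (PowerSeries k) c -
      algebraMap k (PowerSeries k) c
    rw [sub_self]; exact dvd_zero _

theorem mem_tbA {f : PowerSeries k × PowerSeries k} :
    f ∈ tbA k δ ↔ (PowerSeries.X : PowerSeries k) ^ δ ∣ f.1 - f.2 := Iff.rfl

/-- Type synonym for the two-branch ring. -/
def RA : Type u := ↥(tbA k δ)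

noncomputable instance instCommRingRA : CommRing (RA k δ) :=
  inferInstanceAs (CommRing ↥(tbA k δ))

noncomputable instance instAlgebraRA : Algebra k (RA k δ) :=
  inferInstanceAs (Algebra k ↥(tbA k δ))

noncomputable instance instModuleRA : Module (RA k δ) (PowerSeries k × PowerSeries k) :=
  inferInstanceAs (Module ↥(tbA k δ) (PowerSeries k × PowerSeries k))

instance instTowerRA : IsScalarTower k (RA k δ) (PowerSeries k × PowerSeries k) :=
  inferInstanceAs (IsScalarTower k ↥(tbA k δ) (PowerSeries k × PowerSeries k))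

theorem val_mul (a b : RA k δ) : (a * b).1 = a.1 * b.1 := rfl
theorem val_add (a b : RA k δ) : (a + b).1 = a.1 + b.1 := rfl
theorem val_sub (a b : RA k δ) : (a - b).1 = a.1 - b.1 := rfl
theorem val_neg (a : RA k δ) : (-a).1 = -a.1 := rfl
theorem val_zero : (0 : RA k δ).1 = 0 := rfl
theorem val_one : (1 : RA k δ).1 = 1 := rfl
theorem smul_def (a : RA k δ) (x : PowerSeries k × PowerSeries k) : a • x = a.1 * x := rfl

theorem val_algebraMap (c : k) :
    (algebraMap k (RA k δ) c).1 = (PowerSeries.C c, PowerSeries.C c) := by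
  show ((algebraMap k ↥(tbA k δ) c : ↥(tbA k δ)) : PowerSeries k × PowerSeries k) = _
  rw [Subalgebra.coe_algebraMap, Prod.algebraMap_apply, PowerSeries.algebraMap_apply]
  rfl

/-- constructor for elements of `RA`. -/
noncomputable def mkRA (f : PowerSeries k × PowerSeries k) (hf : f ∈ tbA k δ) : RA k δ :=
  Subtype.mk f hf

theorem val_mkRA (f : PowerSeries k × PowerSeries k) (hf : f ∈ tbA k δ) :
    (mkRA k δ f hf).1 = f := rfl

theorem RA_dvd (a : RA k δ) : (PowerSeries.X : PowerSeries k) ^ δ ∣ a.1.1 - a.1.2 := a.2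

theorem inv_mem {f g : PowerSeries k} (hfg : (PowerSeries.X : PowerSeries k) ^ δ ∣ f - g)
    (hf : PowerSeries.constantCoeff f ≠ 0) (hg : PowerSeries.constantCoeff g ≠ 0) :
    (PowerSeries.X : PowerSeries k) ^ δ ∣ f⁻¹ - g⁻¹ := by
  have h1 : f * f⁻¹ = 1 := PowerSeries.mul_inv_cancel f hf
  have h2 : g * g⁻¹ = 1 := PowerSeries.mul_inv_cancel g hg
  have : f⁻¹ - g⁻¹ = (f - g) * (-(f⁻¹ * g⁻¹)) := by
    linear_combination (-(f⁻¹)) * h2 + g⁻¹ * h1
  rw [this]
  exact Dvd.dvd.mul_right hfg _

/-- every residue field of the two-branch ring is `k`. -/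
theorem hres (hδ : 1 ≤ δ) (I : Ideal (RA k δ)) (hI : I.IsMaximal) (a : RA k δ) :
    ∃ c : k, a - algebraMap k (RA k δ) c ∈ I := by
  refine ⟨PowerSeries.constantCoeff a.1.1, ?_⟩
  obtain ⟨b, hb⟩ : ∃ b, b = a - algebraMap k (RA k δ) (PowerSeries.constantCoeff a.1.1) :=
    ⟨_, rfl⟩
  rw [← hb]
  have hX : (PowerSeries.X : PowerSeries k) ∣ PowerSeries.X ^ δ := dvd_pow_self _ (by omega)
  have hb1 : PowerSeries.constantCoeff b.1.1 = 0 := by
    rw [hb, val_sub, val_algebraMap]
    show PowerSeries.constantCoeff (a.1.1 - PowerSeries.C _) = 0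
    rw [map_sub, PowerSeries.constantCoeff_C, sub_self]
  have hb2 : PowerSeries.constantCoeff b.1.2 = 0 := by
    have h := PowerSeries.X_dvd_iff.mp (dvd_trans hX (RA_dvd k δ b))
    rw [map_sub, hb1, zero_sub, neg_eq_zero] at h
    exact h
  by_contra hbI
  obtain ⟨y, i, hi, hyi⟩ := hI.exists_inv hbI
  have h : y.1 * b.1 + i.1 = 1 := by
    have := congrArg Subtype.val hyi
    rwa [val_add, val_mul, val_one] at this
  have hi1 : PowerSeries.constantCoeff i.1.1 = 1 := by
    have := congrArg (fun z => PowerSeries.constantCoeff z.1) h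
    simp only [Prod.fst_add, Prod.fst_mul, Prod.fst_one] at this
    rw [map_add, map_mul, hb1, mul_zero, zero_add, map_one] at this
    exact this
  have hi2 : PowerSeries.constantCoeff i.1.2 = 1 := by
    have := congrArg (fun z => PowerSeries.constantCoeff z.2) h
    simp only [Prod.snd_add, Prod.snd_mul, Prod.snd_one] at this
    rw [map_add, map_mul, hb2, mul_zero, zero_add, map_one] at this
    exact this
  have hne1 : PowerSeries.constantCoeff i.1.1 ≠ 0 := by rw [hi1]; exact one_ne_zero
  have hne2 : PowerSeries.constantCoeff i.1.2 ≠ 0 := by rw [hi2]; exact one_ne_zero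
  have hinv : ((i.1.1)⁻¹, (i.1.2)⁻¹) ∈ tbA k δ := inv_mem k δ (RA_dvd k δ i) hne1 hne2
  have h1 : mkRA k δ _ hinv * i = 1 := by
    apply Subtype.ext
    rw [val_mul, val_one, val_mkRA]
    apply Prod.ext
    · exact PowerSeries.inv_mul_cancel _ hne1
    · exact PowerSeries.inv_mul_cancel _ hne2
  have : (1 : RA k δ) ∈ I := by
    rw [← h1]
    exact I.mul_mem_left _ hi
  exact hI.ne_top ((Ideal.eq_top_iff_one I).mpr this)

end Ring

section JMod

variable (k : Type u) [Field k] (δ : ℕ)

/-- The submodule `{(x, y) | X^a ∣ y, X^e ∣ x - y}`. -/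
def J (a e : ℕ) (h : e ≤ a + δ) : Submodule (RA k δ) (PowerSeries k × PowerSeries k) where
  carrier := {z | (PowerSeries.X : PowerSeries k) ^ a ∣ z.2 ∧
    (PowerSeries.X : PowerSeries k) ^ e ∣ z.1 - z.2}
  add_mem' := by
    rintro y z ⟨hy1, hy2⟩ ⟨hz1, hz2⟩
    refine ⟨dvd_add hy1 hz1, ?_⟩
    show (PowerSeries.X : PowerSeries k) ^ e ∣ (y.1 + z.1) - (y.2 + z.2)
    have : (y.1 + z.1) - (y.2 + z.2) = (y.1 - y.2) + (z.1 - z.2) := by ring
    rw [this]
    exact dvd_add hy2 hz2
  zero_mem' := by
    refine ⟨dvd_zero _, ?_⟩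
    show (PowerSeries.X : PowerSeries k) ^ e ∣ (0 : PowerSeries k) - 0
    rw [sub_self]; exact dvd_zero _
  smul_mem' := by
    rintro c z ⟨h1, h2⟩
    refine ⟨Dvd.dvd.mul_left h1 _, ?_⟩
    show (PowerSeries.X : PowerSeries k) ^ e ∣ c.1.1 * z.1 - c.1.2 * z.2
    have : c.1.1 * z.1 - c.1.2 * z.2 = c.1.1 * (z.1 - z.2) + (c.1.1 - c.1.2) * z.2 := by ring
    rw [this]
    refine dvd_add (Dvd.dvd.mul_left h2 _) (dvd_trans (pow_dvd_pow _ h) ?_)
    rw [pow_add, mul_comm]
    exact mul_dvd_mul (RA_dvd k δ c) h1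

theorem mem_J {a e : ℕ} {h : e ≤ a + δ} {z : PowerSeries k × PowerSeries k} :
    z ∈ J k δ a e h ↔ (PowerSeries.X : PowerSeries k) ^ a ∣ z.2 ∧
      (PowerSeries.X : PowerSeries k) ^ e ∣ z.1 - z.2 := Iff.rfl

theorem J_le {a e a' e' : ℕ} (h : e ≤ a + δ) (h' : e' ≤ a' + δ) (ha : a ≤ a') (he : e ≤ e') :
    J k δ a' e' h' ≤ J k δ a e h := by
  rintro z ⟨h1, h2⟩
  exact ⟨dvd_trans (pow_dvd_pow _ ha) h1, dvd_trans (pow_dvd_pow _ he) h2⟩

/-- length of `J a e / J a' e'`. -/
theorem len_J (hδ : 1 ≤ δ) {a e a' e' : ℕ} (h : e ≤ a + δ) (h' : e' ≤ a' + δ) (ha : a ≤ a')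
    (he : e ≤ e') :
    Module.length (RA k δ) (↥(J k δ a e h) ⧸ (J k δ a' e' h').submoduleOf (J k δ a e h)) =
      (((a' - a) + (e' - e) : ℕ) : ℕ∞) := by
  let cc : ↥(J k δ a e h) →ₗ[k] ((Fin (a' - a) → k) × (Fin (e' - e) → k)) :=
    { toFun := fun z => (fun t => PowerSeries.coeff (a + (t : ℕ)) (z : PowerSeries k × PowerSeries k).2,
        fun t => PowerSeries.coeff (e + (t : ℕ))
          ((z : PowerSeries k × PowerSeries k).1 - (z : PowerSeries k × PowerSeries k).2))
      map_add' := fun y z => by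
        apply Prod.ext
        · funext t
          show PowerSeries.coeff (a + (t : ℕ)) ((y : PowerSeries k × PowerSeries k).2 +
            (z : PowerSeries k × PowerSeries k).2) = _
          rw [map_add]
          rfl
        · funext t
          show PowerSeries.coeff (e + (t : ℕ)) (((y : PowerSeries k × PowerSeries k).1 +
            (z : PowerSeries k × PowerSeries k).1) - ((y : PowerSeries k × PowerSeries k).2 +
            (z : PowerSeries k × PowerSeries k).2)) = _
          rw [add_sub_add_comm, map_add]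
          rfl
      map_smul' := fun r z => by
        apply Prod.ext
        · funext t
          show PowerSeries.coeff (a + (t : ℕ)) (r • (z : PowerSeries k × PowerSeries k).2) = _
          rw [map_smul]
          rfl
        · funext t
          show PowerSeries.coeff (e + (t : ℕ)) (r • (z : PowerSeries k × PowerSeries k).1 -
            r • (z : PowerSeries k × PowerSeries k).2) = _
          rw [← smul_sub, map_smul]
          rfl }
  have hcs : Function.Surjective cc := by
    rintro ⟨g, g'⟩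
    let y : PowerSeries k := PowerSeries.mk
      (fun l => if hl : a ≤ l ∧ l - a < a' - a then g ⟨l - a, hl.2⟩ else 0)
    let d : PowerSeries k := PowerSeries.mk
      (fun l => if hl : e ≤ l ∧ l - e < e' - e then g' ⟨l - e, hl.2⟩ else 0)
    have hy : (PowerSeries.X : PowerSeries k) ^ a ∣ y := by
      rw [PowerSeries.X_pow_dvd_iff]
      intro m hm
      rw [PowerSeries.coeff_mk, dif_neg (by omega)]
    have hd : (PowerSeries.X : PowerSeries k) ^ e ∣ d := by
      rw [PowerSeries.X_pow_dvd_iff]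
      intro m hm
      rw [PowerSeries.coeff_mk, dif_neg (by omega)]
    have hz : (y + d, y) ∈ J k δ a e h := by
      refine ⟨hy, ?_⟩
      show (PowerSeries.X : PowerSeries k) ^ e ∣ (y + d) - y
      rw [add_sub_cancel_left]
      exact hd
    refine ⟨⟨(y + d, y), hz⟩, ?_⟩
    apply Prod.ext
    · funext t
      show PowerSeries.coeff (a + (t : ℕ)) y = g t
      rw [PowerSeries.coeff_mk, dif_pos ⟨by omega, by have := t.2; omega⟩]
      congr 1
      apply Fin.ext
      show a + (t : ℕ) - a = t
      omega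
    · funext t
      show PowerSeries.coeff (e + (t : ℕ)) ((y + d) - y) = g' t
      rw [add_sub_cancel_left, PowerSeries.coeff_mk, dif_pos ⟨by omega, by have := t.2; omega⟩]
      congr 1
      apply Fin.ext
      show e + (t : ℕ) - e = t
      omega
  have hker : LinearMap.ker cc = ((J k δ a' e' h').submoduleOf (J k δ a e h)).restrictScalars k := by
    ext z
    rw [LinearMap.mem_ker, Submodule.restrictScalars_mem]
    show cc z = 0 ↔ (z : PowerSeries k × PowerSeries k) ∈ J k δ a' e' h'
    rw [mem_J, PowerSeries.X_pow_dvd_iff, PowerSeries.X_pow_dvd_iff]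
    obtain ⟨hz1, hz2⟩ := z.2
    rw [PowerSeries.X_pow_dvd_iff] at hz1 hz2
    constructor
    · intro hcz
      have h1 := congrArg Prod.fst hcz
      have h2 := congrArg Prod.snd hcz
      constructor
      · intro m hm
        by_cases hma : m < a
        · exact hz1 m hma
        · have := congrFun h1 ⟨m - a, by omega⟩
          have h3 : a + (m - a) = m := by omega
          simp only [cc, LinearMap.coe_mk, AddHom.coe_mk, Prod.fst_zero, Pi.zero_apply, h3] at this
          exact this
      · intro m hm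
        by_cases hme : m < e
        · exact hz2 m hme
        · have := congrFun h2 ⟨m - e, by omega⟩
          have h3 : e + (m - e) = m := by omega
          simp only [cc, LinearMap.coe_mk, AddHom.coe_mk, Prod.snd_zero, Pi.zero_apply, h3] at this
          exact this
    · rintro ⟨h1, h2⟩
      apply Prod.ext
      · funext t
        exact h1 _ (by have := t.2; omega)
      · funext t
        exact h2 _ (by have := t.2; omega)
  have eq : (↥(J k δ a e h) ⧸ (J k δ a' e' h').submoduleOf (J k δ a e h)) ≃ₗ[k]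
      ((Fin (a' - a) → k) × (Fin (e' - e) → k)) :=
    ((Submodule.Quotient.restrictScalarsEquiv k
      ((J k δ a' e' h').submoduleOf (J k δ a e h))).symm.trans
      (Submodule.quotEquivOfEq _ _ hker.symm)).trans (cc.quotKerEquivOfSurjective hcs)
  haveI : Module.Finite k (↥(J k δ a e h) ⧸ (J k δ a' e' h').submoduleOf (J k δ a e h)) :=
    Module.Finite.equiv eq.symm
  rw [length_eq_finrank' (hres k δ hδ)
    (↥(J k δ a e h) ⧸ (J k δ a' e' h').submoduleOf (J k δ a e h)), eq.finrank_eq,
    Module.finrank_prod, Module.finrank_fintype_fun_eq_card, Module.finrank_fintype_fun_eq_card,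
    Fintype.card_fin, Fintype.card_fin]

end JMod

end Groth.Agent.Helper7.TwoBranch
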