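import Groth.Agent.Lib.Helper7.TwoBranch1

/-!
# TwoBranch2: `Ext¹` between the rank-one modules of the `A_{2δ-1}` singularity (helper7)

`I_j = span {(X^j, X^j), (X^δ, 0)} = J j δ`, presentation `π : RA² → I_i`, and
`Hom(ker π, I_j) ≃ J (max i j) δ` via evaluation at the syzygy `((-X^δ, 0), (X^i, X^i))`;
restrictions of maps `RA² → I_j` correspond to `J (i + j) (δ + min i j)`.
-/

open Classical

universe u

namespace Groth.Agent.Helper7.TwoBranch

open Groth.Agent.Helper22.TF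

section Pres

variable (k : Type u) [Field k] (δ : ℕ) (i : ℕ)

/-- `(X^i, X^i)`. -/
noncomputable def uu : PowerSeries k × PowerSeries k :=
  ((PowerSeries.X : PowerSeries k) ^ i, (PowerSeries.X : PowerSeries k) ^ i)

/-- `(X^δ, 0)`. -/
noncomputable def ww : PowerSeries k × PowerSeries k :=
  ((PowerSeries.X : PowerSeries k) ^ δ, 0)

theorem uu_mem : uu k i ∈ tbA k δ := by
  show (PowerSeries.X : PowerSeries k) ^ δ ∣ (PowerSeries.X : PowerSeries k) ^ i - PowerSeries.X ^ i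
  rw [sub_self]; exact dvd_zero _

theorem uu_mul_cancel {y z : PowerSeries k × PowerSeries k} (h : uu k i * y = uu k i * z) :
    y = z := by
  have hX : (PowerSeries.X : PowerSeries k) ^ i ≠ 0 := pow_ne_zero i PowerSeries.X_ne_zero
  apply Prod.ext
  · exact mul_left_cancel₀ hX (congrArg Prod.fst h)
  · exact mul_left_cancel₀ hX (congrArg Prod.snd h)

/-- `(X^i, X^i)` as a ring element. -/
noncomputable def uA : RA k δ := mkRA k δ (uu k i) (uu_mem k δ i)

/-- the presentation `RA² → k[[X]]²`, `(a, b) ↦ a (X^i, X^i) + b (X^δ, 0)`. -/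
noncomputable def π : (RA k δ × RA k δ) →ₗ[RA k δ] (PowerSeries k × PowerSeries k) :=
  (LinearMap.toSpanSingleton (RA k δ) (PowerSeries k × PowerSeries k) (uu k i)).coprod
    (LinearMap.toSpanSingleton (RA k δ) (PowerSeries k × PowerSeries k) (ww k δ))

theorem π_apply (v : RA k δ × RA k δ) :
    π k δ i v = (v.1.1.1 * PowerSeries.X ^ i + v.2.1.1 * PowerSeries.X ^ δ,
      v.1.1.2 * PowerSeries.X ^ i) := by
  rw [π, LinearMap.coprod_apply, LinearMap.toSpanSingleton_apply,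
    LinearMap.toSpanSingleton_apply, smul_def, smul_def]
  apply Prod.ext
  · rfl
  · show v.1.1.2 * PowerSeries.X ^ i + v.2.1.2 * 0 = v.1.1.2 * PowerSeries.X ^ i
    rw [mul_zero, add_zero]

theorem range_π : LinearMap.range (π k δ i) =
    Submodule.span (RA k δ) ({uu k i, ww k δ} : Set (PowerSeries k × PowerSeries k)) := by
  ext z
  rw [LinearMap.mem_range, Submodule.mem_span_pair]
  constructor
  · rintro ⟨v, hv⟩
    refine ⟨v.1, v.2, ?_⟩
    rw [← hv, π, LinearMap.coprod_apply, LinearMap.toSpanSingleton_apply,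
      LinearMap.toSpanSingleton_apply]
  · rintro ⟨a, b, hab⟩
    refine ⟨(a, b), ?_⟩
    rw [← hab, π, LinearMap.coprod_apply, LinearMap.toSpanSingleton_apply,
      LinearMap.toSpanSingleton_apply]

/-- `span {(X^i, X^i), (X^δ, 0)} = J i δ`. -/
theorem range_π_eq (_hi : i ≤ δ) : LinearMap.range (π k δ i) = J k δ i δ (by omega) := by
  ext z
  rw [LinearMap.mem_range, mem_J]
  constructor
  · rintro ⟨v, rfl⟩
    rw [π_apply]
    refine ⟨Dvd.intro_left _ rfl, ?_⟩
    show (PowerSeries.X : PowerSeries k) ^ δ ∣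
      v.1.1.1 * PowerSeries.X ^ i + v.2.1.1 * PowerSeries.X ^ δ - v.1.1.2 * PowerSeries.X ^ i
    have : v.1.1.1 * PowerSeries.X ^ i + v.2.1.1 * PowerSeries.X ^ δ -
        v.1.1.2 * PowerSeries.X ^ i =
        (v.1.1.1 - v.1.1.2) * PowerSeries.X ^ i + v.2.1.1 * PowerSeries.X ^ δ := by ring
    rw [this]
    exact dvd_add (Dvd.dvd.mul_right (RA_dvd k δ v.1) _) (Dvd.intro_left _ rfl)
  · rintro ⟨⟨y', hy'⟩, ⟨q, hq⟩⟩
    have ha : (y', y') ∈ tbA k δ := by
      show (PowerSeries.X : PowerSeries k) ^ δ ∣ y' - y'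
      rw [sub_self]; exact dvd_zero _
    have hb : (q, q) ∈ tbA k δ := by
      show (PowerSeries.X : PowerSeries k) ^ δ ∣ q - q
      rw [sub_self]; exact dvd_zero _
    refine ⟨(mkRA k δ _ ha, mkRA k δ _ hb), ?_⟩
    rw [π_apply]
    apply Prod.ext
    · show y' * PowerSeries.X ^ i + q * PowerSeries.X ^ δ = z.1
      have : z.1 = z.2 + (z.1 - z.2) := by ring
      rw [this, hq, hy']
      ring
    · show y' * PowerSeries.X ^ i = z.2
      rw [hy']
      ring

/-- the basic syzygy `((-X^δ, 0), (X^i, X^i))`. -/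
noncomputable def kap : RA k δ × RA k δ :=
  (mkRA k δ (-(PowerSeries.X : PowerSeries k) ^ δ, 0) (by
    show (PowerSeries.X : PowerSeries k) ^ δ ∣ -(PowerSeries.X : PowerSeries k) ^ δ - 0
    rw [sub_zero]; exact (dvd_neg).mpr dvd_rfl), uA k δ i)

theorem π_kap : π k δ i (kap k δ i) = 0 := by
  rw [π_apply]
  apply Prod.ext
  · show -(PowerSeries.X : PowerSeries k) ^ δ * PowerSeries.X ^ i +
      PowerSeries.X ^ i * PowerSeries.X ^ δ = 0
    ring
  · show (0 : PowerSeries k) * PowerSeries.X ^ i = 0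
    rw [zero_mul]

/-- the second syzygy `((0, 0), (0, X^δ))`. -/
noncomputable def kap' : RA k δ × RA k δ :=
  (0, mkRA k δ (0, (PowerSeries.X : PowerSeries k) ^ δ) (by
    show (PowerSeries.X : PowerSeries k) ^ δ ∣ 0 - (PowerSeries.X : PowerSeries k) ^ δ
    rw [zero_sub]; exact (dvd_neg).mpr dvd_rfl))

theorem π_kap' : π k δ i (kap' k δ) = 0 := by
  rw [π_apply]
  apply Prod.ext
  · show (0 : PowerSeries k) * PowerSeries.X ^ i + 0 * PowerSeries.X ^ δ = 0
    ring
  · show (0 : PowerSeries k) * PowerSeries.X ^ i = 0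
    rw [zero_mul]

/-- `kap` in the kernel. -/
noncomputable def kapK : ↥(LinearMap.ker (π k δ i)) :=
  ⟨kap k δ i, LinearMap.mem_ker.mpr (π_kap k δ i)⟩

/-- `kap'` in the kernel. -/
noncomputable def kapK' : ↥(LinearMap.ker (π k δ i)) :=
  ⟨kap' k δ, LinearMap.mem_ker.mpr (π_kap' k δ i)⟩

theorem ker_fst {v : RA k δ × RA k δ} (hv : π k δ i v = 0) :
    v.1.1.2 = 0 ∧ v.1.1.1 * PowerSeries.X ^ i = -(v.2.1.1 * PowerSeries.X ^ δ) := by
  rw [π_apply] at hv
  have h1 := congrArg Prod.fst hv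
  have h2 := congrArg Prod.snd hv
  simp only [Prod.fst_zero, Prod.snd_zero] at h1 h2
  refine ⟨?_, eq_neg_of_add_eq_zero_left h1⟩
  rcases mul_eq_zero.mp h2 with h | h
  · exact h
  · exact absurd h (pow_ne_zero i PowerSeries.X_ne_zero)

theorem smul_eq_kap {v : RA k δ × RA k δ} (hv : π k δ i v = 0) :
    uA k δ i • v = v.2 • kap k δ i := by
  obtain ⟨h2, h1⟩ := ker_fst k δ i hv
  apply Prod.ext
  · apply Subtype.ext
    apply Prod.ext
    · show (PowerSeries.X : PowerSeries k) ^ i * v.1.1.1 = v.2.1.1 * (-(PowerSeries.X : PowerSeries k) ^ δ)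
      rw [mul_comm, h1]
      ring
    · show (PowerSeries.X : PowerSeries k) ^ i * v.1.1.2 = v.2.1.2 * 0
      rw [h2, mul_zero, mul_zero]
  · exact mul_comm _ _

/-- for a syzygy `(a, b)`, `X^i ∣ b₁`. -/
theorem ker_snd_dvd {v : RA k δ × RA k δ} (hv : π k δ i v = 0) :
    (PowerSeries.X : PowerSeries k) ^ i ∣ v.2.1.1 := by
  obtain ⟨h2, h1⟩ := ker_fst k δ i hv
  obtain ⟨a', ha'⟩ : (PowerSeries.X : PowerSeries k) ^ δ ∣ v.1.1.1 := by
    have := RA_dvd k δ v.1
    rwa [h2, sub_zero] at this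
  refine ⟨-a', ?_⟩
  have hX : (PowerSeries.X : PowerSeries k) ^ δ ≠ 0 := pow_ne_zero δ PowerSeries.X_ne_zero
  apply mul_left_cancel₀ hX
  rw [ha'] at h1
  linear_combination h1

variable (N : Submodule (RA k δ) (PowerSeries k × PowerSeries k))

theorem psi_formula (ψ : ↥(LinearMap.ker (π k δ i)) →ₗ[RA k δ] ↥N)
    (v : ↥(LinearMap.ker (π k δ i))) :
    uu k i * ((ψ v : ↥N) : PowerSeries k × PowerSeries k) =
      v.1.2.1 * ((ψ (kapK k δ i) : ↥N) : PowerSeries k × PowerSeries k) := by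
  have hv : π k δ i v.1 = 0 := LinearMap.mem_ker.mp v.2
  have hK : uA k δ i • v = v.1.2 • kapK k δ i := Subtype.ext (smul_eq_kap k δ i hv)
  have h1 := congrArg (fun w => ((ψ w : ↥N) : PowerSeries k × PowerSeries k)) hK
  simp only [map_smul, Submodule.coe_smul, smul_def] at h1
  exact h1

end Pres

section Theta

variable (k : Type u) [Field k] (δ : ℕ) (i j : ℕ)

/-- the target module `I_j = J j δ`. -/
abbrev NN : Submodule (RA k δ) (PowerSeries k × PowerSeries k) :=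
  J k δ j δ (Nat.le_add_left δ j)

/-- `Hom(ker π, I_j)` as a submodule: `J (max i j) δ`. -/
abbrev TT : Submodule (RA k δ) (PowerSeries k × PowerSeries k) :=
  J k δ (max i j) δ (Nat.le_add_left δ _)

/-- the image of the restrictions: `J (i + j) (δ + min i j)`. -/
abbrev PP : Submodule (RA k δ) (PowerSeries k × PowerSeries k) :=
  J k δ (i + j) (δ + min i j) (by omega)

theorem kapK'_val : (kapK' k δ i).1.2.1 = (0, (PowerSeries.X : PowerSeries k) ^ δ) := rfl

theorem kapK_val : (kapK k δ i).1.2.1 = uu k i := rfl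

theorem theta_mem (ψ : ↥(LinearMap.ker (π k δ i)) →ₗ[RA k δ] ↥(NN k δ j)) :
    ((ψ (kapK k δ i) : ↥(NN k δ j)) : PowerSeries k × PowerSeries k) ∈ TT k δ i j := by
  obtain ⟨hy1, hy2⟩ := (ψ (kapK k δ i)).2
  have hf := psi_formula k δ i _ ψ (kapK' k δ i)
  obtain ⟨-, hz2⟩ := (ψ (kapK' k δ i)).2
  rw [kapK'_val] at hf
  obtain ⟨y, hy⟩ : ∃ y, y = ((ψ (kapK k δ i) : ↥(NN k δ j)) : PowerSeries k × PowerSeries k) :=
    ⟨_, rfl⟩
  obtain ⟨z, hz⟩ : ∃ z, z = ((ψ (kapK' k δ i) : ↥(NN k δ j)) : PowerSeries k × PowerSeries k) :=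
    ⟨_, rfl⟩
  rw [← hy] at hy1 hy2 hf ⊢
  rw [← hz] at hz2 hf
  have hXi : (PowerSeries.X : PowerSeries k) ^ i ≠ 0 := pow_ne_zero i PowerSeries.X_ne_zero
  have hXδ : (PowerSeries.X : PowerSeries k) ^ δ ≠ 0 := pow_ne_zero δ PowerSeries.X_ne_zero
  have h1 : (PowerSeries.X : PowerSeries k) ^ i * z.1 = 0 * y.1 := congrArg Prod.fst hf
  have h2 : (PowerSeries.X : PowerSeries k) ^ i * z.2 = PowerSeries.X ^ δ * y.2 :=
    congrArg Prod.snd hf
  rw [zero_mul] at h1
  have hz1 : z.1 = 0 := by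
    rcases mul_eq_zero.mp h1 with h | h
    · exact absurd h hXi
    · exact h
  rw [hz1, zero_sub, dvd_neg] at hz2
  obtain ⟨q, hq⟩ := hz2
  have hy3 : (PowerSeries.X : PowerSeries k) ^ i ∣ y.2 := by
    refine ⟨q, ?_⟩
    apply mul_left_cancel₀ hXδ
    rw [← h2, hq]
    ring
  refine ⟨?_, hy2⟩
  rcases le_total i j with h | h
  · rw [max_eq_right h]; exact hy1
  · rw [max_eq_left h]; exact hy3

/-- `ψ ↦ ψ(κ)`. -/
noncomputable def Theta : (↥(LinearMap.ker (π k δ i)) →ₗ[RA k δ] ↥(NN k δ j)) →ₗ[RA k δ]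
    ↥(TT k δ i j) where
  toFun ψ := ⟨((ψ (kapK k δ i) : ↥(NN k δ j)) : PowerSeries k × PowerSeries k),
    theta_mem k δ i j ψ⟩
  map_add' ψ₁ ψ₂ := by
    apply Subtype.ext
    rfl
  map_smul' a ψ := by
    apply Subtype.ext
    rfl

theorem Theta_val (ψ : ↥(LinearMap.ker (π k δ i)) →ₗ[RA k δ] ↥(NN k δ j)) :
    ((Theta k δ i j ψ : ↥(TT k δ i j)) : PowerSeries k × PowerSeries k) =
      ((ψ (kapK k δ i) : ↥(NN k δ j)) : PowerSeries k × PowerSeries k) := rfl

theorem Theta_injective : Function.Injective (Theta k δ i j) := by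
  intro ψ₁ ψ₂ h
  apply LinearMap.ext
  intro v
  apply Subtype.ext
  apply uu_mul_cancel k i
  rw [psi_formula k δ i _ ψ₁ v, psi_formula k δ i _ ψ₂ v,
    ← Theta_val k δ i j ψ₁, ← Theta_val k δ i j ψ₂, h]

/-- the homomorphism `v ↦ v₂ * y'`. -/
noncomputable def psiOf (N : Submodule (RA k δ) (PowerSeries k × PowerSeries k))
    (y' : PowerSeries k × PowerSeries k)
    (hy' : ∀ v : RA k δ × RA k δ, π k δ i v = 0 → v.2.1 * y' ∈ N) :
    ↥(LinearMap.ker (π k δ i)) →ₗ[RA k δ] ↥N where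
  toFun v := ⟨v.1.2.1 * y', hy' v.1 (LinearMap.mem_ker.mp v.2)⟩
  map_add' v w := by
    apply Subtype.ext
    show (v.1.2.1 + w.1.2.1) * y' = v.1.2.1 * y' + w.1.2.1 * y'
    rw [add_mul]
  map_smul' a v := by
    apply Subtype.ext
    show (a.1 * v.1.2.1) * y' = a.1 * (v.1.2.1 * y')
    rw [mul_assoc]

theorem Theta_surjective (hi : i ≤ δ) : Function.Surjective (Theta k δ i j) := by
  rintro ⟨y, hyM, hyδ⟩
  have hXi : (PowerSeries.X : PowerSeries k) ^ i ≠ 0 := pow_ne_zero i PowerSeries.X_ne_zero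
  have hy2 : (PowerSeries.X : PowerSeries k) ^ i ∣ y.2 :=
    dvd_trans (pow_dvd_pow _ (le_max_left i j)) hyM
  have hy1 : (PowerSeries.X : PowerSeries k) ^ i ∣ y.1 := by
    have : y.1 = y.2 + (y.1 - y.2) := by ring
    rw [this]
    exact dvd_add hy2 (dvd_trans (pow_dvd_pow _ hi) hyδ)
  obtain ⟨y₁, hy₁⟩ := hy1
  obtain ⟨y₂, hy₂⟩ := hy2
  have hM : (PowerSeries.X : PowerSeries k) ^ (max i j - i) ∣ y₂ := by
    have h1 : (PowerSeries.X : PowerSeries k) ^ max i j =
        PowerSeries.X ^ i * PowerSeries.X ^ (max i j - i) := by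
      rw [← pow_add]; congr 1; have := le_max_left i j; omega
    rw [hy₂, h1] at hyM
    exact (mul_dvd_mul_iff_left hXi).mp hyM
  have hD : (PowerSeries.X : PowerSeries k) ^ (δ - i) ∣ y₁ - y₂ := by
    have h1 : (PowerSeries.X : PowerSeries k) ^ δ =
        PowerSeries.X ^ i * PowerSeries.X ^ (δ - i) := by
      rw [← pow_add]; congr 1; omega
    rw [hy₁, hy₂, ← mul_sub, h1] at hyδ
    exact (mul_dvd_mul_iff_left hXi).mp hyδ
  have hmem : ∀ v : RA k δ × RA k δ, π k δ i v = 0 → v.2.1 * (y₁, y₂) ∈ NN k δ j := by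
    intro v hv
    have hb1 := ker_snd_dvd k δ i hv
    have hbδ := RA_dvd k δ v.2
    have hb2 : (PowerSeries.X : PowerSeries k) ^ i ∣ v.2.1.2 := by
      have : v.2.1.2 = v.2.1.1 - (v.2.1.1 - v.2.1.2) := by ring
      rw [this]
      exact dvd_sub hb1 (dvd_trans (pow_dvd_pow _ hi) hbδ)
    constructor
    · show (PowerSeries.X : PowerSeries k) ^ j ∣ v.2.1.2 * y₂
      have h1 : (PowerSeries.X : PowerSeries k) ^ (i + (max i j - i)) ∣ v.2.1.2 * y₂ := by
        rw [pow_add]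
        exact mul_dvd_mul hb2 hM
      refine dvd_trans (pow_dvd_pow _ ?_) h1
      have := le_max_right i j
      omega
    · show (PowerSeries.X : PowerSeries k) ^ δ ∣ v.2.1.1 * y₁ - v.2.1.2 * y₂
      have h1 : v.2.1.1 * y₁ - v.2.1.2 * y₂ =
          v.2.1.1 * (y₁ - y₂) + (v.2.1.1 - v.2.1.2) * y₂ := by ring
      rw [h1]
      refine dvd_add ?_ (Dvd.dvd.mul_right hbδ _)
      have h2 : (PowerSeries.X : PowerSeries k) ^ δ =
          PowerSeries.X ^ i * PowerSeries.X ^ (δ - i) := by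
        rw [← pow_add]; congr 1; omega
      rw [h2]
      exact mul_dvd_mul hb1 hD
  refine ⟨psiOf k δ i (NN k δ j) (y₁, y₂) hmem, ?_⟩
  apply Subtype.ext
  show uu k i * (y₁, y₂) = y
  apply Prod.ext
  · exact hy₁.symm
  · exact hy₂.symm

theorem Theta_res (g : (RA k δ × RA k δ) →ₗ[RA k δ] ↥(NN k δ j)) :
    ((Theta k δ i j (g.comp (LinearMap.ker (π k δ i)).subtype) : ↥(TT k δ i j)) :
        PowerSeries k × PowerSeries k) =
      (-(PowerSeries.X : PowerSeries k) ^ δ, 0) *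
          ((g (1, 0) : ↥(NN k δ j)) : PowerSeries k × PowerSeries k) +
        uu k i * ((g (0, 1) : ↥(NN k δ j)) : PowerSeries k × PowerSeries k) := by
  show ((g (kap k δ i) : ↥(NN k δ j)) : PowerSeries k × PowerSeries k) = _
  have h1 : kap k δ i = (kap k δ i).1 • ((1, 0) : RA k δ × RA k δ) +
      uA k δ i • ((0, 1) : RA k δ × RA k δ) := by
    apply Prod.ext
    · show _ = _ * (1 : RA k δ) + _ * (0 : RA k δ)
      rw [mul_one, mul_zero, add_zero]
    · show _ = _ * (0 : RA k δ) + _ * (1 : RA k δ)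
      rw [mul_one, mul_zero, zero_add]
      rfl
  rw [h1, map_add, map_smul, map_smul, Submodule.coe_add, Submodule.coe_smul,
    Submodule.coe_smul, smul_def, smul_def]
  rfl

theorem res_mem (hj : j ≤ δ) {z z' : PowerSeries k × PowerSeries k} (hz : z ∈ NN k δ j)
    (hz' : z' ∈ NN k δ j) :
    (-(PowerSeries.X : PowerSeries k) ^ δ, 0) * z + uu k i * z' ∈ PP k δ i j := by
  obtain ⟨hz1, hz2⟩ := hz
  obtain ⟨hz'1, hz'2⟩ := hz'
  constructor
  · show (PowerSeries.X : PowerSeries k) ^ (i + j) ∣ 0 * z.2 + PowerSeries.X ^ i * z'.2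
    rw [zero_mul, zero_add, pow_add]
    exact mul_dvd_mul_left _ hz'1
  · show (PowerSeries.X : PowerSeries k) ^ (δ + min i j) ∣
      (-(PowerSeries.X : PowerSeries k) ^ δ * z.1 + PowerSeries.X ^ i * z'.1) -
        (0 * z.2 + PowerSeries.X ^ i * z'.2)
    have h1 : (-(PowerSeries.X : PowerSeries k) ^ δ * z.1 + PowerSeries.X ^ i * z'.1) -
        (0 * z.2 + PowerSeries.X ^ i * z'.2) =
        -(PowerSeries.X ^ δ * z.1) + PowerSeries.X ^ i * (z'.1 - z'.2) := by ring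
    rw [h1]
    have hz3 : (PowerSeries.X : PowerSeries k) ^ j ∣ z.1 := by
      have : z.1 = z.2 + (z.1 - z.2) := by ring
      rw [this]
      exact dvd_add hz1 (dvd_trans (pow_dvd_pow _ hj) hz2)
    refine dvd_add ((dvd_neg).mpr ?_) ?_
    · refine dvd_trans (pow_dvd_pow _ (show δ + min i j ≤ δ + j by omega)) ?_
      rw [pow_add]
      exact mul_dvd_mul_left _ hz3
    · refine dvd_trans (pow_dvd_pow _ (show δ + min i j ≤ i + δ by omega)) ?_
      rw [pow_add]
      exact mul_dvd_mul_left _ hz'2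

theorem exists_res {y : PowerSeries k × PowerSeries k} (hy : y ∈ PP k δ i j) :
    ∃ z ∈ NN k δ j, ∃ z' ∈ NN k δ j,
      (-(PowerSeries.X : PowerSeries k) ^ δ, 0) * z + uu k i * z' = y := by
  obtain ⟨⟨q₂, hq₂⟩, hyd⟩ := hy
  rcases le_total i j with h | h
  · rw [min_eq_left h] at hyd
    obtain ⟨q, hq⟩ := hyd
    refine ⟨0, Submodule.zero_mem _, (PowerSeries.X ^ j * q₂ + PowerSeries.X ^ δ * q,
      PowerSeries.X ^ j * q₂), ⟨Dvd.intro _ rfl, ?_⟩, ?_⟩
    · show (PowerSeries.X : PowerSeries k) ^ δ ∣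
        (PowerSeries.X ^ j * q₂ + PowerSeries.X ^ δ * q) - PowerSeries.X ^ j * q₂
      rw [add_sub_cancel_left]
      exact Dvd.intro _ rfl
    · rw [mul_zero, zero_add]
      apply Prod.ext
      · show (PowerSeries.X : PowerSeries k) ^ i *
          (PowerSeries.X ^ j * q₂ + PowerSeries.X ^ δ * q) = y.1
        have : y.1 = y.2 + (y.1 - y.2) := by ring
        rw [this, hq, hq₂]
        ring
      · show (PowerSeries.X : PowerSeries k) ^ i * (PowerSeries.X ^ j * q₂) = y.2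
        rw [hq₂]
        ring
  · rw [min_eq_right h] at hyd
    obtain ⟨q, hq⟩ := hyd
    refine ⟨(-(PowerSeries.X ^ j * q), -(PowerSeries.X ^ j * q)), ⟨?_, ?_⟩,
      (PowerSeries.X ^ j * q₂, PowerSeries.X ^ j * q₂), ⟨Dvd.intro _ rfl, ?_⟩, ?_⟩
    · exact (dvd_neg).mpr (Dvd.intro _ rfl)
    · show (PowerSeries.X : PowerSeries k) ^ δ ∣
        -(PowerSeries.X ^ j * q) - -(PowerSeries.X ^ j * q)
      rw [sub_self]; exact dvd_zero _
    · show (PowerSeries.X : PowerSeries k) ^ δ ∣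
        PowerSeries.X ^ j * q₂ - PowerSeries.X ^ j * q₂
      rw [sub_self]; exact dvd_zero _
    · apply Prod.ext
      · show -(PowerSeries.X : PowerSeries k) ^ δ * -(PowerSeries.X ^ j * q) +
          PowerSeries.X ^ i * (PowerSeries.X ^ j * q₂) = y.1
        have : y.1 = y.2 + (y.1 - y.2) := by ring
        rw [this, hq, hq₂]
        ring
      · show (0 : PowerSeries k) * -(PowerSeries.X ^ j * q) +
          PowerSeries.X ^ i * (PowerSeries.X ^ j * q₂) = y.2
        rw [hq₂]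
        ring

theorem Theta_mem_iff (hj : j ≤ δ) (ψ : ↥(LinearMap.ker (π k δ i)) →ₗ[RA k δ] ↥(NN k δ j)) :
    Theta k δ i j ψ ∈ (PP k δ i j).submoduleOf (TT k δ i j) ↔
    ψ ∈ LinearMap.range
      (LinearMap.lcomp (RA k δ) ↥(NN k δ j) (LinearMap.ker (π k δ i)).subtype) := by
  constructor
  · intro hψ
    have hψ' : ((Theta k δ i j ψ : ↥(TT k δ i j)) : PowerSeries k × PowerSeries k) ∈
        PP k δ i j := hψ
    obtain ⟨z, hz, z', hz', hzz⟩ := exists_res k δ i j hψ'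
    refine ⟨(LinearMap.toSpanSingleton (RA k δ) ↥(NN k δ j) ⟨z, hz⟩).coprod
      (LinearMap.toSpanSingleton (RA k δ) ↥(NN k δ j) ⟨z', hz'⟩), ?_⟩
    rw [LinearMap.lcomp_apply']
    apply Theta_injective k δ i j
    apply Subtype.ext
    rw [Theta_res, ← hzz]
    congr 2
    · show ((((LinearMap.toSpanSingleton (RA k δ) ↥(NN k δ j) ⟨z, hz⟩).coprod
        (LinearMap.toSpanSingleton (RA k δ) ↥(NN k δ j) ⟨z', hz'⟩)) (1, 0) : ↥(NN k δ j)) :
          PowerSeries k × PowerSeries k) = z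
      rw [LinearMap.coprod_apply, LinearMap.toSpanSingleton_apply,
        LinearMap.toSpanSingleton_apply, one_smul, zero_smul, add_zero]
    · show ((((LinearMap.toSpanSingleton (RA k δ) ↥(NN k δ j) ⟨z, hz⟩).coprod
        (LinearMap.toSpanSingleton (RA k δ) ↥(NN k δ j) ⟨z', hz'⟩)) (0, 1) : ↥(NN k δ j)) :
          PowerSeries k × PowerSeries k) = z'
      rw [LinearMap.coprod_apply, LinearMap.toSpanSingleton_apply,
        LinearMap.toSpanSingleton_apply, one_smul, zero_smul, zero_add]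
  · rintro ⟨g, rfl⟩
    show ((Theta k δ i j _ : ↥(TT k δ i j)) : PowerSeries k × PowerSeries k) ∈ PP k δ i j
    rw [LinearMap.lcomp_apply', Theta_res]
    exact res_mem k δ i j hj (g (1, 0)).2 (g (0, 1)).2

end Theta

end Groth.Agent.Helper7.TwoBranch
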