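import Groth.Agent.Lib.Helper7.TwoBranch2

/-!
# TwoBranch3: `length Ext¹(I_i, I_j) = 2 min i j` for the `A_{2δ-1}` singularity (helper7)
-/

open Classical CategoryTheory

universe u

namespace Groth.Agent.Helper7.TwoBranch

open Groth.Agent.Helper22.TF

section Final

variable (k : Type u) [Field k] (δ : ℕ) (i j : ℕ)

theorem ext_len (hδ : 1 ≤ δ) (hi : i ≤ δ) (hj : j ≤ δ) :
    Module.length (RA k δ) (Abelian.Ext.{u}
        (ModuleCat.of (RA k δ) ↥(LinearMap.range (π k δ i)))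
        (ModuleCat.of (RA k δ) ↥(NN k δ j)) 1) = ((2 * min i j : ℕ) : ℕ∞) := by
  have h1 := length_ext_one (N := ↥(NN k δ j)) (π k δ i).rangeRestrict
    (LinearMap.surjective_rangeRestrict _)
  rw [LinearMap.ker_rangeRestrict] at h1
  obtain ⟨Φ, hΦdef⟩ : ∃ Φ : (↥(LinearMap.ker (π k δ i)) →ₗ[RA k δ] ↥(NN k δ j)) →ₗ[RA k δ]
      (↥(TT k δ i j) ⧸ (PP k δ i j).submoduleOf (TT k δ i j)),
      Φ = ((PP k δ i j).submoduleOf (TT k δ i j)).mkQ.comp (Theta k δ i j) :=
    ⟨_, rfl⟩
  have hΦ : Function.Surjective Φ := by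
    rw [hΦdef]
    exact (Submodule.mkQ_surjective _).comp (Theta_surjective k δ i j hi)
  have hker : LinearMap.ker Φ = LinearMap.range
      (LinearMap.lcomp (RA k δ) ↥(NN k δ j) (LinearMap.ker (π k δ i)).subtype) := by
    ext ψ
    rw [hΦdef, LinearMap.mem_ker, LinearMap.comp_apply, Submodule.mkQ_apply,
      Submodule.Quotient.mk_eq_zero]
    exact Theta_mem_iff k δ i j hj ψ
  have e2 := @LinearMap.quotKerEquivOfSurjective (RA k δ)
    (↥(LinearMap.ker (π k δ i)) →ₗ[RA k δ] ↥(NN k δ j))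
    (↥(TT k δ i j) ⧸ (PP k δ i j).submoduleOf (TT k δ i j)) _ _ _ _ _ Φ hΦ
  have h2 := ((Submodule.quotEquivOfEq _ _ hker.symm).trans e2).length_eq
  rw [h1, h2]
  have h3 := len_J k δ hδ (a := max i j) (e := δ) (a' := i + j) (e' := δ + min i j)
    (Nat.le_add_left δ _) (by omega) (by omega) (by omega)
  rw [h3]
  congr 1
  omega

/-- the `RA`-form of S19532. -/
theorem key (hδ : 1 ≤ δ) (hi : i ≤ δ) (hj : j ≤ δ) :
    Module.length (RA k δ) (Abelian.Ext.{u}
        (ModuleCat.of (RA k δ) ↥(Submodule.span (RA k δ)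
          ({uu k i, ww k δ} : Set (PowerSeries k × PowerSeries k))))
        (ModuleCat.of (RA k δ) ↥(Submodule.span (RA k δ)
          ({uu k j, ww k δ} : Set (PowerSeries k × PowerSeries k)))) 1) =
      ((2 * min i j : ℕ) : ℕ∞) := by
  rw [← range_π, ← range_π, range_π_eq k δ j hj]
  exact ext_len k δ i j hδ hi hj

end Final

/-- S19532 in subalgebra form. -/
theorem s19532 (k : Type u) [Field k] (δ : ℕ) (hδ : 1 ≤ δ)
    (O : Subalgebra k (PowerSeries k × PowerSeries k))
    (hO : ∀ f : (PowerSeries k × PowerSeries k), f ∈ O ↔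
      (δ : ℕ∞) ≤ PowerSeries.order (f.1 - f.2)) (i j : ℕ) (hi : i ≤ δ) (hj : j ≤ δ) :
    Module.length ↥O (Abelian.Ext (ModuleCat.of ↥O ↥(Submodule.span ↥O
      ({((PowerSeries.X : PowerSeries k) ^ i, (PowerSeries.X : PowerSeries k) ^ i),
        ((PowerSeries.X : PowerSeries k) ^ δ, 0)} : Set (PowerSeries k × PowerSeries k))))
      (ModuleCat.of ↥O ↥(Submodule.span ↥O
        ({((PowerSeries.X : PowerSeries k) ^ j, (PowerSeries.X : PowerSeries k) ^ j),
          ((PowerSeries.X : PowerSeries k) ^ δ, 0)} :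
            Set (PowerSeries k × PowerSeries k)))) 1) = ((2 * min i j : ℕ) : ℕ∞) := by
  have hA : O = tbA k δ := by
    refine SetLike.ext fun f => (hO f).trans ?_
    rw [mem_tbA, PowerSeries.X_pow_dvd_iff]
    constructor
    · intro h m hm
      exact PowerSeries.coeff_of_lt_order m (lt_of_lt_of_le (by exact_mod_cast hm) h)
    · intro h
      exact PowerSeries.nat_le_order _ δ h
  subst hA
  exact key k δ i j hδ hi hj

end Groth.Agent.Helper7.TwoBranch
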