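import Mathlib
import Groth.Agent.Lib.Helper7.SchDomChart

/-!
# Schematically dominant families over a field: general pullback squares, reducedness and
density (helper7)
-/

set_option autoImplicit false
set_option linter.style.haveILetI false
set_option linter.unusedSectionVars false

open CategoryTheory AlgebraicGeometry Limits Opposite TopologicalSpace

universe u

namespace Groth.Agent.Helper7.VanBC

open Groth.Agent.Helper7.SepAbs Groth.Agent.Helper7.SepBC Groth.Agent.Helper7.SepCore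
  Groth.Agent.Helper7.SchDom Groth.Agent.Helper7.SepGeom Groth.Agent.Helper7.ChartBC

section General

variable {k : Type u} [Field k] {X S' X' : Scheme.{u}} {p : X ⟶ Spec (CommRingCat.of k)}
  {q : S' ⟶ Spec (CommRingCat.of k)} {pr₁ : X' ⟶ X} {pr₂ : X' ⟶ S'}
  (H : IsPullback pr₁ pr₂ p q)

include H in
set_option maxHeartbeats 3200000 in
set_option synthInstance.maxHeartbeats 400000 in
/-- `PresH` for the charts of a base change square over a field -/
theorem presH_chart' {U : X.Opens} (hU : IsAffineOpen U) {W : S'.Opens} (hW : IsAffineOpen W) :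
    letI := (pr₁.appLE U (pr₁ ⁻¹ᵁ U ⊓ pr₂ ⁻¹ᵁ W) inf_le_left).hom.toAlgebra
    PresH Γ(X, U) Γ(X', pr₁ ⁻¹ᵁ U ⊓ pr₂ ⁻¹ᵁ W) := by
  have hV : IsAffineOpen (⊤ : (Spec (CommRingCat.of k)).Opens) := isAffineOpen_top _
  have eUV : U ≤ p ⁻¹ᵁ ⊤ := le_top
  have eW : W ≤ q ⁻¹ᵁ ⊤ := le_top
  have hpo := isPushout_chart H hV hU eUV hW eW
  letI algkA : Algebra Γ(Spec (CommRingCat.of k), ⊤) Γ(X, U) := (p.appLE ⊤ U eUV).hom.toAlgebra
  letI algkB : Algebra Γ(Spec (CommRingCat.of k), ⊤) Γ(S', W) := (q.appLE ⊤ W eW).hom.toAlgebra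
  letI algAC : Algebra Γ(X, U) Γ(X', pr₁ ⁻¹ᵁ U ⊓ pr₂ ⁻¹ᵁ W) :=
    (pr₁.appLE U (pr₁ ⁻¹ᵁ U ⊓ pr₂ ⁻¹ᵁ W) inf_le_left).hom.toAlgebra
  letI algBC : Algebra Γ(S', W) Γ(X', pr₁ ⁻¹ᵁ U ⊓ pr₂ ⁻¹ᵁ W) :=
    (pr₂.appLE W (pr₁ ⁻¹ᵁ U ⊓ pr₂ ⁻¹ᵁ W) inf_le_right).hom.toAlgebra
  letI algkC : Algebra Γ(Spec (CommRingCat.of k), ⊤) Γ(X', pr₁ ⁻¹ᵁ U ⊓ pr₂ ⁻¹ᵁ W) :=
    ((algebraMap Γ(X, U) _).comp (algebraMap Γ(Spec (CommRingCat.of k), ⊤) Γ(X, U))).toAlgebra
  haveI : IsScalarTower Γ(Spec (CommRingCat.of k), ⊤) Γ(X, U)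
      Γ(X', pr₁ ⁻¹ᵁ U ⊓ pr₂ ⁻¹ᵁ W) :=
    IsScalarTower.of_algebraMap_eq (fun _ => rfl)
  haveI : IsScalarTower Γ(Spec (CommRingCat.of k), ⊤) Γ(S', W)
      Γ(X', pr₁ ⁻¹ᵁ U ⊓ pr₂ ⁻¹ᵁ W) := by
    refine IsScalarTower.of_algebraMap_eq (fun r => ?_)
    have hw := hpo.w
    exact congr($hw r)
  haveI : Algebra.IsPushout Γ(Spec (CommRingCat.of k), ⊤) Γ(X, U) Γ(S', W)
      Γ(X', pr₁ ⁻¹ᵁ U ⊓ pr₂ ⁻¹ᵁ W) :=
    CommRingCat.isPushout_iff_isPushout.mp hpo
  exact presH_of_isPushout (k := Γ(Spec (CommRingCat.of k), ⊤)) (B := Γ(S', W)) isField_gammaSpec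

include H in
set_option maxHeartbeats 1600000 in
/-- **Schematically dominant families are stable under base change over a field**, for general
pullback squares. -/
theorem isSchDom_of_isPullback_field {ι : Type u} {Z Z' : ι → Scheme.{u}} (f : ∀ i, Z i ⟶ X)
    {pz₁ : ∀ i, Z' i ⟶ Z i} {pz₂ : ∀ i, Z' i ⟶ S'}
    (HZ : ∀ i, IsPullback (pz₁ i) (pz₂ i) (f i ≫ p) q) (f' : ∀ i, Z' i ⟶ X')
    (hf₁ : ∀ i, f' i ≫ pr₁ = pz₁ i ≫ f i) (hf₂ : ∀ i, f' i ≫ pr₂ = pz₂ i)
    (h : IsSchDom f) : IsSchDom f' := by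
  apply isSchDom_of_ringHProp
  intro x'
  obtain ⟨U, hU, hxU, -⟩ := TopologicalSpace.Opens.isBasis_iff_nbhd.mp X.isBasis_affineOpens
    (TopologicalSpace.Opens.mem_top (pr₁ x'))
  obtain ⟨W, hW, hxW, -⟩ := TopologicalSpace.Opens.isBasis_iff_nbhd.mp S'.isBasis_affineOpens
    (TopologicalSpace.Opens.mem_top (pr₂ x'))
  have hV : IsAffineOpen (⊤ : (Spec (CommRingCat.of k)).Opens) := isAffineOpen_top _
  refine ⟨pr₁ ⁻¹ᵁ U ⊓ pr₂ ⁻¹ᵁ W, isAffineOpen_chart H hV hU le_top hW le_top, ⟨hxU, hxW⟩, ?_⟩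
  exact ringHProp_chart H f HZ f' hf₁ hf₂ hV hU le_top hW le_top (presH_chart' H hU hW)
    (ringHProp_of_isSchDom f h hU)

end General

section Consequences

variable {X : Scheme.{u}} {ι : Type u} {Z : ι → Scheme.{u}} (f : ∀ i, Z i ⟶ X)

/-- the target of a schematically dominant family of reduced schemes is reduced -/
theorem isReduced_of_isSchDom (h : IsSchDom f) [∀ i, IsReduced (Z i)] : IsReduced X := by
  refine ⟨fun U => ⟨fun t ht => ?_⟩⟩
  apply h U t
  intro i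
  exact (ht.map ((f i).app U).hom).eq_zero

/-- the union of the images of a schematically dominant family is dense -/
theorem dense_of_isSchDom (h : IsSchDom f) : Dense (⋃ i, Set.range (f i)) := by
  rw [dense_iff_inter_open]
  intro V hV hne
  by_contra hcon
  rw [Set.not_nonempty_iff_eq_empty] at hcon
  let V' : X.Opens := ⟨V, hV⟩
  have hbot : ∀ i, f i ⁻¹ᵁ V' = ⊥ := by
    intro i
    ext z
    simp only [Opens.coe_bot, Set.mem_empty_iff_false, iff_false]
    intro hz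
    have : f i z ∈ V ∩ ⋃ i, Set.range (f i) := ⟨hz, Set.mem_iUnion.mpr ⟨i, z, rfl⟩⟩
    rw [hcon] at this
    exact this
  have h1 : (1 : Γ(X, V')) = 0 := by
    apply h V' 1
    intro i
    haveI : Subsingleton Γ(Z i, f i ⁻¹ᵁ V') := by
      rw [hbot i]
      infer_instance
    exact Subsingleton.elim _ _
  haveI : Nonempty V' := by
    obtain ⟨x, hx⟩ := hne
    exact ⟨⟨x, hx⟩⟩
  haveI := X.component_nontrivial V'
  exact one_ne_zero h1

/-- a family with dense image into a reduced scheme is schematically dominant -/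
theorem isSchDom_of_dense [IsReduced X] (hd : Dense (⋃ i, Set.range (f i))) : IsSchDom f := by
  intro V t ht
  rw [← basicOpen_eq_bot_iff]
  by_contra hne
  have hne' : ((X.basicOpen t : Set X)).Nonempty := by
    rw [Set.nonempty_iff_ne_empty]
    intro h0
    apply hne
    ext x
    simp only [Opens.coe_bot]
    rw [h0]
  obtain ⟨x, hx1, hx2⟩ := hd.inter_open_nonempty _ (X.basicOpen t).isOpen hne'
  obtain ⟨i, z, rfl⟩ := Set.mem_iUnion.mp hx2
  have hz : z ∈ f i ⁻¹ᵁ X.basicOpen t := hx1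
  rw [Scheme.preimage_basicOpen, ht i, Scheme.basicOpen_zero] at hz
  exact hz

end Consequences

section Subscheme

variable {X : Scheme.{u}}

/-- the closed subscheme defined by the vanishing ideal of a closed subset is reduced -/
theorem isReduced_subscheme_vanishingIdeal (C : Closeds X) :
    IsReduced (Scheme.IdealSheafData.vanishingIdeal C).subscheme := by
  haveI : ∀ U : X.affineOpens, _root_.IsReduced
      (Γ(X, U) ⧸ (Scheme.IdealSheafData.vanishingIdeal C).ideal U) := by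
    intro U
    rw [← Ideal.isRadical_iff_quotient_reduced, Scheme.IdealSheafData.vanishingIdeal_ideal]
    exact PrimeSpectrum.isRadical_vanishingIdeal _
  haveI : ∀ U, IsReduced
      ((Scheme.IdealSheafData.vanishingIdeal C).subschemeCover.openCover.X U) := by
    intro (U : X.affineOpens)
    change IsReduced (Spec (.of (Γ(X, U) ⧸ (Scheme.IdealSheafData.vanishingIdeal C).ideal U)))
    infer_instance
  exact IsReduced.of_openCover _
    (Scheme.IdealSheafData.vanishingIdeal C).subschemeCover.openCover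

end Subscheme

end Groth.Agent.Helper7.VanBC
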