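import Mathlib
import Groth.Prelude.Def_FDesc
import Groth.Agent.Lib.Helper7.VanBC1
import Groth.Agent.Lib.Helper16.Sch.RedFib1

/-!
# The reduced closed subscheme on the closure of the union of the images of a family of
geometrically reduced schemes commutes with extension of the base field (helper7)
-/

set_option autoImplicit false
set_option linter.style.haveILetI false
set_option linter.unusedSectionVars false

open CategoryTheory AlgebraicGeometry Limits Opposite TopologicalSpace

universe u

namespace Groth.Agent.Helper7.VanBC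

open Groth.Agent.Helper7.SchDom Scheme.IdealSheafData

/-- the kernel of a morphism from a reduced scheme is the vanishing ideal of the closure of its
image -/
lemma ker_eq_vanishingIdeal_of_isReduced {Z X : Scheme.{u}} (f : Z ⟶ X) [IsReduced Z] :
    f.ker = vanishingIdeal (Closeds.closure (Set.range f)) := by
  rw [← Scheme.IdealSheafData.map_bot, ← Scheme.nilradical_eq_bot (X := Z), ← vanishingIdeal_top,
    map_vanishingIdeal]
  congr 2
  simp

/-- the kernel of a quasi-compact morphism from a reduced scheme is a radical ideal sheaf -/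
lemma radical_ker_of_isReduced {Z X : Scheme.{u}} (j : Z ⟶ X) [QuasiCompact j] [IsReduced Z] :
    j.ker.radical = j.ker := by
  refine Scheme.IdealSheafData.ext ?_
  funext U
  rw [radical_ideal, Scheme.Hom.ker_apply]
  refine Ideal.radical_eq_iff.mpr ?_
  intro x hx
  obtain ⟨n, hn⟩ := hx
  rw [RingHom.mem_ker, map_pow] at hn
  rw [RingHom.mem_ker]
  exact IsNilpotent.eq_zero ⟨n, hn⟩

variable {k : Type u} [Field k] {X : Scheme.{u}} (p : X ⟶ Spec (CommRingCat.of k)) {ι : Type u}
  (Z : ι → Scheme.{u}) (f : ∀ i, Z i ⟶ X)

set_option maxHeartbeats 1600000 in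
theorem main (hred : ∀ (i : ι) (z : Z i), FBase.IsGeomReducedAt (f i ≫ p) z)
    (k' : Type u) [Field k'] [Algebra k k'] :
    letI q : Spec (CommRingCat.of k') ⟶ Spec (CommRingCat.of k) :=
      Spec.map (CommRingCat.ofHom (algebraMap k k'))
    letI f' : ∀ i, pullback (f i ≫ p) q ⟶ pullback p q :=
      fun i => pullback.map (f i ≫ p) q p q (f i) (𝟙 _) (𝟙 _) (Category.comp_id _)
        ((Category.comp_id _).trans (Category.id_comp _).symm)
    vanishingIdeal (Closeds.closure (⋃ i, Set.range (f' i))) =
      (vanishingIdeal (Closeds.closure (⋃ i, Set.range (f i)))).comap (pullback.fst p q) := by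
  let q : Spec (CommRingCat.of k') ⟶ Spec (CommRingCat.of k) :=
    Spec.map (CommRingCat.ofHom (algebraMap k k'))
  let f' : ∀ i, pullback (f i ≫ p) q ⟶ pullback p q :=
    fun i => pullback.map (f i ≫ p) q p q (f i) (𝟙 _) (𝟙 _) (Category.comp_id _)
      ((Category.comp_id _).trans (Category.id_comp _).symm)
  change vanishingIdeal (Closeds.closure (⋃ i, Set.range (f' i))) =
    (vanishingIdeal (Closeds.closure (⋃ i, Set.range (f i)))).comap (pullback.fst p q)
  haveI hZred : ∀ i, IsReduced (Z i) := fun i => by
    haveI : ∀ z : Z i, _root_.IsReduced ((Z i).presheaf.stalk z) := fun z =>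
      Groth.Agent.Helper16.RedFib.isReduced_stalk_of_isGeomReducedAt (f i ≫ p) z (hred i z)
    exact isReduced_of_isReduced_stalk (Z i)
  haveI hZ'red : ∀ i, IsReduced (pullback (f i ≫ p) q) := fun i => by
    haveI : ∀ z' : ↥(pullback (f i ≫ p) q),
        _root_.IsReduced ((pullback (f i ≫ p) q).presheaf.stalk z') := fun z' =>
      hred i _ k' z' rfl
    exact isReduced_of_isReduced_stalk _
  set I := vanishingIdeal (Closeds.closure (⋃ i, Set.range (f i))) with hI
  haveI hYred : IsReduced I.subscheme := isReduced_subscheme_vanishingIdeal _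
  have hle : ∀ i, I.subschemeι.ker ≤ (f i).ker := by
    intro i
    rw [ker_subschemeι, ker_eq_vanishingIdeal_of_isReduced]
    apply vanishingIdeal_antimono
    change closure (Set.range (f i)) ⊆ closure (⋃ i, Set.range (f i))
    exact closure_mono (Set.subset_iUnion (fun i => Set.range (f i)) i)
  let g : ∀ i, Z i ⟶ I.subscheme := fun i => IsClosedImmersion.lift I.subschemeι (f i) (hle i)
  have hg : ∀ i, g i ≫ I.subschemeι = f i := fun i => IsClosedImmersion.lift_fac _ _ _
  have hgd : Dense (⋃ i, Set.range (g i)) := by
    rw [dense_iff_closure_eq]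
    have hemb := I.subschemeι.isEmbedding
    rw [hemb.closure_eq_preimage_closure_image]
    have himg : I.subschemeι '' (⋃ i, Set.range (g i)) = ⋃ i, Set.range (f i) := by
      rw [Set.image_iUnion]
      congr 1
      funext i
      rw [← Set.range_comp, ← hg i]
      rfl
    rw [himg]
    ext y
    simp only [Set.mem_preimage, Set.mem_univ, iff_true]
    have h1 : I.subschemeι y ∈ Set.range I.subschemeι := ⟨y, rfl⟩
    have h2 : (I.support : Set X) = closure (⋃ i, Set.range (f i)) :=
      coe_support_vanishingIdeal _
    rw [I.range_subschemeι, h2] at h1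
    exact h1
  have hgdom : IsSchDom g := isSchDom_of_dense g hgd
  have HY : IsPullback (pullback.snd (pullback.fst p q) I.subschemeι)
      (pullback.fst (pullback.fst p q) I.subschemeι ≫ pullback.snd p q)
      (I.subschemeι ≫ p) q :=
    (IsPullback.of_hasPullback (pullback.fst p q) I.subschemeι).flip.paste_vert
      (IsPullback.of_hasPullback p q)
  have HZ : ∀ i, IsPullback (pullback.fst (f i ≫ p) q) (pullback.snd (f i ≫ p) q)
      (g i ≫ (I.subschemeι ≫ p)) q := by
    intro i
    have h1 : g i ≫ I.subschemeι ≫ p = f i ≫ p := by rw [← Category.assoc, hg i]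
    rw [h1]
    exact IsPullback.of_hasPullback _ _
  have hcond : ∀ i, f' i ≫ pullback.fst p q = (pullback.fst (f i ≫ p) q ≫ g i) ≫ I.subschemeι := by
    intro i
    rw [Category.assoc, hg i]
    exact pullback.lift_fst _ _ _
  let f'' : ∀ i, pullback (f i ≫ p) q ⟶ pullback (pullback.fst p q) I.subschemeι := fun i =>
    pullback.lift (f' i) (pullback.fst (f i ≫ p) q ≫ g i) (hcond i)
  have hf''j : ∀ i, f'' i ≫ pullback.fst (pullback.fst p q) I.subschemeι = f' i := fun i =>
    pullback.lift_fst _ _ _
  have hf''s : ∀ i, f'' i ≫ pullback.snd (pullback.fst p q) I.subschemeι =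
      pullback.fst (f i ≫ p) q ≫ g i := fun i => pullback.lift_snd _ _ _
  have hf''2 : ∀ i, f'' i ≫ (pullback.fst (pullback.fst p q) I.subschemeι ≫ pullback.snd p q) =
      pullback.snd (f i ≫ p) q := fun i => by
    rw [← Category.assoc, hf''j]
    exact (pullback.lift_snd _ _ _).trans (Category.comp_id _)
  have hdom' : IsSchDom f'' := isSchDom_of_isPullback_field HY g HZ f'' hf''s hf''2 hgdom
  haveI hY'red : IsReduced (pullback (pullback.fst p q) I.subschemeι) :=
    isReduced_of_isSchDom f'' hdom'
  have hdense' := dense_of_isSchDom f'' hdom'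
  have hrad := radical_ker_of_isReduced (pullback.fst (pullback.fst p q) I.subschemeι)
  have hsupp : Closeds.closure (⋃ i, Set.range (f' i)) =
      (pullback.fst (pullback.fst p q) I.subschemeι).ker.support := by
    apply Closeds.ext
    rw [Scheme.Hom.support_ker]
    change closure (⋃ i, Set.range (f' i)) = _
    apply subset_antisymm
    · apply closure_mono
      apply Set.iUnion_subset
      intro i
      rw [← hf''j i]
      rintro _ ⟨z, rfl⟩
      exact ⟨f'' i z, rfl⟩
    · apply closure_minimal _ isClosed_closure
      rw [← Set.image_univ, ← hdense'.closure_eq]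
      refine (image_closure_subset_closure_image
        (pullback.fst (pullback.fst p q) I.subschemeι).continuous).trans ?_
      apply closure_mono
      rw [Set.image_iUnion]
      apply Set.iUnion_subset
      intro i
      rintro _ ⟨_, ⟨z, rfl⟩, rfl⟩
      refine Set.mem_iUnion.mpr ⟨i, z, ?_⟩
      rw [← hf''j i]
      rfl
  change _ = (pullback.fst (pullback.fst p q) I.subschemeι).ker
  rw [hsupp, vanishingIdeal_support, hrad]

end Groth.Agent.Helper7.VanBC
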