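import Mathlib

set_option autoImplicit false
universe u
open DirectSum HomogeneousLocalization

namespace Groth.Agent.Helper7.VerAway
variable {R A : Type u} [CommRing R] [CommRing A] [Algebra R A] (𝒜 : ℕ → Submodule R A) [GradedAlgebra 𝒜]
    {B : Type u} [CommRing B] [Algebra R B] (ℬ : ℕ → Submodule R B) [GradedAlgebra ℬ]
    (d : ℕ) (φ : B →ₐ[R] A)
    (hdeg : ∀ n : ℕ, Submodule.map φ.toLinearMap (ℬ n) = 𝒜 (n * d)) (f' : B) (hf' : f' ∈ ℬ 1)

include hdeg in
theorem map_mem {n : ℕ} {x : B} (hx : x ∈ ℬ n) : φ x ∈ 𝒜 (n • d) := by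
  rw [smul_eq_mul, ← hdeg n]
  exact ⟨x, hx, rfl⟩

include hdeg hf' in
theorem hf : φ f' ∈ 𝒜 d := by
  have := map_mem 𝒜 ℬ d φ hdeg hf'
  simpa using this

/-- the graded pieces of the map -/
noncomputable def gmap (n : ℕ) : ℬ n →+ Away 𝒜 (φ f') where
  toFun x := Away.mk 𝒜 (hf 𝒜 ℬ d φ hdeg f' hf') n (φ x) (map_mem 𝒜 ℬ d φ hdeg x.2)
  map_zero' := by
    apply HomogeneousLocalization.val_injective
    simp [Localization.mk_zero]
  map_add' x y := by
    apply HomogeneousLocalization.val_injective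
    simp [Localization.add_mk_self]

noncomputable def Psi' : (⨁ i, ℬ i) →+* Away 𝒜 (φ f') :=
  DirectSum.toSemiring (gmap 𝒜 ℬ d φ hdeg f' hf')
    (by
      apply HomogeneousLocalization.val_injective
      simp only [gmap, AddMonoidHom.coe_mk, ZeroHom.coe_mk, Away.val_mk, val_one]
      show Localization.mk (φ (1 : B)) _ = 1
      simp only [map_one, pow_zero]
      exact Localization.mk_one)
    (by
      intro i j x y
      apply HomogeneousLocalization.val_injective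
      simp only [gmap, AddMonoidHom.coe_mk, ZeroHom.coe_mk, Away.val_mk, val_mul]
      show Localization.mk (φ ((x : B) * (y : B))) _ = _
      rw [Localization.mk_mul]
      congr 1
      · simp
      · ext; simp [pow_add])

noncomputable def Psi : B →+* Away 𝒜 (φ f') :=
  (Psi' 𝒜 ℬ d φ hdeg f' hf').comp (DirectSum.decomposeRingEquiv ℬ).toRingHom

theorem Psi_of_mem {n : ℕ} {x : B} (hx : x ∈ ℬ n) :
    Psi 𝒜 ℬ d φ hdeg f' hf' x =
      Away.mk 𝒜 (hf 𝒜 ℬ d φ hdeg f' hf') n (φ x) (map_mem 𝒜 ℬ d φ hdeg hx) := by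
  simp only [Psi, RingHom.coe_comp, Function.comp_apply, RingEquiv.toRingHom_eq_coe,
    RingHom.coe_coe]
  have : (DirectSum.decomposeRingEquiv ℬ) x = DirectSum.decompose ℬ x := rfl
  rw [this, DirectSum.decompose_of_mem ℬ hx, Psi', DirectSum.toSemiring_of]
  rfl


theorem Psi_f' : Psi 𝒜 ℬ d φ hdeg f' hf' f' = 1 := by
  rw [Psi_of_mem 𝒜 ℬ d φ hdeg f' hf' hf']
  apply HomogeneousLocalization.val_injective
  simp only [Away.val_mk, val_one, pow_one]
  exact Localization.mk_self (⟨φ f', _⟩ : Submonoid.powers (φ f'))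

theorem Psi_sub_one : ∀ a ∈ Ideal.span {f' - 1}, Psi 𝒜 ℬ d φ hdeg f' hf' a = 0 := by
  intro a ha
  obtain ⟨c, rfl⟩ := Ideal.mem_span_singleton'.mp ha
  simp [Psi_f']

noncomputable def psi : B ⧸ Ideal.span {f' - 1} →+* Away 𝒜 (φ f') :=
  Ideal.Quotient.lift _ (Psi 𝒜 ℬ d φ hdeg f' hf') (Psi_sub_one 𝒜 ℬ d φ hdeg f' hf')

include hdeg in
theorem psi_surjective : Function.Surjective (psi 𝒜 ℬ d φ hdeg f' hf') := by
  intro z
  obtain ⟨n, a, ha, rfl⟩ := Away.mk_surjective 𝒜 (hf 𝒜 ℬ d φ hdeg f' hf') z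
  have ha' : a ∈ Submodule.map φ.toLinearMap (ℬ n) := by
    rw [hdeg n, ← smul_eq_mul]; exact ha
  obtain ⟨b, hb, rfl⟩ := ha'
  refine ⟨Ideal.Quotient.mk _ b, ?_⟩
  rw [psi, Ideal.Quotient.lift_mk, Psi_of_mem 𝒜 ℬ d φ hdeg f' hf' hb]
  rfl

theorem psi_injective (hφ : Function.Injective φ) :
    Function.Injective (psi 𝒜 ℬ d φ hdeg f' hf') := by
  classical
  rw [injective_iff_map_eq_zero]
  intro z hz
  obtain ⟨x, rfl⟩ := Ideal.Quotient.mk_surjective z
  rw [psi, Ideal.Quotient.lift_mk] at hz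
  -- bound
  set N := (decompose ℬ x).support.sup id with hN
  set y : B := ∑ n ∈ (decompose ℬ x).support, ((decompose ℬ x n : ℬ n) : B) * f' ^ (N - n) with hy
  have hyN : y ∈ ℬ N := by
    refine Submodule.sum_mem _ fun n hn => ?_
    have hle : n ≤ N := Finset.le_sup (f := id) hn
    have h1 := SetLike.mul_mem_graded (decompose ℬ x n).2 (SetLike.pow_mem_graded (N - n) hf')
    have h2 : n + (N - n) • 1 = N := by simp; omega
    rwa [h2] at h1
  have hmk : Ideal.Quotient.mk (Ideal.span {f' - 1}) f' = 1 := by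
    rw [← sub_eq_zero, ← map_one (Ideal.Quotient.mk (Ideal.span {f' - 1})), ← map_sub,
      Ideal.Quotient.eq_zero_iff_mem]
    exact Ideal.mem_span_singleton_self _
  have hxy : Ideal.Quotient.mk (Ideal.span {f' - 1}) y = Ideal.Quotient.mk _ x := by
    conv_rhs => rw [← DirectSum.sum_support_decompose ℬ x]
    simp [hy, map_sum, hmk]
  have hΨ : Psi 𝒜 ℬ d φ hdeg f' hf' y = Psi 𝒜 ℬ d φ hdeg f' hf' x := by
    conv_rhs => rw [← DirectSum.sum_support_decompose ℬ x]
    simp [hy, map_sum, Psi_f']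
  rw [← hΨ, Psi_of_mem 𝒜 ℬ d φ hdeg f' hf' hyN] at hz
  have hz' := congrArg HomogeneousLocalization.val hz
  rw [Away.val_mk, val_zero, Localization.mk_eq_mk'] at hz'
  obtain ⟨⟨c, k, rfl⟩, hc⟩ := (IsLocalization.mk'_eq_zero_iff (M := Submonoid.powers (φ f')) _ _).mp hz'
  simp only at hc
  rw [← map_pow, ← map_mul] at hc
  have hc' : f' ^ k * y = 0 := hφ (by rw [hc, map_zero])
  rw [← hxy]
  have := congrArg (Ideal.Quotient.mk (Ideal.span {f' - 1})) hc'
  simpa [hmk] using this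

end Groth.Agent.Helper7.VerAway
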