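import Mathlib
import Groth.Agent.S14359
import Groth.Agent.Lib.Helper7.NagAU

/-!
# Descent of `n`-th powers (up to units) along weakly unramified flat local maps of normal domains
-/

universe u

namespace Groth.Agent.Helper7.WeakUnram

open IsLocalRing TensorProduct

set_option linter.style.haveILetI false

section Flat

variable {A B : Type u} [CommRing A] [CommRing B] [Algebra A B] [Module.Flat A B]

/-- flat transfer of regularity modulo an ideal -/
theorem mem_map_of_mul_mem (I : Ideal A) (c : A)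
    (hc : ∀ a : A, c * a ∈ I → a ∈ I) (b : B)
    (hb : algebraMap A B c * b ∈ I.map (algebraMap A B)) : b ∈ I.map (algebraMap A B) := by
  let μ : (A ⧸ I) →ₗ[A] (A ⧸ I) := LinearMap.lsmul A (A ⧸ I) c
  have hμ : Function.Injective μ := by
    rw [injective_iff_map_eq_zero]
    intro x hx
    obtain ⟨a, rfl⟩ := Ideal.Quotient.mk_surjective x
    have h1 : Ideal.Quotient.mk I (c * a) = 0 := by
      have : c • (Ideal.Quotient.mk I a) = 0 := hx
      rw [map_mul]
      rwa [Algebra.smul_def] at this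
    rw [Ideal.Quotient.eq_zero_iff_mem] at h1 ⊢
    exact hc a h1
  have hinj := Module.Flat.lTensor_preserves_injective_linearMap (M := B) μ hμ
  have key : ∀ x : B, x ∈ I.map (algebraMap A B) ↔ x ⊗ₜ[A] (1 : A ⧸ I) = 0 := by
    intro x
    rw [← Ideal.Quotient.eq_zero_iff_mem,
      ← Algebra.TensorProduct.quotIdealMapEquivTensorQuot_mk B I x]
    exact (EmbeddingLike.map_eq_zero_iff
      (f := Algebra.TensorProduct.quotIdealMapEquivTensorQuot B I)).symm
  rw [key] at hb ⊢
  apply hinj
  rw [map_zero, LinearMap.lTensor_tmul]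
  have h2 : μ (1 : A ⧸ I) = c • (1 : A ⧸ I) := rfl
  rw [h2, TensorProduct.tmul_smul, TensorProduct.smul_tmul', Algebra.smul_def]
  exact hb

end Flat

section Local

variable (A B : Type u) [CommRing A] [IsDomain A] [IsNoetherianRing A] [IsIntegrallyClosed A]
  [CommRing B] [IsDomain B] [IsNoetherianRing B] [IsIntegrallyClosed B] [Algebra A B]

theorem local_step (hinj : Function.Injective (algebraMap A B)) (f : A) (hf0 : f ≠ 0) (h : B) (n : ℕ)
    (hn : n ≠ 0) (w : Bˣ) (hf : algebraMap A B f = (w : B) * h ^ n)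
    (P : Ideal A) [P.IsPrime] (hP : P.height = 1)
    (q : Ideal B) [q.IsPrime] (hq : q.height = 1) (hqP : q.comap (algebraMap A B) = P)
    (hmax : Ideal.map (algebraMap B (Localization.AtPrime q)) (Ideal.map (algebraMap A B) P) =
          IsLocalRing.maximalIdeal (Localization.AtPrime q)) :
    ∃ a c : A, c ∉ P ∧ a ^ n = f * c := by
  haveI := NagAU.isDVR_of_height_one A P hP
  haveI := NagAU.isDVR_of_height_one B q hq
  let φ : Localization.AtPrime P →+* Localization.AtPrime q :=
    Localization.localRingHom P q (algebraMap A B) hqP.symm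
  have hφ : ∀ x : A, φ (algebraMap A (Localization.AtPrime P) x) =
      algebraMap B (Localization.AtPrime q) (algebraMap A B x) := fun x =>
    Localization.localRingHom_to_map P q (algebraMap A B) hqP.symm x
  obtain ⟨ϖ, hϖ⟩ := IsDiscreteValuationRing.exists_irreducible (Localization.AtPrime P)
  have hϖ' : Irreducible (φ ϖ) := by
    rw [IsDiscreteValuationRing.irreducible_iff_uniformizer] at hϖ ⊢
    have hcomp : (algebraMap B (Localization.AtPrime q)).comp (algebraMap A B) =
        φ.comp (algebraMap A (Localization.AtPrime P)) :=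
      RingHom.ext fun x => (hφ x).symm
    calc maximalIdeal (Localization.AtPrime q)
        = Ideal.map (algebraMap B (Localization.AtPrime q)) (Ideal.map (algebraMap A B) P) :=
          hmax.symm
      _ = Ideal.map φ (Ideal.map (algebraMap A (Localization.AtPrime P)) P) := by
          rw [Ideal.map_map, Ideal.map_map, hcomp]
      _ = Ideal.map φ (maximalIdeal (Localization.AtPrime P)) := by
          rw [IsLocalization.AtPrime.map_eq_maximalIdeal P (Localization.AtPrime P)]
      _ = Ideal.map φ (Ideal.span {ϖ}) := by rw [hϖ]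
      _ = Ideal.span {φ ϖ} := by rw [Ideal.map_span, Set.image_singleton]
  have hh0 : h ≠ 0 := by
    rintro rfl
    rw [zero_pow hn, mul_zero] at hf
    exact hf0 (hinj (by rw [hf, map_zero]))
  have hinjA : Function.Injective (algebraMap A (Localization.AtPrime P)) :=
    IsLocalization.injective (Localization.AtPrime P) P.primeCompl_le_nonZeroDivisors
  have hinjB : Function.Injective (algebraMap B (Localization.AtPrime q)) :=
    IsLocalization.injective (Localization.AtPrime q) q.primeCompl_le_nonZeroDivisors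
  have hfAP : algebraMap A (Localization.AtPrime P) f ≠ 0 := fun h0 =>
    hf0 (hinjA (by rw [h0, map_zero]))
  have hhBq : algebraMap B (Localization.AtPrime q) h ≠ 0 := fun h0 =>
    hh0 (hinjB (by rw [h0, map_zero]))
  obtain ⟨m, u1, hm⟩ := IsDiscreteValuationRing.eq_unit_mul_pow_irreducible hfAP hϖ
  obtain ⟨k, u2, hk⟩ := IsDiscreteValuationRing.eq_unit_mul_pow_irreducible hhBq hϖ'
  have hmk : m = k * n := by
    have e1 : φ (algebraMap A (Localization.AtPrime P) f) =
        ((Units.map φ.toMonoidHom u1 : (Localization.AtPrime q)ˣ) : Localization.AtPrime q) *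
          (φ ϖ) ^ m := by
      rw [hm, map_mul, map_pow]; rfl
    have e2 : φ (algebraMap A (Localization.AtPrime P) f) =
        ((Units.map (algebraMap B (Localization.AtPrime q)).toMonoidHom w * u2 ^ n :
          (Localization.AtPrime q)ˣ) : Localization.AtPrime q) * (φ ϖ) ^ (k * n) := by
      rw [hφ, hf, map_mul, map_pow, hk, mul_pow, ← pow_mul, Units.val_mul, Units.val_pow_eq_pow_val,
        mul_assoc]
      rfl
    exact IsDiscreteValuationRing.unit_mul_pow_congr_pow hϖ' hϖ' _ _ m (k * n) (e1.symm.trans e2)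
  obtain ⟨⟨a, s⟩, has⟩ := IsLocalization.surj P.primeCompl (ϖ ^ k)
  obtain ⟨⟨b, t⟩, hbt⟩ := IsLocalization.surj P.primeCompl (u1 : Localization.AtPrime P)
  simp only at has hbt
  have hbP : b ∉ P := by
    have hu : IsUnit (algebraMap A (Localization.AtPrime P) b) := by
      rw [← hbt]; exact u1.isUnit.mul (IsLocalization.map_units (Localization.AtPrime P) t)
    exact (IsLocalization.AtPrime.isUnit_to_map_iff (Localization.AtPrime P) P b).mp hu
  have eq1 : f * (t * s ^ n) = b * a ^ n := by
    apply hinjA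
    simp only [map_mul, map_pow]
    rw [← hbt, ← has, hm, hmk]
    ring
  refine ⟨a * b, t * s ^ n * b ^ (n - 1), ?_, ?_⟩
  · intro hmem
    rcases (Ideal.IsPrime.mem_or_mem ‹P.IsPrime› hmem) with h1 | h1
    · rcases Ideal.IsPrime.mem_or_mem ‹P.IsPrime› h1 with h2 | h2
      · exact t.2 h2
      · exact s.2 (Ideal.IsPrime.mem_of_pow_mem ‹P.IsPrime› _ h2)
    · exact hbP (Ideal.IsPrime.mem_of_pow_mem ‹P.IsPrime› _ h1)
  · obtain ⟨n', rfl⟩ : ∃ n', n = n' + 1 := Nat.exists_eq_succ_of_ne_zero hn
    simp only [Nat.add_sub_cancel]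
    calc (a * b) ^ (n' + 1) = (b * a ^ (n' + 1)) * b ^ n' := by ring
      _ = f * (t * s ^ (n' + 1)) * b ^ n' := by rw [eq1]
      _ = _ := by ring

end Local

section Main

theorem main (A B : Type u) [CommRing A] [IsDomain A]
    [IsNoetherianRing A] [IsLocalRing A] [IsIntegrallyClosed A] [CommRing B] [IsDomain B]
    [IsNoetherianRing B]
    [IsLocalRing B] [IsIntegrallyClosed B] [Algebra A B] [IsLocalHom (algebraMap A B)]
    [Module.Flat A B]
    (f : A) (h : B) (n : ℕ) (hn : 1 < n) (w : Bˣ) (hf : algebraMap A B f = (w : B) * h ^ n)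
    (hram : ∀ (p : Ideal A) [p.IsPrime], p.height = 1 →
      ∃ (q : Ideal B) (_ : q.IsPrime), q.height = 1 ∧ q.comap (algebraMap A B) = p ∧
        Ideal.map (algebraMap B (Localization.AtPrime q)) (Ideal.map (algebraMap A B) p) =
          IsLocalRing.maximalIdeal (Localization.AtPrime q)) :
    ∃ (g : A) (u : Aˣ), f = (u : A) * g ^ n := by
  have hn0 : n ≠ 0 := by omega
  by_cases hf0 : f = 0
  · refine ⟨0, 1, ?_⟩
    rw [hf0, zero_pow hn0, mul_zero]
  haveI : Module.FaithfullyFlat A B := Module.FaithfullyFlat.of_flat_of_isLocalHom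
  have hinj : Function.Injective (algebraMap A B) := FaithfulSMul.algebraMap_injective A B
  have hh0 : h ≠ 0 := by
    rintro rfl
    rw [zero_pow hn0, mul_zero] at hf
    exact hf0 (hinj (by rw [hf, map_zero]))
  have hcm : ∀ K : Ideal A, (K.map (algebraMap A B)).comap (algebraMap A B) = K := fun K =>
    Ideal.comap_map_eq_self_of_faithfullyFlat K
  have hww : ((w : B)) * ((w⁻¹ : Bˣ) : B) = 1 := by
    rw [← Units.val_mul, mul_inv_cancel, Units.val_one]
  obtain ⟨I, hI⟩ : ∃ I : Ideal A, I = (Ideal.span {h}).comap (algebraMap A B) := ⟨_, rfl⟩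
  have memI : ∀ a : A, a ∈ I ↔ h ∣ algebraMap A B a := fun a => by
    rw [hI, Ideal.mem_comap, Ideal.mem_span_singleton]
  -- step 1
  have step1a : ∀ a ∈ I, a ^ n ∈ Ideal.span {f} := by
    intro a ha
    obtain ⟨b, hb⟩ := (memI a).mp ha
    rw [← hcm (Ideal.span {f}), Ideal.mem_comap, Ideal.map_span, Set.image_singleton,
      Ideal.mem_span_singleton]
    refine ⟨((w⁻¹ : Bˣ) : B) * b ^ n, ?_⟩
    rw [map_pow, hb, hf, mul_pow]
    calc h ^ n * b ^ n = ((w : B) * ((w⁻¹ : Bˣ) : B)) * (h ^ n * b ^ n) := by rw [hww, one_mul]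
      _ = _ := by ring
  have step1b : ∀ a c : A, a ^ n = f * c → a ∈ I := by
    intro a c hac
    rw [memI, ← IsIntegrallyClosed.pow_dvd_pow_iff hn0]
    refine ⟨(w : B) * algebraMap A B c, ?_⟩
    rw [← map_pow, hac, map_mul, hf]; ring
  -- step 2
  have hcolon : ∀ P ∈ associatedPrimes A (A ⧸ Ideal.span {f}), ∃ c : A, c ∉ P ∧
      algebraMap A B c * h ∈ I.map (algebraMap A B) := by
    intro P hP
    haveI : P.IsPrime := hP.isPrime
    have hPh : P.height = 1 := Groth.Agent.S14359.result A f hf0 P hP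
    obtain ⟨q, hqprime, hqh, hqP, hmax⟩ := hram P hPh
    haveI := hqprime
    obtain ⟨a, c, hcP, hac⟩ := local_step A B hinj f hf0 h n hn0 w hf P hPh q hqh hqP hmax
    refine ⟨c, hcP, ?_⟩
    have haI : a ∈ I := step1b a c hac
    have hdvd : algebraMap A B a ∣ algebraMap A B c * h := by
      rw [← IsIntegrallyClosed.pow_dvd_pow_iff hn0]
      obtain ⟨n', rfl⟩ : ∃ n', n = n' + 1 := Nat.exists_eq_succ_of_ne_zero hn0
      refine ⟨((w⁻¹ : Bˣ) : B) * algebraMap A B c ^ n', ?_⟩
      rw [← map_pow, hac, map_mul, hf]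
      calc (algebraMap A B c * h) ^ (n' + 1)
          = ((w : B) * ((w⁻¹ : Bˣ) : B)) * (algebraMap A B c * h) ^ (n' + 1) := by
            rw [hww, one_mul]
        _ = _ := by ring
    obtain ⟨b, hb⟩ := hdvd
    rw [hb]
    exact Ideal.mul_mem_right _ _ (Ideal.mem_map_of_mem _ haI)
  -- step 3
  let J : Ideal A :=
    { carrier := {c | algebraMap A B c * h ∈ I.map (algebraMap A B)}
      add_mem' := fun {x y} hx hy => by
        simp only [Set.mem_ofPred_eq, map_add, add_mul] at *
        exact Ideal.add_mem _ hx hy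
      zero_mem' := by simp
      smul_mem' := fun r x hx => by
        simp only [Set.mem_ofPred_eq, smul_eq_mul, map_mul, mul_assoc] at *
        exact Ideal.mul_mem_left _ _ hx }
  have memJ : ∀ c : A, c ∈ J ↔ algebraMap A B c * h ∈ I.map (algebraMap A B) := fun c => Iff.rfl
  have hfin : (associatedPrimes A (A ⧸ Ideal.span {f})).Finite := associatedPrimes.finite A _
  obtain ⟨c, hcJ, hcP⟩ : ∃ c ∈ J, ∀ P ∈ associatedPrimes A (A ⧸ Ideal.span {f}), c ∉ P := by
    by_contra hcon
    push Not at hcon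
    have hsub : (J : Set A) ⊆ ⋃ P ∈ (hfin.toFinset : Set (Ideal A)), ((id P : Ideal A) : Set A) := by
      intro c hc
      obtain ⟨P, hP, hcP⟩ := hcon c hc
      simp only [Set.mem_iUnion]
      exact ⟨P, by simpa using hP, hcP⟩
    obtain ⟨P, hP, hJP⟩ := (Ideal.subset_union_prime (s := hfin.toFinset) (f := id) ⊥ ⊥
      (fun P hP _ _ => (by simpa using hP : P ∈ associatedPrimes A (A ⧸ Ideal.span {f})).isPrime)).mp
      hsub
    have hP' : P ∈ associatedPrimes A (A ⧸ Ideal.span {f}) := by simpa using hP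
    obtain ⟨c, hcP, hc⟩ := hcolon P hP'
    exact hcP (hJP ((memJ c).mpr hc))
  have hreg_f : ∀ x : A, c * x ∈ Ideal.span {f} → x ∈ Ideal.span {f} := by
    intro x hx
    by_contra hxn
    have hx0 : Ideal.Quotient.mk (Ideal.span {f}) x ≠ 0 := by
      rwa [Ne, Ideal.Quotient.eq_zero_iff_mem]
    obtain ⟨P, hP, hle⟩ := exists_le_isAssociatedPrime_of_isNoetherianRing A _ hx0
    apply hcP P hP
    apply hle
    rw [Submodule.mem_colon_singleton, Submodule.mem_bot, Algebra.smul_def]
    rw [← Ideal.Quotient.eq_zero_iff_mem, map_mul] at hx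
    exact hx
  have hreg_pow : ∀ (k : ℕ) (x : A), c ^ k * x ∈ Ideal.span {f} → x ∈ Ideal.span {f} := by
    intro k
    induction k with
    | zero => intro x hx; simpa using hx
    | succ k ih =>
      intro x hx
      apply ih
      apply hreg_f
      rw [← mul_assoc, ← pow_succ']
      exact hx
  have hreg_I : ∀ a : A, c * a ∈ I → a ∈ I := by
    intro a ha
    have h1 := step1a _ ha
    rw [mul_pow] at h1
    have h2 := hreg_pow n _ h1
    rw [Ideal.mem_span_singleton'] at h2
    obtain ⟨d, hd⟩ := h2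
    exact step1b a d (by rw [← hd, mul_comm])
  have hmem : h ∈ I.map (algebraMap A B) := mem_map_of_mul_mem I c hreg_I h hcJ
  -- step 4
  obtain ⟨g, hgI, β, hβ⟩ : ∃ g ∈ I, ∃ β : Bˣ, algebraMap A B g = h * β := by
    by_contra hcon
    push Not at hcon
    have hle : I.map (algebraMap A B) ≤ Ideal.span {h} * maximalIdeal B := by
      rw [Ideal.map_le_iff_le_comap]
      intro a ha
      obtain ⟨b, hb⟩ := (memI a).mp ha
      rw [Ideal.mem_comap, hb]
      apply Ideal.mul_mem_mul (Ideal.mem_span_singleton_self h)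
      rw [IsLocalRing.mem_maximalIdeal]
      intro hbu
      exact hcon a ha hbu.unit (by rw [hb, IsUnit.unit_spec])
    have h3 := hle hmem
    rw [Ideal.mem_span_singleton_mul] at h3
    obtain ⟨μ, hμ, hμh⟩ := h3
    have h4 : μ = 1 := by
      apply mul_left_cancel₀ hh0; rw [hμh, mul_one]
    rw [h4] at hμ
    exact (Ideal.ne_top_iff_one _).mp (IsLocalRing.maximalIdeal.isMaximal B).ne_top hμ
  have hββ : ((β : B)) * ((β⁻¹ : Bˣ) : B) = 1 := by
    rw [← Units.val_mul, mul_inv_cancel, Units.val_one]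
  have h1 : f ∈ Ideal.span {g ^ n} := by
    rw [← hcm (Ideal.span {g ^ n}), Ideal.mem_comap, Ideal.map_span, Set.image_singleton,
      Ideal.mem_span_singleton, map_pow, hβ, hf]
    refine ⟨(w : B) * ((β⁻¹ : Bˣ) : B) ^ n, ?_⟩
    calc (w : B) * h ^ n = (w : B) * h ^ n * ((β : B) * ((β⁻¹ : Bˣ) : B)) ^ n := by
          rw [hββ, one_pow, mul_one]
      _ = _ := by ring
  have h2 : g ^ n ∈ Ideal.span {f} := step1a g hgI
  rw [Ideal.mem_span_singleton'] at h1 h2
  obtain ⟨u0, hu0⟩ := h1
  obtain ⟨v, hv⟩ := h2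
  have huv : u0 * v = 1 := by
    apply mul_right_cancel₀ hf0
    rw [one_mul, mul_assoc, hv, hu0]
  exact ⟨g, ⟨u0, v, huv, by rw [mul_comm]; exact huv⟩, hu0.symm⟩

end Main

end Groth.Agent.Helper7.WeakUnram
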