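import Mathlib
universe u

namespace Groth.Agent.Helper7.ZMTLocal

/-- a maximal ideal which is minimal in its fibre is an isolated point of its fibre -/
theorem isOpen_singleton_fiber {A B : Type u} [CommRing A] [CommRing B] [Algebra A B]
    [IsNoetherianRing B] (m : Ideal A) [m.IsMaximal] (n : Ideal B) [hnmax : n.IsMaximal]
    (hn : n.comap (algebraMap A B) = m)
    (hmin : ∀ q : Ideal B, q.IsPrime → q.comap (algebraMap A B) = m → q ≤ n → q = n) :
    let q : PrimeSpectrum B := ⟨n, inferInstance⟩
    IsOpen (X := PrimeSpectrum.comap (algebraMap A B) ⁻¹' {q.comap (algebraMap A B)})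
      {⟨q, rfl⟩} := by
  intro q
  rw [← isClosed_compl_iff]
  let I : Ideal B := m.map (algebraMap A B)
  let T : Set (PrimeSpectrum B) := ⋃ P ∈ {P : Ideal B | P ∈ I.minimalPrimes ∧ P ≠ n},
    PrimeSpectrum.zeroLocus (P : Set B)
  have hTcl : IsClosed T := by
    apply Set.Finite.isClosed_biUnion
    · exact (I.finite_minimalPrimes_of_isNoetherianRing B).subset fun P hP => hP.1
    · intro P _
      exact PrimeSpectrum.isClosed_zeroLocus _
  have hq : q.comap (algebraMap A B) = ⟨m, inferInstance⟩ := PrimeSpectrum.ext hn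
  convert hTcl.preimage continuous_subtype_val using 1
  ext ⟨p, hp⟩
  have hp' : p.asIdeal.comap (algebraMap A B) = m := by
    have : p.comap (algebraMap A B) = q.comap (algebraMap A B) := hp
    rw [hq] at this
    exact congr(($this).asIdeal)
  simp only [Set.mem_compl_iff, Set.mem_singleton_iff, Subtype.mk.injEq, Set.mem_preimage]
  constructor
  · intro hne
    have hIp : I ≤ p.asIdeal := by
      rw [Ideal.map_le_iff_le_comap, hp']
    obtain ⟨P, hP, hPp⟩ := Ideal.exists_minimalPrimes_le hIp
    refine Set.mem_biUnion (x := P) ⟨hP, ?_⟩ (by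
      rw [PrimeSpectrum.mem_zeroLocus]; exact hPp)
    rintro rfl
    apply hne
    apply PrimeSpectrum.ext
    exact (hnmax.eq_of_le p.2.ne_top hPp).symm
  · intro hpT hpq
    simp only [T, Set.mem_iUnion, Set.mem_ofPred_eq, exists_prop] at hpT
    obtain ⟨P, ⟨hP, hPn⟩, hPp⟩ := hpT
    rw [PrimeSpectrum.mem_zeroLocus] at hPp
    have hpn : p.asIdeal = n := congr(($hpq).asIdeal)
    apply hPn
    have hPprime : P.IsPrime := hP.1.1
    refine hmin P hPprime ?_ (by rw [← hpn]; exact hPp)
    have h1 : m ≤ P.comap (algebraMap A B) := by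
      rw [← Ideal.map_le_iff_le_comap]; exact hP.1.2
    have h2 : P.comap (algebraMap A B) ≠ ⊤ := (Ideal.comap_isPrime (algebraMap A B) P).ne_top
    exact (Ideal.IsMaximal.eq_of_le inferInstance h2 h1).symm

theorem bijective_algebraMap (A B K : Type u) [CommRing A]
    [IsDomain A] [IsNoetherianRing A] [IsLocalRing A] [IsIntegrallyClosed A] [CommRing B] [IsDomain B]
    [Field K] [Algebra A B] [Algebra B K] [Algebra A K] [IsScalarTower A B K] [IsFractionRing A K]
    [IsFractionRing B K] [Algebra.FiniteType A B] (n : Ideal B) [n.IsMaximal]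
    (hn : n.comap (algebraMap A B) = IsLocalRing.maximalIdeal A)
    (hmin : ∀ q : Ideal B, q.IsPrime → q.comap (algebraMap A B) = IsLocalRing.maximalIdeal A →
      q ≤ n → q = n) :
    Function.Bijective (algebraMap A B) := by
  have hB : IsNoetherianRing B := Algebra.FiniteType.isNoetherianRing A B
  have hinjAK : Function.Injective (algebraMap A K) := IsFractionRing.injective A K
  have hinjBK : Function.Injective (algebraMap B K) := IsFractionRing.injective B K
  have hinj : Function.Injective (algebraMap A B) := by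
    intro a a' h
    apply hinjAK
    rw [IsScalarTower.algebraMap_apply A B K, h, ← IsScalarTower.algebraMap_apply]
  have hint : ∀ b : B, IsIntegral A b → ∃ a : A, algebraMap A B a = b := by
    intro b hb
    have : IsIntegral A (algebraMap B K b) := hb.map (IsScalarTower.toAlgHom A B K)
    obtain ⟨a, ha⟩ := IsIntegrallyClosed.algebraMap_eq_of_integral this
    exact ⟨a, hinjBK (by rw [← IsScalarTower.algebraMap_apply, ha])⟩
  have hopen := isOpen_singleton_fiber (IsLocalRing.maximalIdeal A) n hn hmin
  have hqf : Algebra.QuasiFiniteAt A n :=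
    Algebra.QuasiFiniteAt.of_isOpen_singleton_fiber ⟨n, inferInstance⟩ hopen
  have hZ := Algebra.ZariskisMainProperty.of_finiteType (R := A) n
  obtain ⟨r, hrn, hr, H⟩ := Algebra.zariskisMainProperty_iff.mp hZ
  obtain ⟨a, rfl⟩ := hint r hr
  have ha : IsUnit a := by
    by_contra hna
    have : a ∈ IsLocalRing.maximalIdeal A := (IsLocalRing.mem_maximalIdeal a).2 hna
    rw [← hn] at this
    exact hrn this
  refine ⟨hinj, fun x => ?_⟩
  obtain ⟨k, hk⟩ := H x
  obtain ⟨a', ha'⟩ := hint _ hk
  obtain ⟨u, rfl⟩ := ha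
  refine ⟨↑(u⁻¹ ^ k) * a', ?_⟩
  rw [map_mul, ha', ← mul_assoc, ← map_pow, ← map_mul, ← Units.val_pow_eq_pow_val, ← Units.val_mul,
    ← mul_pow, inv_mul_cancel, one_pow, Units.val_one, map_one, one_mul]

end Groth.Agent.Helper7.ZMTLocal
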